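import Cfsg.Statements.S3778
import Cfsg.Agent.Lib.Coprime.SymplecticTypeTools
import Cfsg.Agent.Lib.Coprime.SchurZassenhaus
-- import your own Cfsg.Agent.* helpers here

set_option autoImplicit false
open Cfsg

namespace Cfsg.Agent.S3778

open scoped commutatorElement

section Helpers

open scoped Classical

variable {G : Type*} [Group G]

/-- The elements centralising `L i` modulo `L (i + 2)`, for the lower central series `L`. -/
def twoStep (i : ℕ) : Subgroup G where
  carrier := {x | ∀ g ∈ (⊤ : Subgroup G).lowerCentralSeries i, ⁅g, x⁆ ∈ (⊤ : Subgroup G).lowerCentralSeries (i + 2)}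
  one_mem' := fun g _ => by simp
  mul_mem' := fun {a b} ha hb g hg => by
    haveI : ((⊤ : Subgroup G).lowerCentralSeries (i + 2)).Normal := inferInstance
    have e : ⁅g, a * b⁆ = ⁅g, a⁆ * (a * ⁅g, b⁆ * a⁻¹) := by simp only [commutatorElement_def]; group
    rw [e]
    exact mul_mem (ha g hg) (Subgroup.Normal.conj_mem inferInstance _ (hb g hg) a)
  inv_mem' := fun {a} ha g hg => by
    haveI : ((⊤ : Subgroup G).lowerCentralSeries (i + 2)).Normal := inferInstance
    have e : ⁅g, a⁻¹⁆ = a⁻¹ * (⁅g, a⁆)⁻¹ * a⁻¹⁻¹ := by simp only [commutatorElement_def]; group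
    rw [e]
    exact Subgroup.Normal.conj_mem inferInstance _ (inv_mem (ha g hg)) a⁻¹

variable [Finite G] {p : ℕ} [hp : Fact p.Prime]

theorem mul_le_of_lt (hG : IsPGroup p G) {H K : Subgroup G} (h : H < K) :
    p * Nat.card H ≤ Nat.card K := CfsgLib.Coprime.SymplecticTools.mul_card_le hG h

/-- One step of the breadth bound. -/
theorem step (hG : IsPGroup p G) (x : G) (i : ℕ) :
    (Subgroup.centralizer ({x} : Set G)).relIndex ((⊤ : Subgroup G).lowerCentralSeries (i + 1)) *
      (if x ∈ twoStep i then 1 else p) ≤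
    (Subgroup.centralizer ({x} : Set G)).relIndex ((⊤ : Subgroup G).lowerCentralSeries i) := by
  set C := Subgroup.centralizer ({x} : Set G)
  set L := (⊤ : Subgroup G).lowerCentralSeries i with hL
  set L' := (⊤ : Subgroup G).lowerCentralSeries (i + 1) with hL'
  haveI : L'.Normal := inferInstance
  have hle : L' ≤ L := Subgroup.lowerCentralSeries_antitone ⊤ i.le_succ
  set D := C ⊓ L with hD
  set M := D ⊔ L' with hM
  have hML : M ≤ L := sup_le inf_le_right hle
  have h1 : (C ⊓ L').relIndex D = L'.relIndex D := by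
    rw [show C ⊓ L' = L' ⊓ D by
      rw [hD, inf_comm C L, ← inf_assoc, inf_eq_left.2 hle, inf_comm]]
    exact Subgroup.inf_relIndex_right _ _
  have hpos : 0 < Nat.card D := Nat.card_pos
  -- `|D| |L'| = |M| |C ⊓ L'|`
  have hcards : Nat.card D * Nat.card L' = Nat.card M * Nat.card ↥(C ⊓ L') := by
    have hsub : C ⊓ L' ≤ D := inf_le_inf_left C hle
    rw [← CfsgLib.Coprime.card_mul_relIndex' hsub, ← CfsgLib.Coprime.card_mul_relIndex'
      (le_sup_right : L' ≤ M), Subgroup.relIndex_sup_right, h1]
    ring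
  have hC' : C.relIndex L' * Nat.card ↥(C ⊓ L') = Nat.card L' := by
    rw [mul_comm, ← Subgroup.inf_relIndex_right C L']
    exact CfsgLib.Coprime.card_mul_relIndex' inf_le_right
  have hCL : C.relIndex L * Nat.card D = Nat.card L := by
    rw [mul_comm, hD, ← Subgroup.inf_relIndex_right C L]
    exact CfsgLib.Coprime.card_mul_relIndex' inf_le_right
  have hkey : (if x ∈ twoStep i then 1 else p) * Nat.card M ≤ Nat.card L := by
    split_ifs with hx
    · rw [one_mul]; exact Subgroup.card_le_of_le hML
    refine mul_le_of_lt hG (lt_of_le_of_ne hML fun heq => hx fun g hg => ?_)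
    have hg' : g ∈ (M : Set G) := by rw [heq]; exact hg
    rw [hM, Subgroup.mul_normal D L'] at hg'
    obtain ⟨c, hc, h, hh, rfl⟩ := hg'
    have hcx : ⁅c, x⁆ = 1 := commutatorElement_eq_one_iff_mul_comm.2
      (Subgroup.mem_centralizer_singleton_iff.1 hc.1)
    have e : ⁅c * h, x⁆ = c * ⁅h, x⁆ * c⁻¹ * ⁅c, x⁆ := by simp only [commutatorElement_def]; group
    rw [e, hcx, mul_one]
    refine Subgroup.Normal.conj_mem inferInstance _ ?_ c
    show ⁅h, x⁆ ∈ (⊤ : Subgroup G).lowerCentralSeries (i + 1 + 1)
    rw [Subgroup.lowerCentralSeries_succ]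
    exact Subgroup.commutator_mem_commutator hh (Subgroup.mem_top x)
  refine Nat.le_of_mul_le_mul_right ?_ (Nat.mul_pos hpos (Nat.card_pos (α := ↥(C ⊓ L'))))
  calc C.relIndex L' * (if x ∈ twoStep i then 1 else p) * (Nat.card D * Nat.card ↥(C ⊓ L'))
      = (if x ∈ twoStep i then 1 else p) * Nat.card D * (C.relIndex L' * Nat.card ↥(C ⊓ L')) := by ring
    _ = (if x ∈ twoStep i then 1 else p) * (Nat.card D * Nat.card L') := by rw [hC']; ring
    _ = ((if x ∈ twoStep i then 1 else p) * Nat.card M) * Nat.card ↥(C ⊓ L') := by rw [hcards]; ring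
    _ ≤ Nat.card L * Nat.card ↥(C ⊓ L') := Nat.mul_le_mul_right _ hkey
    _ = C.relIndex L * (Nat.card D * Nat.card ↥(C ⊓ L')) := by rw [← hCL]; ring

/-- The breadth of `x` bounds the number of two-step centralisers avoiding it. -/
theorem count_le (hG : IsPGroup p G) (x : G) (m : ℕ) :
    p ^ (∑ i ∈ Finset.range m, if x ∈ twoStep i then 0 else 1) ≤
      (Subgroup.centralizer ({x} : Set G)).index := by
  set C := Subgroup.centralizer ({x} : Set G)
  have h : p ^ (∑ i ∈ Finset.range m, if x ∈ twoStep i then 0 else 1) *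
      C.relIndex ((⊤ : Subgroup G).lowerCentralSeries m) ≤ C.relIndex ((⊤ : Subgroup G).lowerCentralSeries 0) := by
    induction m with
    | zero => simp
    | succ m ih =>
      rw [Finset.sum_range_succ, pow_add]
      refine le_trans ?_ ih
      rw [mul_assoc]
      refine Nat.mul_le_mul_left _ ?_
      refine le_trans (le_of_eq ?_) (step hG x m)
      split_ifs <;> simp [mul_comm, C]
  rw [Subgroup.lowerCentralSeries_zero, Subgroup.relIndex_top_right] at h
  refine le_trans ?_ h
  exact Nat.le_mul_of_pos_right _ (Nat.pos_of_ne_zero (Subgroup.index_ne_zero_of_finite))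

theorem main (hG : IsPGroup p G) (b : ℕ)
    (hb : ∀ x : G, (Subgroup.centralizer ({x} : Set G)).index ≤ p ^ b) :
    ∃ c : ℕ, (⊤ : Subgroup G).lowerCentralSeries c = ⊥ ∧ (b ≠ 0 → (c - 1) * (p - 1) < b * p ∧ c ≤ 2 * b) ∧ (b = 0 → c ≤ 1) := by
  classical
  have hp' : p.Prime := hp.out
  haveI := hG.isNilpotent
  have hex : ∃ c, (⊤ : Subgroup G).lowerCentralSeries c = ⊥ :=
    Subgroup.nilpotent_iff_lowerCentralSeries.1 inferInstance
  set c := Nat.find hex with hc
  have hcbot : (⊤ : Subgroup G).lowerCentralSeries c = ⊥ := Nat.find_spec hex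
  have hproper : ∀ i, i + 1 < c → (twoStep i : Subgroup G) ≠ ⊤ := by
    intro i hi htop
    refine Nat.find_min hex hi ?_
    have hle : (⊤ : Subgroup G).lowerCentralSeries (i + 1) ≤ (⊤ : Subgroup G).lowerCentralSeries (i + 2) := by
      rw [Subgroup.lowerCentralSeries_succ]
      refine Subgroup.commutator_le.2 fun g hg x _ => ?_
      exact (show x ∈ twoStep i by rw [htop]; exact Subgroup.mem_top x) g hg
    have hall : ∀ j, (⊤ : Subgroup G).lowerCentralSeries (i + 1) ≤
        (⊤ : Subgroup G).lowerCentralSeries (i + 1 + j) := by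
      intro j
      induction j with
      | zero => exact le_rfl
      | succ j ih =>
        refine hle.trans ?_
        rw [show i + 2 = i + 1 + 1 from rfl, ← Nat.add_assoc (i + 1) j 1, Subgroup.lowerCentralSeries_succ,
          Subgroup.lowerCentralSeries_succ ⊤ (i + 1 + j)]
        exact Subgroup.commutator_mono ih le_rfl
    exact le_bot_iff.1 ((hall c).trans ((Subgroup.lowerCentralSeries_antitone ⊤ (Nat.le_add_left c (i + 1))).trans hcbot.le))
  haveI : Fintype G := Fintype.ofFinite G
  -- each two-step centraliser misses most elements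
  have hmiss : ∀ i, i + 1 < c → Fintype.card G * (p - 1) ≤ p * ∑ x : G, (if x ∈ twoStep i then 0 else 1) := by
    intro i hi
    have hsum : (∑ x : G, (if x ∈ twoStep i then 0 else 1)) + Nat.card (twoStep i : Subgroup G) = Fintype.card G := by
      rw [Nat.card_eq_fintype_card, Fintype.card_subtype, ← Finset.card_univ (α := G), Finset.sum_ite,
        Finset.sum_const_zero, zero_add, Finset.sum_const, smul_eq_mul, mul_one, add_comm]
      exact Finset.card_filter_add_card_filter_not (fun x => x ∈ (twoStep i : Subgroup G))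
    have hlt := mul_le_of_lt hG (lt_top_iff_ne_top.2 (hproper i hi))
    rw [Subgroup.card_top, Nat.card_eq_fintype_card (α := G)] at hlt
    rw [← hsum, add_mul, Nat.mul_sub, Nat.mul_sub, mul_one, mul_one]
    have h2 : 1 * (∑ x : G, (if x ∈ twoStep i then 0 else 1)) ≤ p * (∑ x : G, (if x ∈ twoStep i then 0 else 1)) :=
      Nat.mul_le_mul_right _ hp'.one_lt.le
    have h3 : 1 * Nat.card (twoStep i : Subgroup G) ≤ p * Nat.card (twoStep i : Subgroup G) :=
      Nat.mul_le_mul_right _ hp'.one_lt.le
    rw [one_mul] at h2 h3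
    rw [← hsum] at hlt
    rw [mul_comm (∑ x : G, (if x ∈ twoStep i then 0 else 1)) p, mul_comm (Nat.card (twoStep i : Subgroup G)) p]
    omega
  set T : G → ℕ := fun x => ∑ i ∈ Finset.range (c - 1), if x ∈ twoStep i then 0 else 1 with hT
  have hTb : ∀ x, T x ≤ b := fun x =>
    (Nat.pow_le_pow_iff_right hp'.one_lt).1 ((count_le hG x (c - 1)).trans (hb x))
  have hT1 : T 1 = 0 := by
    refine Finset.sum_eq_zero fun i _ => ?_
    rw [if_pos (one_mem _)]
  have htot : (c - 1) * (Fintype.card G * (p - 1)) ≤ p * ∑ x : G, T x := by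
    rw [hT, Finset.sum_comm, Finset.mul_sum]
    calc (c - 1) * (Fintype.card G * (p - 1)) = ∑ _i ∈ Finset.range (c - 1), Fintype.card G * (p - 1) := by
          rw [Finset.sum_const, Finset.card_range, smul_eq_mul]
      _ ≤ _ := Finset.sum_le_sum fun i hi => hmiss i (by rw [Finset.mem_range] at hi; omega)
  have hlt' : ∑ x : G, T x ≤ (Fintype.card G - 1) * b := by
    rw [← Finset.sum_erase _ hT1]
    refine (Finset.sum_le_card_nsmul _ _ b fun x _ => hTb x).trans ?_
    rw [Finset.card_erase_of_mem (Finset.mem_univ _), Finset.card_univ, smul_eq_mul]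
  have hmain : (c - 1) * (p - 1) * Fintype.card G ≤ (Fintype.card G - 1) * (b * p) := by
    calc (c - 1) * (p - 1) * Fintype.card G = (c - 1) * (Fintype.card G * (p - 1)) := by ring
      _ ≤ p * ∑ x : G, T x := htot
      _ ≤ p * ((Fintype.card G - 1) * b) := Nat.mul_le_mul_left _ hlt'
      _ = _ := by ring
  have hN : 0 < Fintype.card G := Fintype.card_pos
  refine ⟨c, hcbot, fun hb0 => ?_, fun hb0 => ?_⟩
  · have h1 : (c - 1) * (p - 1) < b * p := by
      by_contra h
      push Not at h
      have h2 : (b * p) * Fintype.card G ≤ (Fintype.card G - 1) * (b * p) :=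
        (Nat.mul_le_mul_right _ h).trans hmain
      rw [mul_comm (b * p)] at h2
      have := Nat.le_of_mul_le_mul_right h2 (Nat.mul_pos (Nat.pos_of_ne_zero hb0) hp'.pos)
      omega
    refine ⟨h1, ?_⟩
    by_contra h
    push Not at h
    have h2 : 2 * b * (p - 1) ≤ (c - 1) * (p - 1) := Nat.mul_le_mul_right _ (by omega)
    have h3 : b * p ≤ 2 * b * (p - 1) := by
      rw [mul_comm 2 b, mul_assoc]
      exact Nat.mul_le_mul_left b (by have := hp'.two_le; omega)
    omega
  · subst hb0
    rw [zero_mul, mul_zero, Nat.le_zero] at hmain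
    have := hp'.two_le
    rcases Nat.mul_eq_zero.1 hmain with h | h
    · rcases Nat.mul_eq_zero.1 h with h' | h' <;> omega
    · omega

end Helpers

/-- If G is a finite p-group in which every conjugacy class has at most p^b elements (every element has centralizer of index at most p^b), then G is abelian when b = 0, and when b ≥ 1 its nilpotency class c satisfies (c − 1)(p − 1) < bp, that is c < bp/(p − 1) + 1, and hence c ≤ 2b. -/
theorem result {G : Type*} [Group G] [Finite G] {p : ℕ} [Fact p.Prime] (hG : IsPGroup p G) (b : ℕ) (hb : ∀ x : G, (Subgroup.centralizer ({x} : Set G)).index ≤ p ^ b) : ∃ c : ℕ, (⊤ : Subgroup G).lowerCentralSeries c = ⊥ ∧ (b ≠ 0 → (c - 1) * (p - 1) < b * p ∧ c ≤ 2 * b) ∧ (b = 0 → c ≤ 1) := by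
  exact main hG b hb

end Cfsg.Agent.S3778
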