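import Cfsg.Statements.S3780
-- import your own Cfsg.Agent.* helpers here

set_option autoImplicit false
open Cfsg

namespace Cfsg.Agent.S3780

lemma exists_generators {Q : Type*} [Group Q] [Finite Q] {p : ℕ} [hp : Fact p.Prime] (hQ : IsPGroup p Q)
    (d : ℕ) (hd : Nat.card Q ≤ p ^ d) :
    ∃ S : Finset Q, S.card ≤ d ∧ Subgroup.closure (S : Set Q) = ⊤ := by
  classical
  have : ∀ k ≤ d, ∃ S : Finset Q, S.card ≤ k ∧
      (Subgroup.closure (S : Set Q) = ⊤ ∨ p ^ k ≤ Nat.card (Subgroup.closure (S : Set Q))) := by
    intro k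
    induction k with
    | zero => intro _; exact ⟨∅, by simp, .inr (by simp)⟩
    | succ k ih =>
      intro hk
      obtain ⟨S, hS, h⟩ := ih (by omega)
      by_cases htop : Subgroup.closure (S : Set Q) = ⊤
      · exact ⟨S, by omega, .inl htop⟩
      obtain ⟨x, hx⟩ : ∃ x, x ∉ Subgroup.closure (S : Set Q) := by
        simpa [Subgroup.eq_top_iff'] using htop
      refine ⟨insert x S, (Finset.card_insert_le _ _).trans (by omega), .inr ?_⟩
      set H := Subgroup.closure (S : Set Q)
      set K := Subgroup.closure ((insert x S : Finset Q) : Set Q)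
      have hle : H ≤ K := Subgroup.closure_mono (by simp)
      have hlt : Nat.card H < Nat.card K := lt_of_le_of_ne (Subgroup.card_le_of_le hle) fun e =>
        hx ((Subgroup.eq_of_le_of_card_ge hle e.ge).symm ▸ Subgroup.subset_closure (by simp))
      obtain ⟨i, hi⟩ := (hQ.to_subgroup H).exists_card_eq
      obtain ⟨j, hj⟩ := (hQ.to_subgroup K).exists_card_eq
      have h1 := h.resolve_left htop
      rw [hi] at h1 hlt
      rw [hj] at hlt ⊢
      have h2 := (Nat.pow_le_pow_iff_right hp.out.one_lt).1 h1
      have h3 := (Nat.pow_lt_pow_iff_right hp.out.one_lt).1 hlt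
      exact Nat.pow_le_pow_right hp.out.pos (by omega)
  obtain ⟨S, hS, h⟩ := this d le_rfl
  exact ⟨S, hS, h.elim id fun h => Subgroup.eq_top_of_le_card _ (hd.trans h)⟩

/-- Let V be a finite abelian p-group and α an automorphism of V of order p whose fixed-point subgroup has order p^n. Then V can be generated by pn elements: some subset of V with at most pn elements generates V. -/
theorem result {V : Type*} [CommGroup V] [Finite V] {p : ℕ} [Fact p.Prime] (hV : IsPGroup p V) (α : MulAut V) (hα : orderOf α = p) (n : ℕ) (hfix : Nat.card {v : V // α v = v} = p ^ n) : ∃ S : Finset V, S.card ≤ p * n ∧ Subgroup.closure (S : Set V) = ⊤ := by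
  classical
  set W := (powMonoidHom p : V →* V).ker
  have hW : ∀ w : W, w ^ p = 1 := fun w => Subtype.ext (by simpa using MonoidHom.mem_ker.1 w.2)
  let a : W →* W :=
    { toFun := fun w => ⟨α w, MonoidHom.mem_ker.2 (by
        rw [powMonoidHom_apply, ← map_pow, show (w : V) ^ p = 1 from MonoidHom.mem_ker.1 w.2, map_one])⟩
      map_one' := by ext; simp
      map_mul' := fun x y => by ext; simp }
  have hap : ∀ (k : ℕ) (w : W), (a^[k] w : V) = (α ^ k) w := by
    intro k
    induction k with
    | zero => intro w; simp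
    | succ k ih => intro w; rw [Function.iterate_succ_apply, ih, pow_succ, MulAut.mul_apply]; rfl
  let e : AddMonoid.End (Additive W) := MonoidHom.toAdditive a
  have he : e ^ p = 1 := by
    refine DFunLike.ext _ _ fun x => Additive.toMul.injective (Subtype.ext ?_)
    rw [AddMonoid.End.coe_pow]
    show (a^[p] (Additive.toMul x) : V) = _
    rw [hap, ← hα, pow_orderOf_eq_one]
    rfl
  obtain ⟨r, hr⟩ := Commute.exists_add_pow_prime_eq (p := p) Fact.out (Commute.one_right (e - 1))
  rw [sub_add_cancel, he, one_pow] at hr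
  have hzero : ∀ x : Additive W, ((e - 1) ^ p) x = 0 := fun x => by
    have hp0 : ∀ y : Additive W, p • y = 0 := fun y => hW (Additive.toMul y)
    have h1 : (e - 1) ^ p = -((p : AddMonoid.End (Additive W)) * (e - 1) * 1 * r) := by
      rw [eq_neg_iff_add_eq_zero]
      exact add_right_cancel (b := (1 : AddMonoid.End (Additive W))) (by
        rw [zero_add, add_right_comm]; exact hr.symm)
    rw [h1, mul_assoc, mul_assoc]
    show -((p : AddMonoid.End (Additive W)) _) = 0
    rw [AddMonoid.End.natCast_apply, hp0, neg_zero]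
  have hker : ∀ k, Nat.card ↥(AddMonoidHom.ker ((e - 1) ^ k : AddMonoid.End (Additive W))) ≤ p ^ (n * k) := by
    intro k
    induction k with
    | zero =>
      have : AddMonoidHom.ker ((e - 1) ^ 0 : AddMonoid.End (Additive W)) = ⊥ := by
        refine (AddSubgroup.eq_bot_iff_forall _).2 fun x hx => ?_; rw [pow_zero] at hx; exact hx
      rw [this]; simp
    | succ k ih =>
      let S := AddMonoidHom.ker ((e - 1) ^ (k + 1) : AddMonoid.End (Additive W))
      let g : S →+ Additive W := AddMonoidHom.comp (e - 1) S.subtype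
      have h1 : Nat.card g.range ≤ p ^ (n * k) := by
        refine le_trans (Nat.card_mono (Set.toFinite _) ?_) ih
        rintro _ ⟨x, rfl⟩
        have hx : ((e - 1) ^ (k + 1)) (x : Additive W) = 0 := x.2
        rw [pow_succ] at hx
        exact hx
      have h2 : Nat.card g.ker ≤ p ^ n := by
        rw [← hfix]
        refine Nat.card_le_card_of_injective (fun x => ⟨((Additive.toMul x.1.1 : W) : V), ?_⟩) ?_
        · have hx : e x.1.1 - x.1.1 = 0 := x.2
          exact congrArg (fun y : Additive W => ((Additive.toMul y : W) : V)) (sub_eq_zero.1 hx)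
        · intro x y h
          exact Subtype.ext (Subtype.ext (Additive.toMul.injective (Subtype.ext (Subtype.mk.inj h))))
      calc Nat.card S = Nat.card g.ker * g.ker.index := (g.ker.card_mul_index).symm
        _ = Nat.card g.ker * Nat.card g.range := by rw [AddSubgroup.index_ker]
        _ ≤ p ^ n * p ^ (n * k) := Nat.mul_le_mul h2 h1
        _ = p ^ (n * (k + 1)) := by rw [← pow_add]; congr 1; ring
  have hWc : Nat.card W ≤ p ^ (p * n) := by
    refine le_trans ?_ (mul_comm n p ▸ hker p)
    refine Nat.card_le_card_of_injective (fun w => ⟨Additive.ofMul w, ?_⟩) fun w w' h => ?_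
    · exact hzero _
    · exact Additive.ofMul.injective (Subtype.mk.inj h)
  have hQc : Nat.card (V ⧸ (powMonoidHom p : V →* V).range) = Nat.card W := by
    have e1 := W.card_mul_index
    rw [Subgroup.index_ker] at e1
    have e2 := (powMonoidHom p : V →* V).range.card_mul_index
    rw [← Subgroup.index_eq_card]
    refine Nat.eq_of_mul_eq_mul_left (n := Nat.card (powMonoidHom p : V →* V).range) Nat.card_pos ?_
    rw [e2, mul_comm, e1]
  obtain ⟨T, hT, hgen⟩ := exists_generators (hV.to_quotient (powMonoidHom p : V →* V).range) (p * n) (hQc ▸ hWc)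
  refine ⟨T.image Quotient.out, Finset.card_image_le.trans hT, ?_⟩
  set H := Subgroup.closure (↑(T.image Quotient.out) : Set V)
  have hstep : ∀ v : V, ∃ u : V, (u ^ p)⁻¹ * v ∈ H := by
    intro v
    have hv : QuotientGroup.mk' _ v ∈ H.map (QuotientGroup.mk' (powMonoidHom p : V →* V).range) := by
      have : Subgroup.closure (T : Set (V ⧸ (powMonoidHom p : V →* V).range)) ≤ H.map (QuotientGroup.mk' _) := by
        rw [Subgroup.closure_le]
        intro t ht
        exact ⟨t.out, Subgroup.subset_closure (Finset.mem_coe.2 (Finset.mem_image_of_mem _ ht)), QuotientGroup.out_eq' t⟩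
      rw [hgen] at this
      exact this (Subgroup.mem_top _)
    obtain ⟨h, hh, hhv⟩ := hv
    obtain ⟨u, hu⟩ := QuotientGroup.eq.1 hhv
    refine ⟨u, ?_⟩
    rw [show (u ^ p : V) = h⁻¹ * v from hu]
    simpa using hh
  have hall : ∀ k (v : V), ∃ u : V, (u ^ p ^ k)⁻¹ * v ∈ H := by
    intro k
    induction k with
    | zero => intro v; exact ⟨v, by simp⟩
    | succ k ih =>
      intro v
      obtain ⟨u, hu⟩ := ih v
      obtain ⟨u', hu'⟩ := hstep u
      refine ⟨u', ?_⟩
      have e3 : ((u' ^ p)⁻¹ * u) ^ p ^ k * ((u ^ p ^ k)⁻¹ * v) = (u' ^ p ^ (k + 1))⁻¹ * v := by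
        rw [mul_pow, inv_pow, ← pow_mul, ← pow_succ']; group
      exact e3 ▸ mul_mem (pow_mem hu' _) hu
  obtain ⟨m, hm⟩ := hV.exists_card_eq
  refine eq_top_iff.2 fun v _ => ?_
  obtain ⟨u, hu⟩ := hall m v
  rw [← hm, pow_card_eq_one', inv_one, one_mul] at hu
  exact hu

end Cfsg.Agent.S3780
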