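import Cfsg.Statements.S3781
-- import your own Cfsg.Agent.* helpers here

set_option autoImplicit false
open Cfsg

namespace Cfsg.Agent.S3781

variable {G : Type*} [Group G]

/-- Iterated commutator `[H, G, ..., G]`. -/
private def down (H : Subgroup G) : ℕ → Subgroup G
  | 0 => H
  | k + 1 => ⁅down H k, (⊤ : Subgroup G)⁆

private theorem down_normal (H : Subgroup G) [H.Normal] : ∀ k, (down H k).Normal
  | 0 => by simpa [down]
  | k + 1 => by
    have := down_normal H k
    exact Subgroup.commutator_normal _ _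

private theorem down_shift (H : Subgroup G) : ∀ k, down ⁅H, (⊤ : Subgroup G)⁆ k = down H (k + 1)
  | 0 => rfl
  | k + 1 => by simp [down, down_shift H k]

private theorem rotate_le (A B C N : Subgroup G) [N.Normal] (h1 : ⁅⁅B, C⁆, A⁆ ≤ N)
    (h2 : ⁅⁅C, A⁆, B⁆ ≤ N) : ⁅⁅A, B⁆, C⁆ ≤ N := by
  have key : ∀ S : Subgroup G, S ≤ N ↔ S.map (QuotientGroup.mk' N) = ⊥ := fun S => by
    rw [Subgroup.map_eq_bot_iff, QuotientGroup.ker_mk']
  rw [key, Subgroup.map_commutator, Subgroup.map_commutator] at h1 h2 ⊢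
  exact Subgroup.commutator_commutator_eq_bot_of_rotate h1 h2

private theorem lcs_comm_le : ∀ (k : ℕ) (H : Subgroup G), H.Normal →
    ⁅(⊤ : Subgroup G).lowerCentralSeries k, H⁆ ≤ down H (k + 1)
  | 0, H, _ => by
    show ⁅(⊤ : Subgroup G), H⁆ ≤ ⁅H, ⊤⁆
    exact le_of_eq (Subgroup.commutator_comm _ _)
  | k + 1, H, hH => by
    have := down_normal H (k + 2)
    rw [Subgroup.lowerCentralSeries_succ]
    refine rotate_le _ _ _ _ ?_ ?_
    · rw [Subgroup.commutator_comm, Subgroup.commutator_comm (⊤ : Subgroup G) H]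
      have h := lcs_comm_le k ⁅H, (⊤ : Subgroup G)⁆ (Subgroup.commutator_normal _ _)
      rwa [down_shift] at h
    · have h := lcs_comm_le k H hH
      rw [Subgroup.commutator_comm H]
      exact Subgroup.commutator_mono h le_rfl

private theorem le_sup_lcs_step (A : Subgroup G) (B : Subgroup G) [B.Normal] (m : ℕ)
    (h : A ≤ (⊤ : Subgroup G).lowerCentralSeries m ⊔ B) :
    ⁅A, (⊤ : Subgroup G)⁆ ≤ (⊤ : Subgroup G).lowerCentralSeries (m + 1) ⊔ B := by
  refine (Subgroup.commutator_mono h le_rfl).trans ?_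
  have key : ∀ S : Subgroup G, S.map (QuotientGroup.mk' B) ≤
      ((⊤ : Subgroup G).lowerCentralSeries (m + 1)).map (QuotientGroup.mk' B) →
      S ≤ (⊤ : Subgroup G).lowerCentralSeries (m + 1) ⊔ B := by
    intro S hS
    rw [Subgroup.map_le_map_iff, QuotientGroup.ker_mk'] at hS
    exact hS
  apply key
  rw [Subgroup.map_commutator, Subgroup.map_sup, Subgroup.lowerCentralSeries_succ,
    Subgroup.map_commutator, (Subgroup.map_eq_bot_iff B).2 (le_of_eq (QuotientGroup.ker_mk' B).symm),
    sup_bot_eq]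

private theorem step_lt (hn : Group.IsNilpotent G) (A B : Subgroup G) [A.Normal] [B.Normal]
    (j : ℕ) (h : down A (j + 1) ⊔ B = down A j ⊔ B) : down A j ≤ B := by
  obtain ⟨c, hc⟩ := Subgroup.nilpotent_iff_lowerCentralSeries.1 hn
  have : ∀ m, down A j ≤ (⊤ : Subgroup G).lowerCentralSeries m ⊔ B := by
    intro m
    induction m with
    | zero => simp
    | succ m ih =>
      have h2 : down A (j + 1) ≤ (⊤ : Subgroup G).lowerCentralSeries (m + 1) ⊔ B :=
        le_sup_lcs_step _ B m ih
      calc down A j ≤ down A j ⊔ B := le_sup_left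
        _ = down A (j + 1) ⊔ B := h.symm
        _ ≤ _ := sup_le h2 le_sup_right
  simpa [hc] using this c

private theorem reach [Finite G] {p : ℕ} [Fact p.Prime] (hG : IsPGroup p G) (A B : Subgroup G)
    [A.Normal] [B.Normal] (hBA : B ≤ A) (m : ℕ) (hlt : B.relIndex A < p ^ (m + 1)) :
    down A m ≤ B := by
  have hn : Group.IsNilpotent G := hG.isNilpotent
  have hdesc : ∀ j, down A (j + 1) ⊔ B ≤ down A j ⊔ B := fun j => by
    have := down_normal A j
    exact sup_le_sup_right (Subgroup.commutator_le_left _ _) _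
  have key : ∀ j, down A j ≤ B ∨ p ^ j * B.relIndex (down A j ⊔ B) ≤ B.relIndex A := by
    intro j
    induction j with
    | zero =>
      right
      simp [down, sup_eq_left.2 hBA]
    | succ j ih =>
      rcases ih with ih | ih
      · left
        have := down_normal A j
        exact (Subgroup.commutator_le_left _ _).trans ih
      by_cases he : down A j ≤ B
      · left
        have := down_normal A j
        exact (Subgroup.commutator_le_left _ _).trans he
      right
      have hne : down A (j + 1) ⊔ B ≠ down A j ⊔ B := fun h => he (step_lt hn A B j h)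
      have hd : (down A (j + 1) ⊔ B).relIndex (down A j ⊔ B) ≠ 1 := fun h =>
        hne (le_antisymm (hdesc j) (Subgroup.relIndex_eq_one.1 h))
      obtain ⟨e, he'⟩ := ((hG.to_subgroup (down A j ⊔ B)).index
        ((down A (j + 1) ⊔ B).subgroupOf (down A j ⊔ B)))
      change (down A (j + 1) ⊔ B).relIndex (down A j ⊔ B) = p ^ e at he'
      have hp2 : p ≤ (down A (j + 1) ⊔ B).relIndex (down A j ⊔ B) := by
        rw [he'] at hd ⊢
        rcases e with _ | e
        · simp at hd
        · exact Nat.le_self_pow (by omega) p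
      rw [← Subgroup.relIndex_mul_relIndex _ _ _ (le_sup_right : B ≤ down A (j + 1) ⊔ B) (hdesc j)] at ih
      calc p ^ (j + 1) * B.relIndex (down A (j + 1) ⊔ B)
          ≤ p ^ j * (B.relIndex (down A (j + 1) ⊔ B)
            * (down A (j + 1) ⊔ B).relIndex (down A j ⊔ B)) := by
            rw [pow_succ, mul_assoc, mul_comm p]
            exact Nat.mul_le_mul_left _ (Nat.mul_le_mul_left _ hp2)
        _ ≤ _ := ih
  rcases key m with h | h
  · exact h
  by_contra hc
  have hd : B.relIndex (down A m ⊔ B) ≠ 1 := fun h1 =>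
    hc (le_sup_left.trans (Subgroup.relIndex_eq_one.1 h1))
  obtain ⟨e, he'⟩ := ((hG.to_subgroup (down A m ⊔ B)).index (B.subgroupOf (down A m ⊔ B)))
  change B.relIndex (down A m ⊔ B) = p ^ e at he'
  have hp2 : p ≤ B.relIndex (down A m ⊔ B) := by
    rw [he'] at hd ⊢
    rcases e with _ | e
    · simp at hd
    · exact Nat.le_self_pow (by omega) p
  have : p ^ (m + 1) ≤ B.relIndex A := by
    rw [pow_succ]
    exact le_trans (Nat.mul_le_mul_left _ hp2) h
  omega

private theorem lcsN_normal (N : Subgroup G) [N.Normal] : ∀ k, (N.lowerCentralSeries k).Normal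
  | 0 => by simpa
  | k + 1 => by
    have := lcsN_normal N k
    rw [Subgroup.lowerCentralSeries_succ]
    infer_instance

/-- Let G be a finite p-group and n ≥ 1, and write γ_1(G) = G, γ_{k+1}(G) = [γ_k(G), G], and likewise γ_k(N) for a subgroup N. Let N be a normal subgroup of G contained in γ_n(G). If i > 1 and γ_{i+1}(N) ≠ 1, then |γ_i(N) : γ_{i+1}(N)| ≥ p^n. -/
theorem result {G : Type*} [Group G] [Finite G] {p : ℕ} [Fact p.Prime] (hG : IsPGroup p G) (n : ℕ) (hn : 1 ≤ n) (N : Subgroup G) [N.Normal] (hN : N ≤ (⊤ : Subgroup G).lowerCentralSeries (n - 1)) (i : ℕ) (hi : 1 < i) (hne : N.lowerCentralSeries i ≠ ⊥) : p ^ n ≤ (N.lowerCentralSeries i).relIndex (N.lowerCentralSeries (i - 1)) := by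
  by_contra hcon
  push Not at hcon
  obtain ⟨k, rfl⟩ : ∃ k, i = k + 1 := ⟨i - 1, by omega⟩
  obtain ⟨m, rfl⟩ : ∃ m, n = m + 1 := ⟨n - 1, by omega⟩
  simp only [Nat.add_sub_cancel] at hcon hN
  have hAn := lcsN_normal N k
  have hBn := lcsN_normal N (k + 1)
  set A := N.lowerCentralSeries k with hA
  set B := N.lowerCentralSeries (k + 1) with hB
  have hBA : B ≤ A := N.lowerCentralSeries_antitone (Nat.le_succ k)
  have hAm : down A m ≤ B := reach hG A B hBA m hcon
  have hBtop : B ≤ ⁅B, (⊤ : Subgroup G)⁆ := by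
    have h1 : B = ⁅A, N⁆ := Subgroup.lowerCentralSeries_succ _ _
    have h2 : ⁅A, N⁆ ≤ down A (m + 1) := by
      rw [Subgroup.commutator_comm]
      exact (Subgroup.commutator_mono hN le_rfl).trans (lcs_comm_le m A hAn)
    exact (h1.le.trans h2).trans (Subgroup.commutator_mono hAm le_rfl)
  apply hne
  obtain ⟨c, hc⟩ := Subgroup.nilpotent_iff_lowerCentralSeries.1 hG.isNilpotent
  have : ∀ j, B ≤ (⊤ : Subgroup G).lowerCentralSeries j := by
    intro j
    induction j with
    | zero => simp
    | succ j ih =>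
      rw [Subgroup.lowerCentralSeries_succ]
      exact hBtop.trans (Subgroup.commutator_mono ih le_rfl)
  rw [eq_bot_iff, ← hc]
  exact this c

end Cfsg.Agent.S3781
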