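import Cfsg.Statements.S3783
import Cfsg.Agent.Lib.Solvable.FPFOperators.PLengthHH
-- import your own Cfsg.Agent.* helpers here

set_option autoImplicit false
open Cfsg
open CfsgLib.Solvable.FPFOperators

namespace Cfsg.Agent.S3783

/-- Let G be a finite p-soluble group in which, for every prime q ≠ p, the Sylow q-subgroups are abelian. If the Sylow p-subgroups of G have exponent dividing p^n, then G has p-length at most n. -/
theorem result {G : Type*} [Group G] [Finite G] {p : ℕ} [Fact p.Prime] (hG : Cfsg.IsPSolvable p G) (hab : ∀ (q : ℕ) [Fact q.Prime], q ≠ p → ∀ Q : Sylow q G, IsMulCommutative (Q : Subgroup G)) (n : ℕ) (hexp : ∀ (P : Sylow p G), ∀ x ∈ (P : Subgroup G), x ^ p ^ n = 1) : Cfsg.PLengthLE p n G := by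
  induction n generalizing G with
  | zero => exact pLengthLE_zero hexp
  | succ n ih =>
    refine pLengthLE_succ ?_
    set U := (Cfsg.upperPSeries p G 2).1
    obtain ⟨V, iA, iF, iM, ρ₀, π, hinj₀, hsurj, hadd, hconj⟩ := exists_layer_rep hG
    obtain ⟨W, iW, iWM, iWF, ρ, hinj, hρ⟩ := exists_closure_rep ρ₀ hinj₀
    have hmk := QuotientGroup.mk'_surjective U
    have hsol := CfsgLib.Fusion.PSolvable.psolvable_quotient hG U
    have habX : ∀ (q : ℕ) [Fact q.Prime], q ≠ p → ∀ Q : Sylow q (G ⧸ U),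
        IsMulCommutative (Q : Subgroup (G ⧸ U)) := fun q _ hq =>
      sylow_abelian_quotient _ hmk (hab q hq)
    refine ih hsol habX fun S x hx => ?_
    by_contra hne
    have hxP : IsPGroup p (Subgroup.zpowers x) := S.isPGroup'.to_le (Subgroup.zpowers_le.2 hx)
    have hr := (hρ x _).2 (norm_eq_zero_of_exponent ρ₀ π hsurj hadd hconj hexp hxP)
    obtain ⟨q, hq, hqp, n₀, m, -, -, -, -, -, Q, hQ, a, ha, b, hb, hab'⟩ :=
      exists_hallHigmanExc hsol pCore_mod_upper_two ρ hinj (n := n)
        (sylow_exponent_quotient _ hmk hexp S x hx) hne hr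
        (Nat.sub_lt (pow_pos (Fact.out : p.Prime).pos _) Nat.one_pos)
    haveI : Fact q.Prime := ⟨hq⟩
    exact hab' (commute_of_sylow_abelian (habX q hqp) hQ ha hb)

end Cfsg.Agent.S3783
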