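import Cfsg.Statements.S3784
import Mathlib.Algebra.Ring.GeomSum
import Mathlib.NumberTheory.Fermat
-- import your own Cfsg.Agent.* helpers here

set_option autoImplicit false
open Cfsg

namespace Cfsg.Agent.S3784

/-- An odd sum of powers dividing a power of two is a unit. -/
lemma natAbs_eq_one_of_dvd_two_pow {S : ℤ} {k : ℕ} (hS : Odd S) (h : S ∣ 2 ^ k) : S.natAbs = 1 := by
  have h' : S.natAbs ∣ 2 ^ k := by simpa [Int.natAbs_pow] using Int.natAbs_dvd_natAbs.2 h
  obtain ⟨j, -, hj⟩ := (Nat.dvd_prime_pow Nat.prime_two).1 h'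
  rcases Nat.eq_zero_or_pos j with rfl | h0
  · simpa using hj
  · exact absurd (hj ▸ (even_iff_two_dvd.2 (dvd_pow_self 2 h0.ne')) : Even S.natAbs)
      (Nat.not_even_iff_odd.2 (Int.natAbs_odd.2 hS))

lemma odd_geom_sum {y : ℤ} (hy : Odd y) {n : ℕ} (hn : Odd n) : Odd (∑ i ∈ Finset.range n, y ^ i) := by
  have key : ∀ m, Odd (∑ i ∈ Finset.range m, y ^ i) ↔ Odd m := fun m => by
    induction m with
    | zero => simp
    | succ m ih => rw [Finset.sum_range_succ, Int.odd_add, ih, Nat.odd_add_one, ← Int.not_odd_iff_even]; simp [hy.pow]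
  exact (key n).2 hn


/-- Let p, q be primes and a, b positive integers with p^a = q^b + 1. Then either p = 2, b = 1, a is prime and q = 2^a − 1; or q = 2, a = 1, b is a power of 2 and p = 2^b + 1; or p^a = 9 and q^b = 8. -/
theorem result (p q a b : ℕ) (hp : p.Prime) (hq : q.Prime) (ha : 1 ≤ a) (hb : 1 ≤ b) (h : p ^ a = q ^ b + 1) : (p = 2 ∧ b = 1 ∧ a.Prime ∧ q + 1 = 2 ^ a) ∨ (q = 2 ∧ a = 1 ∧ (∃ m : ℕ, b = 2 ^ m) ∧ p = 2 ^ b + 1) ∨ (p ^ a = 9 ∧ q ^ b = 8) := by
  by_cases hp2 : p = 2
  · subst hp2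
    have hq2 : q ≠ 2 := by
      rintro rfl
      have h1 : 2 ∣ 2 ^ a := dvd_pow_self 2 (by omega)
      have h2 : 2 ∣ 2 ^ b := dvd_pow_self 2 (by omega)
      omega
    have hqo : Odd q := hq.odd_of_ne_two hq2
    have hbo : Odd b := by
      by_contra hbe
      obtain ⟨c, rfl⟩ := even_iff_two_dvd.1 (Nat.not_odd_iff_even.1 hbe)
      obtain ⟨r, hr⟩ := hqo.pow (n := c)
      have h4 : q ^ (2 * c) = 4 * (r * r + r) + 1 := by
        rw [mul_comm 2 c, pow_mul, hr]; ring
      have h3 : 3 ≤ q ^ (2 * c) := by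
        have := Nat.le_self_pow (show 2 * c ≠ 0 by omega) q
        have := hq.two_le
        omega
      have ha2 : 2 ≤ a := by
        by_contra hlt
        obtain rfl : a = 1 := by omega
        omega
      have h5 : 2 ^ a = 4 * 2 ^ (a - 2) := by
        rw [show (4 : ℕ) = 2 ^ 2 by norm_num, ← pow_add]; congr 1; omega
      omega
    have hS : Odd (∑ i ∈ Finset.range b, (-(q : ℤ)) ^ i) := odd_geom_sum ((Int.odd_coe_nat q).2 hqo).neg hbo
    have hgs := geom_sum_mul (-(q : ℤ)) b
    rw [hbo.neg_pow] at hgs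
    have hz : ((2 : ℤ) ^ a) = (q : ℤ) ^ b + 1 := by exact_mod_cast h
    have h1 := natAbs_eq_one_of_dvd_two_pow hS (k := a) ⟨(q : ℤ) + 1, by linear_combination hz + hgs⟩
    have hb1 : b = 1 := by
      rcases Int.natAbs_eq_iff.1 h1 with hS1 | hS1 <;> rw [hS1] at hgs
      · have h2 : q ^ b = q ^ 1 := by
          rw [pow_one]
          exact_mod_cast (show (q : ℤ) ^ b = q by push_cast at hgs ⊢; linarith)
        exact Nat.pow_right_injective hq.two_le h2
      · have := pow_nonneg (show (0 : ℤ) ≤ q by positivity) b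
        have := hq.two_le
        push_cast at hgs
        nlinarith
    subst hb1
    rw [pow_one] at h
    refine Or.inl ⟨rfl, rfl, Nat.prime_of_pow_sub_one_prime (a := 2) (n := a) ?_ ?_ |>.2, h.symm⟩
    · rintro rfl; have := hq.two_le; norm_num at h; omega
    · rwa [h, Nat.add_sub_cancel]
  · have hpo : Odd p := hp.odd_of_ne_two hp2
    have hq2 : q = 2 := by
      by_contra hq2
      have h1 := (hpo.pow (n := a))
      rw [h, Nat.odd_add_one] at h1
      exact h1 (hq.odd_of_ne_two hq2).pow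
    subst hq2
    by_cases hae : Even a
    · obtain ⟨c, rfl⟩ := even_iff_two_dvd.1 hae
      refine Or.inr (Or.inr ?_)
      set u := p ^ c with hu
      have hu3 : 3 ≤ u := by
        have := Nat.le_self_pow (show c ≠ 0 by omega) p
        have := hp.two_le
        omega
      have hmul : (u - 1) * (u + 1) = 2 ^ b := by
        have : u * u = 2 ^ b + 1 := by rw [← h, hu, mul_comm 2 c, pow_mul, sq]
        obtain ⟨w, hw⟩ : ∃ w, u = w + 1 := ⟨u - 1, by omega⟩
        rw [hw] at this ⊢
        simp only [Nat.add_sub_cancel]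
        nlinarith
      obtain ⟨i, -, hi⟩ := (Nat.dvd_prime_pow Nat.prime_two).1 (Dvd.intro _ hmul)
      obtain ⟨j, -, hj⟩ := (Nat.dvd_prime_pow Nat.prime_two).1 (Dvd.intro_left _ hmul)
      have hu' : u = 3 := by
        rcases Nat.lt_or_ge i 2 with hi2 | hi2
        · interval_cases i <;> omega
        · have h4 : 2 ^ i = 4 * 2 ^ (i - 2) := by
            rw [show (4 : ℕ) = 2 ^ 2 by norm_num, ← pow_add]; congr 1; omega
          rcases Nat.lt_or_ge j 2 with hj2 | hj2
          · interval_cases j <;> omega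
          · have h5 : 2 ^ j = 4 * 2 ^ (j - 2) := by
              rw [show (4 : ℕ) = 2 ^ 2 by norm_num, ← pow_add]; congr 1; omega
            omega
      refine ⟨by rw [mul_comm 2 c, pow_mul, ← hu, hu']; norm_num, ?_⟩
      rw [← hmul, hu']
    · rw [Nat.not_even_iff_odd] at hae
      have hS : Odd (∑ i ∈ Finset.range a, (p : ℤ) ^ i) := odd_geom_sum ((Int.odd_coe_nat p).2 hpo) hae
      have hgs := geom_sum_mul (p : ℤ) a
      have hz : ((p : ℤ) ^ a) = 2 ^ b + 1 := by exact_mod_cast h
      have h1 := natAbs_eq_one_of_dvd_two_pow hS (k := b) ⟨(p : ℤ) - 1, by linear_combination -hz - hgs⟩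
      have ha1 : a = 1 := by
        rcases Int.natAbs_eq_iff.1 h1 with hS1 | hS1 <;> rw [hS1] at hgs
        · have h2 : p ^ a = p ^ 1 := by
            rw [pow_one]
            exact_mod_cast (show (p : ℤ) ^ a = p by push_cast at hgs ⊢; linarith)
          exact Nat.pow_right_injective hp.two_le h2
        · have := pow_pos (show (0 : ℤ) < p by exact_mod_cast hp.pos) a
          have h3 : (2 : ℤ) ≤ p := by exact_mod_cast hp.two_le
          push_cast at hgs
          linarith
      subst ha1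
      rw [pow_one] at h
      exact Or.inr (Or.inl ⟨rfl, rfl, Nat.pow_of_pow_add_prime (a := 2) (n := b) (by norm_num) (by omega) (h ▸ hp), h⟩)

end Cfsg.Agent.S3784
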