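import Cfsg.Statements.S3785
import Cfsg.Agent.Lib.Coprime.Action
import Cfsg.Agent.Lib.Solvable.Cores
import Cfsg.Agent.S0120

set_option autoImplicit false
open Cfsg

namespace Cfsg.Agent.S3785

open CfsgLib.Solvable.Cores

lemma mem_pCore_of_mem_fitting {G : Type*} [Group G] [Finite G] {r : ℕ} [Fact r.Prime] {x : G}
    (hx : x ∈ Cfsg.fittingSubgroup G) {k : ℕ} (hk : x ^ r ^ k = 1) : x ∈ Cfsg.pCore r G := by
  have hN : Group.IsNilpotent (Cfsg.fittingSubgroup G) := by
    rw [fittingSubgroup_eq_iSup_pCore]; exact iSup_pCore_isNilpotent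
  have hP : IsPGroup r (Subgroup.zpowers (⟨x, hx⟩ : Cfsg.fittingSubgroup G)) := by
    intro y
    obtain ⟨z, hz⟩ := Subgroup.mem_zpowers_iff.1 y.2
    refine ⟨k, Subtype.ext ?_⟩
    rw [Subgroup.coe_pow, ← hz, ← zpow_natCast, zpow_comm, zpow_natCast, Subgroup.coe_one]
    have : (⟨x, hx⟩ : Cfsg.fittingSubgroup G) ^ r ^ k = 1 := Subtype.ext (by simpa using hk)
    rw [this, one_zpow]
  obtain ⟨P, hP'⟩ := hP.exists_le_sylow
  have hPn : (P : Subgroup (Cfsg.fittingSubgroup G)).Normal := inferInstance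
  have : (P : Subgroup (Cfsg.fittingSubgroup G)).Characteristic := P.characteristic_of_normal hPn
  exact le_pCore (N := (P : Subgroup (Cfsg.fittingSubgroup G)).map (Cfsg.fittingSubgroup G).subtype)
    (P.isPGroup'.map _) ⟨⟨x, hx⟩, hP' (Subgroup.mem_zpowers _), rfl⟩


/-- Let G be a finite solvable group whose Fitting subgroup F(G) has odd order. If an element g of G commutes with every element of prime order of F(G), then g ∈ F(G). -/
theorem result {G : Type*} [Group G] [Finite G] (hG : Group.IsSolvable G) (hodd : Odd (Nat.card (Cfsg.fittingSubgroup G))) (g : G) (hg : ∀ x ∈ Cfsg.fittingSubgroup G, (orderOf x).Prime → g * x = x * g) : g ∈ Cfsg.fittingSubgroup G := by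
  let C : Subgroup G := Subgroup.centralizer {x | x ∈ Cfsg.fittingSubgroup G ∧ (orderOf x).Prime}
  have hgC : g ∈ C := Subgroup.mem_centralizer_iff.2 fun x hx => (hg x hx.1 hx.2).symm
  have hCn : C.Normal := ⟨fun y hy h => Subgroup.mem_centralizer_iff.2 fun x hx => by
    have hx' : h⁻¹ * x * h ∈ {x | x ∈ Cfsg.fittingSubgroup G ∧ (orderOf x).Prime} := by
      refine ⟨?_, ?_⟩
      · simpa using (fittingSubgroup_normal (G := G)).conj_mem x hx.1 h⁻¹
      · rw [show orderOf (h⁻¹ * x * h) = orderOf x by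
          rw [show h⁻¹ * x * h = MulAut.conj h⁻¹ x by simp]; exact MulEquiv.orderOf_eq _ x]
        exact hx.2
    have h1 := Subgroup.mem_centralizer_iff.1 hy _ hx'
    calc x * (h * y * h⁻¹) = h * ((h⁻¹ * x * h) * y) * h⁻¹ := by group
      _ = h * (y * (h⁻¹ * x * h)) * h⁻¹ := by rw [h1]
      _ = h * y * h⁻¹ * x := by group⟩
  -- an `r`-element of `C` centralises the `p`-core for `p ≠ r`
  have hcross : ∀ r : ℕ, r.Prime → ∀ x ∈ C, (∃ k, x ^ r ^ k = 1) → ∀ p : ℕ, p.Prime → p ≠ r →
      ∀ y ∈ Cfsg.pCore p G, x * y = y * x := by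
    intro r hr x hx ⟨k, hk⟩ p hp hpr y hy
    have := Fact.mk hp
    by_cases hp2 : p = 2
    · subst hp2
      obtain ⟨j, hj⟩ := card_pow_of_pCore (G := G) 2
      have hdvd := Subgroup.card_dvd_of_le (pCore_le_fittingSubgroup (G := G) 2)
      have hj0 : j = 0 := by
        by_contra h0
        rw [hj] at hdvd
        exact (Nat.not_even_iff_odd.2 hodd) (even_iff_two_dvd.2 ((dvd_pow_self 2 h0).trans hdvd))
      have : Cfsg.pCore 2 G = ⊥ := Subgroup.card_eq_one.1 (by rw [hj, hj0, pow_zero])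
      rw [this, Subgroup.mem_bot] at hy
      simp [hy]
    · let a : MulAut (Cfsg.pCore p G) := MulAut.conjNormal x
      have ha : a = 1 := by
        refine Cfsg.Agent.S0120.result hp2 (isPGroup_pCore p) a ?_ fun z hz => ?_
        · refine Nat.Coprime.coprime_dvd_left ((orderOf_map_dvd _ x).trans (orderOf_dvd_of_pow_eq_one hk)) ?_
          exact ((Nat.coprime_primes hr hp).2 (Ne.symm hpr)).pow_left k
        · apply Subtype.ext
          rw [MulAut.conjNormal_apply]
          by_cases hz1 : (z : G) = 1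
          · simp [hz1]
          have hord : (orderOf (z : G)).Prime := by
            rw [orderOf_eq_prime (p := p) (by simpa using congrArg Subtype.val hz) hz1]; exact hp
          rw [← Subgroup.mem_centralizer_iff.1 hx _ ⟨pCore_le_fittingSubgroup p z.2, hord⟩, mul_inv_cancel_right]
      have h1 : ((a ⟨y, hy⟩ : Cfsg.pCore p G) : G) = y := by rw [ha]; rfl
      rw [MulAut.conjNormal_apply] at h1
      exact mul_inv_eq_iff_eq_mul.1 h1
  -- the normal subgroup containing all `q`-elements of `C`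
  have hqel : ∀ q : ℕ, q.Prime → ∀ x ∈ C, (∃ k, x ^ q ^ k = 1) → x ∈ Cfsg.fittingSubgroup G := by
    intro q hq x hx hxk
    let S : Set G := {y | ∃ p : ℕ, p.Prime ∧ p ≠ q ∧ y ∈ Cfsg.pCore p G}
    let E : Subgroup G := C ⊓ Subgroup.centralizer S
    have hEn : E.Normal := by
      have : (Subgroup.centralizer S).Normal := ⟨fun y hy h => Subgroup.mem_centralizer_iff.2 fun z ⟨p, hp, hpq, hz⟩ => by
        have h1 := Subgroup.mem_centralizer_iff.1 hy (h⁻¹ * z * h)
          ⟨p, hp, hpq, by simpa using (pCore_normal (G := G) p).conj_mem z hz h⁻¹⟩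
        calc z * (h * y * h⁻¹) = h * ((h⁻¹ * z * h) * y) * h⁻¹ := by group
          _ = h * (y * (h⁻¹ * z * h)) * h⁻¹ := by rw [h1]
          _ = h * y * h⁻¹ * z := by group⟩
      exact Subgroup.normal_inf_normal _ _
    have hr : ∀ r : ℕ, r.Prime → r ≠ q → ∀ z : E, (∃ k, z ^ r ^ k = 1) → z ∈ Subgroup.center E := by
      intro r hr hrq z ⟨k, hk⟩
      have := Fact.mk hr
      have hk' : (z : G) ^ r ^ k = 1 := by rw [← Subgroup.coe_pow, hk, Subgroup.coe_one]
      have hzF : (z : G) ∈ Cfsg.fittingSubgroup G := by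
        refine centralizer_fittingSubgroup_le (Subgroup.mem_centralizer_iff.2 fun y hy => ?_)
        rw [fittingSubgroup_eq_iSup_pCore] at hy
        have hle : (⨆ p : Nat.Primes, Cfsg.pCore (p : ℕ) G) ≤ Subgroup.centralizer {(z : G)} := by
          refine iSup_le fun p y hy => Subgroup.mem_centralizer_singleton_iff.2 ?_
          by_cases hpr : (p : ℕ) = r
          · exact Subgroup.mem_centralizer_iff.1 z.2.2 y ⟨p, p.2, hpr ▸ hrq, hy⟩
          · exact (hcross r hr z z.2.1 ⟨k, hk'⟩ p p.2 hpr y hy).symm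
        exact Subgroup.mem_centralizer_singleton_iff.1 (hle hy)
      refine Subgroup.mem_center_iff.2 fun w => Subtype.ext ?_
      exact (Subgroup.mem_centralizer_iff.1 w.2.2 z ⟨r, hr, hrq, mem_pCore_of_mem_fitting hzF hk'⟩).symm
    have hnil : Group.IsNilpotent E := by
      refine Group.isNilpotent_of_finite_tfae.out 3 0 |>.1 fun r hr' P => ?_
      have hpe : ∀ (r' : ℕ) (R : Sylow r' E), r'.Prime → r' ≠ q → (R : Subgroup E) ≤ Subgroup.center E := by
        intro r' R hr'' hne z hz
        obtain ⟨k, hk⟩ := R.isPGroup' ⟨z, hz⟩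
        exact hr r' hr'' hne z ⟨k, by simpa using congrArg Subtype.val hk⟩
      rcases eq_or_ne r q with rfl | hne
      · rw [← Subgroup.normalizer_eq_top_iff]
        refine eq_top_of_sylow_le _ fun s hs => ?_
        rcases eq_or_ne s r with rfl | hsr
        · exact ⟨P, Subgroup.le_normalizer⟩
        · obtain ⟨R⟩ : Nonempty (Sylow s E) := inferInstance
          exact ⟨R, (hpe s R hs hsr).trans (Subgroup.center_le_normalizer _)⟩
      · refine ⟨fun z hz w => ?_⟩
        rw [(Subgroup.mem_center_iff.1 (hpe r P hr'.out hne hz) w), mul_inv_cancel_right]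
        exact hz
    refine le_fittingSubgroup (N := E) hnil ⟨hx, Subgroup.mem_centralizer_iff.2 ?_⟩
    rintro y ⟨p, hp, hpq, hy⟩
    exact (hcross q hq x hx hxk p hp hpq y hy).symm
  have htop : (Cfsg.fittingSubgroup G).subgroupOf C = ⊤ := by
    refine eq_top_of_sylow_le _ fun q hq => ?_
    obtain ⟨P⟩ : Nonempty (Sylow q C) := inferInstance
    refine ⟨P, fun z hz => ?_⟩
    obtain ⟨k, hk⟩ := P.isPGroup' ⟨z, hz⟩
    exact hqel q hq z z.2 ⟨k, by simpa using congrArg (fun w : (P : Subgroup C) => ((w : C) : G)) hk⟩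
  exact Subgroup.subgroupOf_eq_top.1 htop hgC

end Cfsg.Agent.S3785
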