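import Cfsg.Statements.S3786
import Cfsg.Agent.Lib.Solvable.FPFOperators.PLengthHH
-- import your own Cfsg.Agent.* helpers here

set_option autoImplicit false
open Cfsg
open CfsgLib.Solvable.FPFOperators

namespace Cfsg.Agent.S3786

/-- The Hall–Higman bound on p-length. Let p be an odd prime and G a finite p-soluble group whose Sylow p-subgroups have exponent dividing p^e. (a) If p is not of the form 2^k + 1, or if the Sylow 2-subgroups of G are abelian, then G has p-length at most e. (b) In every case G has p-length at most 2e. -/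
theorem result {G : Type*} [Group G] [Finite G] {p : ℕ} [Fact p.Prime] (hp : p ≠ 2) (hG : Cfsg.IsPSolvable p G) (e : ℕ) (hexp : ∀ (P : Sylow p G), ∀ x ∈ (P : Subgroup G), x ^ p ^ e = 1) : (((¬ ∃ k : ℕ, p = 2 ^ k + 1) ∨ ∀ S : Sylow 2 G, IsMulCommutative (S : Subgroup G)) → Cfsg.PLengthLE p e G) ∧ Cfsg.PLengthLE p (2 * e) G := by
  have hp2' : 2 ≤ p - 1 := by
    have := (Fact.out : p.Prime).two_le; omega
  refine ⟨fun hcase => ?_, ?_⟩
  · induction e generalizing G with
    | zero => exact pLengthLE_zero hexp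
    | succ n ih =>
      refine pLengthLE_succ ?_
      set U := (Cfsg.upperPSeries p G 2).1
      obtain ⟨V, iA, iF, iM, ρ₀, π, hinj₀, hsurj, hadd, hconj⟩ := exists_layer_rep hG
      obtain ⟨W, iW, iWM, iWF, ρ, hinj, hρ⟩ := exists_closure_rep ρ₀ hinj₀
      have hmk := QuotientGroup.mk'_surjective U
      have hsol := CfsgLib.Fusion.PSolvable.psolvable_quotient hG U
      have hcaseX : (¬ ∃ k : ℕ, p = 2 ^ k + 1) ∨
          ∀ S : Sylow 2 (G ⧸ U), IsMulCommutative (S : Subgroup (G ⧸ U)) :=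
        hcase.imp_right fun h => sylow_abelian_quotient _ hmk h
      refine ih hsol ?_ hcaseX
      intro S x hx
      by_contra hne
      have hxP : IsPGroup p (Subgroup.zpowers x) := S.isPGroup'.to_le (Subgroup.zpowers_le.2 hx)
      have hr := (hρ x _).2 (norm_eq_zero_of_exponent ρ₀ π hsurj hadd hconj hexp hxP)
      obtain ⟨q, hq, hqp, n₀, m, hn₀, -, hm, heq, -, Q, hQ, a, ha, b, hb, hab⟩ :=
        exists_hallHigmanExc hsol pCore_mod_upper_two ρ hinj (n := n)
          (sylow_exponent_quotient _ hmk hexp S x hx) hne hr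
          (Nat.sub_lt (pow_pos (Fact.out : p.Prime).pos _) Nat.one_pos)
      obtain ⟨rfl, hk⟩ := exceptional_fermat hp hq hn₀ hm heq
      rcases hcaseX with h | h
      · exact h hk
      · exact hab (commute_of_sylow_abelian h hQ ha hb)
  · induction e generalizing G with
    | zero => exact pLengthLE_zero hexp
    | succ e ih =>
      rw [show 2 * (e + 1) = 2 * e + 1 + 1 by ring]
      refine pLengthLE_succ ?_
      set U := (Cfsg.upperPSeries p G 2).1
      obtain ⟨V, iA, iF, iM, ρ₀, π, hinj₀, hsurj, hadd, hconj⟩ := exists_layer_rep hG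
      obtain ⟨W, iW, iWM, iWF, ρ, hinj, hρ⟩ := exists_closure_rep ρ₀ hinj₀
      have hmk := QuotientGroup.mk'_surjective U
      have hsol := CfsgLib.Fusion.PSolvable.psolvable_quotient hG U
      have hexpX := sylow_exponent_quotient _ hmk hexp
      refine pLengthLE_succ ?_
      set U₂ := (Cfsg.upperPSeries p (G ⧸ U) 2).1
      obtain ⟨V₁, iA₁, iF₁, iM₁, ρ₁, π₁, hinj₁, hsurj₁, hadd₁, hconj₁⟩ := exists_layer_rep hsol
      obtain ⟨W₁, iW₁, iWM₁, iWF₁, ρ₁', hinj₁', hρ₁⟩ := exists_closure_rep ρ₁ hinj₁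
      have hmk₂ := QuotientGroup.mk'_surjective U₂
      have hsol₂ := CfsgLib.Fusion.PSolvable.psolvable_quotient hsol U₂
      refine ih hsol₂ ?_
      intro S x hx
      by_contra hne
      obtain ⟨P, hP⟩ := exists_sylow_lift (QuotientGroup.mk' U₂) hmk₂ S.isPGroup'
      obtain ⟨g, hg, rfl⟩ := hP hx
      have hgp : ∀ y ∈ (P : Subgroup (G ⧸ U)), (ρ y - 1) ^ (p ^ (e + 1) - 1) = 0 := fun y hy =>
        (hρ y _).2 (norm_eq_zero_of_exponent ρ₀ π hsurj hadd hconj hexp
          (P.isPGroup'.to_le (Subgroup.zpowers_le.2 hy)))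
      have hτ : ∀ v : V₁, ρ₁ ((QuotientGroup.mk' U₂ g) ^ p ^ e)
          ((∑ i ∈ Finset.range (p ^ e), ρ₁ (QuotientGroup.mk' U₂ g) ^ i) v) =
          (∑ i ∈ Finset.range (p ^ e), ρ₁ (QuotientGroup.mk' U₂ g) ^ i) v := by
        intro v
        obtain ⟨a, haP, rfl⟩ := hsurj₁ P v
        obtain ⟨b, hb, hπ⟩ := exists_pow_translate ρ₁ π₁ hadd₁ hconj₁ g a (p ^ e)
        have hc := tops_commute_all hp hsol pCore_mod_upper_two ρ hinj P.isPGroup'
          (mul_mem haP hg) hg (hexpX P _ (mul_mem haP hg)) (hexpX P g hg)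
          (hgp _ (mul_mem haP hg)) (hgp g hg)
        rw [hb, mul_assoc, ← mul_assoc (g ^ p ^ e)] at hc
        have hfix : (b : G ⧸ U) = g ^ p ^ e * b * (g ^ p ^ e)⁻¹ := by
          rw [eq_mul_inv_iff_mul_eq]
          exact mul_right_cancel (b := g ^ p ^ e) (by rw [mul_assoc]; exact hc)
        have h1 := hconj₁ (g ^ p ^ e) b b hfix
        rw [hπ, QuotientGroup.mk_pow] at h1
        exact h1.symm
      have hzero : (ρ₁ (QuotientGroup.mk' U₂ g) - 1) ^ (p ^ e + (p ^ e - 1)) = 0 := by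
        rw [pow_add, sub_one_pow_pred_end, sub_pow_pow_end, ← map_pow]
        refine LinearMap.ext fun v => ?_
        rw [Module.End.mul_apply, LinearMap.sub_apply, Module.End.one_apply, hτ v, sub_self,
          LinearMap.zero_apply]
      have hpe : 0 < p ^ e := pow_pos (Fact.out : p.Prime).pos _
      have h2pe : 2 * p ^ e ≤ (p - 1) * p ^ e := Nat.mul_le_mul_right _ hp2'
      have hsucc : p ^ (e + 1) = (p - 1) * p ^ e + p ^ e := by
        rw [pow_succ', ← Nat.succ_mul, Nat.succ_eq_add_one,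
          Nat.sub_add_cancel (Fact.out : p.Prime).one_le]
      obtain ⟨q, hq, -, n₀, m, hn₀, hn₀e, -, -, hle, -⟩ :=
        exists_hallHigmanExc hsol₂ pCore_mod_upper_two ρ₁' hinj₁' (n := e)
          (sylow_exponent_quotient _ hmk₂ hexpX S _ hx) hne ((hρ₁ _ _).2 hzero) (by omega)
      rw [Nat.mul_sub, mul_one, ← pow_add, Nat.sub_add_cancel hn₀e] at hle
      have h3 : p ^ (e + 1 - n₀) ≤ p ^ e :=
        Nat.pow_le_pow_right (Fact.out : p.Prime).pos (by omega)
      omega

end Cfsg.Agent.S3786
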