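import Cfsg.Statements.S3787
import Cfsg.Agent.Lib.Solvable.FPFOperators.WreathSection
-- import your own Cfsg.Agent.* helpers here

set_option autoImplicit false
open Cfsg
open CfsgLib.Solvable.FPFOperators

namespace Cfsg.Agent.S3787

/-- Let G be a finite p-soluble group, p an odd prime not of the form 2^k + 1, and suppose the wreath product C_p ≀ C_p (of order p^(p+1)) is not involved in a Sylow p-subgroup of G: no section of a Sylow p-subgroup is isomorphic to it. Then G has p-length at most 1. -/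
theorem result {G : Type*} [Group G] [Finite G] {p : ℕ} [Fact p.Prime] (hp2 : p ≠ 2) (hnf : (¬ ∃ k : ℕ, p = 2 ^ k + 1)) (hG : Cfsg.IsPSolvable p G) (P : Sylow p G) (hwr : ∀ (W : Type) [Group W] [Finite W], (∃ (B : Subgroup W) (t : W), B.Normal ∧ IsMulCommutative B ∧ (∀ b ∈ B, b ^ p = 1) ∧ Nat.card B = p ^ p ∧ orderOf t = p ∧ t ∉ B ∧ Nat.card W = p ^ (p + 1) ∧ Nat.card ↥(B ⊓ Subgroup.centralizer ({t} : Set W)) = p) → ¬ Cfsg.Involves W ↥(P : Subgroup G)) : Cfsg.PLengthLE p 1 G := by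
  classical
  have hp : p.Prime := Fact.out
  refine pLengthLE_succ (k := 0) ?_
  set U := (Cfsg.upperPSeries p G 2).1
  refine pLengthLE_zero fun S x hx => ?_
  rw [pow_zero, pow_one]
  by_contra hx1
  obtain ⟨V, iA, iF, iM, ρ₀, π, hinj₀, hsurj, hadd, hconj⟩ := exists_layer_rep hG
  obtain ⟨W, iW, iWM, iWF, ρ, hinj, hρ⟩ := exists_closure_rep ρ₀ hinj₀
  have hmk := QuotientGroup.mk'_surjective U
  have hsol := CfsgLib.Fusion.PSolvable.psolvable_quotient hG U
  obtain ⟨k, hk⟩ := S.isPGroup' ⟨x, hx⟩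
  have hk' : x ^ p ^ k = 1 := congrArg Subtype.val hk
  have hex : ∃ i, x ^ p ^ i = 1 := ⟨k, hk'⟩
  have h0 : Nat.find hex ≠ 0 := fun h0 => hx1 (by
    have h2 := Nat.find_spec hex
    rwa [h0, pow_zero, pow_one] at h2)
  set y := x ^ p ^ (Nat.find hex - 1) with hy
  have hyS : y ∈ (S : Subgroup (G ⧸ U)) := pow_mem hx _
  have hy1 : y ≠ 1 := Nat.find_min hex (by omega)
  have hyp : y ^ p = 1 := by
    rw [hy, ← pow_mul, ← pow_succ, Nat.sub_add_cancel (Nat.pos_of_ne_zero h0)]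
    exact Nat.find_spec hex
  obtain ⟨P', hP'⟩ := exists_sylow_lift (QuotientGroup.mk' U) hmk S.isPGroup'
  obtain ⟨g, hg, hgy⟩ := hP' hyS
  have hreg : (ρ₀ (g : G ⧸ U) - 1) ^ (p - 1) ≠ 0 := by
    intro hzero
    have hgy' : (g : G ⧸ U) = y := hgy
    rw [hgy'] at hzero
    obtain ⟨q, hq, hqp, n₀, m, hn₀, -, hm, heq, -⟩ :=
      exists_hallHigmanExc hsol pCore_mod_upper_two ρ hinj (s := y) (n := 0) (r := p - 1)
        (by rw [zero_add, pow_one, hyp]) (by rw [pow_zero, pow_one]; exact hy1)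
        ((hρ _ _).2 hzero) (by rw [zero_add, pow_one]; exact Nat.sub_lt hp.pos Nat.one_pos)
    exact hnf (exceptional_fermat hp2 hq hn₀ hm heq).2
  have hgpU : g ^ p ∈ U := (QuotientGroup.eq_one_iff _).1 ((map_pow (QuotientGroup.mk' U) g p).trans
    (by rw [hgy, hyp]))
  obtain ⟨W', iW', iF', hW', hI⟩ :=
    exists_wreath_section ρ₀ π hsurj hadd hconj P' hg hgpU hreg
  obtain ⟨K, R, hn, ⟨f⟩⟩ := hI
  let e : ↥(P' : Subgroup G) ≃* ↥(P : Subgroup G) := Sylow.equiv P' P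
  let eh : ↥(P' : Subgroup G) →* ↥(P : Subgroup G) := e
  have hn' : ((R.map eh).subgroupOf (K.map eh)).Normal := by
    refine ⟨fun a ha b => ?_⟩
    obtain ⟨a', ha', hae⟩ := ha
    obtain ⟨b', hb', hbe⟩ := b.2
    by_cases haK : a' ∈ K
    · refine ⟨b' * a' * b'⁻¹, ?_, ?_⟩
      · exact hn.conj_mem ⟨a', haK⟩ ha' ⟨b', hb'⟩
      · rw [map_mul, map_mul, map_inv, hbe, hae]; rfl
    · obtain ⟨c, hc, hce⟩ := a.2
      exact absurd (e.injective (hce.trans hae.symm) ▸ hc) haK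
  refine hwr W' hW' ⟨K.map eh, R.map eh, hn', ?_⟩
  haveI := hn
  haveI := hn'
  refine ⟨(QuotientGroup.congr (R.subgroupOf K) ((R.map eh).subgroupOf (K.map eh)) (e.subgroupMap K) ?_).symm.trans f⟩
  ext a
  obtain ⟨a, rfl⟩ := (e.subgroupMap K).surjective a
  exact (Subgroup.mem_map_iff_mem (f := ((e.subgroupMap K : ↥K ≃* ↥(K.map eh)) : ↥K →* ↥(K.map eh)))
    (e.subgroupMap K).injective).trans (Subgroup.mem_map_iff_mem (f := eh) e.injective).symm

end Cfsg.Agent.S3787
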