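import Cfsg.Statements.S3788
import Cfsg.Agent.Lib.Fusion.PSolvable
import Cfsg.Agent.Lib.Fusion.FailureFactor
import Cfsg.Agent.Lib.Fusion.ZJConstrained
import Cfsg.Agent.Lib.Components.PComponents
import Cfsg.Agent.Lib.Coprime.Action
import Cfsg.Agent.Lib.Coprime.SchurZassenhaus
import Cfsg.Agent.Lib.PGroup.Frattini
import Cfsg.Agent.Lib.Solvable.Cores
-- import your own Cfsg.Agent.* helpers here

set_option autoImplicit false
open Cfsg

namespace Cfsg.Agent.S3788

open scoped commutatorElement Pointwise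

section Helpers

/-- A homomorphic image with a section isomorphic to `S` gives one upstairs. -/
theorem involves_of_quotient {G Q : Type*} [Group G] [Group Q] {S : Type*} [Group S] (π : G →* Q)
    (hπ : Function.Surjective π) (h : Cfsg.Involves S Q) : Cfsg.Involves S G := by
  obtain ⟨K, R, hn, ⟨e⟩⟩ := h
  let f : (K.comap π) →* K ⧸ R.subgroupOf K :=
    (QuotientGroup.mk' (R.subgroupOf K)).comp ((π.comp (K.comap π).subtype).codRestrict K fun x => x.2)
  have hf : Function.Surjective f := by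
    intro y
    obtain ⟨⟨q, hq⟩, rfl⟩ := QuotientGroup.mk'_surjective _ y
    obtain ⟨g, rfl⟩ := hπ q
    exact ⟨⟨g, hq⟩, rfl⟩
  have hker : f.ker = (R.comap π).subgroupOf (K.comap π) := by
    ext x
    rw [MonoidHom.mem_ker, Subgroup.mem_subgroupOf, Subgroup.mem_comap]
    exact (QuotientGroup.eq_one_iff _).trans Subgroup.mem_subgroupOf
  haveI : ((R.comap π).subgroupOf (K.comap π)).Normal := hker ▸ f.normal_ker
  exact ⟨K.comap π, R.comap π, inferInstance,
    ⟨((QuotientGroup.quotientMulEquivOfEq hker.symm).trans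
      (QuotientGroup.quotientKerEquivOfSurjective f hf)).trans e⟩⟩

variable {G : Type*} [Group G] [Finite G]

/-- A power of `b` lying in `U` is a power of `b ^ p` when `b ∉ U` and `b ^ p ∈ U`. -/
theorem mem_zpowers_pow {p : ℕ} (hp : p.Prime) {U : Subgroup G} {b : G} (hb : b ∉ U) (hbp : b ^ p ∈ U)
    {y : G} (hy : y ∈ Subgroup.zpowers b) (hyU : y ∈ U) : y ∈ Subgroup.zpowers (b ^ p) := by
  obtain ⟨i, rfl⟩ := Subgroup.mem_zpowers_iff.1 hy
  have hd : (p : ℤ) ∣ i := by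
    by_contra hd
    obtain ⟨s, t, hst⟩ := (Nat.prime_iff_prime_int.1 hp).coprime_iff_not_dvd.2 hd
    refine hb ?_
    have e : (b ^ p) ^ s * (b ^ i) ^ t = b := by
      rw [← zpow_natCast, ← zpow_mul, ← zpow_mul, ← zpow_add, mul_comm (p : ℤ), mul_comm i, hst, zpow_one]
    rw [← e]
    exact U.mul_mem (U.zpow_mem hbp s) (U.zpow_mem hyU t)
  obtain ⟨j, rfl⟩ := hd
  rw [zpow_mul, zpow_natCast]
  exact Subgroup.zpow_mem_zpowers _ j

/-- An element of odd order acting on `U` as a unipotent map of exponent two is trivial on `U`. -/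
theorem commute_of_unipotent {U : Subgroup G} {n : ℕ} (hU : ∀ u ∈ U, u ^ n = 1) {g : G}
    (hg : (orderOf g).Coprime n) {u : G} (hc : ⁅g, u⁆ ∈ U) (hfix : Commute g ⁅g, u⁆) :
    Commute g u := by
  have hit : ∀ k : ℕ, g ^ k * u * (g ^ k)⁻¹ = ⁅g, u⁆ ^ k * u := by
    intro k
    induction k with
    | zero => simp
    | succ k ih =>
      calc g ^ (k + 1) * u * (g ^ (k + 1))⁻¹ = g * (g ^ k * u * (g ^ k)⁻¹) * g⁻¹ := by
            rw [pow_succ']; group
        _ = g * ⁅g, u⁆ ^ k * (u * g⁻¹) := by rw [ih]; group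
        _ = ⁅g, u⁆ ^ k * g * (u * g⁻¹) := by rw [(hfix.pow_right k).eq]
        _ = ⁅g, u⁆ ^ k * (⁅g, u⁆ * u) := by rw [commutatorElement_def]; group
        _ = ⁅g, u⁆ ^ (k + 1) * u := by rw [pow_succ, mul_assoc]
  have h := hit (orderOf g)
  rw [pow_orderOf_eq_one, inv_one, one_mul, mul_one, right_eq_mul] at h
  have h1 : orderOf ⁅g, u⁆ ∣ Nat.gcd (orderOf g) n :=
    Nat.dvd_gcd (orderOf_dvd_of_pow_eq_one h) (orderOf_dvd_of_pow_eq_one (hU _ hc))
  rw [Nat.Coprime.gcd_eq_one hg, Nat.dvd_one, orderOf_eq_one_iff] at h1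
  exact commutatorElement_eq_one_iff_commute.1 h1

theorem core {p : ℕ} [Fact p.Prime] (U K : Subgroup G) [U.Normal] [K.Normal] (hUK : U ≤ K)
    (hUc : ∀ u ∈ U, ∀ v ∈ U, u * v = v * u) (hUp : ∀ u ∈ U, u ^ p = 1)
    (hC : Subgroup.centralizer (U : Set G) ≤ U) (hK : (U.relIndex K).Coprime p)
    (hKc : ∀ g : G, (∀ x ∈ K, ⁅g, x⁆ ∈ U) → g ∈ K) (a : G) (haU : a ∉ U) (hap : a ^ p ∈ U)
    (hcomm : ∀ u ∈ U, ⁅a, u⁆ ∈ Subgroup.zpowers (a ^ p)) :
    p = 2 ∧ Cfsg.Involves (Equiv.Perm (Fin 4)) G := by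
  have hp : p.Prime := Fact.out
  -- a complement of `U` in `K`
  have hUpg : IsPGroup p U := fun u => ⟨1, Subtype.ext (by simpa using hUp u u.2)⟩
  obtain ⟨r, hr⟩ := hUpg.exists_card_eq
  have hcopK : (Nat.card (U.subgroupOf K)).Coprime (U.subgroupOf K).index := by
    rw [Nat.card_congr (Subgroup.subgroupOfEquivOfLe hUK).toEquiv, hr]
    exact (Nat.Coprime.pow_left r hK.symm)
  obtain ⟨H₀, hH₀⟩ := Subgroup.exists_right_complement'_of_coprime hcopK
  set H := H₀.map K.subtype with hHdef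
  have hHK : H ≤ K := Subgroup.map_subtype_le _
  have hHcard : Nat.card H = U.relIndex K := by
    rw [← Nat.card_congr (H₀.equivMapOfInjective _ K.subtype_injective).toEquiv]
    exact hH₀.symm.index_eq_card.symm
  have hHcop : (Nat.card H).Coprime p := hHcard ▸ hK
  have hUH : ∀ x, x ∈ U → x ∈ H → x = 1 := by
    rintro _ hxU ⟨x, hx, rfl⟩
    have := hH₀.disjoint.le_bot (show x ∈ U.subgroupOf K ⊓ H₀ from ⟨hxU, hx⟩)
    rw [Subgroup.mem_bot.1 this]; rfl
  have hsplit : ∀ x ∈ K, ∃ u ∈ U, ∃ h ∈ H, u * h = x := by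
    intro x hx
    obtain ⟨⟨u, h⟩, e⟩ := hH₀.existsUnique (⟨x, hx⟩ : K) |>.exists
    exact ⟨(u : K), u.2, (h : K), ⟨_, h.2, rfl⟩, congrArg Subtype.val e⟩
  have hfrat : ∃ v ∈ U, ∃ l ∈ Subgroup.normalizer (H : Set G), a = v * l := by
    have hUsol : Group.IsSolvable U := Group.isSolvable_of_comm fun s t => Subtype.ext (hUc s s.2 t t.2)
    have hnU : ∀ L : Subgroup G, L ≤ Subgroup.normalizer (U : Set G) := fun L => by
      rw [Subgroup.normalizer_eq_top]; exact le_top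
    obtain ⟨n, hn, hne⟩ := CfsgLib.Coprime.exists_conj_eq (N := U)
      (H := H.map (MulAut.conj a).toMonoidHom) (K := H) (Or.inl hUsol) (hnU _) (hnU _) (by
        rintro _ ⟨h, hh, rfl⟩
        obtain ⟨u, hu, h', hh', e⟩ := hsplit _ ((inferInstance : K.Normal).conj_mem h (hHK hh) a)
        show a * h * a⁻¹ ∈ U ⊔ H
        rw [← e]
        exact Subgroup.mul_mem_sup hu hh')
      (CfsgLib.Coprime.card_conj_map H a) (by
        rw [CfsgLib.Coprime.card_conj_map, hr]
        exact Nat.Coprime.pow_left r hHcop.symm)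
    rw [CfsgLib.Coprime.conj_map_map] at hne
    refine ⟨n⁻¹, U.inv_mem hn, n * a, CfsgLib.Coprime.mem_normalizer_of_conj_map_le (fun h hh => hne.le ⟨h, hh, rfl⟩), ?_⟩
    rw [inv_mul_cancel_left]
  obtain ⟨v, hv, l, hl, hal⟩ := hfrat
  have hlU : l ∉ U := fun h => haU (hal ▸ U.mul_mem hv h)
  have hconjH : ∀ x ∈ H, l * x * l⁻¹ ∈ H := fun x hx => (Subgroup.mem_normalizer_iff.1 hl x).1 hx
  have hcU : ∀ u, u ∈ U → u ∈ Subgroup.normalizer (H : Set G) → ∀ h ∈ H, Commute h u := by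
    intro u hu hun h hh
    refine commutatorElement_eq_one_iff_commute.1 (hUH _ ?_ ?_)
    · rw [commutatorElement_def]
      exact U.mul_mem ((inferInstance : U.Normal).conj_mem u hu h) (U.inv_mem hu)
    · have e : ⁅h, u⁆ = h * (u * h⁻¹ * u⁻¹) := by rw [commutatorElement_def]; group
      rw [e]
      exact H.mul_mem hh ((Subgroup.mem_normalizer_iff.1 hun _).1 (H.inv_mem hh))
  have hlcomm : ∀ u ∈ U, ⁅l, u⁆ ∈ Subgroup.zpowers (a ^ p) := by
    intro u hu
    have h := hcomm u hu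
    have hlu : l * u * l⁻¹ ∈ U := (inferInstance : U.Normal).conj_mem u hu l
    have e : ⁅a, u⁆ = ⁅l, u⁆ := by
      calc ⁅a, u⁆ = v * (l * u * l⁻¹) * v⁻¹ * u⁻¹ := by rw [hal, commutatorElement_def]; group
        _ = (l * u * l⁻¹) * u⁻¹ := by rw [hUc v hv _ hlu, mul_inv_cancel_right]
        _ = ⁅l, u⁆ := by rw [commutatorElement_def]
    rwa [e] at h
  have hlz : Commute l (a ^ p) := by
    have h1 : Commute a (a ^ p) := Commute.self_pow a p
    have h2 : Commute v (a ^ p) := hUc v hv _ hap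
    have e : l = v⁻¹ * a := by rw [hal, inv_mul_cancel_left]
    rw [e]
    exact h2.inv_left.mul_left h1
  have hlfix : ∀ u ∈ U, Commute l ⁅l, u⁆ := by
    intro u hu
    obtain ⟨i, hi⟩ := Subgroup.mem_zpowers_iff.1 (hlcomm u hu)
    exact hi ▸ hlz.zpow_right i
  have hzU : Subgroup.zpowers (a ^ p) ≤ U := Subgroup.zpowers_le.2 hap
  have hpow : ∀ n : ℕ, (v * l) ^ n = v ^ n * ⁅l, v⁆ ^ n.choose 2 * l ^ n := by
    have heU : ⁅l, v⁆ ∈ U := hzU (hlcomm v hv)
    have hit : ∀ n : ℕ, l ^ n * v = ⁅l, v⁆ ^ n * v * l ^ n := by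
      intro n
      induction n with
      | zero => simp
      | succ n ih =>
        calc l ^ (n + 1) * v = l * (l ^ n * v) := by rw [pow_succ', mul_assoc]
          _ = (l * ⁅l, v⁆ ^ n) * v * l ^ n := by rw [ih]; group
          _ = (⁅l, v⁆ ^ n * l) * v * l ^ n := by rw [((hlfix v hv).pow_right n).eq]
          _ = ⁅l, v⁆ ^ n * (⁅l, v⁆ * v * l) * l ^ n := by rw [commutatorElement_def]; group
          _ = ⁅l, v⁆ ^ (n + 1) * v * l ^ (n + 1) := by
            rw [pow_succ ⁅l, v⁆ n, pow_succ' l n]; simp only [mul_assoc]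
    intro n
    induction n with
    | zero => simp
    | succ n ih =>
      have e : (n + 1).choose 2 = n.choose 2 + n := by
        rw [Nat.choose_succ_succ', Nat.choose_one_right]; ring
      calc (v * l) ^ (n + 1) = v ^ n * ⁅l, v⁆ ^ n.choose 2 * (l ^ n * v) * l := by
            rw [pow_succ, ih]; simp only [mul_assoc]
        _ = v ^ n * (⁅l, v⁆ ^ n.choose 2 * ⁅l, v⁆ ^ n * v) * (l ^ n * l) := by
            rw [hit n]; simp only [mul_assoc]
        _ = v ^ (n + 1) * ⁅l, v⁆ ^ (n + 1).choose 2 * l ^ (n + 1) := by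
            rw [← pow_add, ← e, hUc _ (U.pow_mem heU _) v hv]; simp only [pow_succ, mul_assoc]
  have hapow : a ^ p = ⁅l, v⁆ ^ p.choose 2 * l ^ p := by
    rw [hal, hpow p, hUp v hv, one_mul]
  have hlp : l ^ p ∈ U := by
    have e : l ^ p = (⁅l, v⁆ ^ p.choose 2)⁻¹ * a ^ p := by rw [hapow, inv_mul_cancel_left]
    rw [e]
    exact U.mul_mem (U.inv_mem (U.pow_mem (hzU (hlcomm v hv)) _)) hap
  have hlK : l ∉ K := by
    intro hlK
    apply hlU
    have h1 : (⟨l, hlK⟩ : K) ^ (U.subgroupOf K).index ∈ U.subgroupOf K :=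
      Subgroup.pow_index_mem _ _
    have h1' : l ^ (U.subgroupOf K).index ∈ U := h1
    obtain ⟨s, t, hst⟩ := Nat.isCoprime_iff_coprime.2 hK
    have e : (l ^ (U.subgroupOf K).index) ^ s * (l ^ p) ^ t = l := by
      rw [← zpow_natCast, ← zpow_natCast l p, ← zpow_mul, ← zpow_mul, ← zpow_add,
        mul_comm ((U.subgroupOf K).index : ℤ), mul_comm (p : ℤ)]
      erw [hst]
      exact zpow_one l
    rw [← e]
    exact U.mul_mem (U.zpow_mem h1' s) (U.zpow_mem hlp t)
  obtain ⟨h₁, hh₁, hk₁⟩ : ∃ h ∈ H, ¬ Commute h l := by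
    by_contra hall
    push Not at hall
    refine hlK (hKc l fun x hx => ?_)
    obtain ⟨u, hu, h, hh, rfl⟩ := hsplit x hx
    have e : ⁅l, u * h⁆ = ⁅l, u⁆ * (u * ⁅l, h⁆ * u⁻¹) := by simp only [commutatorElement_def]; group
    rw [e, commutatorElement_eq_one_iff_commute.2 (hall h hh).symm, mul_one, mul_inv_cancel, mul_one]
    exact hzU (hlcomm u hu)
  have hk₁H : h₁ * l * h₁⁻¹ * l⁻¹ ∈ H := by
    have e : h₁ * l * h₁⁻¹ * l⁻¹ = h₁ * (l * h₁⁻¹ * l⁻¹) := by group
    rw [e]; exact H.mul_mem hh₁ (hconjH _ (H.inv_mem hh₁))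
  -- elements of `H` that centralize `U` are trivial
  have hHU : ∀ k ∈ H, (∀ u ∈ U, Commute k u) → k = 1 := fun k hk hc =>
    hUH k (hC (Subgroup.mem_centralizer_iff.2 fun u hu => (hc u hu).symm.eq)) hk
  have hHord : ∀ k ∈ H, (orderOf k).Coprime p := fun k hk =>
    hHcop.coprime_dvd_left (Subgroup.orderOf_dvd_natCard H hk)
  set l' := h₁ * l * h₁⁻¹ with hl'
  set z := a ^ p with hz
  set z' := h₁ * z * h₁⁻¹ with hz'
  have hl'comm : ∀ u ∈ U, ⁅l', u⁆ ∈ Subgroup.zpowers z' := by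
    intro u hu
    obtain ⟨i, hi⟩ := Subgroup.mem_zpowers_iff.1
      (hlcomm (h₁⁻¹ * u * h₁) (by simpa using (inferInstance : U.Normal).conj_mem u hu h₁⁻¹))
    refine Subgroup.mem_zpowers_iff.2 ⟨i, ?_⟩
    rw [hz', conj_zpow, hi, hl', commutatorElement_def, commutatorElement_def]; group
  have hl'z : Commute l' z' := by
    show h₁ * l * h₁⁻¹ * (h₁ * z * h₁⁻¹) = h₁ * z * h₁⁻¹ * (h₁ * l * h₁⁻¹)
    calc _ = h₁ * (l * z) * h₁⁻¹ := by group
      _ = h₁ * (z * l) * h₁⁻¹ := by rw [hlz.eq]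
      _ = _ := by group
  have hzU' : z ∈ U := hap
  have hz'U : z' ∈ U := (inferInstance : U.Normal).conj_mem z hzU' h₁
  -- the group `X` generated by `z` and `z'`, and elements acting trivially modulo `X`
  set X := Subgroup.zpowers z ⊔ Subgroup.zpowers z' with hXdef
  have hXU : X ≤ U := sup_le hzU (Subgroup.zpowers_le.2 hz'U)
  have hzX : z ∈ X := Subgroup.mem_sup_left (Subgroup.mem_zpowers z)
  have hz'X : z' ∈ X := Subgroup.mem_sup_right (Subgroup.mem_zpowers z')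
  have hXmem : ∀ y ∈ X, ∃ i j : ℤ, z ^ i * z' ^ j = y := by
    intro y hy
    have hset := Subgroup.coe_mul_of_right_le_normalizer_left (Subgroup.zpowers z) (Subgroup.zpowers z') (by
      refine Subgroup.zpowers_le.2 (Subgroup.mem_normalizer_iff.2 fun s => ?_)
      constructor
      · intro hs
        rwa [hUc z' hz'U s (hzU hs), mul_inv_cancel_right]
      · intro hs
        have hsU : z' * s * z'⁻¹ ∈ U := hzU hs
        have : s ∈ U := by
          have e : s = z'⁻¹ * (z' * s * z'⁻¹) * z'⁻¹⁻¹ := by group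
          rw [e]; exact (inferInstance : U.Normal).conj_mem _ hsU _
        rwa [hUc z' hz'U s this, mul_inv_cancel_right] at hs)
    have hy' : y ∈ ((Subgroup.zpowers z : Set G) * (Subgroup.zpowers z' : Set G)) := hset ▸ hy
    obtain ⟨_, ⟨i, rfl⟩, _, ⟨j, rfl⟩, e⟩ := hy'
    exact ⟨i, j, e⟩
  let T : Subgroup G :=
    { carrier := {g | (∀ y ∈ X, g * y * g⁻¹ ∈ X) ∧ ∀ u ∈ U, ⁅g, u⁆ ∈ X}
      one_mem' := ⟨fun y hy => by simpa using hy, fun u _ => by simp⟩
      mul_mem' := fun {g g'} hg hg' => ⟨fun y hy => by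
          have e : g * g' * y * (g * g')⁻¹ = g * (g' * y * g'⁻¹) * g⁻¹ := by group
          rw [e]; exact hg.1 _ (hg'.1 y hy), fun u hu => by
          have e : ⁅g * g', u⁆ = (g * ⁅g', u⁆ * g⁻¹) * ⁅g, u⁆ := by
            simp only [commutatorElement_def]; group
          rw [e]; exact X.mul_mem (hg.1 _ (hg'.2 u hu)) (hg.2 u hu)⟩
      inv_mem' := fun {g} hg => by
        have hinv : ∀ y ∈ X, g⁻¹ * y * g⁻¹⁻¹ ∈ X := fun y hy => by
          have hy' : ⁅g, y⁆ ∈ X := hg.2 y (hXU hy)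
          have hyU : g⁻¹ * y * g⁻¹⁻¹ ∈ U := (inferInstance : U.Normal).conj_mem y (hXU hy) g⁻¹
          have h := hg.2 _ hyU
          have e : g⁻¹ * y * g⁻¹⁻¹ = (⁅g, g⁻¹ * y * g⁻¹⁻¹⁆)⁻¹ * y := by
            simp only [commutatorElement_def]; group
          rw [e]; exact X.mul_mem (X.inv_mem h) hy
        refine ⟨hinv, fun u hu => ?_⟩
        have e : ⁅g⁻¹, u⁆ = (g⁻¹ * ⁅g, u⁆ * g⁻¹⁻¹)⁻¹ := by simp only [commutatorElement_def]; group
        rw [e]; exact X.inv_mem (hinv _ (hg.2 u hu)) }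
  have hlT : l ∈ T := by
    refine ⟨fun y hy => ?_, fun u hu => Subgroup.mem_sup_left (hlcomm u hu)⟩
    have e : l * y * l⁻¹ = ⁅l, y⁆ * y := by rw [commutatorElement_def]; group
    rw [e]; exact X.mul_mem (Subgroup.mem_sup_left (hlcomm y (hXU hy))) hy
  have hl'T : l' ∈ T := by
    refine ⟨fun y hy => ?_, fun u hu => Subgroup.mem_sup_right (hl'comm u hu)⟩
    have e : l' * y * l'⁻¹ = ⁅l', y⁆ * y := by rw [commutatorElement_def]; group
    rw [e]; exact X.mul_mem (Subgroup.mem_sup_right (hl'comm y (hXU hy))) hy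
  set k := h₁ * l * h₁⁻¹ * l⁻¹ with hk
  have hk1 : k ≠ 1 := fun h => hk₁ (mul_inv_eq_iff_eq_mul.1 (mul_inv_eq_one.1 h))
  have hkT : k ∈ T := T.mul_mem hl'T (T.inv_mem hlT)
  have hfixX : ∀ g ∈ H, g ∈ T → Commute g z → Commute g z' → g = 1 := by
    intro g hg hgT h1 h2
    refine hHU g hg fun u hu => commute_of_unipotent hUp (hHord g hg) (hXU (hgT.2 u hu)) ?_
    obtain ⟨i, j, hij⟩ := hXmem _ (hgT.2 u hu)
    exact hij ▸ (h1.zpow_right i).mul_right (h2.zpow_right j)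
  -- `z` is moved by `H`
  have hzH : ¬ ∀ h ∈ H, Commute h z := by
    intro hzall
    apply hk1
    have e : z' = z := by rw [hz', (hzall h₁ hh₁).eq, mul_inv_cancel_right]
    exact hfixX k hk₁H hkT (hzall k hk₁H) (e.symm ▸ hzall k hk₁H)
  have hp2 : p = 2 := by
    by_contra hne
    apply hzH
    have hd : p ∣ p.choose 2 := hp.dvd_choose_self two_ne_zero (by have := hp.two_le; omega)
    obtain ⟨c, hc⟩ := hd
    have e : z = l ^ p := by
      refine hapow.trans ?_
      rw [hc, pow_mul, hUp _ (hzU (hlcomm v hv)), one_pow, one_mul]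
    rw [e]
    exact hcU _ hlp (Subgroup.pow_mem _ hl p)
  subst hp2
  refine ⟨rfl, ?_⟩
  have hz2 : z * z = 1 := by rw [← pow_two]; exact hUp z hzU'
  have hz'2 : z' * z' = 1 := by rw [← pow_two]; exact hUp z' hz'U
  have hzcase : ∀ y ∈ Subgroup.zpowers z, y = 1 ∨ y = z := by
    intro y hy
    obtain ⟨i, rfl⟩ := Subgroup.mem_zpowers_iff.1 hy
    have hz2' : z ^ (2 : ℤ) = 1 := by rw [zpow_two, hz2]
    rcases Int.even_or_odd i with ⟨j, rfl⟩ | ⟨j, rfl⟩
    · left; rw [← two_mul, zpow_mul, hz2', one_zpow]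
    · right; rw [zpow_add, zpow_mul, hz2', one_zpow, one_mul, zpow_one]
  have hl2 : l * l = 1 := by
    have h2 : z = ⁅l, v⁆ * (l * l) := by
      refine hapow.trans ?_
      rw [Nat.choose_self, pow_one, pow_two]
    rcases hzcase _ (hlcomm v hv) with h | h
    · exfalso
      apply hzH
      rw [h, one_mul] at h2
      rw [h2, ← pow_two]
      exact hcU _ hlp (Subgroup.pow_mem _ hl 2)
    · rw [h] at h2
      exact left_eq_mul.1 h2
  have hlinv : l⁻¹ = l := inv_eq_of_mul_eq_one_left hl2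
  -- the action of `l` and `l'` on `z`, `z'`
  have hz'case : ∀ y ∈ Subgroup.zpowers z', y = 1 ∨ y = z' := by
    intro y hy
    obtain ⟨i, rfl⟩ := Subgroup.mem_zpowers_iff.1 hy
    rw [hz', conj_zpow]
    rcases hzcase _ (Subgroup.zpow_mem_zpowers z i) with h | h
    · left; rw [h]; group
    · right; rw [h]
  have hzz' : Commute z z' := hUc z hzU' z' hz'U
  have hlz' : l * z' * l⁻¹ = z' ∨ l * z' * l⁻¹ = z * z' := by
    have e : l * z' * l⁻¹ = ⁅l, z'⁆ * z' := by rw [commutatorElement_def]; group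
    rcases hzcase _ (hlcomm z' hz'U) with h | h
    · left; rw [e, h, one_mul]
    · right; rw [e, h]
  have hl'z1 : l' * z * l'⁻¹ = z ∨ l' * z * l'⁻¹ = z * z' := by
    have e : l' * z * l'⁻¹ = ⁅l', z⁆ * z := by rw [commutatorElement_def]; group
    rcases hz'case _ (hl'comm z hzU') with h | h
    · left; rw [e, h, one_mul]
    · right; rw [e, h, hzz'.eq]
  have hlz1 : l * z * l⁻¹ = z := by rw [hlz.eq, mul_inv_cancel_right]
  have hl'z' : l' * z' * l'⁻¹ = z' := by rw [hl'z.eq, mul_inv_cancel_right]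
  have hkdef : ∀ y, k * y * k⁻¹ = l' * (l * y * l⁻¹) * l'⁻¹ := fun y => by
    have e : k = l' * l := by rw [hk, hlinv]
    rw [e]; group
  have hconj_mul : ∀ g x y : G, g * (x * y) * g⁻¹ = (g * x * g⁻¹) * (g * y * g⁻¹) := fun g x y => by group
  have hpow2 : ∀ y, k ^ 2 * y * (k ^ 2)⁻¹ = k * (k * y * k⁻¹) * k⁻¹ := fun y => by rw [pow_two]; group
  have hkodd : (orderOf k).Coprime 2 := hHord k hk₁H
  have h3 : l' * z * l'⁻¹ = z * z' ∧ l * z' * l⁻¹ = z * z' := by
    have hk2 : k ^ 2 = 1 → False := fun h => hk1 (orderOf_eq_one_iff.1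
      ((Nat.Coprime.eq_one_of_dvd hkodd (orderOf_dvd_of_pow_eq_one h))))
    rcases hl'z1 with h1 | h1 <;> rcases hlz' with h2 | h2
    · exfalso
      apply hk1
      refine hfixX k hk₁H hkT (mul_inv_eq_iff_eq_mul.1 ?_) (mul_inv_eq_iff_eq_mul.1 ?_)
      · rw [hkdef, hlz1, h1]
      · rw [hkdef, h2, hl'z']
    · exfalso
      refine hk2 (hfixX _ (H.pow_mem hk₁H 2) (T.pow_mem hkT 2) (mul_inv_eq_iff_eq_mul.1 ?_) (mul_inv_eq_iff_eq_mul.1 ?_))
      · rw [hpow2, hkdef z, hlz1, h1, hkdef z, hlz1, h1]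
      · rw [hpow2, hkdef z', h2, hconj_mul l' z z', h1, hl'z', hconj_mul k, hkdef z, hlz1, h1, hkdef z', h2,
          hconj_mul l' z z', h1, hl'z', ← mul_assoc, hz2, one_mul]
    · exfalso
      refine hk2 (hfixX _ (H.pow_mem hk₁H 2) (T.pow_mem hkT 2) (mul_inv_eq_iff_eq_mul.1 ?_) (mul_inv_eq_iff_eq_mul.1 ?_))
      · rw [hpow2, hkdef z, hlz1, h1, hconj_mul k, hkdef z, hlz1, h1, hkdef z', h2, hl'z', mul_assoc,
          hz'2, mul_one]
      · rw [hpow2, hkdef z', h2, hl'z', hkdef z', h2, hl'z']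
    · exact ⟨h1, h2⟩
  obtain ⟨h1, h2⟩ := h3
  have hkz : k * z * k⁻¹ = z * z' := by rw [hkdef, hlz1, h1]
  have hkz' : k * z' * k⁻¹ = z := by
    rw [hkdef, h2, hconj_mul, h1, hl'z', mul_assoc, hz'2, mul_one]
  have hkzz : k * (z * z') * k⁻¹ = z' := by
    rw [hconj_mul, hkz, hkz', mul_assoc, ← hzz'.eq, ← mul_assoc, hz2, one_mul]
  have hk3 : k ^ 3 = 1 := by
    have hp3 : ∀ y, k ^ 3 * y * (k ^ 3)⁻¹ = k * (k * (k * y * k⁻¹) * k⁻¹) * k⁻¹ := fun y => by
      rw [pow_succ, pow_two]; group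
    refine hfixX _ (H.pow_mem hk₁H 3) (T.pow_mem hkT 3) (mul_inv_eq_iff_eq_mul.1 ?_) (mul_inv_eq_iff_eq_mul.1 ?_)
    · rw [hp3, hkz, hkzz, hkz']
    · rw [hp3, hkz', hkz, hkzz]
  have hzne : z ≠ 1 := fun h => hzH fun h' _ => by rw [h]; exact Commute.one_right _
  have hz'ne : z' ≠ 1 := fun h => hzne (by simpa [hz'] using h)
  have hne' : z ≠ z' := by
    intro h
    have h4 : z * z' = z := h2.symm.trans (h ▸ hlz1)
    exact hz'ne (mul_eq_left.1 h4)
  -- the groups `D` and `X ⊔ D`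
  have hlkl : l * k * l⁻¹ = k⁻¹ := by
    have hl'2 : l'⁻¹ = l' := by rw [hl']; simp [mul_assoc, hlinv]
    have e : k = l' * l := by rw [hk, hlinv]
    rw [e, mul_inv_rev, hlinv, hl'2, mul_assoc, mul_assoc, hl2, mul_one]
  set D := Subgroup.zpowers k ⊔ Subgroup.zpowers l with hD
  have hlN : Subgroup.zpowers l ≤ Subgroup.normalizer (Subgroup.zpowers k : Set G) := by
    refine Subgroup.zpowers_le.2 (Subgroup.mem_normalizer_iff.2 fun s => ?_)
    have hstep : ∀ s ∈ Subgroup.zpowers k, l * s * l⁻¹ ∈ Subgroup.zpowers k := by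
      rintro _ ⟨i, rfl⟩
      show l * k ^ i * l⁻¹ ∈ _
      rw [← conj_zpow, hlkl, inv_zpow, ← zpow_neg]
      exact Subgroup.zpow_mem_zpowers _ _
    refine ⟨hstep s, fun h => ?_⟩
    have h' := hstep _ h
    have e : l * (l * s * l⁻¹) * l⁻¹ = s := by
      calc l * (l * s * l⁻¹) * l⁻¹ = (l * l) * s * (l * l)⁻¹ := by group
        _ = s := by rw [hl2]; group
    rwa [e] at h'
  have hkpow : ∀ i : ℤ, k ^ i = 1 ∨ k ^ i = k ∨ k ^ i = k ^ 2 := by
    intro i
    have h : k ^ i = k ^ (i % 3) := by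
      conv_lhs => rw [← Int.emod_add_ediv_mul i 3]
      rw [zpow_add, mul_comm (i / 3) 3, zpow_mul, show k ^ (3 : ℤ) = 1 by exact_mod_cast hk3, one_zpow, mul_one]
    have h0 := Int.emod_nonneg i (show (3 : ℤ) ≠ 0 by norm_num)
    have h3 := Int.emod_lt_of_pos i (show (0 : ℤ) < 3 by norm_num)
    rw [h]
    rcases (show i % 3 = 0 ∨ i % 3 = 1 ∨ i % 3 = 2 by omega) with e | e | e <;> rw [e]
    · left; exact zpow_zero k
    · right; left; exact zpow_one k
    · right; right; exact_mod_cast rfl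
  have hDmem : ∀ d ∈ D, ∃ i : ℤ, d = k ^ i ∨ d = k ^ i * l := by
    intro d hd
    have hd' : d ∈ ((Subgroup.zpowers k : Set G) * (Subgroup.zpowers l : Set G)) :=
      (Subgroup.coe_mul_of_right_le_normalizer_left _ _ hlN) ▸ hd
    obtain ⟨_, ⟨i, rfl⟩, _, ⟨j, rfl⟩, e⟩ := hd'
    refine ⟨i, ?_⟩
    rcases Int.even_or_odd j with ⟨t, rfl⟩ | ⟨t, rfl⟩
    · left
      rw [← e]
      show k ^ i * l ^ (t + t) = k ^ i
      rw [← two_mul, zpow_mul, zpow_two, hl2, one_zpow, mul_one]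
    · right
      rw [← e]
      show k ^ i * l ^ (2 * t + 1) = k ^ i * l
      rw [zpow_add, zpow_mul, zpow_two, hl2, one_zpow, one_mul, zpow_one]
  have hDU : ∀ d ∈ D, d ∈ U → d = 1 := by
    intro d hd hdU
    obtain ⟨i, rfl | rfl⟩ := hDmem d hd
    · exact hUH _ hdU (H.zpow_mem hk₁H i)
    · exfalso
      apply hlK
      have : l = (k ^ i)⁻¹ * (k ^ i * l) := by group
      rw [this]
      exact K.mul_mem (K.inv_mem (K.zpow_mem (hHK hk₁H) i)) (hUK hdU)
  have hDT : D ≤ T := sup_le (Subgroup.zpowers_le.2 hkT) (Subgroup.zpowers_le.2 hlT)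
  have hDX : D ≤ Subgroup.normalizer (X : Set G) := fun d hd => by
    refine Subgroup.mem_normalizer_iff.2 fun y => ⟨fun hy => (hDT hd).1 y hy, fun hy => ?_⟩
    have h := (T.inv_mem (hDT hd)).1 _ hy
    have e : d⁻¹ * (d * y * d⁻¹) * d⁻¹⁻¹ = y := by group
    rwa [e] at h
  set M := X ⊔ D with hM
  have hMmem : ∀ m ∈ M, ∃ y ∈ X, ∃ d ∈ D, m = y * d := by
    intro m hm
    have hm' : m ∈ (X : Set G) * (D : Set G) :=
      (Subgroup.coe_mul_of_right_le_normalizer_left _ _ hDX) ▸ hm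
    obtain ⟨y, hy, d, hd, e⟩ := hm'
    exact ⟨y, hy, d, hd, e.symm⟩
  haveI hXn : (X.subgroupOf M).Normal := Subgroup.normal_subgroupOf_of_le_normalizer
    (sup_le Subgroup.le_normalizer hDX)
  -- orders
  have hkord : orderOf k = 3 := by
    haveI : Fact (Nat.Prime 3) := ⟨Nat.prime_three⟩
    exact orderOf_eq_prime hk3 hk1
  have hlk : l ∉ Subgroup.zpowers k := fun h => hlK (hHK (Subgroup.zpowers_le.2 hk₁H h))
  have hD6 : Nat.card D = 6 := by
    classical
    haveI : Fact (Nat.Prime 2) := ⟨Nat.prime_two⟩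
    have hlo : orderOf l = 2 := orderOf_eq_prime (by rw [pow_two]; exact hl2) fun h => hlU (h ▸ U.one_mem)
    rw [hD, CfsgLib.Coprime.card_sup_of_le_normalizer hlN (by
      rw [disjoint_iff_inf_le]
      rintro y ⟨hy1, ⟨j, rfl⟩⟩
      rcases Int.even_or_odd j with ⟨t, rfl⟩ | ⟨t, rfl⟩
      · show l ^ (t + t) ∈ (⊥ : Subgroup G)
        rw [← two_mul, zpow_mul, zpow_two, hl2, one_zpow]; exact Subgroup.one_mem _
      · exfalso; apply hlk
        have : l ^ (2 * t + 1) = l := by rw [zpow_add, zpow_mul, zpow_two, hl2, one_zpow, one_mul, zpow_one]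
        exact this ▸ hy1), Nat.card_zpowers, Nat.card_zpowers, hkord, hlo]
  have hX4 : Nat.card X = 4 := by
    haveI : Fact (Nat.Prime 2) := ⟨Nat.prime_two⟩
    rw [hXdef, CfsgLib.Coprime.card_sup_of_le_normalizer (by
      refine Subgroup.zpowers_le.2 (Subgroup.centralizer_le_normalizer _ ?_)
      exact Subgroup.mem_centralizer_iff.2 fun s hs => by
        rcases hzcase s hs with rfl | rfl
        · rw [one_mul, mul_one]
        · exact hzz'.eq) (by
      rw [disjoint_iff_inf_le]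
      rintro y ⟨hy1, hy2⟩
      rcases hzcase y hy1 with rfl | rfl
      · exact Subgroup.one_mem _
      · rcases hz'case _ hy2 with h | h
        · exact absurd h hzne
        · exact absurd h hne'), Nat.card_zpowers, Nat.card_zpowers,
      orderOf_eq_prime (by rw [pow_two]; exact hz2) hzne, orderOf_eq_prime (by rw [pow_two]; exact hz'2) hz'ne]
  have hM24 : Nat.card M = 24 := by
    rw [hM, CfsgLib.Coprime.card_sup_of_le_normalizer hDX (by
      rw [disjoint_iff_inf_le]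
      rintro y ⟨hy1, hy2⟩
      exact Subgroup.mem_bot.2 (hDU y hy2 (hXU hy1))), hX4, hD6]
  -- the action on the cosets of `D`
  let D' := D.subgroupOf M
  have hidx : Nat.card (M ⧸ D') = 4 := by
    have h := Subgroup.card_mul_index D'
    rw [Nat.card_congr (Subgroup.subgroupOfEquivOfLe (le_sup_right (a := X))).toEquiv, hD6, hM24,
      Subgroup.index_eq_card] at h
    omega
  let f := MulAction.toPermHom M (M ⧸ D')
  have hinj : Function.Injective f := by
    rw [injective_iff_map_eq_one]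
    intro n hn
    have hfix : ∀ m : M, (m⁻¹ * n * m : M) ∈ D' := by
      intro m
      have h := congrArg (fun σ => σ (m : M ⧸ D')) hn
      have h' : ((n * m : M) : M ⧸ D') = (m : M ⧸ D') := h
      rw [QuotientGroup.eq] at h'
      have h'' := D'.inv_mem h'
      rw [mul_inv_rev, inv_inv, ← mul_assoc] at h''
      exact h''
    have hnD : (n : G) ∈ D := by
      have h := hfix 1
      simpa [D', Subgroup.mem_subgroupOf] using h
    have hcX : ∀ y ∈ X, Commute (n : G) y := by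
      intro y hy
      have hyM : y ∈ M := Subgroup.mem_sup_left hy
      have h := hfix (⟨y, hyM⟩⁻¹)
      have h' : y * n * y⁻¹ ∈ D := by simpa [D', Subgroup.mem_subgroupOf] using h
      refine commutatorElement_eq_one_iff_commute.1 (hDU _ ?_ ?_)
      · have e : ⁅(n : G), y⁆ = n * (y * n * y⁻¹)⁻¹ := by rw [commutatorElement_def]; group
        rw [e]; exact D.mul_mem hnD (D.inv_mem h')
      · exact hXU ((hDT hnD).2 y (hXU hy))
    have key : ∀ i : ℤ, k ^ i * z * (k ^ i)⁻¹ = z → k ^ i = 1 := by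
      intro i hi
      rcases hkpow i with e | e | e
      · exact e
      · exfalso; rw [e, hkz, mul_eq_left] at hi; exact hz'ne hi
      · exfalso; rw [e, hpow2, hkz, hkzz] at hi; exact hne' hi.symm
    obtain ⟨i, hi | hi⟩ := hDmem _ hnD
    · refine Subtype.ext ?_
      rw [hi]
      exact key i (mul_inv_eq_iff_eq_mul.2 (hi ▸ hcX z hzX))
    · exfalso
      have hn1 : (n : G) * z * (n : G)⁻¹ = z := mul_inv_eq_iff_eq_mul.2 (hcX z hzX)
      have e : (n : G) * z * (n : G)⁻¹ = k ^ i * (l * z * l⁻¹) * (k ^ i)⁻¹ := by rw [hi]; group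
      rw [e, hlz1] at hn1
      have hk0 := key i hn1
      have hn2 : (n : G) * z' * (n : G)⁻¹ = z' := mul_inv_eq_iff_eq_mul.2 (hcX z' hz'X)
      rw [hi, hk0, one_mul, h2] at hn2
      exact hzne (mul_eq_right.1 hn2)
  classical
  haveI : Fintype M := Fintype.ofFinite _
  haveI : Fintype (M ⧸ D') := Fintype.ofFinite _
  have hbij : Function.Bijective f := by
    refine (Fintype.bijective_iff_injective_and_card f).2 ⟨hinj, ?_⟩
    rw [Fintype.card_perm, ← Nat.card_eq_fintype_card, ← Nat.card_eq_fintype_card, hM24, hidx]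
    rfl
  let e : Equiv.Perm (M ⧸ D') ≃* Equiv.Perm (Fin 4) :=
    ((Fintype.equivFinOfCardEq (by rw [← Nat.card_eq_fintype_card, hidx])).permCongrHom)
  refine ⟨M, ⊥, inferInstance, ⟨?_⟩⟩
  exact ((QuotientGroup.quotientMulEquivOfEq (Subgroup.bot_subgroupOf M)).trans
    QuotientGroup.quotientBot).trans ((MulEquiv.ofBijective f hbij).trans e)

theorem main {p : ℕ} [Fact p.Prime] (hG : Cfsg.IsPSolvable p G) (P : Sylow p G) (A : Subgroup G)
    (hAP : A ≤ (P : Subgroup G)) (hAn : (P : Subgroup G) ≤ Subgroup.normalizer (A : Set G))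
    (hA : IsCyclic A) (h : p ≠ 2 ∨ ¬ Cfsg.Involves (Equiv.Perm (Fin 4)) G) :
    A ≤ Cfsg.pPrimePCore p G := by
  have hp : p.Prime := Fact.out
  haveI : (Cfsg.pPrimeCore p G).Normal := CfsgLib.Solvable.Cores.pPrimeCore_normal p
  set π := QuotientGroup.mk' (Cfsg.pPrimeCore p G) with hπ
  have hπs : Function.Surjective π := QuotientGroup.mk'_surjective _
  set U₁ := Cfsg.pCore p (G ⧸ Cfsg.pPrimeCore p G) with hU₁
  haveI : U₁.Normal := CfsgLib.Solvable.Cores.pCore_normal p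
  have hU₁p : IsPGroup p U₁ := CfsgLib.Solvable.Cores.isPGroup_pCore p
  have hG₁ : Cfsg.IsPSolvable p (G ⧸ Cfsg.pPrimeCore p G) :=
    CfsgLib.Fusion.PSolvable.psolvable_quotient hG _
  have hC₁ : Subgroup.centralizer (U₁ : Set (G ⧸ Cfsg.pPrimeCore p G)) ≤ U₁ :=
    CfsgLib.Fusion.PSolvable.centralizer_pCore_le hG₁ CfsgLib.Components.pPrimeCore_quotient_eq_bot
  -- pass to the Frattini quotient
  set Φ := (frattini ↥U₁).map U₁.subtype with hΦ
  haveI : Φ.Normal := inferInstance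
  set ψ := QuotientGroup.mk' Φ with hψ
  have hψs : Function.Surjective ψ := QuotientGroup.mk'_surjective _
  have hΦU : Φ ≤ U₁ := Subgroup.map_subtype_le _
  set U := U₁.map ψ with hU
  haveI : U.Normal := Subgroup.Normal.map inferInstance ψ hψs
  have hUcomap : U.comap ψ = U₁ := by
    rw [hU, Subgroup.comap_map_eq, hψ, QuotientGroup.ker_mk', sup_eq_left.2 hΦU]
  have hUc : ∀ u ∈ U, ∀ v ∈ U, u * v = v * u := by
    rintro _ ⟨x, hx, rfl⟩ _ ⟨y, hy, rfl⟩
    rw [← commutatorElement_eq_one_iff_mul_comm, ← map_commutatorElement]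
    exact (QuotientGroup.eq_one_iff _).mpr ⟨⁅(⟨x, hx⟩ : U₁), ⟨y, hy⟩⁆,
      CfsgLib.PGroup.Frattini.commutatorElement_mem_frattini hU₁p _ _, rfl⟩
  have hUpow : ∀ u ∈ U, u ^ p = 1 := by
    rintro _ ⟨x, hx, rfl⟩
    rw [← map_pow]
    exact (QuotientGroup.eq_one_iff _).mpr ⟨(⟨x, hx⟩ : U₁) ^ p,
      CfsgLib.PGroup.Frattini.pow_mem_frattini hU₁p _, rfl⟩
  have hC : Subgroup.centralizer (U : Set _) ≤ U := by
    set C := (Subgroup.centralizer (U : Set _)).comap ψ with hCdef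
    haveI : (Subgroup.centralizer (U : Set ((G ⧸ Cfsg.pPrimeCore p G) ⧸ Φ))).Normal :=
      Subgroup.normal_centralizer
    haveI : C.Normal := Subgroup.Normal.comap inferInstance ψ
    have hCp : IsPGroup p C := by
      rintro ⟨x, hx⟩
      obtain ⟨x₁, b, hxab, ⟨i, hi⟩, hb, -, hbmem⟩ : ∃ x₁ b : G ⧸ Cfsg.pPrimeCore p G, x = x₁ * b ∧
          (∃ i, orderOf x₁ = p ^ i) ∧ (orderOf b).Coprime p ∧ x₁ ∈ Subgroup.zpowers x ∧ b ∈ Subgroup.zpowers x :=
        CfsgLib.Fusion.ZJConstrained.isPStableOn_quotient.exists_parts x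
      have hbC : b ∈ C := Subgroup.zpowers_le.mpr hx hbmem
      have hbU : b ∈ U₁ := hC₁ (CfsgLib.Coprime.le_centralizer_of_frattini (A := Subgroup.zpowers b)
        (K := U₁) (by rw [Subgroup.normalizer_eq_top]; exact le_top) (by
          obtain ⟨j, hj⟩ := (hU₁p.to_subgroup (frattini ↥U₁)).exists_card_eq
          rw [Nat.card_zpowers, hj]
          exact hb.pow_right j) (by
          intro c hc y hy
          have hc' : c ∈ C := Subgroup.zpowers_le.2 hbC hc
          rw [← hΦ, ← QuotientGroup.eq_one_iff]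
          show ψ ⁅c, y⁆ = 1
          rw [map_commutatorElement, commutatorElement_eq_one_iff_mul_comm]
          exact (Subgroup.mem_centralizer_iff.mp hc' _ (Subgroup.mem_map_of_mem _ hy)).symm)
        (Subgroup.mem_zpowers b))
      obtain ⟨j, hj⟩ := hU₁p ⟨b, hbU⟩
      have hb1 : b = 1 := by
        have h1 : orderOf b ∣ p ^ j := orderOf_dvd_of_pow_eq_one (congrArg Subtype.val hj)
        rw [← orderOf_eq_one_iff]
        exact Nat.Coprime.eq_one_of_dvd (hb.pow_right j) h1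
      exact ⟨i, Subtype.ext (by rw [Subgroup.coe_pow]; show x ^ p ^ i = 1
                                rw [hxab, hb1, mul_one, ← hi, pow_orderOf_eq_one])⟩
    intro y hy
    obtain ⟨x, rfl⟩ := hψs y
    exact Subgroup.mem_map_of_mem ψ (CfsgLib.Solvable.Cores.le_pCore hCp (show x ∈ C from hy))
  -- the `p'`-core above `U`
  set θ := QuotientGroup.mk' U with hθ
  have hθs : Function.Surjective θ := QuotientGroup.mk'_surjective _
  have hθsolv : Cfsg.IsPSolvable p (((G ⧸ Cfsg.pPrimeCore p G) ⧸ Φ) ⧸ U) :=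
    CfsgLib.Fusion.PSolvable.psolvable_quotient (CfsgLib.Fusion.PSolvable.psolvable_quotient hG₁ Φ) U
  have hO : Cfsg.pCore p (((G ⧸ Cfsg.pPrimeCore p G) ⧸ Φ) ⧸ U) = ⊥ := by
    set N := Cfsg.pCore p (((G ⧸ Cfsg.pPrimeCore p G) ⧸ Φ) ⧸ U)
    haveI : N.Normal := CfsgLib.Solvable.Cores.pCore_normal p
    have hker : (θ.comp ψ).ker = U₁ := by
      rw [← MonoidHom.comap_ker, hθ, QuotientGroup.ker_mk', hUcomap]
    have hNp : IsPGroup p (N.comap (θ.comp ψ)) :=
      (CfsgLib.Solvable.Cores.isPGroup_pCore p).comap_of_ker_isPGroup _ (by rw [hker]; exact hU₁p)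
    have hle : N.comap (θ.comp ψ) ≤ U₁ := CfsgLib.Solvable.Cores.le_pCore hNp
    rw [eq_bot_iff]
    intro y hy
    obtain ⟨x, rfl⟩ := (hθs.comp hψs) y
    have h1 : x ∈ U₁ := hle hy
    rw [← hker] at h1
    exact Subgroup.mem_bot.2 (MonoidHom.mem_ker.1 h1)
  set R := Cfsg.pPrimeCore p (((G ⧸ Cfsg.pPrimeCore p G) ⧸ Φ) ⧸ U) with hR
  haveI : R.Normal := CfsgLib.Solvable.Cores.pPrimeCore_normal p
  set K := R.comap θ with hK
  haveI : K.Normal := Subgroup.Normal.comap inferInstance θ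
  have hUK : U ≤ K := QuotientGroup.le_comap_mk' U R
  have hKrel : (U.relIndex K).Coprime p := by
    have e : U = (⊥ : Subgroup _).comap θ := by rw [MonoidHom.comap_bot]; exact (QuotientGroup.ker_mk' _).symm
    rw [e, hK, Subgroup.relIndex_comap, Subgroup.map_comap_eq_self_of_surjective hθs,
      Subgroup.relIndex_bot_left]
    exact CfsgLib.Solvable.Cores.coprime_card_pPrimeCore p
  have hKc : ∀ g, (∀ x ∈ K, ⁅g, x⁆ ∈ U) → g ∈ K := by
    intro g hg
    refine CfsgLib.Fusion.FailureFactor.centralizer_pPrimeCore_le hθsolv hO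
      (Subgroup.mem_centralizer_iff.2 fun y hy => ?_)
    obtain ⟨x, rfl⟩ := hθs y
    have h1 : θ ⁅g, x⁆ = 1 := (QuotientGroup.eq_one_iff _).2 (hg x hy)
    rw [map_commutatorElement, commutatorElement_eq_one_iff_mul_comm] at h1
    exact h1.symm
  -- the generator
  obtain ⟨⟨g, hgA⟩, hgen⟩ := hA.exists_generator
  have hAgen : A = Subgroup.zpowers g := by
    refine le_antisymm (fun y hy => ?_) (Subgroup.zpowers_le.2 hgA)
    obtain ⟨i, hi⟩ := Subgroup.mem_zpowers_iff.1 (hgen ⟨y, hy⟩)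
    exact Subgroup.mem_zpowers_iff.2 ⟨i, congrArg Subtype.val hi⟩
  rw [hAgen, Subgroup.zpowers_le]
  show π g ∈ U₁
  by_contra hgU
  have hb0 : ψ (π g) ∉ U := fun hm => hgU (hUcomap ▸ (Subgroup.mem_comap.2 hm))
  -- a power of the generator just outside `U`
  obtain ⟨j, hj, hjp⟩ : ∃ j : ℕ, ψ (π g) ^ p ^ j ∉ U ∧ (ψ (π g) ^ p ^ j) ^ p ∈ U := by
    obtain ⟨m, hm⟩ := P.isPGroup' ⟨g, hAP hgA⟩
    have hm' : ψ (π g) ^ p ^ m = 1 := by
      rw [← map_pow, ← map_pow, show g ^ p ^ m = 1 from congrArg Subtype.val hm, map_one, map_one]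
    classical
    have hex : ∃ j, ψ (π g) ^ p ^ j ∈ U := ⟨m, by rw [hm']; exact U.one_mem⟩
    have h0 : Nat.find hex ≠ 0 := fun h0 => by
      have := Nat.find_spec hex
      rw [h0, pow_zero, pow_one] at this
      exact hb0 this
    refine ⟨Nat.find hex - 1, Nat.find_min hex (by omega), ?_⟩
    rw [← pow_mul, ← pow_succ, Nat.sub_add_cancel (Nat.one_le_iff_ne_zero.2 h0)]
    exact Nat.find_spec hex
  set b := ψ (π g) ^ p ^ j with hb
  have hUP : U ≤ ((P : Subgroup G).map π).map ψ := by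
    refine Subgroup.map_mono ?_
    have h1 := CfsgLib.Solvable.Cores.pCore_le_sylow (P.mapSurjective hπs)
    exact h1
  have hcomm : ∀ u ∈ U, ⁅b, u⁆ ∈ Subgroup.zpowers (b ^ p) := by
    intro u hu
    refine mem_zpowers_pow hp hj hjp ?_ ?_
    · obtain ⟨_, ⟨x, hx, rfl⟩, rfl⟩ := hUP hu
      have hxA : x * (g ^ p ^ j)⁻¹ * x⁻¹ ∈ A :=
        (Subgroup.mem_normalizer_iff.1 (hAn hx) _).1 (A.inv_mem (A.pow_mem hgA _))
      obtain ⟨i, hi⟩ := Subgroup.mem_zpowers_iff.1 (show x * g * x⁻¹ ∈ Subgroup.zpowers g from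
        hAgen ▸ (Subgroup.mem_normalizer_iff.1 (hAn hx) _).1 hgA)
      refine Subgroup.mem_zpowers_iff.2 ⟨1 - i, ?_⟩
      have e : ⁅g ^ p ^ j, x⁆ = (g ^ p ^ j) ^ (1 - i) := by
        rw [commutatorElement_def, mul_assoc, mul_assoc, ← mul_assoc x, ← inv_pow, ← conj_pow,
          show x * g⁻¹ * x⁻¹ = (x * g * x⁻¹)⁻¹ by group, ← hi, ← zpow_neg, ← zpow_natCast,
          ← zpow_natCast, ← zpow_mul, ← zpow_mul, ← zpow_add]
        congr 1; ring
      rw [hb, ← map_pow, ← map_pow, ← map_commutatorElement, ← map_commutatorElement, e, map_zpow, map_zpow]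
    · rw [commutatorElement_def]
      exact U.mul_mem ((inferInstance : U.Normal).conj_mem u hu b) (U.inv_mem hu)
  obtain ⟨hp2, hinv⟩ := core U K hUK hUc hUpow hC hKrel hKc b hj hjp hcomm
  rcases h with h | h
  · exact h hp2
  · exact h (involves_of_quotient π hπs (involves_of_quotient ψ hψs hinv))

end Helpers

/-- Let G be a finite p-soluble group, P a Sylow p-subgroup of G and A a cyclic normal subgroup of P. If p is odd, or if no section of G is isomorphic to the symmetric group of degree 4, then A ≤ O_{p',p}(G). -/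
theorem result {G : Type*} [Group G] [Finite G] {p : ℕ} [Fact p.Prime] (hG : Cfsg.IsPSolvable p G) (P : Sylow p G) (A : Subgroup G) (hAP : A ≤ (P : Subgroup G)) (hAn : (P : Subgroup G) ≤ Subgroup.normalizer (A : Set G)) (hA : IsCyclic A) (h : p ≠ 2 ∨ ¬ Cfsg.Involves (Equiv.Perm (Fin 4)) G) : A ≤ Cfsg.pPrimePCore p G := by
  exact main hG P A hAP hAn hA h

end Cfsg.Agent.S3788
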