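import Cfsg.Statements.S3790
import Cfsg.Agent.Lib.Solvable.Cores
import Cfsg.Agent.Lib.OddOrder.PLengthOne
-- import your own Cfsg.Agent.* helpers here

set_option autoImplicit false
open Cfsg

namespace Cfsg.Agent.S3790

section Helpers

variable {G : Type*} [Group G] [Finite G] {p : ℕ}

/-- The `n`-th term of the upper `p`-series. -/
abbrev U (p : ℕ) (G : Type*) [Group G] (n : ℕ) : Subgroup G := (Cfsg.upperPSeries p G n).1

omit [Finite G] in
theorem U_odd (i : ℕ) : haveI := (Cfsg.upperPSeries p G (2 * i)).2; U p G (2 * i + 1) =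
    (Cfsg.pPrimeCore p (G ⧸ U p G (2 * i))).comap (QuotientGroup.mk' (U p G (2 * i))) := by
  show (Cfsg.upperPSeries p G (2 * i + 1)).1 = _
  rw [Cfsg.upperPSeries, if_pos (even_two_mul i)]

omit [Finite G] in
theorem U_even (i : ℕ) : haveI := (Cfsg.upperPSeries p G (2 * i + 1)).2; U p G (2 * i + 2) =
    (Cfsg.pCore p (G ⧸ U p G (2 * i + 1))).comap (QuotientGroup.mk' (U p G (2 * i + 1))) := by
  show (Cfsg.upperPSeries p G (2 * i + 1 + 1)).1 = _
  rw [Cfsg.upperPSeries, if_neg (Nat.not_even_two_mul_add_one i)]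

omit [Finite G] in
theorem relIndex_eq_card_map (N K : Subgroup G) [N.Normal] :
    Nat.card (K.map (QuotientGroup.mk' N)) = N.relIndex K := by
  rw [← Subgroup.relIndex_ker, QuotientGroup.ker_mk']

omit [Finite G] in
theorem U_mono {a b : ℕ} (h : a ≤ b) : U p G a ≤ U p G b := by
  induction h with
  | refl => exact le_rfl
  | @step m _ ih =>
    refine ih.trans ?_
    haveI := (Cfsg.upperPSeries p G m).2
    show U p G m ≤ (Cfsg.upperPSeries p G (m + 1)).1
    rw [Cfsg.upperPSeries]
    split <;> exact QuotientGroup.le_comap_mk' _ _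

/-- A normal subgroup which is a `p'`-group modulo an odd term lies in that term. -/
theorem le_odd (i : ℕ) (K : Subgroup G) [K.Normal] (h : ((U p G (2 * i + 1)).relIndex K).Coprime p) :
    K ≤ U p G (2 * i + 1) := by
  haveI hA := (Cfsg.upperPSeries p G (2 * i)).2
  haveI hB := (Cfsg.upperPSeries p G (2 * i + 1)).2
  set A := U p G (2 * i)
  set B := U p G (2 * i + 1)
  have hAB : A ≤ B := U_mono (Nat.le_succ _)
  haveI : (K ⊔ B).Normal := Subgroup.sup_normal K B
  have h1 : A.relIndex B = Nat.card (Cfsg.pPrimeCore p (G ⧸ A)) := by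
    rw [← relIndex_eq_card_map A B, show B = _ from U_odd i,
      Subgroup.map_comap_eq_self_of_surjective (QuotientGroup.mk'_surjective A)]
  have h2 : (A.relIndex (K ⊔ B)).Coprime p := by
    rw [← Subgroup.relIndex_mul_relIndex A B (K ⊔ B) hAB le_sup_right, h1, Subgroup.relIndex_sup_right]
    exact (CfsgLib.Solvable.Cores.coprime_card_pPrimeCore p).mul_left h
  haveI : ((K ⊔ B).map (QuotientGroup.mk' A)).Normal :=
    Subgroup.Normal.map inferInstance _ (QuotientGroup.mk'_surjective A)
  have h4 : (K ⊔ B).map (QuotientGroup.mk' A) ≤ Cfsg.pPrimeCore p (G ⧸ A) :=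
    CfsgLib.Solvable.Cores.le_pPrimeCore (by rwa [relIndex_eq_card_map])
  show K ≤ U p G (2 * i + 1)
  rw [U_odd]
  exact le_sup_left.trans (Subgroup.map_le_iff_le_comap.1 h4)

/-- A normal subgroup which is a `p`-group modulo an odd term lies in the next one. -/
theorem le_even (hp : p.Prime) (i : ℕ) (K : Subgroup G) [K.Normal]
    (h : ∀ s : ℕ, s.Prime → s ∣ (U p G (2 * i + 1)).relIndex K → s = p) : K ≤ U p G (2 * i + 2) := by
  haveI hB := (Cfsg.upperPSeries p G (2 * i + 1)).2
  haveI := Fact.mk hp
  haveI : (K.map (QuotientGroup.mk' (U p G (2 * i + 1)))).Normal :=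
    Subgroup.Normal.map inferInstance _ (QuotientGroup.mk'_surjective _)
  rw [U_even, ← Subgroup.map_le_iff_le_comap]
  refine CfsgLib.Solvable.Cores.le_pCore ?_
  refine IsPGroup.of_card (n := (Nat.card (K.map (QuotientGroup.mk' (U p G (2 * i + 1))))).primeFactorsList.length)
    (Nat.eq_prime_pow_of_unique_prime_dvd Nat.card_pos.ne' fun {d} hd hdd => ?_)
  exact h d hd (relIndex_eq_card_map (U p G (2 * i + 1)) K ▸ hdd)

theorem raise (hp : p.Prime) {r : ℕ} (q : Fin r → ℕ) (hq : ∀ i, (q i).Prime ∧ q i ≠ p) (l : Fin r → ℕ)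
    (hl : ∀ i, Cfsg.PLengthLE (q i) (l i) G) : ∀ (S : Finset (Fin r)) (a : ℕ) (A B : Subgroup G),
      A.Normal → B.Normal → A ≤ B → (∀ s : ℕ, s.Prime → s ∣ A.relIndex B → s = p ∨ ∃ i ∈ S, q i = s) →
      A ≤ U p G (2 * a + 1) → B ≤ U p G (2 * (a + S.prod fun i => 1 + l i) + 1) := by
  intro S
  induction S using Finset.induction_on with
  | empty =>
    intro a A B hA hB hAB hdvd hAU
    haveI := hB
    rw [Finset.prod_empty]
    refine (le_even hp a B fun s hs hsd => ?_).trans (U_mono (by omega))
    rcases hdvd s hs (hsd.trans (Subgroup.relIndex_dvd_of_le_left B hAU)) with h | ⟨i, hi, -⟩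
    · exact h
    · simp at hi
  | @insert j S hj ih =>
    intro a A B hA hB hAB hdvd hAU
    rw [Finset.prod_insert hj]
    set m := S.prod fun i => 1 + l i
    let V : ℕ → Subgroup G := fun k => U (q j) G k
    let C : ℕ → Subgroup G := fun k => A ⊔ (B ⊓ V k)
    have hVn : ∀ k, (V k).Normal := fun k => (Cfsg.upperPSeries (q j) G k).2
    have hCn : ∀ k, (C k).Normal := fun k => by
      haveI := hVn k; haveI := hA; haveI := hB
      haveI : (B ⊓ V k).Normal := inferInstance
      exact Subgroup.sup_normal A (B ⊓ V k)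
    have hCle : ∀ k, C k ≤ C (k + 1) := fun k =>
      sup_le_sup_left (inf_le_inf_left B (U_mono (Nat.le_succ k))) A
    have hfac : ∀ k, (C k).relIndex (C (k + 1)) ∣ (V k).relIndex (V (k + 1)) ∧
        (C k).relIndex (C (k + 1)) ∣ A.relIndex B := by
      intro k
      constructor
      · haveI := hVn k; haveI := hCn k
        have e : C (k + 1) = (B ⊓ V (k + 1)) ⊔ C k := by
          refine le_antisymm (sup_le (le_sup_left.trans le_sup_right) le_sup_left) (sup_le le_sup_right (hCle k))
        rw [e, Subgroup.relIndex_sup_right]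
        refine (Subgroup.relIndex_dvd_of_le_left _ (le_sup_right : B ⊓ V k ≤ C k)).trans ?_
        have e2 : (B ⊓ V k).relIndex (B ⊓ V (k + 1)) = (V k).relIndex (B ⊓ V (k + 1)) := by
          have h' : (V k ⊓ (B ⊓ V (k + 1))) = B ⊓ V k := by
            have := U_mono (p := q j) (G := G) (Nat.le_succ k)
            exact le_antisymm (le_inf (inf_le_right.trans inf_le_left) inf_le_left)
              (le_inf inf_le_right (le_inf inf_le_left (inf_le_right.trans this)))
          rw [← h', Subgroup.inf_relIndex_right]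
        rw [e2, ← relIndex_eq_card_map (V k), ← relIndex_eq_card_map (V k)]
        exact Subgroup.card_dvd_of_le (Subgroup.map_mono inf_le_right)
      · have h1 : A ≤ C k := le_sup_left
        have h2 : C (k + 1) ≤ B := sup_le hAB inf_le_left
        refine (Subgroup.relIndex_dvd_of_le_left _ h1).trans ?_
        haveI := hA
        rw [← relIndex_eq_card_map A, ← relIndex_eq_card_map A]
        exact Subgroup.card_dvd_of_le (Subgroup.map_mono h2)
    -- the even steps
    have hq' : ∀ i a', C (2 * i) ≤ U p G (2 * a' + 1) → C (2 * i + 1) ≤ U p G (2 * (a' + m) + 1) := by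
      intro i a' h
      refine ih a' (C (2 * i)) (C (2 * i + 1)) (hCn _) (hCn _) (hCle _) (fun s hs hsd => ?_) h
      obtain ⟨h1, h2⟩ := hfac (2 * i)
      rcases hdvd s hs (hsd.trans h2) with h3 | ⟨t, ht, rfl⟩
      · exact Or.inl h3
      rcases Finset.mem_insert.1 ht with rfl | ht'
      · exfalso
        haveI := hVn (2 * i)
        have hcop : ((V (2 * i)).relIndex (V (2 * i + 1))).Coprime (q t) := by
          rw [← relIndex_eq_card_map (V (2 * i))]
          show (Nat.card ↥(Subgroup.map _ (U (q t) G (2 * i + 1)))).Coprime (q t)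
          rw [U_odd, Subgroup.map_comap_eq_self_of_surjective (QuotientGroup.mk'_surjective _)]
          exact CfsgLib.Solvable.Cores.coprime_card_pPrimeCore _
        exact hs.ne_one (Nat.eq_one_of_dvd_coprimes hcop (hsd.trans h1) dvd_rfl)
      · exact Or.inr ⟨t, ht', rfl⟩
    -- the odd steps
    have hq : ∀ i a', C (2 * i + 1) ≤ U p G (2 * a' + 1) → C (2 * i + 2) ≤ U p G (2 * a' + 1) := by
      intro i a' h
      haveI := hCn (2 * i + 2)
      refine le_odd a' (C (2 * i + 2)) ?_
      refine Nat.Coprime.coprime_dvd_left (Subgroup.relIndex_dvd_of_le_left _ h) ?_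
      refine Nat.Coprime.coprime_dvd_left (hfac (2 * i + 1)).1 ?_
      haveI := hVn (2 * i + 1)
      haveI := Fact.mk (hq j).1
      rw [← relIndex_eq_card_map (V (2 * i + 1))]
      show (Nat.card ↥(Subgroup.map _ (U (q j) G (2 * i + 2)))).Coprime p
      rw [U_even, Subgroup.map_comap_eq_self_of_surjective (QuotientGroup.mk'_surjective _)]
      obtain ⟨k, hk⟩ := (CfsgLib.Solvable.Cores.isPGroup_pCore (G := G ⧸ U (q j) G (2 * i + 1)) (q j)).exists_card_eq
      rw [hk]
      exact Nat.Coprime.pow_left k ((Nat.coprime_primes (hq j).1 hp).2 (hq j).2)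
    have hall : ∀ i, C (2 * i + 1) ≤ U p G (2 * (a + (i + 1) * m) + 1) := by
      intro i
      induction i with
      | zero =>
        have h0 : C 0 ≤ U p G (2 * a + 1) := sup_le hAU (inf_le_right.trans (le_of_eq_of_le
          (by show U (q j) G 0 = ⊥; rw [U, Cfsg.upperPSeries]) bot_le))
        simpa using hq' 0 a h0
      | succ i ihi =>
        have h := hq' (i + 1) (a + (i + 1) * m) (by
          rw [show 2 * (i + 1) = 2 * i + 2 by ring]; exact hq i _ ihi)
        rw [show a + (i + 1 + 1) * m = a + (i + 1) * m + m by ring]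
        exact h
    have h := hall (l j)
    have htop : V (2 * l j + 1) = ⊤ := hl j
    rw [show C (2 * l j + 1) = B by
      show A ⊔ (B ⊓ V (2 * l j + 1)) = B
      rw [htop, inf_top_eq, sup_eq_right.2 hAB]] at h
    rwa [show 1 + l j = l j + 1 by ring]

end Helpers

/-- Let G be a finite solvable group and p a prime. Suppose p₁, …, p_r are distinct primes, all different from p, that include every prime dividing the order of G other than p, and that G has p_i-length at most l_i for each i. Then G has p-length at most the product of the numbers 1 + l_i. -/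
theorem result {G : Type*} [Group G] [Finite G] (hG : Group.IsSolvable G) (p : ℕ) [Fact p.Prime] (r : ℕ) (q : Fin r → ℕ) (hq : ∀ i, (q i).Prime ∧ q i ≠ p) (hinj : Function.Injective q) (hcover : ∀ s : ℕ, s.Prime → s ∣ Nat.card G → s ≠ p → ∃ i, q i = s) (l : Fin r → ℕ) (hl : ∀ i, Cfsg.PLengthLE (q i) (l i) G) : Cfsg.PLengthLE p (Finset.univ.prod fun i => 1 + l i) G := by
  have h := raise (G := G) (Fact.out : p.Prime) q hq l hl Finset.univ 0 ⊥ ⊤ inferInstance inferInstance bot_le
    (fun s hs hsd => by
      rw [Subgroup.relIndex_top_right, Subgroup.index_bot] at hsd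
      by_cases h : s = p
      · exact Or.inl h
      · obtain ⟨i, hi⟩ := hcover s hs hsd h
        exact Or.inr ⟨i, Finset.mem_univ i, hi⟩) bot_le
  rw [zero_add] at h
  exact top_le_iff.1 h

end Cfsg.Agent.S3790
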