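import Cfsg.Statements.S3791
import Cfsg.Agent.Lib.Solvable.Cores
import Cfsg.Agent.Lib.OddOrder.PLengthOne

set_option autoImplicit false
open Cfsg

namespace Cfsg.Agent.S3791

universe u

open CfsgLib

variable {p : ℕ}

theorem step {G H : Type*} [Group G] [Finite G] [Group H] [Finite H] (f : G →* H)
    (hf : Function.Surjective f) (m n : ℕ) (hpar : Even m ↔ Even n)
    (h : (upperPSeries p G m).1.map f ≤ (upperPSeries p H n).1) :
    (upperPSeries p G (m + 1)).1.map f ≤ (upperPSeries p H (n + 1)).1 := by
  haveI hA : (upperPSeries p G m).1.Normal := (upperPSeries p G m).2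
  haveI hB : (upperPSeries p H n).1.Normal := (upperPSeries p H n).2
  let φ := QuotientGroup.map (upperPSeries p G m).1 (upperPSeries p H n).1 f
    (Subgroup.map_le_iff_le_comap.mp h)
  have hφ : Function.Surjective φ := by
    intro y
    obtain ⟨y, rfl⟩ := QuotientGroup.mk'_surjective _ y
    obtain ⟨x, rfl⟩ := hf y
    exact ⟨QuotientGroup.mk x, rfl⟩
  rw [upperPSeries, upperPSeries]
  by_cases hm : Even m
  · simp only [hm, hpar.mp hm, if_true]
    rintro _ ⟨x, hx, rfl⟩
    have hmem : φ (QuotientGroup.mk' _ x) ∈ (pPrimeCore p (G ⧸ (upperPSeries p G m).1)).map φ :=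
      Subgroup.mem_map_of_mem φ hx
    haveI : ((pPrimeCore p (G ⧸ (upperPSeries p G m).1)).map φ).Normal :=
      Subgroup.Normal.map inferInstance φ hφ
    exact Solvable.Cores.le_pPrimeCore ((Solvable.Cores.coprime_card_pPrimeCore p).coprime_dvd_left
      (Subgroup.card_map_dvd _ φ)) hmem
  · simp only [hm, mt hpar.mpr hm, if_false]
    rintro _ ⟨x, hx, rfl⟩
    have hmem : φ (QuotientGroup.mk' _ x) ∈ (pCore p (G ⧸ (upperPSeries p G m).1)).map φ :=
      Subgroup.mem_map_of_mem φ hx
    haveI : ((pCore p (G ⧸ (upperPSeries p G m).1)).map φ).Normal :=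
      Subgroup.Normal.map inferInstance φ hφ
    exact Solvable.Cores.le_pCore ((Solvable.Cores.isPGroup_pCore p).map φ) hmem

theorem steps {G H : Type*} [Group G] [Finite G] [Group H] [Finite H] (f : G →* H)
    (hf : Function.Surjective f) (a : ℕ) (ha : Even a)
    (h : (upperPSeries p G a).1.map f ≤ (upperPSeries p H 0).1) :
    ∀ n, (upperPSeries p G (a + n)).1.map f ≤ (upperPSeries p H n).1 := by
  intro n
  induction n with
  | zero => exact h
  | succ n ih => exact step f hf (a + n) n (by simp [Nat.even_add, ha]) ih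

theorem eq_top_of_map {G H : Type*} [Group G] [Group H] (f : G →* H) (hf : Function.Surjective f)
    {A : Subgroup G} {B : Subgroup H} (hA : A = ⊤) (h : A.map f ≤ B) : B = ⊤ :=
  eq_top_iff.mpr ((Subgroup.map_top_of_surjective f hf ▸ hA ▸ h :))

theorem derived_add_le {G : Type*} [Group G] (F : Subgroup G) (a : ℕ) (h : derivedSeries G a ≤ F) :
    ∀ b, derivedSeries G (a + b) ≤ (derivedSeries F b).map F.subtype := by
  intro b
  induction b with
  | zero => rw [derivedSeries_zero, ← MonoidHom.range_eq_map, Subgroup.range_subtype]; exact h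
  | succ b ih =>
    rw [← add_assoc, derivedSeries_succ G, derivedSeries_succ F, Subgroup.map_commutator]
    exact Subgroup.commutator_mono ih ih

/-- Derived bound for the Sylow subgroups of a quotient. -/
theorem sylow_quot {G : Type*} [Group G] [Finite G] {q d : ℕ} [Fact q.Prime] (N : Subgroup G) [N.Normal]
    (h : ∀ S : Sylow q G, derivedSeries (S : Subgroup G) d = ⊥) :
    ∀ S : Sylow q (G ⧸ N), derivedSeries (S : Subgroup (G ⧸ N)) d = ⊥ := by
  intro S
  obtain ⟨S₀, rfl⟩ := Sylow.mapSurjective_surjective (QuotientGroup.mk'_surjective N) q S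
  let g : (S₀ : Subgroup G) →* ((S₀ : Subgroup G).map (QuotientGroup.mk' N)) :=
    (QuotientGroup.mk' N).subgroupMap (S₀ : Subgroup G)
  have := map_derivedSeries_eq (MonoidHom.subgroupMap_surjective (QuotientGroup.mk' N) (S₀ : Subgroup G)) d
  rw [h S₀, Subgroup.map_bot] at this
  exact this.symm

theorem main : ∀ (N : ℕ) (G : Type u) [Group G] [Finite G], Nat.card G ≤ N → Group.IsSolvable G →
    ∀ (r : ℕ) (q : Fin r → ℕ), (∀ i, (q i).Prime) → (∀ s : ℕ, s.Prime → s ∣ Nat.card G → ∃ i, q i = s) →
    ∀ d l : Fin r → ℕ, (∀ i, ∀ S : Sylow (q i) G, derivedSeries (S : Subgroup G) (d i) = ⊥) →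
      (∀ i, PLengthLE (q i) (l i) G) → derivedSeries G (Finset.univ.sum fun i => d i * l i) = ⊥ := by
  intro N
  induction N with
  | zero => intro G _ _ h; have := Nat.card_pos (α := G); omega
  | succ N ih =>
    intro G _ _ hcard hG r q hq hcov d l hd hl
    classical
    rcases subsingleton_or_nontrivial G with hs | hs
    · exact Subsingleton.elim _ _
    haveI := hG
    have hquot : ∀ (M : Subgroup G) [M.Normal], M ≠ ⊥ → ∀ l' : Fin r → ℕ,
        (∀ i, PLengthLE (q i) (l' i) (G ⧸ M)) →
        derivedSeries G (Finset.univ.sum fun i => d i * l' i) ≤ M := by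
      intro M _ hM l' hl'
      have hlt : Nat.card (G ⧸ M) < Nat.card G := by
        have h1 := M.card_eq_card_quotient_mul_card_subgroup
        have h2 : 1 < Nat.card M := Finite.one_lt_card_iff_nontrivial.mpr (M.nontrivial_iff_ne_bot.mpr hM)
        have h3 : 0 < Nat.card (G ⧸ M) := Nat.card_pos
        nlinarith
      have hbot := ih (G ⧸ M) (by omega) inferInstance r q hq
        (fun s hs hdvd => hcov s hs (hdvd.trans (Subgroup.card_quotient_dvd_card M))) d l'
        (fun i => haveI := Fact.mk (hq i); sylow_quot M (hd i)) hl'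
      intro x hx
      have h4 : QuotientGroup.mk' M x ∈ derivedSeries (G ⧸ M) (Finset.univ.sum fun i => d i * l' i) :=
        map_derivedSeries_eq (QuotientGroup.mk'_surjective M) _ ▸ Subgroup.mem_map_of_mem _ hx
      rw [hbot, Subgroup.mem_bot] at h4
      exact (QuotientGroup.eq_one_iff x).mp h4
    have hkeep : ∀ (M : Subgroup G) [M.Normal] (i : Fin r), PLengthLE (q i) (l i) (G ⧸ M) := by
      intro M _ i
      refine eq_top_of_map (QuotientGroup.mk' M) (QuotientGroup.mk'_surjective M) (hl i) ?_
      have h0 := steps (p := q i) (QuotientGroup.mk' M) (QuotientGroup.mk'_surjective M) 0 Even.zero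
        (by simp [upperPSeries]) (2 * l i + 1)
      rwa [zero_add] at h0
    -- a nontrivial prime core
    have hF := Solvable.Cores.fittingSubgroup_ne_bot (G := G)
    rw [Solvable.Cores.fittingSubgroup_eq_iSup_pCore] at hF
    obtain ⟨s, hs0, hF⟩ : ∃ s : ℕ, s.Prime ∧ Cfsg.pCore s G ≠ ⊥ := by
      by_contra hno
      push Not at hno
      exact hF (iSup_eq_bot.mpr fun s => hno _ s.2)
    haveI := Fact.mk hs0
    obtain ⟨i, rfl⟩ : ∃ i, q i = s := by
      obtain ⟨k, hk⟩ := Solvable.Cores.card_pow_of_pCore (G := G) s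
      refine hcov s hs0 ((?_ : s ∣ Nat.card (Cfsg.pCore s G)).trans (Subgroup.card_subgroup_dvd_card _))
      rcases k with _ | k
      · exact absurd (Subgroup.card_eq_one.mp (by rw [hk, pow_zero])) hF
      · rw [hk]; exact dvd_pow_self s (Nat.succ_ne_zero k)
    set F := Cfsg.pCore (q i) G
    by_cases hO : Cfsg.pPrimeCore (q i) G = ⊥
    swap
    · refine eq_bot_iff.mpr fun x hx => ?_
      have h1 := hquot F hF l (hkeep F) hx
      have h2 := hquot (Cfsg.pPrimeCore (q i) G) hO l (hkeep _) hx
      have hdj : Disjoint F (Cfsg.pPrimeCore (q i) G) := Subgroup.disjoint_of_coprime_natCard (by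
        obtain ⟨k, hk⟩ := Solvable.Cores.card_pow_of_pCore (G := G) (q i)
        rw [hk]
        exact (Solvable.Cores.coprime_card_pPrimeCore (G := G) (q i)).symm.pow_left k)
      exact hdj.le_bot ⟨h1, h2⟩
    -- the case with trivial coprime core
    have hU1 : (upperPSeries (q i) G 1).1 = ⊥ := by
      rw [upperPSeries.eq_def]
      simp only [show Even 0 from ⟨0, rfl⟩, if_true]
      haveI : ((upperPSeries (q i) G 0).1).Normal := (upperPSeries (q i) G 0).2
      set f := QuotientGroup.mk' (upperPSeries (q i) G 0).1 with hf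
      have hfi : Function.Injective f := (MonoidHom.ker_eq_bot_iff _).mp (QuotientGroup.ker_mk' _)
      refine eq_bot_iff.mpr ((Solvable.Cores.le_pPrimeCore (p := q i) ?_).trans hO.le)
      rw [← Subgroup.card_map_of_injective hfi,
        Subgroup.map_comap_eq_self_of_surjective (QuotientGroup.mk'_surjective _)]
      exact Solvable.Cores.coprime_card_pPrimeCore _
    have hl1 : 1 ≤ l i := by
      by_contra h
      have h2 := hl i
      rw [PLengthLE, show 2 * l i + 1 = 1 by omega, hU1] at h2
      exact not_subsingleton G (Subgroup.subsingleton_iff.mp (subsingleton_of_bot_eq_top h2))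
    have hU2 : (upperPSeries (q i) G 2).1 ≤ F := by
      haveI : ((upperPSeries (q i) G 1).1).Normal := (upperPSeries (q i) G 1).2
      haveI : ((upperPSeries (q i) G 2).1).Normal := (upperPSeries (q i) G 2).2
      refine Solvable.Cores.le_pCore ?_
      rw [upperPSeries]
      split_ifs with h1
      · exact absurd h1 (by decide)
      exact (Solvable.Cores.isPGroup_pCore (q i)).comap_of_injective _
        ((MonoidHom.ker_eq_bot_iff _).mp ((QuotientGroup.ker_mk' _).trans hU1))
    let l' : Fin r → ℕ := Function.update l i (l i - 1)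
    have hl' : ∀ j, PLengthLE (q j) (l' j) (G ⧸ F) := by
      intro j
      rcases eq_or_ne j i with rfl | hj
      · simp only [l', Function.update_self]
        refine eq_top_of_map (QuotientGroup.mk' F) (QuotientGroup.mk'_surjective F) (hl j) ?_
        have h0 := steps (p := q j) (QuotientGroup.mk' F) (QuotientGroup.mk'_surjective F) 2 even_two
          (Subgroup.map_le_iff_le_comap.mpr (hU2.trans (le_of_eq (by
            rw [upperPSeries, MonoidHom.comap_bot, QuotientGroup.ker_mk'])))) (2 * (l j - 1) + 1)
        rwa [show 2 + (2 * (l j - 1) + 1) = 2 * l j + 1 by omega] at h0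
      · simp only [l', Function.update_of_ne hj]
        exact hkeep F j
    have hsum : (Finset.univ.sum fun j => d j * l j) = (Finset.univ.sum fun j => d j * l' j) + d i := by
      rw [← Finset.add_sum_erase _ _ (Finset.mem_univ i), ← Finset.add_sum_erase _ (fun j => d j * l' j) (Finset.mem_univ i)]
      have he : (Finset.univ.erase i).sum (fun j => d j * l' j) = (Finset.univ.erase i).sum fun j => d j * l j :=
        Finset.sum_congr rfl fun j hj => by simp [l', Function.update_of_ne (Finset.ne_of_mem_erase hj)]
      rw [he]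
      simp only [l', Function.update_self]
      obtain ⟨k, hk⟩ := Nat.exists_eq_add_of_le hl1
      rw [hk, Nat.add_sub_cancel_left]
      ring
    have hFd : derivedSeries F (d i) = ⊥ := by
      obtain ⟨S, hS⟩ := (Solvable.Cores.isPGroup_pCore (G := G) (q i)).exists_le_sylow
      have h := map_derivedSeries_le_derivedSeries (Subgroup.inclusion hS) (d i)
      rw [hd i S] at h
      exact (Subgroup.map_eq_bot_iff_of_injective _ (Subgroup.inclusion_injective hS)).mp (le_bot_iff.mp h)
    rw [hsum, eq_bot_iff]
    refine (derived_add_le F _ (hquot F hF l' hl') (d i)).trans ?_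
    rw [hFd, Subgroup.map_bot]


/-- The Hall–Higman bound on derived length: let G be a finite solvable group, let p₁, …, p_r be distinct primes that include every prime dividing the order of G, and suppose that for each i the Sylow p_i-subgroups of G have derived length at most d_i and G has p_i-length at most l_i. Then G has derived length at most Σ d_i l_i. -/
theorem result {G : Type*} [Group G] [Finite G] (hG : Group.IsSolvable G) (r : ℕ) (q : Fin r → ℕ) (hq : ∀ i, (q i).Prime) (hinj : Function.Injective q) (hcover : ∀ s : ℕ, s.Prime → s ∣ Nat.card G → ∃ i, q i = s) (d l : Fin r → ℕ) (hd : ∀ i, ∀ P : Subgroup G, (haveI := Fact.mk (hq i); ∃ S : Sylow (q i) G, (S : Subgroup G) = P) → derivedSeries ↥P (d i) = ⊥) (hl : ∀ i, Cfsg.PLengthLE (q i) (l i) G) : derivedSeries G (Finset.univ.sum fun i => d i * l i) = ⊥ := by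
  refine main _ G le_rfl hG r q hq hcover d l (fun i S => ?_) hl
  exact hd i (S : Subgroup G) (by exact ⟨S, rfl⟩)

end Cfsg.Agent.S3791
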