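import Cfsg.Statements.S3794
import Cfsg.Agent.Lib.Solvable.FPFOperators.Height
-- import your own Cfsg.Agent.* helpers here

set_option autoImplicit false
open Cfsg
open scoped commutatorElement

namespace Cfsg.Agent.S3794

/-- Let G be a finite solvable group with an automorphism σ satisfying σ⁴ = 1 and fixing only the identity. Then the derived subgroup G' is nilpotent. -/
theorem result {G : Type*} [Group G] [Finite G] (hG : Group.IsSolvable G) (σ : MulAut G) (hσ : σ ^ 4 = 1) (hfpf : ∀ g : G, σ g = g → g = 1) : Group.IsNilpotent (commutator G) := by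
  obtain ⟨σ', hσ', hfpf'⟩ := CfsgLib.Solvable.FPFOperators.exists_induced σ hfpf
  set F := Cfsg.fittingSubgroup G with hF
  have hpow : σ' ^ 2 = 1 := MulEquiv.ext fun x => by
    induction x using QuotientGroup.induction_on with
    | H h =>
      rw [sq, MulAut.mul_apply, hσ', hσ', MulAut.one_apply, ← MulAut.mul_apply, ← sq, ← mul_inv_eq_one,
        ← QuotientGroup.mk_inv, ← QuotientGroup.mk_mul, QuotientGroup.eq_one_iff]
      exact CfsgLib.Solvable.FPFOperators.pow_apply_mem_fittingSubgroup hG Nat.prime_two (n := 1)
        (Or.inr le_rfl) (by simpa using hσ) hfpf h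
  have hle : commutator G ≤ F := by
    rw [commutator_eq_closure, Subgroup.closure_le]
    rintro _ ⟨a, b, rfl⟩
    rw [SetLike.mem_coe, ← QuotientGroup.eq_one_iff]
    show QuotientGroup.mk' F ⁅a, b⁆ = 1
    rw [map_commutatorElement, commutatorElement_eq_one_iff_mul_comm]
    exact CfsgLib.Solvable.FPFOperators.commute_of_fpf_involution σ' hpow hfpf' _ _
  have hnil : Group.IsNilpotent F := by
    rw [hF, CfsgLib.Solvable.Cores.fittingSubgroup_eq_iSup_pCore]
    exact CfsgLib.Solvable.Cores.iSup_pCore_isNilpotent
  haveI := hnil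
  exact Group.nilpotent_of_mulEquiv (Subgroup.subgroupOfEquivOfLe hle)

end Cfsg.Agent.S3794
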