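import Cfsg.Statements.S3796
import Cfsg.Agent.Lib.Solvable.FPFOperators.WardHeight
-- import your own Cfsg.Agent.* helpers here

set_option autoImplicit false
open Cfsg

namespace Cfsg.Agent.S3796

/-- Ward's Theorem: let G be a finite solvable group and A an elementary abelian group of automorphisms of G of order p² (p a prime) with no non-identity common fixed point. Then G has Fitting height at most 2: G has Fitting height at most m when there is a chain of normal subgroups 1 = F₀ ≤ F₁ ≤ ⋯ ≤ F_m = G with each F_{i+1}/F_i nilpotent. -/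
theorem result {G : Type*} [Group G] [Finite G] (hG : Group.IsSolvable G) {p : ℕ} (hp : p.Prime) (A : Subgroup (MulAut G)) (hA : Cfsg.IsElementaryAbelian p A) (hcard : Nat.card A = p ^ 2) (hfpf : ∀ g : G, (∀ a ∈ A, a g = g) → g = 1) : ∃ F : Fin (2 + 1) → Subgroup G, F 0 = ⊥ ∧ F (Fin.last 2) = ⊤ ∧ Monotone F ∧ (∀ i, (F i).Normal) ∧ ∀ i : Fin 2, ∃ k : ℕ, (F i.succ).lowerCentralSeries k ≤ F i.castSucc := by
  classical
  open CfsgLib.Solvable.FPFOperators in
  haveI := Fact.mk hp
  haveI := hA.1
  have hAp : IsPGroup p A := fun a => ⟨1, Subtype.ext (by rw [pow_one]; exact hA.2 a a.2)⟩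
  have hc := coprime_card_of_fpf A hAp hfpf
  have hAs : Group.IsSolvable A := Group.isSolvable_of_comm fun a b => mul_comm' a b
  obtain ⟨G', A', e, hfin, hset, ⟨eA⟩⟩ := exists_model A hG hAs (by rw [hcard]; exact (hc.pow_right 2).symm) hfpf
  haveI := hfin
  haveI := hset.normalG
  have hA'c : IsMulCommutative A' := isMulCommutative_iff.2 fun a b => eA.symm.injective (by
    rw [map_mul, map_mul]; exact mul_comm' _ _)
  have hnil := isNilpotent_top1 hp hset hA'c (fun a ha => by
    have h1 : (eA.symm ⟨a, ha⟩) ^ p = 1 := Subtype.ext (hA.2 _ (eA.symm ⟨a, ha⟩).2)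
    rw [← map_pow, MulEquiv.map_eq_one_iff] at h1
    exact congrArg Subtype.val h1) (by rw [Nat.card_congr eA.symm.toEquiv, hcard])
  obtain ⟨k, hk⟩ := exists_lowerCentralSeries_le e hnil
  have hF : Group.IsNilpotent (Cfsg.fittingSubgroup G) := by
    rw [CfsgLib.Solvable.Cores.fittingSubgroup_eq_iSup_pCore]
    exact CfsgLib.Solvable.Cores.iSup_pCore_isNilpotent
  obtain ⟨j, hj⟩ := (Subgroup.isNilpotent_iff_lowerCentralSeries _).mp hF
  haveI : (Cfsg.fittingSubgroup G).Normal := inferInstance
  refine ⟨![⊥, Cfsg.fittingSubgroup G, ⊤], rfl, rfl, ?_, ?_, ?_⟩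
  · refine Fin.monotone_iff_le_succ.mpr fun i => ?_
    fin_cases i <;> simp
  · intro i
    fin_cases i
    · exact (inferInstance : (⊥ : Subgroup G).Normal)
    · exact (inferInstance : (Cfsg.fittingSubgroup G).Normal)
    · exact (inferInstance : (⊤ : Subgroup G).Normal)
  · intro i
    fin_cases i
    · exact ⟨j, hj.le⟩
    · exact ⟨k, hk⟩

end Cfsg.Agent.S3796
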