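import Cfsg.Statements.S3797
import Cfsg.Agent.Lib.Coprime.OneClassInvolutions
import Cfsg.Agent.Lib.Solvable.FPFOperators.PLength
-- import your own Cfsg.Agent.* helpers here

set_option autoImplicit false
open Cfsg

namespace Cfsg.Agent.S3797

section Helpers
open Subgroup CfsgLib.Solvable CfsgLib.Coprime CfsgLib.Coprime.OneClassInvolutions

theorem homocyclic {A : Type*} [CommGroup A] [Finite A] (hA : IsPGroup 2 A)
    (htr : ∀ x y : A, x ≠ 1 → x ^ 2 = 1 → y ≠ 1 → y ^ 2 = 1 → ∃ a : MulAut A, a x = y) :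
    ∃ m r : ℕ, Nonempty (A ≃* (Fin r → Multiplicative (ZMod (2 ^ m)))) := by
  classical
  haveI := Fact.mk Nat.prime_two
  obtain ⟨ι, _, n, hn, ⟨e⟩⟩ := CommGroup.equiv_prod_multiplicative_zmod_of_finite A
  obtain ⟨k, hk⟩ := (IsPGroup.iff_card (p := 2)).1 hA
  have hcard : ∏ i, n i = 2 ^ k := by
    rw [← hk, Nat.card_congr e.toEquiv, Nat.card_pi]
    exact Finset.prod_congr rfl fun i _ => by
      rw [Nat.card_congr Multiplicative.toAdd, Nat.card_zmod]
  have hpow : ∀ i, ∃ a, n i = 2 ^ (a + 1) := fun i => by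
    obtain ⟨a, -, ha⟩ := (Nat.dvd_prime_pow Nat.prime_two).1
      (hcard ▸ Finset.dvd_prod_of_mem n (Finset.mem_univ i))
    cases a with
    | zero => exact absurd ha (by have := hn i; simp; omega)
    | succ a => exact ⟨a, ha⟩
  choose a ha using hpow
  let u : ∀ i, A := fun i => e.symm (Pi.mulSingle i (Multiplicative.ofAdd 1))
  let z : ∀ i, A := fun i => u i ^ 2 ^ a i
  have hz : ∀ i j, e (z i) j = Multiplicative.ofAdd
      (if h : j = i then ((2 ^ a i : ℕ) : ZMod (n j)) else 0) := by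
    intro i j
    simp only [z, u, map_pow, MulEquiv.apply_symm_apply, Pi.pow_apply]
    by_cases h : j = i
    · subst h; simp [← ofAdd_nsmul]
    · simp [h]
  have hz1 : ∀ i, z i ≠ 1 := fun i h => by
    have h1 := congrArg (fun x => Multiplicative.toAdd (e x i)) h
    simp only [hz, map_one, Pi.one_apply, toAdd_one, toAdd_ofAdd, dif_pos] at h1
    rw [ZMod.natCast_eq_zero_iff, ha i, Nat.pow_dvd_pow_iff_le_right (by norm_num)] at h1
    omega
  have hz2 : ∀ i, z i ^ 2 = 1 := fun i => by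
    refine e.injective (funext fun j => ?_)
    rw [map_pow, Pi.pow_apply, hz, map_one, Pi.one_apply, ← ofAdd_nsmul, ← ofAdd_zero]
    congr 1
    by_cases h : j = i
    · subst h
      rw [dif_pos rfl, nsmul_eq_mul, ← Nat.cast_mul, ZMod.natCast_eq_zero_iff, ha j, pow_succ']
    · rw [dif_neg h, smul_zero]
  have hle : ∀ i j, a i ≤ a j := by
    intro i j
    by_contra hlt
    obtain ⟨σ, hσ⟩ := htr (z i) (z j) (hz1 i) (hz2 i) (hz1 j) (hz2 j)
    have h1 := congrArg (fun x => Multiplicative.toAdd (e x j)) hσ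
    simp only [hz, toAdd_ofAdd, dif_pos, z, map_pow, Pi.pow_apply, toAdd_pow] at h1
    rw [nsmul_eq_mul, (ZMod.natCast_eq_zero_iff _ _).2 (ha j ▸ pow_dvd_pow 2 (by omega)),
      zero_mul, eq_comm] at h1
    rw [ZMod.natCast_eq_zero_iff, ha j, Nat.pow_dvd_pow_iff_le_right (by norm_num)] at h1
    omega
  rcases isEmpty_or_nonempty ι with hι | ⟨⟨i₀⟩⟩
  · haveI : Unique (∀ i, Multiplicative (ZMod (n i))) := Pi.uniqueOfIsEmpty _
    haveI : Subsingleton A := e.toEquiv.subsingleton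
    exact ⟨0, 0, ⟨MulEquiv.ofBijective (1 : A →* _)
      ⟨fun _ _ _ => Subsingleton.elim _ _, fun _ => ⟨1, Subsingleton.elim _ _⟩⟩⟩⟩
  · refine ⟨a i₀ + 1, Fintype.card ι, ⟨e.trans ((MulEquiv.piCongrRight fun i =>
      AddEquiv.toMultiplicative (ZMod.ringEquivCongr (show n i = 2 ^ (a i₀ + 1) by
        rw [ha i, le_antisymm (hle i i₀) (hle i₀ i)])).toAddEquiv).trans ?_)⟩⟩
    exact {
      toFun := fun f k => f ((Fintype.equivFin ι).symm k)
      invFun := fun f i => f (Fintype.equivFin ι i)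
      left_inv := fun f => funext fun i => by simp
      right_inv := fun f => funext fun k => by simp
      map_mul' := fun f g => rfl }

theorem upper_facts {G : Type*} [Group G] [Finite G] (U U' : Subgroup G) [U.Normal] [U'.Normal]
    (hUU' : U = U') (h : ∀ x : G, (∃ k, x ^ 2 ^ k = 1) → (x : G ⧸ U') ∈ Cfsg.pCore 2 (G ⧸ U')) :
    ∀ x : G, (∃ k, x ^ 2 ^ k = 1) → (x : G ⧸ U) ∈ Cfsg.pCore 2 (G ⧸ U) := by
  subst hUU'; exact h

end Helpers

/-- Let G be a finite solvable group of even order whose Sylow 2-subgroups contain more than one involution, and suppose all involutions of G are conjugate. Then G has 2-length at most 1, and a Sylow 2-subgroup S of G is either homocyclic (a direct product of cyclic groups of one common order) or a non-abelian 2-group with more than one involution admitting a solvable group of automorphisms transitive on its involutions. -/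
theorem result {G : Type*} [Group G] [Finite G] (hG : Group.IsSolvable G) (heven : Even (Nat.card G)) (S : Sylow 2 G) (htwo : ∃ x y : G, x ∈ (S : Subgroup G) ∧ y ∈ (S : Subgroup G) ∧ x ≠ y ∧ x ≠ 1 ∧ x ^ 2 = 1 ∧ y ≠ 1 ∧ y ^ 2 = 1) (hconj : ∀ x y : G, x ≠ 1 → x ^ 2 = 1 → y ≠ 1 → y ^ 2 = 1 → IsConj x y) : Cfsg.PLengthLE 2 1 G ∧ ((∃ m r : ℕ, Nonempty (↥(S : Subgroup G) ≃* (Fin r → Multiplicative (ZMod (2 ^ m))))) ∨ (¬ IsMulCommutative (S : Subgroup G) ∧ ∃ Y : Subgroup (MulAut ↥(S : Subgroup G)), Group.IsSolvable Y ∧ ∀ x y : ↥(S : Subgroup G), x ≠ 1 → x ^ 2 = 1 → y ≠ 1 → y ^ 2 = 1 → ∃ a ∈ Y, a x = y)) := by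
  haveI := Fact.mk Nat.prime_two
  haveI := hG
  set U := Cfsg.pPrimeCore 2 G with hU
  have hUodd : Odd (Nat.card U) :=
    Nat.coprime_two_right.1 (CfsgLib.Solvable.Cores.coprime_card_pPrimeCore (G := G) 2)
  have hSUx : ∀ s ∈ (S : Subgroup G), s ∈ U → s = 1 := fun s hs hsU => by
    obtain ⟨k, hk⟩ := S.isPGroup' ⟨s, hs⟩
    exact CfsgLib.Coprime.OneClassInvolutions.eq_one_of_pow_two_pow hUodd hsU
      (congrArg Subtype.val hk)
  -- two commuting involutions
  have hone : CfsgLib.Coprime.OneClassInvolutions.OneClass G := by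
    obtain ⟨x, y, hxS, hyS, hxy, hx1, hx2, hy1, hy2⟩ := htwo
    haveI : Nontrivial (S : Subgroup G) := ⟨⟨⟨x, hxS⟩, 1, fun e => hx1 (congrArg Subtype.val e)⟩⟩
    haveI := S.isPGroup'.center_nontrivial
    obtain ⟨j, hj⟩ := (IsPGroup.iff_card (p := 2)).1
      (S.isPGroup'.to_subgroup (Subgroup.center (S : Subgroup G)))
    obtain ⟨z, hz⟩ := exists_prime_orderOf_dvd_card' (G := Subgroup.center (S : Subgroup G)) 2 (by
      rw [hj]
      refine dvd_pow_self 2 fun e => ?_
      rw [e, pow_zero] at hj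
      exact absurd hj (Finite.one_lt_card (α := Subgroup.center (S : Subgroup G))).ne')
    set g : G := ((z : (S : Subgroup G)) : G) with hg
    have hg2 : g ^ 2 = 1 := by
      have := pow_orderOf_eq_one z
      rw [hz] at this
      exact congrArg (fun w : Subgroup.center (S : Subgroup G) => ((w : (S : Subgroup G)) : G)) this
    have hg1 : g ≠ 1 := fun e => by
      rw [show z = 1 from Subtype.ext (Subtype.ext e), orderOf_one] at hz
      omega
    obtain ⟨w, hwS, hw1, hw2, hwg⟩ : ∃ w ∈ (S : Subgroup G), w ≠ 1 ∧ w ^ 2 = 1 ∧ w ≠ g := by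
      by_cases h : x = g
      · exact ⟨y, hyS, hy1, hy2, fun e => hxy (h.trans e.symm)⟩
      · exact ⟨x, hxS, hx1, hx2, h⟩
    exact ⟨hconj, g, w, hwg.symm, hg1, hg2, hw1, hw2,
      (congrArg Subtype.val (Subgroup.mem_center_iff.1 z.2 ⟨w, hwS⟩)).symm⟩
  have hsol : Group.IsSolvable (G ⧸ U) := inferInstance
  have honeQ := CfsgLib.Coprime.OneClassInvolutions.quotient_oneClass U hUodd hone
  have hOQ : Cfsg.pPrimeCore 2 (G ⧸ U) = ⊥ :=
    CfsgLib.Coprime.OneClassInvolutions.pPrimeCore_quotient_self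
  have hmain : ∀ x : G, (∃ k, x ^ 2 ^ k = 1) → (x : G ⧸ U) ∈ Cfsg.pCore 2 (G ⧸ U) :=
    fun x ⟨k, hk⟩ => CfsgLib.Coprime.OneClassInvolutions.main.{_} _ (G ⧸ U) rfl hOQ honeQ _
      ⟨k, by rw [← QuotientGroup.mk_pow, hk]; rfl⟩
  constructor
  · -- 2-length
    haveI := (Cfsg.upperPSeries 2 G 1).2
    have h2 := upper_facts (Cfsg.upperPSeries 2 G 1).1 U
      CfsgLib.Solvable.FPFOperators.upper_one hmain
    set U₂ := (Cfsg.upperPSeries 2 G 2).1 with hU₂
    have hS2 : (S : Subgroup G) ≤ U₂ := fun s hs => by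
      rw [hU₂, CfsgLib.Solvable.FPFOperators.upper_even 0]
      obtain ⟨k, hk⟩ := S.isPGroup' ⟨s, hs⟩
      exact h2 s ⟨k, congrArg Subtype.val hk⟩
    show (Cfsg.upperPSeries 2 G (2 * 1 + 1)).1 = ⊤
    rw [CfsgLib.Solvable.FPFOperators.upper_odd]
    rw [eq_top_iff]
    intro x _
    refine CfsgLib.Solvable.Cores.le_pPrimeCore (G := G ⧸ U₂) (N := ⊤) ?_ (Subgroup.mem_top _)
    rw [Subgroup.card_top, ← Subgroup.index_eq_card]
    exact ((Nat.prime_two.coprime_iff_not_dvd.2 fun h => S.not_dvd_index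
      (h.trans (Subgroup.index_dvd_of_le hS2)))).symm
  · -- the Sylow subgroup
    set Q' := Cfsg.pCore 2 (G ⧸ U) with hQ'
    let φ : (S : Subgroup G) →* Q' := MonoidHom.mk'
      (fun s => ⟨((s : G) : G ⧸ U), hmain s ((S.isPGroup' s).imp fun k hk => congrArg Subtype.val hk)⟩)
      fun a b => Subtype.ext rfl
    have hφ : Function.Bijective φ := by
      refine ⟨(injective_iff_map_eq_one _).2 fun s hs => Subtype.ext
        (hSUx s s.2 ((QuotientGroup.eq_one_iff _).1 (congrArg Subtype.val hs))), fun q => ?_⟩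
      obtain ⟨s, hs, e⟩ := CfsgLib.Solvable.Cores.pCore_le_sylow
        (S.mapSurjective (QuotientGroup.mk'_surjective U)) q.2
      exact ⟨⟨s, hs⟩, Subtype.ext e⟩
    let eS := MulEquiv.ofBijective φ hφ
    let θ : G ⧸ U →* MulAut (S : Subgroup G) :=
      (MulAut.congr eS.symm).toMonoidHom.comp (MulAut.conjNormal (H := Q'))
    have htr : ∀ x y : (S : Subgroup G), x ≠ 1 → x ^ 2 = 1 → y ≠ 1 → y ^ 2 = 1 →
        ∃ a ∈ θ.range, a x = y := by
      intro x y hx hx2 hy hy2
      obtain ⟨g, hg⟩ := isConj_iff.1 (hconj x y (fun e => hx (Subtype.ext e))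
        (congrArg Subtype.val hx2) (fun e => hy (Subtype.ext e)) (congrArg Subtype.val hy2))
      refine ⟨θ g, ⟨g, rfl⟩, eS.injective (Subtype.ext ?_)⟩
      show ((eS (eS.symm (MulAut.conjNormal (g : G ⧸ U) (eS x))) : Q') : G ⧸ U) = _
      rw [MulEquiv.apply_symm_apply, MulAut.conjNormal_apply]
      show (g : G ⧸ U) * (x : G) * (g : G ⧸ U)⁻¹ = ((y : G) : G ⧸ U)
      rw [← QuotientGroup.mk_inv, ← QuotientGroup.mk_mul, ← QuotientGroup.mk_mul, hg]
    by_cases hab : IsMulCommutative (S : Subgroup G)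
    · left
      letI : CommGroup (S : Subgroup G) :=
        { (inferInstance : Group (S : Subgroup G)) with mul_comm := mul_comm' }
      exact homocyclic S.isPGroup' fun x y hx hx2 hy hy2 =>
        (htr x y hx hx2 hy hy2).imp fun a ha => ha.2
    · exact Or.inr ⟨hab, θ.range,
        Group.isSolvable_of_surjective θ.rangeRestrict_surjective, htr⟩
end Cfsg.Agent.S3797
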