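import Cfsg.Statements.S3798
import Cfsg.Agent.Lib.Fusion.PSolvable
import Cfsg.Agent.Lib.Solvable.Cores
import Cfsg.Agent.Lib.Components.PComponents
import Cfsg.Agent.Lib.Coprime.SchurZassenhaus
import Cfsg.Agent.Lib.LocalEven.OmegaLemma
import Cfsg.Agent.Lib.OddOrder.PLengthOne

set_option autoImplicit false
open Cfsg

namespace Cfsg.Agent.S3798

open CfsgLib

/-- The core case: trivial `p'`-core. -/
theorem core {X : Type*} [Group X] [Finite X] {p : ℕ} [Fact p.Prime] (hp : p ≠ 2)
    (hX : Cfsg.IsPSolvable p X) (hO : Cfsg.pPrimeCore p X = ⊥)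
    (htrans : ∀ U V : Subgroup X, Nat.card U = p → Nat.card V = p →
      ∃ a : MulAut X, U.map a.toMonoidHom = V) :
    ¬ p ∣ (Cfsg.pCore p X).index := by
  intro hdvd
  have hpp : p.Prime := Fact.out
  set P0 := Cfsg.pCore p X with hP0
  have hP0p : IsPGroup p P0 := Solvable.Cores.isPGroup_pCore p
  haveI : Nontrivial X := by
    rw [← Finite.one_lt_card_iff_nontrivial]
    exact lt_of_lt_of_le hpp.one_lt (Nat.le_of_dvd Nat.card_pos (hdvd.trans (Subgroup.index_dvd_card _)))
  have hne : P0 ≠ ⊥ := (Fusion.PSolvable.pCore_or_pPrimeCore_ne_bot hX).resolve_right (by simp [hO])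
  -- a characteristic subgroup containing one element of order p contains all of them
  have key : ∀ K : Subgroup X, K.Characteristic → ∀ y ∈ K, orderOf y = p →
      ∀ z : X, z ^ p = 1 → z ∈ K := by
    intro K hK y hy hoy z hz
    by_cases h1 : z = 1
    · simp [h1]
    obtain ⟨a, ha⟩ := htrans (Subgroup.zpowers y) (Subgroup.zpowers z)
      (by rw [Nat.card_zpowers, hoy]) (by rw [Nat.card_zpowers, orderOf_eq_prime hz h1])
    have hz' : z ∈ (Subgroup.zpowers y).map a.toMonoidHom := by
      rw [ha]; exact Subgroup.mem_zpowers z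
    exact (Subgroup.characteristic_iff_map_le.1 hK a)
      (Subgroup.map_mono (Subgroup.zpowers_le.2 hy) hz')
  -- all elements of order p are central in P0
  have hcentral : ∀ z : X, z ^ p = 1 → z ∈ P0 ⊓ Subgroup.centralizer (P0 : Set X) := by
    haveI : Nontrivial P0 := (Subgroup.nontrivial_iff_ne_bot P0).2 hne
    haveI := IsPGroup.center_nontrivial hP0p
    obtain ⟨c, hc⟩ := exists_ne (1 : Subgroup.center P0)
    obtain ⟨k, hk, hcard⟩ : ∃ k > 0, Nat.card (Subgroup.center P0) = p ^ k :=
      ((hP0p.to_subgroup _).nontrivial_iff_card).1 inferInstance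
    obtain ⟨y, hy⟩ := exists_prime_orderOf_dvd_card' (G := Subgroup.center P0) p
      (hcard ▸ dvd_pow_self p hk.ne')
    refine fun z hz => key (P0 ⊓ Subgroup.centralizer (P0 : Set X)) ?_ ((y : P0) : X)
      (Subgroup.mem_inf.2 ⟨(y : P0).2, ?_⟩) ?_ z hz
    · refine Subgroup.characteristic_iff_map_le.2 fun e => ?_
      have hfix := Subgroup.characteristic_iff_map_eq.1 (Solvable.Cores.pCore_characteristic p) e
      rintro _ ⟨w, hw, rfl⟩
      refine ⟨hfix.le ⟨w, hw.1, rfl⟩, Subgroup.mem_centralizer_iff.2 fun v hv => ?_⟩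
      obtain ⟨v', hv', rfl⟩ := hfix.ge hv
      have := congrArg e.toMonoidHom (Subgroup.mem_centralizer_iff.1 hw.2 v' hv')
      simpa using this
    · exact Subgroup.mem_centralizer_iff.2 fun v hv =>
        congrArg Subtype.val (Subgroup.mem_center_iff.1 y.2 ⟨v, hv⟩)
    · rw [Subgroup.orderOf_coe, Subgroup.orderOf_coe, hy]
  have hCle : Subgroup.centralizer (P0 : Set X) ≤ P0 := Fusion.PSolvable.centralizer_pCore_le hX hO
  -- M = preimage of the p'-core of X / P0
  haveI : P0.Normal := inferInstanceAs (Cfsg.pCore p X).Normal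
  set q := QuotientGroup.mk' P0
  have hqs : Function.Surjective q := QuotientGroup.mk'_surjective P0
  have hQbot : Cfsg.pCore p (X ⧸ P0) = ⊥ := by
    have h1 : IsPGroup p ((Cfsg.pCore p (X ⧸ P0)).comap q) := by
      refine (Solvable.Cores.isPGroup_pCore p).comap_of_ker_isPGroup q ?_
      rwa [QuotientGroup.ker_mk']
    have h2 : ((Cfsg.pCore p (X ⧸ P0)).comap q) ≤ P0 := Solvable.Cores.le_pCore h1
    rw [← Subgroup.map_comap_eq_self_of_surjective hqs (Cfsg.pCore p (X ⧸ P0)), eq_bot_iff]
    refine (Subgroup.map_mono h2).trans ?_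
    rw [QuotientGroup.map_mk'_self]
  set M := (Cfsg.pPrimeCore p (X ⧸ P0)).comap q with hMdef
  haveI : Nontrivial (X ⧸ P0) := by
    rw [← Finite.one_lt_card_iff_nontrivial, ← Subgroup.index_eq_card]
    exact lt_of_lt_of_le hpp.one_lt (Nat.le_of_dvd (Nat.pos_of_ne_zero Subgroup.index_ne_zero_of_finite) hdvd)
  have hMne : Cfsg.pPrimeCore p (X ⧸ P0) ≠ ⊥ :=
    (Fusion.PSolvable.pCore_or_pPrimeCore_ne_bot (Fusion.PSolvable.psolvable_quotient hX P0)).resolve_left
      (by simp [hQbot])
  have hP0M : P0 ≤ M := fun x hx => by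
    rw [hMdef, Subgroup.mem_comap, QuotientGroup.mk'_apply, (QuotientGroup.eq_one_iff x).2 hx]
    exact one_mem _
  have hMchar : M.Characteristic := by
    refine Subgroup.characteristic_iff_map_le.2 fun e => ?_
    rw [hMdef, ← Subgroup.map_le_iff_le_comap]
    haveI hn : (((Cfsg.pPrimeCore p (X ⧸ P0)).comap q).map e.toMonoidHom).Normal :=
      Subgroup.Normal.map inferInstance _ e.surjective
    haveI := hn.map q hqs
    refine Solvable.Cores.le_pPrimeCore ?_
    have hfix := Subgroup.characteristic_iff_map_eq.1 (Solvable.Cores.pCore_characteristic p) e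
    have hcm : (q.comp e.toMonoidHom).ker = P0 := by
      ext x
      constructor
      · intro hx
        have : e x ∈ P0 := by
          rw [MonoidHom.mem_ker] at hx
          exact (QuotientGroup.eq_one_iff (e x)).1 hx
        obtain ⟨w, hw, hwe⟩ := hfix.ge this
        rwa [← e.injective hwe]
      · intro hx
        have : e x ∈ P0 := hfix.le ⟨x, hx, rfl⟩
        rw [MonoidHom.mem_ker]
        exact (QuotientGroup.eq_one_iff (e x)).2 this
    rw [Subgroup.map_map, ← Subgroup.relIndex_bot_left]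
    have : Nat.card (((Cfsg.pPrimeCore p (X ⧸ P0)).comap q).map (q.comp e.toMonoidHom)) =
        Nat.card (Cfsg.pPrimeCore p (X ⧸ P0)) := by
      conv_rhs => rw [← Subgroup.map_comap_eq_self_of_surjective hqs (Cfsg.pPrimeCore p (X ⧸ P0))]
      have h1 : q.ker = P0 := QuotientGroup.ker_mk' P0
      rw [← Subgroup.relIndex_ker, ← Subgroup.relIndex_ker, hcm, h1]
    rw [Subgroup.relIndex_bot_left, this]
    exact Solvable.Cores.coprime_card_pPrimeCore p
  have hrel : (P0.relIndex M).Coprime p := by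
    have h := Subgroup.relIndex_ker (K := M) q
    rw [QuotientGroup.ker_mk', hMdef, Subgroup.map_comap_eq_self_of_surjective hqs] at h
    rw [hMdef, h]
    exact Solvable.Cores.coprime_card_pPrimeCore p
  haveI : M.Normal := inferInstanceAs ((Cfsg.pPrimeCore p (X ⧸ P0)).comap q).Normal
  have hcop : (Nat.card (P0.subgroupOf M)).Coprime (P0.subgroupOf M).index := by
    rw [Nat.card_congr (Subgroup.subgroupOfEquivOfLe hP0M).toEquiv]
    obtain ⟨n, hn⟩ := hP0p.exists_card_eq
    rw [hn]
    exact Nat.Coprime.pow_left _ hrel.symm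
  obtain ⟨Q', hQ'⟩ := Subgroup.exists_right_complement'_of_coprime hcop
  set Q := Q'.map M.subtype with hQdef
  have hQM : Q ≤ M := Subgroup.map_subtype_le _
  have hQcard : Nat.card Q = P0.relIndex M := by
    rw [hQdef, Subgroup.card_subtype, Subgroup.relIndex, ← hQ'.symm.index_eq_card]
  have hdisj : ∀ x ∈ Q, x ∈ P0 → x = 1 := by
    rintro _ ⟨w, hw, rfl⟩ hx
    exact congrArg Subtype.val (Subgroup.disjoint_def.1 hQ'.disjoint (x := w) hx hw)
  have hgen : P0 ⊔ Q = M := by
    refine le_antisymm (sup_le hP0M hQM) fun x hx => ?_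
    obtain ⟨⟨a, b⟩, hab, -⟩ := hQ'.existsUnique ⟨x, hx⟩
    have hab' : ((a : M) : X) * ((b : M) : X) = x := congrArg Subtype.val hab
    exact hab' ▸ Subgroup.mul_mem_sup a.2 ⟨b, b.2, rfl⟩
  have hQne : Q ≠ ⊥ := by
    intro hb
    rw [hb, sup_bot_eq] at hgen
    apply hMne
    rw [← Subgroup.map_comap_eq_self_of_surjective hqs (Cfsg.pPrimeCore p (X ⧸ P0)), ← hMdef, ← hgen,
      QuotientGroup.map_mk'_self]
  -- no element of order p centralises Q
  have hnofix : ∀ y : X, orderOf y = p → y ∈ Subgroup.centralizer (Q : Set X) → False := by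
    intro y hy hyQ
    have hyp : y ^ p = 1 := hy ▸ pow_orderOf_eq_one y
    have hyM : y ∈ M ⊓ Subgroup.centralizer (M : Set X) := by
      refine ⟨hP0M (hcentral y hyp).1, ?_⟩
      have : M ≤ Subgroup.centralizer ({y} : Set X) := hgen ▸ sup_le
        (fun v hv => Subgroup.mem_centralizer_singleton_iff.2
          (Subgroup.mem_centralizer_iff.1 (hcentral y hyp).2 v hv))
        (fun v hv => Subgroup.mem_centralizer_singleton_iff.2
          (Subgroup.mem_centralizer_iff.1 hyQ v hv))
      exact Subgroup.mem_centralizer_iff.2 fun v hv =>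
        Subgroup.mem_centralizer_singleton_iff.1 (this hv)
    have hKchar : (M ⊓ Subgroup.centralizer (M : Set X)).Characteristic := by
      refine Subgroup.characteristic_iff_map_le.2 fun e => ?_
      have hfix := Subgroup.characteristic_iff_map_eq.1 hMchar e
      rintro _ ⟨w, hw, rfl⟩
      refine ⟨hfix.le ⟨w, hw.1, rfl⟩, Subgroup.mem_centralizer_iff.2 fun v hv => ?_⟩
      obtain ⟨v', hv', rfl⟩ := hfix.ge hv
      have := congrArg e.toMonoidHom (Subgroup.mem_centralizer_iff.1 hw.2 v' hv')
      simpa using this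
    obtain ⟨x, hxQ, hx1⟩ : ∃ x ∈ Q, x ≠ 1 := by
      by_contra h
      push Not at h
      exact hQne ((Subgroup.eq_bot_iff_forall Q).2 h)
    refine hx1 (hdisj x hxQ (hCle (LocalEven.OmegaLemma.mem_centralizer_of_omega hp hP0p ?_ ?_ ?_)))
    · rw [Subgroup.normalizer_eq_top (H := P0)]; exact Subgroup.mem_top x
    · exact Nat.Coprime.coprime_dvd_left (hQcard ▸ Subgroup.orderOf_dvd_natCard Q hxQ) hrel
    · exact fun v _ hv => Subgroup.mem_centralizer_iff.1 (key _ hKchar y hyM hy v hv).2 x (hQM hxQ)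
  -- Frattini argument
  have hsol : Group.IsSolvable P0 := by
    haveI := hP0p.isNilpotent
    infer_instance
  have hfr : P0 ⊔ Subgroup.normalizer (Q : Set X) = ⊤ := by
    rw [eq_top_iff]
    intro g _
    have hQn : Q ≤ Subgroup.normalizer (P0 : Set X) := by
      rw [Subgroup.normalizer_eq_top (H := P0)]; exact le_top
    have hQg : (Q.map (MulAut.conj g).toMonoidHom) ≤ Subgroup.normalizer (P0 : Set X) := by
      rw [Subgroup.normalizer_eq_top (H := P0)]; exact le_top
    have hle : Q.map (MulAut.conj g).toMonoidHom ≤ P0 ⊔ Q := by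
      rw [hgen]
      rintro _ ⟨w, hw, rfl⟩
      exact ‹M.Normal›.conj_mem w (hQM hw) g
    obtain ⟨n, hn, he⟩ := Coprime.exists_conj_eq_of_solvable (N := P0)
      (H := Q.map (MulAut.conj g).toMonoidHom) (K := Q) hsol hQg hQn hle
      (Coprime.card_conj_map Q g)
      (by
        rw [Coprime.card_conj_map, hQcard]
        obtain ⟨j, hj⟩ := hP0p.exists_card_eq
        rw [hj]
        exact Nat.Coprime.pow_left _ hrel.symm)
    rw [Coprime.conj_map_map] at he
    have hng : n * g ∈ Subgroup.normalizer (Q : Set X) :=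
      Coprime.mem_normalizer_of_conj_map_le (Coprime.conj_map_le_iff.1 he.le)
    have := Subgroup.mul_mem_sup (inv_mem hn) hng
    simpa using this
  have hpN : p ∣ Nat.card (Subgroup.normalizer (Q : Set X)) := by
    have h1 : P0.relIndex (Subgroup.normalizer (Q : Set X)) = P0.index := by
      rw [← Subgroup.relIndex_top_right, ← hfr, Subgroup.relIndex_sup_left]
    exact hdvd.trans (h1 ▸ Subgroup.relIndex_dvd_card _ _)
  obtain ⟨y, hy⟩ := exists_prime_orderOf_dvd_card' (G := Subgroup.normalizer (Q : Set X)) p hpN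
  rw [← Subgroup.orderOf_coe] at hy
  refine hnofix _ hy (Subgroup.mem_centralizer_iff.2 fun x hx => ?_)
  have hyP : (y : X) ∈ P0 := (hcentral _ (hy ▸ pow_orderOf_eq_one _)).1
  have h1 : x * (y : X) * x⁻¹ * (y : X)⁻¹ ∈ Q := by
    have := mul_mem hx (((Subgroup.mem_normalizer_iff.1 y.2) x⁻¹).1 (inv_mem hx))
    simpa [mul_assoc] using this
  have h2 : x * (y : X) * x⁻¹ * (y : X)⁻¹ ∈ P0 :=
    mul_mem (‹P0.Normal›.conj_mem _ hyP x) (inv_mem hyP)
  exact mul_inv_eq_iff_eq_mul.1 (mul_inv_eq_one.1 (hdisj _ h1 h2))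

/-- The Gaschütz–Yen Theorem: let G be a finite p-soluble group, p an odd prime dividing its order, such that the automorphism group of G permutes the subgroups of G of order p transitively. Then G has p-length at most 1. -/
theorem result {G : Type*} [Group G] [Finite G] {p : ℕ} [Fact p.Prime] (hp : p ≠ 2) (hdvd : p ∣ Nat.card G) (hG : Cfsg.IsPSolvable p G) (htrans : ∀ U V : Subgroup G, Nat.card U = p → Nat.card V = p → ∃ a : MulAut G, U.map a.toMonoidHom = V) : Cfsg.PLengthLE p 1 G := by
  have hpp : p.Prime := Fact.out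
  haveI : ((Cfsg.upperPSeries p G 1).1).Normal := (Cfsg.upperPSeries p G 1).2
  haveI : ((Cfsg.upperPSeries p G 2).1).Normal := (Cfsg.upperPSeries p G 2).2
  set U1 := (Cfsg.upperPSeries p G 1).1 with hU1
  have hO : U1 = Cfsg.pPrimeCore p G := by
    rw [hU1, Cfsg.upperPSeries]
    simp only [show Even 0 from ⟨0, rfl⟩, if_true]
    haveI : ((Cfsg.upperPSeries p G 0).1).Normal := (Cfsg.upperPSeries p G 0).2
    set q := QuotientGroup.mk' (Cfsg.upperPSeries p G 0).1 with hq
    have hqs : Function.Surjective q := QuotientGroup.mk'_surjective _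
    have hqi : Function.Injective q := (MonoidHom.ker_eq_bot_iff _).mp (QuotientGroup.ker_mk' _)
    refine le_antisymm (Solvable.Cores.le_pPrimeCore ?_) (Subgroup.map_le_iff_le_comap.mp ?_)
    · rw [← Subgroup.card_map_of_injective hqi, Subgroup.map_comap_eq_self_of_surjective hqs]
      exact Solvable.Cores.coprime_card_pPrimeCore p
    · haveI := (inferInstance : (Cfsg.pPrimeCore p G).Normal).map q hqs
      refine Solvable.Cores.le_pPrimeCore ?_
      rw [Subgroup.card_map_of_injective hqi]
      exact Solvable.Cores.coprime_card_pPrimeCore p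
  have hbot : Cfsg.pPrimeCore p (G ⧸ U1) = ⊥ := by
    have : Cfsg.pPrimeCore p (G ⧸ Cfsg.pPrimeCore p G) = ⊥ :=
      CfsgLib.Components.pPrimeCore_quotient_eq_bot
    revert ‹U1.Normal›
    rw [hO]
    intro _
    exact this
  have hU1cop : (Nat.card U1).Coprime p := hO ▸ Solvable.Cores.coprime_card_pPrimeCore p
  have hU1char : U1.Characteristic := hO ▸ Solvable.Cores.pPrimeCore_characteristic p
  -- transitivity passes to the quotient
  have htq : ∀ U V : Subgroup (G ⧸ U1), Nat.card U = p → Nat.card V = p →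
      ∃ a : MulAut (G ⧸ U1), U.map a.toMonoidHom = V := by
    have lift : ∀ U : Subgroup (G ⧸ U1), Nat.card U = p →
        ∃ u : G, orderOf u = p ∧ (Subgroup.zpowers u).map (QuotientGroup.mk' U1) = U := by
      intro U hU
      have hd : p ∣ Nat.card (U.comap (QuotientGroup.mk' U1)) := by
        have := Subgroup.card_map_dvd (U.comap (QuotientGroup.mk' U1)) (QuotientGroup.mk' U1)
        rwa [Subgroup.map_comap_eq_self_of_surjective (QuotientGroup.mk'_surjective U1), hU] at this
      obtain ⟨u, hu⟩ := exists_prime_orderOf_dvd_card' (G := U.comap (QuotientGroup.mk' U1)) p hd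
      rw [← Subgroup.orderOf_coe] at hu
      refine ⟨u, hu, ?_⟩
      rw [MonoidHom.map_zpowers]
      refine Subgroup.eq_of_le_of_card_ge (Subgroup.zpowers_le.2 u.2) ?_
      rw [hU, Nat.card_zpowers]
      have h1 : QuotientGroup.mk' U1 (u : G) ≠ 1 := fun h => by
        have h2 : (u : G) ∈ U1 := (QuotientGroup.eq_one_iff _).1 h
        have h3 := hu ▸ Subgroup.orderOf_dvd_natCard U1 h2
        exact hpp.ne_one (Nat.eq_one_of_dvd_coprimes hU1cop h3 dvd_rfl)
      refine le_of_eq (orderOf_eq_prime ?_ h1).symm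
      rw [← map_pow, ← hu, pow_orderOf_eq_one, map_one]
    intro U V hU hV
    obtain ⟨u, hu, rfl⟩ := lift U hU
    obtain ⟨v, hv, rfl⟩ := lift V hV
    obtain ⟨a, ha⟩ := htrans (Subgroup.zpowers u) (Subgroup.zpowers v)
      (by rw [Nat.card_zpowers, hu]) (by rw [Nat.card_zpowers, hv])
    refine ⟨QuotientGroup.congr U1 U1 a (Subgroup.characteristic_iff_map_eq.1 hU1char a), ?_⟩
    rw [← ha, Subgroup.map_map, Subgroup.map_map]
    rfl
  have hcore := core hp (Fusion.PSolvable.psolvable_quotient hG U1) hbot htq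
  show (Cfsg.upperPSeries p G 3).1 = ⊤
  have hU2 : (Cfsg.upperPSeries p G 2).1 = (Cfsg.pCore p (G ⧸ U1)).comap (QuotientGroup.mk' U1) := by
    rw [Cfsg.upperPSeries]
    simp only [show ¬ Even 1 from Nat.not_even_one, if_false]
    rfl
  rw [Cfsg.upperPSeries]
  simp only [show Even 2 from even_two, if_true]
  have hind : ¬ p ∣ (Cfsg.upperPSeries p G 2).1.index := by
    rwa [hU2, Subgroup.index_comap_of_surjective _ (QuotientGroup.mk'_surjective U1)]
  have htop : Cfsg.pPrimeCore p (G ⧸ (Cfsg.upperPSeries p G 2).1) = ⊤ := by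
    refine top_le_iff.1 (Solvable.Cores.le_pPrimeCore ?_)
    rw [Subgroup.card_top, ← Subgroup.index_eq_card]
    exact ((hpp.coprime_iff_not_dvd).2 hind).symm
  rw [htop, Subgroup.comap_top]

end Cfsg.Agent.S3798
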