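import Cfsg.Statements.S3799
import Cfsg.Agent.Lib.PGroup.Frattini
import Cfsg.Agent.Lib.ThreeTransp.Simplicity

set_option autoImplicit false
open Cfsg

namespace Cfsg.Agent.S3799


/-- The Heisenberg group of degree `n` over `ZMod p`. -/
@[ext] structure Heis (p n : ℕ) where
  /-- row -/
  a : Fin n → ZMod p
  /-- column -/
  b : Fin n → ZMod p
  /-- corner -/
  c : ZMod p

namespace Heis

open scoped Matrix commutatorElement

variable {p n : ℕ}

instance : Mul (Heis p n) := ⟨fun g h => ⟨g.a + h.a, g.b + h.b, g.c + h.c + g.a ⬝ᵥ h.b⟩⟩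
instance : One (Heis p n) := ⟨⟨0, 0, 0⟩⟩
instance : Inv (Heis p n) := ⟨fun g => ⟨-g.a, -g.b, -g.c + g.a ⬝ᵥ g.b⟩⟩

@[simp] theorem mul_a (g h : Heis p n) : (g * h).a = g.a + h.a := rfl
@[simp] theorem mul_b (g h : Heis p n) : (g * h).b = g.b + h.b := rfl
@[simp] theorem mul_c (g h : Heis p n) : (g * h).c = g.c + h.c + g.a ⬝ᵥ h.b := rfl
@[simp] theorem one_a : (1 : Heis p n).a = 0 := rfl
@[simp] theorem one_b : (1 : Heis p n).b = 0 := rfl
@[simp] theorem one_c : (1 : Heis p n).c = 0 := rfl
@[simp] theorem inv_a (g : Heis p n) : g⁻¹.a = -g.a := rfl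
@[simp] theorem inv_b (g : Heis p n) : g⁻¹.b = -g.b := rfl
@[simp] theorem inv_c (g : Heis p n) : g⁻¹.c = -g.c + g.a ⬝ᵥ g.b := rfl

instance : Group (Heis p n) := Group.ofLeftAxioms
  (fun g h k => by
    ext <;> simp [add_assoc, add_dotProduct, dotProduct_add]
    ring)
  (fun g => by ext <;> simp)
  (fun g => by ext <;> simp [neg_dotProduct])

def equiv : Heis p n ≃ (Fin n → ZMod p) × (Fin n → ZMod p) × ZMod p where
  toFun g := (g.a, g.b, g.c)
  invFun t := ⟨t.1, t.2.1, t.2.2⟩
  left_inv _ := rfl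
  right_inv _ := rfl

instance [NeZero p] : Finite (Heis p n) := Finite.of_equiv _ equiv.symm

theorem card [NeZero p] : Nat.card (Heis p n) = p ^ (1 + 2 * n) := by
  rw [Nat.card_congr equiv, Nat.card_prod, Nat.card_prod, Nat.card_fun, Nat.card_zmod, Nat.card_fin]
  ring

theorem pow_eq (g : Heis p n) : ∀ k : ℕ,
    g ^ k = ⟨(k : ZMod p) • g.a, (k : ZMod p) • g.b, (k : ZMod p) * g.c + (k.choose 2 : ℕ) * (g.a ⬝ᵥ g.b)⟩
  | 0 => by ext <;> simp
  | k + 1 => by
    rw [pow_succ, pow_eq g k]
    ext <;> simp [Nat.choose_succ_succ', Nat.choose_one_right, add_smul, smul_dotProduct] <;> ring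

theorem pow_p [hp : Fact p.Prime] (h2 : p ≠ 2) (g : Heis p n) : g ^ p = 1 := by
  rw [pow_eq]
  have h : ((p.choose 2 : ℕ) : ZMod p) = 0 := by
    rw [ZMod.natCast_eq_zero_iff]
    exact hp.out.dvd_choose_self (by norm_num) (lt_of_le_of_ne hp.out.two_le (Ne.symm h2))
  ext <;> simp [h]

theorem comm_eq (g h : Heis p n) : ⁅g, h⁆ = ⟨0, 0, g.a ⬝ᵥ h.b - h.a ⬝ᵥ g.b⟩ := by
  rw [commutatorElement_def]
  ext <;> simp [neg_dotProduct, dotProduct_neg, add_dotProduct, dotProduct_add]
  ring

theorem mem_center {g : Heis p n} : g ∈ Subgroup.center (Heis p n) ↔ g.a = 0 ∧ g.b = 0 := by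
  rw [Subgroup.mem_center_iff]
  constructor
  · intro h
    constructor
    · funext i
      have := congrArg Heis.c (h ⟨0, Pi.single i 1, 0⟩)
      simpa using this
    · funext i
      have := congrArg Heis.c (h ⟨Pi.single i 1, 0, 0⟩)
      simpa using this
  · rintro ⟨ha, hb⟩ h
    ext <;> simp [ha, hb, add_comm]

theorem isExtraspecial [hp : Fact p.Prime] (h2 : p ≠ 2) (hn : 1 ≤ n) : Cfsg.IsExtraspecial p (Heis p n) := by
  have hP : IsPGroup p (Heis p n) := fun g => ⟨1, by rw [pow_one]; exact pow_p h2 g⟩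
  have hcomm : commutator (Heis p n) = Subgroup.center (Heis p n) := by
    refine le_antisymm ?_ fun g hg => ?_
    · rw [commutator_def, Subgroup.commutator_le]
      intro g _ h _
      rw [comm_eq]
      exact mem_center.mpr ⟨rfl, rfl⟩
    · obtain ⟨ha, hb⟩ := mem_center.mp hg
      let i : Fin n := ⟨0, hn⟩
      have h : g = ⁅(⟨g.c • Pi.single i 1, 0, 0⟩ : Heis p n), ⟨0, Pi.single i 1, 0⟩⁆ := by
        rw [comm_eq]
        ext <;> simp [ha, hb]
      rw [h]
      exact Subgroup.commutator_mem_commutator (Subgroup.mem_top _) (Subgroup.mem_top _)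
  refine ⟨⟨hP, le_antisymm (fun g hg => mem_center.mpr ?_) ?_, hcomm⟩, ?_⟩
  · have key : ∀ f : Heis p n →* Multiplicative (ZMod p), Function.Surjective f → f g = 1 := by
      intro f hf
      have hidx : f.ker.index = p := by
        rw [Subgroup.index_ker, Nat.card_congr (Equiv.subtypeUnivEquiv (fun x => hf x) : ↥f.range ≃ Multiplicative (ZMod p)),
          Nat.card_congr (Multiplicative.toAdd (α := ZMod p)), Nat.card_zmod]
      have hco : IsCoatom f.ker := by
        refine ⟨fun h => hp.out.ne_one (by rw [← hidx, h, Subgroup.index_top]), fun K hK => ?_⟩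
        have hd := Subgroup.index_dvd_of_le hK.le
        rw [hidx] at hd
        rcases (Nat.dvd_prime hp.out).mp hd with h | h
        · exact Subgroup.index_eq_one.mp h
        · exact absurd (Subgroup.eq_of_le_of_card_ge hK.le (by
            have e1 := f.ker.card_mul_index
            have e2 := K.card_mul_index
            rw [hidx] at e1; rw [h, ← e1] at e2
            exact (Nat.eq_of_mul_eq_mul_right hp.out.pos e2).le)) hK.ne
      exact frattini_le_coatom hco hg
    constructor
    · funext i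
      let f : Heis p n →* Multiplicative (ZMod p) :=
        MonoidHom.mk' (fun x => Multiplicative.ofAdd (x.a i)) (fun x y => rfl)
      exact key f fun t => ⟨⟨fun _ => Multiplicative.toAdd t, 0, 0⟩, rfl⟩
    · funext i
      let f : Heis p n →* Multiplicative (ZMod p) :=
        MonoidHom.mk' (fun x => Multiplicative.ofAdd (x.b i)) (fun x y => rfl)
      exact key f fun t => ⟨⟨0, fun _ => Multiplicative.toAdd t, 0⟩, rfl⟩
  · rw [← hcomm, commutator_def, Subgroup.commutator_le]
    exact fun g _ h _ => CfsgLib.PGroup.Frattini.commutatorElement_mem_frattini hP g h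
  · rw [Nat.card_congr (⟨fun g => g.1.c, fun c => ⟨⟨0, 0, c⟩, mem_center.mpr ⟨rfl, rfl⟩⟩, fun g => ?_, fun c => rfl⟩ :
      ↥(Subgroup.center (Heis p n)) ≃ ZMod p), Nat.card_zmod]
    obtain ⟨ha, hb⟩ := mem_center.mp g.2
    exact Subtype.ext (Heis.ext ha.symm hb.symm rfl)

/-- The linear action. -/
def toLin : Heis p n →* Module.End (ZMod p) (ZMod p × (Fin n → ZMod p) × ZMod p) where
  toFun g :=
    { toFun := fun v => (v.1 + g.a ⬝ᵥ v.2.1 + g.c * v.2.2, v.2.1 + v.2.2 • g.b, v.2.2)
      map_add' := fun v w => by ext <;> simp [dotProduct_add] <;> ring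
      map_smul' := fun t v => by ext <;> simp [dotProduct_smul] <;> ring }
  map_one' := LinearMap.ext fun v => by simp
  map_mul' g h := LinearMap.ext fun v => by
    ext <;> simp [add_dotProduct, dotProduct_add, dotProduct_smul] <;> ring

theorem toLin_injective : Function.Injective (toLin (p := p) (n := n)) := by
  intro g h e
  have e1 := fun v => LinearMap.congr_fun e v
  simp only [toLin, MonoidHom.coe_mk, OneHom.coe_mk, LinearMap.coe_mk, AddHom.coe_mk, Prod.mk.injEq] at e1
  ext i
  · simpa using (e1 (0, Pi.single i 1, 0)).1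
  · simpa using congrFun (e1 (0, 0, 1)).2.1 i
  · simpa using (e1 (0, 0, 1)).1

end Heis

/-- For every odd prime p and every n ≥ 1 there is an extraspecial p-group of order p^(1+2n) and exponent p; concretely, the general linear group of degree n + 2 over the field with p elements contains such a subgroup. -/
theorem result (p : ℕ) [Fact p.Prime] (hp : p ≠ 2) (n : ℕ) (hn : 1 ≤ n) : ∃ E : Subgroup (Matrix.GeneralLinearGroup (Fin (n + 2)) (ZMod p)), Cfsg.IsExtraspecial p ↥E ∧ Nat.card E = p ^ (1 + 2 * n) ∧ ∀ x ∈ E, x ^ p = 1 := by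
  classical
  have hfr : Module.finrank (ZMod p) (ZMod p × (Fin n → ZMod p) × ZMod p) = n + 2 := by
    rw [Module.finrank_prod, Module.finrank_prod, Module.finrank_fin_fun, Module.finrank_self]
    omega
  let B := Module.finBasisOfFinrankEq (ZMod p) (ZMod p × (Fin n → ZMod p) × ZMod p) hfr
  let f : Heis p n →* Matrix.GeneralLinearGroup (Fin (n + 2)) (ZMod p) :=
    MonoidHom.toHomUnits ((LinearMap.toMatrixAlgEquiv B).toRingEquiv.toMonoidHom.comp Heis.toLin)
  have hf : Function.Injective f := fun g h e =>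
    Heis.toLin_injective ((LinearMap.toMatrixAlgEquiv B).injective (congrArg Units.val e))
  have e := f.ofInjective hf
  refine ⟨f.range, ?_, by rw [← Nat.card_congr e.toEquiv, Heis.card], ?_⟩
  · obtain ⟨⟨hP, hfrat, hcomm⟩, hZ⟩ := Heis.isExtraspecial (n := n) hp hn
    exact CfsgLib.ThreeTransp.Simplicity.isExtraspecial_of_equiv e ⟨⟨hP, hfrat, hcomm⟩, hZ⟩
  · rintro _ ⟨g, rfl⟩
    rw [← map_pow, Heis.pow_p hp, map_one]

end Cfsg.Agent.S3799
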