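import Cfsg.Statements.S3800
import Cfsg.Agent.Lib.Coprime.SchurZassenhaus

set_option autoImplicit false
open Cfsg

namespace Cfsg.Agent.S3800

/-- Let G be a finite group, N a normal subgroup of G whose order is prime to p, and P a p-subgroup of G. Then in G/N the normalizer of the image of P is the image of N_G(P), and the centralizer of the image of P is the image of C_G(P). -/
theorem result {G : Type*} [Group G] [Finite G] {p : ℕ} [Fact p.Prime] (N : Subgroup G) [N.Normal] (hN : (Nat.card N).Coprime p) (P : Subgroup G) (hP : IsPGroup p P) : Subgroup.normalizer ((P.map (QuotientGroup.mk' N)) : Set (G ⧸ N)) = (Subgroup.normalizer (P : Set G)).map (QuotientGroup.mk' N) ∧ Subgroup.centralizer ((P.map (QuotientGroup.mk' N)) : Set (G ⧸ N)) = (Subgroup.centralizer (P : Set G)).map (QuotientGroup.mk' N) := by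
  have hd : ∀ x ∈ P, x ∈ N → x = 1 := fun x hxP hxN => by
    obtain ⟨k, hk⟩ := hP.exists_card_eq
    have h : x ∈ N ⊓ P := ⟨hxN, hxP⟩
    rwa [(Subgroup.disjoint_of_coprime_natCard (hk ▸ hN.pow_right k)).eq_bot, Subgroup.mem_bot] at h
  have hcop : (Nat.card N).Coprime (Nat.card P) := by
    obtain ⟨k, hk⟩ := hP.exists_card_eq
    exact hk ▸ hN.pow_right k
  set π := QuotientGroup.mk' N
  have hPs : Group.IsSolvable P := by have := hP.isNilpotent; infer_instance
  have key : ∀ g : G, π g ∈ Subgroup.normalizer ((P.map π) : Set (G ⧸ N)) →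
      ∃ n ∈ N, n * g ∈ Subgroup.normalizer (P : Set G) := by
    intro g hg
    have hle : P.map (MulAut.conj g).toMonoidHom ≤ N ⊔ P := CfsgLib.Coprime.conj_map_le_iff.2 fun x hx => by
      obtain ⟨y, hy, e⟩ := (hg (π x)).1 ⟨x, hx, rfl⟩
      have e' : π y = π (g * x * g⁻¹) := by rw [e, map_mul, map_mul, map_inv]
      have h1 := QuotientGroup.eq.1 e'
      have h2 := mul_mem (Subgroup.mem_sup_right hy : y ∈ N ⊔ P) (Subgroup.mem_sup_left h1)
      simpa using h2
    have hPs' : Group.IsSolvable ↥(P.map (MulAut.conj g).toMonoidHom) := by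
      have := (hP.map (MulAut.conj g).toMonoidHom).isNilpotent; infer_instance
    obtain ⟨n, hn, e⟩ := CfsgLib.Coprime.exists_conj_eq (.inr hPs') Subgroup.le_normalizer_of_normal
      Subgroup.le_normalizer_of_normal hle (CfsgLib.Coprime.card_conj_map P g)
      (by rw [CfsgLib.Coprime.card_conj_map]; exact hcop)
    rw [CfsgLib.Coprime.conj_map_map] at e
    exact ⟨n, hn, Subgroup.mem_normalizer_iff_map_conj_eq.2 e⟩
  refine ⟨le_antisymm (fun q hq => ?_) (Subgroup.le_normalizer_map π), le_antisymm (fun q hq => ?_) ?_⟩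
  · obtain ⟨g, rfl⟩ := QuotientGroup.mk'_surjective N q
    obtain ⟨n, hn, h⟩ := key g hq
    exact ⟨n * g, h, by rw [map_mul, show π n = 1 from (QuotientGroup.eq_one_iff n).2 hn, one_mul]⟩
  · obtain ⟨g, rfl⟩ := QuotientGroup.mk'_surjective N q
    obtain ⟨n, hn, h⟩ := key g (Subgroup.centralizer_le_normalizer _ hq)
    have hng : π (n * g) = π g := by rw [map_mul, show π n = 1 from (QuotientGroup.eq_one_iff n).2 hn, one_mul]
    refine ⟨n * g, Subgroup.mem_centralizer_iff.2 fun x hx => ?_, hng⟩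
    have h1 : (n * g) * x * (n * g)⁻¹ * x⁻¹ = 1 := by
      refine hd _ (mul_mem ((h x).1 hx) (inv_mem hx)) ?_
      rw [← QuotientGroup.eq_one_iff]
      show π _ = 1
      rw [map_mul, map_mul, map_mul, map_inv, map_inv, hng,
        ← Subgroup.mem_centralizer_iff.1 hq (π x) ⟨x, hx, rfl⟩]
      exact mul_inv_eq_one.2 (mul_inv_cancel_right _ _)
    exact (mul_inv_eq_iff_eq_mul.1 (mul_inv_eq_one.1 h1)).symm
  · rintro _ ⟨c, hc, rfl⟩
    refine Subgroup.mem_centralizer_iff.2 ?_
    rintro _ ⟨x, hx, rfl⟩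
    rw [← map_mul, ← map_mul, Subgroup.mem_centralizer_iff.1 hc x hx]

end Cfsg.Agent.S3800
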