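import Cfsg.Statements.S3803
import Cfsg.Agent.Lib.Frobenius.FixedOrder

set_option autoImplicit false
open Cfsg

namespace Cfsg.Agent.S3803

/-- Let P be a 2-subgroup and A a subgroup of odd order of a finite group, with A normalizing P. Let D ≤ P with 1 < |D| < |P|. If every subgroup of P of order |D|, and also every subgroup of P of order 4 in case |D| = 2, is normalized by A, then A centralizes P. -/
theorem result {X : Type*} [Group X] [Finite X] (P A D : Subgroup X) (hP : IsPGroup 2 P) (hA : Odd (Nat.card A))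
    (hAP : A ≤ Subgroup.normalizer (P : Set X)) (hDP : D ≤ P) (hD1 : 1 < Nat.card D) (hD2 : Nat.card D < Nat.card P)
    (hinv : ∀ E : Subgroup X, E ≤ P → (Nat.card E = Nat.card D ∨ (Nat.card D = 2 ∧ Nat.card E = 4)) → A ≤ Subgroup.normalizer (E : Set X)) :
    A ≤ Subgroup.centralizer (P : Set X) := by
  haveI : Fact (Nat.Prime 2) := ⟨Nat.prime_two⟩
  obtain ⟨m, hm⟩ := (hP.to_le hDP).exists_card_eq
  intro y hy
  refine CfsgLib.Frobenius.FixedOrder.centralizes_large (p := 2) (d := Nat.card D) ⟨m, ?_, hm⟩ hP hD2 (hAP hy) ?_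
    (fun q hq _ => hq.two_le) (fun E hE hc => hinv E hE hc hy)
  · by_contra h
    rw [hm, show m = 0 by omega, pow_zero] at hD1
    omega
  · exact (Nat.coprime_two_right.mpr (hA.of_dvd_nat (Subgroup.orderOf_dvd_natCard A hy)))

end Cfsg.Agent.S3803
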