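import Cfsg.Statements.S3804
import Cfsg.Agent.Lib.Components.Factorization
import Mathlib.Analysis.SpecialFunctions.Pow.Real

set_option autoImplicit false
open Cfsg
open scoped Pointwise

namespace Cfsg.Agent.S3804

/-- Let G and H be subgroups of a finite group with G normalizing H, fix a real number α > 0, and for a subgroup A of G put m(A) = |A|^α · |C_H(A)|. Let A and B be nontrivial subgroups of G at which m attains its maximum over all nontrivial subgroups of G, and assume that A ∩ B ≠ 1 or that this maximum is at least |H|. Then AB = BA is a subgroup at which m is again maximal, C_H(A ∩ B) = C_H(A) C_H(B), and if A ∩ B ≠ 1 then m is maximal at A ∩ B as well. -/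
theorem result {X : Type*} [Group X] [Finite X] (G H : Subgroup X) (hGH : G ≤ Subgroup.normalizer (H : Set X)) (α : ℝ) (hα : 0 < α)
    (A B : Subgroup X) (hA : A ≤ G) (hB : B ≤ G) (hA1 : A ≠ ⊥) (hB1 : B ≠ ⊥)
    (hAmax : ∀ A' : Subgroup X, A' ≤ G → A' ≠ ⊥ → (fun A : Subgroup X => ((Nat.card A : ℝ) ^ α) * (Nat.card ↥(H ⊓ Subgroup.centralizer (A : Set X)) : ℝ)) A' ≤ (fun A : Subgroup X => ((Nat.card A : ℝ) ^ α) * (Nat.card ↥(H ⊓ Subgroup.centralizer (A : Set X)) : ℝ)) A)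
    (hBmax : ∀ A' : Subgroup X, A' ≤ G → A' ≠ ⊥ → (fun A : Subgroup X => ((Nat.card A : ℝ) ^ α) * (Nat.card ↥(H ⊓ Subgroup.centralizer (A : Set X)) : ℝ)) A' ≤ (fun A : Subgroup X => ((Nat.card A : ℝ) ^ α) * (Nat.card ↥(H ⊓ Subgroup.centralizer (A : Set X)) : ℝ)) B)
    (hcase : A ⊓ B ≠ ⊥ ∨ (Nat.card H : ℝ) ≤ (fun A : Subgroup X => ((Nat.card A : ℝ) ^ α) * (Nat.card ↥(H ⊓ Subgroup.centralizer (A : Set X)) : ℝ)) A) :
    (∀ a ∈ A, ∀ b ∈ B, ∃ b' ∈ B, ∃ a' ∈ A, a * b = b' * a') ∧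
    (∀ A' : Subgroup X, A' ≤ G → A' ≠ ⊥ → (fun A : Subgroup X => ((Nat.card A : ℝ) ^ α) * (Nat.card ↥(H ⊓ Subgroup.centralizer (A : Set X)) : ℝ)) A' ≤ (fun A : Subgroup X => ((Nat.card A : ℝ) ^ α) * (Nat.card ↥(H ⊓ Subgroup.centralizer (A : Set X)) : ℝ)) (A ⊔ B)) ∧
    (∀ h ∈ H ⊓ Subgroup.centralizer ((A ⊓ B : Subgroup X) : Set X), ∃ u ∈ H ⊓ Subgroup.centralizer (A : Set X), ∃ v ∈ H ⊓ Subgroup.centralizer (B : Set X), h = u * v) ∧
    (A ⊓ B ≠ ⊥ → ∀ A' : Subgroup X, A' ≤ G → A' ≠ ⊥ → (fun A : Subgroup X => ((Nat.card A : ℝ) ^ α) * (Nat.card ↥(H ⊓ Subgroup.centralizer (A : Set X)) : ℝ)) A' ≤ (fun A : Subgroup X => ((Nat.card A : ℝ) ^ α) * (Nat.card ↥(H ⊓ Subgroup.centralizer (A : Set X)) : ℝ)) (A ⊓ B)) := by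
  classical
  beta_reduce at hAmax hBmax hcase ⊢
  set c : Subgroup X → Subgroup X := fun K => H ⊓ Subgroup.centralizer (K : Set X) with hc
  set m : Subgroup X → ℝ := fun K => ((Nat.card K : ℝ) ^ α) * (Nat.card ↥(c K) : ℝ) with hm
  set M := m A with hM
  have hBA : m B = M := le_antisymm (hAmax B hB hB1) (hBmax A hA hA1)
  have hJ : A ⊔ B ≤ G := sup_le hA hB
  have hJ1 : A ⊔ B ≠ ⊥ := fun h => hA1 (eq_bot_iff.mpr (h ▸ le_sup_left))
  have hposc : ∀ K : Subgroup X, (0 : ℝ) < (Nat.card ↥(c K) : ℝ) := fun K => by exact_mod_cast Nat.card_pos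
  have hposk : ∀ K : Subgroup X, (0 : ℝ) < (Nat.card K : ℝ) := fun K => by exact_mod_cast Nat.card_pos
  have hpos : ∀ K : Subgroup X, 0 < m K := fun K => mul_pos (Real.rpow_pos_of_pos (hposk K) α) (hposc K)
  have hI : m (A ⊓ B) ≤ M := by
    by_cases h0 : A ⊓ B = ⊥
    · rcases hcase with h | h
      · exact absurd h0 h
      · refine le_trans ?_ h
        show (Nat.card ↥(A ⊓ B) : ℝ) ^ α * _ ≤ _
        rw [h0, Subgroup.card_bot, Nat.cast_one, Real.one_rpow, one_mul]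
        exact_mod_cast Subgroup.card_le_of_le inf_le_left
    · exact hAmax _ (inf_le_left.trans hA) h0
  have hinter : c A ⊓ c B = c (A ⊔ B) := by
    refine le_antisymm ?_ (le_inf ?_ ?_)
    · intro x hx
      refine ⟨hx.1.1, ?_⟩
      exact Subgroup.mem_centralizer_iff.mpr fun y hy => by
        have hle : A ⊔ B ≤ Subgroup.centralizer ({x} : Set X) :=
          sup_le (fun a ha => Subgroup.mem_centralizer_singleton_iff.mpr (Subgroup.mem_centralizer_iff.mp hx.1.2 a ha))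
            (fun b hb => Subgroup.mem_centralizer_singleton_iff.mpr (Subgroup.mem_centralizer_iff.mp hx.2.2 b hb))
        exact Subgroup.mem_centralizer_singleton_iff.mp (hle hy)
    · exact inf_le_inf_left _ (Subgroup.centralizer_le (by exact_mod_cast (le_sup_left : A ≤ A ⊔ B)))
    · exact inf_le_inf_left _ (Subgroup.centralizer_le (by exact_mod_cast (le_sup_right : B ≤ A ⊔ B)))
  have hsub1 : (A : Set X) * (B : Set X) ⊆ (A ⊔ B : Subgroup X) := by
    rintro _ ⟨a, ha, b, hb, rfl⟩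
    exact mul_mem (Subgroup.mem_sup_left ha) (Subgroup.mem_sup_right hb)
  have hsub2 : (c A : Set X) * (c B : Set X) ⊆ (c (A ⊓ B) : Subgroup X) := by
    rintro _ ⟨a, ha, b, hb, rfl⟩
    refine mul_mem ⟨ha.1, ?_⟩ ⟨hb.1, ?_⟩
    · exact Subgroup.centralizer_le (by exact_mod_cast (inf_le_left : A ⊓ B ≤ A)) ha.2
    · exact Subgroup.centralizer_le (by exact_mod_cast (inf_le_right : A ⊓ B ≤ B)) hb.2
  have e1 : Nat.card ↥((A : Set X) * (B : Set X)) * Nat.card ↥(A ⊓ B) = Nat.card A * Nat.card B := by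
    rw [inf_comm, mul_comm (Nat.card A)]
    exact CfsgLib.Components.Factorization.card_coe_mul_mul_card_inf B A
  have e2 : Nat.card ↥((c A : Set X) * (c B : Set X)) * Nat.card ↥(c (A ⊔ B)) = Nat.card (c A) * Nat.card (c B) := by
    rw [← hinter, inf_comm, mul_comm (Nat.card (c A))]
    exact CfsgLib.Components.Factorization.card_coe_mul_mul_card_inf (c B) (c A)
  have h1 : Nat.card ↥((A : Set X) * (B : Set X)) ≤ Nat.card ↥(A ⊔ B) :=
    Nat.card_mono (Set.toFinite _) hsub1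
  have h2 : Nat.card ↥((c A : Set X) * (c B : Set X)) ≤ Nat.card ↥(c (A ⊓ B)) :=
    Nat.card_mono (Set.toFinite _) hsub2
  set p1 : ℝ := (Nat.card ↥((A : Set X) * (B : Set X)) : ℝ) with hp1
  set p2 : ℝ := (Nat.card ↥((c A : Set X) * (c B : Set X)) : ℝ) with hp2
  have hp1pos : 0 < p1 := by
    rw [hp1]; norm_cast
    rcases Nat.eq_zero_or_pos (Nat.card ↥((A : Set X) * (B : Set X))) with h | h
    · rw [h, zero_mul] at e1
      exact absurd e1.symm (Nat.mul_ne_zero Nat.card_pos.ne' Nat.card_pos.ne')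
    · exact h
  have hp2pos : 0 < p2 := by
    rw [hp2]; norm_cast
    rcases Nat.eq_zero_or_pos (Nat.card ↥((c A : Set X) * (c B : Set X))) with h | h
    · rw [h, zero_mul] at e2
      exact absurd e2.symm (Nat.mul_ne_zero Nat.card_pos.ne' Nat.card_pos.ne')
    · exact h
  have hprod : (p1 ^ α * (Nat.card ↥(c (A ⊔ B)) : ℝ)) * ((Nat.card ↥(A ⊓ B) : ℝ) ^ α * p2) = M * M := by
    nth_rewrite 2 [← hBA]
    show _ = ((Nat.card A : ℝ) ^ α * (Nat.card (c A) : ℝ)) * ((Nat.card B : ℝ) ^ α * (Nat.card (c B) : ℝ))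
    have e1' : p1 * (Nat.card ↥(A ⊓ B) : ℝ) = (Nat.card A : ℝ) * (Nat.card B : ℝ) := by
      rw [hp1]; exact_mod_cast e1
    have e2' : p2 * (Nat.card ↥(c (A ⊔ B)) : ℝ) = (Nat.card (c A) : ℝ) * (Nat.card (c B) : ℝ) := by
      rw [hp2]; exact_mod_cast e2
    have e3 := congrArg (fun t : ℝ => t ^ α) e1'
    simp only [Real.mul_rpow hp1pos.le (hposk _).le, Real.mul_rpow (hposk A).le (hposk B).le] at e3
    calc _ = (p1 ^ α * (Nat.card ↥(A ⊓ B) : ℝ) ^ α) * (p2 * (Nat.card ↥(c (A ⊔ B)) : ℝ)) := by ring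
      _ = _ := by rw [e3, e2']; ring
  have hle1 : p1 ^ α * (Nat.card ↥(c (A ⊔ B)) : ℝ) ≤ m (A ⊔ B) := by
    refine mul_le_mul_of_nonneg_right ?_ (hposc _).le
    exact Real.rpow_le_rpow hp1pos.le (by rw [hp1]; exact_mod_cast h1) hα.le
  have hle2 : (Nat.card ↥(A ⊓ B) : ℝ) ^ α * p2 ≤ m (A ⊓ B) := by
    refine mul_le_mul_of_nonneg_left ?_ (Real.rpow_pos_of_pos (hposk _) α).le
    rw [hp2]; exact_mod_cast h2
  have hJM : m (A ⊔ B) ≤ M := hAmax _ hJ hJ1
  have hMpos : 0 < M := hpos A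
  have x1 : p1 ^ α * (Nat.card ↥(c (A ⊔ B)) : ℝ) = M := by
    refine le_antisymm (hle1.trans hJM) ?_
    by_contra hlt
    push Not at hlt
    have := mul_lt_mul hlt (hle2.trans hI) (mul_pos (Real.rpow_pos_of_pos (hposk _) α) hp2pos) hMpos.le
    linarith [hprod]
  have x2 : (Nat.card ↥(A ⊓ B) : ℝ) ^ α * p2 = M := by
    rw [x1] at hprod
    exact mul_left_cancel₀ hMpos.ne' hprod
  have hJeq : m (A ⊔ B) = M := le_antisymm hJM (x1 ▸ hle1)
  have hIeq : m (A ⊓ B) = M := le_antisymm hI (x2 ▸ hle2)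
  have hc1 : Nat.card ↥((A : Set X) * (B : Set X)) = Nat.card ↥(A ⊔ B) := by
    have h : p1 ^ α = (Nat.card ↥(A ⊔ B) : ℝ) ^ α :=
      mul_right_cancel₀ (hposc (A ⊔ B)).ne' (x1.trans hJeq.symm)
    have h' := (Real.rpow_left_inj hp1pos.le (hposk _).le hα.ne').mp h
    rw [hp1] at h'; exact_mod_cast h'
  have hc2 : Nat.card ↥((c A : Set X) * (c B : Set X)) = Nat.card ↥(c (A ⊓ B)) := by
    have h' : p2 = (Nat.card ↥(c (A ⊓ B)) : ℝ) :=
      mul_left_cancel₀ (Real.rpow_pos_of_pos (hposk (A ⊓ B)) α).ne' (x2.trans hIeq.symm)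
    rw [hp2] at h'; exact_mod_cast h'
  have s1 : (A : Set X) * (B : Set X) = (A ⊔ B : Subgroup X) :=
    Set.eq_of_subset_of_ncard_le hsub1 (by rw [← Nat.card_coe_set_eq, ← Nat.card_coe_set_eq]; exact hc1.ge) (Set.toFinite _)
  have s2 : (c A : Set X) * (c B : Set X) = (c (A ⊓ B) : Subgroup X) :=
    Set.eq_of_subset_of_ncard_le hsub2 (by rw [← Nat.card_coe_set_eq, ← Nat.card_coe_set_eq]; exact hc2.ge) (Set.toFinite _)
  refine ⟨?_, fun A' h h' => (hAmax A' h h').trans hJeq.ge, ?_, fun _ A' h h' => (hAmax A' h h').trans hIeq.ge⟩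
  · intro a ha b hb
    have hmem : (a * b)⁻¹ ∈ (A : Set X) * (B : Set X) := by
      rw [s1]; exact inv_mem (mul_mem (Subgroup.mem_sup_left ha) (Subgroup.mem_sup_right hb))
    obtain ⟨a', ha', b', hb', e⟩ := hmem
    refine ⟨b'⁻¹, inv_mem hb', a'⁻¹, inv_mem ha', ?_⟩
    have e' : a' * b' = (a * b)⁻¹ := e
    rw [← mul_inv_rev, e', inv_inv]
  · intro h hh
    have hmem : h ∈ (c A : Set X) * (c B : Set X) := by rw [s2]; exact hh
    obtain ⟨u, hu, v, hv, e⟩ := hmem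
    exact ⟨u, hu, v, hv, e.symm⟩

end Cfsg.Agent.S3804
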