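import Cfsg.Statements.S3806
import Cfsg.Agent.Lib.PGroup.Regular
import Cfsg.Agent.Lib.PGroup.PolySeq
import Cfsg.Agent.Lib.Fusion.MaxClass
-- import your own Cfsg.Agent.* helpers here

set_option autoImplicit false
open Cfsg

namespace Cfsg.Agent.S3806

open Subgroup CfsgLib.PGroup
open scoped commutatorElement

section Helpers

universe u
variable {G : Type u} [Group G] [Finite G] {p : ℕ} [hp : Fact p.Prime]

local notation "L" => Subgroup.lowerCentralSeries (⊤ : Subgroup G)

theorem not_union_proper (hG : IsPGroup p G) {m : ℕ} (hm : m ≤ p) (C : Fin m → Subgroup G) (hC : ∀ i, C i ≠ ⊤) :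
    ∃ s, ∀ i, s ∉ C i := by
  classical
  rcases Nat.eq_zero_or_pos m with rfl | hmpos
  · exact ⟨1, fun i => i.elim0⟩
  by_contra hc
  push Not at hc
  haveI := Fintype.ofFinite G
  have hsub : (Finset.univ : Finset G).erase 1 ⊆
      Finset.univ.biUnion fun i : Fin m => ((Finset.univ : Finset G).filter (· ∈ C i)).erase 1 := by
    intro x hx
    obtain ⟨i, hi⟩ := hc x
    simp only [Finset.mem_biUnion, Finset.mem_univ, true_and, Finset.mem_erase, Finset.mem_filter]
    exact ⟨i, (Finset.mem_erase.mp hx).1, hi⟩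
  have h1 := (Finset.card_le_card hsub).trans Finset.card_biUnion_le
  have h2 : ∀ i : Fin m, p * ((((Finset.univ : Finset G).filter (· ∈ C i)).erase 1).card + 1) ≤ Nat.card G := by
    intro i
    rw [Finset.card_erase_add_one (by simp [one_mem]), ← Fintype.card_subtype, ← Nat.card_eq_fintype_card]
    have := CfsgLib.Fusion.MaxClass.card_mul_le_of_lt hG (lt_of_le_of_ne le_top (hC i))
    rw [card_top] at this
    exact this
  have h3 : p * ∑ i : Fin m, (((Finset.univ : Finset G).filter (· ∈ C i)).erase 1).card ≤ m * (Nat.card G - p) := by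
    rw [Finset.mul_sum]
    refine le_trans (Finset.sum_le_card_nsmul _ _ (Nat.card G - p) fun i _ => ?_) (by simp)
    have := h2 i
    rw [mul_add, mul_one] at this
    omega
  rw [Finset.card_erase_of_mem (Finset.mem_univ _), Finset.card_univ, ← Nat.card_eq_fintype_card] at h1
  have h4 := Nat.mul_le_mul_left p h1
  have h5 := (h4.trans h3).trans (Nat.mul_le_mul_right _ hm)
  have h6 := h2 ⟨0, hmpos⟩
  rw [mul_add, mul_one] at h6
  have h7 := Nat.le_of_mul_le_mul_left h5 hp.out.pos
  have := hp.out.two_le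
  omega

/-- Elements centralising one step of the lower central series modulo the next but one. -/
def twoStep (j : ℕ) : Subgroup G where
  carrier := {s | ∀ b ∈ L j, ⁅s, b⁆ ∈ L (j + 2)}
  one_mem' := fun b _ => by simp
  mul_mem' := fun {u v} hu hv b hb => by
    haveI : (L (j + 2)).Normal := inferInstance
    rw [show ⁅u * v, b⁆ = u * ⁅v, b⁆ * u⁻¹ * ⁅u, b⁆ by simp only [commutatorElement_def]; group]
    exact mul_mem ((inferInstance : (L (j + 2)).Normal).conj_mem _ (hv b hb) u) (hu b hb)
  inv_mem' := fun {u} hu b hb => by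
    rw [show ⁅u⁻¹, b⁆ = u⁻¹ * ⁅u, b⁆⁻¹ * u⁻¹⁻¹ by simp only [commutatorElement_def]; group]
    exact (inferInstance : (L (j + 2)).Normal).conj_mem _ (inv_mem (hu b hb)) _

theorem twoStep_ne_top {j : ℕ} (h : L (j + 2) < L (j + 1)) : twoStep (G := G) j ≠ ⊤ := by
  intro htop
  refine h.not_ge ?_
  rw [Subgroup.lowerCentralSeries_succ _ j, commutator_le]
  intro b hb g _
  rw [← commutatorElement_inv]
  exact inv_mem ((htop.ge (mem_top g) : g ∈ twoStep j) b hb)

theorem exists_elementary {k : ℕ} (hk : 1 ≤ k) (hpk : k + 2 ≤ p) (hcard : Nat.card G = p ^ (2 * k + 1))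
    (hne : L (2 * k - 1) ≠ ⊥) :
    ∃ A : Subgroup G, IsMulCommutative A ∧ (∀ a ∈ A, a ^ p = 1) ∧ Nat.card A = p ^ (k + 1) ∨
      ∃ N : Subgroup G, ∃ _ : N.Normal, IsMulCommutative (⊤ : Subgroup (G ⧸ N)) ∧
        (∀ a : G ⧸ N, a ^ p = 1) ∧ Nat.card (G ⧸ N) = p ^ (k + 1) := by
  classical
  have hP : IsPGroup p G := IsPGroup.of_card hcard
  haveI := hP.isNilpotent
  have hbot : L (2 * k) = ⊥ :=
    Subgroup.lowerCentralSeries_eq_bot_iff_nilpotencyClass_le.mpr
      ((CfsgLib.Fusion.MaxClass.class_le (by omega) hcard).trans (by omega))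
  have hne' : ∀ l, l ≤ 2 * k - 1 → L l ≠ ⊥ := fun l hl h =>
    hne (le_bot_iff.mp (h ▸ Subgroup.lowerCentralSeries_antitone _ hl))
  have hcl : ∀ l, 1 ≤ l → l ≤ 2 * k → Nat.card (L l) = p ^ (2 * k - l) := by
    have lower : ∀ j l, l + j = 2 * k → p ^ j ≤ Nat.card (L l) := by
      intro j
      induction j with
      | zero => intro l _; simpa using Nat.one_le_iff_ne_zero.mpr Nat.card_pos.ne'
      | succ j ih =>
        intro l hl
        calc p ^ (j + 1) = p * p ^ j := pow_succ' _ _
          _ ≤ p * Nat.card (L (l + 1)) := Nat.mul_le_mul_left _ (ih (l + 1) (by omega))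
          _ ≤ _ := CfsgLib.Fusion.MaxClass.card_mul_le_of_lt hP
              (CfsgLib.Fusion.MaxClass.lcs_strict hP (hne' l (by omega)))
    intro l hl hl2
    refine le_antisymm ?_ (lower _ _ (by omega))
    obtain ⟨l, rfl⟩ : ∃ l', l = l' + 1 := ⟨l - 1, by omega⟩
    rcases CfsgLib.Fusion.MaxClass.card_lcs_le hP (show 2 ≤ 2 * k + 1 by omega) hcard l with h | h
    · rw [h, Subgroup.card_bot]; exact Nat.one_le_pow _ _ hp.out.pos
    · refine Nat.le_of_mul_le_mul_left (h.trans (le_of_eq ?_)) (pow_pos hp.out.pos (l + 2))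
      rw [← pow_add]; congr 1; omega
  -- the first layer
  have hL1 : commutator G = L 1 := by rw [Subgroup.lowerCentralSeries_succ, Subgroup.lowerCentralSeries_zero]; rfl
  have hq2 : Nat.card (G ⧸ L 1) = p ^ 2 := by
    have h := Subgroup.card_eq_card_quotient_mul_card_subgroup (L 1)
    rw [hcard, hcl 1 le_rfl (by omega), show 2 * k + 1 = 2 + (2 * k - 1) by omega, pow_add] at h
    exact (Nat.eq_of_mul_eq_mul_right (pow_pos hp.out.pos _) h).symm
  have hq2c : IsMulCommutative (G ⧸ L 1) := IsPGroup.isMulCommutative_of_card_eq_prime_sq hq2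
  have hexp1 : ∀ x : G, x ^ p ∈ L 1 := by
    intro x
    rw [← QuotientGroup.eq_one_iff, QuotientGroup.mk_pow]
    by_contra hx
    have hord : orderOf (x : G ⧸ L 1) = p ^ 2 := by
      refine orderOf_eq_prime_pow (by rwa [pow_one]) ?_
      rw [← hq2]; exact pow_card_eq_one'
    have hc : IsCyclic (G ⧸ L 1) := isCyclic_of_orderOf_eq_card _ (hord.trans hq2.symm)
    have := CfsgLib.Fusion.MaxClass.commutator_eq_bot_of_cyclic hP (by
      haveI := hc
      exact (MulEquiv.isCyclic (QuotientGroup.quotientMulEquivOfEq hL1.symm)).mp hc)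
    rw [hL1] at this
    exact hne' 1 (by omega) this
  rcases Nat.lt_or_ge k 2 with hk1 | hk2
  · obtain rfl : k = 1 := by omega
    refine ⟨⊥, Or.inr ⟨L 1, inferInstance, ⟨⟨fun a b => Subtype.ext (hq2c.1.comm a.1 b.1)⟩⟩, ?_, hq2⟩⟩
    intro a
    induction a using QuotientGroup.induction_on with | _ x => ?_
    rw [← QuotientGroup.mk_pow, QuotientGroup.eq_one_iff]
    exact hexp1 x
  have hlt : ∀ j, j + 1 ≤ 2 * k → L (j + 1) < L j := fun j hj =>
    CfsgLib.Fusion.MaxClass.lcs_strict hP (hne' j (by omega))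
  have hlayer : ∀ j, 1 ≤ j → j + 1 ≤ 2 * k → ∀ c ∈ L j, c ∉ L (j + 1) → L j ≤ zpowers c ⊔ L (j + 1) := by
    intro j hj1 hj c hc hc'
    refine (Subgroup.eq_of_le_of_card_ge (sup_le (zpowers_le.mpr hc) (Subgroup.lowerCentralSeries_antitone _ (Nat.le_succ j))) ?_).ge
    refine le_trans (le_of_eq ?_) (CfsgLib.Fusion.MaxClass.card_mul_le_of_lt hP
      (lt_of_le_not_ge (le_sup_right : L (j + 1) ≤ zpowers c ⊔ L (j + 1)) fun e => hc' (e (mem_sup_left (mem_zpowers c)))))
    rw [hcl j hj1 (by omega), hcl (j + 1) (by omega) hj, ← pow_succ']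
    congr 1
    omega
  have hself : ∀ j, 1 ≤ j → j + 1 ≤ 2 * k → ∀ x : G, x ^ p ∈ L j → x ^ p ∉ L (j + 1) → x ∈ twoStep j := by
    intro j hj1 hj x hx hx' b hb
    obtain ⟨u, hu, v, hv, rfl⟩ := Subgroup.mem_sup_of_normal_right.mp (hlayer j hj1 hj _ hx hx' hb)
    have hxu : Commute x u := by
      obtain ⟨i, rfl⟩ := mem_zpowers_iff.mp hu
      exact (Commute.self_pow x p).zpow_right i
    have h1 : ⁅x, v⁆ ∈ L (j + 2) := by
      rw [← commutatorElement_inv, Subgroup.lowerCentralSeries_succ _ (j + 1)]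
      exact inv_mem (commutator_mem_commutator hv (mem_top x))
    rw [show ⁅x, u * v⁆ = ⁅x, u⁆ * (u * ⁅x, v⁆ * u⁻¹) by simp only [commutatorElement_def]; group,
      commutatorElement_eq_one_iff_commute.mpr hxu, one_mul]
    exact (inferInstance : (L (j + 2)).Normal).conj_mem _ h1 u
  -- all powers lie in `L (k - 1)`
  have hpowA : ∀ m, 1 ≤ m → m ≤ k - 1 → ∀ x : G, x ^ p ∈ L m := by
    intro m
    induction m with
    | zero => omega
    | succ m ihm =>
      intro _ hm
      rcases Nat.eq_zero_or_pos m with rfl | hm1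
      · exact hexp1
      have hprev := ihm hm1 (by omega)
      let π := QuotientGroup.mk' (L (m + 1))
      have hPq : IsPGroup p (G ⧸ L (m + 1)) := hP.to_quotient _
      have hreg : CfsgLib.PGroup.Regular.RegN p 1 (G ⧸ L (m + 1)) := fun a b => by
        refine (CfsgLib.PGroup.PolySeq.regular_of_class_lt hPq ?_).2 a b 1
        rw [← Subgroup.map_top_of_surjective π (QuotientGroup.mk'_surjective _),
          ← Subgroup.map_lowerCentralSeries, Subgroup.map_eq_bot_iff, QuotientGroup.ker_mk']
        exact Subgroup.lowerCentralSeries_antitone _ (by omega)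
      have hiff := CfsgLib.PGroup.Regular.pow_eq_iff' hPq hreg
      simp only [pow_one] at hiff
      let O : Subgroup (G ⧸ L (m + 1)) :=
        { carrier := {x | x ^ p = 1}
          one_mem' := one_pow _
          mul_mem' := fun {a b} ha hb => by
            have hb' : b⁻¹ ^ p = 1 := by rw [inv_pow, show b ^ p = 1 from hb, inv_one]
            have := (hiff a b⁻¹).mp (by rw [show a ^ p = 1 from ha, hb'])
            rwa [inv_inv] at this
          inv_mem' := fun {a} ha => by show a⁻¹ ^ p = 1; rw [inv_pow, show a ^ p = 1 from ha, inv_one] }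
      have hcentral : ∀ a g : G ⧸ L (m + 1), Commute g (a ^ p) := by
        intro a g
        induction a using QuotientGroup.induction_on with | _ a => ?_
        induction g using QuotientGroup.induction_on with | _ g => ?_
        refine (commutatorElement_eq_one_iff_commute.mp ?_).symm
        show ⁅π a ^ p, π g⁆ = 1
        rw [← map_pow, ← map_commutatorElement, QuotientGroup.mk'_apply, QuotientGroup.eq_one_iff,
          Subgroup.lowerCentralSeries_succ]
        exact commutator_mem_commutator (hprev a) (mem_top g)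
      have hcommO : ⁅(⊤ : Subgroup (G ⧸ L (m + 1))), (⊤ : Subgroup (G ⧸ L (m + 1)))⁆ ≤ O := by
        refine commutator_le.mpr fun g _ a _ => ?_
        refine (hiff (g * a * g⁻¹) a).mp ?_
        rw [conj_pow, (hcentral a g).eq, mul_inv_cancel_right]
      have hmul : ∀ a b : G ⧸ L (m + 1), (a * b) ^ p = a ^ p * b ^ p := by
        intro a b
        obtain ⟨c, hc, hce⟩ := hreg a b
        rw [pow_one] at hce
        rw [hce]
        have : c = 1 := by
          rw [← mem_bot]
          refine (closure_le _).mpr ?_ hc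
          rintro _ ⟨y, hy, rfl⟩
          show y ^ p ^ 1 = 1
          rw [pow_one]
          exact hcommO (commutator_mono le_top le_top hy)
        rw [this, mul_one]
      let K : Subgroup G := MonoidHom.ker (((MonoidHom.mk' (fun a : G ⧸ L (m + 1) => a ^ p) hmul)).comp π)
      by_contra hcon
      push Not at hcon
      obtain ⟨x₀, hx₀⟩ := hcon
      have hK : K ≠ ⊤ := fun h => hx₀ (by
        have h1 : x₀ ∈ K := h.ge (mem_top x₀)
        rw [MonoidHom.mem_ker] at h1
        exact (QuotientGroup.eq_one_iff _).mp (show π (x₀ ^ p) = 1 by rw [map_pow]; exact h1))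
      have hT := twoStep_ne_top (G := G) (j := m) (hlt (m + 1) (by omega))
      obtain ⟨s, hs⟩ := not_union_proper hP (m := 2) hp.out.two_le ![K, twoStep m]
        (fun i => by fin_cases i <;> simp [hK, hT])
      refine hs 1 (hself m hm1 (by omega) s (hprev s) fun h => hs 0 ?_)
      show s ∈ K
      rw [MonoidHom.mem_ker]
      show π s ^ p = 1
      rw [← map_pow]
      exact (QuotientGroup.eq_one_iff _).mpr h
  -- a generic element
  obtain ⟨s, hs⟩ := not_union_proper hP (show k + 1 ≤ p by omega) (fun i : Fin (k + 1) => twoStep (G := G) (k - 2 + i))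
    (fun i => twoStep_ne_top (hlt (k - 2 + i + 1) (by have := i.2; omega)))
  have hgen : ∀ j, k - 2 ≤ j → j ≤ 2 * k - 2 → s ∉ twoStep (G := G) j := fun j h1 h2 => by
    have := hs ⟨j - (k - 2), by omega⟩
    simpa [show k - 2 + (j - (k - 2)) = j by omega] using this
  have hspc : ∀ g : G, Commute (s ^ p) g := by
    have hz : s ^ p ∈ L (2 * k - 1) := by
      have : ∀ j, k - 1 ≤ j → j ≤ 2 * k - 1 → s ^ p ∈ L j := by
        intro j h1
        induction j, h1 using Nat.le_induction with
        | base => intro _; exact hpowA (k - 1) (by omega) le_rfl s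
        | succ j hj ih =>
          intro hj2
          by_contra hn
          exact hgen j (by omega) (by omega) (hself j (by omega) (by omega) s (ih (by omega)) hn)
      exact this _ (by omega) le_rfl
    intro g
    refine commutatorElement_eq_one_iff_commute.mp ?_
    rw [← mem_bot, ← hbot, show 2 * k = 2 * k - 1 + 1 by omega, Subgroup.lowerCentralSeries_succ]
    exact commutator_mem_commutator hz (mem_top g)
  set A : Subgroup G := L (k - 1) with hAdef
  haveI hAn : A.Normal := inferInstanceAs (L (k - 1)).Normal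
  have hAc : IsMulCommutative A := by
    obtain ⟨a, ha, ha'⟩ := SetLike.exists_of_lt (hlt (k - 1) (by omega))
    have hle : A ≤ closure (({a} : Set G) ∪ (L (k - 1 + 1) : Set G)) := by
      rw [Subgroup.closure_union, Subgroup.closure_eq, ← zpowers_eq_closure]
      exact hlayer (k - 1) (by omega) (by omega) a ha ha'
    have hz : ∀ u ∈ L (k - 1), ∀ v ∈ L (k - 1 + 1), u * v = v * u := fun u hu v hv =>
      commutatorElement_eq_one_iff_mul_comm.mp (mem_bot.mp (hbot.le (by
        have := CfsgLib.PGroup.PolySeq.commutator_lcs_le (G := G) (k - 1) (k - 1 + 1) (commutator_mem_commutator hu hv)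
        rwa [show k - 1 + (k - 1 + 1) + 1 = 2 * k by omega] at this)))
    have hcl' : IsMulCommutative (closure (({a} : Set G) ∪ (L (k - 1 + 1) : Set G))) := by
      refine isMulCommutative_closure ?_
      rintro u (hu | hu) v (hv | hv)
      · rw [Set.mem_singleton_iff.mp hu, Set.mem_singleton_iff.mp hv]
      · rw [Set.mem_singleton_iff.mp hu]; exact hz a ha v hv
      · rw [Set.mem_singleton_iff.mp hv]; exact (hz a ha u hu).symm
      · exact hz u (Subgroup.lowerCentralSeries_antitone _ (Nat.le_succ _) hu) v hv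
    refine ⟨⟨fun u v => Subtype.ext ?_⟩⟩
    have h := congrArg Subtype.val (hcl'.1.comm ⟨u, hle u.2⟩ ⟨v, hle v.2⟩)
    exact h
  letI : CommGroup A := { (inferInstance : Group A) with mul_comm := fun a b => hAc.1.comm a b }
  let σ : AddMonoid.End (Additive A) := MonoidHom.toAdditive (MulAut.conjNormal (H := A) s).toMonoidHom
  have hσ : ∀ a : Additive A, ((Additive.toMul (σ a) : A) : G) = s * (Additive.toMul a : A) * s⁻¹ := fun a => rfl
  set Dd : AddMonoid.End (Additive A) := σ - 1 with hDd
  have hσn : ∀ (n : ℕ) (a : Additive A), ((Additive.toMul ((σ ^ n) a) : A) : G) = s ^ n * (Additive.toMul a : A) * (s ^ n)⁻¹ := by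
    intro n
    induction n with
    | zero => intro a; simp
    | succ n ih => intro a; rw [pow_succ', AddMonoid.End.coe_mul, Function.comp_apply, hσ, ih, pow_succ']; group
  -- the differences shift the layers
  have hDshift : ∀ i (a : Additive A), ((Additive.toMul ((Dd ^ i) a) : A) : G) ∈ L (k - 1 + i) := by
    intro i
    induction i with
    | zero => intro a; exact (Additive.toMul a : A).2
    | succ i ih =>
      intro a
      rw [pow_succ', AddMonoid.End.coe_mul, Function.comp_apply]
      set c := (Dd ^ i) a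
      have e : ((Additive.toMul (Dd c) : A) : G) = s * (Additive.toMul c : A) * s⁻¹ * ((Additive.toMul c : A) : G)⁻¹ := by
        rw [hDd]
        show ((Additive.toMul (σ c - c) : A) : G) = _
        rw [toMul_sub, Subgroup.coe_div, hσ, div_eq_mul_inv]
      rw [e, ← commutatorElement_def, ← commutatorElement_inv, show k - 1 + (i + 1) = k - 1 + i + 1 by omega,
        Subgroup.lowerCentralSeries_succ]
      exact inv_mem (commutator_mem_commutator (ih a) (mem_top s))
  have hDnil : ∀ i, k + 1 ≤ i → Dd ^ i = 0 := by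
    intro i hi
    refine AddMonoidHom.ext fun a => ?_
    have h := hDshift i a
    have : L (k - 1 + i) = ⊥ := le_bot_iff.mp (hbot ▸ Subgroup.lowerCentralSeries_antitone _ (by omega))
    rw [this, mem_bot] at h
    exact Additive.toMul.injective (Subtype.ext h)
  set N : AddMonoid.End (Additive A) := ∑ i ∈ Finset.range p, σ ^ i with hN
  have hsum : ∀ m : ℕ, (∑ i ∈ Finset.range m, σ ^ i) = ∑ j ∈ Finset.range m, (m.choose (j + 1)) • Dd ^ j := by
    intro m
    induction m with
    | zero => simp
    | succ m ih =>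
      have e : σ ^ m = ∑ j ∈ Finset.range (m + 1), (m.choose j) • Dd ^ j := by
        rw [show σ = Dd + 1 by rw [hDd]; simp, (Commute.one_right Dd).add_pow]
        refine Finset.sum_congr rfl fun j _ => ?_
        rw [one_pow, mul_one, nsmul_eq_mul, Nat.cast_comm]
      rw [Finset.sum_range_succ, ih, e]
      simp only [Nat.choose_succ_succ', add_smul, Finset.sum_add_distrib]
      rw [Finset.sum_range_succ (fun j => m.choose (j + 1) • Dd ^ j), Nat.choose_eq_zero_of_lt (Nat.lt_succ_self m),
        zero_nsmul, add_zero, add_comm]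
  -- the norm vanishes
  have hN0 : N = 0 := by
    have hcomm : ∀ b : G, ∀ hcA : ⁅s, b⁆ ∈ A, ∀ m : ℕ,
        ((Additive.toMul ((∑ i ∈ Finset.range m, σ ^ i) (Additive.ofMul (⟨_, hcA⟩ : A))) : A) : G) =
          s ^ m * b * (s ^ m)⁻¹ * b⁻¹ := by
      intro b hcA m
      induction m with
      | zero => simp
      | succ m ihm =>
        rw [Finset.sum_range_succ, add_comm]
        show ((Additive.toMul ((σ ^ m) _ + (∑ i ∈ Finset.range m, σ ^ i) _) : A) : G) = _
        rw [toMul_add, Subgroup.coe_mul, hσn, ihm,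
          toMul_ofMul, pow_succ]
        simp only [commutatorElement_def]
        group
    let Nker : Subgroup G := (AddSubgroup.toSubgroup' (AddMonoidHom.ker N)).map A.subtype
    have key : ∀ d, d ≤ k + 1 → L (2 * k - d) ≤ Nker := by
      intro d
      induction d with
      | zero => intro _; rw [Nat.sub_zero, hbot]; exact bot_le
      | succ d ih =>
        intro hd
        set j := 2 * k - (d + 1) with hj
        obtain ⟨b, hb, hbn⟩ : ∃ b ∈ L (j - 1), ⁅s, b⁆ ∉ L (j - 1 + 2) := by
          have := hgen (j - 1) (by omega) (by omega)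
          by_contra hc
          push Not at hc
          exact this hc
        have hcA : ⁅s, b⁆ ∈ L j := by
          rw [← commutatorElement_inv, show j = j - 1 + 1 by omega, Subgroup.lowerCentralSeries_succ]
          exact inv_mem (commutator_mem_commutator hb (mem_top s))
        have hcA' : ⁅s, b⁆ ∈ A := Subgroup.lowerCentralSeries_antitone _ (by omega) hcA
        have hmem : ⁅s, b⁆ ∈ Nker := by
          refine ⟨⟨_, hcA'⟩, ?_, rfl⟩
          refine AddMonoidHom.mem_ker.mpr (Additive.toMul.injective (Subtype.ext ?_))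
          show ((Additive.toMul (N (Additive.ofMul (⟨_, hcA'⟩ : A))) : A) : G) = 1
          rw [hN, hcomm b hcA' p, (hspc b).eq, mul_inv_cancel_right, mul_inv_cancel]
        refine (hlayer j (by omega) (by omega) _ hcA (by rwa [show j + 1 = j - 1 + 2 by omega])).trans
          (sup_le (zpowers_le.mpr hmem) ?_)
        rw [show j + 1 = 2 * k - d by omega]
        exact ih (by omega)
    refine AddMonoidHom.ext fun a => ?_
    have h := key (k + 1) le_rfl (show ((Additive.toMul a : A) : G) ∈ L (2 * k - (k + 1)) by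
      rw [show 2 * k - (k + 1) = k - 1 by omega]; exact (Additive.toMul a : A).2)
    obtain ⟨y, hy, hye⟩ := h
    obtain rfl : y = Additive.toMul a := Subtype.ext hye
    exact (AddMonoidHom.mem_ker.mp hy :)
  obtain ⟨c, hc⟩ : ∃ c : ℕ → ℕ, ∀ j, j + 1 < p → p.choose (j + 1) = p * c j :=
    ⟨fun j => p.choose (j + 1) / p, fun j hj =>
      (Nat.mul_div_cancel' (hp.out.dvd_choose_self (Nat.succ_ne_zero j) hj)).symm⟩
  obtain ⟨p', hp'⟩ : ∃ p', p = p' + 2 := ⟨p - 2, by omega⟩
  have hrel : (p : ℕ) • (1 + ∑ j ∈ Finset.range p', c (j + 1) • Dd ^ (j + 1)) = 0 := by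
    rw [← hN0, hN, hsum p]
    rw [show Finset.range p = Finset.range (p' + 1 + 1) by rw [hp'], Finset.sum_range_succ,
      hDnil (p' + 1) (by omega), smul_zero, add_zero, Finset.sum_range_succ', Nat.choose_one_right, pow_zero,
      add_comm]
    simp only [nsmul_eq_mul, mul_add, mul_one, Finset.mul_sum]
    congr 1
    refine Finset.sum_congr rfl fun j hj => ?_
    rw [Finset.mem_range] at hj
    rw [← mul_assoc, ← Nat.cast_mul, ← hc (j + 1) (by omega)]
  have hunit : IsUnit (1 + ∑ j ∈ Finset.range p', c (j + 1) • Dd ^ (j + 1)) := by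
    refine IsNilpotent.isUnit_one_add ⟨k + 1, ?_⟩
    rw [show (∑ j ∈ Finset.range p', c (j + 1) • Dd ^ (j + 1)) = Dd * ∑ j ∈ Finset.range p', c (j + 1) • Dd ^ j by
      rw [Finset.mul_sum]; exact Finset.sum_congr rfl fun j _ => by rw [mul_smul_comm, pow_succ'],
      Commute.mul_pow (Commute.sum_right _ _ _ fun j _ => ((Commute.refl Dd).pow_right j).smul_right _),
      hDnil (k + 1) le_rfl, zero_mul]
  obtain ⟨w, hw⟩ := hunit.exists_right_inv
  refine ⟨A, Or.inl ⟨hAc, fun a ha => ?_, ?_⟩⟩
  · have h := congrArg (fun f : AddMonoid.End (Additive A) => f (Additive.ofMul (⟨a, ha⟩ : A)))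
      (show (p : ℕ) • (1 : AddMonoid.End (Additive A)) = 0 by
        rw [← hw, ← smul_mul_assoc, hrel, zero_mul])
    have h' : p • Additive.ofMul (⟨a, ha⟩ : A) = 0 := h
    exact congrArg (fun t => ((Additive.toMul t : A) : G)) h'
  · rw [hAdef, hcl (k - 1) (by omega) (by omega)]
    congr 1
    omega

end Helpers

/-- Let p be a prime and S a finite p-group of order pⁿ (n ≥ 2) of maximal nilpotency class n − 1 whose sectional p-rank is exactly k (every section has p-rank at most k, and some section has p-rank k). If p ≥ k + 2 then the order of S is at most p^(2k). -/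
theorem result {S : Type*} [Group S] [Finite S] (p : ℕ) [Fact p.Prime] (hS : IsPGroup p S) [Group.IsNilpotent S]
    (n : ℕ) (hn : 2 ≤ n) (hcard : Nat.card S = p ^ n) (hmax : Group.nilpotencyClass S = n - 1)
    (k : ℕ) (hk : 1 ≤ k) (hsr : Cfsg.SectionalPRankLE p k S ∧ ¬ Cfsg.SectionalPRankLE p (k - 1) S)
    (hpk : k + 2 ≤ p) : Nat.card S ≤ p ^ (2 * k) := by
  classical
  by_contra hlt
  rw [hcard] at hlt
  have hn2k : 2 * k + 1 ≤ n := by
    by_contra h
    exact hlt (Nat.pow_le_pow_right (Fact.out : p.Prime).pos (by omega))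
  set M : Subgroup S := (⊤ : Subgroup S).lowerCentralSeries (2 * k) with hM
  have hne : ∀ l, l ≤ n - 2 → (⊤ : Subgroup S).lowerCentralSeries l ≠ ⊥ := fun l hl h => by
    have := Subgroup.lowerCentralSeries_eq_bot_iff_nilpotencyClass_le.mp h
    omega
  have hbotS : (⊤ : Subgroup S).lowerCentralSeries (n - 1) = ⊥ :=
    Subgroup.lowerCentralSeries_eq_bot_iff_nilpotencyClass_le.mpr hmax.le
  have lower : ∀ j l, l + j = n - 1 → p ^ j ≤ Nat.card ((⊤ : Subgroup S).lowerCentralSeries l) := by
    intro j
    induction j with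
    | zero => intro l _; simpa using Nat.one_le_iff_ne_zero.mpr Nat.card_pos.ne'
    | succ j ih =>
      intro l hl
      calc p ^ (j + 1) = p * p ^ j := pow_succ' _ _
        _ ≤ p * _ := Nat.mul_le_mul_left _ (ih (l + 1) (by omega))
        _ ≤ _ := CfsgLib.Fusion.MaxClass.card_mul_le_of_lt hS
            (CfsgLib.Fusion.MaxClass.lcs_strict hS (hne l (by omega)))
  have hMc : Nat.card M = p ^ (n - (2 * k + 1)) := by
    refine le_antisymm ?_ ((le_of_eq (by congr 1; omega)).trans (lower (n - 1 - 2 * k) (2 * k) (by omega)))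
    rcases CfsgLib.Fusion.MaxClass.card_lcs_le hS hn hcard (2 * k - 1) with h | h
    · rw [show 2 * k - 1 + 1 = 2 * k by omega] at h
      rw [hM, h, Subgroup.card_bot]; exact Nat.one_le_pow _ _ (Fact.out : p.Prime).pos
    · rw [show 2 * k - 1 + 1 = 2 * k by omega] at h
      refine Nat.le_of_mul_le_mul_left (h.trans (le_of_eq ?_)) (pow_pos (Fact.out : p.Prime).pos (2 * k - 1 + 2))
      rw [← pow_add]; congr 1; omega
  have hQc : Nat.card (S ⧸ M) = p ^ (2 * k + 1) := by
    have h := Subgroup.card_eq_card_quotient_mul_card_subgroup M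
    rw [hcard, hMc, show n = 2 * k + 1 + (n - (2 * k + 1)) by omega, pow_add,
      show 2 * k + 1 + (n - (2 * k + 1)) - (2 * k + 1) = n - (2 * k + 1) by omega] at h
    exact (Nat.eq_of_mul_eq_mul_right (pow_pos (Fact.out : p.Prime).pos _) h).symm
  have hQne : (⊤ : Subgroup (S ⧸ M)).lowerCentralSeries (2 * k - 1) ≠ ⊥ := by
    intro h
    rw [← Subgroup.map_top_of_surjective _ (QuotientGroup.mk'_surjective M), ← Subgroup.map_lowerCentralSeries,
      Subgroup.map_eq_bot_iff, QuotientGroup.ker_mk'] at h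
    have h1 := CfsgLib.Fusion.MaxClass.lcs_strict hS (hne (2 * k - 1) (by omega))
    rw [show 2 * k - 1 + 1 = 2 * k by omega, ← hM] at h1
    exact h1.not_ge h
  have hle : k + 1 ≤ k := (Nat.pow_le_pow_iff_right (Fact.out : p.Prime).one_lt).mp ?_
  · omega
  -- transport of sections
  have hsec : ∀ (N : Subgroup S) [N.Normal] (A : Subgroup (S ⧸ N)), IsMulCommutative A → (∀ a ∈ A, a ^ p = 1) →
      Nat.card A ≤ p ^ k := by
    intro N _ A hA hA2
    let e : S ⧸ N ≃* ↥(⊤ : Subgroup S) ⧸ N.subgroupOf ⊤ :=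
      QuotientGroup.congr N _ Subgroup.topEquiv.symm (by
        ext x
        simp only [Subgroup.mem_map, Subgroup.mem_subgroupOf]
        exact ⟨by rintro ⟨y, hy, rfl⟩; exact hy, fun hx => ⟨x, hx, rfl⟩⟩)
    have h := hsr.1 ⊤ (N.subgroupOf ⊤) (A.map e.toMonoidHom)
      (by haveI := hA; infer_instance) (by
        rintro _ ⟨a, ha, rfl⟩
        rw [← map_pow, hA2 a ha, map_one])
    exact ((Subgroup.card_map_of_injective (K := A) (f := e.toMonoidHom) e.injective).symm.le.trans h :)
  obtain ⟨A, hA | ⟨N, hN, hNc, hN2, hNk⟩⟩ := exists_elementary (G := S ⧸ M) hk hpk hQc hQne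
  · rw [← hA.2.2]; exact hsec M A hA.1 hA.2.1
  · let f : S →* (S ⧸ M) ⧸ N := (QuotientGroup.mk' N).comp (QuotientGroup.mk' M)
    have hf : Function.Surjective f := (QuotientGroup.mk'_surjective N).comp (QuotientGroup.mk'_surjective M)
    have e := QuotientGroup.quotientKerEquivOfSurjective f hf
    rw [← hNk, ← Nat.card_congr e.toEquiv, ← Subgroup.card_top]
    refine hsec f.ker ⊤ ⟨⟨fun a b => Subtype.ext (e.injective ?_)⟩⟩ (fun a _ => e.injective (by rw [map_pow, hN2, map_one]))
    rw [Subgroup.coe_mul, Subgroup.coe_mul, map_mul, map_mul]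
    exact congrArg (fun t : (⊤ : Subgroup ((S ⧸ M) ⧸ N)) => (t : (S ⧸ M) ⧸ N))
      (hNc.1.comm ⟨e a, Subgroup.mem_top _⟩ ⟨e b, Subgroup.mem_top _⟩)
end Cfsg.Agent.S3806
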