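import Cfsg.Statements.S3808
import Cfsg.Agent.Lib.Frobenius.IndexP

set_option autoImplicit false
open Cfsg

namespace Cfsg.Agent.S3808

/-- Let S be a finite p-group with an extraspecial subgroup Q of index p. Then either Z(S) = Z(Q), or S = Q·Z(S) and Z(S) has order p². -/
theorem result {S : Type*} [Group S] [Finite S] (p : ℕ) [Fact p.Prime] (hS : IsPGroup p S) (Q : Subgroup S) (hQ : Cfsg.IsExtraspecial p ↥Q) (hQi : Q.index = p) :
    Subgroup.center S = (Subgroup.center ↥Q).map Q.subtype ∨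
      (Q ⊔ Subgroup.center S = ⊤ ∧ Nat.card (Subgroup.center S) = p ^ 2) := by
  classical
  obtain ⟨⟨-, -, -⟩, hZ⟩ := hQ
  haveI := CfsgLib.Frobenius.IndexP.normal_of_index hS hQi
  set Z1 := (Subgroup.center ↥Q).map Q.subtype with hZ1
  have hZ1c : Nat.card Z1 = p := by rw [Subgroup.card_map_of_injective Q.subtype_injective, hZ]
  have hinf : Subgroup.center S ⊓ Q ≤ Z1 := by
    rintro z ⟨hz, hzQ⟩
    exact ⟨⟨z, hzQ⟩, Subgroup.mem_center_iff.mpr fun g => Subtype.ext (Subgroup.mem_center_iff.mp hz g), rfl⟩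
  have hZ1le : Z1 ≤ Subgroup.center S := by
    have hn : Z1.Normal := inferInstance
    haveI : Nontrivial Z1 := Finite.one_lt_card_iff_nontrivial.mp (hZ1c.symm ▸ (Fact.out : p.Prime).one_lt)
    intro z hz
    have h := CfsgLib.Frobenius.IndexP.le_center_of_card hS hZ1c
    exact h hz
  by_cases hle : Subgroup.center S ≤ Q
  · left
    exact le_antisymm (fun z hz => hinf ⟨hz, hle hz⟩) hZ1le
  · right
    obtain ⟨z, hz, hzQ⟩ := Set.not_subset.mp hle
    have hsup : Q ⊔ Subgroup.center S = ⊤ :=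
      CfsgLib.Frobenius.IndexP.eq_top_of_le hQi le_sup_left (Subgroup.mem_sup_right hz) hzQ
    refine ⟨hsup, ?_⟩
    have heq : Q ⊓ Subgroup.center S = Z1 := le_antisymm (fun x hx => hinf ⟨hx.2, hx.1⟩)
      (le_inf (Subgroup.map_subtype_le _) hZ1le)
    have h1 : Q.relIndex (Subgroup.center S) = p := by
      rw [← Subgroup.relIndex_sup_left (K := Q) (H := Subgroup.center S), hsup, Subgroup.relIndex_top_right, hQi] 
    rw [← Subgroup.inf_relIndex_right, heq] at h1
    rw [← Subgroup.relIndex_bot_left, ← Subgroup.relIndex_mul_relIndex ⊥ Z1 (Subgroup.center S) bot_le hZ1le,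
      Subgroup.relIndex_bot_left, hZ1c, h1, sq]

end Cfsg.Agent.S3808
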