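import Cfsg.Statements.S3809
import Cfsg.Agent.Lib.Frobenius.IndexP
import Cfsg.Agent.S0095
import Cfsg.Agent.Lib.PGroup.Frattini

set_option autoImplicit false
open Cfsg

namespace Cfsg.Agent.S3809

/-- Let S be a finite p-group with an extraspecial subgroup of index p. Then S has order p^(2+2n) for some n ≥ 1, derived length at most 3, and exponent dividing p³. -/
theorem result {S : Type*} [Group S] [Finite S] (p : ℕ) [Fact p.Prime] (hS : IsPGroup p S) (Q : Subgroup S) (hQ : Cfsg.IsExtraspecial p ↥Q) (hQi : Q.index = p) :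
    (∃ n : ℕ, 1 ≤ n ∧ Nat.card S = p ^ (2 + 2 * n)) ∧ derivedSeries S 3 = ⊥ ∧ ∀ x : S, x ^ (p ^ 3) = 1 := by
  classical
  haveI := CfsgLib.Frobenius.IndexP.normal_of_index hS hQi
  obtain ⟨n, hn1, hn⟩ := Cfsg.Agent.S0095.result hQ
  obtain ⟨⟨hP, hfr, hcomm⟩, hZ⟩ := hQ
  refine ⟨⟨n, hn1, by rw [← Subgroup.card_mul_index Q, hn, hQi, ← pow_succ]; ring_nf⟩, ?_, fun x => ?_⟩
  · have h1 : derivedSeries S 1 ≤ Q := by
      haveI : IsCyclic (S ⧸ Q) := isCyclic_of_prime_card (p := p) (by rw [← Subgroup.index_eq_card, hQi])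
      rw [derivedSeries_one, commutator_def, Subgroup.commutator_le]
      intro g _ h _
      refine (QuotientGroup.eq_one_iff _).mp ?_
      rw [← QuotientGroup.mk'_apply, map_commutatorElement]
      exact commutatorElement_eq_one_iff_mul_comm.mpr ((IsCyclic.isMulCommutative (α := S ⧸ Q)).is_comm.comm _ _)
    have h2 : derivedSeries S 2 ≤ (Subgroup.center ↥Q).map Q.subtype := by
      rw [derivedSeries_succ, ← hcomm, commutator_def, Subgroup.map_commutator, ← MonoidHom.range_eq_map, Subgroup.range_subtype]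
      exact Subgroup.commutator_mono h1 h1
    rw [eq_bot_iff, derivedSeries_succ, Subgroup.commutator_le]
    intro a ha b hb
    obtain ⟨a', ha', rfl⟩ := h2 ha
    obtain ⟨b', -, rfl⟩ := h2 hb
    rw [Subgroup.mem_bot, ← map_commutatorElement, commutatorElement_eq_one_iff_mul_comm.mpr
      (Subgroup.mem_center_iff.mp ha' b').symm, map_one]
  · have h1 : x ^ p ∈ Q := hQi ▸ Q.pow_index_mem x
    have h2 : (⟨x ^ p, h1⟩ : ↥Q) ^ p ∈ Subgroup.center ↥Q := hfr ▸ CfsgLib.PGroup.Frattini.pow_mem_frattini hP _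
    have h3 : ((⟨x ^ p, h1⟩ : ↥Q) ^ p) ^ p = 1 := by
      have h := pow_card_eq_one' (x := (⟨_, h2⟩ : Subgroup.center ↥Q))
      rw [hZ] at h
      exact congrArg Subtype.val h
    have h4 := congrArg Subtype.val h3
    simp only [SubmonoidClass.coe_pow, OneMemClass.coe_one] at h4
    rw [← pow_mul, ← pow_mul] at h4
    rw [← h4]; ring_nf

end Cfsg.Agent.S3809
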