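import Cfsg.Statements.S3810
import Cfsg.Agent.Lib.Frobenius.IndexP
import Cfsg.Agent.S0095
import Cfsg.Agent.Lib.Solvable.FrattiniFitting

set_option autoImplicit false
open Cfsg
open scoped commutatorElement

namespace Cfsg.Agent.S3810

/-- Let S be a finite p-group with an extraspecial subgroup of index p. Then S has an abelian subgroup of index p if and only if S has order p⁴. -/
theorem result {S : Type*} [Group S] [Finite S] (p : ℕ) [Fact p.Prime] (hS : IsPGroup p S) (Q : Subgroup S) (hQ : Cfsg.IsExtraspecial p ↥Q) (hQi : Q.index = p) :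
    (∃ A : Subgroup S, IsMulCommutative ↥A ∧ A.index = p) ↔ Nat.card S = p ^ 4 := by
  classical
  have hpp : p.Prime := Fact.out
  haveI hQn := CfsgLib.Frobenius.IndexP.normal_of_index hS hQi
  obtain ⟨n, hn1, hn⟩ := Cfsg.Agent.S0095.result hQ
  obtain ⟨⟨hP, hfr, hcomm⟩, hZ⟩ := hQ
  have hQna : ¬ IsMulCommutative ↥Q := fun h => by
    have h1 : Subgroup.center ↥Q = ⊤ :=
      (Subgroup.eq_top_iff' _).mpr fun a => Subgroup.mem_center_iff.mpr fun g => h.is_comm.comm g a
    rw [h1, Subgroup.card_top] at hZ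
    rw [hZ] at hn
    have := Nat.pow_right_injective hpp.two_le (hn.symm.trans (pow_one p).symm)
    omega
  have hcardS : Nat.card S = p ^ (2 * n + 1) * p := by rw [← Subgroup.card_mul_index Q, hn, hQi]
  constructor
  · rintro ⟨A, hA, hAi⟩
    haveI := CfsgLib.Frobenius.IndexP.normal_of_index hS hAi
    have hAQ : ¬ Q ≤ A := fun h => hQna ⟨⟨fun a b => Subtype.ext
      (congrArg (fun z : A => (z : S)) (hA.is_comm.comm ⟨a, h a.2⟩ ⟨b, h b.2⟩))⟩⟩
    set B := A.subgroupOf Q with hB
    have hBi : B.index = p := by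
      rcases (Nat.dvd_prime hpp).mp (hAi ▸ Subgroup.relIndex_dvd_index_of_normal A Q) with h | h
      · exact absurd (Subgroup.relIndex_eq_one.mp h) hAQ
      · exact h
    have hBab : IsMulCommutative B := ⟨⟨fun a b => Subtype.ext (Subtype.ext
      (congrArg (fun z : A => (z : S)) (hA.is_comm.comm ⟨_, Subgroup.mem_subgroupOf.mp a.2⟩ ⟨_, Subgroup.mem_subgroupOf.mp b.2⟩)))⟩⟩
    have hid := CfsgLib.Frobenius.IndexP.index_center hP hQna hBab hBi
    have h1 : Nat.card (commutator ↥Q) = p := by rw [hcomm, hZ]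
    have h2 := Subgroup.card_mul_index (Subgroup.center ↥Q)
    rw [hid, h1, hZ, hn] at h2
    have h3 : 2 * n + 1 = 3 := Nat.pow_right_injective hpp.two_le
      (show p ^ (2 * n + 1) = p ^ 3 by rw [← h2]; ring)
    rw [hcardS, h3, ← pow_succ]
  · intro h4
    have h3 : Nat.card ↥Q = p ^ 3 := by
      have e := Q.card_mul_index
      rw [hQi, h4, pow_succ] at e
      exact Nat.eq_of_mul_eq_mul_right hpp.pos e
    set Z1 := (Subgroup.center ↥Q).map Q.subtype with hZ1
    haveI : Z1.Normal := inferInstance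
    have hZ1c : Nat.card Z1 = p := by rw [Subgroup.card_map_of_injective Q.subtype_injective, hZ]
    have hZ1cen := CfsgLib.Frobenius.IndexP.le_center_of_card hS hZ1c
    let q := QuotientGroup.mk' Z1
    haveI : Group.IsNilpotent (S ⧸ Z1) := (hS.to_quotient Z1).isNilpotent
    haveI : (Q.map q).Normal := hQn.map q (QuotientGroup.mk'_surjective Z1)
    have hne : Q.map q ≠ ⊥ := by
      intro h
      rw [Subgroup.map_eq_bot_iff, QuotientGroup.ker_mk'] at h
      have h' := Subgroup.card_dvd_of_le h
      rw [h3, hZ1c] at h'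
      have := Nat.le_of_dvd hpp.pos h'
      have : p ^ 1 < p ^ 3 := Nat.pow_lt_pow_right hpp.one_lt (by norm_num)
      rw [pow_one] at this
      omega
    obtain ⟨w, ⟨hw1, hw2⟩, hw3⟩ := (Subgroup.bot_or_exists_ne_one _).resolve_left
      (CfsgLib.Solvable.FrattiniFitting.inf_center_ne_bot (Q.map q) hne)
    obtain ⟨u, huQ, rfl⟩ := hw1
    have huZ : u ∉ Z1 := fun h => hw3 ((QuotientGroup.eq_one_iff u).mpr h)
    have huc : u ∉ Subgroup.center S := fun h =>
      huZ ⟨⟨u, huQ⟩, Subgroup.mem_center_iff.mpr fun g => Subtype.ext (Subgroup.mem_center_iff.mp h g), rfl⟩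
    have hcomz : ∀ s : S, ⁅s, u⁆ ∈ Z1 := fun s => by
      refine (QuotientGroup.eq_one_iff _).mp ?_
      rw [← QuotientGroup.mk'_apply, map_commutatorElement]
      exact commutatorElement_eq_one_iff_mul_comm.mpr (Subgroup.mem_center_iff.mp hw2 (q s))
    let f : S →* Z1 :=
      { toFun := fun s => ⟨⁅s, u⁆, hcomz s⟩
        map_one' := Subtype.ext (commutatorElement_one_left u)
        map_mul' := fun a b => Subtype.ext (by
          show ⁅a * b, u⁆ = ⁅a, u⁆ * ⁅b, u⁆
          have hb := Subgroup.mem_center_iff.mp (hZ1cen (hcomz b))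
          calc ⁅a * b, u⁆ = (a * ⁅b, u⁆ * a⁻¹) * ⁅a, u⁆ := by simp only [commutatorElement_def]; group
            _ = ⁅b, u⁆ * ⁅a, u⁆ := by rw [hb a, mul_inv_cancel_right]
            _ = _ := (hb _).symm) }
    set C := Subgroup.centralizer ({u} : Set S) with hC
    have hker : f.ker = C := by
      ext s
      rw [MonoidHom.mem_ker, hC, Subgroup.mem_centralizer_singleton_iff, ← commutatorElement_eq_one_iff_mul_comm]
      exact ⟨fun h => congrArg Subtype.val h, fun h => Subtype.ext h⟩
    have hCtop : C ≠ ⊤ := fun h => huc (Subgroup.mem_center_iff.mpr fun g =>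
      Subgroup.mem_centralizer_singleton_iff.mp (h ▸ Subgroup.mem_top g : g ∈ C))
    have hCi : C.index = p := by
      have h : C.index ∣ p := by
        rw [← hker, Subgroup.index_ker]; exact hZ1c ▸ Subgroup.card_subgroup_dvd_card _
      exact ((Nat.dvd_prime hpp).mp h).resolve_left fun h1 => hCtop (Subgroup.index_eq_one.mp h1)
    refine ⟨C, ?_, hCi⟩
    have hC3 : Nat.card C = p ^ 3 := by
      have e := C.card_mul_index
      rw [hCi, h4, pow_succ] at e
      exact Nat.eq_of_mul_eq_mul_right hpp.pos e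
    have hZC : Z1 ≤ C := fun z hz => Subgroup.mem_centralizer_singleton_iff.mpr
      (Subgroup.mem_center_iff.mp (hZ1cen hz) u).symm
    have huC : u ∈ C := Subgroup.mem_centralizer_singleton_iff.mpr rfl
    -- the centre of `C` has index at most `p`
    set W := Subgroup.center ↥C with hW
    have hlt : Z1.subgroupOf C < W := by
      refine lt_of_le_not_ge (fun z hz => Subgroup.mem_center_iff.mpr fun g =>
        Subtype.ext (Subgroup.mem_center_iff.mp (hZ1cen hz) g)) fun hge => huZ ?_
      exact hge (show (⟨u, huC⟩ : ↥C) ∈ W from Subgroup.mem_center_iff.mpr fun g =>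
        Subtype.ext (Subgroup.mem_centralizer_singleton_iff.mp g.2))
    have hZc : Nat.card (Z1.subgroupOf C) = p := by
      rw [Nat.card_congr (Subgroup.subgroupOfEquivOfLe hZC).toEquiv, hZ1c]
    obtain ⟨k, hk3, hk⟩ := (Nat.dvd_prime_pow hpp).mp (hC3 ▸ Subgroup.card_subgroup_dvd_card W)
    have h2 : 2 ≤ k := by
      by_contra hk1
      have hle : Nat.card W ≤ Nat.card (Z1.subgroupOf C) := by
        rw [hk, hZc]
        calc p ^ k ≤ p ^ 1 := Nat.pow_le_pow_right hpp.pos (by omega)
          _ = p := pow_one p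
      exact hlt.ne (Subgroup.eq_of_le_of_card_ge hlt.le hle)
    have hidx : W.index ∣ p := by
      have e := W.card_mul_index
      rw [hk, hC3] at e
      refine Nat.dvd_of_mul_dvd_mul_left (pow_pos hpp.pos 2) ?_
      rw [← pow_succ, ← e]
      exact Nat.mul_dvd_mul (pow_dvd_pow p h2) dvd_rfl
    haveI : IsCyclic (↥C ⧸ W) := by
      rcases (Nat.dvd_prime hpp).mp hidx with h | h
      · haveI : Subsingleton (↥C ⧸ W) := by
          rw [Subgroup.index_eq_card] at h
          exact (Nat.card_eq_one_iff_unique.mp h).1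
        infer_instance
      · exact isCyclic_of_prime_card (p := p) (by rw [← Subgroup.index_eq_card, h])
    exact ⟨⟨fun a b => commutative_of_cyclic_center_quotient (QuotientGroup.mk' W) (by rw [QuotientGroup.ker_mk']) a b⟩⟩

end Cfsg.Agent.S3810
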