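import Cfsg.Statements.S3811
import Cfsg.Agent.Lib.Frobenius.NormalizerTower

set_option autoImplicit false
open Cfsg

namespace Cfsg.Agent.S3811

/-- Let P be a finite p-group and E an abelian subgroup of P that contains its centralizer, has index p in its normalizer, and has index at least p² in P. Then the subgroups of P containing E are totally ordered by inclusion, each proper one has index p in its normalizer (so they form the normalizer tower of E, with all steps of index p), and the i-th member of the tower above E has nilpotency class i + 1 whenever it is a proper subgroup of P. -/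
theorem result {P : Type*} [Group P] [Finite P] (p : ℕ) [Fact p.Prime] (hP : IsPGroup p P)
    (E : Subgroup P) (hEab : IsMulCommutative ↥E) (hC : Subgroup.centralizer (E : Set P) ≤ E)
    (hN : (E.subgroupOf (Subgroup.normalizer (E : Set P))).index = p) (hidx : p ^ 2 ≤ E.index) :
    (∀ K L : Subgroup P, E ≤ K → E ≤ L → K ≤ L ∨ L ≤ K) ∧
      (∀ K : Subgroup P, E ≤ K → K ≠ ⊤ → (K.subgroupOf (Subgroup.normalizer (K : Set P))).index = p) ∧
      ∀ (i : ℕ) (K : Subgroup P) [Group.IsNilpotent ↥K], E ≤ K → K ≠ ⊤ → K.index * p ^ i = E.index →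
        Group.nilpotencyClass ↥K = i + 1 := by
  classical
  have hE : CfsgLib.Frobenius.NormalizerTower.Soft p E :=
    ⟨fun a ha b hb => congrArg Subtype.val (hEab.is_comm.comm ⟨a, ha⟩ ⟨b, hb⟩), hC, hN⟩
  refine ⟨fun K L hK hL => CfsgLib.Frobenius.NormalizerTower.chain hP hE hK hL,
    fun K hK hne => CfsgLib.Frobenius.NormalizerTower.step _ P rfl hP E hE K hK hne, ?_⟩
  intro j K _ hK hne hidx'
  have hcard : Nat.card K = p ^ j * Nat.card E := by
    have h1 := K.card_mul_index
    rw [← E.card_mul_index, ← hidx'] at h1
    have hpos : 0 < K.index := Nat.pos_of_ne_zero Subgroup.index_ne_zero_of_finite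
    refine Nat.eq_of_mul_eq_mul_right hpos (h1.trans ?_)
    ring
  have hup := CfsgLib.Frobenius.NormalizerTower.lcs_eq_bot _ P rfl hP E hE K hK hne j hcard
  have hlo := CfsgLib.Frobenius.NormalizerTower.lcs_ne_bot hP hE hK hcard
  have key : ∀ n : ℕ, K.lowerCentralSeries n = ⊥ ↔ Group.nilpotencyClass ↥K ≤ n := by
    intro n
    rw [← Subgroup.lowerCentralSeries_eq_bot_iff_nilpotencyClass_le, ← Subgroup.top_subtype_lowerCentralSeries,
      Subgroup.map_eq_bot_iff_of_injective _ K.subtype_injective]
  have h1 := (key (j + 1)).mp hup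
  have h2 : ¬ Group.nilpotencyClass ↥K ≤ j := fun h => hlo ((key j).mpr h)
  omega

end Cfsg.Agent.S3811
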