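import Cfsg.Statements.S3815
-- import your own Cfsg.Agent.* helpers here

set_option autoImplicit false
open Cfsg

namespace Cfsg.Agent.S3815

/-- Let G be a finite group, p a prime and d ∈ G an element of order prime to p. If dg has order prime to p for every element g ∈ G of order prime to p, then d ∈ O_{p'}(G). -/
theorem result {G : Type*} [Group G] [Finite G] {p : ℕ} [Fact p.Prime]
    (d : G) (hd : (orderOf d).Coprime p)
    (h : ∀ g : G, (orderOf g).Coprime p → (orderOf (d * g)).Coprime p) :
    d ∈ Cfsg.pPrimeCore p G := by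
  let D : Subgroup G := Subgroup.closure {d : G | (orderOf d).Coprime p ∧
    ∀ g : G, (orderOf g).Coprime p → (orderOf (d * g)).Coprime p}
  have hall : ∀ x ∈ D, ∀ g : G, (orderOf g).Coprime p → (orderOf (x * g)).Coprime p := by
    intro x hx
    rw [← Subgroup.mem_toSubmonoid, Subgroup.closure_toSubmonoid_of_finite] at hx
    induction hx using Submonoid.closure_induction with
    | mem y hy => exact hy.2
    | one => intro g hg; rwa [one_mul]
    | mul a b _ _ iha ihb => intro g hg; rw [mul_assoc]; exact iha _ (ihb g hg)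
  have hconj : ∀ (x g : G), orderOf (g * x * g⁻¹) = orderOf x := fun x g =>
    MulEquiv.orderOf_eq (MulAut.conj g) x
  have hn : D.Normal := by
    refine Subgroup.normalizer_eq_top_iff.1 (eq_top_iff.2 ?_)
    refine Subgroup.le_normalizer_closure_iff.2 fun g _ d' hd' => Subgroup.subset_closure ⟨?_, fun k hk => ?_⟩
    · rw [hconj]; exact hd'.1
    · have h1 := hd'.2 (g⁻¹ * k * g) (by
        have e := hconj k g⁻¹
        rw [inv_inv] at e
        rw [e]; exact hk)
      rw [← hconj _ g] at h1
      simpa [mul_assoc] using h1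
  have hc : (Nat.card D).Coprime p := by
    refine (Nat.Prime.coprime_iff_not_dvd Fact.out).2 (fun hp => ?_) |>.symm
    obtain ⟨x, hx⟩ := exists_prime_orderOf_dvd_card' p hp
    have := hall x x.2 1 (by simp)
    rw [mul_one, Subgroup.orderOf_coe, hx] at this
    exact (Fact.out : p.Prime).ne_one ((Nat.coprime_self p).1 this)
  exact (le_sSup (show D ∈ {N : Subgroup G | N.Normal ∧ (Nat.card N).Coprime p} from ⟨hn, hc⟩)) (Subgroup.subset_closure ⟨hd, h⟩)

end Cfsg.Agent.S3815
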