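import Cfsg.Statements.S3818
import Cfsg.Agent.Lib.Coprime.FixedSpaceMain
import Cfsg.Agent.Lib.Solvable.Basic
import Mathlib.RingTheory.Flat.Basic
import Mathlib.FieldTheory.IsAlgClosed.AlgebraicClosure
-- import your own Cfsg.Agent.* helpers here

set_option autoImplicit false
open Cfsg
open scoped TensorProduct

namespace Cfsg.Agent.S3818

section Helpers
open Subgroup

/-- A commuting family of unipotent operators has a common fixed vector. -/
theorem exists_fixed {G : Type*} [Group G] {k : Type*} [Field k] {V : Type*} [AddCommGroup V]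
    [Module k V] [FiniteDimensional k V] [Nontrivial V] (ρ : G →* Module.End k V) (N : Subgroup G)
    (hN : ∀ a ∈ N, ∀ b ∈ N, Commute a b) {r : ℕ} [Fact r.Prime] [CharP k r] (hr : IsPGroup r N) :
    ∃ v : V, v ≠ 0 ∧ ∀ a ∈ N, ρ a v = v := by
  obtain ⟨U, ⟨hU0, hUinv⟩, hmin⟩ :=
    (IsWellFounded.wf (r := (· < · : Submodule k V → Submodule k V → Prop))).has_min
      {U : Submodule k V | U ≠ ⊥ ∧ ∀ a ∈ N, ∀ v ∈ U, ρ a v ∈ U}
      ⟨⊤, top_ne_bot, fun _ _ _ _ => Submodule.mem_top⟩
  haveI : Nontrivial (Module.End k V) := inferInstance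
  haveI : CharP (Module.End k V) r := charP_of_injective_algebraMap
    (FaithfulSMul.algebraMap_injective k (Module.End k V)) r
  obtain ⟨v, hvU, hv0⟩ := U.ne_bot_iff.1 hU0
  refine ⟨v, hv0, fun a ha => ?_⟩
  obtain ⟨j, hj⟩ := hr ⟨a, ha⟩
  have h0 : (ρ a - 1) ^ r ^ j = 0 := by
    rw [sub_pow_char_pow_of_commute r j (Commute.one_right _), one_pow, ← map_pow,
      show a ^ r ^ j = 1 from congrArg Subtype.val hj, map_one, sub_self]
  set U' := U ⊓ LinearMap.ker (ρ a - 1) with hU'
  have hexists : ∀ n : ℕ, ∀ w ∈ U, w ≠ 0 → ((ρ a - 1) ^ n) w = 0 → U' ≠ ⊥ := by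
    intro n
    induction n with
    | zero => intro w _ hw0 hw; exact absurd hw hw0
    | succ n ih =>
      intro w hw hw0 hwn
      by_cases h : (ρ a - 1) w = 0
      · exact U'.ne_bot_iff.2 ⟨w, Submodule.mem_inf.2 ⟨hw, LinearMap.mem_ker.2 h⟩, hw0⟩
      · refine ih ((ρ a - 1) w) ?_ h (by rw [← Module.End.mul_apply, ← pow_succ]; exact hwn)
        rw [LinearMap.sub_apply, Module.End.one_apply]
        exact U.sub_mem (hUinv a ha w hw) hw
  have h1 : U' ≠ ⊥ := hexists _ v hvU hv0 (by rw [h0]; rfl)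
  have h2 : ∀ b ∈ N, ∀ z ∈ U', ρ b z ∈ U' := fun b hb z hz => by
    refine Submodule.mem_inf.2 ⟨hUinv b hb z (Submodule.mem_inf.1 hz).1, LinearMap.mem_ker.2 ?_⟩
    have hz' : (ρ a - 1) z = 0 := LinearMap.mem_ker.1 (Submodule.mem_inf.1 hz).2
    rw [LinearMap.sub_apply, Module.End.one_apply, sub_eq_zero] at hz' ⊢
    rw [← Module.End.mul_apply, ← map_mul, (hN a ha b hb).eq, map_mul, Module.End.mul_apply, hz']
  have h3 : U' = U := by
    by_contra hne
    exact hmin U' ⟨h1, h2⟩ (lt_of_le_of_ne inf_le_left hne)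
  have h4 : (ρ a - 1) v = 0 := LinearMap.mem_ker.1 (Submodule.mem_inf.1 (h3.ge hvU)).2
  rwa [LinearMap.sub_apply, Module.End.one_apply, sub_eq_zero] at h4

end Helpers

/-- Let G be a finite solvable group and P a subgroup of G of prime order p > 3 whose conjugates generate G. Let V be a faithful irreducible representation of G over a field of positive characteristic, finite-dimensional. Then the subspace of V fixed by P has dimension less than half the dimension of V. -/
theorem result {G : Type*} [Group G] [Finite G] [Group.IsSolvable G]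
    {p : ℕ} [Fact p.Prime] (hp : 3 < p) (P : Subgroup G) (hP : Nat.card P = p) (hgen : Subgroup.normalClosure (P : Set G) = ⊤)
    {k : Type*} [Field k] (ℓ : ℕ) [Fact ℓ.Prime] [CharP k ℓ]
    {V : Type*} [AddCommGroup V] [Module k V] [FiniteDimensional k V]
    (ρ : Representation k G V) [ρ.IsIrreducible] (hfaith : Function.Injective ρ) :
    2 * Module.finrank k ↥(⨅ g : ↥P, LinearMap.ker (ρ (g : G) - LinearMap.id)) < Module.finrank k V := by
  classical
  have hp5 : 5 ≤ p := by
    have h4 : p ≠ 4 := fun h => absurd (Fact.out : p.Prime) (h ▸ by decide)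
    omega
  obtain ⟨g, hg⟩ : ∃ g : P, g ≠ 1 := by
    haveI : Nontrivial P := Finite.one_lt_card_iff_nontrivial.1 (hP ▸ (Fact.out : p.Prime).one_lt)
    exact exists_ne 1
  set x : G := (g : G) with hxdef
  have hx : x ^ p = 1 := by
    have h := congrArg Subtype.val (pow_card_eq_one' (x := g))
    rwa [hP, Subgroup.coe_pow, Subgroup.coe_one] at h
  have hx1 : x ≠ 1 := fun h => hg (Subtype.ext h)
  have hgenx : Subgroup.normalClosure ({x} : Set G) = ⊤ := by
    rw [eq_top_iff, ← hgen]
    refine Subgroup.normalClosure_le_normal fun y hy => ?_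
    have h1 : (Subgroup.zpowers g) = ⊤ := zpowers_eq_top_of_prime_card hP hg
    obtain ⟨j, hj⟩ := h1 ▸ Subgroup.mem_top (⟨y, hy⟩ : P)
    have h2 : x ^ j = y := congrArg Subtype.val hj
    exact h2 ▸ zpow_mem (Subgroup.subset_normalClosure (Set.mem_singleton x)) j
  haveI : Nontrivial G := ⟨⟨x, 1, hx1⟩⟩
  obtain ⟨N, r, hr, hNn, hNne, -, hNc, hNr, -⟩ :=
    CfsgLib.Solvable.Basic.exists_minimal_normal_pgroup (G := G) (H := ⊤) top_ne_bot
  haveI := Fact.mk hr
  -- irreducibility
  have hirr : ∀ U : Submodule k V, (∀ h, ∀ v ∈ U, ρ h v ∈ U) → U = ⊥ ∨ U = ⊤ := by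
    intro U hU
    rcases eq_bot_or_eq_top ({ toSubmodule := U, apply_mem_toSubmodule := fun h v hv => hU h v hv } :
      Subrepresentation ρ) with h | h
    · left; exact congrArg Subrepresentation.toSubmodule h
    · right; exact congrArg Subrepresentation.toSubmodule h
  haveI : Nontrivial V := by
    by_contra h
    rw [not_nontrivial_iff_subsingleton] at h
    exact hx1 (hfaith (LinearMap.ext fun v => Subsingleton.elim _ _))
  -- `N` has no fixed vector
  have hnofix : ∀ v : V, (∀ a ∈ N, ρ a v = v) → v = 0 := by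
    intro v hv
    let C : Submodule k V := ⨅ a : N, LinearMap.ker (ρ (a : G) - 1)
    have memC : ∀ w, w ∈ C ↔ ∀ a ∈ N, ρ a w = w := fun w => by
      simp [C, Submodule.mem_iInf, sub_eq_zero]
    have hinv : ∀ h, ∀ w ∈ C, ρ h w ∈ C := by
      intro h w hw
      refine (memC _).2 fun a ha => ?_
      have h1 := (memC w).1 hw (h⁻¹ * a * h⁻¹⁻¹) (hNn.conj_mem a ha h⁻¹)
      calc ρ a (ρ h w) = ρ h (ρ (h⁻¹ * a * h⁻¹⁻¹) w) := by
            rw [← Module.End.mul_apply, ← map_mul, ← Module.End.mul_apply, ← map_mul]; group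
        _ = ρ h w := by rw [h1]
    rcases hirr C hinv with h | h
    · exact (Submodule.mem_bot k).1 (h ▸ (memC v).2 hv)
    · exfalso
      refine hNne (eq_bot_iff.2 fun a ha => Subgroup.mem_bot.2 (hfaith (LinearMap.ext fun w => ?_)))
      rw [map_one, Module.End.one_apply]
      exact (memC w).1 (h ▸ Submodule.mem_top) a ha
  have hNcomm : ∀ a ∈ N, ∀ b ∈ N, Commute a b := fun a ha b hb =>
    congrArg Subtype.val (hNc.is_comm.comm ⟨a, ha⟩ ⟨b, hb⟩)
  have hcard : (Nat.card N : k) ≠ 0 := by
    obtain ⟨m, hm⟩ := (IsPGroup.iff_card (p := r)).1 hNr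
    rw [hm, Nat.cast_pow]
    refine pow_ne_zero _ fun h => ?_
    haveI : CharP k r := (CharP.charP_iff_prime_eq_zero hr).2 h
    obtain ⟨v, hv0, hv⟩ := exists_fixed ρ N hNcomm hNr
    exact hv0 (hnofix v hv)
  haveI : Fintype N := Fintype.ofFinite _
  have hsum : ∑ a : N, ρ (a : G) = 0 := by
    refine LinearMap.ext fun v => hnofix _ fun b hb => ?_
    rw [LinearMap.sum_apply, map_sum]
    refine Fintype.sum_equiv (Equiv.mulLeft (⟨b, hb⟩ : N)) _ _ fun a => ?_
    rw [← Module.End.mul_apply, ← map_mul]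
    rfl
  -- extend the scalars
  let K := AlgebraicClosure k
  let bc := Module.End.baseChangeHom k K V
  let ρ' : G →* Module.End K (TensorProduct k K V) := bc.toMonoidHom.comp ρ
  have hsum' : ∑ a : N, ρ' (a : G) = 0 := by
    show ∑ a : N, bc (ρ (a : G)) = 0
    rw [← map_sum, hsum, map_zero]
  have hcard' : (Nat.card N : K) ≠ 0 := by
    rw [← map_natCast (algebraMap k K)]
    exact fun h => hcard ((algebraMap k K).injective (h.trans (map_zero _).symm))
  have hfin : Module.finrank K (TensorProduct k K V) = Module.finrank k V :=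
    Module.finrank_baseChange
  have hmain := CfsgLib.Coprime.FixedSpaceHalf.bound_of_sum_zero hp5 hx hgenx N hcard'
    (Module.finrank k V) (TensorProduct k K V) ρ' hsum' hfin Module.finrank_pos
  have hle : (⨅ h : P, LinearMap.ker (ρ (h : G) - LinearMap.id)) ≤ LinearMap.ker (ρ x - 1) :=
    iInf_le _ g
  set F := LinearMap.ker (ρ x - 1) with hF
  let ι : TensorProduct k K F →ₗ[K] TensorProduct k K V := F.subtype.baseChange K
  have hι : Function.Injective ι :=
    Module.Flat.lTensor_preserves_injective_linearMap (M := K) F.subtype F.subtype_injective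
  have hιr : LinearMap.range ι ≤ LinearMap.ker (ρ' x - 1) := by
    rintro _ ⟨z, rfl⟩
    rw [LinearMap.mem_ker, LinearMap.sub_apply, Module.End.one_apply, sub_eq_zero]
    induction z using TensorProduct.induction_on with
    | zero => simp
    | tmul c w =>
      have hw : ρ x (w : V) = w := by
        exact sub_eq_zero.1 (LinearMap.mem_ker.1 w.2)
      show bc (ρ x) (c ⊗ₜ[k] (w : V)) = c ⊗ₜ[k] (w : V)
      show (ρ x).baseChange K (c ⊗ₜ[k] (w : V)) = _
      rw [LinearMap.baseChange_tmul, hw]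
    | add a b ha hb => rw [map_add, map_add, ha, hb]
  have h1 := (LinearMap.finrank_range_of_inj hι).symm.trans_le (Submodule.finrank_mono hιr)
  rw [Module.finrank_baseChange] at h1
  have h2 := Submodule.finrank_mono hle
  omega
end Cfsg.Agent.S3818
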