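import Cfsg.Statements.S3819
import Cfsg.Agent.Lib.Fusion.PSolvable
import Cfsg.Agent.Lib.Fusion.Basic
import Cfsg.Agent.Lib.Coprime.Action
import Cfsg.Agent.Lib.Coprime.SchurZassenhaus
import Cfsg.Agent.Lib.Solvable.Cores
-- import your own Cfsg.Agent.* helpers here

set_option autoImplicit false
open Cfsg

namespace Cfsg.Agent.S3819

open scoped commutatorElement

section Helpers

variable {G : Type*} [Group G] [Finite G]

/-- The `p'`-core of a subgroup, seen in the group, is normalised by whatever normalises the subgroup. -/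
theorem le_normalizer_core (q : ℕ) (C : Subgroup G) {g : G} (hg : g ∈ Subgroup.normalizer (C : Set G)) :
    g ∈ Subgroup.normalizer (((Cfsg.pPrimeCore q ↥C).map C.subtype : Subgroup G) : Set G) := by
  have key : ∀ a ∈ Subgroup.normalizer (C : Set G), ∀ y ∈ (Cfsg.pPrimeCore q ↥C).map C.subtype,
      a * y * a⁻¹ ∈ (Cfsg.pPrimeCore q ↥C).map C.subtype := by
    rintro a ha _ ⟨y, hy, rfl⟩
    haveI := CfsgLib.Solvable.Cores.pPrimeCore_characteristic (G := ↥C) q
    refine ⟨C.normalizerMonoidHom ⟨a, ha⟩ y, ?_, rfl⟩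
    exact Subgroup.characteristic_iff_map_le.1 inferInstance _ ⟨y, hy, rfl⟩
  refine Subgroup.mem_normalizer_iff.2 fun y => ⟨key g hg y, fun hy => ?_⟩
  have h := key g⁻¹ (Subgroup.inv_mem _ hg) _ hy
  have e : g⁻¹ * (g * y * g⁻¹) * g⁻¹⁻¹ = y := by group
  rwa [e] at h

theorem main {p : ℕ} [Fact p.Prime] (P : Sylow p G)
    (hsol : Group.IsSolvable ↥⁅Cfsg.pPrimeCore p G, (P : Subgroup G)⁆) {q : ℕ} [Fact q.Prime] (z : G)
    (hzH : z ∈ Cfsg.pPrimeCore p G) (hzP : z ∈ Subgroup.centralizer ((P : Subgroup G) : Set G))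
    (hz : ∃ k : ℕ, orderOf z = q ^ k) (hPH : Cfsg.pPrimeCore p G ⊔ (P : Subgroup G) = ⊤) :
    ((Cfsg.pPrimeCore q ↥(Cfsg.pPrimeCore p G ⊓ Subgroup.centralizer ({z} : Set G))).map
        (Cfsg.pPrimeCore p G ⊓ Subgroup.centralizer ({z} : Set G)).subtype ⊓
      (Cfsg.pPrimeCore q ↥(Cfsg.pPrimeCore p G ⊓ Subgroup.centralizer ((P : Subgroup G) : Set G))).map
        (Cfsg.pPrimeCore p G ⊓ Subgroup.centralizer ((P : Subgroup G) : Set G)).subtype) ⊔
    ⁅(Cfsg.pPrimeCore q ↥(Cfsg.pPrimeCore p G ⊓ Subgroup.centralizer ({z} : Set G))).map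
        (Cfsg.pPrimeCore p G ⊓ Subgroup.centralizer ({z} : Set G)).subtype, (P : Subgroup G)⁆ ≤
    (Cfsg.pPrimeCore q ↥(Cfsg.pPrimeCore p G)).map (Cfsg.pPrimeCore p G).subtype := by
  set H := Cfsg.pPrimeCore p G with hHdef
  haveI : H.Normal := CfsgLib.Solvable.Cores.pPrimeCore_normal p
  set Cz := H ⊓ Subgroup.centralizer ({z} : Set G) with hCz
  set CP := H ⊓ Subgroup.centralizer ((P : Subgroup G) : Set G) with hCP
  set R := (Cfsg.pPrimeCore q ↥Cz).map Cz.subtype with hR
  set T := (Cfsg.pPrimeCore q ↥CP).map CP.subtype with hT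
  set N := (Cfsg.pPrimeCore q ↥H).map H.subtype with hN
  haveI := CfsgLib.Solvable.Cores.pPrimeCore_characteristic (G := ↥H) q
  haveI hNn : N.Normal := ConjAct.normal_of_characteristic_of_normal
  have hNH : N ≤ H := Subgroup.map_subtype_le _
  have hcardmap : ∀ C : Subgroup G,
      (Nat.card ↥((Cfsg.pPrimeCore q ↥C).map C.subtype)).Coprime q := fun C => by
    rw [Subgroup.card_map_of_injective C.subtype_injective]
    exact CfsgLib.Solvable.Cores.coprime_card_pPrimeCore q
  have hNq : (Nat.card N).Coprime q := hcardmap H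
  -- the commutator `K = [H, P]`
  set K := ⁅H, (P : Subgroup G)⁆ with hK
  have hKH : K ≤ H := Subgroup.commutator_le_left _ _
  have hPnH : (P : Subgroup G) ≤ Subgroup.normalizer (H : Set G) := by
    rw [Subgroup.normalizer_eq_top]; exact le_top
  haveI hKn : K.Normal := by
    rw [← Subgroup.normalizer_eq_top_iff, eq_top_iff, ← hPH]
    exact sup_le (Subgroup.normalizer_commutator_ge_left _ _) (Subgroup.normalizer_commutator_ge_right _ _)
  have hPsol : Group.IsSolvable (P : Subgroup G) := by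
    haveI := P.isPGroup'.isNilpotent
    infer_instance
  have hcopPH : (Nat.card (P : Subgroup G)).Coprime (Nat.card H) := by
    obtain ⟨k, hk⟩ := P.isPGroup'.exists_card_eq
    rw [hk]; exact Nat.Coprime.pow_left k (CfsgLib.Solvable.Cores.coprime_card_pPrimeCore p).symm
  have hsupH : K ⊔ CP = H := CfsgLib.Coprime.commutator_sup_centralizer hPnH hcopPH (Or.inl hPsol)
  -- the quotient by `N`
  set φ := QuotientGroup.mk' N with hφ
  have hφs : Function.Surjective φ := QuotientGroup.mk'_surjective _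
  set K' := K.map φ with hK'
  haveI : K'.Normal := hKn.map φ hφs
  haveI hK'sol : Group.IsSolvable ↥K' := by
    haveI := hsol
    exact Group.isSolvable_of_surjective (φ.subgroupMap_surjective K)
  -- normal `q'`-subgroups of the image of `H` are trivial
  have hcore : ∀ L : Subgroup (G ⧸ N), L ≤ H.map φ → H.map φ ≤ Subgroup.normalizer (L : Set _) →
      (Nat.card L).Coprime q → L = ⊥ := by
    intro L hLH hLn hLq
    set L₀ := H ⊓ L.comap φ with hL₀
    haveI : (L₀.subgroupOf H).Normal := ⟨fun y hy g => by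
      rw [Subgroup.mem_subgroupOf] at hy ⊢
      refine ⟨(g * y * g⁻¹).2, ?_⟩
      show φ ((g : G) * y * (g : G)⁻¹) ∈ L
      rw [map_mul, map_mul, map_inv]
      exact (Subgroup.mem_normalizer_iff.1 (hLn (Subgroup.mem_map_of_mem φ g.2)) _).1 hy.2⟩
    have hq' : (Nat.card L₀).Coprime q := by
      have hNL : N ≤ L₀ := le_inf hNH (QuotientGroup.le_comap_mk' N L)
      rw [← CfsgLib.Coprime.card_mul_relIndex' hNL]
      refine Nat.Coprime.mul_left hNq ?_
      have h1 : N.relIndex L₀ ∣ N.relIndex (L.comap φ) := by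
        have h2 := Subgroup.relIndex_mul_relIndex N L₀ (L.comap φ) hNL inf_le_right
        exact Dvd.intro _ h2
      refine Nat.Coprime.coprime_dvd_left h1 ?_
      have e : N.relIndex (L.comap φ) = Nat.card L := by
        have h := Subgroup.relIndex_comap (⊥ : Subgroup (G ⧸ N)) φ (L.comap φ)
        rw [Subgroup.map_comap_eq_self_of_surjective hφs, Subgroup.relIndex_bot_left, MonoidHom.comap_bot] at h
        rwa [show φ.ker = N from QuotientGroup.ker_mk' N] at h
      rw [e]
      exact hLq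
    rw [eq_bot_iff]
    intro y hy
    obtain ⟨g, hg, rfl⟩ := hLH hy
    have hle : L₀.subgroupOf H ≤ Cfsg.pPrimeCore q ↥H := CfsgLib.Solvable.Cores.le_pPrimeCore (by
      rw [Nat.card_congr (Subgroup.subgroupOfEquivOfLe (inf_le_left : L₀ ≤ H)).toEquiv]; exact hq')
    exact Subgroup.mem_bot.2 ((QuotientGroup.eq_one_iff g).2
      ⟨⟨g, hg⟩, hle (Subgroup.mem_subgroupOf.2 ⟨hg, hy⟩), rfl⟩)
  have hK'H : K' ≤ H.map φ := Subgroup.map_mono hKH
  -- the `q`-core of `K'`
  have hOK : Cfsg.pPrimeCore q ↥K' = ⊥ := by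
    haveI := CfsgLib.Solvable.Cores.pPrimeCore_characteristic (G := ↥K') q
    haveI hn : ((Cfsg.pPrimeCore q ↥K').map K'.subtype).Normal := ConjAct.normal_of_characteristic_of_normal
    have h := hcore ((Cfsg.pPrimeCore q ↥K').map K'.subtype) ((Subgroup.map_subtype_le _).trans hK'H)
      (by rw [Subgroup.normalizer_eq_top]; exact le_top) (by
        rw [Subgroup.card_map_of_injective K'.subtype_injective]
        exact CfsgLib.Solvable.Cores.coprime_card_pPrimeCore q)
    rwa [Subgroup.map_eq_bot_iff, Subgroup.ker_subtype, le_bot_iff] at h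
  set V := (Cfsg.pCore q ↥K').map K'.subtype with hV
  haveI := CfsgLib.Solvable.Cores.pCore_characteristic (G := ↥K') q
  haveI hVn : V.Normal := ConjAct.normal_of_characteristic_of_normal
  have hVK : V ≤ K' := Subgroup.map_subtype_le _
  have hVp : IsPGroup q V := (CfsgLib.Solvable.Cores.isPGroup_pCore q).map _
  have hCV : ∀ k ∈ K', k ∈ Subgroup.centralizer (V : Set (G ⧸ N)) → k ∈ V := by
    intro k hk hkc
    refine ⟨⟨k, hk⟩, CfsgLib.Fusion.PSolvable.centralizer_pCore_le
      (CfsgLib.Fusion.PSolvable.psolvable_of_solvable) hOK (Subgroup.mem_centralizer_iff.2 fun v hv => ?_), rfl⟩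
    exact Subtype.ext (Subgroup.mem_centralizer_iff.1 hkc v ⟨v, hv, rfl⟩)
  have hVq : ∀ y ∈ V, (orderOf y).Coprime q → y = 1 := by
    intro y hy hyq
    exact congrArg Subtype.val (CfsgLib.Fusion.Basic.eq_one_of_isPGroup_of_coprime hVp (x := ⟨y, hy⟩)
      (by rwa [Subgroup.orderOf_mk]))
  -- `R` centralizes `V`
  have hRCz : R ≤ Cz := Subgroup.map_subtype_le _
  have hRH : R ≤ H := hRCz.trans inf_le_left
  have hRz : ∀ y ∈ R, Commute y z := fun y hy =>
    Subgroup.mem_centralizer_singleton_iff.1 (hRCz hy).2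
  have hCzR : Cz ≤ Subgroup.normalizer (R : Set G) := fun c hc =>
    le_normalizer_core q Cz (Subgroup.le_normalizer hc)
  have hφord : ∀ y ∈ R, (orderOf (φ y)).Coprime q := fun y hy =>
    (hcardmap Cz).coprime_dvd_left ((orderOf_map_dvd φ y).trans (Subgroup.orderOf_dvd_natCard _ hy))
  have hRV : R.map φ ≤ Subgroup.centralizer (V : Set (G ⧸ N)) := by
    refine CfsgLib.Coprime.le_centralizer_of_prod (p := q) (P := (Subgroup.zpowers z).map φ) ?_ ?_ ?_ hVp
      (by rw [Subgroup.normalizer_eq_top]; exact le_top) (by rw [Subgroup.normalizer_eq_top]; exact le_top) ?_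
    · obtain ⟨k, hk⟩ := hz
      exact (IsPGroup.of_card (n := k) (by rw [Nat.card_zpowers, hk])).map φ
    · exact Nat.Coprime.coprime_dvd_left (R.card_map_dvd φ) (hcardmap Cz)
    · rw [← Subgroup.map_commutator, Subgroup.map_eq_bot_iff]
      refine (Subgroup.commutator_le.2 fun a ha y hy => ?_).trans bot_le
      obtain ⟨i, rfl⟩ := Subgroup.mem_zpowers_iff.1 ha
      exact Subgroup.mem_bot.2 (commutatorElement_eq_one_iff_commute.2 ((hRz y hy).symm.zpow_left i))
    rintro v ⟨hv, hvz⟩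
    obtain ⟨h, hh, hhv⟩ := hK'H (hVK hv)
    -- lift to the centralizer of `z`
    obtain ⟨c, hc, hcN⟩ := CfsgLib.Coprime.exists_centralizer_inv_mul_mem (A := Subgroup.zpowers z)
      (by rw [Subgroup.normalizer_eq_top]; exact le_top) hNH (by rw [Subgroup.normalizer_eq_top]; exact le_top)
      (by
        obtain ⟨k, hk⟩ := hz
        rw [Nat.card_zpowers, hk]; exact Nat.Coprime.pow_left k hNq.symm)
      (Or.inl (CfsgLib.Coprime.isSolvable_zpowers z)) hh (fun a ha => by
        rw [← QuotientGroup.eq_one_iff]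
        show φ ⁅a, h⁆ = 1
        rw [map_commutatorElement, hhv, commutatorElement_eq_one_iff_mul_comm]
        exact Subgroup.mem_centralizer_iff.1 hvz _ (Subgroup.mem_map_of_mem φ ha))
    have hcz : c ∈ Cz := ⟨hc.1, Subgroup.mem_centralizer_singleton_iff.2
      (Subgroup.mem_centralizer_iff.1 hc.2 z (Subgroup.mem_zpowers z)).symm⟩
    have hcv : φ c = v := by
      rw [← hhv]
      exact ((QuotientGroup.eq (s := N)).2 hcN).symm
    refine Subgroup.mem_centralizer_iff.2 ?_
    rintro _ ⟨y, hy, rfl⟩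
    have hcy : ⁅c, y⁆ ∈ R := by
      rw [commutatorElement_def]
      exact R.mul_mem ((Subgroup.mem_normalizer_iff.1 (hCzR hcz) y).1 hy) (R.inv_mem hy)
    have hV' : φ ⁅c, y⁆ ∈ V := by
      rw [map_commutatorElement, hcv, commutatorElement_def, mul_assoc, mul_assoc, ← mul_assoc (φ y)]
      exact V.mul_mem hv (hVn.conj_mem _ (V.inv_mem hv) _)
    have h1 := hVq _ hV' (hφord _ hcy)
    rw [map_commutatorElement, hcv, commutatorElement_eq_one_iff_mul_comm] at h1
    exact h1.symm
  refine sup_le ?_ ?_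
  · -- `R ⊓ T` centralizes `K'`
    rintro t ⟨htR, htT⟩
    set L := T.map φ ⊓ Subgroup.centralizer (K' : Set (G ⧸ N)) with hL
    have hLbot : L = ⊥ := by
      refine hcore L ?_ ?_ ?_
      · exact inf_le_left.trans (Subgroup.map_mono ((Subgroup.map_subtype_le _).trans inf_le_left))
      · rw [← hsupH, Subgroup.map_sup]
        refine sup_le ?_ ?_
        · intro k hk
          refine Subgroup.centralizer_le_normalizer _ (Subgroup.mem_centralizer_iff.2 fun y hy => ?_)
          exact (Subgroup.mem_centralizer_iff.1 hy.2 k hk).symm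
        · rintro _ ⟨c, hc, rfl⟩
          have hcT : c ∈ Subgroup.normalizer (T : Set G) := le_normalizer_core q CP (Subgroup.le_normalizer hc)
          haveI : (Subgroup.centralizer (K' : Set (G ⧸ N))).Normal := Subgroup.normal_centralizer
          refine Subgroup.mem_normalizer_iff.2 fun y => ⟨fun hy => ⟨?_, ?_⟩, fun hy => ⟨?_, ?_⟩⟩
          · obtain ⟨w, hw, rfl⟩ := hy.1
            exact ⟨c * w * c⁻¹, (Subgroup.mem_normalizer_iff.1 hcT w).1 hw, by rw [map_mul, map_mul, map_inv]⟩
          · exact (inferInstance : (Subgroup.centralizer (K' : Set (G ⧸ N))).Normal).conj_mem y hy.2 _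
          · obtain ⟨w, hw, he⟩ := hy.1
            refine ⟨c⁻¹ * w * c, ?_, ?_⟩
            · refine (Subgroup.mem_normalizer_iff.1 hcT _).2 ?_
              have e : c * (c⁻¹ * w * c) * c⁻¹ = w := by group
              rw [e]; exact hw
            · rw [map_mul, map_mul, map_inv, he]; group
          · have h := (inferInstance : (Subgroup.centralizer (K' : Set (G ⧸ N))).Normal).conj_mem _ hy.2 (φ c)⁻¹
            have e : (φ c)⁻¹ * (φ c * y * (φ c)⁻¹) * (φ c)⁻¹⁻¹ = y := by group
            rwa [e] at h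
      · exact Nat.Coprime.coprime_dvd_left ((Subgroup.card_dvd_of_le inf_le_left).trans (T.card_map_dvd φ))
          (hcardmap CP)
    refine (QuotientGroup.eq_one_iff t).1 (Subgroup.mem_bot.1 (hLbot ▸ (⟨⟨t, htT, rfl⟩, ?_⟩ : φ t ∈ L)))
    -- `φ t` centralizes `K' / V` and `V`
    refine Subgroup.mem_centralizer_iff.2 fun k hk => ?_
    have htc : φ t ∈ Subgroup.centralizer (V : Set (G ⧸ N)) := hRV ⟨t, htR, rfl⟩
    set e := φ t * k * (φ t)⁻¹ * k⁻¹ with he
    have heK : e ∈ K' := K'.mul_mem ((inferInstance : K'.Normal).conj_mem k hk _) (K'.inv_mem hk)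
    haveI : (Subgroup.centralizer (V : Set (G ⧸ N))).Normal := Subgroup.normal_centralizer
    have heC : e ∈ Subgroup.centralizer (V : Set (G ⧸ N)) := by
      have e' : e = φ t * (k * (φ t)⁻¹ * k⁻¹) := by rw [he]; group
      rw [e']
      exact Subgroup.mul_mem _ htc ((inferInstance : (Subgroup.centralizer (V : Set (G ⧸ N))).Normal).conj_mem _
        (Subgroup.inv_mem _ htc) k)
    have heV := hCV e heK heC
    have hec : Commute (φ t) e := (Subgroup.mem_centralizer_iff.1 htc e heV).symm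
    have hit : ∀ m : ℕ, φ t ^ m * k * (φ t ^ m)⁻¹ = e ^ m * k := by
      intro m
      induction m with
      | zero => simp
      | succ m ih =>
        calc φ t ^ (m + 1) * k * (φ t ^ (m + 1))⁻¹ = φ t * (φ t ^ m * k * (φ t ^ m)⁻¹) * (φ t)⁻¹ := by
              rw [pow_succ']; group
          _ = (φ t * e ^ m) * k * (φ t)⁻¹ := by rw [ih]; group
          _ = e ^ m * (φ t * k * (φ t)⁻¹) := by rw [(hec.pow_right m).eq]; group
          _ = e ^ (m + 1) * k := by rw [pow_succ, he]; group
    have h1 := hit (orderOf (φ t))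
    rw [pow_orderOf_eq_one, inv_one, one_mul, mul_one, right_eq_mul] at h1
    have h2 := hVq e heV ((hφord t htR).coprime_dvd_left (orderOf_dvd_of_pow_eq_one h1))
    rw [he, mul_inv_eq_one, mul_inv_eq_iff_eq_mul] at h2
    exact h2.symm
  · -- `[R, P] ≤ R ⊓ K`
    rw [Subgroup.commutator_le]
    intro y hy s hs
    have hPCz : s ∈ Subgroup.normalizer (Cz : Set G) := by
      have hsz : Commute s z := Subgroup.mem_centralizer_iff.1 hzP s hs
      refine Subgroup.mem_normalizer_iff.2 fun w => ?_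
      show w ∈ H ∧ w ∈ Subgroup.centralizer ({z} : Set G) ↔ _ ∈ H ∧ _ ∈ Subgroup.centralizer ({z} : Set G)
      simp only [Subgroup.mem_centralizer_singleton_iff]
      refine and_congr (Subgroup.mem_normalizer_iff.1 (hPnH hs) w) ⟨fun h => ?_, fun h => ?_⟩
      · exact ((hsz.mul_left h).mul_left hsz.inv_left).eq
      · have h' := (hsz.inv_left.mul_left h).mul_left hsz
        have e : s⁻¹ * (s * w * s⁻¹) * s = w := by group
        rw [e] at h'
        exact h'.eq
    have h1 : ⁅y, s⁆ ∈ R := by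
      rw [commutatorElement_def, mul_assoc, mul_assoc, ← mul_assoc s]
      exact R.mul_mem hy ((Subgroup.mem_normalizer_iff.1 (le_normalizer_core q Cz hPCz) _).1 (R.inv_mem hy))
    have h2 : ⁅y, s⁆ ∈ K := Subgroup.commutator_mem_commutator (hRH hy) hs
    refine (QuotientGroup.eq_one_iff _).1 (hVq _ (hCV _ (Subgroup.mem_map_of_mem φ h2) (hRV ⟨_, h1, rfl⟩)) ?_)
    exact hφord _ h1

end Helpers

/-- Let G be a finite group with Sylow p-subgroup P and H = O_{p'}(G), and suppose G = PH and the commutator subgroup [H, P] is solvable. Let q be a prime and z an element of q-power order of C_H(P). Then (O_{q'}(C_H(z)) ∩ O_{q'}(C_H(P))) · [O_{q'}(C_H(z)), P] ≤ O_{q'}(H). -/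
theorem result {G : Type*} [Group G] [Finite G] {p : ℕ} [Fact p.Prime]
    (P : Sylow p G) (hPH : Cfsg.pPrimeCore p G ⊔ (P : Subgroup G) = ⊤)
    (hsol : Group.IsSolvable ↥⁅Cfsg.pPrimeCore p G, (P : Subgroup G)⁆)
    {q : ℕ} [Fact q.Prime] (z : G) (hzH : z ∈ Cfsg.pPrimeCore p G) (hzP : z ∈ Subgroup.centralizer ((P : Subgroup G) : Set G))
    (hz : ∃ k : ℕ, orderOf z = q ^ k) :
    ((Cfsg.pPrimeCore q ↥(Cfsg.pPrimeCore p G ⊓ Subgroup.centralizer ({z} : Set G))).map
        (Cfsg.pPrimeCore p G ⊓ Subgroup.centralizer ({z} : Set G)).subtype ⊓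
      (Cfsg.pPrimeCore q ↥(Cfsg.pPrimeCore p G ⊓ Subgroup.centralizer ((P : Subgroup G) : Set G))).map
        (Cfsg.pPrimeCore p G ⊓ Subgroup.centralizer ((P : Subgroup G) : Set G)).subtype) ⊔
    ⁅(Cfsg.pPrimeCore q ↥(Cfsg.pPrimeCore p G ⊓ Subgroup.centralizer ({z} : Set G))).map
        (Cfsg.pPrimeCore p G ⊓ Subgroup.centralizer ({z} : Set G)).subtype, (P : Subgroup G)⁆ ≤
    (Cfsg.pPrimeCore q ↥(Cfsg.pPrimeCore p G)).map (Cfsg.pPrimeCore p G).subtype := by
  exact main P hsol z hzH hzP hz hPH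

end Cfsg.Agent.S3819
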