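import Cfsg.Statements.S3821
import Cfsg.Agent.Lib.Coprime.SchurZassenhaus
-- import your own Cfsg.Agent.* helpers here

set_option autoImplicit false
open Cfsg

namespace Cfsg.Agent.S3821

/-- Let A be a normal subgroup of the finite group G and H a subgroup of A. Then H is pronormal in G (H and gHg⁻¹ conjugate inside ⟨H, gHg⁻¹⟩ for every g ∈ G) if and only if H is pronormal in A and G = A · N_G(H). -/
theorem result {G : Type*} [Group G] [Finite G] (A H : Subgroup G) [A.Normal] (hHA : H ≤ A) :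
    Cfsg.IsPronormal H ↔ (Cfsg.IsPronormal (H.subgroupOf A) ∧ A ⊔ Subgroup.normalizer (H : Set G) = ⊤) := by
  have hinj := Subgroup.map_injective A.subtype_injective
  have hmap : ∀ a : A, ((H.subgroupOf A).map (MulAut.conj a).toMonoidHom).map A.subtype
      = H.map (MulAut.conj (a : G)).toMonoidHom := fun a => by
    ext z
    constructor
    · rintro ⟨_, ⟨y, hy, rfl⟩, rfl⟩
      exact ⟨y, hy, rfl⟩
    · rintro ⟨y, hy, rfl⟩
      exact ⟨MulAut.conj a ⟨y, hHA hy⟩, ⟨_, hy, rfl⟩, rfl⟩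
  have hsup : ∀ a : A, (H.subgroupOf A ⊔ (H.subgroupOf A).map (MulAut.conj a).toMonoidHom).map A.subtype
      = H ⊔ H.map (MulAut.conj (a : G)).toMonoidHom := fun a => by
    rw [Subgroup.map_sup, hmap, Subgroup.map_subgroupOf_eq_of_le hHA]
  constructor
  · intro h
    refine ⟨fun a => ?_, eq_top_iff.2 fun g _ => ?_⟩
    · obtain ⟨x, hx, hxH⟩ := h (a : G)
      rw [← hsup] at hx
      obtain ⟨x', hx', rfl⟩ := hx
      exact ⟨x', hx', hinj (by rw [hmap, hmap, hxH]; rfl)⟩
    · obtain ⟨x, hx, hxH⟩ := h g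
      have hxA : x ∈ A := sup_le hHA (CfsgLib.Coprime.conj_map_le_iff.2 fun z hz =>
        ‹A.Normal›.conj_mem z (hHA hz) g) hx
      have hy : x⁻¹ * g ∈ Subgroup.normalizer (H : Set G) := by
        refine CfsgLib.Coprime.mem_normalizer_of_conj_map_le (CfsgLib.Coprime.conj_map_le_iff.1 (le_of_eq ?_))
        rw [← CfsgLib.Coprime.conj_map_map, hxH, CfsgLib.Coprime.conj_map_map, inv_mul_cancel,
          CfsgLib.Coprime.conj_map_eq_self_of_mem_normalizer (one_mem _)]
      have := Subgroup.mul_mem_sup hxA hy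
      rwa [mul_inv_cancel_left] at this
  · rintro ⟨h, htop⟩ g
    obtain ⟨a, ha, n, hn, rfl⟩ := Subgroup.mem_sup_of_normal_left.1 (htop ▸ Subgroup.mem_top g)
    obtain ⟨x, hx, hxH⟩ := h ⟨a, ha⟩
    have hconj : H.map (MulAut.conj (a * n)).toMonoidHom = H.map (MulAut.conj a).toMonoidHom := by
      rw [← CfsgLib.Coprime.conj_map_map, CfsgLib.Coprime.conj_map_eq_self_of_mem_normalizer hn]
    refine ⟨x, ?_, ?_⟩
    · rw [hconj]
      exact (hsup ⟨a, ha⟩).le ⟨x, hx, rfl⟩
    · rw [hconj]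
      exact (hmap ⟨a, ha⟩).symm.trans ((congrArg _ hxH).trans (hmap x))

end Cfsg.Agent.S3821
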