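import Cfsg.Statements.S3822
import Cfsg.Agent.S3818
import Cfsg.Agent.Lib.Coprime.FixedPointFreeOnModule
import Cfsg.Agent.Lib.PGroup.Frattini
-- import your own Cfsg.Agent.* helpers here

set_option autoImplicit false
open Cfsg

namespace Cfsg.Agent.S3822

section Helpers
open Subgroup CfsgLib
open scoped commutatorElement

universe u

variable {G : Type u} [Group G] [Finite G] {p : ℕ} [Fact p.Prime]

theorem commute_of_maximal (hp : 3 < p) (P A : Subgroup G) (hP : Nat.card P = p)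
    (hA : Group.IsSolvable ↥A) {a : G} (haA : a ∈ A)
    (hAeq : A = P ⊔ P.map (MulAut.conj a).toMonoidHom)
    (hmax : ∀ B : Subgroup G, A ≤ B → Group.IsSolvable ↥B →
      (∃ b ∈ B, B = P ⊔ P.map (MulAut.conj b).toMonoidHom) → B = A)
    {s q : ℕ} [hs : Fact s.Prime] [hq : Fact q.Prime] (hsq : s ≠ q) (S Q : Subgroup G)
    (hSA : S ≤ A) (hAS : A ≤ normalizer (S : Set G)) (hS : IsPGroup s S)
    (hQ : IsPGroup q Q) (hAQ : A ≤ normalizer (Q : Set G)) : S ≤ centralizer (Q : Set G) := by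
  classical
  by_contra hcon
  obtain ⟨Q', hQ'le, ⟨hQ'Q, hAQ', hSQ'⟩, hmin⟩ :=
    (Set.toFinite {R : Subgroup G | R ≤ Q ∧ A ≤ normalizer (R : Set G) ∧
      ¬ S ≤ centralizer (R : Set G)}).exists_le_minimal (a := Q) ⟨le_rfl, hAQ, hcon⟩
  have hQ'p : IsPGroup q Q' := hQ.to_le hQ'Q
  have hSQn : S ≤ normalizer (Q' : Set G) := hSA.trans hAQ'
  have hcop : (Nat.card S).Coprime (Nat.card Q') := IsPGroup.coprime_card_of_ne s q hsq S Q' hS hQ'p
  have hsub : ∀ R ≤ Q', A ≤ normalizer (R : Set G) → R ≠ Q' → S ≤ centralizer (R : Set G) := by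
    intro R hR hAR hne
    by_contra h
    exact hne (le_antisymm hR (hmin ⟨hR.trans hQ'Q, hAR, h⟩ hR))
  haveI : Group.IsSolvable Q' := by haveI := hQ'p.isNilpotent; infer_instance
  have hQS : ⁅Q', S⁆ = Q' := by
    have hle : ⁅Q', S⁆ ≤ Q' := le_normalizer_iff_commutator_le_left.1 hSQn
    by_contra hne
    have h1 := hsub _ hle (fun g hg => Coprime.mem_normalizer_of_conj_map_le
      (Coprime.conj_map_le_iff.1 (by
        rw [map_commutator, Coprime.conj_map_eq_self_of_mem_normalizer (hAQ' hg),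
          Coprime.conj_map_eq_self_of_mem_normalizer (hAS hg)]))) hne
    have h2 := Coprime.commutator_eq_bot_of_commutator_commutator
      (Coprime.coprime_of_le hcop le_rfl hle)
      (commutator_eq_bot_iff_le_centralizer.2 (le_centralizer_iff.1 h1))
    exact hSQ' (le_centralizer_iff.1 (commutator_eq_bot_iff_le_centralizer.1 h2))
  set Φ := (frattini Q').map Q'.subtype with hΦ
  have hΦQ : Φ ≤ Q' := map_subtype_le _
  have hQn : A ⊔ Q' ≤ normalizer (Φ : Set G) := sup_le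
    (fun g hg => Coprime.FixedPointFreeOnModule.mem_normalizer_map_of_char (frattini Q') (hAQ' hg))
    (fun g hg => Coprime.FixedPointFreeOnModule.mem_normalizer_map_of_char (frattini Q')
      (le_normalizer hg))
  -- the module `Q' / Φ`
  letI : CommGroup (Q' ⧸ frattini Q') :=
    { (inferInstance : Group (Q' ⧸ frattini Q')) with
      mul_comm := PGroup.Frattini.quotient_mul_comm hQ'p }
  let red : MulAut Q' →* MulAut (Q' ⧸ frattini Q') := MonoidHom.mk'
    (fun e => QuotientGroup.congr _ _ e (characteristic_iff_map_eq.1 inferInstance e))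
    fun e e' => MulEquiv.ext fun v => by
      obtain ⟨w, rfl⟩ := QuotientGroup.mk'_surjective _ v
      rfl
  let θ : A →* MulAut (Q' ⧸ frattini Q') :=
    (red.comp (normalizerMonoidHom Q')).comp (inclusion hAQ')
  have hθ : ∀ (g : A) (u : Q'), θ g (QuotientGroup.mk u) =
      QuotientGroup.mk ⟨(g : G) * u * (g : G)⁻¹, le_normalizer_iff.1 hAQ' g g.2 u u.2⟩ :=
    fun g u => rfl
  have hmkΦ : ∀ u : Q', (u : Q' ⧸ frattini Q') = 1 ↔ (u : G) ∈ Φ := fun u => by
    rw [QuotientGroup.eq_one_iff]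
    exact ⟨fun h => ⟨u, h, rfl⟩, fun ⟨w, hw, e⟩ => Subtype.ext e ▸ hw⟩
  obtain ⟨mod, ρ₀, hρ₀⟩ := Solvable.FPFOperators.exists_linear
    (PGroup.Frattini.quotient_pow_eq_one hQ'p) θ
  letI := mod
  haveI : Fintype S := Fintype.ofFinite _
  let ι : S → A := fun t => ⟨(t : G), hSA t.2⟩
  -- the sum over `S` vanishes
  let σS : Module.End (ZMod q) (Additive (Q' ⧸ frattini Q')) := ∑ t : S, ρ₀ (ι t)
  have hσ0 : σS = 0 := by
    let K : Subgroup G :=
      { carrier := {g | ∃ hg : g ∈ Q', σS (Additive.ofMul (QuotientGroup.mk ⟨g, hg⟩)) = 0}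
        one_mem' := ⟨one_mem Q', map_zero σS⟩
        mul_mem' := fun {g h} hg hh => by
          obtain ⟨hg, hg'⟩ := hg
          obtain ⟨hh, hh'⟩ := hh
          exact ⟨mul_mem hg hh, by
            rw [show (⟨g * h, mul_mem hg hh⟩ : Q') = ⟨g, hg⟩ * ⟨h, hh⟩ from rfl,
              QuotientGroup.mk_mul, ofMul_mul, map_add, hg', hh', add_zero]⟩
        inv_mem' := fun {g} hg => by
          obtain ⟨hg, hg'⟩ := hg
          exact ⟨inv_mem hg, by
            rw [show (⟨g⁻¹, inv_mem hg⟩ : Q') = ⟨g, hg⟩⁻¹ from rfl,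
              QuotientGroup.mk_inv, ofMul_inv, map_neg, hg', neg_zero]⟩ }
    have hle : Q' ≤ K := by
      conv_lhs => rw [← hQS]
      refine commutator_le.2 fun g hg t ht => ?_
      have hy : t * g⁻¹ * t⁻¹ ∈ Q' := le_normalizer_iff.1 hSQn t ht _ (inv_mem hg)
      refine ⟨by rw [← hQS]; exact commutator_mem_commutator hg ht, ?_⟩
      rw [show (⟨⁅g, t⁆, _⟩ : Q') = (⟨g, hg⟩ * ⟨t * g⁻¹ * t⁻¹, hy⟩ : Q') from Subtype.ext (by
        show ⁅g, t⁆ = g * (t * g⁻¹ * t⁻¹)
        rw [commutatorElement_def]; group), QuotientGroup.mk_mul, ofMul_mul, map_add]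
      have h1 : Additive.ofMul (QuotientGroup.mk (⟨t * g⁻¹ * t⁻¹, hy⟩ : Q') : Q' ⧸ frattini Q') =
          ρ₀ (ι ⟨t, ht⟩) (-Additive.ofMul (QuotientGroup.mk (⟨g, hg⟩ : Q'))) := by
        rw [← ofMul_inv, ← QuotientGroup.mk_inv, hρ₀, hθ]
        rfl
      have h2 : ∀ w, σS (ρ₀ (ι ⟨t, ht⟩) w) = σS w := by
        intro w
        simp only [σS, LinearMap.sum_apply]
        refine Fintype.sum_equiv (Equiv.mulRight (⟨t, ht⟩ : S)) _ _ fun z => ?_
        rw [← Module.End.mul_apply, ← map_mul]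
        rfl
      rw [h1, h2, map_neg, add_neg_cancel]
    refine LinearMap.ext fun w => ?_
    obtain ⟨w, rfl⟩ := Additive.ofMul.surjective w
    obtain ⟨⟨g, hg⟩, rfl⟩ := QuotientGroup.mk'_surjective _ w
    obtain ⟨_, h⟩ := hle hg
    exact h
  have hnofix : ∀ w, (∀ t : S, ρ₀ (ι t) w = w) → w = 0 := by
    intro w hw
    have h1 : σS w = (Nat.card S : ZMod q) • w := by
      simp only [σS, LinearMap.sum_apply]
      rw [Finset.sum_congr rfl fun t _ => hw t, Finset.sum_const, Finset.card_univ,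
        ← Nat.card_eq_fintype_card, Nat.cast_smul_eq_nsmul]
    rw [hσ0, LinearMap.zero_apply, eq_comm, smul_eq_zero] at h1
    refine h1.resolve_left fun h => ?_
    obtain ⟨i, hi⟩ := (IsPGroup.iff_card (p := s)).1 hS
    rw [hi, ZMod.natCast_eq_zero_iff] at h
    exact hsq ((Nat.prime_dvd_prime_iff_eq hq.out hs.out).1 (hq.out.dvd_of_dvd_pow h)).symm
  have hsub' : ∀ R ≤ Q', A ≤ normalizer (R : Set G) → R ≠ Q' → R ≤ Φ := by
    intro R hR hAR hne g hg
    have h := hsub R hR hAR hne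
    refine (hmkΦ ⟨g, hR hg⟩).1 (Additive.ofMul.injective (hnofix _ fun t => ?_))
    rw [hρ₀, hθ]
    congr 2
    refine Subtype.ext ?_
    show (t : G) * g * (t : G)⁻¹ = g
    rw [← mem_centralizer_iff.1 (h t.2) g hg, mul_inv_cancel_right]
  -- the image of `A`
  obtain ⟨⟨x, hxP⟩, hx1⟩ : ∃ g : P, g ≠ 1 := by
    haveI : Nontrivial P := Finite.one_lt_card_iff_nontrivial.1 (hP ▸ (Fact.out : p.Prime).one_lt)
    exact exists_ne 1
  have hxgen : P = zpowers x := by
    refine le_antisymm (fun y hy => ?_) (zpowers_le.2 hxP)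
    have h1 : (Subgroup.zpowers (⟨x, hxP⟩ : P)) = ⊤ := zpowers_eq_top_of_prime_card hP hx1
    obtain ⟨j, hj⟩ := h1 ▸ Subgroup.mem_top (⟨y, hy⟩ : P)
    exact ⟨j, congrArg Subtype.val hj⟩
  have hPA : P ≤ A := hAeq ▸ le_sup_left
  set xA : A := ⟨x, hPA hxP⟩ with hxA
  set aA : A := ⟨a, haA⟩ with haA'
  have hnc : normalClosure ({xA} : Set A) = ⊤ := by
    have hle : A ≤ (normalClosure ({xA} : Set A)).map A.subtype := by
      conv_lhs => rw [hAeq]
      refine sup_le ?_ ?_
      · rw [hxgen, zpowers_le]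
        exact ⟨xA, subset_normalClosure (Set.mem_singleton _), rfl⟩
      · rw [hxgen, MonoidHom.map_zpowers, zpowers_le]
        exact ⟨aA * xA * aA⁻¹, normalClosure_normal.conj_mem _
          (subset_normalClosure (Set.mem_singleton _)) aA, rfl⟩
    refine eq_top_iff.2 fun y _ => ?_
    obtain ⟨z, hz, e⟩ := hle y.2
    exact A.subtype_injective e ▸ hz
  obtain ⟨mod', ρ₁, hρ₁⟩ := Solvable.FPFOperators.exists_linear
    (PGroup.Frattini.quotient_pow_eq_one hQ'p) (QuotientGroup.kerLift θ)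
  have hmodeq : mod' = mod := Subsingleton.elim _ _
  subst hmodeq
  set Gb := A ⧸ θ.ker with hGb
  set f₀ := QuotientGroup.mk' θ.ker with hf₀
  have hρ₁' : ∀ g : A, ρ₁ (f₀ g) = ρ₀ g := fun g => LinearMap.ext fun w => by
    obtain ⟨w, rfl⟩ := Additive.ofMul.surjective w
    rw [hρ₁, hρ₀]; rfl
  have hinj : Function.Injective ρ₁ := fun b c e => QuotientGroup.kerLift_injective θ
    (MulEquiv.ext fun u => Additive.ofMul.injective (by rw [← hρ₁, ← hρ₁, e]))
  obtain ⟨u₀, hu₀⟩ : ∃ u : Q', (u : G) ∉ Φ := by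
    by_contra h
    push Not at h
    refine hSQ' (Coprime.le_centralizer_of_frattini hSQn
      (hcop.coprime_dvd_right (card_subgroup_dvd_card (frattini Q'))) fun t ht k hk => ?_)
    exact h ⟨⁅t, k⁆, by
      rw [commutatorElement_def]
      exact mul_mem (le_normalizer_iff.1 hSQn t ht k hk) (inv_mem hk)⟩
  have hxb : f₀ xA ≠ 1 := by
    intro h
    have hle : normalClosure ({xA} : Set A) ≤ θ.ker :=
      normalClosure_le_normal (Set.singleton_subset_iff.2 ((QuotientGroup.eq_one_iff _).1 h))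
    rw [hnc] at hle
    refine hu₀ ((hmkΦ u₀).1 (Additive.ofMul.injective (hnofix _ fun t => ?_)))
    rw [hρ₀, show θ (ι t) = 1 from hle (mem_top (ι t))]
    rfl
  haveI : Representation.IsIrreducible (ρ₁ : Representation (ZMod q) Gb (Additive (Q' ⧸ frattini Q'))) := by
    haveI : Nontrivial (Subrepresentation (ρ₁ : Representation (ZMod q) Gb (Additive (Q' ⧸ frattini Q')))) := by
      refine ⟨⊥, ⊤, fun h => ?_⟩
      have h1 : Additive.ofMul (u₀ : Q' ⧸ frattini Q') ∈
          (⊥ : Submodule (ZMod q) (Additive (Q' ⧸ frattini Q'))) :=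
        (congrArg Subrepresentation.toSubmodule h).ge Submodule.mem_top
      exact hu₀ ((hmkΦ u₀).1 (Additive.ofMul.injective ((Submodule.mem_bot _).1 h1)))
    refine ⟨fun U => ?_⟩
    let R : Subgroup G :=
      { carrier := {g | ∃ hg : g ∈ Q', Additive.ofMul (QuotientGroup.mk ⟨g, hg⟩ : Q' ⧸ frattini Q') ∈ U.toSubmodule}
        one_mem' := ⟨one_mem Q', U.toSubmodule.zero_mem⟩
        mul_mem' := fun {g h} hg hh => by
          obtain ⟨hg, hg'⟩ := hg
          obtain ⟨hh, hh'⟩ := hh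
          exact ⟨mul_mem hg hh, U.toSubmodule.add_mem hg' hh'⟩
        inv_mem' := fun {g} hg => by
          obtain ⟨hg, hg'⟩ := hg
          exact ⟨inv_mem hg, U.toSubmodule.neg_mem hg'⟩ }
    have hRQ : R ≤ Q' := fun g hg => by obtain ⟨hg, -⟩ := hg; exact hg
    have hAR : A ≤ normalizer (R : Set G) := by
      refine le_normalizer_iff.2 fun b hb g hg => ?_
      obtain ⟨hg, hg'⟩ := hg
      refine ⟨le_normalizer_iff.1 hAQ' b hb g hg, ?_⟩
      have h1 := U.apply_mem_toSubmodule (f₀ ⟨b, hb⟩) hg'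
      rw [hρ₁', hρ₀, hθ] at h1
      exact h1
    by_cases hR : R = Q'
    · right
      refine Subrepresentation.toSubmodule_injective (top_le_iff.1 fun w _ => ?_)
      obtain ⟨w, rfl⟩ := Additive.ofMul.surjective w
      obtain ⟨⟨g, hg⟩, rfl⟩ := QuotientGroup.mk'_surjective _ w
      have h2 : g ∈ R := by rw [hR]; exact hg
      obtain ⟨_, h⟩ := h2
      exact h
    · left
      refine Subrepresentation.toSubmodule_injective (le_bot_iff.1 fun w hw => ?_)
      obtain ⟨w, rfl⟩ := Additive.ofMul.surjective w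
      obtain ⟨⟨g, hg⟩, rfl⟩ := QuotientGroup.mk'_surjective _ w
      have h2 : g ∈ Φ := hsub' R hRQ hAR hR ⟨hg, hw⟩
      rw [show QuotientGroup.mk' (frattini Q') ⟨g, hg⟩ = 1 from (hmkΦ ⟨g, hg⟩).2 h2]
      exact Submodule.zero_mem _
  haveI : Group.IsSolvable A := hA
  set xb := f₀ xA with hxbdef
  have hxp : xb ^ p = 1 := by
    have h := congrArg Subtype.val (pow_card_eq_one' (x := (⟨x, hxP⟩ : P)))
    rw [hP] at h
    rw [hxbdef, ← map_pow, show xA ^ p = 1 from Subtype.ext h, map_one]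
  have hgenb : normalClosure ((zpowers xb : Subgroup Gb) : Set Gb) = ⊤ := by
    refine eq_top_iff.2 fun y _ => ?_
    obtain ⟨y, rfl⟩ := QuotientGroup.mk'_surjective θ.ker y
    have hle : normalClosure ({xA} : Set A) ≤
        (normalClosure ((zpowers xb : Subgroup Gb) : Set Gb)).comap f₀ := by
      haveI : ((normalClosure ((zpowers xb : Subgroup Gb) : Set Gb)).comap f₀).Normal :=
        Normal.comap inferInstance _
      exact normalClosure_le_normal (Set.singleton_subset_iff.2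
        (subset_normalClosure (mem_zpowers xb)))
    exact hle (hnc ▸ mem_top y)
  have hbound := Cfsg.Agent.S3818.result hp (zpowers xb)
    (by rw [Nat.card_zpowers]; exact orderOf_eq_prime hxp hxb) hgenb q
    (ρ₁ : Representation (ZMod q) Gb (Additive (Q' ⧸ frattini Q'))) hinj
  set C := LinearMap.ker (ρ₁ xb - LinearMap.id) with hC
  have hCle : C ≤ ⨅ g : zpowers xb, LinearMap.ker (ρ₁ (g : Gb) - LinearMap.id) := by
    refine le_iInf fun g w hw => ?_
    rw [hC, LinearMap.mem_ker, LinearMap.sub_apply, sub_eq_zero, LinearMap.id_apply] at hw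
    rw [LinearMap.mem_ker, LinearMap.sub_apply, sub_eq_zero, LinearMap.id_apply]
    obtain ⟨i, hi⟩ := mem_powers_iff_mem_zpowers.2 g.2
    rw [← hi]
    show ρ₁ (xb ^ i) w = w
    clear hi
    induction i with
    | zero => simp
    | succ i ih => rw [pow_succ, map_mul, Module.End.mul_apply, hw, ih]
  set C' := C.map (ρ₀ aA) with hC'
  have hsum : C ⊔ C' ≠ ⊤ := by
    intro h
    have h1 := Submodule.finrank_sup_add_finrank_inf_eq C C'
    rw [h, finrank_top] at h1
    have h2 := Submodule.finrank_map_le (ρ₀ aA) C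
    have h3 := Submodule.finrank_mono hCle
    rw [← hC'] at h2
    omega
  obtain ⟨w, -, hw⟩ := SetLike.exists_of_lt (lt_top_iff_ne_top.2 hsum)
  obtain ⟨w, rfl⟩ := Additive.ofMul.surjective w
  obtain ⟨⟨v, hv⟩, rfl⟩ := QuotientGroup.mk'_surjective _ w
  -- the new subgroup
  set B := P ⊔ P.map (MulAut.conj (v * a)).toMonoidHom with hB
  set L := A ⊔ Q' with hL
  have hxB : x ∈ B := (le_sup_left : P ≤ B) hxP
  have hzB : v * a * x * (v * a)⁻¹ ∈ B :=
    (le_sup_right : P.map (MulAut.conj (v * a)).toMonoidHom ≤ B) ⟨x, hxP, rfl⟩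
  have hvaL : v * a ∈ L := mul_mem ((le_sup_right : Q' ≤ L) hv) ((le_sup_left : A ≤ L) haA)
  have hBL : B ≤ L := by
    rw [hB]
    refine sup_le (hPA.trans le_sup_left) ?_
    rintro _ ⟨y, hy, rfl⟩
    exact mul_mem (mul_mem hvaL ((le_sup_left : A ≤ L) (hPA hy))) (inv_mem hvaL)
  have hLQ : L ≤ normalizer (Q' : Set G) := sup_le hAQ' le_normalizer
  have hAB : A ≤ B ⊔ Q' := by
    conv_lhs => rw [hAeq]
    refine sup_le (le_sup_left.trans le_sup_left) ?_
    rw [hxgen, MonoidHom.map_zpowers, zpowers_le]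
    show a * x * a⁻¹ ∈ B ⊔ Q'
    rw [show a * x * a⁻¹ = v⁻¹ * (v * a * x * (v * a)⁻¹) * v by group]
    exact mul_mem (mul_mem ((le_sup_right : Q' ≤ B ⊔ Q') (inv_mem hv))
      ((le_sup_left : B ≤ B ⊔ Q') hzB)) ((le_sup_right : Q' ≤ B ⊔ Q') hv)
  by_cases hBQ : Q' ≤ B
  · -- `B` is bigger
    have hAB' : A ≤ B := hAB.trans (sup_le le_rfl hBQ)
    haveI : (Q'.subgroupOf L).Normal := normal_subgroupOf_of_le_normalizer hLQ
    haveI : Group.IsSolvable L := by
      haveI : Group.IsSolvable (Q'.subgroupOf L) :=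
        Group.isSolvable_of_isSolvable_injective
          (f := (subgroupOfEquivOfLe (le_sup_right : Q' ≤ L)).toMonoidHom)
          (subgroupOfEquivOfLe (le_sup_right : Q' ≤ L)).injective
      haveI : Group.IsSolvable (L ⧸ Q'.subgroupOf L) := by
        refine Group.isSolvable_of_surjective
          (f := (QuotientGroup.mk' (Q'.subgroupOf L)).comp (inclusion (le_sup_left : A ≤ L))) ?_
        intro y
        obtain ⟨⟨y, hy⟩, rfl⟩ := QuotientGroup.mk'_surjective _ y
        obtain ⟨g, hg, k, hk, rfl⟩ := (Coprime.mem_sup_of_le_normalizer hAQ').1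
          (show y ∈ Q' ⊔ A by rw [sup_comm]; exact hy)
        refine ⟨⟨k, hk⟩, (QuotientGroup.eq (s := Q'.subgroupOf L)).2 ?_⟩
        rw [mem_subgroupOf]
        show k⁻¹ * (g * k) ∈ Q'
        have := le_normalizer_iff.1 hAQ' k⁻¹ (inv_mem hk) g hg
        simpa [mul_assoc] using this
      exact Group.isSolvable_of_ker_le_range
        (Q'.subgroupOf L).subtype (QuotientGroup.mk' (Q'.subgroupOf L)) (by
          rw [QuotientGroup.ker_mk', range_subtype])
    have hBA := hmax B hAB' (Coprime.isSolvable_of_le hBL inferInstance)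
      ⟨v * a, mul_mem (hBQ hv) (hAB' haA), rfl⟩
    rw [hBA] at hBQ
    -- `Q'` lies in `A`, so commutes with `S`
    have hcomm : ∀ g ∈ Q', ∀ t ∈ S, Commute t g := by
      intro g hg t ht
      have h1 : ⁅g, t⁆ ∈ Q' ⊓ S := by
        refine mem_inf.2 ⟨by rw [← hQS]; exact commutator_mem_commutator hg ht, ?_⟩
        rw [commutatorElement_def]
        exact mul_mem (le_normalizer_iff.1 hAS g (hBQ hg) t ht) (inv_mem ht)
      rw [inf_eq_bot_of_coprime hcop.symm, Subgroup.mem_bot] at h1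
      exact (commutatorElement_eq_one_iff_commute.1 h1).symm
    exact hSQ' fun t ht => mem_centralizer_iff.2 fun g hg => (hcomm g hg t ht).symm.eq
  -- `B ∩ Q'` lies in `Φ`
  have hBΦ : B ⊓ Q' ≤ Φ := by
    set R := (B ⊓ Q') ⊔ Φ with hR
    have hRn : A ≤ normalizer (R : Set G) := by
      have hBn : B ≤ normalizer (R : Set G) := by
        refine fun b hb => Coprime.mem_normalizer_of_conj_map_le (Coprime.conj_map_le_iff.1 ?_)
        rw [hR, Subgroup.map_sup]
        refine sup_le_sup ?_ (Coprime.conj_map_eq_self_of_mem_normalizer (hQn (hBL hb))).le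
        rintro _ ⟨y, hy, rfl⟩
        exact mem_inf.2 ⟨mul_mem (mul_mem hb (mem_inf.1 hy).1) (inv_mem hb),
          le_normalizer_iff.1 hLQ b (hBL hb) y (mem_inf.1 hy).2⟩
      have hQR : Q' ≤ normalizer (R : Set G) := by
        refine le_normalizer_iff.2 fun g hg r hr => ?_
        have hrQ : r ∈ Q' := (sup_le inf_le_right hΦQ : R ≤ Q') hr
        rw [show g * r * g⁻¹ = ⁅g, r⁆ * r by rw [commutatorElement_def]; group]
        exact mul_mem ((le_sup_right : Φ ≤ R)
          ⟨_, PGroup.Frattini.commutatorElement_mem_frattini hQ'p ⟨g, hg⟩ ⟨r, hrQ⟩, rfl⟩) hr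
      exact hAB.trans (sup_le hBn hQR)
    by_cases hRQ : R = Q'
    · exfalso
      refine hBQ ?_
      have h1 : (B ⊓ Q').subgroupOf Q' ⊔ frattini Q' = ⊤ := by
        apply map_injective Q'.subtype_injective
        rw [Subgroup.map_sup, subgroupOf_map_subtype, inf_eq_left.2 inf_le_right, ← hΦ, ← hR, hRQ,
          ← MonoidHom.range_eq_map, range_subtype]
      have h2 := frattini_nongenerating h1
      intro g hg
      exact (mem_inf.1 (subgroupOf_eq_top.1 h2 hg)).1
    · exact le_sup_left.trans (hsub' R (sup_le inf_le_right hΦQ) hRn hRQ)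
  -- the quotient by `Φ`
  haveI : (Φ.subgroupOf L).Normal := normal_subgroupOf_of_le_normalizer hQn
  set X := L ⧸ Φ.subgroupOf L with hX
  set f := QuotientGroup.mk' (Φ.subgroupOf L) with hf
  have hfeq : ∀ g h : L, f g = f h ↔ (g : G)⁻¹ * h ∈ Φ := fun g h => by
    rw [hf, QuotientGroup.mk'_apply, QuotientGroup.mk'_apply, QuotientGroup.eq, mem_subgroupOf]
    rfl
  have hf1 : ∀ g : L, f g = 1 ↔ (g : G) ∈ Φ := fun g => by
    rw [hf, QuotientGroup.mk'_apply, QuotientGroup.eq_one_iff, mem_subgroupOf]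
  let im : Subgroup G → Subgroup X := fun K => (K.subgroupOf L).map f
  have him : ∀ (K : Subgroup G) (g : L), (g : G) ∈ K → f g ∈ im K :=
    fun K g hg => mem_map_of_mem f (mem_subgroupOf.2 hg)
  have him' : ∀ (K : Subgroup G) (z : X), z ∈ im K → ∃ g : L, (g : G) ∈ K ∧ f g = z := by
    rintro K z ⟨g, hg, rfl⟩
    exact ⟨g, hg, rfl⟩
  set Wb := im Q' with hWb
  set Sb := im S with hSb
  set Ab := im A with hAb
  set Bb := im B with hBb
  have hconj : ∀ K : Subgroup G, ∀ g : L, (∀ k ∈ K, (g : G) * k * (g : G)⁻¹ ∈ K) →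
      f g ∈ normalizer (im K : Set X) := by
    intro K g hg
    refine Coprime.mem_normalizer_of_conj_map_le fun z hz => ?_
    obtain ⟨k, hk, rfl⟩ := him' K z hz
    rw [← map_inv, ← map_mul, ← map_mul]
    exact him K _ (hg k hk)
  have hWn : ∀ z : X, z ∈ normalizer (Wb : Set X) := by
    intro z
    obtain ⟨g, rfl⟩ := QuotientGroup.mk'_surjective _ z
    exact hconj Q' g (le_normalizer_iff.1 hLQ g g.2)
  have hWtop : ∀ K : Subgroup X, K ≤ normalizer (Wb : Set X) := fun K z _ => hWn z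
  have hSW : Sb ⊓ Wb = ⊥ := by
    refine eq_bot_iff.2 fun z hz => ?_
    obtain ⟨t, ht, rfl⟩ := him' S z (mem_inf.1 hz).1
    obtain ⟨g, hg, e⟩ := him' Q' _ (mem_inf.1 hz).2
    rw [Subgroup.mem_bot, hf1]
    have h1 := (hfeq g t).1 e
    have h2 : (t : G) ∈ S ⊓ Q' := mem_inf.2 ⟨ht, by
      have := mul_mem hg (hΦQ h1); simpa using this⟩
    rw [inf_eq_bot_of_coprime hcop, Subgroup.mem_bot] at h2
    rw [h2]; exact one_mem Φ
  have hBW : Bb ⊓ Wb = ⊥ := by
    refine eq_bot_iff.2 fun z hz => ?_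
    obtain ⟨t, ht, rfl⟩ := him' B z (mem_inf.1 hz).1
    obtain ⟨g, hg, e⟩ := him' Q' _ (mem_inf.1 hz).2
    rw [Subgroup.mem_bot, hf1]
    exact hBΦ (mem_inf.2 ⟨ht, by
      have := mul_mem hg (hΦQ ((hfeq g t).1 e)); simpa using this⟩)
  have hAW : Ab ⊓ Wb = ⊥ := by
    refine eq_bot_iff.2 fun z hz => ?_
    obtain ⟨t, ht, rfl⟩ := him' A z (mem_inf.1 hz).1
    obtain ⟨g, hg, e⟩ := him' Q' _ (mem_inf.1 hz).2
    rw [Subgroup.mem_bot, hf1]
    have hAQR : A ≤ normalizer ((A ⊓ Q' : Subgroup G) : Set G) :=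
      (le_inf le_normalizer hAQ').trans inf_normalizer_le_normalizer_inf
    have hne : A ⊓ Q' ≠ Q' := by
      intro h
      have hQA : Q' ≤ A := inf_eq_right.1 h
      refine hSQ' fun t' ht' => mem_centralizer_iff.2 fun y hy => ?_
      have h1 : ⁅y, t'⁆ ∈ Q' ⊓ S := by
        refine mem_inf.2 ⟨by rw [← hQS]; exact commutator_mem_commutator hy ht', ?_⟩
        rw [commutatorElement_def]
        exact mul_mem (le_normalizer_iff.1 hAS y (hQA hy) t' ht') (inv_mem ht')
      rw [inf_eq_bot_of_coprime hcop.symm, Subgroup.mem_bot] at h1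
      exact (commutatorElement_eq_one_iff_commute.1 h1).eq
    exact hsub' _ inf_le_right hAQR hne (mem_inf.2 ⟨ht, by
      have := mul_mem hg (hΦQ ((hfeq g t).1 e)); simpa using this⟩)
  have hABb : Ab ≤ Wb ⊔ Bb := by
    intro z hz
    obtain ⟨g, hg, rfl⟩ := him' A z hz
    obtain ⟨y, hy, b, hb, e⟩ := (Coprime.mem_sup_of_le_normalizer (hBL.trans hLQ)).1
      (show (g : G) ∈ Q' ⊔ B by rw [sup_comm]; exact hAB hg)
    have e' : g = (⟨y, (le_sup_right : Q' ≤ L) hy⟩ : L) * ⟨b, hBL hb⟩ := Subtype.ext e.symm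
    rw [e', map_mul]
    exact mul_mem_sup (him Q' _ hy) (him B _ hb)
  have hSAb : Sb ≤ Ab := map_mono fun g hg => hSA hg
  set S' := Bb ⊓ (Wb ⊔ Sb) with hS'
  have hS'W : S' ⊓ Wb = ⊥ := eq_bot_iff.2 (hBW ▸ inf_le_inf_right _ inf_le_left)
  have hS'sup : Wb ⊔ S' = Wb ⊔ Sb := by
    refine le_antisymm (sup_le le_sup_left inf_le_right) (sup_le le_sup_left fun z hz => ?_)
    obtain ⟨y, hy, b, hb, rfl⟩ := (Coprime.mem_sup_of_le_normalizer (hWtop _)).1 (hABb (hSAb hz))
    refine mul_mem_sup hy (mem_inf.2 ⟨hb, ?_⟩)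
    have := mul_mem ((le_sup_left : Wb ≤ Wb ⊔ Sb) (inv_mem hy)) ((le_sup_right : Sb ≤ Wb ⊔ Sb) hz)
    simpa using this
  have hcard : Nat.card S' = Nat.card Sb := by
    have h1 := Coprime.card_sup_of_le_normalizer (hWtop S') (disjoint_iff.2 (by rw [inf_comm]; exact hS'W))
    have h2 := Coprime.card_sup_of_le_normalizer (hWtop Sb) (disjoint_iff.2 (by rw [inf_comm]; exact hSW))
    rw [hS'sup, h2] at h1
    exact (Nat.eq_of_mul_eq_mul_left Nat.card_pos h1).symm
  have hWp : IsPGroup q Wb :=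
    (hQ'p.comap_of_injective L.subtype L.subtype_injective).map f
  have hSp : IsPGroup s Sb := (hS.comap_of_injective L.subtype L.subtype_injective).map f
  obtain ⟨u, huW, hu⟩ := Coprime.exists_conj_eq (N := Wb) (H := S') (K := Sb)
    (Or.inl (by haveI := hWp.isNilpotent; infer_instance)) (hWtop _) (hWtop _)
    (inf_le_right : S' ≤ Wb ⊔ Sb) hcard
    (by rw [hcard]; exact (IsPGroup.coprime_card_of_ne s q hsq Sb Wb hSp hWp).symm)
  have hWSn : ∀ z : X, z ∈ normalizer ((Wb ⊔ Sb : Subgroup X) : Set X) := by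
    intro z
    obtain ⟨g, rfl⟩ := QuotientGroup.mk'_surjective _ z
    obtain ⟨y, hy, k, hk, e⟩ := (Coprime.mem_sup_of_le_normalizer hAQ').1
      (show (g : G) ∈ Q' ⊔ A by rw [sup_comm]; exact g.2)
    have e' : g = (⟨y, (le_sup_right : Q' ≤ L) hy⟩ : L) * ⟨k, (le_sup_left : A ≤ L) hk⟩ :=
      Subtype.ext e.symm
    rw [e', map_mul]
    refine mul_mem (le_normalizer ((le_sup_left : Wb ≤ Wb ⊔ Sb) (him Q' _ hy))) ?_
    refine Coprime.mem_normalizer_of_conj_map_le (Coprime.conj_map_le_iff.1 ?_)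
    rw [Subgroup.map_sup, Coprime.conj_map_eq_self_of_mem_normalizer (hWn _),
      Coprime.conj_map_eq_self_of_mem_normalizer
        (hconj S _ (le_normalizer_iff.1 hAS k hk))]
  have hnormA : ∀ z : X, z ∈ normalizer (Sb : Set X) → z ∈ Ab := by
    intro z hz
    obtain ⟨g, rfl⟩ := QuotientGroup.mk'_surjective _ z
    obtain ⟨y, hy, k, hk, e⟩ := (Coprime.mem_sup_of_le_normalizer hAQ').1
      (show (g : G) ∈ Q' ⊔ A by rw [sup_comm]; exact g.2)
    set yL : L := ⟨y, (le_sup_right : Q' ≤ L) hy⟩ with hyL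
    set kL : L := ⟨k, (le_sup_left : A ≤ L) hk⟩ with hkL
    have e' : g = yL * kL := Subtype.ext e.symm
    rw [e', map_mul] at hz ⊢
    have hyn : f yL ∈ normalizer (Sb : Set X) := by
      have := mul_mem hz (inv_mem (hconj S kL (le_normalizer_iff.1 hAS k hk)))
      rwa [mul_inv_cancel_right] at this
    have hyΦ : y ∈ Φ := by
      refine (hmkΦ ⟨y, hy⟩).1 (Additive.ofMul.injective (hnofix _ fun t => ?_))
      have htS : f ⟨t, (le_sup_left : A ≤ L) (hSA t.2)⟩ ∈ Sb := him S _ t.2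
      set tL : L := ⟨t, (le_sup_left : A ≤ L) (hSA t.2)⟩
      have h1 : ⁅f tL, f yL⁆ ∈ Sb ⊓ Wb := by
        rw [commutatorElement_def]
        refine mem_inf.2 ⟨?_, mul_mem ((mem_normalizer_iff.1 (hWn _) _).1 (him Q' _ hy))
          (inv_mem (him Q' _ hy))⟩
        rw [show f tL * f yL * (f tL)⁻¹ * (f yL)⁻¹ = f tL * (f yL * (f tL)⁻¹ * (f yL)⁻¹) by group]
        exact mul_mem htS ((mem_normalizer_iff.1 hyn _).1 (inv_mem htS))
      rw [hSW, Subgroup.mem_bot, ← map_commutatorElement, hf1] at h1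
      rw [hρ₀, hθ]
      congr 1
      refine (div_eq_one.1 ?_)
      rw [div_eq_mul_inv, ← QuotientGroup.mk_inv, ← QuotientGroup.mk_mul]
      refine (hmkΦ _).2 ?_
      show (t : G) * y * (t : G)⁻¹ * y⁻¹ ∈ Φ
      simpa [commutatorElement_def] using h1
    rw [(hf1 yL).2 hyΦ, one_mul]
    exact him A _ hk
  have hkey : ∀ b : L, (b : G) ∈ B → u * f b * u⁻¹ ∈ Ab := by
    intro b hb
    refine hnormA _ (Coprime.mem_normalizer_of_conj_map_le (Coprime.conj_map_le_iff.1 ?_))
    have hbS : f b ∈ normalizer (S' : Set X) :=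
      inf_normalizer_le_normalizer_inf (mem_inf.2 ⟨le_normalizer (him B b hb), hWSn _⟩)
    rw [← hu, Coprime.conj_map_map, show u * f b * u⁻¹ * u = u * f b by group,
      ← Coprime.conj_map_map, Coprime.conj_map_eq_self_of_mem_normalizer hbS]
  obtain ⟨g, hg, hgu⟩ := him' Q' u huW
  subst hgu
  have hcommX : ∀ (y : L) (g : L), (y : G) ∈ A → (g : G) ∈ Q' → f g * f y * (f g)⁻¹ ∈ Ab →
      (y : G) * g * (y : G)⁻¹ * (g : G)⁻¹ ∈ Φ := by
    intro y g hy hg hmem
    have h1 : f g * f y * (f g)⁻¹ * (f y)⁻¹ ∈ Ab ⊓ Wb := by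
      refine mem_inf.2 ⟨mul_mem hmem (inv_mem (him A y hy)), ?_⟩
      rw [show f g * f y * (f g)⁻¹ * (f y)⁻¹ = f g * (f y * (f g)⁻¹ * (f y)⁻¹) by group]
      exact mul_mem (him Q' g hg) ((mem_normalizer_iff.1 (hWn _) _).1 (inv_mem (him Q' g hg)))
    rw [hAW, Subgroup.mem_bot, mul_inv_eq_one, mul_inv_eq_iff_eq_mul] at h1
    have h2 : f (y * g * y⁻¹ * g⁻¹) = 1 := by
      rw [map_mul, map_mul, map_mul, map_inv, map_inv, ← h1]; group
    exact (hf1 _).1 h2
  have hxL : x ∈ L := (le_sup_left : A ≤ L) (hPA hxP)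
  have h1 := hcommX ⟨x, hxL⟩ g (hPA hxP) hg (hkey ⟨x, hxL⟩ hxB)
  have hyL : a * x * a⁻¹ ∈ L :=
    (le_sup_left : A ≤ L) (mul_mem (mul_mem haA (hPA hxP)) (inv_mem haA))
  have h2 := hcommX ⟨a * x * a⁻¹, hyL⟩ (g * ⟨v, (le_sup_right : Q' ≤ L) hv⟩)
    (mul_mem (mul_mem haA (hPA hxP)) (inv_mem haA)) (mul_mem hg hv) (by
      have h := hkey ⟨v * a * x * (v * a)⁻¹, hBL hzB⟩ hzB
      rw [show (⟨v * a * x * (v * a)⁻¹, hBL hzB⟩ : L) = ⟨v, (le_sup_right : Q' ≤ L) hv⟩ *
        ⟨a * x * a⁻¹, hyL⟩ * (⟨v, (le_sup_right : Q' ≤ L) hv⟩ : L)⁻¹ from Subtype.ext (by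
          show v * a * x * (v * a)⁻¹ = v * (a * x * a⁻¹) * v⁻¹
          group), map_mul, map_mul, map_inv] at h
      rw [map_mul]
      convert h using 1
      group)
  refine hw ?_
  have hfix : ∀ (y : A) (k : Q'), (y : G) * k * (y : G)⁻¹ * (k : G)⁻¹ ∈ Φ →
      ρ₀ y (Additive.ofMul (k : Q' ⧸ frattini Q')) = Additive.ofMul (k : Q' ⧸ frattini Q') := by
    intro y k hyk
    rw [hρ₀, hθ]
    congr 1
    refine div_eq_one.1 ?_
    rw [div_eq_mul_inv, ← QuotientGroup.mk_inv, ← QuotientGroup.mk_mul]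
    exact (hmkΦ _).2 hyk
  have hg' : Additive.ofMul (QuotientGroup.mk ⟨(g : G), hg⟩ : Q' ⧸ frattini Q') ∈ C := by
    rw [hC, LinearMap.mem_ker, LinearMap.sub_apply, sub_eq_zero, LinearMap.id_apply, hxbdef, hρ₁']
    exact hfix xA ⟨g, hg⟩ h1
  have hgv : Additive.ofMul (QuotientGroup.mk (⟨(g : G), hg⟩ * ⟨v, hv⟩ : Q') : Q' ⧸ frattini Q') ∈ C' := by
    set w' := Additive.ofMul (QuotientGroup.mk (⟨(g : G), hg⟩ * ⟨v, hv⟩ : Q') : Q' ⧸ frattini Q')
    refine ⟨ρ₀ aA⁻¹ w', ?_, by rw [← Module.End.mul_apply, ← map_mul, mul_inv_cancel, map_one]; rfl⟩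
    have h3 : ρ₀ (aA * xA * aA⁻¹) w' = w' := hfix (aA * xA * aA⁻¹) (⟨(g : G), hg⟩ * ⟨v, hv⟩) h2
    show ρ₀ aA⁻¹ w' ∈ LinearMap.ker (ρ₁ xb - LinearMap.id)
    rw [LinearMap.mem_ker, LinearMap.sub_apply, sub_eq_zero, LinearMap.id_apply, hxbdef, hρ₁']
    conv_rhs => rw [← h3]
    rw [← Module.End.mul_apply, ← Module.End.mul_apply, ← map_mul, ← map_mul]
    group
  have hv' : Additive.ofMul (QuotientGroup.mk' (frattini Q') ⟨v, hv⟩) =
      -Additive.ofMul (QuotientGroup.mk ⟨(g : G), hg⟩ : Q' ⧸ frattini Q') +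
        Additive.ofMul (QuotientGroup.mk (⟨(g : G), hg⟩ * ⟨v, hv⟩ : Q') : Q' ⧸ frattini Q') := by
    rw [QuotientGroup.mk_mul, ofMul_mul, neg_add_cancel_left]
    rfl
  rw [hv']
  exact Submodule.add_mem_sup (C.neg_mem hg') hgv

/-- Commuting primary parts make the join nilpotent. -/
theorem nilpotent_join (A V : Subgroup G) (hV : Group.IsNilpotent V) (hAV : A ≤ normalizer (V : Set G))
    (hcomm : ∀ s q : ℕ, s.Prime → q.Prime → s ≠ q →
      (Cfsg.pCore s A).map A.subtype ≤ centralizer ((Cfsg.pCore q V).map V.subtype : Set G)) :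
    Group.IsNilpotent ↥((Cfsg.fittingSubgroup ↥A).map A.subtype ⊔ V) := by
  haveI := hV
  let SA : Nat.Primes → Subgroup G := fun r => (Cfsg.pCore (r : ℕ) A).map A.subtype
  let SV : Nat.Primes → Subgroup G := fun r => (Cfsg.pCore (r : ℕ) V).map V.subtype
  set H := (Cfsg.fittingSubgroup ↥A).map A.subtype ⊔ V with hH
  have hFA : (Cfsg.fittingSubgroup ↥A).map A.subtype = ⨆ r, SA r := by
    rw [Solvable.Cores.fittingSubgroup_eq_iSup_pCore, Subgroup.map_iSup]
  have hV' : V = ⨆ r, SV r := by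
    have h : Cfsg.fittingSubgroup V = ⊤ := Solvable.Cores.fittingSubgroup_eq_top_iff.2 hV
    rw [← range_subtype V, MonoidHom.range_eq_map, ← h,
      Solvable.Cores.fittingSubgroup_eq_iSup_pCore, Subgroup.map_iSup]
  have hnA : ∀ r, A ≤ normalizer (SA r : Set G) := fun r b hb =>
    Coprime.FixedPointFreeOnModule.mem_normalizer_map_of_char _ (le_normalizer hb)
  have hnV : ∀ r, A ⊔ V ≤ normalizer (SV r : Set G) := fun r b hb =>
    Coprime.FixedPointFreeOnModule.mem_normalizer_map_of_char _ (sup_le hAV le_normalizer hb)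
  have hSAA : ∀ r, SA r ≤ A := fun r => map_subtype_le _
  have hSVV : ∀ r, SV r ≤ V := fun r => map_subtype_le _
  have hcomA : ∀ r t : Nat.Primes, r ≠ t → SA r ≤ centralizer (SA t : Set G) := by
    intro r t hrt
    haveI := Fact.mk r.2
    haveI := Fact.mk t.2
    refine fun y hy => mem_centralizer_iff.2 fun z hz => ?_
    obtain ⟨y, hy', rfl⟩ := hy
    obtain ⟨z, hz', rfl⟩ := hz
    have hd : Disjoint (Cfsg.pCore (r : ℕ) A) (Cfsg.pCore (t : ℕ) A) :=
      IsPGroup.disjoint_of_ne (r : ℕ) (t : ℕ) (fun e => hrt (Subtype.ext e)) _ _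
        (Solvable.Cores.isPGroup_pCore _) (Solvable.Cores.isPGroup_pCore _)
    exact congrArg A.subtype (Subgroup.commute_of_normal_of_disjoint _ _ inferInstance inferInstance
      hd y z hy' hz').eq.symm
  have hcomV : ∀ r t : Nat.Primes, r ≠ t → SV r ≤ centralizer (SV t : Set G) := by
    intro r t hrt
    haveI := Fact.mk r.2
    haveI := Fact.mk t.2
    refine fun y hy => mem_centralizer_iff.2 fun z hz => ?_
    obtain ⟨y, hy', rfl⟩ := hy
    obtain ⟨z, hz', rfl⟩ := hz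
    have hd : Disjoint (Cfsg.pCore (r : ℕ) V) (Cfsg.pCore (t : ℕ) V) :=
      IsPGroup.disjoint_of_ne (r : ℕ) (t : ℕ) (fun e => hrt (Subtype.ext e)) _ _
        (Solvable.Cores.isPGroup_pCore _) (Solvable.Cores.isPGroup_pCore _)
    exact congrArg V.subtype (Subgroup.commute_of_normal_of_disjoint _ _ inferInstance inferInstance
      hd y z hy' hz').eq.symm
  let T : Nat.Primes → Subgroup G := fun r => SA r ⊔ SV r
  have hHeq : H = ⨆ r, T r := by
    rw [hH, hFA]; conv_lhs => rw [hV']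
    exact iSup_sup_eq.symm
  have hnT : ∀ r, H ≤ normalizer (T r : Set G) := by
    intro r
    have hcase : ∀ t, SA t ⊔ SV t ≤ normalizer (T r : Set G) := by
      intro t
      by_cases htr : t = r
      · subst htr; exact le_normalizer
      have hne : (t : ℕ) ≠ r := fun e => htr (Subtype.ext e)
      refine le_trans ?_ (centralizer_le_normalizer _)
      refine le_centralizer_iff.2 (sup_le ?_ ?_) <;> refine le_centralizer_iff.2 (sup_le ?_ ?_)
      · exact hcomA t r htr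
      · exact le_centralizer_iff.1 (hcomm r t r.2 t.2 (Ne.symm hne))
      · exact hcomm t r t.2 r.2 hne
      · exact hcomV t r htr
    rw [hHeq]
    exact iSup_le hcase
  have hTle : ∀ r, T r ≤ H := fun r => by rw [hHeq]; exact le_iSup T r
  have hTp : ∀ r : Nat.Primes, IsPGroup (r : ℕ) (T r) := fun r =>
    ((Solvable.Cores.isPGroup_pCore _).map _).to_sup_of_normal_right'
      ((Solvable.Cores.isPGroup_pCore _).map _)
      ((hSAA r).trans (le_sup_left.trans (hnV r)))
  refine Solvable.Cores.fittingSubgroup_eq_top_iff.1 (eq_top_iff.2 ?_)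
  intro y _
  have hle : H ≤ (Cfsg.fittingSubgroup H).map H.subtype := by
    conv_lhs => rw [hHeq]
    refine iSup_le fun r => ?_
    haveI : ((T r).subgroupOf H).Normal := normal_subgroupOf_of_le_normalizer (hnT r)
    haveI := Fact.mk r.2
    have h := Solvable.Cores.le_fittingSubgroup (N := (T r).subgroupOf H)
      ((hTp r).comap_subtype (K := H)).isNilpotent
    intro z hz
    exact ⟨⟨z, hTle r hz⟩, h (mem_subgroupOf.2 hz), rfl⟩
  obtain ⟨z, hz, e⟩ := hle y.2
  exact H.subtype_injective e ▸ hz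

end Helpers

/-- Let G be a finite group and P a subgroup of prime order p > 3. Consider the solvable subgroups A of G of the form A = ⟨P, aPa⁻¹⟩ for some a ∈ A, and let A be maximal under inclusion among them. Then for every nilpotent subgroup V of G normalized by A, the subgroup F(A)V generated by the Fitting subgroup of A and V is nilpotent. -/
theorem result {G : Type*} [Group G] [Finite G]
    {p : ℕ} [Fact p.Prime] (hp : 3 < p) (P : Subgroup G) (hP : Nat.card P = p) (A : Subgroup G)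
    (hA : Group.IsSolvable ↥A ∧ ∃ a ∈ A, A = P ⊔ P.map (MulAut.conj a).toMonoidHom)
    (hmax : ∀ B : Subgroup G, A ≤ B → Group.IsSolvable ↥B → (∃ b ∈ B, B = P ⊔ P.map (MulAut.conj b).toMonoidHom) → B = A)
    (V : Subgroup G) (hV : Group.IsNilpotent ↥V) (hAV : A ≤ Subgroup.normalizer (V : Set G)) :
    Group.IsNilpotent ↥((Cfsg.fittingSubgroup ↥A).map A.subtype ⊔ V) := by
  obtain ⟨hAsol, a, haA, hAeq⟩ := hA
  refine nilpotent_join A V hV hAV fun s q hs hq hsq => ?_
  haveI := Fact.mk hs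
  haveI := Fact.mk hq
  refine commute_of_maximal hp P A hP hAsol haA hAeq hmax hsq _ _ (Subgroup.map_subtype_le _)
    (fun b hb => CfsgLib.Coprime.FixedPointFreeOnModule.mem_normalizer_map_of_char _
      (Subgroup.le_normalizer hb))
    ((CfsgLib.Solvable.Cores.isPGroup_pCore s).map _)
    ((CfsgLib.Solvable.Cores.isPGroup_pCore q).map _)
    (fun b hb => CfsgLib.Coprime.FixedPointFreeOnModule.mem_normalizer_map_of_char _ (hAV hb))
end Cfsg.Agent.S3822
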