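import Cfsg.Statements.S3824
import Cfsg.Agent.S0143
import Cfsg.Agent.S0144
import Cfsg.Agent.Lib.Solvable.Basic
import Cfsg.Agent.Lib.Coprime.SchurZassenhaus

set_option autoImplicit false
universe u
open Cfsg

namespace Cfsg.Agent.S3824

lemma relIndex_dvd_index_of_normal_right {G : Type*} [Group G] [Finite G] (A N : Subgroup G) [N.Normal] :
    A.relIndex N ∣ A.index := by
  refine ⟨(A ⊔ N).index, Nat.eq_of_mul_eq_mul_left (n := Nat.card ↥(A ⊓ N) * N.relIndex A)
    (Nat.mul_pos Nat.card_pos (Nat.pos_of_ne_zero Subgroup.index_ne_zero_of_finite)) ?_⟩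
  have e1 : Nat.card ↥(A ⊓ N) * N.relIndex A = Nat.card A := by
    rw [← Subgroup.inf_relIndex_left, CfsgLib.Coprime.card_mul_relIndex' inf_le_left]
  have e2 : Nat.card ↥(A ⊓ N) * A.relIndex N = Nat.card N := by
    rw [← Subgroup.inf_relIndex_right, CfsgLib.Coprime.card_mul_relIndex' inf_le_right]
  have e3 : Nat.card N * N.relIndex A = Nat.card ↥(A ⊔ N) := by
    rw [← Subgroup.relIndex_sup_right, CfsgLib.Coprime.card_mul_relIndex' le_sup_right]
  have e4 := Subgroup.card_mul_index (A ⊔ N)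
  rw [e1, Subgroup.card_mul_index, ← e4, ← e3, ← e2, ← e1]
  ring

lemma main (n : ℕ) : ∀ {G : Type u} [Group G] [Finite G], Nat.card G = n → ∀ A : Subgroup G,
    IsMulCommutative A → (∃ k : ℕ, A.index = 2 ^ k) → Group.IsSolvable G := by
  induction n using Nat.strong_induction_on with
  | _ n ih =>
    intro G _ _ hn A hA hidx
    obtain ⟨k, hk⟩ := hidx
    by_cases hA0 : A = ⊥
    · subst hA0
      rw [Subgroup.index_bot] at hk
      have := (IsPGroup.of_card hk).isNilpotent (hp := ⟨Nat.prime_two⟩)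
      infer_instance
    obtain ⟨a, ha, ha1⟩ := A.bot_or_exists_ne_one.resolve_left hA0
    have hle : A ≤ Subgroup.centralizer ({a} : Set G) := fun x hx =>
      Subgroup.mem_centralizer_singleton_iff.2 (setLike_mul_comm hx ha)
    obtain ⟨j, -, hj⟩ := (Nat.dvd_prime_pow Nat.prime_two).1 (hk ▸ Subgroup.index_dvd_of_le hle)
    have : Nontrivial G := ⟨⟨a, 1, ha1⟩⟩
    by_cases hs : ∀ N : Subgroup G, N.Normal → N = ⊥ ∨ N = ⊤
    · have : IsSimpleGroup G := ⟨fun N hN => hs N hN⟩
      exact Cfsg.Agent.S0144.solvable_of_card_prime (Cfsg.Agent.S0143.card_prime 2 j Nat.prime_two a ha1 hj)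
    push Not at hs
    obtain ⟨N, hN, hb, ht⟩ := hs
    have h1 : Group.IsSolvable N := by
      obtain ⟨i, -, hi⟩ := (Nat.dvd_prime_pow Nat.prime_two).1 (hk ▸ relIndex_dvd_index_of_normal_right A N)
      refine ih _ ?_ rfl (A.subgroupOf N) ?_ ⟨i, hi⟩
      · exact hn ▸ CfsgLib.Solvable.Basic.card_subgroup_lt N ht
      · exact ⟨⟨fun x y => Subtype.ext (Subtype.ext (setLike_mul_comm (s := A) (Subgroup.mem_subgroupOf.1 x.2) (Subgroup.mem_subgroupOf.1 y.2)))⟩⟩
    have h2 : Group.IsSolvable (G ⧸ N) := by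
      obtain ⟨i, -, hi⟩ := (Nat.dvd_prime_pow Nat.prime_two).1
        (hk ▸ Subgroup.index_map_dvd A (QuotientGroup.mk'_surjective N))
      refine ih _ ?_ rfl (A.map (QuotientGroup.mk' N)) ?_ ⟨i, hi⟩
      · exact hn ▸ CfsgLib.Solvable.Basic.card_quotient_lt N hb
      · refine ⟨⟨?_⟩⟩
        rintro ⟨_, x, hx, rfl⟩ ⟨_, y, hy, rfl⟩
        exact Subtype.ext (by simp only [Subgroup.coe_mul, ← map_mul, setLike_mul_comm hx hy])
    exact Group.isSolvable_of_ker_le_range N.subtype (QuotientGroup.mk' N) (by simp)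

/-- Every finite group having an abelian subgroup whose index is a power of 2 is solvable. -/
theorem result {G : Type*} [Group G] [Finite G]
    (A : Subgroup G) (hA : IsMulCommutative A) (hidx : ∃ k : ℕ, A.index = 2 ^ k) : Group.IsSolvable G := by
  exact main _ rfl A hA hidx

end Cfsg.Agent.S3824
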