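import Cfsg.Statements.S3825
import Mathlib.GroupTheory.FixedPointFree

set_option autoImplicit false
open Cfsg
open scoped commutatorElement

namespace Cfsg.Agent.S3825

/-- Let U be a subgroup of a finite group H and w an involution of H normalizing U and commuting with exactly two elements of U, the identity and y. If V is a non-cyclic elementary abelian 2-subgroup of U containing y which is normal in U and invariant under w, then V is a Sylow 2-subgroup of U, V has order 4, and U/V is abelian. -/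
theorem result {H : Type*} [Group H] [Finite H] (U : Subgroup H) (w : H) (hw : orderOf w = 2)
    (hwU : w ∈ Subgroup.normalizer (U : Set H)) (y : H) (hy : y ≠ 1) (hyU : y ∈ U)
    (hfix : ∀ u ∈ U, w * u * w⁻¹ = u ↔ (u = 1 ∨ u = y))
    (V : Subgroup H) (hVU : V ≤ U) (hVn : (V.subgroupOf U).Normal) (hVw : ∀ v ∈ V, w * v * w⁻¹ ∈ V)
    (hVe : Cfsg.IsElementaryAbelian 2 V) (hVc : ¬ IsCyclic ↥V) (hyV : y ∈ V) :
    ¬ 2 ∣ V.relIndex U ∧ Nat.card ↥V = 4 ∧ ⁅U, U⁆ ≤ V := by
  classical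
  have hw2 : w * w = 1 := by rw [← sq, ← hw]; exact pow_orderOf_eq_one w
  have hwinv : w⁻¹ = w := inv_eq_of_mul_eq_one_right hw2
  have hww : ∀ x : H, w * (w * x * w⁻¹) * w⁻¹ = x := fun x => by
    rw [hwinv, show w * (w * x * w) * w = (w * w) * x * (w * w) by group, hw2, one_mul, mul_one]
  have hVcomm : ∀ a ∈ V, ∀ b ∈ V, a * b = b * a := fun a ha b hb =>
    congrArg Subtype.val (hVe.1.is_comm.comm ⟨a, ha⟩ ⟨b, hb⟩)
  have hVsq : ∀ a ∈ V, a * a = 1 := fun a ha => by rw [← sq]; exact hVe.2 a ha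
  have hywy : w * y * w⁻¹ = y := (hfix y hyU).mpr (Or.inr rfl)
  -- `u ^ w ∈ u V` forces `u ∈ V`
  let f : V →* V :=
    { toFun := fun v => ⟨(v : H) * (w * v * w⁻¹), mul_mem v.2 (hVw v v.2)⟩
      map_one' := Subtype.ext (by simp)
      map_mul' := fun a b => Subtype.ext (by
        show (a : H) * b * (w * ((a : H) * b) * w⁻¹) = (a : H) * (w * a * w⁻¹) * ((b : H) * (w * b * w⁻¹))
        rw [show w * ((a : H) * b) * w⁻¹ = (w * a * w⁻¹) * (w * b * w⁻¹) by group,
          show (a : H) * b * ((w * a * w⁻¹) * (w * b * w⁻¹)) = (a : H) * ((b : H) * (w * a * w⁻¹)) * (w * b * w⁻¹) by group,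
          hVcomm _ b.2 _ (hVw a a.2)]
        group) }
  have hfixV : ∀ v ∈ V, w * v * w⁻¹ = v → v = 1 ∨ v = y := fun v hv h => (hfix v (hVU hv)).mp h
  have h2set : ∀ (T : Set H), (∀ x ∈ T, x = 1 ∨ x = y) → Nat.card T ≤ 2 := fun T hT => by
    calc Nat.card T ≤ Nat.card ({1, y} : Set H) := Nat.card_mono (Set.toFinite _) (fun x hx => by simpa using hT x hx)
      _ ≤ 2 := by rw [Nat.card_coe_set_eq]; exact (Set.ncard_insert_le _ _).trans (by simp)
  have hker : ∀ v : V, v ∈ f.ker → (v : H) = 1 ∨ (v : H) = y := fun v hv => by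
    refine hfixV _ v.2 ?_
    have h : (v : H) * (w * v * w⁻¹) = 1 := congrArg Subtype.val hv
    exact mul_left_cancel (a := (v : H)) (h.trans (hVsq v v.2).symm)
  have hran : ∀ v : V, v ∈ f.range → (v : H) = 1 ∨ (v : H) = y := by
    rintro _ ⟨v, rfl⟩
    refine hfixV _ (f v).2 ?_
    show w * ((v : H) * (w * v * w⁻¹)) * w⁻¹ = (v : H) * (w * v * w⁻¹)
    conv_lhs => rw [show w * ((v : H) * (w * v * w⁻¹)) * w⁻¹ = (w * v * w⁻¹) * (w * (w * v * w⁻¹) * w⁻¹) by group, hww]
    exact hVcomm _ (hVw v v.2) _ v.2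
  have hcardV : Nat.card V ≤ 4 := by
    have h1 := Subgroup.card_mul_index f.ker
    rw [Subgroup.index_ker] at h1
    have h2 : Nat.card f.ker ≤ 2 := by
      rw [← Subgroup.card_map_of_injective (K := f.ker) V.subtype_injective]
      exact h2set _ (by rintro x ⟨v, hv, rfl⟩; exact hker v hv)
    have h3 : Nat.card f.range ≤ 2 := by
      rw [← Subgroup.card_map_of_injective (K := f.range) V.subtype_injective]
      exact h2set _ (by rintro x ⟨v, hv, rfl⟩; exact hran v hv)
    rw [← h1]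
    exact (Nat.mul_le_mul h2 h3).trans (by norm_num)
  have hV4 : Nat.card V = 4 := by
    have h1 : Nontrivial V := ⟨⟨⟨y, hyV⟩, 1, fun h => hy (congrArg Subtype.val h)⟩⟩
    have hp : IsPGroup 2 V := fun v => ⟨1, Subtype.ext (by rw [pow_one, Subgroup.coe_pow]; exact hVe.2 v v.2)⟩
    obtain ⟨k, hk⟩ := IsPGroup.iff_card.mp hp
    rcases k with _ | _ | _ | k
    · have h2 := Finite.one_lt_card (α := V); rw [hk] at h2; simp at h2
    · exact absurd (isCyclic_of_prime_card (p := 2) (by rw [hk, pow_one])) hVc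
    · rw [hk]; norm_num
    · rw [hk] at hcardV
      have : 2 ^ 3 ≤ 2 ^ (k + 1 + 1 + 1) := Nat.pow_le_pow_right (by norm_num) (by omega)
      omega
  -- the fixed cosets
  have hF : ∀ u ∈ U, u⁻¹ * (w * u * w⁻¹) ∈ V → u ∈ V := by
    intro u hu hv
    have hinv : w * (u⁻¹ * (w * u * w⁻¹)) * w⁻¹ = (u⁻¹ * (w * u * w⁻¹))⁻¹ := by
      conv_lhs => rw [show w * (u⁻¹ * (w * u * w⁻¹)) * w⁻¹ = (w * u * w⁻¹)⁻¹ * (w * (w * u * w⁻¹) * w⁻¹) by group, hww]
      group
    have hinv2 : (u⁻¹ * (w * u * w⁻¹))⁻¹ = u⁻¹ * (w * u * w⁻¹) := inv_eq_of_mul_eq_one_right (hVsq _ hv)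
    rw [hinv2] at hinv
    rcases hfixV _ hv hinv with h | h
    · rcases (hfix u hu).mp (inv_mul_eq_one.mp h).symm with rfl | rfl
      · exact one_mem V
      · exact hyV
    · -- some element of `V` is moved by `w`
      obtain ⟨v0, hv0, hv0'⟩ : ∃ v ∈ V, w * v * w⁻¹ ≠ v := by
        by_contra hall
        push Not at hall
        have := h2set (V : Set H) fun v hv => hfixV v hv (hall v hv)
        rw [SetLike.coe_sort_coe, hV4] at this
        omega
      have h0 : v0⁻¹ * (w * v0 * w⁻¹) = y := by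
        have hmem : v0⁻¹ * (w * v0 * w⁻¹) ∈ V := mul_mem (inv_mem hv0) (hVw v0 hv0)
        refine (hfixV _ hmem ?_).resolve_left fun h1 => hv0' (inv_mul_eq_one.mp h1).symm
        have e1 : w * (v0⁻¹ * (w * v0 * w⁻¹)) * w⁻¹ = (w * v0 * w⁻¹)⁻¹ * v0 := by
          conv_lhs => rw [show w * (v0⁻¹ * (w * v0 * w⁻¹)) * w⁻¹ = (w * v0 * w⁻¹)⁻¹ * (w * (w * v0 * w⁻¹) * w⁻¹) by group, hww]
        rw [e1, inv_eq_of_mul_eq_one_right (hVsq _ (hVw v0 hv0)), inv_eq_of_mul_eq_one_right (hVsq _ hv0)]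
        exact hVcomm _ (hVw v0 hv0) _ hv0
      have hfx : w * (u * v0⁻¹) * w⁻¹ = u * v0⁻¹ := by
        have eu : w * u * w⁻¹ = u * y := by rw [← h]; group
        have e0 : w * v0 * w⁻¹ = v0 * y := by rw [← h0]; group
        rw [show w * (u * v0⁻¹) * w⁻¹ = (w * u * w⁻¹) * (w * v0 * w⁻¹)⁻¹ by group, eu, e0]
        group
      rcases (hfix _ (mul_mem hu (inv_mem (hVU hv0)))).mp hfx with e | e
      · rw [mul_inv_eq_one.mp e]; exact hv0
      · rw [mul_inv_eq_iff_eq_mul.mp e]; exact mul_mem hyV hv0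
  -- the induced involution of `U / V`
  have hU : ∀ u ∈ U, w * u * w⁻¹ ∈ U := fun u hu => (Subgroup.mem_normalizer_iff.mp hwU u).mp hu
  let c : U →* U :=
    { toFun := fun u => ⟨w * u * w⁻¹, hU u u.2⟩
      map_one' := Subtype.ext (by simp)
      map_mul' := fun a b => Subtype.ext (by
        show w * ((a : H) * b) * w⁻¹ = (w * a * w⁻¹) * (w * b * w⁻¹); group) }
  haveI := hVn
  set N := V.subgroupOf U with hN
  let φ : U ⧸ N →* U ⧸ N := QuotientGroup.map N N c (fun v hv => hVw _ hv)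
  have hfpf : MonoidHom.FixedPointFree φ := by
    intro g hg
    induction g using QuotientGroup.induction_on with
    | H u =>
      change ((c u : U) : U ⧸ N) = (u : U ⧸ N) at hg
      have h := QuotientGroup.eq.mp hg.symm
      exact (QuotientGroup.eq_one_iff u).mpr (hF u u.2 h)
  have hinvol : Function.Involutive φ := by
    intro g
    induction g using QuotientGroup.induction_on with
    | H u =>
      show ((c (c u) : U) : U ⧸ N) = (u : U ⧸ N)
      exact congrArg _ (Subtype.ext (hww (u : H)))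
  have hodd := hfpf.odd_card_of_involutive hinvol
  refine ⟨fun h2 => ?_, hV4, Subgroup.commutator_le.mpr fun a ha b hb => ?_⟩
  · rw [← Subgroup.index_eq_card] at hodd
    exact (Nat.not_even_iff_odd.mpr hodd) (even_iff_two_dvd.mpr h2)
  · have h := hfpf.commute_all_of_involutive hinvol (QuotientGroup.mk' N ⟨a, ha⟩) (QuotientGroup.mk' N ⟨b, hb⟩)
    rw [← commutatorElement_eq_one_iff_commute, ← map_commutatorElement, QuotientGroup.mk'_apply,
      QuotientGroup.eq_one_iff] at h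
    exact h

end Cfsg.Agent.S3825
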