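import Cfsg.Statements.S3835
import Cfsg.Agent.Lib.LocalEvenB.OrderPCubed
import Mathlib.GroupTheory.Perm.ViaEmbedding
import Mathlib.GroupTheory.SpecificGroups.Alternating
import Mathlib.GroupTheory.Sylow
-- import your own Cfsg.Agent.* helpers here

set_option autoImplicit false
open Cfsg

namespace Cfsg.Agent.S3835

open CfsgLib.Components.QdRankTwo CfsgLib.LocalEvenB.OrderPCubed

variable {p : ℕ} [hp : Fact p.Prime]

/-- The affine action on the plane. -/
def planeMap (M : SL3 p) (v : Fin 2 → ZMod p) : Fin 2 → ZMod p :=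
  ![(M : Matrix (Fin 3) (Fin 3) (ZMod p)) 0 0 * v 0 + (M : Matrix (Fin 3) (Fin 3) (ZMod p)) 0 1 * v 1 + (M : Matrix (Fin 3) (Fin 3) (ZMod p)) 0 2,
    (M : Matrix (Fin 3) (Fin 3) (ZMod p)) 1 0 * v 0 + (M : Matrix (Fin 3) (Fin 3) (ZMod p)) 1 1 * v 1 + (M : Matrix (Fin 3) (Fin 3) (ZMod p)) 1 2]

lemma planeMap_mul (M N : SL3 p) (hN : N ∈ affine p) (v : Fin 2 → ZMod p) :
    planeMap (M * N) v = planeMap M (planeMap N v) := by
  have h0 := hN 0
  have h1 := hN 1
  have h2 := hN 2
  simp [Matrix.one_apply] at h0 h1 h2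
  funext i
  fin_cases i <;> simp [planeMap, Matrix.SpecialLinearGroup.coe_mul, Matrix.mul_apply, Fin.sum_univ_three, h0, h1, h2] <;> ring

instance planeAction : MulAction (affine p) (Fin 2 → ZMod p) where
  smul M v := planeMap (M : SL3 p) v
  one_smul v := by
    show planeMap (1 : SL3 p) v = v
    funext i
    fin_cases i <;> simp [planeMap, Matrix.one_apply]
  mul_smul M N v := planeMap_mul (M : SL3 p) N N.2 v

lemma plane_injective : Function.Injective (MulAction.toPermHom (affine p) (Fin 2 → ZMod p)) := by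
  rw [injective_iff_map_eq_one]
  intro M hM
  have hv : ∀ v, planeMap (M : SL3 p) v = v := fun v => Equiv.Perm.ext_iff.1 hM v
  have e00 := congrFun (hv ![1, 0]) 0
  have e01 := congrFun (hv ![0, 1]) 0
  have e02 := congrFun (hv ![0, 0]) 0
  have e10 := congrFun (hv ![1, 0]) 1
  have e11 := congrFun (hv ![0, 1]) 1
  have e12 := congrFun (hv ![0, 0]) 1
  simp [planeMap] at e00 e01 e02 e10 e11 e12
  have h0 := M.2 0
  have h1 := M.2 1
  have h2 := M.2 2
  simp [Matrix.one_apply] at h0 h1 h2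
  refine Subtype.ext (Subtype.ext ?_)
  funext i j
  fin_cases i <;> fin_cases j <;> simp_all [Matrix.one_apply]

/-- The affine group, hence `Qd(p)`, is generated by elements of order dividing `p`. -/
lemma affine_le_closure : affine p ≤ Subgroup.closure {g : SL3 p | g ∈ affine p ∧ g ^ p = 1} := by
  set K := Subgroup.closure {g : SL3 p | g ∈ affine p ∧ g ^ p = 1}
  have hV : ∀ a b : ZMod p, tV a b ∈ K := fun a b => Subgroup.subset_closure
    ⟨fun j => by fin_cases j <;> simp [Matrix.one_apply], by rw [tV_pow]; simp [tV_zero]⟩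
  have hX : ∀ c : ZMod p, tX c ∈ K := fun c => Subgroup.subset_closure
    ⟨fun j => by fin_cases j <;> simp [Matrix.one_apply], tX_pow_p c⟩
  have hY : ∀ c : ZMod p, tY c ∈ K := fun c => Subgroup.subset_closure
    ⟨fun j => by fin_cases j <;> simp [Matrix.one_apply], tY_pow_p c⟩
  have key : ∀ M : SL3 p, M ∈ affine p → (M : Matrix (Fin 3) (Fin 3) (ZMod p)) 1 0 ≠ 0 → M ∈ K := by
    intro M hM hc
    have h0 := hM 0
    have h1 := hM 1
    have h2 := hM 2
    simp [Matrix.one_apply] at h0 h1 h2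
    have hdet := M.2
    rw [Matrix.det_fin_three] at hdet
    simp [h0, h1, h2] at hdet
    set a := (M : Matrix (Fin 3) (Fin 3) (ZMod p)) 0 0 with ha
    set b := (M : Matrix (Fin 3) (Fin 3) (ZMod p)) 0 1 with hb
    set c := (M : Matrix (Fin 3) (Fin 3) (ZMod p)) 1 0 with hc'
    set d := (M : Matrix (Fin 3) (Fin 3) (ZMod p)) 1 1 with hd
    have e : M = tV ((M : Matrix (Fin 3) (Fin 3) (ZMod p)) 0 2) ((M : Matrix (Fin 3) (Fin 3) (ZMod p)) 1 2) *
        (tX ((a - 1) / c) * tY c * tX ((d - 1) / c)) := by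
      refine Subtype.ext ?_
      funext i j
      fin_cases i <;> fin_cases j <;>
        simp [Matrix.SpecialLinearGroup.coe_mul, Matrix.mul_apply, Fin.sum_univ_three, h0, h1, h2, ← ha, ← hb, ← hc', ← hd] <;>
        field_simp <;> first | ring1 | linear_combination hdet | linear_combination -hdet
    rw [e]
    exact K.mul_mem (hV _ _) (K.mul_mem (K.mul_mem (hX _) (hY _)) (hX _))
  intro M hM
  by_cases hc : (M : Matrix (Fin 3) (Fin 3) (ZMod p)) 1 0 = 0
  · have hY1 : tY (1 : ZMod p) ∈ affine p := fun j => by fin_cases j <;> simp [Matrix.one_apply]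
    have hdet := M.2
    have h0 := hM 0
    have h1 := hM 1
    have h2 := hM 2
    simp [Matrix.one_apply] at h0 h1 h2
    rw [Matrix.det_fin_three] at hdet
    simp [h0, h1, h2, hc] at hdet
    have ha : (M : Matrix (Fin 3) (Fin 3) (ZMod p)) 0 0 ≠ 0 := fun h => by rw [h, zero_mul] at hdet; exact zero_ne_one hdet
    have h := key (tY 1 * M) ((affine p).mul_mem hY1 hM) (by
      simpa [Matrix.SpecialLinearGroup.coe_mul, Matrix.mul_apply, Fin.sum_univ_three, hc] using ha)
    simpa using K.mul_mem (K.inv_mem (hY 1)) h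
  · exact key M hM hc

/-- A `p`-group permuting fewer than `p ^ 2` points is abelian. -/
lemma mul_comm_of_small {Ω : Type*} [Finite Ω] (P : Subgroup (Equiv.Perm Ω)) (hP : IsPGroup p P)
    (hΩ : Nat.card Ω < p ^ 2) (x y : P) : x * y = y * x := by
  have hpr : p.Prime := hp.out
  refine Subtype.ext (Equiv.ext fun i => ?_)
  let O := MulAction.orbit P i
  let f := MulAction.toPermHom P O
  obtain ⟨k, hk⟩ := hP.card_orbit i
  have hk1 : k ≤ 1 := by
    have h1 : Nat.card O ≤ Nat.card Ω := Nat.card_le_card_of_injective _ Subtype.val_injective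
    have h2 : p ^ k < p ^ 2 := by rw [← hk]; exact lt_of_le_of_lt h1 hΩ
    have := (Nat.pow_lt_pow_iff_right hpr.one_lt).1 h2
    omega
  obtain ⟨m, hm⟩ := IsPGroup.iff_card.1 (hP.of_surjective f.rangeRestrict f.rangeRestrict_surjective)
  have hdvd : Nat.card f.range ∣ Nat.factorial (Nat.card O) := by
    rw [← Nat.card_perm]; exact Subgroup.card_subgroup_dvd_card _
  have hle : Nat.card O ≤ p := by
    rw [show Nat.card O = p ^ k from hk]
    exact (Nat.pow_le_pow_right hpr.pos hk1).trans_eq (pow_one p)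
  have hm1 : m ≤ 1 := by
    by_contra hm2
    have h1 : p ^ 2 ∣ Nat.factorial p := (pow_dvd_pow p (by omega : 2 ≤ m)).trans
      (hm ▸ hdvd.trans (Nat.factorial_dvd_factorial hle))
    obtain ⟨q, hq⟩ : ∃ q, p = q + 1 := ⟨p - 1, by have := hpr.pos; omega⟩
    have h1' : p * p ∣ p * Nat.factorial q := by
      have h3 : Nat.factorial p = p * Nat.factorial q := by rw [hq, Nat.factorial_succ]
      rwa [← sq, ← h3]
    have := (hpr.dvd_factorial).1 ((Nat.mul_dvd_mul_iff_left hpr.pos).1 h1')
    omega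
  have hcyc : IsCyclic f.range := by
    rcases Nat.le_one_iff_eq_zero_or_eq_one.1 hm1 with h | h
    · have : Subsingleton f.range := (Nat.card_eq_one_iff_unique.1 (by rw [hm, h, pow_zero])).1
      infer_instance
    · exact isCyclic_of_prime_card (p := p) (by rw [hm, h, pow_one])
  let _ := @IsCyclic.commGroup f.range _ hcyc
  have h := mul_comm (f.rangeRestrict x) (f.rangeRestrict y)
  rw [← map_mul, ← map_mul] at h
  have h' : f (x * y) = f (y * x) := congrArg Subtype.val h
  exact congrArg Subtype.val (Equiv.Perm.ext_iff.1 h' ⟨i, MulAction.mem_orbit_self i⟩)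

/-- `Qd(p)` is not involved in a group of permutations of fewer than `p ^ 2` points. -/
lemma not_involves {n : ℕ} (hn : n < p ^ 2) : ¬ Cfsg.Involves ↥(Cfsg.qd p) ↥(alternatingGroup (Fin n)) := by
  rintro ⟨K, R, hRn, ⟨e⟩⟩
  let π : K →* ↥(Cfsg.qd p) := e.toMonoidHom.comp (QuotientGroup.mk' (R.subgroupOf K))
  have hπ : Function.Surjective π := e.surjective.comp (QuotientGroup.mk'_surjective _)
  set T := ((uni p).subgroupOf (Cfsg.qd p)).comap π with hT
  let g : T →* ↥((uni p).subgroupOf (Cfsg.qd p)) := (π.comp T.subtype).codRestrict _ fun z => z.2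
  have hg : Function.Surjective g := fun z => by
    obtain ⟨w, hw⟩ := hπ z
    exact ⟨⟨w, show π w ∈ (uni p).subgroupOf (Cfsg.qd p) from hw ▸ z.2⟩, Subtype.ext hw⟩
  obtain ⟨P⟩ : Nonempty (Sylow p T) := inferInstance
  have hU : IsPGroup p ↥((uni p).subgroupOf (Cfsg.qd p)) :=
    (IsPGroup.of_card (n := 3) uni_card).of_equiv (Subgroup.subgroupOfEquivOfLe uni_le_qd).symm
  have htop : ((P.mapSurjective hg : Sylow p _) : Subgroup ↥((uni p).subgroupOf (Cfsg.qd p))) = ⊤ := by
    obtain ⟨k, hk⟩ := IsPGroup.iff_card.1 hU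
    refine Subgroup.eq_top_of_card_eq _ ?_
    rw [Sylow.card_eq_multiplicity, hk, Nat.factorization_pow, Finsupp.smul_apply, hp.out.factorization_self]
    simp
  rw [Sylow.coe_mapSurjective] at htop
  let ι : T →* Equiv.Perm (Fin n) := ((alternatingGroup (Fin n)).subtype.comp K.subtype).comp T.subtype
  have hι : Function.Injective ι := Subtype.val_injective.comp (Subtype.val_injective.comp Subtype.val_injective)
  have hcomm := mul_comm_of_small ((P : Subgroup T).map ι) (P.2.map ι) (by rwa [Nat.card_fin])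
  obtain ⟨x, y, hxy⟩ := uni_nonabelian (p := p)
  obtain ⟨a, ha, hax⟩ := htop.ge (Subgroup.mem_top ((Subgroup.subgroupOfEquivOfLe uni_le_qd).symm x))
  obtain ⟨b, hb, hby⟩ := htop.ge (Subgroup.mem_top ((Subgroup.subgroupOfEquivOfLe uni_le_qd).symm y))
  have h := congrArg Subtype.val (hcomm ⟨ι a, a, ha, rfl⟩ ⟨ι b, b, hb, rfl⟩)
  have hab : a * b = b * a := hι (by rw [map_mul, map_mul]; exact h)
  refine hxy ((Subgroup.subgroupOfEquivOfLe uni_le_qd).symm.injective ?_)
  rw [map_mul, map_mul, ← hax, ← hby, ← map_mul, ← map_mul, hab]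


/-- Let p be an odd prime and n a natural number. The alternating group of degree n has a subgroup isomorphic to Qd(p) (the natural semidirect product of an elementary abelian group of order p² by SL₂(p)) if and only if n ≥ p²; and if n < p² then Qd(p) is not even involved in it. -/
theorem result {p : ℕ} [Fact p.Prime] (hp : p ≠ 2) (n : ℕ) : ((∃ H : Subgroup (alternatingGroup (Fin n)), Nonempty (↥H ≃* ↥(Cfsg.qd p))) ↔ p ^ 2 ≤ n) ∧ (n < p ^ 2 → ¬ Cfsg.Involves ↥(Cfsg.qd p) ↥(alternatingGroup (Fin n))) := by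
  refine ⟨⟨fun ⟨H, ⟨e⟩⟩ => ?_, fun h => ?_⟩, fun h => not_involves h⟩
  · by_contra hlt
    refine not_involves (not_le.1 hlt) ⟨H, ⊥, inferInstance, ⟨MulEquiv.trans ?_ e⟩⟩
    exact (QuotientGroup.quotientMulEquivOfEq (Subgroup.bot_subgroupOf H)).trans QuotientGroup.quotientBot
  · have hpp : Odd p := (Fact.out : p.Prime).odd_of_ne_two hp
    have hcard : Fintype.card (Fin 2 → ZMod p) = p ^ 2 := by simp [ZMod.card]
    let ι : (Fin 2 → ZMod p) ↪ Fin n :=
      ((Fintype.equivFinOfCardEq hcard).toEmbedding).trans (Fin.castLEEmb h)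
    let Φ : ↥(affine p) →* Equiv.Perm (Fin n) :=
      (Equiv.Perm.viaEmbeddingHom ι).comp (MulAction.toPermHom (affine p) (Fin 2 → ZMod p))
    have hΦ : Function.Injective Φ := (Equiv.Perm.viaEmbeddingHom_injective ι).comp plane_injective
    have hsign : ∀ M : affine p, Equiv.Perm.sign (Φ M) = 1 := by
      have hle : affine p ≤ ((Equiv.Perm.sign.comp Φ).ker).map (affine p).subtype := by
        refine affine_le_closure.trans ((Subgroup.closure_le _).2 ?_)
        rintro g ⟨hg, hgp⟩
        refine ⟨⟨g, hg⟩, ?_, rfl⟩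
        rw [SetLike.mem_coe, MonoidHom.mem_ker]
        have h1 : (Equiv.Perm.sign.comp Φ) ⟨g, hg⟩ ^ p = 1 := by
          rw [← map_pow, show (⟨g, hg⟩ : affine p) ^ p = 1 from Subtype.ext hgp, map_one]
        rwa [Int.units_pow_eq_pow_mod_two, Nat.odd_iff.1 hpp, pow_one] at h1
      intro M
      obtain ⟨w, hw, hwM⟩ := hle M.2
      obtain rfl : w = M := Subtype.ext hwM
      exact hw
    let Ψ : ↥(Cfsg.qd p) →* ↥(alternatingGroup (Fin n)) :=
      (Φ.comp (Subgroup.inclusion qd_le_affine)).codRestrict _ fun M => Equiv.Perm.mem_alternatingGroup.2 (hsign _)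
    have hΨ : Function.Injective Ψ := fun a b hab =>
      Subgroup.inclusion_injective qd_le_affine (hΦ (congrArg Subtype.val hab))
    exact ⟨Ψ.range, ⟨(MonoidHom.ofInjective hΨ).symm⟩⟩

end Cfsg.Agent.S3835
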