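import Cfsg.Statements.S3838
import Cfsg.Agent.Lib.Coprime.SchurZassenhaus
import Cfsg.Agent.Lib.Fusion.Abelian
import Cfsg.Agent.Lib.Fusion.Basic

set_option autoImplicit false
open Cfsg

namespace Cfsg.Agent.S3838

open CfsgLib
open scoped commutatorElement

/-- The case in which `Q` is normal. -/
lemma main {H : Type*} [Group H] [Finite H] {p : ℕ} [Fact p.Prime] (P : Sylow p H) (Q : Subgroup H) [Q.Normal]
    (hQP : Q ≤ (P : Subgroup H)) (hcomm : ∀ a ∈ (P : Subgroup H), ∀ b ∈ (P : Subgroup H), ⁅a, b⁆ ∈ Q)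
    (hgen : ∀ U : Subgroup H, (P : Subgroup H) ≤ Q ⊔ U → (P : Subgroup H) ≤ U)
    (hN : Cfsg.HasNormalPComplement p (Subgroup.normalizer ((P : Subgroup H) : Set H))) :
    Cfsg.HasNormalPComplement p H := by
  set f := QuotientGroup.mk' Q with hf
  set Pb : Sylow p (H ⧸ Q) := P.mapSurjective (f := f) (QuotientGroup.mk'_surjective Q) with hPb
  have hab : ∀ a ∈ (P : Subgroup H), ∀ b ∈ (P : Subgroup H), f a * f b = f b * f a := fun a ha b hb => by
    have h1 : f ⁅a, b⁆ = 1 := (QuotientGroup.eq_one_iff _).2 (hcomm a ha b hb)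
    rw [map_commutatorElement] at h1
    exact (commutatorElement_eq_one_iff_commute.1 h1).eq
  set M := Subgroup.normalizer ((P : Subgroup H) : Set H) with hM
  have hNC : Subgroup.normalizer ((Pb : Subgroup (H ⧸ Q)) : Set (H ⧸ Q)) ≤
      Subgroup.centralizer ((Pb : Subgroup (H ⧸ Q)) : Set (H ⧸ Q)) := by
    intro y hy
    obtain ⟨g, rfl⟩ := QuotientGroup.mk'_surjective Q y
    have hg : g ∈ M := by
      refine Coprime.mem_normalizer_of_conj_map_le fun z hz => ?_
      have h1 : f g * f z * (f g)⁻¹ ∈ (P : Subgroup H).map f := (Subgroup.mem_normalizer_iff.1 hy _).1 ⟨z, hz, rfl⟩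
      rw [← map_inv, ← map_mul, ← map_mul] at h1
      obtain ⟨w, hw, hwz⟩ := h1
      have hq : w⁻¹ * (g * z * g⁻¹) ∈ Q := QuotientGroup.eq.1 hwz
      rw [show g * z * g⁻¹ = w * (w⁻¹ * (g * z * g⁻¹)) by group]
      exact (P : Subgroup H).mul_mem hw (hQP hq)
    set PM := P.subtype (Subgroup.le_normalizer : (P : Subgroup H) ≤ M) with hPM
    obtain ⟨w, hw, u, hu, hwu⟩ := Fusion.Basic.exists_eq_pResidual_mul PM (⟨g, hg⟩ : M)
    refine Subgroup.mem_centralizer_iff.2 ?_
    rintro _ ⟨z, hz, rfl⟩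
    have hzM : (⟨z, Subgroup.le_normalizer hz⟩ : M) ∈ (PM : Subgroup M) := Subgroup.mem_subgroupOf.2 hz
    have hnorm : (PM : Subgroup M).Normal := by
      rw [hPM, Sylow.coe_subtype]; exact Subgroup.normal_subgroupOf_iff_le_normalizer Subgroup.le_normalizer |>.2 le_rfl
    have hdisj : Disjoint (PM : Subgroup M) (Cfsg.pResidual p M) :=
      disjoint_iff.2 ((Fusion.Basic.npc_iff_inf PM).1 hN)
    have hwz : Commute (⟨z, Subgroup.le_normalizer hz⟩ : M) w :=
      Subgroup.commute_of_normal_of_disjoint _ _ hnorm inferInstance hdisj _ _ hzM hw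
    have hg' : g = (w : H) * (u : H) := congrArg Subtype.val hwu
    have hfu : f z * f (u : H) = f (u : H) * f z := hab _ hz _ (Subgroup.mem_subgroupOf.1 hu)
    have hfw : f z * f (w : H) = f (w : H) * f z := by
      rw [← map_mul, ← map_mul]; exact congrArg f (congrArg Subtype.val hwz.eq)
    show f z * f g = f g * f z
    rw [hg', map_mul, ← mul_assoc, hfw, mul_assoc, hfu, ← mul_assoc]
  obtain ⟨Pb₀, Kb, hKb, hKbc⟩ := Fusion.Abelian.npc_of_normalizer_le_centralizer Pb hNC
  set K := Kb.comap f with hK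
  have hKn : K.Normal := hKb.comap f
  have hQK : Q ≤ K := fun q hq => by
    rw [hK, Subgroup.mem_comap, show f q = 1 from (QuotientGroup.eq_one_iff q).2 hq]; exact Kb.one_mem
  have hKbcop : (Nat.card Kb).Coprime p := by
    rw [← hKbc.index_eq_card]
    exact ((Fact.out : p.Prime).coprime_iff_not_dvd.2 Pb₀.not_dvd_index).symm
  have hQidx : (Q.subgroupOf K).index = Nat.card Kb := by
    have h1 : Nat.card K = Nat.card Q * Nat.card Kb := by
      rw [← Coprime.card_mul_relIndex' hQK]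
      congr 1
      have h2 := Subgroup.relIndex_ker K f
      rw [QuotientGroup.ker_mk', hK, Subgroup.map_comap_eq_self_of_surjective (QuotientGroup.mk'_surjective Q)] at h2
      exact h2
    have h3 := (Q.subgroupOf K).index_mul_card
    rw [Nat.card_congr (Subgroup.subgroupOfEquivOfLe hQK).toEquiv, h1, mul_comm] at h3
    exact Nat.eq_of_mul_eq_mul_left Nat.card_pos h3
  obtain ⟨a, ha⟩ := IsPGroup.iff_card.1 (P.2.to_le hQP)
  have hcopQ : (Nat.card (Q.subgroupOf K)).Coprime (Q.subgroupOf K).index := by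
    rw [hQidx, Nat.card_congr (Subgroup.subgroupOfEquivOfLe hQK).toEquiv, ha]
    exact hKbcop.symm.pow_left a
  obtain ⟨L₀, hL₀⟩ := Subgroup.exists_left_complement'_of_coprime hcopQ
  set L := L₀.map K.subtype with hL
  have hLcard : Nat.card L = Nat.card Kb := by
    rw [hL, Subgroup.card_map_of_injective (Subgroup.subtype_injective _), ← hL₀.index_eq_card, hQidx]
  have hLK : L ≤ K := Subgroup.map_subtype_le _
  have hKsup : K ≤ Q ⊔ L := fun k hk => by
    obtain ⟨⟨l, q⟩, hlq⟩ := (hL₀ : Function.Bijective _).2 (⟨k, hk⟩ : K)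
    have hk' : ((l : K) : H) * ((q : K) : H) = k := congrArg Subtype.val hlq
    rw [← hk']
    exact mul_mem (Subgroup.mem_sup_right ⟨_, l.2, rfl⟩) (Subgroup.mem_sup_left q.2)
  have hQsolv : Group.IsSolvable Q := by
    have := (P.2.to_le hQP).isNilpotent
    infer_instance
  -- Frattini argument
  have hfr : ∀ g : H, ∃ q ∈ Q, q * g ∈ Subgroup.normalizer (L : Set H) := by
    intro g
    obtain ⟨q, hq, he⟩ := Coprime.exists_conj_eq (N := Q) (H := L.map (MulAut.conj g).toMonoidHom) (K := L)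
      (.inl hQsolv) Subgroup.le_normalizer_of_normal Subgroup.le_normalizer_of_normal
      (le_trans (by rintro _ ⟨l, hl, rfl⟩; exact hKn.conj_mem l (hLK hl) g) hKsup)
      (Coprime.card_conj_map _ _)
      (by rw [Coprime.card_conj_map, hLcard, ha]; exact hKbcop.symm.pow_left a)
    rw [Coprime.conj_map_map] at he
    exact ⟨q, hq, Coprime.mem_normalizer_of_conj_map_le fun l hl => he.le ⟨l, hl, rfl⟩⟩
  have hPL : (P : Subgroup H) ≤ Subgroup.normalizer (L : Set H) := hgen _ fun x _ => by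
    obtain ⟨q, hq, hqx⟩ := hfr x
    rw [show x = q⁻¹ * (q * x) by group]
    exact mul_mem (Subgroup.mem_sup_left (Q.inv_mem hq)) (Subgroup.mem_sup_right hqx)
  have hLn : L.Normal := Subgroup.normalizer_eq_top_iff.1 (top_le_iff.1 fun g _ => by
    obtain ⟨q, hq, hqg⟩ := hfr g
    rw [show g = q⁻¹ * (q * g) by group]
    exact mul_mem (inv_mem (hPL (hQP hq))) hqg)
  obtain ⟨b, hb⟩ := IsPGroup.iff_card.1 Pb₀.2
  refine Fusion.Basic.npc_of_normal L (by rw [hLcard]; exact hKbcop) (k := a + b) ?_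
  have h1 := L.index_mul_card
  rw [hLcard, ← Q.index_mul_card, ha, Subgroup.index_eq_card Q, ← hKbc.card_mul_card, hb] at h1
  refine Nat.eq_of_mul_eq_mul_right (Nat.card_pos (α := Kb)) ?_
  rw [h1, pow_add]; ring

/-- Let G be a finite group with Sylow p-subgroup P such that N_G(P) has a normal p-complement. Then N_G(Q) has a normal p-complement for every subgroup Q with [P, P] ≤ Q ≤ Φ(P). -/
theorem result {G : Type*} [Group G] [Finite G] {p : ℕ} [Fact p.Prime] (P : Sylow p G) (hN : Cfsg.HasNormalPComplement p ↥(Subgroup.normalizer ((P : Subgroup G) : Set G))) (Q : Subgroup G) (h1 : (commutator ↥(P : Subgroup G)).map (P : Subgroup G).subtype ≤ Q) (h2 : Q ≤ (frattini ↥(P : Subgroup G)).map (P : Subgroup G).subtype) : Cfsg.HasNormalPComplement p ↥(Subgroup.normalizer (Q : Set G)) := by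
  set M := Subgroup.normalizer (Q : Set G) with hM
  have hQP : Q ≤ (P : Subgroup G) := h2.trans (Subgroup.map_subtype_le _)
  have hcomm : ∀ a ∈ (P : Subgroup G), ∀ b ∈ (P : Subgroup G), ⁅a, b⁆ ∈ Q := fun a ha b hb =>
    h1 ⟨⁅(⟨a, ha⟩ : (P : Subgroup G)), ⟨b, hb⟩⁆, Subgroup.commutator_mem_commutator (Subgroup.mem_top _) (Subgroup.mem_top _), rfl⟩
  have hPM : (P : Subgroup G) ≤ M := fun x hx => CfsgLib.Coprime.mem_normalizer_of_conj_map_le (fun q hq => by
    rw [show x * q * x⁻¹ = ⁅x, q⁆ * q by rw [commutatorElement_def]; group]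
    exact Q.mul_mem (hcomm x hx q (hQP hq)) hq)
  have hQM : Q ≤ M := Subgroup.le_normalizer
  have : (Q.subgroupOf M).Normal := (Subgroup.normal_subgroupOf_iff_le_normalizer hQM).2 le_rfl
  refine main (P.subtype hPM) (Q.subgroupOf M) (fun x hx => hQP hx) (fun a ha b hb => hcomm a ha b hb) (fun U hU => ?_) ?_
  · set PU := (U.map M.subtype).subgroupOf (P : Subgroup G) with hPU
    have htop : PU ⊔ frattini (P : Subgroup G) = ⊤ := by
      refine top_le_iff.1 fun x _ => ?_
      obtain ⟨q, hq, u, hu, hqu⟩ := Subgroup.mem_sup_of_normal_left.1 (hU (Subgroup.mem_subgroupOf.2 x.2 : (⟨x, hPM x.2⟩ : M) ∈ _))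
      have hx : (q : G) * (u : G) = (x : G) := congrArg Subtype.val hqu
      obtain ⟨q', hq', hqq⟩ := h2 (Subgroup.mem_subgroupOf.1 hq)
      have huP : (u : G) ∈ (P : Subgroup G) := by
        rw [show (u : G) = (q : G)⁻¹ * (x : G) by rw [← hx]; group]
        exact mul_mem (inv_mem (hQP hq)) x.2
      rw [show x = q' * ⟨(u : G), huP⟩ from Subtype.ext (by
        show (x : G) = (q' : G) * (u : G); rw [show (q' : G) = (q : G) from hqq, hx])]
      exact mul_mem (Subgroup.mem_sup_right hq') (Subgroup.mem_sup_left (Subgroup.mem_subgroupOf.2 ⟨u, hu, rfl⟩))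
    have hall := frattini_nongenerating htop
    intro x hx
    obtain ⟨u, hu, hux⟩ := Subgroup.mem_subgroupOf.1 (hall.ge (Subgroup.mem_top ⟨(x : G), Subgroup.mem_subgroupOf.1 hx⟩))
    exact (Subtype.ext hux : u = x) ▸ hu
  · refine CfsgLib.Fusion.Basic.npc_of_injective
      (((M.subtype).comp (Subgroup.normalizer (((P.subtype hPM : Sylow p M) : Subgroup M) : Set M)).subtype).codRestrict
        (Subgroup.normalizer ((P : Subgroup G) : Set G)) fun x => ?_) ?_ hN
    · refine CfsgLib.Coprime.mem_normalizer_of_conj_map_le fun z hz => ?_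
      exact Subgroup.mem_subgroupOf.1 ((Subgroup.mem_normalizer_iff.1 x.2 ⟨z, hPM hz⟩).1 (Subgroup.mem_subgroupOf.2 hz))
    · intro a b hab
      exact Subtype.ext (Subtype.ext (congrArg (fun z : Subgroup.normalizer ((P : Subgroup G) : Set G) => (z : G)) hab))

end Cfsg.Agent.S3838
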