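import Cfsg.Statements.S3839
import Cfsg.Agent.Lib.Fusion.Alperin
import Cfsg.Agent.Lib.Coprime.Sylow
-- import your own Cfsg.Agent.* helpers here

set_option autoImplicit false
open Cfsg

namespace Cfsg.Agent.S3839

open CfsgLib.Fusion
open scoped commutatorElement

variable {G : Type*} [Group G] [Finite G] {p : ℕ} [hp : Fact p.Prime]

theorem isPGroup_map_of_pPrime {G' : Type*} [Group G'] {H : Subgroup G} (f : G →* G')
    (h : ∀ x ∈ H, (orderOf x).Coprime p → f x = 1) : IsPGroup p ↥(H.map f) := by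
  rintro ⟨_, x, hx, rfl⟩
  refine ⟨(orderOf x).factorization p, Subtype.ext ?_⟩
  show (f x) ^ p ^ (orderOf x).factorization p = 1
  rw [← map_pow]
  refine h _ (H.pow_mem hx _) ?_
  rw [orderOf_pow' x (pow_pos hp.out.pos _).ne', Nat.gcd_eq_right (Nat.ordProj_dvd _ _)]
  exact (Nat.coprime_ordCompl hp.out (orderOf_pos x).ne').symm

/-- All `p'`-elements normalising a subgroup of the Sylow subgroup centralise it. -/
theorem centralizes_of_hyp (S : Sylow p G) (D : Subgroup G)
    (hD : Cfsg.IsStronglyClosed D (S : Subgroup G))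
    (hU : ∀ U : Subgroup G, U ≤ D → D ⊓ Subgroup.centralizer (U : Set G) ≤ U →
      Cfsg.HasNormalPComplement p ↥(Subgroup.normalizer (U : Set G))) :
    ∀ (k : ℕ) (Q : Subgroup G), Nat.card G - Nat.card Q ≤ k → Q ≤ (S : Subgroup G) →
      ∀ g ∈ Subgroup.normalizer (Q : Set G), (orderOf g).Coprime p →
        g ∈ Subgroup.centralizer (Q : Set G) := by
  intro k
  induction k using Nat.strong_induction_on with
  | _ k ih =>
    intro Q hk hQS g hg hgo
    classical
    set W := Q ⊓ D with hW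
    have hSD : (S : Subgroup G) ≤ Subgroup.normalizer (D : Set G) := fun s hs =>
      Subgroup.mem_normalizer_iff.2 fun x => ⟨fun hx =>
        hD.2 x hx s ((S : Subgroup G).mul_mem ((S : Subgroup G).mul_mem hs (hD.1 hx))
          ((S : Subgroup G).inv_mem hs)), fun hx => by
        have h1 : s⁻¹ * (s * x * s⁻¹) * s⁻¹⁻¹ = x := by simp [mul_assoc]
        have h2 := hD.2 _ hx s⁻¹ ((S : Subgroup G).mul_mem ((S : Subgroup G).mul_mem
          ((S : Subgroup G).inv_mem hs) (hD.1 hx)) ((S : Subgroup G).inv_mem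
            ((S : Subgroup G).inv_mem hs)))
        rwa [h1] at h2⟩
    have hNW : Subgroup.normalizer (Q : Set G) ≤ Subgroup.normalizer (W : Set G) := by
      intro n hn
      refine Subgroup.mem_normalizer_iff.2 fun x => ⟨fun hx => ?_, fun hx => ?_⟩
      · have hxQ := (Subgroup.mem_normalizer_iff.1 hn x).1 hx.1
        exact ⟨hxQ, hD.2 x hx.2 n (hQS hxQ)⟩
      · have hxQ := (Subgroup.mem_normalizer_iff.1 hn x).2 hx.1
        refine ⟨hxQ, ?_⟩
        have h1 : n⁻¹ * (n * x * n⁻¹) * n⁻¹⁻¹ = x := by simp [mul_assoc]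
        have h2 := hD.2 _ hx.2 n⁻¹ (by rw [h1]; exact hQS hxQ)
        rwa [h1] at h2
    by_cases hc : D ⊓ Subgroup.centralizer (W : Set G) ≤ W
    · have hN := hU W inf_le_right hc
      set N := Subgroup.normalizer (W : Set G)
      have hQN : Q ≤ N := Subgroup.le_normalizer.trans hNW
      have hmem := Alperin.centralizes_of_npc hN (Q := Q.subgroupOf N)
        ((S.isPGroup'.to_le hQS).comap_subtype (K := N)) (g := ⟨g, hNW hg⟩)
        (Subgroup.le_normalizer_comap N.subtype (Subgroup.mem_comap.2 hg))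
        (by rwa [Subgroup.orderOf_mk])
      exact Subgroup.mem_centralizer_iff.2 fun q hq =>
        congrArg Subtype.val (Subgroup.mem_centralizer_iff.1 hmem ⟨q, hQN hq⟩ hq)
    set T := D ⊓ Subgroup.centralizer (W : Set G) with hT
    have hQT : Q ≤ Subgroup.normalizer (T : Set G) := by
      intro q hq
      refine Subgroup.inf_normalizer_le_normalizer_inf ⟨hSD (hQS hq), ?_⟩
      have hqW := hNW (Subgroup.le_normalizer hq)
      refine Subgroup.mem_normalizer_iff.2 fun x => ⟨fun hx => ?_, fun hx => ?_⟩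
      · refine Subgroup.mem_centralizer_iff.2 fun w hw => ?_
        have := Subgroup.mem_centralizer_iff.1 hx _ ((Subgroup.mem_normalizer_iff''.1 hqW w).1 hw)
        have := congrArg (fun t => q * t * q⁻¹) this
        simpa [mul_assoc] using this
      · refine Subgroup.mem_centralizer_iff.2 fun w hw => ?_
        have := Subgroup.mem_centralizer_iff.1 hx _ ((Subgroup.mem_normalizer_iff.1 hqW w).1 hw)
        have := congrArg (fun t => q⁻¹ * t * q) this
        simpa [mul_assoc] using this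
    obtain ⟨t₀, ht₀, ht₀W⟩ := SetLike.not_le_iff_exists.1 hc
    have hlt : Q < T ⊔ Q := lt_of_le_of_ne le_sup_right fun e =>
      ht₀W ⟨e.symm.le (Subgroup.mem_sup_left ht₀), ht₀.1⟩
    have hVS : T ⊔ Q ≤ (S : Subgroup G) := sup_le (inf_le_left.trans hD.1) hQS
    obtain ⟨v, hv, hvQ⟩ := SetLike.exists_of_lt
      (CfsgLib.Coprime.lt_normalizer_inf_of_lt (S.isPGroup'.to_le hVS) hlt)
    obtain ⟨t, ht, q₀, hq₀, rfl⟩ : ∃ t ∈ T, ∃ q₀ ∈ Q, t * q₀ = v := by
      have h1 : v ∈ ((T ⊔ Q : Subgroup G) : Set G) := hv.1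
      rw [Subgroup.coe_mul_of_right_le_normalizer_left T Q hQT] at h1
      obtain ⟨t, ht, q₀, hq₀, h⟩ := Set.mem_mul.1 h1
      exact ⟨t, ht, q₀, hq₀, h⟩
    have htQ : t ∉ Q := fun h => hvQ (Q.mul_mem h hq₀)
    set N := Subgroup.normalizer (Q : Set G) with hN
    have htN : t ∈ N := by
      have := N.mul_mem hv.2 (N.inv_mem (Subgroup.le_normalizer hq₀))
      simpa using this
    let φ : ↥N →* MulAut ↥Q := Subgroup.normalizerMonoidHom Q
    have hker : ∀ x : ↥N, φ x = 1 ↔ (x : G) ∈ Subgroup.centralizer (Q : Set G) := by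
      intro x
      rw [← MonoidHom.mem_ker, Subgroup.normalizerMonoidHom_ker]
      rfl
    -- the stabiliser of the chain `Q ≥ W ≥ 1`
    let K : Subgroup ↥N :=
      { carrier := {x | (x : G) ∈ Subgroup.centralizer (W : Set G) ∧ ∀ q ∈ Q, ⁅(x : G), q⁆ ∈ W}
        one_mem' := ⟨Subgroup.one_mem _, fun q _ => by simp [W.one_mem]⟩
        mul_mem' := fun {x y} hx hy => ⟨Subgroup.mul_mem _ hx.1 hy.1, fun q hq => by
          have e : ⁅((x * y : ↥N) : G), q⁆ = (x : G) * ⁅(y : G), q⁆ * (x : G)⁻¹ * ⁅(x : G), q⁆ := by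
            simp [commutatorElement_def, mul_assoc]
          rw [e, ← Subgroup.mem_centralizer_iff.1 hx.1 _ (hy.2 q hq), mul_inv_cancel_right]
          exact W.mul_mem (hy.2 q hq) (hx.2 q hq)⟩
        inv_mem' := fun {x} hx => ⟨Subgroup.inv_mem _ hx.1, fun q hq => by
          have e : ⁅((x⁻¹ : ↥N) : G), q⁆ = (x : G)⁻¹ * ⁅(x : G), q⁆⁻¹ * (x : G) := by
            simp [commutatorElement_def, mul_assoc]
          rw [e, mul_assoc, Subgroup.mem_centralizer_iff.1 hx.1 _ (W.inv_mem (hx.2 q hq)),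
            inv_mul_cancel_left]
          exact W.inv_mem (hx.2 q hq)⟩ }
    have hKn : K.Normal := by
      refine ⟨fun x hx n => ⟨?_, fun q hq => ?_⟩⟩
      · refine Subgroup.mem_centralizer_iff.2 fun w hw => ?_
        have := Subgroup.mem_centralizer_iff.1 hx.1 _
          ((Subgroup.mem_normalizer_iff''.1 (hNW n.2) w).1 hw)
        have := congrArg (fun t => (n : G) * t * (n : G)⁻¹) this
        simpa [mul_assoc] using this
      · have h1 := (Subgroup.mem_normalizer_iff.1 (hNW n.2) _).1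
          (hx.2 _ ((Subgroup.mem_normalizer_iff''.1 n.2 q).1 hq))
        simpa [commutatorElement_def, mul_assoc] using h1
    have htK : (⟨t, htN⟩ : ↥N) ∈ K := by
      refine ⟨ht.2, fun q hq => ⟨?_, ?_⟩⟩
      · exact Q.mul_mem ((Subgroup.mem_normalizer_iff.1 htN q).1 hq) (Q.inv_mem hq)
      · have h1 := (Subgroup.mem_normalizer_iff.1 (hSD (hQS hq)) t⁻¹).1 (D.inv_mem ht.1)
        have := D.mul_mem ht.1 h1
        simpa [commutatorElement_def, mul_assoc] using this
    have hcopW : ∀ x : G, (orderOf x).Coprime p → (orderOf x).Coprime (Nat.card W) := by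
      intro x hx
      obtain ⟨j, hj⟩ := ((S.isPGroup'.to_le hQS).to_le (inf_le_left : W ≤ Q)).exists_card_eq
      rw [hj]; exact hx.pow_right j
    have hK1 : IsPGroup p ↥(K.map φ) := isPGroup_map_of_pPrime φ fun x hx hxo => by
      rw [hker]
      refine Subgroup.mem_centralizer_iff.2 fun q hq => ?_
      exact (CfsgLib.Coprime.commute_of_stabilizes
        (hcopW _ (by rwa [Subgroup.orderOf_coe])) hx.1 (hx.2 q hq)).eq.symm
    obtain ⟨P, hP⟩ := ((S.isPGroup'.to_le (inf_le_left.trans hD.1 : T ≤ _)).to_le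
      (Subgroup.zpowers_le.2 ht) |>.comap_subtype (K := N) |>.comap_subtype (K := K)).exists_le_sylow
    set PN : Subgroup ↥N := (P : Subgroup ↥K).map K.subtype with hPN
    set Q₁ : Subgroup G := Q ⊔ PN.map N.subtype with hQ₁
    have hQ₁p : IsPGroup p ↥Q₁ :=
      IsPGroup.to_sup_of_normal_left' (S.isPGroup'.to_le hQS) ((P.isPGroup'.map _).map _)
        (Subgroup.map_subtype_le _)
    have hQlt : Q < Q₁ := lt_of_le_of_ne le_sup_left fun e => htQ (e.symm.le
      (Subgroup.mem_sup_right ⟨⟨t, htN⟩, ⟨⟨⟨t, htN⟩, htK⟩, hP (Subgroup.mem_zpowers t), rfl⟩, rfl⟩))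
    obtain ⟨S', hS'⟩ := hQ₁p.exists_le_sylow
    obtain ⟨c, hcS⟩ := MulAction.exists_smul_eq G S' S
    set N' : Subgroup ↥N := Subgroup.normalizer (PN : Set ↥N) with hN'
    have hN1 : IsPGroup p ↥(N'.map φ) := isPGroup_map_of_pPrime φ fun x hx hxo => by
      rw [hker]
      have hxQ₁ : (x : G) ∈ Subgroup.normalizer (Q₁ : Set G) := by
        refine Subgroup.mem_normalizer_iff_map_conj_eq.2 ?_
        rw [hQ₁, Subgroup.map_sup, Subgroup.mem_normalizer_iff_map_conj_eq.1 x.2, Subgroup.map_map]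
        congr 1
        conv_rhs => rw [← Subgroup.mem_normalizer_iff_map_conj_eq.1 hx, Subgroup.map_map]
        rfl
      set Q₂ : Subgroup G := Q₁.map (MulAut.conj c).toMonoidHom with hQ₂
      have hQ₂S : Q₂ ≤ (S : Subgroup G) := by
        rw [← hcS]
        exact Subgroup.map_mono hS'
      have hx₂ : c * x * c⁻¹ ∈ Subgroup.normalizer (Q₂ : Set G) := by
        rw [hQ₂, ← Subgroup.map_equiv_normalizer_eq]
        exact ⟨(x : G), hxQ₁, rfl⟩
      have hcard : Nat.card Q₂ = Nat.card Q₁ :=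
        (Nat.card_congr (Q₁.equivMapOfInjective _ (MulAut.conj c).injective).toEquiv).symm
      have hbig : Nat.card Q < Nat.card Q₁ := lt_of_le_of_ne (Subgroup.card_le_of_le hQlt.le)
        fun e => hQlt.ne (Subgroup.eq_of_le_of_card_ge hQlt.le e.ge)
      have hle : Nat.card Q₂ ≤ Nat.card G := Subgroup.card_le_card_group _
      have h1 := ih (Nat.card G - Nat.card Q₂) (by omega) Q₂ le_rfl hQ₂S _ hx₂ (by
        rw [← MulAut.conj_apply]
        rw [show orderOf ((MulAut.conj c) (x : G)) = orderOf (x : G) from MulEquiv.orderOf_eq _ _,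
          Subgroup.orderOf_coe]
        exact hxo)
      refine Subgroup.mem_centralizer_iff.2 fun q hq => ?_
      have h2 := Subgroup.mem_centralizer_iff.1 h1 (c * q * c⁻¹) ⟨q, hQlt.le hq, rfl⟩
      have := congrArg (fun u => c⁻¹ * u * c) h2
      simpa [mul_assoc] using this
    have htop : N' ⊔ K = ⊤ := Sylow.normalizer_sup_eq_top P
    have hrange : IsPGroup p ↥φ.range := by
      rw [MonoidHom.range_eq_map, ← htop, Subgroup.map_sup]
      refine IsPGroup.to_sup_of_normal_right' hN1 hK1 ?_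
      exact (Subgroup.map_mono le_top).trans (fun y hy => by
        obtain ⟨n, -, rfl⟩ := hy
        refine Subgroup.mem_normalizer_iff.2 fun z => ⟨?_, ?_⟩
        · rintro ⟨w, hw, rfl⟩
          exact ⟨n * w * n⁻¹, hKn.conj_mem w hw n, by simp⟩
        · rintro ⟨w, hw, hwe⟩
          refine ⟨n⁻¹ * w * n, by simpa using hKn.conj_mem w hw n⁻¹, ?_⟩
          rw [map_mul, map_mul, map_inv, hwe]
          simp [mul_assoc])
    have h1 : φ ⟨g, hg⟩ = 1 := by
      obtain ⟨j, hj⟩ := hrange ⟨φ ⟨g, hg⟩, ⟨_, rfl⟩⟩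
      have hj' : (φ ⟨g, hg⟩) ^ p ^ j = 1 := congrArg Subtype.val hj
      refine orderOf_eq_one_iff.1 (Nat.eq_one_of_dvd_coprimes (hgo.pow_right j) ?_
        (orderOf_dvd_of_pow_eq_one hj'))
      exact (orderOf_map_dvd φ _).trans (by rw [Subgroup.orderOf_mk])
    exact (hker _).1 h1

/-- A Frobenius normal p-complement criterion relative to a strongly closed subgroup. Let G be a finite group, S a Sylow p-subgroup and D a subgroup of S strongly closed in S with respect to G. Then G has a normal p-complement if and only if N_G(U) has a normal p-complement for every subgroup U of D with C_D(U) ≤ U. -/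
theorem result {G : Type*} [Group G] [Finite G] {p : ℕ} [Fact p.Prime] (S : Sylow p G) (D : Subgroup G) (hD : Cfsg.IsStronglyClosed D (S : Subgroup G)) : Cfsg.HasNormalPComplement p G ↔ ∀ U : Subgroup G, U ≤ D → D ⊓ Subgroup.centralizer (U : Set G) ≤ U → Cfsg.HasNormalPComplement p ↥(Subgroup.normalizer (U : Set G)) := by
  refine ⟨fun h U _ _ => CfsgLib.Fusion.Basic.npc_subgroup h _, fun h => ?_⟩
  exact CfsgLib.Fusion.Alperin.npc_of_frobenius S fun Q hQ g hg ho =>
    centralizes_of_hyp S D hD h _ Q le_rfl hQ g hg ho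

end Cfsg.Agent.S3839
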