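import Cfsg.Statements.S3857
import Cfsg.Agent.Lib.OddOrder.SigmaBasics
import Cfsg.Agent.Lib.FrobRealize.FixedPointFree
import Cfsg.Agent.Lib.FrobRealize.Kernel
import Cfsg.Agent.Lib.Solvable.Cores

set_option autoImplicit false
open Cfsg

namespace Cfsg.Agent.S3857


section

open scoped Pointwise commutatorElement

universe u

/-- No element order is divisible by a prime in `A` and a prime outside `A`. -/
def Split (A : Set ℕ) (G : Type u) [Group G] : Prop :=
  ∀ g : G, ∀ a ∈ A, ∀ b ∉ A, a.Prime → b.Prime → a ∣ orderOf g → b ∣ orderOf g → False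

/-- All prime divisors of the order lie in `A`. -/
def PiGroup (A : Set ℕ) {G : Type u} [Group G] (X : Subgroup G) : Prop :=
  ∀ p : ℕ, p.Prime → p ∣ Nat.card X → p ∈ A

variable {G : Type u} [Group G] [Finite G] {A : Set ℕ}

theorem Split.compl (h : Split A G) : Split Aᶜ G := fun g a ha b hb hap hbp hag hbg =>
  h g b (not_not.mp hb) a ha hbp hap hbg hag

theorem Split.quotient (h : Split A G) (N : Subgroup G) [N.Normal] : Split A (G ⧸ N) := by
  intro x a ha b hb hap hbp hag hbg
  obtain ⟨g, rfl⟩ := QuotientGroup.mk'_surjective N x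
  exact h g a ha b hb hap hbp (hag.trans (orderOf_map_dvd _ g)) (hbg.trans (orderOf_map_dvd _ g))

theorem Split.pair (h : Split A G) {X Y : Subgroup G} (hX : PiGroup A X) (hY : PiGroup Aᶜ Y)
    {x y : G} (hx : x ∈ X) (hy : y ∈ Y) (hc : x * y = y * x) : x = 1 ∨ y = 1 := by
  by_contra hne
  push Not at hne
  obtain ⟨a, hap, ha⟩ := Nat.exists_prime_and_dvd (fun e => hne.1 (orderOf_eq_one_iff.mp e))
  obtain ⟨b, hbp, hb⟩ := Nat.exists_prime_and_dvd (fun e => hne.2 (orderOf_eq_one_iff.mp e))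
  have hcop : (orderOf x).Coprime (orderOf y) := by
    refine Nat.coprime_of_dvd fun r hr hrx hry => ?_
    exact hY r hr (hry.trans (Subgroup.orderOf_dvd_natCard Y hy)) (hX r hr (hrx.trans (Subgroup.orderOf_dvd_natCard X hx)))
  have e : orderOf (x * y) = orderOf x * orderOf y := Commute.orderOf_mul_eq_mul_orderOf_of_coprime hc hcop
  exact h (x * y) a (hX a hap (ha.trans (Subgroup.orderOf_dvd_natCard X hx))) b
    (hY b hbp (hb.trans (Subgroup.orderOf_dvd_natCard Y hy))) hap hbp (e ▸ ha.mul_right _) (e ▸ hb.mul_left _)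

theorem piGroup_piCore (π : Set ℕ) : PiGroup π (Cfsg.piCore π G) :=
  fun _ hp hd => CfsgLib.OddOrder.SigmaBasics.mem_of_dvd_piCore hp hd

/-- A coprime fixed-point-free complement is a Frobenius complement. -/
theorem frobenius_of_fpf {N C : Subgroup G} [N.Normal] (hcompl : Subgroup.IsComplement' N C)
    (hN : N ≠ ⊥) (hC : C ≠ ⊥) (hfpf : ∀ n ∈ N, ∀ c ∈ C, n * c = c * n → n = 1 ∨ c = 1) :
    Cfsg.IsFrobeniusComplement C ∧ Cfsg.frobeniusKernel C = (N : Set G) := by
  have hdisj : ∀ x ∈ N, x ∈ C → x = 1 := fun x hx hx' =>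
    Subgroup.disjoint_def.mp hcompl.disjoint hx hx'
  have hcard := hcompl.card_mul
  have hF : Cfsg.IsFrobeniusComplement C := by
    refine ⟨hC, ?_, ?_⟩
    · intro h
      rw [h, Subgroup.card_top] at hcard
      exact hN (Subgroup.card_eq_one.mp (Nat.eq_of_mul_eq_mul_right Nat.card_pos (hcard.trans (one_mul _).symm)))
    · intro g hg
      rw [eq_bot_iff]
      rintro x ⟨hxC, hx⟩
      have hx' : g⁻¹ * x * g ∈ C := CfsgLib.FrobRealize.Kernel.mem_conj_smul.mp hx
      obtain ⟨⟨⟨n, hn⟩, ⟨c, hc⟩⟩, rfl⟩ := hcompl.2 g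
      simp only at hg hx' ⊢
      have h1 : n⁻¹ * x * n ∈ C := by
        have := mul_mem (mul_mem hc hx') (inv_mem hc)
        rwa [show c * ((n * c)⁻¹ * x * (n * c)) * c⁻¹ = n⁻¹ * x * n by group] at this
      have h2 : x⁻¹ * (n⁻¹ * x * n) = 1 := by
        refine hdisj _ ?_ (mul_mem (inv_mem hxC) h1)
        rw [show x⁻¹ * (n⁻¹ * x * n) = (x⁻¹ * n⁻¹ * x) * n by group]
        exact mul_mem (by simpa using Subgroup.Normal.conj_mem inferInstance _ (inv_mem hn) x⁻¹) hn
      have h3 : n * x = x * n := by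
        calc n * x = n * (x * (x⁻¹ * (n⁻¹ * x * n))) := by rw [h2, mul_one]
          _ = x * n := by group
      rw [Subgroup.mem_bot]
      rcases hfpf n hn x hxC h3 with h | h
      · exact absurd (by rw [h, one_mul]; exact hc) hg
      · exact h
  refine ⟨hF, (Set.eq_of_subset_of_ncard_le ?_ ?_ (Set.toFinite _)).symm⟩
  · intro n hn
    by_cases h1 : n = 1
    · exact Or.inl h1
    refine Or.inr fun g hg => h1 ?_
    have h := hdisj _ (by simpa using Subgroup.Normal.conj_mem inferInstance n hn g⁻¹)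
      (CfsgLib.FrobRealize.Kernel.mem_conj_smul.mp hg)
    calc n = g * (g⁻¹ * n * g) * g⁻¹ := by group
      _ = 1 := by rw [h, mul_one, mul_inv_cancel]
  · rw [← Nat.card_coe_set_eq, ← Nat.card_coe_set_eq, CfsgLib.FrobRealize.Kernel.card_frobeniusKernel hF]
    refine le_of_eq ?_
    have h1 := C.card_mul_index
    rw [← hcard, mul_comm (Nat.card N)] at h1
    exact Nat.eq_of_mul_eq_mul_left Nat.card_pos h1

/-- A normal `A`-subgroup with quotient an `Aᶜ`-group gives a Frobenius group. -/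
theorem frobenius_of_split (hs : Split A G) {N : Subgroup G} [N.Normal] (hN : PiGroup A N) (hN1 : N ≠ ⊥)
    (hidx : ∀ p : ℕ, p.Prime → p ∣ N.index → p ∉ A) (hidx1 : N.index ≠ 1) :
    ∃ C : Subgroup G, Subgroup.IsComplement' N C ∧ PiGroup Aᶜ C ∧
      Cfsg.IsFrobeniusComplement C ∧ Cfsg.frobeniusKernel C = (N : Set G) := by
  have hcop : (Nat.card N).Coprime N.index :=
    Nat.coprime_of_dvd fun r hr h1 h2 => hidx r hr h2 (hN r hr h1)
  obtain ⟨C, hC⟩ := Subgroup.exists_right_complement'_of_coprime hcop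
  have hCc : Nat.card C = N.index := (Subgroup.IsComplement'.index_eq_card hC.symm).symm
  have hCpi : PiGroup Aᶜ C := fun r hr hd => hidx r hr (hCc ▸ hd)
  refine ⟨C, hC, hCpi, frobenius_of_fpf hC hN1 ?_ fun n hn c hc h => hs.pair hN hCpi hn hc h⟩
  intro h
  rw [h, Subgroup.card_bot] at hCc
  exact hidx1 hCc.symm

theorem exists_pCore_ne_bot (hG : Group.IsSolvable G) [Nontrivial G] :
    ∃ p : ℕ, p.Prime ∧ Cfsg.pCore p G ≠ ⊥ := by
  haveI := hG
  by_contra h
  push Not at h
  refine CfsgLib.Solvable.Cores.fittingSubgroup_ne_bot (G := G) ?_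
  rw [CfsgLib.Solvable.Cores.fittingSubgroup_eq_iSup_pCore]
  simp only [iSup_eq_bot]
  exact fun p => h p.1 p.2

theorem pCore_le_piCore {p : ℕ} [Fact p.Prime] {π : Set ℕ} (hp : p ∈ π) :
    Cfsg.pCore p G ≤ Cfsg.piCore π G := by
  haveI : (Cfsg.pCore p G).Normal := Subgroup.sSup_normal _ (fun _ h => h.1)
  refine CfsgLib.OddOrder.SigmaBasics.le_piCore fun r hr hd => ?_
  obtain ⟨k, hk⟩ := (CfsgLib.Solvable.Cores.isPGroup_pCore (G := G) p).exists_card_eq
  rw [hk] at hd
  rw [(Nat.prime_dvd_prime_iff_eq hr Fact.out).mp (hr.dvd_of_dvd_pow hd)]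
  exact hp

/-- The main case: `O_A(G) ≠ 1`. -/
theorem main (hsol : Group.IsSolvable G) (hs : Split A G) (hR1 : Cfsg.piCore A G ≠ ⊥)
    (hb : ∃ b ∉ A, b.Prime ∧ b ∣ Nat.card G) :
    (∃ C : Subgroup G, Cfsg.IsFrobeniusComplement C) ∨
    (∃ (H K : Subgroup G) (_ : H.Normal), K.Normal ∧ H < K ∧
      (∃ C : Subgroup ↥K, Cfsg.IsFrobeniusComplement C ∧ Cfsg.frobeniusKernel C = (H.subgroupOf K : Set ↥K)) ∧
      (∃ C : Subgroup (G ⧸ H), Cfsg.IsFrobeniusComplement C ∧ Cfsg.frobeniusKernel C = (K.map (QuotientGroup.mk' H) : Set (G ⧸ H)))) := by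
  classical
  set R := Cfsg.piCore A G with hR
  set q := QuotientGroup.mk' R with hq
  have hqs := QuotientGroup.mk'_surjective R
  haveI := hsol
  have hsol1 : Group.IsSolvable (G ⧸ R) := inferInstance
  haveI := hsol1
  obtain ⟨b, hbA, hbp, hbd⟩ := hb
  have hRtop : R ≠ ⊤ := fun h => hbA (piGroup_piCore A b hbp (by rw [← hR, h, Subgroup.card_top]; exact hbd))
  haveI : Nontrivial (G ⧸ R) := QuotientGroup.nontrivial_iff.mpr hRtop
  have hker : ∀ M : Subgroup (G ⧸ R), Nat.card (M.comap q) = Nat.card R * Nat.card M := by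
    intro M
    have h1 := (M.comap q).card_mul_index
    rw [Subgroup.index_comap_of_surjective _ hqs, ← R.card_mul_index, Subgroup.index_eq_card R, ← M.card_mul_index, ← mul_assoc] at h1
    exact Nat.eq_of_mul_eq_mul_right (Nat.pos_of_ne_zero Subgroup.index_ne_zero_of_finite) h1
  have hA1 : Cfsg.piCore A (G ⧸ R) = ⊥ := by
    have hle : (Cfsg.piCore A (G ⧸ R)).comap q ≤ R := by
      haveI : ((Cfsg.piCore A (G ⧸ R)).comap q).Normal := Subgroup.Normal.comap inferInstance q
      refine CfsgLib.OddOrder.SigmaBasics.le_piCore fun r hr hd => ?_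
      rw [hker] at hd
      rcases hr.dvd_mul.mp hd with h | h
      · exact piGroup_piCore A r hr h
      · exact piGroup_piCore A r hr h
    rw [eq_bot_iff, ← Subgroup.map_comap_eq_self_of_surjective hqs (Cfsg.piCore A (G ⧸ R)),
      Subgroup.map_le_iff_le_comap, MonoidHom.comap_bot, QuotientGroup.ker_mk']
    exact hle
  set K1 := Cfsg.piCore Aᶜ (G ⧸ R) with hK1
  have hpc : ∀ (r : ℕ) [Fact r.Prime], r ∈ A → Cfsg.pCore r (G ⧸ R) = ⊥ := fun r _ hr =>
    le_bot_iff.mp (hA1 ▸ pCore_le_piCore hr)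
  have hK1ne : K1 ≠ ⊥ := by
    obtain ⟨r, hr, hne⟩ := exists_pCore_ne_bot (G := G ⧸ R) hsol1
    haveI := Fact.mk hr
    exact fun h => hne (le_bot_iff.mp (h ▸ pCore_le_piCore (π := Aᶜ) (fun hrA => hne (hpc r hrA))))
  set K := K1.comap q with hK
  have hKn : K.Normal := Subgroup.Normal.comap inferInstance q
  have hRK : R ≤ K := fun x hx => by
    show q x ∈ K1
    rw [show q x = 1 from (QuotientGroup.eq_one_iff x).mpr hx]
    exact one_mem _
  -- `K` is a Frobenius group with kernel `R`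
  have hsK : Split A ↥K := fun g a ha c hc hap hcp hag hcg =>
    hs (g : G) a ha c hc hap hcp (by rwa [Subgroup.orderOf_coe]) (by rwa [Subgroup.orderOf_coe])
  have hidxK : (R.subgroupOf K).index = Nat.card K1 := by
    have h1 := (R.subgroupOf K).card_mul_index
    rw [Nat.card_congr (Subgroup.subgroupOfEquivOfLe hRK).toEquiv, hK, hker] at h1
    exact Nat.eq_of_mul_eq_mul_left Nat.card_pos h1
  have hR1' : R.subgroupOf K ≠ ⊥ := fun h => hR1 (by
    rw [← Subgroup.map_subgroupOf_eq_of_le hRK, h, Subgroup.map_bot])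
  obtain ⟨C, hC, hCpi, hCF, hCk⟩ := frobenius_of_split hsK (N := R.subgroupOf K)
    (fun r hr hd => piGroup_piCore A r hr (by rwa [Nat.card_congr (Subgroup.subgroupOfEquivOfLe hRK).toEquiv] at hd))
    hR1' (fun r hr hd => piGroup_piCore (G := G ⧸ R) Aᶜ r hr (hidxK ▸ hd))
    (by rw [hidxK]; exact fun h => hK1ne (Subgroup.card_eq_one.mp h))
  by_cases hall : K1 = ⊤
  · left
    obtain ⟨C', hC'⟩ := frobenius_of_split hs (N := R) (piGroup_piCore A) hR1
      (fun r hr hd => piGroup_piCore (G := G ⧸ R) Aᶜ r hr (by rw [← hK1, hall, Subgroup.card_top, ← Subgroup.index_eq_card]; exact hd))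
      (fun h => hRtop (Subgroup.index_eq_one.mp h))
    exact ⟨C', hC'.2.2.1⟩
  right
  -- the `A`-part of `G / R`
  obtain ⟨a, haA, hap, had⟩ : ∃ a ∈ A, a.Prime ∧ a ∣ Nat.card (G ⧸ R) := by
    by_contra hno
    push Not at hno
    apply hall
    refine top_le_iff.mp (CfsgLib.OddOrder.SigmaBasics.le_piCore fun r hr hd hrA => ?_)
    rw [Subgroup.card_top] at hd
    exact hno r hrA hr hd
  -- preimages in the complement act fixed point freely on `R`
  set Cg := C.map K.subtype with hCg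
  have hCgK : Cg ≤ K := Subgroup.map_subtype_le _
  have hfpfG : ∀ c ∈ Cg, c ≠ 1 → R ⊓ Subgroup.centralizer {c} = ⊥ := by
    rintro _ ⟨c, hc, rfl⟩ hc1
    rw [eq_bot_iff]
    rintro n ⟨hn, hnc⟩
    have h := Subgroup.mem_centralizer_singleton_iff.mp hnc
    have := hsK.pair (X := R.subgroupOf K) (Y := C)
      (fun r hr hd => piGroup_piCore A r hr (by rwa [Nat.card_congr (Subgroup.subgroupOfEquivOfLe hRK).toEquiv] at hd))
      hCpi (x := ⟨n, hRK hn⟩) (y := c) (Subgroup.mem_subgroupOf.mpr hn) hc (Subtype.ext h)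
    rcases this with h' | h'
    · exact congrArg Subtype.val h'
    · exact absurd (congrArg Subtype.val h') hc1
  have hinj : ∀ x ∈ Cg, q x = 1 → x = 1 := by
    rintro _ ⟨c, hc, rfl⟩ h
    have : c ∈ R.subgroupOf K := Subgroup.mem_subgroupOf.mpr ((QuotientGroup.eq_one_iff _).mp h)
    rw [Subgroup.disjoint_def.mp hC.disjoint this hc]
    rfl
  have hsurj : ∀ y ∈ K1, ∃ c ∈ Cg, q c = y := by
    intro y hy
    obtain ⟨g, rfl⟩ := hqs y
    obtain ⟨⟨⟨n, hn⟩, ⟨c, hc⟩⟩, he⟩ := hC.2 (⟨g, hy⟩ : K)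
    refine ⟨c, ⟨c, hc, rfl⟩, ?_⟩
    have he' : ((n : K) : G) * (c : G) = g := congrArg Subtype.val he
    rw [← he', map_mul, show q (n : G) = 1 from (QuotientGroup.eq_one_iff _).mpr (Subgroup.mem_subgroupOf.mp hn), one_mul]
  have hroots : ∀ (r : ℕ) [Fact r.Prime] (P : Subgroup (G ⧸ R)), P ≤ K1 → IsPGroup r P →
      Nat.card {x : P // x ^ r = 1} ≤ r := by
    intro r _ P hP hPr
    let P' : Subgroup G := Cg ⊓ P.comap q
    let f : P' →* P := (q.comp P'.subtype).codRestrict P fun x => x.2.2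
    have hf : Function.Bijective f := by
      constructor
      · rw [injective_iff_map_eq_one]
        exact fun x hx => Subtype.ext (hinj _ x.2.1 (congrArg Subtype.val hx))
      · rintro ⟨y, hy⟩
        obtain ⟨c, hc, rfl⟩ := hsurj y (hP hy)
        exact ⟨⟨c, hc, hy⟩, rfl⟩
    let e := MulEquiv.ofBijective f hf
    have hnorm : P' ≤ Subgroup.normalizer (R : Set G) := by
      rw [Subgroup.normalizer_eq_top]; exact le_top
    have h := CfsgLib.FrobRealize.FPF.card_roots_le hR1 hnorm (fun x hx hx1 => hfpfG x hx.1 hx1) (hPr.of_equiv e.symm)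
    refine le_trans (Nat.card_le_card_of_injective
      (fun x : {x : P // x ^ r = 1} => (⟨e.symm x.1, by rw [← map_pow, x.2, map_one]⟩ : {x : P' // x ^ r = 1}))
      fun x y hxy => Subtype.ext (e.symm.injective (congrArg Subtype.val hxy :))) h
  -- the Fitting subgroup of `G / R`
  set F1 := Cfsg.fittingSubgroup (G ⧸ R) with hF1
  have hF1K : F1 ≤ K1 := by
    rw [hF1, CfsgLib.Solvable.Cores.fittingSubgroup_eq_iSup_pCore]
    refine iSup_le fun r => ?_
    haveI := Fact.mk r.2
    by_cases hrA : r.1 ∈ A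
    · rw [hpc r.1 hrA]; exact bot_le
    · exact pCore_le_piCore hrA
  haveI hF1n : F1.Normal := Subgroup.sSup_normal _ (fun _ h => h.1)
  have hF1nil : Group.IsNilpotent F1 := by
    rw [hF1, CfsgLib.Solvable.Cores.fittingSubgroup_eq_iSup_pCore]
    exact CfsgLib.Solvable.Cores.iSup_pCore_isNilpotent
  haveI := hF1nil
  -- no elements of order two
  have hodd : ¬ 2 ∣ Nat.card F1 := by
    intro h2
    haveI : Fact (Nat.Prime 2) := ⟨Nat.prime_two⟩
    set P := Cfsg.pCore 2 (G ⧸ R)
    obtain ⟨S⟩ : Nonempty (Sylow 2 F1) := inferInstance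
    haveI : (S : Subgroup F1).Characteristic := S.characteristic_of_normal inferInstance
    have hSP : (S : Subgroup F1).map F1.subtype ≤ P :=
      CfsgLib.Solvable.Cores.le_pCore (S.isPGroup'.map _)
    obtain ⟨z, hz⟩ := exists_prime_orderOf_dvd_card' 2 (Dvd.dvd.trans
      (S.dvd_card_of_dvd_card h2) (by rw [Subgroup.card_map_of_injective F1.subtype_injective]) :
        2 ∣ Nat.card ↥((S : Subgroup F1).map F1.subtype))
    set w : G ⧸ R := (z : G ⧸ R)
    have hw2 : orderOf w = 2 := by rw [Subgroup.orderOf_coe, hz]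
    have hwP : w ∈ P := hSP z.2
    have hPK : P ≤ K1 := (CfsgLib.Solvable.Cores.pCore_le_fittingSubgroup 2).trans hF1K
    haveI : P.Normal := Subgroup.sSup_normal _ (fun _ h => h.1)
    have hwc : ∀ g : G ⧸ R, g * w = w * g := by
      intro g
      have hsub : ∀ x : {x : P // x ^ 2 = 1}, x.1 = 1 ∨ x.1 = ⟨w, hwP⟩ := by
        have h := hroots 2 P hPK (CfsgLib.Solvable.Cores.isPGroup_pCore 2)
        intro x
        by_contra hx
        push Not at hx
        have hw' : (⟨w, hwP⟩ : P) ^ 2 = 1 := Subtype.ext (by rw [← hw2]; exact pow_orderOf_eq_one w)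
        have hw1 : (⟨w, hwP⟩ : P) ≠ 1 := fun e => by
          have : w = 1 := congrArg Subtype.val e
          rw [this, orderOf_one] at hw2; omega
        let f : Fin 3 → {x : P // x ^ 2 = 1} := ![⟨1, one_pow _⟩, ⟨⟨w, hwP⟩, hw'⟩, x]
        have hf : Function.Injective f := by
          intro i j hij
          have h' := congrArg Subtype.val hij
          fin_cases i <;> fin_cases j <;> simp [f] at h' ⊢
          · exact hw1 h'.symm
          · exact hx.1 h'.symm
          · exact hw1 (Subtype.ext h')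
          · exact hx.2 h'.symm
          · exact hx.1 h'
          · exact hx.2 h'
        have h3 := Nat.card_le_card_of_injective f hf
        rw [Nat.card_fin] at h3
        omega
      have hcj : g * w * g⁻¹ ∈ P := Subgroup.Normal.conj_mem inferInstance w hwP g
      rcases hsub ⟨⟨_, hcj⟩, Subtype.ext (show (g * w * g⁻¹) ^ 2 = 1 by
        rw [conj_pow, ← hw2, pow_orderOf_eq_one, mul_one, mul_inv_cancel])⟩ with e | e
      · have e' : g * w * g⁻¹ = 1 := congrArg Subtype.val e
        rw [conj_eq_one_iff] at e'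
        rw [e', mul_one, one_mul]
      · exact mul_inv_eq_iff_eq_mul.mp (congrArg Subtype.val e)
    have h2A : 2 ∉ A := fun h => by
      have := hpc 2 h
      have hw1 : w = 1 := by rw [← Subgroup.mem_bot, ← this]; exact hwP
      rw [hw1, orderOf_one] at hw2; omega
    haveI := Fact.mk hap
    obtain ⟨x, hx⟩ := exists_prime_orderOf_dvd_card' a had
    have hne : a ≠ 2 := fun h => h2A (h ▸ haA)
    have e : orderOf (x * w) = orderOf x * orderOf w :=
      Commute.orderOf_mul_eq_mul_orderOf_of_coprime (hwc x) (by rw [hx, hw2]; exact (Nat.coprime_primes hap Nat.prime_two).mpr hne)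
    exact (hs.quotient R) (x * w) a haA 2 h2A hap Nat.prime_two (by rw [e, hx]; exact dvd_mul_right _ _)
      (by rw [e, hw2]; exact dvd_mul_left _ _)
  -- hence cyclic
  haveI : IsZGroup F1 := by
    refine ⟨fun r hr P => ?_⟩
    haveI := Fact.mk hr
    by_cases hrd : r ∣ Nat.card F1
    swap
    · haveI : Subsingleton ↥(P : Subgroup F1) := by
        obtain ⟨k, hk⟩ := P.isPGroup'.exists_card_eq
        rcases k with _ | k
        · exact (Nat.card_eq_one_iff_unique.mp (by rw [hk, pow_zero])).1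
        · exact absurd ((dvd_pow_self r (Nat.succ_ne_zero k)).trans (hk ▸ Subgroup.card_subgroup_dvd_card _)) hrd
      exact isCyclic_of_subsingleton
    have hr2 : r ≠ 2 := fun h => hodd (h ▸ hrd)
    let P1 := (P : Subgroup F1).map F1.subtype
    have e1 : (P : Subgroup F1) ≃* P1 := Subgroup.equivMapOfInjective _ _ F1.subtype_injective
    have h := hroots r P1 ((Subgroup.map_subtype_le _).trans hF1K) (P.isPGroup'.map _)
    rcases CfsgLib.FrobRealize.Quaternion.cyclic_or_quaternion (P.isPGroup'.map F1.subtype) h with h' | ⟨h', -⟩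
    · haveI := h'
      exact isCyclic_of_surjective e1.symm e1.symm.surjective
    · exact absurd h' hr2
  haveI : IsCyclic F1 := inferInstance
  have hcom : ⁅(⊤ : Subgroup (G ⧸ R)), (⊤ : Subgroup (G ⧸ R))⁆ ≤ K1 := by
    refine le_trans ?_ hF1K
    refine le_trans ?_ (CfsgLib.Solvable.Cores.centralizer_fittingSubgroup_le (G := G ⧸ R))
    rw [← hF1, Subgroup.commutator_le]
    intro x _ y _
    refine Subgroup.mem_centralizer_iff.mpr fun f hf => ?_
    let φ : G ⧸ R →* MulAut F1 := MulAut.conjNormal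
    have hcomm : φ x * φ y = φ y * φ x := by
      let e := IsCyclic.mulAutMulEquiv F1
      exact e.injective (by rw [map_mul, map_mul, mul_comm])
    have h1 : φ ⁅x, y⁆ = 1 := by
      rw [map_commutatorElement]; exact commutatorElement_eq_one_iff_mul_comm.mpr hcomm
    have h2 : φ ⁅x, y⁆ ⟨f, hf⟩ = ⟨f, hf⟩ := by rw [h1]; rfl
    have h3 := congrArg Subtype.val h2
    rw [MulAut.conjNormal_apply] at h3
    exact (mul_inv_eq_iff_eq_mul.mp h3).symm
  have hidx : ∀ r : ℕ, r.Prime → r ∣ K1.index → r ∈ A := by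
    intro r hr hd
    by_contra hrA
    haveI := Fact.mk hr
    obtain ⟨S⟩ : Nonempty (Sylow r (G ⧸ R)) := inferInstance
    set L := (S : Subgroup (G ⧸ R)) ⊔ K1
    haveI : L.Normal := by
      refine ⟨fun x hx g => ?_⟩
      rw [show g * x * g⁻¹ = ⁅g, x⁆ * x by rw [commutatorElement_def]; group]
      exact mul_mem (Subgroup.mem_sup_right (hcom (Subgroup.commutator_mem_commutator trivial trivial))) hx
    have hLK : L ≤ K1 := by
      refine CfsgLib.OddOrder.SigmaBasics.le_piCore fun t ht htd => ?_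
      have h1 := Subgroup.relIndex_mul_relIndex ⊥ K1 L bot_le le_sup_right
      rw [Subgroup.relIndex_bot_left, Subgroup.relIndex_bot_left, Subgroup.relIndex_sup_right] at h1
      rw [← h1] at htd
      rcases ht.dvd_mul.mp htd with h | h
      · exact piGroup_piCore Aᶜ t ht h
      · obtain ⟨k, hk⟩ := S.isPGroup'.exists_card_eq
        have h2 := h.trans (Subgroup.relIndex_dvd_card (H := K1) (K := (S : Subgroup (G ⧸ R))))
        rw [hk] at h2
        rw [(Nat.prime_dvd_prime_iff_eq ht hr).mp (ht.dvd_of_dvd_pow h2)]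
        exact hrA
    exact S.not_dvd_index (hd.trans (Subgroup.index_dvd_of_le (le_sup_left.trans hLK)))
  obtain ⟨C1, -, -, hC1, hC1k⟩ := frobenius_of_split (hs.quotient R).compl (N := K1) (piGroup_piCore Aᶜ)
    hK1ne (fun r hr hd hrA => hrA (hidx r hr hd)) (fun h => hall (Subgroup.index_eq_one.mp h))
  have hmap : K.map q = K1 := Subgroup.map_comap_eq_self_of_surjective hqs K1
  refine ⟨R, K, inferInstance, hKn, lt_of_le_of_ne hRK fun e => hK1ne ?_, ⟨C, hCF, hCk⟩, ⟨C1, hC1, by rw [hC1k, ← hq, hmap]⟩⟩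
  rw [← hmap, ← e]
  exact QuotientGroup.map_mk'_self R

end

/-- A finite solvable group whose prime graph (prime divisors of the order, two distinct primes joined when there is an element of order their product) is disconnected is a Frobenius group or a 2-Frobenius group (it has normal subgroups H < K with K a Frobenius group with kernel H and G/H a Frobenius group with kernel K/H). -/
theorem result {G : Type*} [Group G] [Finite G] (hsol : Group.IsSolvable G)
    (hdisc : (∃ A : Set ℕ, (∃ a ∈ A, a.Prime ∧ a ∣ Nat.card G) ∧ (∃ b ∉ A, b.Prime ∧ b ∣ Nat.card G) ∧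
      ∀ a ∈ A, ∀ b ∉ A, a.Prime → b.Prime → a ∣ Nat.card G → b ∣ Nat.card G → ¬ ∃ g : G, orderOf g = a * b)) :
    (∃ C : Subgroup G, Cfsg.IsFrobeniusComplement C) ∨
    (∃ (H K : Subgroup G) (_ : H.Normal), K.Normal ∧ H < K ∧
      (∃ C : Subgroup ↥K, Cfsg.IsFrobeniusComplement C ∧ Cfsg.frobeniusKernel C = (H.subgroupOf K : Set ↥K)) ∧
      (∃ C : Subgroup (G ⧸ H), Cfsg.IsFrobeniusComplement C ∧ Cfsg.frobeniusKernel C = (K.map (QuotientGroup.mk' H) : Set (G ⧸ H)))) := by
  classical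
  obtain ⟨A, ⟨a, ha, hap, had⟩, ⟨b, hb, hbp, hbd⟩, hno⟩ := hdisc
  have hs : Split A G := by
    intro g x hx y hy hxp hyp hxg hyg
    refine hno x hx y hy hxp hyp (hxg.trans (orderOf_dvd_natCard g)) (hyg.trans (orderOf_dvd_natCard g)) ?_
    have hne : x ≠ y := fun e => hy (e ▸ hx)
    obtain ⟨k, hk⟩ := ((Nat.coprime_primes hxp hyp).mpr hne).mul_dvd_of_dvd_of_dvd hxg hyg
    refine ⟨g ^ k, ?_⟩
    have hk0 : k ≠ 0 := fun e => (orderOf_pos g).ne' (by rw [hk, e, mul_zero])
    rw [orderOf_pow' g hk0, hk, Nat.gcd_mul_left_left, Nat.mul_div_cancel _ (Nat.pos_of_ne_zero hk0)]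
  haveI : Nontrivial G := Finite.one_lt_card_iff_nontrivial.mp (lt_of_lt_of_le hap.one_lt (Nat.le_of_dvd Nat.card_pos had))
  obtain ⟨p, hp, hne⟩ := exists_pCore_ne_bot (G := G) hsol
  haveI := Fact.mk hp
  by_cases hpA : p ∈ A
  · exact main hsol hs (fun h => hne (le_bot_iff.mp (h ▸ pCore_le_piCore hpA))) ⟨b, hb, hbp, hbd⟩
  · exact main hsol hs.compl (fun h => hne (le_bot_iff.mp (h ▸ pCore_le_piCore (π := Aᶜ) hpA)))
      ⟨a, fun h => h ha, hap, had⟩

end Cfsg.Agent.S3857
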