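import Cfsg.Statements.S3858
import Cfsg.Agent.Lib.Coprime.Sylow

set_option autoImplicit false
open Cfsg

namespace Cfsg.Agent.S3858

/-- Let G be a finite group with a normal non-abelian simple subgroup T whose centralizer is trivial (G almost simple with socle T), r a prime and R a Sylow r-subgroup of G meeting T nontrivially. Then R lies in exactly one maximal subgroup of G if and only if G has exactly one conjugacy class of maximal subgroups whose index is prime to r. -/
theorem result {G : Type*} [Group G] [Finite G] (T : Subgroup G) [T.Normal] (hT : IsSimpleGroup T) (hna : ¬ IsMulCommutative T)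
    (hC : Subgroup.centralizer (T : Set G) = ⊥) {r : ℕ} [Fact r.Prime] (R : Sylow r G) (hR0 : (R : Subgroup G) ⊓ T ≠ ⊥) :
    (∃! M : Subgroup G, IsCoatom M ∧ (R : Subgroup G) ≤ M) ↔
      ((∃ M : Subgroup G, IsCoatom M ∧ ¬ r ∣ M.index) ∧
        ∀ M₁ M₂ : Subgroup G, IsCoatom M₁ → ¬ r ∣ M₁.index → IsCoatom M₂ → ¬ r ∣ M₂.index → ∃ g : G, M₂ = M₁.map (MulAut.conj g).toMonoidHom) := by
  have hconj : ∀ (M : Subgroup G) (g : G), (M.map (MulAut.conj g).toMonoidHom).index = M.index :=
    fun M g => Subgroup.index_map_equiv M (MulAut.conj g)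
  have hcoatom : ∀ (M : Subgroup G) (g : G), IsCoatom M →
      IsCoatom (M.map (MulAut.conj g).toMonoidHom) := fun M g h =>
    (OrderIso.isCoatom_iff (MulAut.conj g).mapSubgroup M).2 h
  constructor
  · rintro ⟨M, ⟨hM, hRM⟩, hu⟩
    refine ⟨⟨M, hM, fun h => R.not_dvd_index (h.trans (Subgroup.index_dvd_of_le hRM))⟩, ?_⟩
    suffices key : ∀ M' : Subgroup G, IsCoatom M' → ¬ r ∣ M'.index →
        ∃ g : G, M' = M.map (MulAut.conj g).toMonoidHom by
      intro M₁ M₂ h₁ i₁ h₂ i₂
      obtain ⟨g, rfl⟩ := key M₁ h₁ i₁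
      obtain ⟨g', rfl⟩ := key M₂ h₂ i₂
      exact ⟨g' * g⁻¹, by rw [CfsgLib.Coprime.conj_map_map, inv_mul_cancel_right]⟩
    intro M' h' i'
    let S : Sylow r M' := default
    have hS : ¬ r ∣ ((S : Subgroup M').map M'.subtype).index := by
      rw [Subgroup.index_map_subtype]
      exact Nat.Prime.not_dvd_mul Fact.out S.not_dvd_index i'
    obtain ⟨g, hg⟩ := MulAction.exists_smul_eq G ((S.isPGroup'.map M'.subtype).toSylow hS) R
    refine ⟨g⁻¹, ?_⟩
    have h1 : (R : Subgroup G) ≤ M'.map (MulAut.conj g).toMonoidHom := by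
      rw [← hg, Sylow.coe_subgroup_smul]
      exact Subgroup.map_mono (Subgroup.map_subtype_le _)
    rw [← hu _ ⟨hcoatom _ g h', h1⟩, CfsgLib.Coprime.conj_map_map, inv_mul_cancel]
    exact (CfsgLib.Coprime.conj_map_eq_self_of_mem_normalizer (one_mem _)).symm
  · rintro ⟨⟨M, hM, hi⟩, hall⟩
    have hQn : Subgroup.normalizer ((R : Subgroup G) : Set G) ≠ ⊤ := fun e => by
      have hRn : (R : Subgroup G).Normal := Subgroup.normalizer_eq_top_iff.1 e
      have := hT
      rcases (hRn.subgroupOf T).eq_bot_or_eq_top with h | h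
      · rw [Subgroup.subgroupOf_eq_bot] at h; exact hR0 h.eq_bot
      · have hTR : T ≤ R := Subgroup.subgroupOf_eq_top.1 h
        have : Group.IsNilpotent T := (R.isPGroup'.to_le hTR).isNilpotent
        exact hna ⟨⟨fun a b => IsSimpleGroup.comm_iff_isSolvable.2 inferInstance a b⟩⟩
    obtain ⟨M₀, hM₀, hle⟩ := (eq_top_or_exists_le_coatom _).resolve_left hQn
    have hR₀ : (R : Subgroup G) ≤ M₀ := Subgroup.le_normalizer.trans hle
    have hi₀ : ¬ r ∣ M₀.index := fun h => R.not_dvd_index (h.trans (Subgroup.index_dvd_of_le hR₀))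
    refine ⟨M₀, ⟨hM₀, hR₀⟩, fun M' ⟨hM', hR'⟩ => ?_⟩
    obtain ⟨g, rfl⟩ := hall M₀ M' hM₀ hi₀ hM'
      (fun h => R.not_dvd_index (h.trans (Subgroup.index_dvd_of_le hR')))
    -- both `R` and `g⁻¹ R g` are Sylow subgroups of `M₀`
    let R' : Sylow r G := g⁻¹ • R
    have hR'₀ : (R' : Subgroup G) ≤ M₀ := by
      rw [Sylow.coe_subgroup_smul]
      refine CfsgLib.Coprime.conj_map_le_iff.2 fun x hx => ?_
      obtain ⟨y, hy, e⟩ := hR' hx
      rw [← e]; simpa [mul_assoc] using hy
    obtain ⟨m, hm⟩ := MulAction.exists_smul_eq M₀ (R.subtype hR₀) (R'.subtype hR'₀)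
    rw [Sylow.smul_subtype] at hm
    have e : (m : G) • R = g⁻¹ • R := Sylow.subtype_injective hm
    have hgm : g * m ∈ M₀ := hle (Sylow.smul_eq_iff_mem_normalizer.1 (by rw [mul_smul, e, smul_inv_smul]))
    have hgM : g ∈ M₀ := by simpa using mul_mem hgm (inv_mem m.2)
    exact CfsgLib.Coprime.conj_map_eq_self_of_mem_normalizer (Subgroup.le_normalizer hgM)

end Cfsg.Agent.S3858
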