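import Cfsg.Statements.S3859
import Cfsg.Agent.Lib.Coprime.Sylow

set_option autoImplicit false
open Cfsg

namespace Cfsg.Agent.S3859

/-- Let G be a finite group with a normal non-abelian simple subgroup T whose centralizer is trivial (G almost simple with socle T), r a prime and R a Sylow r-subgroup of G meeting T nontrivially. If R lies in exactly one maximal subgroup of G, then G/T is an r-group. -/
theorem result {G : Type*} [Group G] [Finite G] (T : Subgroup G) [T.Normal] (hT : IsSimpleGroup T) (hna : ¬ IsMulCommutative T)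
    (hC : Subgroup.centralizer (T : Set G) = ⊥) {r : ℕ} [Fact r.Prime] (R : Sylow r G) (hR0 : (R : Subgroup G) ⊓ T ≠ ⊥)
    (huniq : ∃! M : Subgroup G, IsCoatom M ∧ (R : Subgroup G) ≤ M) : IsPGroup r (G ⧸ T) := by
  have hN : T ⊔ (R : Subgroup G) = ⊤ := by
    by_contra hne
    obtain ⟨M₀, hM₀, hle⟩ := (eq_top_or_exists_le_coatom (T ⊔ (R : Subgroup G))).resolve_left hne
    obtain ⟨M, ⟨hM, hRM⟩, huni⟩ := huniq
    set Q := (R : Subgroup G) ⊓ T
    have hQn : Subgroup.normalizer (Q : Set G) ≠ ⊤ := fun e => by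
      have hQ : Q.Normal := Subgroup.normalizer_eq_top_iff.1 e
      have hQT : (Q.subgroupOf T).Normal := hQ.subgroupOf T
      rcases hT.eq_bot_or_eq_top_of_normal _ hQT with h | h
      · exact hR0 (by rw [Subgroup.subgroupOf_eq_bot, disjoint_iff, inf_eq_left.2 inf_le_right] at h; exact h)
      · have hTR : T ≤ R := (Subgroup.subgroupOf_eq_top.1 h).trans inf_le_left
        have : IsPGroup r T := R.isPGroup'.to_le hTR
        have : Group.IsNilpotent T := this.isNilpotent
        exact hna ⟨⟨fun a b => by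
          have : IsSimpleGroup T := hT
          exact IsSimpleGroup.comm_iff_isSolvable.2 inferInstance a b⟩⟩
    have hRN : (R : Subgroup G) ≤ Subgroup.normalizer (Q : Set G) :=
      (le_inf Subgroup.le_normalizer Subgroup.le_normalizer_of_normal).trans
        Subgroup.inf_normalizer_le_normalizer_inf
    obtain ⟨M₁, hM₁, hle₁⟩ := (eq_top_or_exists_le_coatom _).resolve_left hQn
    have e0 : M₀ = M := huni M₀ ⟨hM₀, le_sup_right.trans hle⟩
    have e1 : M₁ = M := huni M₁ ⟨hM₁, hRN.trans hle₁⟩
    subst e0; subst e1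
    refine hM.1 (eq_top_iff.2 ?_)
    -- Frattini argument in the normal subgroup `T`
    have hQT : ∀ g : G, g ∈ T ⊔ Subgroup.normalizer (Q : Set G) := fun g => by
      obtain ⟨S, hS⟩ := CfsgLib.Coprime.exists_sylow_map_eq (K := T) (H := Q) (p := r) inf_le_right (CfsgLib.Coprime.card_sylow_inf_normal R T)
      · have := Sylow.normalizer_sup_eq_top S
        rw [sup_comm, ← hS]
        exact this ▸ Subgroup.mem_top g
    exact fun g _ => sup_le (le_sup_left.trans hle) hle₁ (hQT g)
  refine IsPGroup.of_surjective R.isPGroup' ((QuotientGroup.mk' T).comp (R : Subgroup G).subtype) ?_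
  intro q
  obtain ⟨g, rfl⟩ := QuotientGroup.mk'_surjective T q
  obtain ⟨t, ht, x, hx, rfl⟩ := (CfsgLib.Coprime.mem_sup_of_le_normalizer (H := (R : Subgroup G))
    Subgroup.le_normalizer_of_normal).1 (hN ▸ Subgroup.mem_top g)
  refine ⟨⟨x, hx⟩, ?_⟩
  simp [(QuotientGroup.eq_one_iff t).2 ht]

end Cfsg.Agent.S3859
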