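import Cfsg.Statements.S3861
import Cfsg.Agent.Lib.Frobenius.OddInverted
-- import your own Cfsg.Agent.* helpers here

set_option autoImplicit false
open Cfsg

namespace Cfsg.Agent.S3861

/-- A finite group G has no non-identity element of odd order that is conjugate to its inverse if and only if the Sylow 2-subgroups of G are normal. -/
theorem result {G : Type*} [Group G] [Finite G] (P : Sylow 2 G) : (∀ x : G, x ≠ 1 → Odd (orderOf x) → ¬ IsConj x x⁻¹) ↔ (P : Subgroup G).Normal := by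
  have : Fact (Nat.Prime 2) := ⟨Nat.prime_two⟩
  constructor
  · intro h
    refine CfsgLib.Frobenius.OddInverted.sylow_normal _ rfl (fun x g hx ⟨i, hi⟩ hgx => ?_) P
    have key : ∀ (i : ℕ) (g : G), g ^ 2 ^ i = 1 → g * x * g⁻¹ ∈ Subgroup.zpowers x → g * x = x * g := by
      intro i
      induction i with
      | zero => intro g hg _; rw [pow_zero, pow_one] at hg; simp [hg]
      | succ n ih =>
        intro g hg hgx
        obtain ⟨a, ha⟩ := Subgroup.mem_zpowers_iff.1 hgx
        have hgg : g ^ 2 * x * (g ^ 2)⁻¹ = (g * x * g⁻¹) ^ a := by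
          rw [show g ^ 2 * x * (g ^ 2)⁻¹ = g * (g * x * g⁻¹) * g⁻¹ by rw [sq]; group]
          rw [conj_zpow, ha]
        have hmem : g ^ 2 * x * (g ^ 2)⁻¹ ∈ Subgroup.zpowers x := by
          rw [hgg]; exact zpow_mem hgx a
        have hc := ih (g ^ 2) (by rw [← pow_mul, ← pow_succ']; exact hg) hmem
        have hback : g * (g * x * g⁻¹) * g⁻¹ = x := by
          rw [show g * (g * x * g⁻¹) * g⁻¹ = g ^ 2 * x * (g ^ 2)⁻¹ by rw [sq]; group, hc, mul_inv_cancel_right]
        set x' := g * x * g⁻¹ with hx'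
        by_contra hne
        have hy : x' * x⁻¹ ∈ Subgroup.zpowers x := mul_mem hgx (inv_mem (Subgroup.mem_zpowers x))
        have hyodd : Odd (orderOf (x' * x⁻¹)) := hx.of_dvd_nat (orderOf_dvd_of_mem_zpowers hy)
        refine h (x' * x⁻¹) (fun h1 => hne ?_) hyodd (isConj_iff.2 ⟨g, ?_⟩)
        · rw [mul_inv_eq_one, hx'] at h1
          exact mul_inv_eq_iff_eq_mul.1 h1
        · rw [show g * (x' * x⁻¹) * g⁻¹ = (g * x' * g⁻¹) * (g * x * g⁻¹)⁻¹ by group, hback]
          show x * x'⁻¹ = _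
          rw [hx']; group

    exact key i g (hi ▸ pow_orderOf_eq_one g) hgx
  · intro hP x hx1 hodd hconj
    obtain ⟨c, hc⟩ := isConj_iff.1 hconj
    obtain ⟨a, m, hm, hcm, h2, -⟩ := CfsgLib.Frobenius.OddInverted.exists_two_power_pow c
    -- `c ^ m` is a `2`-element still inverting `x`
    have hinv : c ^ m * x * (c ^ m)⁻¹ = x⁻¹ := by
      obtain ⟨l, rfl⟩ := hm
      have h2x : c ^ 2 * x * (c ^ 2)⁻¹ = x := by
        rw [show c ^ 2 * x * (c ^ 2)⁻¹ = c * (c * x * c⁻¹) * c⁻¹ by rw [sq]; group, hc, ← conj_inv, hc, inv_inv]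
      have hcom : Commute ((c ^ 2) ^ l) x := Commute.pow_left (mul_inv_eq_iff_eq_mul.1 h2x) l
      rw [← pow_mul] at hcom
      rw [pow_succ', show c * c ^ (2 * l) * x * (c * c ^ (2 * l))⁻¹
        = c * (c ^ (2 * l) * x * (c ^ (2 * l))⁻¹) * c⁻¹ by group, hcom.eq, mul_inv_cancel_right, hc]
    have hcP : c ^ m ∈ (P : Subgroup G) := by
      have hp : IsPGroup 2 (Subgroup.zpowers (c ^ m)) := IsPGroup.of_card (n := a) (by rw [Nat.card_zpowers, h2])
      obtain ⟨Q, hQ⟩ := hp.exists_le_sylow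
      have : Subsingleton (Sylow 2 G) := Sylow.unique_of_normal P hP |>.instSubsingleton
      exact Subsingleton.elim Q P ▸ hQ (Subgroup.mem_zpowers _)
    have hx2 : x⁻¹ * x⁻¹ ∈ (P : Subgroup G) := by
      have h1 := mul_mem hcP (hP.conj_mem _ (inv_mem hcP) x)
      have e : c ^ m * (x * (c ^ m)⁻¹ * x⁻¹) = x⁻¹ * x⁻¹ := by
        rw [← mul_assoc, ← mul_assoc, hinv]
      rwa [e] at h1
    obtain ⟨k, hk⟩ := P.isPGroup' ⟨_, hx2⟩
    have h1 : x ^ (2 * 2 ^ k) = 1 := by
      have := congrArg Subtype.val hk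
      simp only [Subgroup.coe_pow, Subgroup.coe_one] at this
      rwa [← mul_inv_rev, inv_pow, inv_eq_one, ← sq, ← pow_mul] at this
    have h3 := Nat.eq_one_of_dvd_coprimes ((Nat.coprime_two_left.2 hodd).pow_left (k + 1)) (by
      rw [pow_succ']; exact orderOf_dvd_of_pow_eq_one h1) (dvd_refl (orderOf x))
    exact hx1 (orderOf_eq_one_iff.1 h3)

end Cfsg.Agent.S3861
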