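import Cfsg.Statements.S3862
import Cfsg.Agent.Lib.Fusion.Alperin
-- import your own Cfsg.Agent.* helpers here

set_option autoImplicit false
open Cfsg

namespace Cfsg.Agent.S3862

/-- If every 2-element of the finite group G that is conjugate to its inverse lies in the centre of G, then G has a normal 2-complement. -/
theorem result {G : Type*} [Group G] [Finite G] (h : ∀ x : G, (∃ j : ℕ, orderOf x = 2 ^ j) → IsConj x x⁻¹ → x ∈ Subgroup.center G) : Cfsg.HasNormalPComplement 2 G := by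
  have : Fact (Nat.Prime 2) := ⟨Nat.prime_two⟩
  obtain ⟨P⟩ : Nonempty (Sylow 2 G) := inferInstance
  refine CfsgLib.Fusion.Alperin.npc_of_frobenius P fun Q hQ y hy hodd => ?_
  refine Subgroup.mem_centralizer_iff.2 fun a ha => ?_
  have hpQ : IsPGroup 2 Q := P.2.to_le hQ
  suffices hmain : ∀ (n : ℕ) (a : G), a ∈ Q → a ^ 2 ^ n = 1 → y * a * y⁻¹ = a by
    obtain ⟨n, hn⟩ := hpQ ⟨a, ha⟩
    exact (mul_inv_eq_iff_eq_mul.1 (hmain n a ha (by simpa using congrArg Subtype.val hn))).symm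
  intro n
  induction n with
  | zero => intro a _ ha; rw [pow_zero, pow_one] at ha; simp [ha]
  | succ n ih =>
    intro a ha hn
    have h2 : y * a ^ 2 * y⁻¹ = a ^ 2 := ih _ (pow_mem ha 2) (by rw [← pow_mul, ← pow_succ']; exact hn)
    obtain ⟨d, hd⟩ : ∃ d, a⁻¹ * (y * a * y⁻¹) = d := ⟨_, rfl⟩
    have hyad : y * a * y⁻¹ = a * d := by rw [← hd, mul_inv_cancel_left]
    have hdQ : d ∈ Q := hd ▸ mul_mem (inv_mem ha) ((Subgroup.mem_normalizer_iff.1 hy a).1 ha)
    have hd2 : ∃ j, orderOf d = 2 ^ j := by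
      obtain ⟨j, hj⟩ := IsPGroup.iff_orderOf.1 hpQ ⟨d, hdQ⟩
      exact ⟨j, by rw [← hj, Subgroup.orderOf_mk]⟩
    have hinv : a⁻¹ * d * a = d⁻¹ := by
      have h3 : a * d * (a * d) = a * a := by
        rw [← hyad, show y * a * y⁻¹ * (y * a * y⁻¹) = y * a ^ 2 * y⁻¹ by rw [sq]; group, h2, sq]
      calc a⁻¹ * d * a = a⁻¹ * (a⁻¹ * (a * d * (a * d))) * d⁻¹ := by group
        _ = d⁻¹ := by rw [h3]; group
    have hcen := h d hd2 (isConj_iff.2 ⟨a⁻¹, by rw [inv_inv, hinv]⟩)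
    have hdd : d * d = 1 := by
      rw [mul_assoc, ← (Subgroup.mem_center_iff.1 hcen a), inv_mul_cancel_left] at hinv
      exact mul_eq_one_iff_eq_inv.2 hinv
    have hpow : ∀ k, y ^ k * a * (y ^ k)⁻¹ = a * d ^ k := by
      intro k
      induction k with
      | zero => simp
      | succ k ihk =>
        rw [pow_succ' y, show y * y ^ k * a * (y * y ^ k)⁻¹ = y * (y ^ k * a * (y ^ k)⁻¹) * y⁻¹ by group,
          ihk, show y * (a * d ^ k) * y⁻¹ = (y * a * y⁻¹) * (y * d ^ k * y⁻¹) by group, hyad,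
          Subgroup.mem_center_iff.1 (pow_mem hcen k) y, mul_inv_cancel_right, mul_assoc, ← pow_succ']
    have h1 := hpow (orderOf y)
    rw [pow_orderOf_eq_one, one_mul, inv_one, mul_one] at h1
    have hdn : d ^ orderOf y = 1 := mul_eq_left.1 h1.symm
    have hd1 : d = 1 := by
      rw [← orderOf_eq_one_iff]
      exact Nat.eq_one_of_dvd_coprimes hodd.symm (orderOf_dvd_of_pow_eq_one (by rw [sq]; exact hdd))
        (orderOf_dvd_of_pow_eq_one hdn)
    rw [hyad, hd1, mul_one]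

end Cfsg.Agent.S3862
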