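import Cfsg.Statements.S3863
import Cfsg.Agent.Lib.Frobenius.OddInverted
import Cfsg.Agent.Lib.Coprime.SchurZassenhaus
-- import your own Cfsg.Agent.* helpers here

set_option autoImplicit false
open Cfsg

namespace Cfsg.Agent.S3863

/-- Let x be an element of the finite group G that is conjugate to its inverse. Then some 2-element conjugates x to its inverse; if the conjugacy class of x has odd size then x ^ 2 = 1; and x lies in, and is conjugate to its inverse inside, every normal subgroup of odd index. -/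
theorem result {G : Type*} [Group G] [Finite G] (x : G) (hx : IsConj x x⁻¹) : (∃ t : G, (∃ j : ℕ, orderOf t = 2 ^ j) ∧ t * x * t⁻¹ = x⁻¹) ∧ (Odd (Subgroup.centralizer ({x} : Set G)).index → x ^ 2 = 1) ∧ ∀ (N : Subgroup G) [N.Normal], Odd N.index → ∃ hxN : x ∈ N, IsConj (⟨x, hxN⟩ : N) (⟨x, hxN⟩ : N)⁻¹ := by
  obtain ⟨c, hc⟩ := isConj_iff.1 hx
  obtain ⟨a, m, hm, hcm, h2, -⟩ := CfsgLib.Frobenius.OddInverted.exists_two_power_pow c
  have hinv : c ^ m * x * (c ^ m)⁻¹ = x⁻¹ := by
    obtain ⟨l, rfl⟩ := hm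
    have h2x : c ^ 2 * x * (c ^ 2)⁻¹ = x := by
      rw [show c ^ 2 * x * (c ^ 2)⁻¹ = c * (c * x * c⁻¹) * c⁻¹ by rw [sq]; group, hc, ← conj_inv, hc, inv_inv]
    have hcom : Commute ((c ^ 2) ^ l) x := Commute.pow_left (mul_inv_eq_iff_eq_mul.1 h2x) l
    rw [← pow_mul] at hcom
    rw [pow_succ', show c * c ^ (2 * l) * x * (c * c ^ (2 * l))⁻¹
      = c * (c ^ (2 * l) * x * (c ^ (2 * l))⁻¹) * c⁻¹ by group, hcom.eq, mul_inv_cancel_right, hc]
  set t := c ^ m
  refine ⟨⟨t, ⟨a, h2⟩, hinv⟩, fun hodd => ?_, fun N _ hN => ?_⟩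
  · set C := Subgroup.centralizer ({x} : Set G) with hC
    set T := Subgroup.zpowers t with hT
    have htC : t ∈ C := by
      by_contra htn
      have hn : T ≤ Subgroup.normalizer (C : Set G) := by
        rw [hT, Subgroup.zpowers_le]
        refine CfsgLib.Coprime.mem_normalizer_of_conj_map_le fun g hg => Subgroup.mem_centralizer_singleton_iff.2 ?_
        have hg' : g * x = x * g := Subgroup.mem_centralizer_singleton_iff.1 hg
        have hxt : x = t * x⁻¹ * t⁻¹ := by rw [← conj_inv, hinv, inv_inv]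
        have hgi : g * x⁻¹ = x⁻¹ * g := (Commute.inv_right hg').eq
        conv_lhs => rw [hxt]
        conv_rhs => rw [hxt]
        calc t * g * t⁻¹ * (t * x⁻¹ * t⁻¹) = t * (g * x⁻¹) * t⁻¹ := by group
          _ = t * (x⁻¹ * g) * t⁻¹ := by rw [hgi]
          _ = t * x⁻¹ * t⁻¹ * (t * g * t⁻¹) := by group
      have hn' : (C.subgroupOf (C ⊔ T)).Normal :=
        (Subgroup.normal_subgroupOf_iff_le_normalizer le_sup_left).2 (sup_le Subgroup.le_normalizer hn)
      have h1 : C.relIndex (C ⊔ T) ∣ C.index := Subgroup.relIndex_dvd_index_of_le le_sup_left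
      have h3 : (t : G) ∈ C ⊔ T := Subgroup.mem_sup_right (Subgroup.mem_zpowers t)
      have h4 : orderOf (QuotientGroup.mk' (C.subgroupOf (C ⊔ T)) ⟨t, h3⟩) ∣ C.index :=
        ((orderOf_dvd_natCard _).trans (Subgroup.index_eq_card _).symm.dvd).trans h1
      have h5 : orderOf (QuotientGroup.mk' (C.subgroupOf (C ⊔ T)) ⟨t, h3⟩) ∣ 2 ^ a :=
        (orderOf_map_dvd _ _).trans (by rw [Subgroup.orderOf_mk, h2])
      have h6 := Nat.eq_one_of_dvd_coprimes ((Nat.coprime_two_left.2 hodd).pow_left a) h5 h4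
      rw [orderOf_eq_one_iff, QuotientGroup.mk'_apply, QuotientGroup.eq_one_iff] at h6
      exact htn h6
    have h7 := Subgroup.mem_centralizer_singleton_iff.1 htC
    rw [h7, mul_inv_cancel_right] at hinv
    rw [sq]
    nth_rewrite 1 [hinv]
    exact inv_mul_cancel x
  · have hodd : ∀ q : G ⧸ N, Odd (orderOf q) := fun q =>
      hN.of_dvd_nat ((orderOf_dvd_natCard q).trans (Subgroup.index_eq_card N).symm.dvd)
    have ht : (t : G ⧸ N) = 1 := by
      rw [← orderOf_eq_one_iff]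
      exact Nat.eq_one_of_dvd_coprimes ((Nat.coprime_two_left.2 (hodd (t : G ⧸ N))).pow_left a)
        ((orderOf_map_dvd (QuotientGroup.mk' N) t).trans h2.dvd) dvd_rfl
    have hxN : x ∈ N := by
      have h := congrArg (fun z : G => (z : G ⧸ N)) hinv
      simp only [QuotientGroup.mk_mul, QuotientGroup.mk_inv, ht, one_mul, inv_one, mul_one] at h
      rw [← QuotientGroup.eq_one_iff, ← orderOf_eq_one_iff]
      refine Nat.eq_one_of_dvd_coprimes (Nat.coprime_two_left.2 (hodd (x : G ⧸ N))) ?_ dvd_rfl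
      refine orderOf_dvd_of_pow_eq_one ?_
      rw [sq]
      nth_rewrite 1 [h]
      exact inv_mul_cancel _
    exact ⟨hxN, isConj_iff.2 ⟨⟨t, (QuotientGroup.eq_one_iff t).1 ht⟩, Subtype.ext hinv⟩⟩

end Cfsg.Agent.S3863
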