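import Cfsg.Statements.S3864
import Cfsg.Agent.Lib.Involution.DihedralSylowClasses
-- import your own Cfsg.Agent.* helpers here

set_option autoImplicit false
open Cfsg

namespace Cfsg.Agent.S3864

open CfsgLib.Involution CfsgLib.Involution.DihedralSylow

section Helpers

variable {G : Type*} [Group G] [Finite G] {S : Sylow 2 G} {a b : G} {k : ℕ}
  (h : Gen (S : Subgroup G) a b k)
include h

theorem refl_conj_of_parity {i j : ℤ} (hij : (2 : ℤ) ∣ j - i) :
    IsConj (a ^ i * b) (a ^ j * b) := by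
  obtain ⟨t, ht⟩ := hij
  exact isConj_iff.2 ⟨a ^ t, by rw [conj_rot h, show i + 2 * t = j by omega]⟩

theorem refl_parity (i : ℤ) :
    IsConj (a ^ i * b) (a ^ (0 : ℤ) * b) ∨ IsConj (a ^ i * b) (a ^ (1 : ℤ) * b) := by
  rcases Int.even_or_odd i with ⟨t, ht⟩ | ⟨t, ht⟩
  · exact Or.inl (refl_conj_of_parity h ⟨-t, by omega⟩)
  · exact Or.inr (refl_conj_of_parity h ⟨-t, by omega⟩)

theorem cover {w : G} (hw : orderOf w = 2) :
    IsConj (a ^ ((2 : ℤ) ^ k)) w ∨ IsConj (a ^ (0 : ℤ) * b) w ∨ IsConj (a ^ (1 : ℤ) * b) w := by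
  obtain ⟨g, hg⟩ := Basic.exists_conj_mem S hw
  have hback : IsConj (g * w * g⁻¹) w := isConj_iff.2 ⟨g⁻¹, by group⟩
  rcases involution_cases h hg (Dihedral.mul_self ((Dihedral.orderOf_conj g w).trans hw)) with
    e | e | ⟨i, e⟩
  · rw [conj_eq_one_iff] at e
    exact absurd e (Dihedral.ne_one hw)
  · exact Or.inl (e ▸ hback)
  · rcases refl_parity h i with h' | h'
    · exact Or.inr (Or.inl (h'.symm.trans (e ▸ hback)))
    · exact Or.inr (Or.inr (h'.symm.trans (e ▸ hback)))

omit h in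
theorem card_of_reps {r : ℕ} (t : Fin r → G) (ht : ∀ i, orderOf (t i) = 2)
    (hcov : ∀ w : G, orderOf w = 2 → ∃ i, IsConj (t i) w)
    (hinj : ∀ i j, IsConj (t i) (t j) → i = j) :
    Nat.card {C : ConjClasses G // ∃ g : G, ConjClasses.mk g = C ∧ orderOf g = 2} = r := by
  rw [← Nat.card_fin r]
  refine (Nat.card_eq_of_bijective (fun i => ⟨ConjClasses.mk (t i), t i, rfl, ht i⟩) ⟨?_, ?_⟩).symm
  · intro i j e
    exact hinj i j (ConjClasses.mk_eq_mk_iff_isConj.1 (congrArg Subtype.val e))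
  · rintro ⟨_, g, rfl, hg⟩
    obtain ⟨i, hi⟩ := hcov g hg
    exact ⟨i, Subtype.ext (ConjClasses.mk_eq_mk_iff_isConj.2 hi)⟩

/-- Without fusion of the central involution there is a normal 2-complement. -/
theorem npc_of_unfused (hk : 1 ≤ k) (hz : ∀ i : ℤ, ¬ IsConj (a ^ ((2 : ℤ) ^ k)) (a ^ i * b)) :
    Cfsg.HasNormalPComplement 2 G := by
  refine (npc_iff h).2 fun U hUS hU => ?_
  haveI := hU
  obtain ⟨hzU, i, hiff⟩ := klein_cases h hUS hU
  obtain ⟨k', rfl⟩ : ∃ k', k = k' + 1 := Nat.exists_eq_add_one.2 hk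
  set z := a ^ ((2 : ℤ) ^ (k' + 1)) with hzdef
  set q := a ^ ((2 : ℤ) ^ k') with hq
  set N := Subgroup.normalizer (U : Set G) with hN
  have hz' : q * z * q⁻¹ = z := by
    rw [hq, hzdef, Commute.zpow_zpow_self a _ _, mul_inv_cancel_right]
  have hzs : z * (a ^ i * b) = a ^ ((2 : ℤ) ^ (k' + 1) + i) * b := by
    rw [hzdef, ← mul_assoc, ← zpow_add]
  have hs : q * (a ^ i * b) * q⁻¹ = z * (a ^ i * b) := by
    rw [hq, hzs, conj_rot h, pow_succ]; congr 2; ring
  have hfix : ∀ n ∈ N, n * z * n⁻¹ = z := by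
    intro n hn
    rcases (hiff _).1 ((Subgroup.mem_normalizer_iff.1 hn z).1 hzU) with e | e | e | e
    · exact absurd (conj_eq_one_iff.1 e) (z_ne h)
    · exact e
    · exact absurd (isConj_iff.2 ⟨n, e⟩) (hz i)
    · exact absurd (isConj_iff.2 ⟨n, e.trans hzs⟩) (hz _)
  have hcen : ∀ n ∈ N, n * (a ^ i * b) * n⁻¹ = a ^ i * b →
      n ∈ Subgroup.centralizer (U : Set G) := by
    intro n hn e
    refine Subgroup.mem_centralizer_iff.2 fun u hu => ?_
    have key : n * u * n⁻¹ = u := by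
      rcases (hiff u).1 hu with rfl | rfl | rfl | rfl
      · simp
      · exact hfix n hn
      · exact e
      · calc n * (z * (a ^ i * b)) * n⁻¹ = (n * z * n⁻¹) * (n * (a ^ i * b) * n⁻¹) := by group
          _ = _ := by rw [hfix n hn, e]
    exact (mul_inv_eq_iff_eq_mul.1 key).symm
  have hqN : q ∈ (S : Subgroup G) ⊓ N := by
    refine ⟨zpow_mem h _, Subgroup.mem_normalizer_iff_map_conj_eq.2
      (Subgroup.eq_of_le_of_card_ge ?_ ?_)⟩
    · rintro _ ⟨w, hw, rfl⟩
      change MulAut.conj q w ∈ U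
      rcases (hiff w).1 hw with rfl | rfl | rfl | rfl
      · rw [map_one]; exact one_mem _
      · rw [MulAut.conj_apply, hz']; exact hzU
      · rw [MulAut.conj_apply, hs]; exact (hiff _).2 (Or.inr (Or.inr (Or.inr rfl)))
      · rw [map_mul, MulAut.conj_apply, MulAut.conj_apply, hz', hs, ← mul_assoc, hzdef, z_sq h,
          one_mul]
        exact (hiff _).2 (Or.inr (Or.inr (Or.inl rfl)))
    · rw [← Nat.card_congr (U.equivMapOfInjective (MulAut.conj q : G →* G)
        (MulAut.conj q).injective).toEquiv]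
  refine le_antisymm (fun n hn => ?_) (sup_le KleinAutomizer.le_normalizer inf_le_right)
  rcases (hiff _).1 ((Subgroup.mem_normalizer_iff.1 hn _).1
      ((hiff (a ^ i * b)).2 (Or.inr (Or.inr (Or.inl rfl))))) with e | e | e | e
  · exact absurd (conj_eq_one_iff.1 e) (refl_ne_one h i)
  · exact absurd (isConj_iff.2 ⟨n, e⟩).symm (hz i)
  · exact Subgroup.mem_sup_left (hcen n hn e)
  · have h1 : n * q⁻¹ ∈ Subgroup.centralizer (U : Set G) := by
      have hnq : n * q⁻¹ ∈ N := N.mul_mem hn (N.inv_mem hqN.2)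
      refine hcen _ hnq ?_
      have hs2 : q⁻¹ * (a ^ i * b) * q = z * (a ^ i * b) := by
        have e1 : q⁻¹ * (z * (a ^ i * b)) * q = a ^ i * b := by rw [← hs]; group
        have e2 : z * (q⁻¹ * (a ^ i * b) * q) = a ^ i * b := by
          conv_rhs => rw [← e1]
          rw [hq, hzdef]
          group
        calc q⁻¹ * (a ^ i * b) * q = z * (z * (q⁻¹ * (a ^ i * b) * q)) := by
              rw [← mul_assoc z z, hzdef, z_sq h, one_mul]
          _ = _ := by rw [e2]
      calc n * q⁻¹ * (a ^ i * b) * (n * q⁻¹)⁻¹ = n * (q⁻¹ * (a ^ i * b) * q) * n⁻¹ := by group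
        _ = (n * z * n⁻¹) * (n * (a ^ i * b) * n⁻¹) := by rw [hs2]; group
        _ = a ^ i * b := by rw [hfix n hn, e, ← mul_assoc, hzdef, z_sq h, one_mul]
    have := Subgroup.mul_mem_sup h1 hqN
    rwa [inv_mul_cancel_right] at this

/-- With a normal 2-complement the two classes of reflections stay apart. -/
theorem refl_not_conj (hnpc : Cfsg.HasNormalPComplement 2 G) :
    ¬ IsConj (a ^ (0 : ℤ) * b) (a ^ (1 : ℤ) * b) := by
  haveI : Fact (Nat.Prime 2) := ⟨Nat.prime_two⟩
  intro hc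
  obtain ⟨c, hc⟩ := isConj_iff.1 hc
  obtain ⟨s, hs, hsu⟩ := commute_of_complement
    (CfsgLib.Fusion.Basic.npc_subgroup hnpc ⊤) S le_top (Subgroup.mem_top c)
  have he := hsu _ (refl_mem h 0) (by rw [hc]; exact refl_mem h 1)
  rw [hc] at he
  have hev : ∀ j : ℤ, a ^ (1 : ℤ) * b = a ^ (2 * j) * b → False := fun j e => by
    have e1 : a ^ (2 * j - 1) = 1 := by
      rw [zpow_sub, ← mul_right_cancel e, mul_inv_cancel]
    rw [zpow_eq_one h] at e1
    have := (dvd_pow_self (2 : ℤ) (Nat.succ_ne_zero k)).trans e1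
    omega
  rcases h.cases s hs with ⟨j, rfl⟩ | ⟨j, rfl⟩
  · rw [conj_rot h, zero_add] at he; exact hev j he
  · rw [refl_conj h, sub_zero] at he; exact hev j he

/-- A normal subgroup of index four separates the central involution from the reflections. -/
theorem unfused_of_index_four (hk : 1 ≤ k) {N : Subgroup G} (hN : N.Normal) (hidx : N.index = 4)
    (i : ℤ) : ¬ IsConj (a ^ ((2 : ℤ) ^ k)) (a ^ i * b) := by
  haveI : Fact (Nat.Prime 2) := ⟨Nat.prime_two⟩
  intro hc
  obtain ⟨c, hc⟩ := isConj_iff.1 hc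
  haveI := hN
  have hcomm : ∀ x y : G, QuotientGroup.mk' N x * QuotientGroup.mk' N y =
      QuotientGroup.mk' N y * QuotientGroup.mk' N x := by
    have h4 : Nat.card (G ⧸ N) = 2 ^ 2 := hidx
    haveI := IsPGroup.isMulCommutative_of_card_eq_prime_sq h4
    exact fun x y => mul_comm' _ _
  have ha2 : a ^ (2 : ℤ) ∈ N := by
    rw [← QuotientGroup.eq_one_iff]
    show QuotientGroup.mk' N (a ^ (2 : ℤ)) = 1
    have h1 : QuotientGroup.mk' N (b * a * b⁻¹) = QuotientGroup.mk' N a := by
      rw [map_mul, map_mul, map_inv, hcomm b a, mul_inv_cancel_right]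
    rw [h.conj, map_inv] at h1
    rw [zpow_two, map_mul]
    nth_rewrite 1 [← h1]
    rw [inv_mul_cancel]
  have hzN : a ^ ((2 : ℤ) ^ k) ∈ N := by
    obtain ⟨k', rfl⟩ : ∃ k', k = k' + 1 := Nat.exists_eq_add_one.2 hk
    rw [pow_succ', zpow_mul]
    exact N.zpow_mem ha2 _
  have hiN : a ^ i * b ∈ N := hc ▸ hN.conj_mem _ hzN c
  -- then `S ∩ N` is too big
  have hle : (S : Subgroup G) ≤ N ⊔ Subgroup.zpowers a := by
    intro x hx
    have hb : b ∈ N ⊔ Subgroup.zpowers a := by
      have := Subgroup.mul_mem _ ((N ⊔ Subgroup.zpowers a).inv_mem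
        (Subgroup.mem_sup_right (Subgroup.zpow_mem_zpowers a i))) (Subgroup.mem_sup_left hiN)
      rwa [inv_mul_cancel_left] at this
    rcases h.cases x hx with ⟨j, rfl⟩ | ⟨j, rfl⟩
    · exact Subgroup.mem_sup_right (Subgroup.zpow_mem_zpowers a j)
    · exact Subgroup.mul_mem _ (Subgroup.mem_sup_right (Subgroup.zpow_mem_zpowers a j)) hb
  have hK : N ⊔ Subgroup.zpowers a = ⊤ := by
    rw [← Subgroup.index_eq_one]
    have h1 : (N ⊔ Subgroup.zpowers a).index ∣ 2 ^ 2 :=
      (Subgroup.index_dvd_of_le le_sup_left).trans (dvd_of_eq hidx)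
    have h2 : ¬ 2 ∣ (N ⊔ Subgroup.zpowers a).index := fun h2 =>
      S.not_dvd_index (h2.trans (Subgroup.index_dvd_of_le hle))
    exact Nat.Coprime.eq_one_of_dvd
      ((Nat.prime_two.coprime_iff_not_dvd.2 h2).symm.pow_right 2) h1
  -- the quotient would be cyclic of order dividing two
  have hq : ∀ g : G ⧸ N, g ∈ Subgroup.zpowers (QuotientGroup.mk' N a) := by
    intro g
    obtain ⟨x, rfl⟩ := QuotientGroup.mk'_surjective N g
    have hx : QuotientGroup.mk' N x ∈ (N ⊔ Subgroup.zpowers a).map (QuotientGroup.mk' N) := by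
      rw [hK]; exact Subgroup.mem_map_of_mem _ trivial
    rw [Subgroup.map_sup, MonoidHom.map_zpowers, (Subgroup.map_eq_bot_iff N).2
      (le_of_eq (QuotientGroup.ker_mk' N).symm), bot_sup_eq] at hx
    exact hx
  have h4 : Nat.card (G ⧸ N) = 4 := hidx
  have hord := orderOf_eq_card_of_forall_mem_zpowers hq
  have hdvd : orderOf (QuotientGroup.mk' N a) ∣ 2 := orderOf_dvd_of_pow_eq_one (by
    rw [← map_pow, ← zpow_natCast]
    exact (QuotientGroup.eq_one_iff _).2 ha2)
  rw [hord, h4] at hdvd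
  omega

end Helpers

/-- Let G be a finite group whose Sylow 2-subgroups are dihedral of order 2 ^ n with n ≥ 3, and count the conjugacy classes of involutions of G. Then exactly one of the following holds: there is one class of involutions and no normal subgroup of index 2; there are two classes of involutions, a normal subgroup of index 2 and none of index 4; there are three classes of involutions and G has a normal 2-complement. -/
theorem result {G : Type*} [Group G] [Finite G] (P : Sylow 2 G) (n : ℕ) (hn : 3 ≤ n) (hdih : Nonempty (↥(P : Subgroup G) ≃* DihedralGroup (2 ^ (n - 1)))) : (Nat.card {C : ConjClasses G // ∃ g : G, ConjClasses.mk g = C ∧ orderOf g = 2} = 1 ∧ ∀ N : Subgroup G, N.Normal → N.index ≠ 2) ∨ (Nat.card {C : ConjClasses G // ∃ g : G, ConjClasses.mk g = C ∧ orderOf g = 2} = 2 ∧ (∃ N : Subgroup G, N.Normal ∧ N.index = 2) ∧ ∀ N : Subgroup G, N.Normal → N.index ≠ 4) ∨ (Nat.card {C : ConjClasses G // ∃ g : G, ConjClasses.mk g = C ∧ orderOf g =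 2} = 3 ∧ Cfsg.HasNormalPComplement 2 G) := by
  classical
  obtain ⟨e⟩ := hdih
  obtain ⟨a, b, k, h, hm, -⟩ := CfsgLib.Involution.DihedralSylow.exists_gen P (2 ^ (n - 1))
    (le_trans (show 2 ≤ 2 ^ 1 by norm_num) (Nat.pow_le_pow_right two_pos (by omega))) e
  have hk : 1 ≤ k := by
    have := Nat.pow_right_injective le_rfl hm
    omega
  set z := a ^ ((2 : ℤ) ^ k) with hz
  have hunf : ∀ (hz0 : ¬ IsConj z (a ^ (0 : ℤ) * b)) (hz1 : ¬ IsConj z (a ^ (1 : ℤ) * b)) (i : ℤ),
      ¬ IsConj z (a ^ i * b) := by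
    intro hz0 hz1 i hc
    rcases refl_parity h i with h' | h'
    · exact hz0 (hc.trans h')
    · exact hz1 (hc.trans h')
  by_cases hno : ∀ H : Subgroup G, H.index ≠ 2
  · refine Or.inl ⟨?_, fun N _ => hno N⟩
    refine card_of_reps (fun _ : Fin 1 => z) (fun _ => z_orderOf h) (fun w hw => ⟨0, ?_⟩)
      (fun i j _ => Subsingleton.elim i j)
    exact all_conj_of_no_index_two h hno z w (z_orderOf h) hw
  push Not at hno
  obtain ⟨H, hH⟩ := hno
  have hnall : ¬ ∀ x y : G, orderOf x = 2 → orderOf y = 2 → IsConj x y := fun hall =>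
    no_index_two_of_all_conj h hall H hH
  have hH' : ∃ N : Subgroup G, N.Normal ∧ N.index = 2 :=
    ⟨H, Subgroup.normal_of_index_eq_two hH, hH⟩
  by_cases h0 : IsConj z (a ^ (0 : ℤ) * b) <;> by_cases h1 : IsConj z (a ^ (1 : ℤ) * b)
  · exfalso
    refine hnall fun x y hx hy => ?_
    have key : ∀ w : G, orderOf w = 2 → IsConj z w := fun w hw => by
      rcases cover h hw with c | c | c
      exacts [c, h0.trans c, h1.trans c]
    exact (key x hx).symm.trans (key y hy)
  · refine Or.inr (Or.inl ⟨?_, hH', fun N hN hidx => unfused_of_index_four h hk hN hidx 0 h0⟩)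
    refine card_of_reps ![z, a ^ (1 : ℤ) * b]
      (fun i => by fin_cases i <;> first | exact z_orderOf h | exact refl_orderOf h 1) (fun w hw => ?_)
      (fun i j hc => ?_)
    · rcases cover h hw with c | c | c
      exacts [⟨0, c⟩, ⟨0, h0.trans c⟩, ⟨1, c⟩]
    · fin_cases i <;> fin_cases j <;> first | rfl | exact absurd hc h1 | exact absurd hc.symm h1
  · refine Or.inr (Or.inl ⟨?_, hH', fun N hN hidx => unfused_of_index_four h hk hN hidx 1 h1⟩)
    refine card_of_reps ![z, a ^ (0 : ℤ) * b]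
      (fun i => by fin_cases i <;> first | exact z_orderOf h | exact refl_orderOf h 0) (fun w hw => ?_)
      (fun i j hc => ?_)
    · rcases cover h hw with c | c | c
      exacts [⟨0, c⟩, ⟨1, c⟩, ⟨0, h1.trans c⟩]
    · fin_cases i <;> fin_cases j <;> first | rfl | exact absurd hc h0 | exact absurd hc.symm h0
  · have hnpc := npc_of_unfused h hk (hunf h0 h1)
    have h01 := refl_not_conj h hnpc
    refine Or.inr (Or.inr ⟨?_, hnpc⟩)
    refine card_of_reps ![z, a ^ (0 : ℤ) * b, a ^ (1 : ℤ) * b]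
      (fun i => by
        fin_cases i <;> first | exact z_orderOf h | exact refl_orderOf h 0 | exact refl_orderOf h 1)
      (fun w hw => ?_) (fun i j hc => ?_)
    · rcases cover h hw with c | c | c
      exacts [⟨0, c⟩, ⟨1, c⟩, ⟨2, c⟩]
    · fin_cases i <;> fin_cases j <;> first
        | rfl | exact absurd hc h0 | exact absurd hc.symm h0 | exact absurd hc h1
        | exact absurd hc.symm h1 | exact absurd hc h01 | exact absurd hc.symm h01

end Cfsg.Agent.S3864
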