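import Cfsg.Statements.S3865
import Cfsg.Agent.Lib.PGroup.MaxClassUniformFusion
import Cfsg.Agent.Lib.Solvable.Cores
-- import your own Cfsg.Agent.* helpers here

set_option autoImplicit false
set_option linter.style.haveILetI false
open Cfsg

namespace Cfsg.Agent.S3865

open Subgroup CfsgLib.PGroup.MaxClassPower CfsgLib.Fusion
open scoped commutatorElement

variable {G : Type*} [Group G] [Finite G] {p : ℕ} [hp : Fact p.Prime]

/-- A normal subgroup meeting `P` in at least `p ^ 2` elements gives the centraliser. -/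
theorem exists_small {n : ℕ} (P : Sylow p G) (h : IsMax P p n) (M : Subgroup G) [M.Normal]
    (hPM : ¬ (P : Subgroup G) ≤ M) (hQ2 : p ^ 2 ≤ Nat.card (M.subgroupOf (P : Subgroup G))) :
    ∃ x ∈ (P : Subgroup G), (Nat.card (centralizer ({x} : Set G))).factorization p = 2 := by
  set Q := M.subgroupOf (P : Subgroup G) with hQ
  have hQne : Q ≠ ⊤ := fun e => hPM (subgroupOf_eq_top.1 e)
  obtain ⟨s, hs, hsA⟩ := h.exists_uniform_avoiding (h.sup_L1_ne_top hQne) le_sup_right
  have hsM : (s : G) ∉ M := fun e => hsA (mem_sup_left (show s ∈ Q from e))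
  have key : ∀ (A : Set G) (w : G), Alperin.Chain P A w →
      (∀ a ∈ A, ∃ u : P, (u : G) = a ∧ Good u (n - 3) ∧ (u : G) ∉ M) →
      ∀ a ∈ A, ∃ u : P, (u : G) = w⁻¹ * a * w ∧ Good u (n - 3) ∧ (u : G) ∉ M := by
    intro A w hw
    induction hw with
    | nil A _ => intro hA a ha; simpa using hA a ha
    | cons A R x g _ hx hAR _ ih =>
      intro hA a ha
      have hA' : ∀ b ∈ (fun a => x⁻¹ * a * x) '' A, ∃ u : P, (u : G) = b ∧ Good u (n - 3) ∧ (u : G) ∉ M := by
        rintro _ ⟨b, hb, rfl⟩
        obtain ⟨u, rfl, hu, huM⟩ := hA b hb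
        exact good_step P h M hQ2 R hx hu huM (hAR hb).2
      obtain ⟨u, hu, hu'⟩ := ih hA' _ ⟨a, ha, rfl⟩
      exact ⟨u, by rw [hu]; group, hu'⟩
  refine ⟨s, s.2, ?_⟩
  set C := centralizer ({(s : G)} : Set G) with hC
  obtain ⟨T⟩ : Nonempty (Sylow p C) := inferInstance
  have hT : Nat.card (T : Subgroup C) = p ^ (Nat.card C).factorization p := T.card_eq_multiplicity
  set sC : C := ⟨s, mem_centralizer_singleton_iff.2 rfl⟩ with hsC
  haveI : (zpowers sC).Normal := by
    refine ⟨fun z hz c => ?_⟩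
    obtain ⟨i, rfl⟩ := mem_zpowers_iff.1 hz
    have hc : Commute c sC := Subtype.ext (mem_centralizer_singleton_iff.1 c.2)
    rw [(hc.zpow_right i).eq, mul_inv_cancel_right]
    exact zpow_mem (mem_zpowers _) _
  have hsP : IsPGroup p (zpowers sC) := by
    obtain ⟨e, he⟩ := h.isPGroup s
    rintro ⟨z, hz⟩
    obtain ⟨i, rfl⟩ := mem_zpowers_iff.1 hz
    have he' : sC ^ p ^ e = 1 := Subtype.ext (by
      rw [SubmonoidClass.coe_pow]; exact congrArg (fun z : P => (z : G)) he)
    exact ⟨e, Subtype.ext (by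
      rw [SubmonoidClass.coe_pow]; show (sC ^ i) ^ p ^ e = 1
      rw [← zpow_natCast, ← zpow_mul, mul_comm, zpow_mul, zpow_natCast, he', one_zpow])⟩
  have hsT : sC ∈ (T : Subgroup C) :=
    (T.is_maximal' (T.isPGroup'.to_sup_of_normal_right hsP) le_sup_left).le
      (mem_sup_right (mem_zpowers sC))
  obtain ⟨R, hR⟩ := (T.isPGroup'.map C.subtype).exists_le_sylow
  obtain ⟨g, hg⟩ := MulAction.exists_smul_eq G R P
  have hgP : ∀ t ∈ (R : Subgroup G), g * t * g⁻¹ ∈ (P : Subgroup G) := fun t ht => by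
    rw [← hg]; exact Subgroup.smul_mem_pointwise_smul _ (MulAut.conj g) _ ht
  have hys : g * (s : G) * g⁻¹ ∈ (P : Subgroup G) := hgP _ (hR ⟨sC, hsT, rfl⟩)
  have hch := Alperin.chain_of_conj P {(s : G)} g⁻¹ (Set.singleton_subset_iff.mpr s.2)
    (by rw [Set.image_singleton, inv_inv]; exact Set.singleton_subset_iff.mpr hys)
  obtain ⟨y, hy, hyg, -⟩ := key _ _ hch (fun a ha => ⟨s, (Set.mem_singleton_iff.1 ha).symm, hs, hsM⟩) _ rfl
  rw [inv_inv] at hy
  let f : ↥(T : Subgroup C) → ↥(centralizer ({y} : Set P)) := fun t =>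
    ⟨⟨g * ((t : C) : G) * g⁻¹, hgP _ (hR ⟨t, t.2, rfl⟩)⟩, mem_centralizer_singleton_iff.2 (Subtype.ext (by
      show g * ((t : C) : G) * g⁻¹ * (y : G) = (y : G) * (g * ((t : C) : G) * g⁻¹)
      rw [hy]
      calc g * ((t : C) : G) * g⁻¹ * (g * (s : G) * g⁻¹) = g * (((t : C) : G) * s) * g⁻¹ := by group
        _ = g * ((s : G) * (t : C)) * g⁻¹ := by rw [mem_centralizer_singleton_iff.1 (t : C).2]
        _ = _ := by group))⟩
  have hf : Function.Injective f := fun a b e => by
    have := congrArg (fun z : ↥(centralizer ({y} : Set P)) => ((z : P) : G)) e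
    exact Subtype.ext (Subtype.ext (by simpa [f] using this))
  have hle := (Nat.card_le_card_of_injective f hf).trans (h.card_centralizer_le hyg)
  rw [hT] at hle
  have hge : p ^ 2 ≤ p ^ (Nat.card C).factorization p := by
    refine (h.sq_le_card_centralizer hs).trans ?_
    set S := (centralizer ({s} : Set P)).map (P : Subgroup G).subtype with hS
    have hSC : S ≤ C := by
      rintro _ ⟨z, hz, rfl⟩
      exact mem_centralizer_singleton_iff.2 (congrArg (fun w : P => (w : G)) (mem_centralizer_singleton_iff.1 hz))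
    obtain ⟨j, hj⟩ := IsPGroup.iff_card.1 (h.isPGroup.to_subgroup (centralizer ({s} : Set P)))
    have hd := Subgroup.card_dvd_of_le hSC
    rw [Subgroup.card_map_of_injective Subtype.val_injective, hj] at hd
    rw [hj]
    exact Nat.pow_le_pow_right hp.out.pos ((hp.out.pow_dvd_iff_le_factorization Nat.card_pos.ne').1 hd)
  exact le_antisymm ((Nat.pow_le_pow_iff_right hp.out.one_lt).1 hle)
    ((Nat.pow_le_pow_iff_right hp.out.one_lt).1 hge)

/-- A normal subgroup meeting `P` in at most `p` elements is central of order at most `p`. -/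
theorem le_center_of_small {n : ℕ} (P : Sylow p G) (h : IsMax P p n) (hcore : Cfsg.pPrimeCore p G = ⊥)
    (hres : ∀ N : Subgroup G, N.Normal → (N.index).Coprime p → N = ⊤) (M : Subgroup G) [M.Normal]
    (hQ : Nat.card (M.subgroupOf (P : Subgroup G)) ≤ p) :
    M ≤ Subgroup.center G ∧ Nat.card M ≤ p := by
  have hm := h.three_le
  set Q := M.subgroupOf (P : Subgroup G) with hQdef
  -- the Sylow subgroups of `M` are conjugate into `P ⊓ M`
  have hsyl : ∀ R : Sylow p M, Nat.card (R : Subgroup M) ≤ Nat.card Q := by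
    intro R
    obtain ⟨S, hS⟩ := (R.isPGroup'.map M.subtype).exists_le_sylow
    obtain ⟨g, hg⟩ := MulAction.exists_smul_eq G S P
    have hgP : ∀ t ∈ (S : Subgroup G), g * t * g⁻¹ ∈ (P : Subgroup G) := fun t ht => by
      rw [← hg]; exact Subgroup.smul_mem_pointwise_smul _ (MulAut.conj g) _ ht
    let f : ↥(R : Subgroup M) → ↥Q := fun r => ⟨⟨g * ((r : M) : G) * g⁻¹, hgP _ (hS ⟨r, r.2, rfl⟩)⟩,
      ‹M.Normal›.conj_mem _ (r : M).2 g⟩
    have hf : Function.Injective f := fun a b e => by
      have := congrArg (fun z : Q => ((z : P) : G)) e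
      exact Subtype.ext (Subtype.ext (by simpa [f] using this))
    exact Nat.card_le_card_of_injective f hf
  by_cases hQb : Q = ⊥
  · have hcop : (Nat.card M).Coprime p := by
      refine (hp.out.coprime_iff_not_dvd.2 fun hd => ?_).symm
      obtain ⟨R⟩ : Nonempty (Sylow p M) := inferInstance
      have h1 := hsyl R
      rw [hQb, Subgroup.card_bot] at h1
      exact R.ne_bot_of_dvd_card hd (Subgroup.eq_bot_of_card_le _ h1)
    have hM : M = ⊥ := le_bot_iff.1 (hcore ▸ CfsgLib.Solvable.Cores.le_pPrimeCore hcop)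
    rw [hM]
    exact ⟨bot_le, by rw [Subgroup.card_bot]; exact hp.out.one_lt.le⟩
  -- now `Q` is the centre of `P`
  have hQp : Nat.card Q = p := by
    obtain ⟨j, hj⟩ := IsPGroup.iff_card.1 (h.isPGroup.to_subgroup Q)
    rcases Nat.eq_zero_or_pos j with rfl | hj0
    · exact absurd (Subgroup.card_eq_one.1 (by simpa using hj)) hQb
    · exact le_antisymm hQ (hj ▸ Nat.le_self_pow hj0.ne' p)
  have hQ1 : Q ≤ (⊤ : Subgroup P).lowerCentralSeries 1 := by
    rcases h.normal_le_or Q with h1 | h1
    · exact h1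
    · refine (Subgroup.eq_of_le_of_card_ge h1 ?_).ge
      rw [hQp, h.card_L le_rfl (by omega)]
      exact Nat.le_self_pow (by omega) p
  obtain ⟨s, hs⟩ := h.exists_uniform
  obtain ⟨i, hi1, him, hi⟩ := h.eq_L_of_invariant hs hQ1 fun y hy => by
    rw [commutatorElement_def, mul_assoc, mul_assoc]
    refine Q.mul_mem hy ?_
    rw [← mul_assoc]
    exact (inferInstance : Q.Normal).conj_mem _ (Q.inv_mem hy) s
  have hi2 : i = n - 2 := by
    rw [hi, h.card_L hi1 him] at hQp
    have := Nat.pow_right_injective hp.out.two_le (hQp.trans (pow_one p).symm)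
    omega
  subst hi2
  set Z := Q.map (P : Subgroup G).subtype with hZ
  have hZM : Z ≤ M := by rintro _ ⟨z, hz, rfl⟩; exact hz
  have hPZ : (P : Subgroup G) ≤ centralizer (Z : Set G) := by
    intro a ha
    rw [mem_centralizer_iff]
    rintro _ ⟨z, hz, rfl⟩
    exact congrArg (fun w : P => (w : G)) ((h.central_top (hi.le hz)).2 ⟨a, ha⟩).eq
  have hMC : ∀ t ∈ M, t ∈ normalizer (Z : Set G) → t ∈ centralizer (Z : Set G) := by
    intro t ht htn
    set C := M ⊓ centralizer (Z : Set G) with hC
    set W := C ⊔ (P : Subgroup G) with hW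
    have hPC : ∀ a ∈ (P : Subgroup G), a ∈ normalizer (C : Set G) := by
      intro a ha
      have hc : ∀ b ∈ (P : Subgroup G), ∀ c ∈ C, b * c * b⁻¹ ∈ C := fun b hb c hc =>
        ⟨‹M.Normal›.conj_mem _ hc.1 b,
          (centralizer (Z : Set G)).mul_mem ((centralizer (Z : Set G)).mul_mem (hPZ hb) hc.2)
            ((centralizer (Z : Set G)).inv_mem (hPZ hb))⟩
      rw [mem_normalizer_iff]
      exact fun c => ⟨hc a ha c, fun hc' => by simpa [mul_assoc] using hc a⁻¹ (inv_mem ha) _ hc'⟩
    have htP : ∀ a ∈ (P : Subgroup G), t * a * t⁻¹ ∈ W := by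
      intro a ha
      rw [show t * a * t⁻¹ = (t * a * t⁻¹ * a⁻¹) * a by group]
      refine mul_mem (mem_sup_left ⟨?_, ?_⟩) (mem_sup_right ha)
      · rw [show t * a * t⁻¹ * a⁻¹ = t * (a * t⁻¹ * a⁻¹) by group]
        exact mul_mem ht (‹M.Normal›.conj_mem _ (inv_mem ht) a)
      · have h1 : t * a * t⁻¹ ∈ centralizer (Z : Set G) := by
          rw [mem_centralizer_iff]
          intro z hz
          have hz' : t⁻¹ * z * t ∈ Z := by simpa using (mem_normalizer_iff.1 (inv_mem htn) z).1 hz
          have := mem_centralizer_iff.1 (hPZ ha) _ hz'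
          calc z * (t * a * t⁻¹) = t * (t⁻¹ * z * t * a) * t⁻¹ := by group
            _ = t * (a * (t⁻¹ * z * t)) * t⁻¹ := by rw [this]
            _ = t * a * t⁻¹ * z := by group
        exact (centralizer (Z : Set G)).mul_mem h1 ((centralizer (Z : Set G)).inv_mem (hPZ ha))
    have hle : (((t • P : Sylow p G)) : Subgroup G) ≤ W := by
      rintro _ ⟨a, ha, rfl⟩
      exact htP a ha
    obtain ⟨w, hw⟩ := MulAction.exists_smul_eq W ((t • P : Sylow p G).subtype hle) (P.subtype le_sup_right)
    rw [Sylow.smul_subtype] at hw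
    have hw' : ((w : W) : G) • (t • P : Sylow p G) = P := Sylow.subtype_injective hw
    have hwn : (w : G) * t ∈ normalizer ((P : Subgroup G) : Set G) :=
      Sylow.smul_eq_iff_mem_normalizer.mp (by rw [mul_smul]; exact hw')
    have hwW : (w : G) ∈ (((P : Subgroup G) ⊔ C : Subgroup G) : Set G) := by rw [sup_comm]; exact w.2
    rw [Subgroup.coe_mul_of_left_le_normalizer_right _ _ hPC] at hwW
    obtain ⟨a, ha, c, hc, hac⟩ := hwW
    have hnn : c * t ∈ normalizer ((P : Subgroup G) : Set G) := by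
      have := mul_mem (inv_mem (Subgroup.le_normalizer (H := (P : Subgroup G)) ha)) hwn
      rwa [← hac, show a⁻¹ * (a * c * t) = c * t by group] at this
    -- `c * t` centralises the derived group of `P`
    have hnD : ((⊤ : Subgroup P).lowerCentralSeries 1).map (P : Subgroup G).subtype ≤ centralizer {c * t} := by
      rw [Subgroup.map_le_iff_le_comap, Subgroup.lowerCentralSeries_succ, Subgroup.lowerCentralSeries_zero,
        commutator_le]
      intro a _ b _
      have hfix : ∀ a : P, ∃ q ∈ Q, c * t * (a : G) * (c * t)⁻¹ = (q : G) * a := by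
        intro a
        have h1 : c * t * (a : G) * (c * t)⁻¹ ∈ (P : Subgroup G) := (mem_normalizer_iff.1 hnn _).1 a.2
        refine ⟨⟨c * t * (a : G) * (c * t)⁻¹ * (a : G)⁻¹, mul_mem h1 (inv_mem a.2)⟩, ?_, by simp⟩
        show c * t * (a : G) * (c * t)⁻¹ * (a : G)⁻¹ ∈ M
        rw [show c * t * (a : G) * (c * t)⁻¹ * (a : G)⁻¹ = c * t * ((a : G) * (c * t)⁻¹ * (a : G)⁻¹) by group]
        exact mul_mem (mul_mem hc.1 ht) (‹M.Normal›.conj_mem _ (inv_mem (mul_mem hc.1 ht)) _)
      obtain ⟨q, hq, hqa⟩ := hfix a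
      obtain ⟨r, hr, hrb⟩ := hfix b
      have hqc := (h.central_top (hi.le hq)).2
      have hrc := (h.central_top (hi.le hr)).2
      have e : ⁅q * a, r * b⁆ = ⁅a, b⁆ := by
        simp only [commutatorElement_def, mul_inv_rev]
        calc q * a * (r * b) * (a⁻¹ * q⁻¹) * (b⁻¹ * r⁻¹)
            = q * (a * r) * b * a⁻¹ * (q⁻¹ * b⁻¹) * r⁻¹ := by group
          _ = q * (r * a) * b * a⁻¹ * (b⁻¹ * q⁻¹) * r⁻¹ := by
              rw [(hrc a).eq, (show Commute q⁻¹ b⁻¹ from (hqc b).inv_inv).eq]
          _ = (q * r) * (a * b * a⁻¹ * b⁻¹) * (q * r)⁻¹ * (q * r * q⁻¹ * r⁻¹) := by group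
          _ = _ := by
              rw [((hqc (a * b * a⁻¹ * b⁻¹)).mul_left (hrc _)).eq, mul_inv_cancel_right, (hqc r).eq]
              group
      show (P : Subgroup G).subtype ⁅a, b⁆ ∈ centralizer {c * t}
      rw [mem_centralizer_singleton_iff, map_commutatorElement]
      refine (mul_inv_eq_iff_eq_mul.1 ?_).symm
      show c * t * ⁅(a : G), (b : G)⁆ * (c * t)⁻¹ = ⁅(a : G), (b : G)⁆
      rw [← MulAut.conj_apply, map_commutatorElement, MulAut.conj_apply, MulAut.conj_apply, hqa, hrb]
      exact congrArg (fun w : P => (w : G)) e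
    rw [mem_centralizer_iff]
    intro z hz
    obtain ⟨z', hz', rfl⟩ := hz
    have h1 := mem_centralizer_singleton_iff.1 (hnD ⟨z', hQ1 hz', rfl⟩)
    have h2 := mem_centralizer_iff.1 hc.2 _ ⟨z', hz', rfl⟩
    refine mul_left_cancel (a := c) ?_
    rw [← mul_assoc, ← h2, mul_assoc, h1, mul_assoc]
  -- Burnside
  have hZp : Nat.card Z = p := by rw [hZ, Subgroup.card_map_of_injective Subtype.val_injective, hQp]
  obtain ⟨R', hR'⟩ : ∃ R : Sylow p M, (R : Subgroup M) = Z.subgroupOf M := by
    obtain ⟨R, hR⟩ := (IsPGroup.of_card (n := 1) (by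
      rw [Nat.card_congr (Subgroup.subgroupOfEquivOfLe hZM).toEquiv, hZp, pow_one]) :
        IsPGroup p (Z.subgroupOf M)).exists_le_sylow
    refine ⟨R, (Subgroup.eq_of_le_of_card_ge hR ?_).symm⟩
    rw [Nat.card_congr (Subgroup.subgroupOfEquivOfLe hZM).toEquiv, hZp]
    exact (hsyl R).trans hQ
  have hnc : normalizer ((R' : Subgroup M) : Set M) ≤ centralizer ((R' : Subgroup M) : Set M) := by
    intro t ht
    rw [hR'] at ht ⊢
    have htn : (t : G) ∈ normalizer (Z : Set G) := by
      rw [mem_normalizer_iff] at ht ⊢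
      intro z
      by_cases hzM : z ∈ M
      · exact ht ⟨z, hzM⟩
      · refine ⟨fun hz => absurd (hZM hz) hzM, fun hz => absurd ?_ hzM⟩
        simpa [mul_assoc] using mul_mem (mul_mem (inv_mem t.2) (hZM hz)) t.2
    exact mem_centralizer_iff.2 fun z hz =>
      Subtype.ext (mem_centralizer_iff.1 (hMC t t.2 htn) _ hz)
  have hK := MonoidHom.ker_transferSylow_isComplement' R' hnc
  set K := (MonoidHom.transferSylow R' hnc).ker with hKdef
  have hKc : (Nat.card K).Coprime p := by
    rw [← hK.index_eq_card]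
    exact (hp.out.coprime_iff_not_dvd.2 R'.not_dvd_index).symm
  have hKb : K = ⊥ := by
    have h1 : K ≤ Cfsg.pPrimeCore p M := CfsgLib.Solvable.Cores.le_pPrimeCore hKc
    have h2 : ((Cfsg.pPrimeCore p M).map M.subtype) = ⊥ := by
      rw [← le_bot_iff, ← hcore]
      haveI : (Cfsg.pPrimeCore p M).Characteristic := CfsgLib.Solvable.Cores.pPrimeCore_characteristic p
      refine CfsgLib.Solvable.Cores.le_pPrimeCore ?_
      rw [Subgroup.card_map_of_injective Subtype.val_injective]
      exact CfsgLib.Solvable.Cores.coprime_card_pPrimeCore p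
    rw [Subgroup.map_eq_bot_iff_of_injective _ Subtype.val_injective] at h2
    exact le_bot_iff.1 (h2 ▸ h1)
  have hMZ : M = Z := by
    have h1 := hK.card_mul_card
    rw [hKb, Subgroup.card_bot, one_mul, hR', Nat.card_congr (Subgroup.subgroupOfEquivOfLe hZM).toEquiv] at h1
    exact (Subgroup.eq_of_le_of_card_ge hZM h1.ge).symm
  refine ⟨fun z hz => ?_, hMZ ▸ hZp.le⟩
  have hCn : (centralizer (M : Set G)).Normal := inferInstance
  have hC : centralizer (M : Set G) = ⊤ := by
    refine hres _ hCn ((hp.out.coprime_iff_not_dvd.2 fun hd => P.not_dvd_index (hd.trans ?_)).symm)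
    exact Subgroup.index_dvd_of_le (hMZ ▸ hPZ)
  rw [Subgroup.mem_center_iff]
  intro g
  exact (mem_centralizer_iff.1 (hC.ge (mem_top g)) z hz).symm


/-- Let G be a finite group whose Sylow p-subgroup P has order p ^ n with n ≥ 2 and nilpotency class n - 1 (maximal class), whose largest normal subgroup of order prime to p is trivial, and which has no proper normal subgroup of index prime to p. Then either some x ∈ P has a centralizer in G whose order has p-part p ^ 2, or G is quasisimple with centre of order at most p. -/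
theorem result {G : Type*} [Group G] [Finite G] (p : ℕ) [Fact p.Prime] (P : Sylow p G) (n : ℕ) (hP : Nat.card P = p ^ n) (hn : 2 ≤ n) (hmax : Group.nilpotencyClass ↥(P : Subgroup G) = n - 1) (hcore : Cfsg.pPrimeCore p G = ⊥) (hres : ∀ N : Subgroup G, N.Normal → (N.index).Coprime p → N = ⊤) : (∃ x ∈ (P : Subgroup G), (Nat.card (Subgroup.centralizer ({x} : Set G))).factorization p = 2) ∨ (Cfsg.IsQuasisimple G ∧ Nat.card (Subgroup.center G) ≤ p) := by
  rcases Nat.lt_or_ge n 3 with hn3 | hn3
  · obtain rfl : n = 2 := by omega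
    refine Or.inl ⟨1, one_mem _, ?_⟩
    have hc : Subgroup.centralizer ({1} : Set G) = ⊤ := eq_top_iff.2 fun g _ =>
      Subgroup.mem_centralizer_singleton_iff.2 (by simp)
    rw [hc, Subgroup.card_top]
    exact (Nat.pow_right_injective (Fact.out : p.Prime).two_le (hP.symm.trans P.card_eq_multiplicity)).symm
  haveI hnil : Group.IsNilpotent ↥(P : Subgroup G) := P.isPGroup'.isNilpotent
  have h : IsMax P p n := ⟨hP, hn3, fun e => by
    have := Subgroup.lowerCentralSeries_eq_bot_iff_nilpotencyClass_le.1 e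
    omega⟩
  by_cases hbig : ∃ M : Subgroup G, M.Normal ∧ M ≠ ⊤ ∧ p ^ 2 ≤ Nat.card (M.subgroupOf (P : Subgroup G))
  · obtain ⟨M, hMn, hMt, hM2⟩ := hbig
    refine Or.inl (exists_small P h M (fun hle => hMt (hres M hMn ?_)) hM2)
    exact ((Fact.out : p.Prime).coprime_iff_not_dvd.2
      fun hd => P.not_dvd_index (hd.trans (Subgroup.index_dvd_of_le hle))).symm
  push Not at hbig
  right
  have hsmall : ∀ M : Subgroup G, M.Normal → M ≠ ⊤ → M ≤ Subgroup.center G ∧ Nat.card M ≤ p := by
    intro M hMn hMt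
    refine le_center_of_small P h hcore hres M ?_
    obtain ⟨j, hj⟩ := IsPGroup.iff_card.1 (h.isPGroup.to_subgroup (M.subgroupOf (P : Subgroup G)))
    have hlt := hbig M hMn hMt
    rw [hj] at hlt ⊢
    have := (Nat.pow_lt_pow_iff_right (Fact.out : p.Prime).one_lt).1 hlt
    exact (Nat.pow_le_pow_right (Fact.out : p.Prime).pos (show j ≤ 1 by omega)).trans (pow_one p).le
  have hperf : commutator G = ⊤ := by
    by_contra hne
    have hcen := (hsmall _ inferInstance hne).1
    haveI : Group.IsNilpotent G := by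
      haveI : Group.IsNilpotent (G ⧸ commutator G) := CommGroup.isNilpotent (G := Abelianization G)
      exact Subgroup.isNilpotent_of_ker_le_center (QuotientGroup.mk' (commutator G))
        (by rwa [QuotientGroup.ker_mk'])
    have hPn : (P : Subgroup G).Normal :=
      P.normal_of_normalizerCondition normalizerCondition_of_isNilpotent
    have htop : (P : Subgroup G) = ⊤ :=
      hres _ hPn ((Fact.out : p.Prime).coprime_iff_not_dvd.2 P.not_dvd_index).symm
    obtain ⟨s, hs⟩ := h.exists_uniform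
    set E : Subgroup P := (⊤ : Subgroup P).lowerCentralSeries 1 ⊔ Subgroup.zpowers s with hE
    have hEt : E ≠ ⊤ := by
      rw [hE, sup_comm]
      exact h.sup_L1_ne_top fun e => by
        obtain ⟨w, hw⟩ := h.exists_comm_notMem hs.1
        obtain ⟨i, rfl⟩ := Subgroup.mem_zpowers_iff.1 (e.ge (Subgroup.mem_top w))
        rw [commutatorElement_eq_one_iff_mul_comm.2 ((Commute.refl s).zpow_left i).eq] at hw
        exact hw (one_mem _)
    haveI hEn : E.Normal := by
      refine ⟨fun a ha g => ?_⟩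
      rw [show g * a * g⁻¹ = ⁅g, a⁆ * a by simp [commutatorElement_def]]
      exact mul_mem (Subgroup.mem_sup_left (comm_mem_succ (Subgroup.mem_top g :
        g ∈ (⊤ : Subgroup P).lowerCentralSeries 0) a)) ha
    set M := E.map (P : Subgroup G).subtype with hM
    haveI hMn : M.Normal := by
      refine ⟨?_⟩
      rintro _ ⟨a, ha, rfl⟩ g
      exact ⟨_, hEn.conj_mem a ha ⟨g, htop.ge (Subgroup.mem_top g)⟩, rfl⟩
    have hMt : M ≠ ⊤ := fun e => hEt (eq_top_iff.2 fun a _ => by
      obtain ⟨b, hb, hba⟩ := e.ge (Subgroup.mem_top (a : G))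
      rwa [← show b = a from Subtype.ext hba])
    have hlt := hbig M hMn hMt
    have hME : M.subgroupOf (P : Subgroup G) = E := Subgroup.comap_map_eq_self_of_injective Subtype.val_injective E
    rw [hME] at hlt
    have h1 := CfsgLib.Fusion.MaxClass.card_mul_le_of_lt h.isPGroup
      (lt_of_le_not_ge le_sup_left fun e => hs.1 (e (Subgroup.mem_sup_right (Subgroup.mem_zpowers s))) :
        (⊤ : Subgroup P).lowerCentralSeries 1 < E)
    rw [h.card_L le_rfl (by omega), ← pow_succ'] at h1
    have h2 := (Nat.pow_le_pow_right (Fact.out : p.Prime).pos (show 2 ≤ n - 1 - 1 + 1 by omega)).trans h1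
    omega
  have hct : Subgroup.center G ≠ ⊤ := fun e => by
    have : commutator G = ⊥ := by
      rw [_root_.commutator_def, Subgroup.commutator_eq_bot_iff_le_centralizer]
      intro a _
      rw [Subgroup.mem_centralizer_iff]
      exact fun b _ => Subgroup.mem_center_iff.1 (e.ge (Subgroup.mem_top a)) b
    rw [hperf] at this
    have hPc := h.card
    have : Nat.card P = 1 := by
      haveI : Subsingleton G := ⟨fun a b => by
        have ha : a ∈ (⊥ : Subgroup G) := this ▸ Subgroup.mem_top a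
        have hb : b ∈ (⊥ : Subgroup G) := this ▸ Subgroup.mem_top b
        rw [Subgroup.mem_bot.1 ha, Subgroup.mem_bot.1 hb]⟩
      exact Nat.card_of_subsingleton (1 : P)
    rw [this] at hPc
    exact absurd ((Nat.pow_eq_one.1 hPc.symm).resolve_left (Fact.out : p.Prime).ne_one) (by omega)
  refine ⟨⟨⟨hperf⟩, ?_⟩, (hsmall _ inferInstance hct).2⟩
  haveI : Nontrivial (G ⧸ Subgroup.center G) := QuotientGroup.nontrivial_iff.2 hct
  refine ⟨fun N hN => ?_⟩
  by_cases htop : N.comap (QuotientGroup.mk' (Subgroup.center G)) = ⊤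
  · right
    rw [← Subgroup.map_comap_eq_self_of_surjective (QuotientGroup.mk'_surjective _) N, htop,
      Subgroup.map_top_of_surjective _ (QuotientGroup.mk'_surjective _)]
  · left
    have := (hsmall _ inferInstance htop).1
    rw [← Subgroup.map_comap_eq_self_of_surjective (QuotientGroup.mk'_surjective _) N, eq_bot_iff,
      Subgroup.map_le_iff_le_comap, MonoidHom.comap_bot, QuotientGroup.ker_mk']
    exact this

end Cfsg.Agent.S3865
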