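import Cfsg.Statements.S3866
import Cfsg.Agent.Lib.Coprime.SchurZassenhaus
-- import your own Cfsg.Agent.* helpers here

set_option autoImplicit false
open Cfsg

namespace Cfsg.Agent.S3866

/-- Let A be a commutative normal subgroup of the finite group G with G generated by A and an element x. Then a ↦ x a x⁻¹ a⁻¹ is a surjective homomorphism from A onto the commutator subgroup of G whose kernel is the centralizer of x in A; in particular the commutator subgroup has order equal to the index in A of that centralizer. -/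
theorem result {G : Type*} [Group G] [Finite G] (A : Subgroup G) [A.Normal] (hA : IsMulCommutative A) (x : G) (hgen : A ⊔ Subgroup.zpowers x = ⊤) : (∀ a ∈ A, x * a * x⁻¹ * a⁻¹ ∈ commutator G) ∧ (∀ c ∈ commutator G, ∃ a ∈ A, x * a * x⁻¹ * a⁻¹ = c) ∧ (∀ a ∈ A, ∀ b ∈ A, x * (a * b) * x⁻¹ * (a * b)⁻¹ = (x * a * x⁻¹ * a⁻¹) * (x * b * x⁻¹ * b⁻¹)) ∧ Nat.card (commutator G) * Nat.card ↥(A ⊓ Subgroup.centralizer ({x} : Set G)) = Nat.card A := by
  have hcm : ∀ a ∈ A, ∀ b ∈ A, a * b = b * a := fun a ha b hb =>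
    congrArg Subtype.val (hA.is_comm.comm (⟨a, ha⟩ : A) ⟨b, hb⟩)
  have hfA : ∀ a ∈ A, x * a * x⁻¹ * a⁻¹ ∈ A := fun a ha =>
    A.mul_mem (‹A.Normal›.conj_mem a ha x) (A.inv_mem ha)
  have hmul : ∀ a ∈ A, ∀ b ∈ A, x * (a * b) * x⁻¹ * (a * b)⁻¹ = (x * a * x⁻¹ * a⁻¹) * (x * b * x⁻¹ * b⁻¹) := by
    intro a ha b hb
    calc x * (a * b) * x⁻¹ * (a * b)⁻¹ = x * a * x⁻¹ * ((x * b * x⁻¹ * b⁻¹) * a⁻¹) := by group
      _ = x * a * x⁻¹ * (a⁻¹ * (x * b * x⁻¹ * b⁻¹)) := by rw [hcm _ (hfA b hb) _ (A.inv_mem ha)]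
      _ = _ := by group
  let f : A →* G :=
    { toFun := fun a => x * a * x⁻¹ * (a : G)⁻¹
      map_one' := by simp
      map_mul' := fun a b => hmul a a.2 b b.2 }
  have hf : ∀ a : A, f a = x * a * x⁻¹ * (a : G)⁻¹ := fun _ => rfl
  have hrle : f.range ≤ commutator G := by
    rintro _ ⟨a, rfl⟩
    rw [hf, commutator_def, ← commutatorElement_def]
    exact Subgroup.commutator_mem_commutator (Subgroup.mem_top _) (Subgroup.mem_top _)
  have hn : f.range.Normal := by
    refine Subgroup.normalizer_eq_top_iff.1 (top_le_iff.1 ?_)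
    rw [← hgen]
    refine sup_le (fun b hb => CfsgLib.Coprime.mem_normalizer_of_conj_map_le ?_)
      (Subgroup.zpowers_le.2 (CfsgLib.Coprime.mem_normalizer_of_conj_map_le ?_))
    · rintro _ ⟨a, rfl⟩
      exact ⟨a, by rw [hf, hcm b hb _ (hfA a a.2), mul_inv_cancel_right]⟩
    · rintro _ ⟨a, rfl⟩
      exact ⟨⟨x * a * x⁻¹, ‹A.Normal›.conj_mem a a.2 x⟩, by simp only [hf]; group⟩
  have hle : commutator G ≤ f.range := by
    have hc : ∀ u v : G, (u : G ⧸ f.range) * v = v * u := by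
      have hxA : ∀ a ∈ A, (x : G ⧸ f.range) * a = a * x := fun a ha => by
        rw [← mul_inv_eq_iff_eq_mul, ← mul_inv_eq_one, ← QuotientGroup.mk_mul, ← QuotientGroup.mk_inv,
          ← QuotientGroup.mk_mul, ← QuotientGroup.mk_inv, ← QuotientGroup.mk_mul, QuotientGroup.eq_one_iff]
        exact ⟨⟨a, ha⟩, hf _⟩
      have hgenc : ∀ u : G, ∃ a ∈ A, ∃ k : ℤ, a * x ^ k = u := fun u => by
        obtain ⟨a, ha, y, hy, rfl⟩ := (CfsgLib.Coprime.mem_sup_of_le_normalizer
          (Subgroup.le_normalizer_of_normal (K := Subgroup.zpowers x) (H := A))).1 (hgen ▸ Subgroup.mem_top u)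
        obtain ⟨k, rfl⟩ := hy
        exact ⟨a, ha, k, rfl⟩
      intro u v
      obtain ⟨a, ha, k, rfl⟩ := hgenc u
      obtain ⟨b, hb, l, rfl⟩ := hgenc v
      simp only [QuotientGroup.mk_mul, QuotientGroup.mk_zpow]
      have h1 : Commute ((x : G ⧸ f.range) ^ k) (b : G ⧸ f.range) := Commute.zpow_left (hxA b hb) k
      have h2 : Commute ((x : G ⧸ f.range) ^ l) (a : G ⧸ f.range) := Commute.zpow_left (hxA a ha) l
      have h3 : Commute (a : G ⧸ f.range) (b : G ⧸ f.range) := by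
        rw [Commute, SemiconjBy, ← QuotientGroup.mk_mul, ← QuotientGroup.mk_mul, hcm a ha b hb]
      exact ((h3.mul_right h2.symm).mul_left (h1.mul_right ((Commute.refl (x : G ⧸ f.range)).zpow_zpow k l))).eq
    rw [commutator_def, Subgroup.commutator_le]
    intro u _ v _
    rw [← QuotientGroup.eq_one_iff]
    exact (map_commutatorElement (QuotientGroup.mk' f.range) u v).trans (commutatorElement_eq_one_iff_commute.2 (hc u v))
  refine ⟨fun a ha => hrle ⟨⟨a, ha⟩, rfl⟩, fun c hc => ?_, hmul, ?_⟩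
  · obtain ⟨a, rfl⟩ := hle hc
    exact ⟨a, a.2, rfl⟩
  · have hker : f.ker = (A ⊓ Subgroup.centralizer ({x} : Set G)).subgroupOf A := by
      ext a
      rw [MonoidHom.mem_ker, hf, Subgroup.mem_subgroupOf, Subgroup.mem_inf, Subgroup.mem_centralizer_singleton_iff, mul_inv_eq_one, mul_inv_eq_iff_eq_mul]
      exact ⟨fun h => ⟨a.2, h.symm⟩, fun h => h.2.symm⟩
    rw [le_antisymm hle hrle, ← Nat.card_congr (Subgroup.subgroupOfEquivOfLe
        (inf_le_left : A ⊓ Subgroup.centralizer ({x} : Set G) ≤ A)).toEquiv, ← hker,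
      Subgroup.card_eq_card_quotient_mul_card_subgroup f.ker,
      Nat.card_congr (QuotientGroup.quotientKerEquivRange f).toEquiv]

end Cfsg.Agent.S3866
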