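import Cfsg.Statements.S3867
import Cfsg.Agent.Lib.NumberTheory.SylowCount
-- import your own Cfsg.Agent.* helpers here

set_option autoImplicit false
open Cfsg

namespace Cfsg.Agent.S3867

/-- Let M and N be nontrivial normal subgroups of the finite group G with M ⊓ N trivial, and let p be a prime. Writing n(X) for the number of Sylow p-subgroups of a group X, one has n(G) · n(G/MN) = n(G/M) · n(G/N). -/
theorem result {G : Type*} [Group G] [Finite G] (p : ℕ) [Fact p.Prime] (M N : Subgroup G) [M.Normal] [N.Normal] (hM : M ≠ ⊥) (hN : N ≠ ⊥) (hMN : M ⊓ N = ⊥) : Nat.card (Sylow p G) * Nat.card (Sylow p (G ⧸ (M ⊔ N))) = Nat.card (Sylow p (G ⧸ M)) * Nat.card (Sylow p (G ⧸ N)) := by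
  obtain ⟨P⟩ : Nonempty (Sylow p G) := inferInstance
  set P' := (P : Subgroup G) with hP'
  let NP := Subgroup.normalizer (P' : Set G)
  have hnle : ∀ (L : Subgroup G) [L.Normal] (U : Subgroup G),
      Subgroup.normalizer (U : Set G) ≤ Subgroup.normalizer ((U ⊔ L : Subgroup G) : Set G) := fun L _ U =>
    (le_inf le_rfl Subgroup.le_normalizer_of_normal).trans (Subgroup.normalizer_inf_normalizer_le_normalizer_sup U L)
  have key1 : NP.relIndex (Subgroup.normalizer ((P' ⊔ M : Subgroup G) : Set G)) = NP.relIndex M := by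
    refine CfsgLib.NT.SylowCount.relIndex_eq_of_cover (le_sup_right.trans Subgroup.le_normalizer) fun g hg => ?_
    obtain ⟨k, hk, hkg⟩ := CfsgLib.NT.SylowCount.sylow_cover P le_sup_left le_rfl g hg
    obtain ⟨x, hx, m, hm, rfl⟩ := Subgroup.mem_sup_of_normal_right.1 hk
    refine ⟨x * m * x⁻¹, ‹M.Normal›.conj_mem m hm x, ?_⟩
    have := NP.mul_mem (Subgroup.le_normalizer hx) hkg
    rwa [show (x * m * x⁻¹)⁻¹ * g = x * ((x * m)⁻¹ * g) by group]
  let NPN := Subgroup.normalizer ((P' ⊔ N : Subgroup G) : Set G)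
  have key2 : NPN.relIndex (Subgroup.normalizer ((P' ⊔ (M ⊔ N) : Subgroup G) : Set G)) = NPN.relIndex M := by
    refine CfsgLib.NT.SylowCount.relIndex_eq_of_cover
      ((le_sup_left.trans le_sup_right).trans Subgroup.le_normalizer) fun g hg => ?_
    obtain ⟨k, hk, hkg⟩ := CfsgLib.NT.SylowCount.sylow_cover P le_sup_left le_rfl g hg
    rw [show P' ⊔ (M ⊔ N) = M ⊔ (P' ⊔ N) by ac_rfl] at hk
    obtain ⟨m, hm, y, hy, rfl⟩ := Subgroup.mem_sup_of_normal_left.1 hk
    refine ⟨m, hm, ?_⟩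
    have := NPN.mul_mem (Subgroup.le_normalizer hy : y ∈ NPN) (hnle N P' hkg)
    rwa [show m⁻¹ * g = y * ((m * y)⁻¹ * g) by group]
  have key3 : NP.relIndex M = NPN.relIndex M := by
    rw [← Subgroup.inf_relIndex_right NP, ← Subgroup.inf_relIndex_right NPN]
    congr 1
    refine le_antisymm (inf_le_inf_right _ (hnle N P')) (le_inf (fun m hm => ?_) inf_le_right)
    -- `M ⊓ (P ⊔ N)` is a `p`-group normalised by `P`, hence inside `P`
    have hI : M ⊓ (P' ⊔ N) ≤ P' := by
      have hp : IsPGroup p ↥(M ⊓ (P' ⊔ N)) := by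
        let f : ↥(M ⊓ (P' ⊔ N)) →* ↥(P'.map (QuotientGroup.mk' N)) :=
          ((QuotientGroup.mk' N).comp (M ⊓ (P' ⊔ N)).subtype).codRestrict _ fun z => by
            obtain ⟨x, hx, n, hn, hxn⟩ := Subgroup.mem_sup_of_normal_right.1 z.2.2
            exact ⟨x, hx, by simp [← hxn, (QuotientGroup.eq_one_iff n).2 hn]⟩
        refine (P.2.map _).of_injective f ((injective_iff_map_eq_one f).2 fun z hz => Subtype.ext ?_)
        have h1 : (z : G) ∈ M ⊓ N := ⟨z.2.1, (QuotientGroup.eq_one_iff _).1 (congrArg Subtype.val hz)⟩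
        rwa [hMN, Subgroup.mem_bot] at h1
      have hnm : P' ≤ Subgroup.normalizer ((M ⊓ (P' ⊔ N) : Subgroup G) : Set G) :=
        (le_inf Subgroup.le_normalizer_of_normal (le_sup_left.trans Subgroup.le_normalizer)).trans
          Subgroup.inf_normalizer_le_normalizer_inf
      have := P.is_maximal' (IsPGroup.to_sup_of_normal_left' hp P.2 hnm) le_sup_right
      exact le_sup_left.trans this.le
    refine CfsgLib.Coprime.mem_normalizer_of_conj_map_le (CfsgLib.Coprime.conj_map_le_iff.1 ?_)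
    refine CfsgLib.Coprime.conj_map_le_iff.2 fun x hx => ?_
    have h1 : m * x * m⁻¹ * x⁻¹ ∈ M ⊓ (P' ⊔ N) := by
      refine ⟨?_, ?_⟩
      · rw [show m * x * m⁻¹ * x⁻¹ = m * (x * m⁻¹ * x⁻¹) by group]
        exact M.mul_mem hm.2 (‹M.Normal›.conj_mem _ (M.inv_mem hm.2) x)
      · exact (P' ⊔ N).mul_mem ((Subgroup.mem_normalizer_iff.1 hm.1 x).1 (Subgroup.mem_sup_left hx))
          ((P' ⊔ N).inv_mem (Subgroup.mem_sup_left hx))
    have := P'.mul_mem (hI h1) hx
    rwa [inv_mul_cancel_right] at this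
  have h1 := Subgroup.relIndex_mul_index (hnle M P')
  have h2 := Subgroup.relIndex_mul_index (H := NPN)
    (K := Subgroup.normalizer ((P' ⊔ (M ⊔ N) : Subgroup G) : Set G)) (by
      have := hnle M (P' ⊔ N)
      rwa [show P' ⊔ N ⊔ M = P' ⊔ (M ⊔ N) by ac_rfl] at this)
  rw [CfsgLib.NT.SylowCount.card_sylow_quotient P M, CfsgLib.NT.SylowCount.card_sylow_quotient P N,
    CfsgLib.NT.SylowCount.card_sylow_quotient P (M ⊔ N), P.card_eq_index_normalizer, ← Sylow.coe_coe, ← hP', ← h1, ← h2, key1, key3, ← key2]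
  ring

end Cfsg.Agent.S3867
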