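import Cfsg.Statements.S3868
import Cfsg.Agent.Lib.Coprime.Irreducible
import Cfsg.Agent.Lib.Coprime.Sylow
import Cfsg.Agent.Lib.Solvable.Basic
-- import your own Cfsg.Agent.* helpers here

set_option autoImplicit false
open Cfsg

namespace Cfsg.Agent.S3868

open scoped commutatorElement

/-- If all Sylow `p`-subgroups of `H` are normal and `P ≤ H` is a Sylow subgroup of `G`, then every
element normalising `H` normalises `P`. -/
lemma le_normalizer_of_closed {G : Type*} [Group G] [Finite G] {p : ℕ} [Fact p.Prime] (P : Sylow p G)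
    (H : Subgroup G) (hPH : (P : Subgroup G) ≤ H) (hH : Cfsg.IsPClosed p H) :
    Subgroup.normalizer (H : Set G) ≤ Subgroup.normalizer ((P : Subgroup G) : Set G) := by
  have hn := hH (P.subtype hPH)
  intro g hg
  have h1 : (P : Subgroup G).map (MulAut.conj g).toMonoidHom ≤ H :=
    CfsgLib.Coprime.conj_map_le_iff.2 fun x hx => (Subgroup.mem_normalizer_iff.1 hg x).1 (hPH hx)
  have hp' : IsPGroup p (((P : Subgroup G).map (MulAut.conj g).toMonoidHom).subgroupOf H) :=
    (P.2.map _).of_equiv (Subgroup.subgroupOfEquivOfLe h1).symm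
  obtain ⟨R, hR⟩ := hp'.exists_le_sylow
  have : Subsingleton (Sylow p H) := (Sylow.unique_of_normal _ hn).instSubsingleton
  rw [Subsingleton.elim R (P.subtype hPH)] at hR
  exact CfsgLib.Coprime.mem_normalizer_of_conj_map_le (H := (P : Subgroup G)) fun x hx => by
    exact hR (x := ⟨_, h1 ⟨x, hx, rfl⟩⟩) ⟨x, hx, rfl⟩

theorem main {G : Type*} [Group G] [Finite G] {p : ℕ} [Fact p.Prime]
    (hnc : ¬ Cfsg.IsPClosed p G) (hsub : ∀ H : Subgroup G, H ≠ ⊤ → Cfsg.IsPClosed p ↥H)
    (hquo : ∀ (N : Subgroup G) [N.Normal], N ≠ ⊥ → Cfsg.IsPClosed p (G ⧸ N)) (hns : ¬ IsSimpleGroup G) :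
    ∃ q : ℕ, q.Prime ∧ q ≠ p ∧ Nat.card G = p * q ^ orderOf (q : ZMod p) ∧
      ∃ A : Subgroup G, A.Normal ∧ Nat.card ↥A = q ^ orderOf (q : ZMod p) ∧ Cfsg.IsElementaryAbelian q A ∧
        ∀ B : Subgroup G, B.Normal → B ≤ A → B = ⊥ ∨ B = A := by
  have hp : p.Prime := Fact.out
  obtain ⟨P, hP⟩ : ∃ P : Sylow p G, ¬ (P : Subgroup G).Normal := by
    simpa [Cfsg.IsPClosed] using hnc
  have hnt : Nontrivial G := by
    refine not_subsingleton_iff_nontrivial.1 fun h => hP ?_
    rw [Subsingleton.elim (P : Subgroup G) ⊤]; infer_instance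
  -- a minimal normal subgroup, proper as `G` is not simple
  obtain ⟨M, hM, hM0, hMtop⟩ : ∃ M : Subgroup G, M.Normal ∧ M ≠ ⊥ ∧ M ≠ ⊤ := by
    by_contra hcon
    push Not at hcon
    exact hns ⟨fun N hN => or_iff_not_imp_left.2 (hcon N hN)⟩
  obtain ⟨N, hN, hN0, hNM, hmin⟩ := CfsgLib.Solvable.Basic.exists_minimal_normal_le hM0
  have hNtop : N ≠ ⊤ := fun h => hMtop (eq_top_iff.2 (h ▸ hNM))
  -- the preimage of the Sylow subgroup of `G ⧸ N` is everything
  have hsup : N ⊔ (P : Subgroup G) = ⊤ := by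
    by_contra hne
    have h1 := hquo N hN0 (P.mapSurjective (QuotientGroup.mk'_surjective N))
    have h2 := h1.comap (QuotientGroup.mk' N)
    rw [Sylow.coe_mapSurjective, Subgroup.comap_map_eq, QuotientGroup.ker_mk', sup_comm] at h2
    exact hP (Subgroup.normalizer_eq_top_iff.1 (eq_top_iff.2 (le_trans (Subgroup.normalizer_eq_top_iff.2 h2).ge
      (le_normalizer_of_closed P _ le_sup_right (hsub _ hne)))))
  -- `N` has order prime to `p`
  have hcop : (Nat.card N).Coprime p := by
    obtain ⟨R⟩ : Nonempty (Sylow p N) := inferInstance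
    have hR := hsub N hNtop R
    have hRc : (R : Subgroup N).Characteristic := R.characteristic_of_normal hR
    have hRn : ((R : Subgroup N).map N.subtype).Normal := inferInstance
    rcases hmin _ hRn (Subgroup.map_subtype_le _) with h | h
    · rw [Subgroup.map_eq_bot_iff_of_injective _ N.subtype_injective, ← Subgroup.card_eq_one,
        R.card_eq_multiplicity] at h
      refine ((hp.coprime_iff_not_dvd).2 fun hd => ?_).symm
      exact hp.ne_one ((Nat.pow_eq_one.1 h).resolve_right (hp.factorization_pos_of_dvd Nat.card_pos.ne' hd).ne')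
    · -- otherwise `N` is a `p`-group and `P` is all of `G`
      have hNp : IsPGroup p N := h ▸ R.2.map N.subtype
      rw [sup_eq_right.2 (hNp.le_sylow_of_normal P)] at hsup
      exact absurd (by rw [hsup]; infer_instance) hP
  obtain ⟨i, hi⟩ := IsPGroup.iff_card.1 P.2
  have hcopP : (Nat.card (P : Subgroup G)).Coprime (Nat.card N) := by
    rw [hi]; exact (hcop.symm).pow_left i
  have hPN : (P : Subgroup G) ≤ Subgroup.normalizer (N : Set G) := Subgroup.le_normalizer_of_normal
  have hdis : N ⊓ (P : Subgroup G) = ⊥ := by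
    rw [← Subgroup.card_eq_one]
    exact Nat.eq_one_of_dvd_coprimes hcopP.symm (Subgroup.card_dvd_of_le inf_le_left) (Subgroup.card_dvd_of_le inf_le_right)
  have hcardG : Nat.card G = Nat.card N * Nat.card (P : Subgroup G) := by
    rw [mul_comm, ← CfsgLib.Solvable.Basic.card_sup_of_disjoint N _ hdis, sup_comm, hsup, Subgroup.card_top]
  have hPsol : Group.IsSolvable (P : Subgroup G) := by
    have : Group.IsNilpotent (P : Subgroup G) := P.2.isNilpotent
    infer_instance
  -- some invariant Sylow subgroup of `N` is not centralised by `P`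
  have hnotall : ¬ ((P : Subgroup G) ≤ Subgroup.centralizer (N : Set G)) := by
    intro h
    refine hP (Subgroup.normalizer_eq_top_iff.1 (eq_top_iff.2 ?_))
    rw [← hsup]
    exact sup_le (fun n hn => Subgroup.centralizer_le_normalizer _ (Subgroup.mem_centralizer_iff.2 fun y hy =>
      (Subgroup.mem_centralizer_iff.1 (h hy) n hn).symm)) Subgroup.le_normalizer
  obtain ⟨q, hq, Q, hQN, hQq, hPQ, hQc⟩ : ∃ q : ℕ, q.Prime ∧ ∃ Q : Subgroup G, Q ≤ N ∧ IsPGroup q Q ∧
      (P : Subgroup G) ≤ Subgroup.normalizer (Q : Set G) ∧ ¬ (P : Subgroup G) ≤ Subgroup.centralizer (Q : Set G) := by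
    by_contra hcon
    push Not at hcon
    refine hnotall fun x hx => ?_
    have hC : (Subgroup.centralizer ({x} : Set G)).subgroupOf N = ⊤ := by
      rw [← Subgroup.index_eq_one]
      refine Nat.eq_one_iff_not_exists_prime_dvd.mpr fun q hq hd => ?_
      have := Fact.mk hq
      obtain ⟨R, hR⟩ := CfsgLib.Coprime.exists_invariant_sylow hPN hcopP (Or.inl hPsol) q
      refine R.not_dvd_index (hd.trans (Subgroup.index_dvd_of_le fun y hy => ?_))
      have hc := hcon q hq _ (Subgroup.map_subtype_le _) (R.2.map N.subtype) hR hx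
      exact Subgroup.mem_subgroupOf.2 (Subgroup.mem_centralizer_singleton_iff.2
        (Subgroup.mem_centralizer_iff.1 hc _ ⟨y, hy, rfl⟩))
    refine Subgroup.mem_centralizer_iff.2 fun n hn => ?_
    have hnC : (⟨n, hn⟩ : N) ∈ (Subgroup.centralizer ({x} : Set G)).subgroupOf N := hC ▸ Subgroup.mem_top _
    exact Subgroup.mem_centralizer_singleton_iff.1 (Subgroup.mem_subgroupOf.1 hnC)
  have := Fact.mk hq
  -- so `Q = N`
  have hsupQ : Q ⊔ (P : Subgroup G) = ⊤ := by
    by_contra hne
    refine hQc fun x hx => Subgroup.mem_centralizer_iff.2 fun y hy => ?_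
    have hyP : y ∈ Subgroup.normalizer ((P : Subgroup G) : Set G) :=
      le_normalizer_of_closed P _ le_sup_right (hsub _ hne)
        (Subgroup.le_normalizer (Subgroup.mem_sup_left hy))
    have h1 : y * x * y⁻¹ * x⁻¹ ∈ Q ⊓ (P : Subgroup G) := by
      refine ⟨?_, (P : Subgroup G).mul_mem ((Subgroup.mem_normalizer_iff.1 hyP x).1 hx) ((P : Subgroup G).inv_mem hx)⟩
      rw [show y * x * y⁻¹ * x⁻¹ = y * (x * y⁻¹ * x⁻¹) by group]
      exact Q.mul_mem hy ((Subgroup.mem_normalizer_iff.1 (hPQ hx) _).1 (Q.inv_mem hy))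
    have h2 : Q ⊓ (P : Subgroup G) = ⊥ := le_bot_iff.1 ((inf_le_inf_right _ hQN).trans hdis.le)
    rw [h2, Subgroup.mem_bot, mul_inv_eq_one, mul_inv_eq_iff_eq_mul] at h1
    exact h1
  have hQN' : Q = N := by
    refine le_antisymm hQN fun n hn => ?_
    obtain ⟨y, hy, x, hx, rfl⟩ := (CfsgLib.Coprime.mem_sup_of_le_normalizer hPQ).1 (hsupQ ▸ Subgroup.mem_top n)
    have : x ∈ N ⊓ (P : Subgroup G) := ⟨by simpa using N.mul_mem (N.inv_mem (hQN hy)) hn, hx⟩
    rw [hdis, Subgroup.mem_bot] at this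
    simpa [this] using hy
  subst hQN'
  have hQsol : Group.IsSolvable Q := by
    have : Group.IsNilpotent Q := hQq.isNilpotent
    infer_instance
  obtain ⟨hQcomm, r, hr, hrQ, hrp⟩ := CfsgLib.Solvable.Basic.minimal_normal_solvable Q hN0 hmin
  have hqp : q ≠ p := by
    rintro rfl
    obtain ⟨k, hk⟩ := IsPGroup.iff_card.1 hQq
    rw [hk] at hcop
    rcases Nat.eq_zero_or_pos k with h | h
    · rw [h, pow_zero, Subgroup.card_eq_one] at hk
      exact hN0 hk
    · exact hp.ne_one ((Nat.coprime_self _).1 ((Nat.coprime_pow_left_iff h _ _).1 hcop))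
  have hrq : r = q := by
    obtain ⟨n, hn, hn1⟩ := Q.bot_or_exists_ne_one.resolve_left hN0
    obtain ⟨k, hk⟩ := IsPGroup.iff_orderOf.1 hQq ⟨n, hn⟩
    rw [Subgroup.orderOf_mk] at hk
    have h1 : orderOf n = r := orderOf_eq_prime (hp := ⟨hr⟩) (hrQ n hn) hn1
    exact (Nat.prime_dvd_prime_iff_eq hr hq).1 (hr.dvd_of_dvd_pow (h1 ▸ hk ▸ dvd_rfl : r ∣ q ^ k))
  subst hrq
  -- a cyclic subgroup of `P` not centralising `Q` is all of `P`
  obtain ⟨x, hxP, hxQ⟩ : ∃ x ∈ (P : Subgroup G), x ∉ Subgroup.centralizer (Q : Set G) := by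
    simpa [SetLike.le_def] using hQc
  have hzle : Subgroup.zpowers x ≤ (P : Subgroup G) := Subgroup.zpowers_le.2 hxP
  have hcomm_disj : ∀ y ∈ (P : Subgroup G), (∀ a ∈ Q, a * y = y * a) → y ∈ Subgroup.centralizer (Q : Set G) :=
    fun y _ h => Subgroup.mem_centralizer_iff.2 h
  have hP_eq : Subgroup.zpowers x = (P : Subgroup G) := by
    refine le_antisymm hzle fun y hy => ?_
    by_contra hyn
    -- `Q ⊔ ⟨x⟩` is proper
    have hne : Q ⊔ Subgroup.zpowers x ≠ ⊤ := by
      intro htop
      obtain ⟨a, ha, z, hz, hay⟩ := (CfsgLib.Coprime.mem_sup_of_le_normalizer (hzle.trans hPQ)).1 (htop ▸ Subgroup.mem_top y)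
      have : a ∈ Q ⊓ (P : Subgroup G) := ⟨ha, by
        rw [show a = y * z⁻¹ by rw [← hay]; group]; exact (P : Subgroup G).mul_mem hy ((P : Subgroup G).inv_mem (hzle hz))⟩
      rw [hdis, Subgroup.mem_bot] at this
      rw [this, one_mul] at hay
      exact hyn (hay ▸ hz)
    set H := Q ⊔ Subgroup.zpowers x
    obtain ⟨R, hR⟩ := ((P.2.to_le hzle).of_equiv
      (Subgroup.subgroupOfEquivOfLe (le_sup_right : Subgroup.zpowers x ≤ H)).symm).exists_le_sylow
    have hRn := hsub H hne R
    refine hxQ (Subgroup.mem_centralizer_iff.2 fun a ha => ?_)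
    have hQn : (Q.subgroupOf H).Normal := Subgroup.normal_subgroupOf
    have hd : Q.subgroupOf H ⊓ (R : Subgroup H) = ⊥ := by
      rw [← Subgroup.card_eq_one]
      obtain ⟨j, hj⟩ := IsPGroup.iff_card.1 R.2
      refine Nat.eq_one_of_dvd_coprimes ((hcop).pow_right j) ?_ (hj ▸ Subgroup.card_dvd_of_le inf_le_right)
      rw [← Nat.card_congr (Subgroup.subgroupOfEquivOfLe (le_sup_left : Q ≤ H)).toEquiv]
      exact Subgroup.card_dvd_of_le inf_le_left
    exact congrArg Subtype.val (Subgroup.commute_of_normal_of_disjoint _ _ hQn hRn (disjoint_iff.2 hd)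
      ⟨a, Subgroup.mem_sup_left ha⟩ ⟨x, Subgroup.mem_sup_right (Subgroup.mem_zpowers x)⟩ ha
      (hR (Subgroup.mem_zpowers x : x ∈ Subgroup.zpowers x))).eq
  -- `x ^ p` is central, hence trivial
  have hxp : x ^ p = 1 := by
    have hxpQ : x ^ p ∈ Subgroup.centralizer (Q : Set G) := by
      by_contra hno
      have hP' : Subgroup.zpowers (x ^ p) = (P : Subgroup G) → False := fun h => by
        have h1 : Nat.card (Subgroup.zpowers (x ^ p)) = Nat.card (Subgroup.zpowers x) := by rw [h, hP_eq]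
        rw [Nat.card_zpowers, Nat.card_zpowers, orderOf_pow] at h1
        have hdvd : p ∣ orderOf x := by
          rw [← Nat.card_zpowers, hP_eq, hi]
          refine dvd_pow_self p fun h0 => hxQ ?_
          rw [h0, pow_zero, Subgroup.card_eq_one] at hi
          have hx1 : x = 1 := by rw [hi] at hxP; exact Subgroup.mem_bot.1 hxP
          rw [hx1]
          exact one_mem _
        rw [Nat.gcd_eq_right hdvd] at h1
        exact absurd h1 (Nat.div_lt_self (orderOf_pos x) hp.one_lt).ne
      -- rerun the previous argument for `x ^ p`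
      have hne : Q ⊔ Subgroup.zpowers (x ^ p) ≠ ⊤ := by
        intro htop
        refine hP' (le_antisymm (Subgroup.zpowers_le.2 (pow_mem hxP p)) fun y hy => ?_)
        obtain ⟨a, ha, z, hz, hay⟩ := (CfsgLib.Coprime.mem_sup_of_le_normalizer
          ((Subgroup.zpowers_le.2 (pow_mem hxP p)).trans hPQ)).1 (htop ▸ Subgroup.mem_top y)
        have : a ∈ Q ⊓ (P : Subgroup G) := ⟨ha, by
          rw [show a = y * z⁻¹ by rw [← hay]; group]
          exact (P : Subgroup G).mul_mem hy ((P : Subgroup G).inv_mem ((Subgroup.zpowers_le.2 (pow_mem hxP p)) hz))⟩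
        rw [hdis, Subgroup.mem_bot] at this
        rw [this, one_mul] at hay
        exact hay ▸ hz
      set H := Q ⊔ Subgroup.zpowers (x ^ p)
      obtain ⟨R, hR⟩ := ((P.2.to_le (Subgroup.zpowers_le.2 (pow_mem hxP p))).of_equiv
        (Subgroup.subgroupOfEquivOfLe (le_sup_right : Subgroup.zpowers (x ^ p) ≤ H)).symm).exists_le_sylow
      have hRn := hsub H hne R
      refine hno (Subgroup.mem_centralizer_iff.2 fun a ha => ?_)
      have hQn : (Q.subgroupOf H).Normal := Subgroup.normal_subgroupOf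
      have hd : Q.subgroupOf H ⊓ (R : Subgroup H) = ⊥ := by
        rw [← Subgroup.card_eq_one]
        obtain ⟨j, hj⟩ := IsPGroup.iff_card.1 R.2
        refine Nat.eq_one_of_dvd_coprimes ((hcop).pow_right j) ?_ (hj ▸ Subgroup.card_dvd_of_le inf_le_right)
        rw [← Nat.card_congr (Subgroup.subgroupOfEquivOfLe (le_sup_left : Q ≤ H)).toEquiv]
        exact Subgroup.card_dvd_of_le inf_le_left
      exact congrArg Subtype.val (Subgroup.commute_of_normal_of_disjoint _ _ hQn hRn (disjoint_iff.2 hd)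
        ⟨a, Subgroup.mem_sup_left ha⟩ ⟨x ^ p, Subgroup.mem_sup_right (Subgroup.mem_zpowers _)⟩ ha
        (hR (Subgroup.mem_zpowers _ : x ^ p ∈ Subgroup.zpowers (x ^ p)))).eq
    by_contra hne1
    let Z := Subgroup.zpowers (x ^ p)
    have hZn : Z.Normal := by
      rw [← Subgroup.normalizer_eq_top_iff, ← top_le_iff, ← hsup]
      refine sup_le ?_ ?_
      · exact fun a ha => Subgroup.centralizer_le_normalizer _ (Subgroup.mem_centralizer_iff.2 fun z hz => by
          obtain ⟨j, rfl⟩ := hz
          exact ((Commute.zpow_right (Subgroup.mem_centralizer_iff.1 hxpQ a ha) j).eq).symm)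
      · rw [← hP_eq, Subgroup.zpowers_le]
        exact Subgroup.centralizer_le_normalizer _ (Subgroup.mem_centralizer_iff.2 fun z hz => by
          obtain ⟨j, rfl⟩ := hz
          exact ((Commute.self_pow x p).zpow_right j).eq.symm)
    have hZle : Z ≤ (P : Subgroup G) := Subgroup.zpowers_le.2 (pow_mem hxP p)
    have h1 := hquo Z (Subgroup.zpowers_ne_bot.2 hne1) (P.mapSurjective (QuotientGroup.mk'_surjective Z))
    have h2 := h1.comap (QuotientGroup.mk' Z)
    rw [Sylow.coe_mapSurjective, Subgroup.comap_map_eq, QuotientGroup.ker_mk', sup_eq_left.2 hZle] at h2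
    exact hP h2
  have hordx : orderOf x = p := orderOf_eq_prime hxp fun h => hxQ (h ▸ one_mem _)
  have hcardP : Nat.card (P : Subgroup G) = p := by rw [← hP_eq, Nat.card_zpowers, hordx]
  have hA : Cfsg.IsElementaryAbelian r Q := ⟨hQcomm, hrQ⟩
  have hAcard : Nat.card Q = r ^ orderOf (r : ZMod p) := by
    refine CfsgLib.Coprime.card_eq_pow_orderOf hr hqp Q hA x hxp ?_ fun B hB hinv => hmin B ?_ hB
    · by_contra hcon
      push Not at hcon
      exact hxQ (Subgroup.mem_centralizer_iff.2 fun a ha => (hcon a ha).symm)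
    · rw [← Subgroup.normalizer_eq_top_iff, ← top_le_iff, ← hsup]
      refine sup_le (fun a ha => CfsgLib.Coprime.mem_normalizer_of_conj_map_le fun b hb => ?_) ?_
      · rw [show a * b = b * a from congrArg Subtype.val (hQcomm.is_comm.comm (⟨a, ha⟩ : Q) ⟨b, hB hb⟩), mul_inv_cancel_right]
        exact hb
      · rw [← hP_eq, Subgroup.zpowers_le]
        exact CfsgLib.Coprime.mem_normalizer_of_conj_map_le hinv
  exact ⟨r, hr, hqp, by rw [hcardG, hAcard, hcardP, mul_comm], Q, hN, hAcard, hA, hmin⟩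


/-- Structure of the non-simple minimal non-p-closed groups. Call a finite group p-closed when its Sylow p-subgroups are normal, and minimal non-p-closed when it is not p-closed but every proper subgroup and every proper quotient is. If such a group G is not simple, then there is a prime q ≠ p such that G has order p · q^e, where e is the multiplicative order of q modulo p, and G has a normal subgroup A of order q^e that is elementary abelian and is a minimal normal subgroup of G (so G is the semidirect product of A by a group of order p acting irreducibly). -/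
theorem result {G : Type*} [Group G] [Finite G] {p : ℕ} [Fact p.Prime]
    (hnc : ¬ Cfsg.IsPClosed p G) (hsub : ∀ H : Subgroup G, H ≠ ⊤ → Cfsg.IsPClosed p ↥H)
    (hquo : ∀ (N : Subgroup G) [N.Normal], N ≠ ⊥ → Cfsg.IsPClosed p (G ⧸ N)) (hns : ¬ IsSimpleGroup G) :
    ∃ q : ℕ, q.Prime ∧ q ≠ p ∧ Nat.card G = p * q ^ orderOf (q : ZMod p) ∧
      ∃ A : Subgroup G, A.Normal ∧ Nat.card ↥A = q ^ orderOf (q : ZMod p) ∧ Cfsg.IsElementaryAbelian q A ∧
        ∀ B : Subgroup G, B.Normal → B ≤ A → B = ⊥ ∨ B = A := by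
  exact main hnc hsub hquo hns

end Cfsg.Agent.S3868
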