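import Cfsg.Statements.S3869
import Cfsg.Agent.Lib.Coprime.Irreducible
import Cfsg.Agent.Lib.Solvable.Basic
-- import your own Cfsg.Agent.* helpers here

set_option autoImplicit false
open Cfsg

namespace Cfsg.Agent.S3869

/-- Let p and q be distinct primes and G a finite non-abelian group with a normal elementary abelian q-subgroup A that is a minimal normal subgroup of G and has index p. Then A has order q^e with e the multiplicative order of q modulo p, and G is minimal non-p-closed: its Sylow p-subgroups are not normal, while in every proper subgroup and in every proper quotient of G the Sylow p-subgroups are normal. -/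
theorem result {G : Type*} [Group G] [Finite G] {p q : ℕ} [Fact p.Prime] (hq : q.Prime) (hpq : q ≠ p)
    (hna : ¬ IsMulCommutative G) (A : Subgroup G) [A.Normal] (hA : Cfsg.IsElementaryAbelian q A) (hidx : A.index = p)
    (hmin : ∀ B : Subgroup G, B.Normal → B ≤ A → B = ⊥ ∨ B = A) :
    Nat.card ↥A = q ^ orderOf (q : ZMod p) ∧ ¬ Cfsg.IsPClosed p G ∧ (∀ H : Subgroup G, H ≠ ⊤ → Cfsg.IsPClosed p ↥H) ∧
      ∀ (N : Subgroup G) [N.Normal], N ≠ ⊥ → Cfsg.IsPClosed p (G ⧸ N) := by
  have hp : p.Prime := Fact.out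
  have := Fact.mk hq
  have hAcomm : ∀ a ∈ A, ∀ b ∈ A, a * b = b * a := fun a ha b hb =>
    congrArg Subtype.val (hA.1.is_comm.comm (⟨a, ha⟩ : A) ⟨b, hb⟩)
  have hAq : IsPGroup q A := fun a => ⟨1, Subtype.ext (by simpa using hA.2 a a.2)⟩
  have hAp : (Nat.card A).Coprime p := by
    obtain ⟨k, hk⟩ := IsPGroup.iff_card.1 hAq
    rw [hk]; exact ((Nat.coprime_primes hq hp).2 hpq).pow_left k
  have hcard : Nat.card G = Nat.card A * p := by rw [← hidx, Subgroup.card_mul_index]
  obtain ⟨x, hx⟩ := exists_prime_orderOf_dvd_card' p (hcard ▸ dvd_mul_left p _)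
  have hxp : x ^ p = 1 := by rw [← hx, pow_orderOf_eq_one]
  have hxA : ∀ y : G, orderOf y = p → y ∉ A := fun y hy hyA =>
    hp.one_lt.ne' (Nat.eq_one_of_dvd_coprimes hAp (hy ▸ Subgroup.orderOf_dvd_natCard _ hyA) dvd_rfl)
  -- every element is in a coset of `A` of a power of any element of order `p`
  have hgen : ∀ y : G, orderOf y = p → ∀ H : Subgroup G, A ≤ H → y ∈ H → H = ⊤ := by
    intro y hy H hAH hyH
    have h1 := Subgroup.index_dvd_of_le hAH
    rw [hidx] at h1
    rcases (Nat.dvd_prime hp).1 h1 with h | h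
    · exact Subgroup.index_eq_one.1 h
    · have : H.index = A.index := by rw [h, hidx]
      have h2 := Subgroup.relIndex_mul_index hAH
      rw [this, hidx] at h2
      exact absurd (Subgroup.relIndex_eq_one.1 ((mul_eq_right₀ hp.ne_zero).1 h2) hyH) (hxA y hy)
  have hnormal : ∀ y : G, orderOf y = p → ∀ B : Subgroup G, B ≤ A → (∀ b ∈ B, y * b * y⁻¹ ∈ B) → B = ⊥ ∨ B = A := by
    intro y hy B hB hinv
    refine hmin B (Subgroup.normalizer_eq_top_iff.1 ?_) hB
    refine hgen y hy _ (fun a ha => ?_) (CfsgLib.Coprime.mem_normalizer_of_conj_map_le ?_)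
    · exact CfsgLib.Coprime.mem_normalizer_of_conj_map_le
        (fun b hb => by rw [hAcomm a ha b (hB hb), mul_inv_cancel_right]; exact hb)
    · exact hinv
  have hnoncent : ∀ y : G, orderOf y = p → ∃ a ∈ A, y * a ≠ a * y := by
    intro y hy
    by_contra hcon
    push Not at hcon
    refine hna ⟨⟨fun g h => ?_⟩⟩
    have hAy : A ≤ Subgroup.centralizer ({y} : Set G) := fun a ha =>
      Subgroup.mem_centralizer_singleton_iff.2 (hcon a ha).symm
    have h1 : Subgroup.centralizer ({y} : Set G) = ⊤ :=
      hgen y hy _ hAy (Subgroup.mem_centralizer_singleton_iff.2 rfl)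
    have hyc : ∀ g : G, g * y = y * g := fun g => Subgroup.mem_centralizer_singleton_iff.1 (h1 ▸ Subgroup.mem_top g)
    have hAc : A ≤ Subgroup.center G := fun a ha => by
      have h2 : Subgroup.centralizer ({a} : Set G) = ⊤ := hgen y hy _
        (fun b hb => Subgroup.mem_centralizer_singleton_iff.2 (hAcomm b hb a ha))
        (Subgroup.mem_centralizer_singleton_iff.2 (hyc a).symm)
      exact Subgroup.mem_center_iff.2 fun g => Subgroup.mem_centralizer_singleton_iff.1 (h2 ▸ Subgroup.mem_top g)
    have h3 : Subgroup.center G = ⊤ := hgen y hy _ hAc (Subgroup.mem_center_iff.2 hyc)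
    exact (Subgroup.mem_center_iff.1 (h3 ▸ Subgroup.mem_top h) g)
  have hAtop : A ≠ ⊤ := fun h => hp.ne_one (by rw [← hidx, h, Subgroup.index_top])
  refine ⟨CfsgLib.Coprime.card_eq_pow_orderOf hq hpq A hA x hxp (hnoncent x hx) (hnormal x hx), ?_, ?_, ?_⟩
  · intro hclosed
    obtain ⟨P, hP⟩ := (IsPGroup.of_card (n := 1) (by rw [Nat.card_zpowers, hx, pow_one]) :
      IsPGroup p (Subgroup.zpowers x)).exists_le_sylow
    obtain ⟨a, ha, hne⟩ := hnoncent x hx
    have hdis : A ⊓ (P : Subgroup G) = ⊥ := by
      rw [← Subgroup.card_eq_one]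
      obtain ⟨k, hk⟩ := IsPGroup.iff_card.1 P.2
      exact Nat.eq_one_of_dvd_coprimes (hAp.pow_right k) (Subgroup.card_dvd_of_le inf_le_left)
        (hk ▸ Subgroup.card_dvd_of_le inf_le_right)
    exact hne (Subgroup.commute_of_normal_of_disjoint A P inferInstance (hclosed P) (disjoint_iff.2 hdis) a x ha
      (hP (Subgroup.mem_zpowers x))).eq.symm
  · intro H hH P
    by_cases hpH : p ∣ Nat.card H
    · obtain ⟨y, hy⟩ := exists_prime_orderOf_dvd_card' p hpH
      have hy' : orderOf (y : G) = p := by rw [Subgroup.orderOf_coe, hy]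
      rcases hnormal y hy' (H ⊓ A) inf_le_right (fun b hb =>
        ⟨H.mul_mem (H.mul_mem y.2 hb.1) (H.inv_mem y.2), ‹A.Normal›.conj_mem b hb.2 y⟩) with h | h
      · have hHp : IsPGroup p H := by
          refine IsPGroup.of_card (n := 1) ?_
          rw [pow_one]
          refine Nat.dvd_antisymm ?_ hpH
          have h1 := Subgroup.relIndex_dvd_index_of_normal A H
          rwa [← Subgroup.inf_relIndex_right, inf_comm, h, Subgroup.relIndex_bot_left, hidx] at h1
        obtain ⟨k, hk⟩ := IsPGroup.iff_card.1 hHp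
        have htop : (P : Subgroup H) = ⊤ := Subgroup.eq_top_of_card_eq _ (by
          rw [P.card_eq_multiplicity, hk, Nat.factorization_pow, Finsupp.smul_apply, hp.factorization_self]
          simp)
        rw [htop]; infer_instance
      · exact absurd (hgen y hy' H (h ▸ inf_le_left) y.2) hH
    · have hbot : (P : Subgroup H) = ⊥ := by
        rw [← Subgroup.card_eq_one, P.card_eq_multiplicity, Nat.factorization_eq_zero_of_not_dvd hpH, pow_zero]
      rw [hbot]; infer_instance
  · intro N hN hN0 P
    rcases hmin (N ⊓ A) (Subgroup.normal_inf_normal N A) inf_le_right with h | h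
    · obtain ⟨n, hn, hn1⟩ := N.bot_or_exists_ne_one.resolve_left hN0
      have h1 : orderOf n ∣ p := by
        refine (Subgroup.orderOf_dvd_natCard N hn).trans ?_
        have h2 := Subgroup.relIndex_dvd_index_of_normal A N
        rwa [← Subgroup.inf_relIndex_right, inf_comm, h, Subgroup.relIndex_bot_left, hidx] at h2
      have h2 : orderOf n = p := ((Nat.dvd_prime hp).1 h1).resolve_left fun h => hn1 (orderOf_eq_one_iff.1 h)
      obtain ⟨a, ha, hne⟩ := hnoncent n h2
      exact absurd (Subgroup.commute_of_normal_of_disjoint N A hN inferInstance (disjoint_iff.2 h) n a hn ha).eq hne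
    · have hGN : IsPGroup p (G ⧸ N) := by
        have h1 : Nat.card (G ⧸ N) ∣ p := by
          rw [← Subgroup.index_eq_card, ← hidx]
          exact Subgroup.index_dvd_of_le (h ▸ inf_le_left)
        obtain ⟨i, -, hi⟩ := (Nat.dvd_prime_pow hp).1 (show Nat.card (G ⧸ N) ∣ p ^ 1 by rwa [pow_one])
        exact IsPGroup.of_card hi
      obtain ⟨k, hk⟩ := IsPGroup.iff_card.1 hGN
      have htop : (P : Subgroup (G ⧸ N)) = ⊤ := Subgroup.eq_top_of_card_eq _ (by
        rw [P.card_eq_multiplicity, hk, Nat.factorization_pow, Finsupp.smul_apply, hp.factorization_self]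
        simp)
      rw [htop]; infer_instance

end Cfsg.Agent.S3869
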