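import Cfsg.Statements.S3870
import Cfsg.Agent.Lib.Coprime.SchurZassenhaus
import Mathlib.GroupTheory.Nilpotent
-- import your own Cfsg.Agent.* helpers here

set_option autoImplicit false
open Cfsg

namespace Cfsg.Agent.S3870

/-- The normalizer of a subgroup strictly inside a `p`-group contains more of it. -/
lemma lt_inf_normalizer {G : Type*} [Group G] [Finite G] {p : ℕ} [Fact p.Prime] {D P : Subgroup G}
    (hP : IsPGroup p P) (h : D < P) : D < P ⊓ Subgroup.normalizer (D : Set G) := by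
  have := hP.isNilpotent
  have hlt : D.subgroupOf P < ⊤ :=
    lt_top_iff_ne_top.2 fun h' => h.not_ge (Subgroup.subgroupOf_eq_top.1 h')
  obtain ⟨y, hy, hyn⟩ := SetLike.exists_of_lt (Group.normalizerCondition_of_isNilpotent _ hlt)
  refine lt_of_le_of_ne (le_inf h.le Subgroup.le_normalizer) fun he => hyn ?_
  rw [Subgroup.mem_subgroupOf, he]
  refine ⟨y.2, Subgroup.mem_normalizer_iff.2 fun z => ⟨fun hz => ?_, fun hz => ?_⟩⟩
  · have := (Subgroup.mem_normalizer_iff.1 hy ⟨z, h.le hz⟩).1 hz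
    exact this
  · have hzP : z ∈ P := by
      have := P.mul_mem (P.mul_mem (P.inv_mem y.2) (h.le hz)) y.2
      simpa [mul_assoc] using this
    exact (Subgroup.mem_normalizer_iff.1 hy ⟨z, hzP⟩).2 hz


/-- Let G be a finite simple group whose Sylow p-subgroups are not normal but such that every proper subgroup of G has a normal Sylow p-subgroup. Then any two distinct Sylow p-subgroups of G intersect trivially, and for every Sylow p-subgroup P the normalizer of every non-identity subgroup of P lies in the normalizer of P. -/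
theorem result {G : Type*} [Group G] [Finite G] [IsSimpleGroup G] {p : ℕ} [Fact p.Prime]
    (hnc : ¬ Cfsg.IsPClosed p G) (hsub : ∀ H : Subgroup G, H ≠ ⊤ → Cfsg.IsPClosed p ↥H) :
    (∀ P Q : Sylow p G, P ≠ Q → (P : Subgroup G) ⊓ (Q : Subgroup G) = ⊥) ∧
      ∀ (P : Sylow p G) (R : Subgroup G), R ≤ P → R ≠ ⊥ →
        Subgroup.normalizer (R : Set G) ≤ Subgroup.normalizer ((P : Subgroup G) : Set G) := by
  have hTI : ∀ P Q : Sylow p G, P ≠ Q → (P : Subgroup G) ⊓ (Q : Subgroup G) = ⊥ := by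
    by_contra hcon
    push Not at hcon
    obtain ⟨P₀, Q₀, hne₀, hne₀'⟩ := hcon
    obtain ⟨D, -, ⟨P, Q, hPQ, rfl, hD0⟩, hmax⟩ := Finite.exists_le_maximal
      (p := fun D : Subgroup G => ∃ P Q : Sylow p G, P ≠ Q ∧ (P : Subgroup G) ⊓ (Q : Subgroup G) = D ∧ D ≠ ⊥)
      ⟨P₀, Q₀, hne₀, rfl, hne₀'⟩
    set D := (P : Subgroup G) ⊓ (Q : Subgroup G) with hD
    have hDP : D < (P : Subgroup G) := by
      refine lt_of_le_of_ne inf_le_left fun h => hPQ ?_
      have h1 : (P : Subgroup G) ≤ (Q : Subgroup G) := by rw [← h]; exact inf_le_right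
      exact Sylow.ext (P.is_maximal' Q.2 h1).symm
    have hDQ : D < (Q : Subgroup G) := by
      refine lt_of_le_of_ne inf_le_right fun h => hPQ ?_
      have h1 : (Q : Subgroup G) ≤ (P : Subgroup G) := by rw [← h]; exact inf_le_left
      exact Sylow.ext (Q.is_maximal' P.2 h1)
    have hNtop : Subgroup.normalizer (D : Set G) ≠ ⊤ := fun h => by
      rcases IsSimpleGroup.eq_bot_or_eq_top_of_normal D (Subgroup.normalizer_eq_top_iff.1 h) with h' | h'
      · exact hD0 h'
      · exact hDP.not_ge (h' ▸ le_top)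
    obtain ⟨S⟩ : Nonempty (Sylow p (Subgroup.normalizer (D : Set G))) := inferInstance
    have hS := hsub _ hNtop S
    obtain ⟨R, hR⟩ := (S.2.map (Subgroup.normalizer (D : Set G)).subtype).exists_le_sylow
    have hle : ∀ U : Sylow p G, (U : Subgroup G) ⊓ Subgroup.normalizer (D : Set G) ≤ (R : Subgroup G) := by
      intro U
      obtain ⟨S', hS'⟩ := ((U.2.to_le (inf_le_left : (U : Subgroup G) ⊓ Subgroup.normalizer (D : Set G) ≤ (U : Subgroup G))).of_equiv
        (Subgroup.subgroupOfEquivOfLe (inf_le_right : (U : Subgroup G) ⊓ Subgroup.normalizer (D : Set G) ≤ _)).symm).exists_le_sylow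
      have : Subsingleton (Sylow p (Subgroup.normalizer (D : Set G))) := (Sylow.unique_of_normal S hS).instSubsingleton
      rw [Subsingleton.elim S' S] at hS'
      exact fun y hy => hR ⟨⟨y, hy.2⟩, hS' (x := ⟨y, hy.2⟩) hy, rfl⟩
    have heq : ∀ U : Sylow p G, D < (U : Subgroup G) → R = U := by
      intro U hU
      by_contra hne
      have h1 := (lt_inf_normalizer U.2 hU).trans_le (le_inf inf_le_left (hle U))
      exact h1.not_ge (hmax ⟨U, R, Ne.symm hne, rfl, fun h0 => not_lt_bot (h0 ▸ h1)⟩ h1.le)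
    exact hPQ ((heq P hDP).symm.trans (heq Q hDQ))
  refine ⟨hTI, fun P R hR hR0 g hg => ?_⟩
  rw [Sylow.coe_coe, ← Sylow.smul_eq_iff_mem_normalizer]
  by_contra hne
  refine hR0 (eq_bot_iff.2 ?_)
  rw [← hTI (g • P) P hne]
  refine le_inf (fun r hr => ?_) hR
  rw [Sylow.coe_subgroup_smul]
  exact ⟨g⁻¹ * r * g, hR ((Subgroup.mem_normalizer_iff''.1 hg r).1 hr), by simp [mul_assoc]⟩

end Cfsg.Agent.S3870
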