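import Cfsg.Statements.S3872
import Cfsg.Agent.Lib.PGroup.Regular
import Cfsg.Agent.Lib.PGroup.PolySeq
-- import your own Cfsg.Agent.* helpers here

set_option autoImplicit false
open Cfsg

namespace Cfsg.Agent.S3872

open scoped commutatorElement

section Helpers

variable {G : Type*} [Group G] [Finite G] {p : ℕ} [hp : Fact p.Prime]

theorem closed_iff (H : Subgroup G) (h : (H : Set G) = {g : G | g ^ p = 1}) {g : G} :
    g ∈ H ↔ g ^ p = 1 := by rw [← SetLike.mem_coe, h]; rfl

theorem mul_card_le_of_lt (hG : IsPGroup p G) {H K : Subgroup G} (h : H < K) :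
    p * Nat.card H ≤ Nat.card K := by
  have hp' : p.Prime := hp.out
  obtain ⟨i, hi⟩ := (hG.to_subgroup H).exists_card_eq
  obtain ⟨j, hj⟩ := (hG.to_subgroup K).exists_card_eq
  have hlt : Nat.card H < Nat.card K := CfsgLib.PGroup.Regular.card_lt_of_lt h
  rw [hi, hj] at hlt ⊢
  have hij : i < j := (Nat.pow_lt_pow_iff_right hp'.one_lt).1 hlt
  calc p * p ^ i = p ^ (i + 1) := by rw [pow_succ']
    _ ≤ p ^ j := Nat.pow_le_pow_right hp'.pos hij

theorem lcs_card (hG : IsPGroup p G) : ∀ c : ℕ, ∀ i : ℕ,
    (⊤ : Subgroup G).lowerCentralSeries (i + c) ≠ ⊥ →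
      p ^ (c + 1) ≤ Nat.card ↥((⊤ : Subgroup G).lowerCentralSeries i) := by
  haveI := hG.isNilpotent
  have hstrict : ∀ i, (⊤ : Subgroup G).lowerCentralSeries i ≠ ⊥ →
      (⊤ : Subgroup G).lowerCentralSeries (i + 1) < (⊤ : Subgroup G).lowerCentralSeries i := by
    intro i hi
    refine lt_of_le_of_ne (Subgroup.lowerCentralSeries_antitone ⊤ i.le_succ) fun heq => hi ?_
    have hall : ∀ j, (⊤ : Subgroup G).lowerCentralSeries (i + j) =
        (⊤ : Subgroup G).lowerCentralSeries i := by
      intro j
      induction j with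
      | zero => rfl
      | succ j ih =>
        rw [← Nat.add_assoc, Subgroup.lowerCentralSeries_succ, ih, ← Subgroup.lowerCentralSeries_succ, heq]
    obtain ⟨n, hn⟩ := Subgroup.nilpotent_iff_lowerCentralSeries.mp (inferInstance : Group.IsNilpotent G)
    rw [← hall n]
    exact le_bot_iff.1 ((Subgroup.lowerCentralSeries_antitone ⊤ (Nat.le_add_left n i)).trans hn.le)
  intro c
  induction c with
  | zero =>
    intro i hi
    have h := mul_card_le_of_lt hG (bot_lt_iff_ne_bot.2 hi)
    simpa using h
  | succ c ih =>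
    intro i hi
    have h1 : (⊤ : Subgroup G).lowerCentralSeries i ≠ ⊥ := fun h => hi
      (le_bot_iff.1 ((Subgroup.lowerCentralSeries_antitone ⊤ (Nat.le_add_right i _)).trans h.le))
    calc p ^ (c + 1 + 1) = p * p ^ (c + 1) := by rw [pow_succ']
      _ ≤ p * Nat.card ↥((⊤ : Subgroup G).lowerCentralSeries (i + 1)) :=
          Nat.mul_le_mul_left p (ih (i + 1) (by rwa [Nat.add_assoc, Nat.add_comm 1 c]))
      _ ≤ _ := mul_card_le_of_lt hG (hstrict i h1)

theorem index_commutator (hG : IsPGroup p G) (hncyc : ¬ IsCyclic G) : p ^ 2 ≤ (commutator G).index := by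
  have hp' : p.Prime := hp.out
  haveI := hG.isNilpotent
  by_contra hlt
  push Not at hlt
  obtain ⟨k, hk⟩ := IsPGroup.index hG (commutator G)
  rw [hk] at hlt
  have hk1 : k < 2 := (Nat.pow_lt_pow_iff_right hp'.one_lt).1 hlt
  have hmax : ∀ M : Subgroup G, IsCoatom M → commutator G ≤ M := fun M hM => by
    haveI := Subgroup.NormalizerCondition.normal_of_coatom M Group.normalizerCondition_of_isNilpotent hM
    obtain ⟨x, hx⟩ : ∃ x : G, x ∉ M := by
      by_contra h
      push Not at h
      exact hM.1 (eq_top_iff.2 fun g _ => h g)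
    haveI : IsCyclic (G ⧸ M) := by
      refine ⟨⟨(x : G ⧸ M), fun y => ?_⟩⟩
      have htop : (Subgroup.zpowers (x : G ⧸ M)).comap (QuotientGroup.mk' M) = ⊤ := hM.2 _ (by
        refine SetLike.lt_iff_le_and_exists.2 ⟨QuotientGroup.le_comap_mk' M _, x, ?_, hx⟩
        exact Subgroup.mem_zpowers _)
      obtain ⟨g, rfl⟩ := QuotientGroup.mk'_surjective M y
      exact Subgroup.mem_comap.1 (htop ▸ Subgroup.mem_top g)
    letI := IsCyclic.commGroup (α := G ⧸ M)
    exact Subgroup.Normal.quotient_commutative_iff_commutator_le.mp inferInstance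
  obtain ⟨g, hg⟩ : ∃ g : G, commutator G ⊔ Subgroup.zpowers g = ⊤ := by
    interval_cases k
    · have h1 : commutator G = ⊤ := Subgroup.index_eq_one.1 (by simpa using hk)
      exact ⟨1, by rw [h1]; simp⟩
    · haveI : IsCyclic (G ⧸ commutator G) :=
        isCyclic_of_prime_card (p := p) (by rw [← Subgroup.index_eq_card, hk, pow_one])
      obtain ⟨y, hy⟩ := IsCyclic.exists_generator (α := G ⧸ commutator G)
      obtain ⟨g, rfl⟩ := QuotientGroup.mk_surjective y
      refine ⟨g, eq_top_iff.2 fun x _ => ?_⟩
      obtain ⟨i, hi⟩ := Subgroup.mem_zpowers_iff.1 (hy (x : G ⧸ commutator G))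
      rw [← QuotientGroup.mk_zpow, QuotientGroup.eq] at hi
      rw [show x = g ^ i * ((g ^ i)⁻¹ * x) by group]
      exact Subgroup.mul_mem _ (Subgroup.mem_sup_right (Subgroup.zpow_mem_zpowers g i))
        (Subgroup.mem_sup_left hi)
  refine hncyc ⟨⟨g, fun x => ?_⟩⟩
  have htop : Subgroup.zpowers g = ⊤ := by
    rcases eq_top_or_exists_le_coatom (Subgroup.zpowers g) with h | ⟨M, hM, hle⟩
    · exact h
    · exact absurd (top_le_iff.1 (hg.ge.trans (sup_le (hmax M hM) hle))) hM.1
  exact Subgroup.mem_zpowers_iff.1 (htop.symm ▸ Subgroup.mem_top x)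

theorem main (hG : IsPGroup p G)
    (hnc : ¬ (∃ H : Subgroup G, (H : Set G) = {g : G | g ^ p = 1}))
    (hsub : ∀ K : Subgroup G, K ≠ ⊤ → (∃ H : Subgroup ↥K, (H : Set ↥K) = {g : ↥K | g ^ p = 1}))
    (hquo : ∀ (N : Subgroup G) [N.Normal], N ≠ ⊥ → (∃ H : Subgroup (G ⧸ N), (H : Set (G ⧸ N)) = {g : (G ⧸ N) | g ^ p = 1})) :
    (∃ x y : G, Subgroup.closure ({x, y} : Set G) = ⊤) ∧ (⊤ : Subgroup G).lowerCentralSeries (p - 1) ≠ ⊥ ∧
      Monoid.exponent G = p ^ 2 ∧ IsCyclic ↥(Subgroup.center G) ∧ p ^ (p + 1) ≤ Nat.card G := by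
  have hp' : p.Prime := hp.out
  obtain ⟨x, y, hx, hy, hxy⟩ : ∃ x y : G, x ^ p = 1 ∧ y ^ p = 1 ∧ (x * y) ^ p ≠ 1 := by
    by_contra h
    push Not at h
    exact hnc ⟨{ carrier := {g | g ^ p = 1}
                 one_mem' := one_pow p
                 mul_mem' := fun {a b} ha hb => h a b ha hb
                 inv_mem' := fun {a} ha => by
                   show a⁻¹ ^ p = 1
                   rw [inv_pow, show a ^ p = 1 from ha, inv_one] }, rfl⟩
  have hgen : Subgroup.closure ({x, y} : Set G) = ⊤ := by
    by_contra hne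
    set K := Subgroup.closure ({x, y} : Set G)
    obtain ⟨H, hH⟩ := hsub _ hne
    have hxK : x ∈ K := Subgroup.subset_closure (Set.mem_insert _ _)
    have hyK : y ∈ K := Subgroup.subset_closure (Set.mem_insert_of_mem _ rfl)
    have h := (closed_iff H hH).1 (H.mul_mem
      ((closed_iff H hH).2 (Subtype.ext hx : (⟨x, hxK⟩ : K) ^ p = 1))
      ((closed_iff H hH).2 (Subtype.ext hy : (⟨y, hyK⟩ : K) ^ p = 1)))
    exact hxy (congrArg Subtype.val h)
  have hcls : (⊤ : Subgroup G).lowerCentralSeries (p - 1) ≠ ⊥ := fun h =>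
    hnc ⟨CfsgLib.PGroup.Regular.omega (CfsgLib.PGroup.PolySeq.regular_of_class_lt hG h) 1, by
      ext g
      rw [SetLike.mem_coe, CfsgLib.PGroup.Regular.mem_omega, pow_one]
      rfl⟩
  -- modulo a nontrivial normal subgroup the exponent is `p`
  have hmod : ∀ (N : Subgroup G) [N.Normal], N ≠ ⊥ → ∀ g : G, g ^ p ∈ N := by
    intro N _ hN g
    obtain ⟨H, hH⟩ := hquo N hN
    have hle : Subgroup.closure ({x, y} : Set G) ≤ H.comap (QuotientGroup.mk' N) := by
      rw [Subgroup.closure_le]
      rintro z (rfl | rfl)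
      · refine (closed_iff H hH).2 ?_
        rw [← map_pow, hx, map_one]
      · refine (closed_iff H hH).2 ?_
        rw [← map_pow, hy, map_one]
    rw [hgen] at hle
    have h := (closed_iff H hH).1 (hle (Subgroup.mem_top g))
    rw [← map_pow] at h
    exact (QuotientGroup.eq_one_iff _).1 h
  haveI : Nontrivial G := ⟨⟨(x * y) ^ p, 1, hxy⟩⟩
  haveI := hG.center_nontrivial
  have hcen : ∀ z : G, z ∈ Subgroup.center G → (Subgroup.zpowers z).Normal := fun z hz => by
    refine ⟨fun a ha g => ?_⟩
    obtain ⟨i, rfl⟩ := Subgroup.mem_zpowers_iff.1 ha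
    rw [Subgroup.mem_center_iff.1 (zpow_mem hz i) g, mul_inv_cancel_right]
    exact ha
  obtain ⟨z, hz⟩ := exists_prime_orderOf_dvd_card' (G := Subgroup.center G) p
    ((hG.to_subgroup _).card_eq_or_dvd.resolve_left Finite.one_lt_card.ne')
  have hzo : orderOf (z : G) = p := by rw [Subgroup.orderOf_coe, hz]
  have hzN : Subgroup.zpowers (z : G) ≠ ⊥ := fun h => hp'.ne_one (by
    rw [← hzo, ← Nat.card_zpowers, h, Subgroup.card_bot])
  refine ⟨⟨x, y, hgen⟩, hcls, ?_, ?_, ?_⟩
  · have hdvd : Monoid.exponent G ∣ p ^ 2 := Monoid.exponent_dvd_of_forall_pow_eq_one fun g => by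
      haveI := hcen _ z.2
      obtain ⟨i, hi⟩ := Subgroup.mem_zpowers_iff.1 (hmod _ hzN g)
      rw [pow_two, pow_mul, ← hi, ← zpow_natCast, zpow_comm, zpow_natCast, ← hzo, pow_orderOf_eq_one,
        one_zpow]
    obtain ⟨i, hi, he⟩ := (Nat.dvd_prime_pow hp').1 hdvd
    rcases Nat.lt_or_ge i 2 with h | h
    · exfalso
      apply hxy
      refine orderOf_dvd_iff_pow_eq_one.1 ((Monoid.order_dvd_exponent _).trans ?_)
      rw [he]
      calc p ^ i ∣ p ^ 1 := pow_dvd_pow p (by omega)
        _ = p := pow_one p
    · rw [he, show i = 2 by omega]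
  · classical
    haveI : Fintype (Subgroup.center G) := Fintype.ofFinite _
    letI : CommGroup (Subgroup.center G) :=
      { (inferInstance : Group (Subgroup.center G)) with
        mul_comm := fun a b => Subtype.ext (Subgroup.mem_center_iff.1 b.2 a) }
    have hiff : ∀ w : Subgroup.center G, w ^ p = 1 → w ∈ Subgroup.zpowers z := by
      intro w hw
      by_contra hwz
      apply hxy
      have hwo : orderOf (w : G) = p := by
        rw [Subgroup.orderOf_coe]
        exact orderOf_eq_prime hw fun h => hwz (h ▸ Subgroup.one_mem _)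
      have hwN : Subgroup.zpowers (w : G) ≠ ⊥ := fun h => hp'.ne_one (by
        rw [← hwo, ← Nat.card_zpowers, h, Subgroup.card_bot])
      haveI := hcen _ z.2
      haveI := hcen _ w.2
      obtain ⟨i, hi⟩ := Subgroup.mem_zpowers_iff.1 (hmod _ hzN (x * y))
      obtain ⟨j, hj⟩ := Subgroup.mem_zpowers_iff.1 (hmod _ hwN (x * y))
      have hint : (z ^ i : Subgroup.center G) = w ^ j := Subtype.ext (by push_cast; rw [hi, hj])
      by_contra hne
      apply hwz
      have hjp : ¬ (p : ℤ) ∣ j := fun hd => hne (by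
        rw [← hj]
        exact orderOf_dvd_iff_zpow_eq_one.1 (hwo ▸ hd))
      have hcop : IsCoprime (p : ℤ) j := (Nat.prime_iff_prime_int.1 hp').coprime_iff_not_dvd.2 hjp
      obtain ⟨u, v, huv⟩ := hcop
      have : w = (z ^ i) ^ v := by
        rw [hint, ← zpow_mul]
        calc w = w ^ (u * p + v * j) := by rw [huv, zpow_one]
          _ = w ^ (j * v) := by
            rw [zpow_add, mul_comm u, zpow_mul, zpow_natCast, hw, one_zpow, one_mul, mul_comm]
      rw [this, ← zpow_mul]
      exact Subgroup.zpow_mem_zpowers _ _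
    have hgp := hG.to_subgroup (Subgroup.center G)
    haveI : IsCyclic (Subgroup.center G) := by
      refine isCyclic_of_card_pow_eq_one_le fun n hn => ?_
      obtain ⟨k, hk⟩ := hgp.exists_card_eq
      -- the elements killed by `n` are those killed by the `p`-part of `n`
      have hle : ∀ j : ℕ, (Finset.univ.filter fun a : Subgroup.center G => a ^ p ^ j = 1).card ≤ p ^ j := by
        intro j
        induction j with
        | zero => simp [Finset.filter_eq']
        | succ j ih =>
          calc (Finset.univ.filter fun a : Subgroup.center G => a ^ p ^ (j + 1) = 1).card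
              ≤ p * (Finset.univ.filter fun a : Subgroup.center G => a ^ p ^ j = 1).card := by
                refine Finset.card_le_mul_card_image_of_maps_to (f := fun a => a ^ p) ?_ p ?_
                · intro a ha
                  simp only [Finset.mem_filter, Finset.mem_univ, true_and] at ha ⊢
                  rwa [← pow_mul, ← pow_succ']
                · intro b _
                  rcases Finset.eq_empty_or_nonempty ((Finset.univ.filter fun a : Subgroup.center G =>
                    a ^ p ^ (j + 1) = 1).filter fun a => a ^ p = b) with h | ⟨a₀, ha₀⟩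
                  · rw [h]; simp
                  · have h' : a₀ ^ p = b := (Finset.mem_filter.1 ha₀).2
                    calc _ ≤ (Finset.univ.filter fun a : Subgroup.center G => a ∈ Subgroup.zpowers z).card := by
                          refine Finset.card_le_card_of_injOn (fun a => a * a₀⁻¹) ?_ ?_
                          · intro a ha
                            have ha' : a ^ p = b := (Finset.mem_filter.1 ha).2
                            simp only [Finset.coe_filter, Finset.mem_univ, true_and, Set.mem_setOf_eq]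
                            exact hiff _ (by rw [mul_pow, inv_pow, ha', h', mul_inv_cancel])
                          · exact fun a _ b _ h => mul_right_cancel h
                      _ = p := by
                          rw [← Fintype.card_subtype, ← Nat.card_eq_fintype_card]
                          show Nat.card (Subgroup.zpowers z) = p
                          rw [Nat.card_zpowers, hz]
            _ ≤ p * p ^ j := Nat.mul_le_mul_left p ih
            _ = p ^ (j + 1) := by rw [pow_succ']
      refine le_trans ?_ (le_trans (hle (n.factorization p)) (Nat.le_of_dvd hn (Nat.ordProj_dvd n p)))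
      refine Finset.card_le_card fun a ha => ?_
      simp only [Finset.mem_filter, Finset.mem_univ, true_and] at ha ⊢
      obtain ⟨t, ht⟩ := hgp a
      obtain ⟨s, -, hs⟩ := (Nat.dvd_prime_pow hp').1 (orderOf_dvd_of_pow_eq_one ht)
      refine orderOf_dvd_iff_pow_eq_one.1 ?_
      rw [hs]
      exact pow_dvd_pow p ((hp'.pow_dvd_iff_le_factorization hn.ne').1 (hs ▸ orderOf_dvd_of_pow_eq_one ha))
    infer_instance
  · have hncyc : ¬ IsCyclic G := fun hc => hxy (by
      letI := IsCyclic.commGroup (α := G)
      rw [mul_pow, hx, hy, one_mul])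
    have hp2 := hp'.two_le
    rcases Nat.lt_or_ge p 2 with h | _
    · omega
    have h1 := lcs_card hG (p - 2) 1 (by rwa [show 1 + (p - 2) = p - 1 by omega])
    rw [show p - 2 + 1 = p - 1 by omega, Subgroup.lowerCentralSeries_one] at h1
    have h2 := index_commutator hG hncyc
    have h3 := (commutator G).card_mul_index
    calc p ^ (p + 1) = p ^ (p - 1) * p ^ 2 := by rw [← pow_add]; congr 1; omega
      _ ≤ Nat.card (commutator G) * (commutator G).index := Nat.mul_le_mul h1 h2
      _ = Nat.card G := h3

end Helpers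

/-- Say that a finite group is p-exponent closed when its elements of order dividing p form a subgroup. Let G be a finite p-group that is not p-exponent closed, but all of whose proper subgroups and proper quotients are. Then G is generated by two elements, has nilpotency class at least p, has exponent p², has cyclic center, and has order at least p^(p+1). -/
theorem result {G : Type*} [Group G] [Finite G] {p : ℕ} [Fact p.Prime] (hG : IsPGroup p G)
    (hnc : ¬ (∃ H : Subgroup G, (H : Set G) = {g : G | g ^ p = 1})) (hsub : ∀ K : Subgroup G, K ≠ ⊤ → (∃ H : Subgroup ↥K, (H : Set ↥K) = {g : ↥K | g ^ p = 1}))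
    (hquo : ∀ (N : Subgroup G) [N.Normal], N ≠ ⊥ → (∃ H : Subgroup (G ⧸ N), (H : Set (G ⧸ N)) = {g : (G ⧸ N) | g ^ p = 1})) :
    (∃ x y : G, Subgroup.closure ({x, y} : Set G) = ⊤) ∧ (⊤ : Subgroup G).lowerCentralSeries (p - 1) ≠ ⊥ ∧
      Monoid.exponent G = p ^ 2 ∧ IsCyclic ↥(Subgroup.center G) ∧ p ^ (p + 1) ≤ Nat.card G := by
  exact main hG hnc hsub hquo

end Cfsg.Agent.S3872
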