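import Cfsg.Statements.S3873
import Cfsg.Agent.S3868
-- import your own Cfsg.Agent.* helpers here

set_option autoImplicit false
open Cfsg

namespace Cfsg.Agent.S3873

/-- If the elements of order dividing `p` form a subgroup and some Sylow `p`-subgroup has exponent
dividing `p`, then that Sylow subgroup is normal. -/
lemma sylow_normal_of_exponent {H : Type*} [Group H] [Finite H] {p : ℕ} [Fact p.Prime] (P : Sylow p H)
    (hP : ∀ x ∈ (P : Subgroup H), x ^ p = 1) (hΩ : ∃ K : Subgroup H, (K : Set H) = {g : H | g ^ p = 1}) :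
    (P : Subgroup H).Normal := by
  obtain ⟨K, hK⟩ := hΩ
  have hmem : ∀ g, g ∈ K ↔ g ^ p = 1 := fun g => by rw [← SetLike.mem_coe, hK]; rfl
  have hle : (P : Subgroup H) ≤ K := fun x hx => (hmem x).2 (hP x hx)
  have hKp : IsPGroup p K := fun g => ⟨1, Subtype.ext (by rw [pow_one]; simpa using (hmem g).1 g.2)⟩
  have heq : K = (P : Subgroup H) := P.is_maximal' hKp hle
  rw [← heq]
  exact ⟨fun g hg h => (hmem _).2 (by rw [conj_pow, (hmem g).1 hg, mul_one, mul_inv_cancel])⟩


/-- Say that a finite group is p-exponent closed when its elements of order dividing p form a subgroup. Let G be a finite group that is not p-exponent closed, but all of whose proper subgroups and proper quotients are, and suppose G is neither simple nor a p-group. Then there is a prime q ≠ p such that G has order p · q^e, where e is the multiplicative order of q modulo p, and G has a normal elementary abelian subgroup of order q^e that is a minimal normal subgroup of G. -/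
theorem result {G : Type*} [Group G] [Finite G] {p : ℕ} [Fact p.Prime]
    (hnc : ¬ (∃ H : Subgroup G, (H : Set G) = {g : G | g ^ p = 1})) (hsub : ∀ K : Subgroup G, K ≠ ⊤ → (∃ H : Subgroup ↥K, (H : Set ↥K) = {g : ↥K | g ^ p = 1}))
    (hquo : ∀ (N : Subgroup G) [N.Normal], N ≠ ⊥ → (∃ H : Subgroup (G ⧸ N), (H : Set (G ⧸ N)) = {g : (G ⧸ N) | g ^ p = 1}))
    (hns : ¬ IsSimpleGroup G) (hnp : ¬ IsPGroup p G) :
    ∃ q : ℕ, q.Prime ∧ q ≠ p ∧ Nat.card G = p * q ^ orderOf (q : ZMod p) ∧
      ∃ A : Subgroup G, A.Normal ∧ Nat.card ↥A = q ^ orderOf (q : ZMod p) ∧ Cfsg.IsElementaryAbelian q A ∧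
        ∀ B : Subgroup G, B.Normal → B ≤ A → B = ⊥ ∨ B = A := by
  have hp : p.Prime := Fact.out
  have hnt : Nontrivial G := by
    by_contra h
    rw [not_nontrivial_iff_subsingleton] at h
    exact hnp fun g => ⟨0, Subsingleton.elim _ _⟩
  obtain ⟨M, hM, hM0, hMtop⟩ : ∃ M : Subgroup G, M.Normal ∧ M ≠ ⊥ ∧ M ≠ ⊤ := by
    by_contra hcon
    push Not at hcon
    exact hns ⟨fun N hN => or_iff_not_imp_left.2 (hcon N hN)⟩
  obtain ⟨N, hN, hN0, hNM, hmin⟩ := CfsgLib.Solvable.Basic.exists_minimal_normal_le hM0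
  have hNtop : N ≠ ⊤ := fun h => hMtop (eq_top_iff.2 (h ▸ hNM))
  -- every element of `G ⧸ N` has order dividing `p`
  have hexpQ : ∀ g : G, g ^ p ∈ N := by
    obtain ⟨H, hH⟩ := hquo N hN0
    have hmemH : ∀ z, z ∈ H ↔ z ^ p = 1 := fun z => by rw [← SetLike.mem_coe, hH]; rfl
    have hcomap : ∀ g : G, g ∈ H.comap (QuotientGroup.mk' N) ↔ g ^ p ∈ N := fun g => by
      rw [Subgroup.mem_comap, hmemH, QuotientGroup.mk'_apply, ← QuotientGroup.mk_pow, QuotientGroup.eq_one_iff]
    by_cases htop : H.comap (QuotientGroup.mk' N) = ⊤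
    · exact fun g => (hcomap g).1 (htop ▸ Subgroup.mem_top g)
    · obtain ⟨K, hK⟩ := hsub _ htop
      refine absurd ⟨K.map (H.comap (QuotientGroup.mk' N)).subtype, Set.ext fun g => ⟨?_, fun hg => ?_⟩⟩ hnc
      · rintro ⟨k, hk, rfl⟩
        exact (congrArg Subtype.val (hK.subset hk) :)
      · have hgp : g ^ p = 1 := hg
        exact ⟨⟨g, (hcomap g).2 (by rw [hgp]; exact one_mem N)⟩, hK.symm.subset (Subtype.ext hgp), rfl⟩
  have hcop : (Nat.card N).Coprime p := by
    refine ((hp.coprime_iff_not_dvd).2 fun hd => hnp ?_).symm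
    obtain ⟨K, hK⟩ := hsub N hNtop
    have hmemK : ∀ z : N, z ∈ K ↔ z ^ p = 1 := fun z => by rw [← SetLike.mem_coe, hK]; rfl
    have hKc : K.Characteristic := Subgroup.characteristic_iff_map_le.2 fun φ => by
      rintro _ ⟨z, hz, rfl⟩
      exact (hmemK _).2 (show φ z ^ p = 1 by rw [← map_pow, (hmemK z).1 hz, map_one])
    obtain ⟨y, hy⟩ := exists_prime_orderOf_dvd_card' p hd
    have hyK : y ∈ K := (hmemK y).2 (by rw [← hy, pow_orderOf_eq_one])
    rcases hmin (K.map N.subtype) inferInstance (Subgroup.map_subtype_le _) with h | h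
    · rw [Subgroup.map_eq_bot_iff_of_injective _ N.subtype_injective] at h
      rw [h, Subgroup.mem_bot] at hyK
      rw [hyK, orderOf_one] at hy
      exact absurd hy.symm hp.ne_one
    · intro g
      refine ⟨2, ?_⟩
      have h1 := hexpQ g
      rw [← h] at h1
      obtain ⟨z, hz, hzg⟩ := h1
      rw [pow_two, pow_mul, ← hzg]
      simpa using congrArg Subtype.val ((hmemK z).1 hz)
  have hexpP : ∀ (R : Subgroup G), IsPGroup p R → ∀ x ∈ R, x ^ p = 1 := by
    intro R hR x hx
    obtain ⟨k, hk⟩ := IsPGroup.iff_orderOf.1 hR ⟨x, hx⟩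
    rw [Subgroup.orderOf_mk] at hk
    rw [← orderOf_eq_one_iff]
    refine Nat.eq_one_of_dvd_coprimes (hcop.pow_right k) (Subgroup.orderOf_dvd_natCard N (hexpQ x)) ?_
    exact hk ▸ orderOf_pow_dvd p
  obtain ⟨P₀⟩ : Nonempty (Sylow p G) := inferInstance
  refine Cfsg.Agent.S3868.main ?_ (fun K hK P => ?_) (fun L _ hL P => ?_) hns
  · intro hclosed
    refine hnc ⟨(P₀ : Subgroup G), Set.ext fun g => ⟨fun hg => hexpP _ P₀.2 g hg, fun hg => ?_⟩⟩
    have hp' : IsPGroup p (Subgroup.zpowers g) := by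
      obtain ⟨i, -, hi⟩ := (Nat.dvd_prime_pow hp).1 (show orderOf g ∣ p ^ 1 by
        rw [pow_one]; exact orderOf_dvd_of_pow_eq_one hg)
      exact IsPGroup.of_card (by rw [Nat.card_zpowers, hi])
    obtain ⟨R, hR⟩ := hp'.exists_le_sylow
    have : Subsingleton (Sylow p G) := (Sylow.unique_of_normal _ (hclosed P₀)).instSubsingleton
    exact Subsingleton.elim R P₀ ▸ hR (Subgroup.mem_zpowers g)
  · refine sylow_normal_of_exponent P (fun x hx => Subtype.ext ?_) (hsub K hK)
    simpa using hexpP _ (P.2.map K.subtype) (x : G) ⟨x, hx, rfl⟩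
  · obtain ⟨P', rfl⟩ := Sylow.mapSurjective_surjective (QuotientGroup.mk'_surjective L) p P
    refine sylow_normal_of_exponent _ ?_ (hquo L hL)
    rw [Sylow.coe_mapSurjective]
    rintro _ ⟨z, hz, rfl⟩
    rw [← map_pow, hexpP _ P'.2 z hz, map_one]

end Cfsg.Agent.S3873
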