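import Cfsg.Statements.S3875
import Cfsg.Agent.Lib.Coprime.LeastNonPClosed
import Cfsg.Agent.Lib.Classical.SLOrders
import Mathlib.FieldTheory.Finite.GaloisField
import Mathlib.GroupTheory.SemidirectProduct
import Mathlib.GroupTheory.Sylow
-- import your own Cfsg.Agent.* helpers here

set_option autoImplicit false
open Cfsg

namespace Cfsg.Agent.S3875

section Helpers
open Subgroup Matrix

theorem exists_affine (p : ℕ) [Fact p.Prime] (m : ℕ) (hm : IsPrimePow m) (hm1 : m % p = 1) :
    ∃ (H : Type) (_ : Group H) (_ : Finite H), Nat.card H = p * m ∧ ¬ Cfsg.IsPClosed p H := by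
  classical
  have hpp : p.Prime := Fact.out
  obtain ⟨r, i, hr, hi, rfl⟩ := (isPrimePow_nat_iff m).1 hm
  haveI := Fact.mk hr
  let F := GaloisField r i
  haveI : Fintype F := Fintype.ofFinite F
  have hF : Nat.card F = r ^ i := GaloisField.card r i hi.ne'
  have hp : p ∣ Nat.card Fˣ := by
    rw [Nat.card_units, hF]
    have h := Nat.div_add_mod (r ^ i) p
    exact ⟨r ^ i / p, by omega⟩
  obtain ⟨u, hu⟩ := exists_prime_orderOf_dvd_card' p hp
  let act : Fˣ →* MulAut (Multiplicative F) :=
    { toFun := fun v => AddEquiv.toMultiplicative (DistribMulAction.toAddEquiv F v)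
      map_one' := MulEquiv.ext fun a => congrArg Multiplicative.ofAdd (one_smul Fˣ a.toAdd)
      map_mul' := fun v w => MulEquiv.ext fun a =>
        congrArg Multiplicative.ofAdd (mul_smul v w a.toAdd) }
  let A := zpowers u
  let φ : A →* MulAut (Multiplicative F) := act.comp A.subtype
  let H := Multiplicative F ⋊[φ] A
  have hcard : Nat.card H = p * r ^ i := by
    rw [SemidirectProduct.card, Nat.card_zpowers, hu, mul_comm]
    congr 1
  haveI : Finite H := Finite.of_equiv _ SemidirectProduct.equivProd.symm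
  refine ⟨H, inferInstance, inferInstance, hcard, fun hcl => ?_⟩
  let a : H := SemidirectProduct.inr ⟨u, mem_zpowers u⟩
  have ha : orderOf a = p := by
    rw [orderOf_injective _ SemidirectProduct.inr_injective, ← hu, ← Subgroup.orderOf_coe]
  have hap : IsPGroup p (zpowers a) := IsPGroup.of_card (n := 1) (by rw [Nat.card_zpowers, ha, pow_one])
  obtain ⟨P, hP⟩ := hap.exists_le_sylow
  haveI : (P : Subgroup H).Normal := hcl P
  let f : H := SemidirectProduct.inl (Multiplicative.ofAdd 1)
  have hc : a * f * a⁻¹ * f⁻¹ ∈ (P : Subgroup H) := by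
    have h1 : a ∈ (P : Subgroup H) := hP (mem_zpowers a)
    rw [mul_assoc, mul_assoc, ← mul_assoc f]
    exact mul_mem h1 ((inferInstance : (P : Subgroup H).Normal).conj_mem a⁻¹ (inv_mem h1) f)
  have hr' : a * f * a⁻¹ * f⁻¹ = SemidirectProduct.inl
      (φ ⟨u, mem_zpowers u⟩ (Multiplicative.ofAdd 1) * (Multiplicative.ofAdd 1)⁻¹) := by
    rw [map_mul, SemidirectProduct.inl_aut, map_inv, map_inv]
  set w : Multiplicative F := φ ⟨u, mem_zpowers u⟩ (Multiplicative.ofAdd 1) * (Multiplicative.ofAdd 1)⁻¹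
    with hw
  rw [hr'] at hc
  have hw1 : w = 1 := by
    obtain ⟨k, hk⟩ := P.2 ⟨_, hc⟩
    have h1 : (SemidirectProduct.inl w : H) ^ p ^ k = 1 := congrArg Subtype.val hk
    rw [← map_pow, map_eq_one_iff _ SemidirectProduct.inl_injective] at h1
    have h2 : orderOf w ∣ p ^ k := orderOf_dvd_of_pow_eq_one h1
    have h3 : orderOf w ∣ r ^ i := by rw [← hF]; exact orderOf_dvd_natCard w
    have hne : p ≠ r := by
      rintro rfl
      rw [Nat.pow_mod, Nat.mod_self, zero_pow hi.ne', Nat.zero_mod] at hm1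
      exact zero_ne_one hm1
    exact orderOf_eq_one_iff.1 (Nat.eq_one_of_dvd_coprimes
      (Nat.Coprime.pow k i ((Nat.coprime_primes hpp hr).2 hne)) h2 h3)
  rw [hw, mul_inv_eq_one] at hw1
  have h1 : (u : F) * 1 = 1 := congrArg Multiplicative.toAdd hw1
  rw [mul_one] at h1
  rw [(Units.ext h1 : u = 1), orderOf_one] at hu
  exact hpp.one_lt.ne hu

theorem exists_psl (p : ℕ) [Fact p.Prime] (hp : 5 ≤ p) :
    ∃ (H : Type) (_ : Group H) (_ : Finite H),
      Nat.card H = p * (p ^ 2 - 1) / 2 ∧ ¬ Cfsg.IsPClosed p H := by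
  classical
  have hpp : p.Prime := Fact.out
  let H := Matrix.ProjectiveSpecialLinearGroup (Fin 2) (ZMod p)
  obtain ⟨c, hc⟩ := hpp.odd_of_ne_two (by omega)
  have h1 := CfsgLib.Classical.card_sl_mul (F := ZMod p) (ZMod.card p) 2 (by norm_num)
  have h2 := CfsgLib.Classical.card_psl_mul (F := ZMod p) (ZMod.card p) 2 (by norm_num)
  rw [show Nat.gcd 2 (p - 1) = 2 from Nat.gcd_eq_left (by omega)] at h2
  rw [Fin.prod_univ_two, ← h2] at h1
  have hc1 : (p ^ 2 - p ^ ((0 : Fin 2) : ℕ)) * (p ^ 2 - p ^ ((1 : Fin 2) : ℕ)) =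
      (p - 1) * (p * (p ^ 2 - 1)) := by
    have : p ^ 2 - p = p * (p - 1) := by rw [Nat.mul_sub, mul_one, pow_two]
    simp only [Fin.val_zero, Fin.val_one, pow_zero, pow_one, this]
    ring
  rw [hc1] at h1
  have h3 := Nat.eq_of_mul_eq_mul_left (by omega) h1
  have hcard : Nat.card H = p * (p ^ 2 - 1) / 2 := by
    rw [← h3, Nat.mul_div_cancel_left _ (by norm_num)]
  refine ⟨H, inferInstance, inferInstance, hcard, fun hcl => ?_⟩
  haveI : IsSimpleGroup H := CfsgLib.Classical.psl_fin_isSimpleGroup le_rfl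
    (fun _ => by rw [ZMod.card]; omega)
  obtain ⟨P⟩ := (inferInstance : Nonempty (Sylow p H))
  have h4 : 2 * Nat.card H = p * (p ^ 2 - 1) := h3
  rcases (hcl P).eq_bot_or_eq_top with h | h
  · have h5 : p ∣ Nat.card H := by
      refine (Nat.Coprime.dvd_of_dvd_mul_left ((Nat.coprime_primes hpp Nat.prime_two).2 (by omega)) ?_)
      exact ⟨p ^ 2 - 1, h4⟩
    have h6 := P.dvd_card_of_dvd_card h5
    rw [h, Subgroup.card_bot] at h6
    exact hpp.one_lt.ne (Nat.dvd_one.1 h6).symm
  · have h5 := P.2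
    rw [h] at h5
    obtain ⟨j, hj⟩ := (IsPGroup.iff_card (p := p)).1 h5
    rw [Subgroup.card_top] at hj
    have hd : p + 1 ∣ 2 * p ^ j := by
      rw [← hj, h4, show p ^ 2 - 1 = (p + 1) * (p - 1) by rw [← Nat.sq_sub_sq, one_pow]]
      exact (dvd_mul_right _ _).trans (dvd_mul_left _ _)
    have hcop : (p + 1).Coprime (p ^ j) := by
      refine Nat.Coprime.pow_right j ?_
      simp
    have := Nat.le_of_dvd two_pos (hcop.dvd_of_dvd_mul_right hd)
    omega

end Helpers

/-- Let p be an odd prime and let m be the least prime power congruent to 1 modulo p. Then the least order of a finite group whose Sylow p-subgroups are not normal is the smaller of p · m and p(p² − 1)/2: every finite group whose Sylow p-subgroups are not normal has at least that order, and some group of exactly that order has non-normal Sylow p-subgroups. -/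
theorem result (p : ℕ) [Fact p.Prime] (hp : p ≠ 2) (m : ℕ) (hm : IsPrimePow m) (hm1 : m % p = 1)
    (hleast : ∀ k : ℕ, IsPrimePow k → k % p = 1 → m ≤ k) :
    (∀ (H : Type) [Group H] [Finite H], ¬ Cfsg.IsPClosed p H → min (p * m) (p * (p ^ 2 - 1) / 2) ≤ Nat.card H) ∧
      ∃ (H : Type) (_ : Group H) (_ : Finite H), Nat.card H = min (p * m) (p * (p ^ 2 - 1) / 2) ∧ ¬ Cfsg.IsPClosed p H := by
  refine ⟨fun H _ _ h => CfsgLib.Coprime.LeastNonPClosed.le_card hp m hleast _ H rfl h, ?_⟩
  have hp3 : 3 ≤ p := by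
    have := (Fact.out : p.Prime).two_le
    omega
  by_cases hle : p * m ≤ p * (p ^ 2 - 1) / 2
  · rw [min_eq_left hle]
    exact exists_affine p m hm hm1
  · rw [min_eq_right (le_of_not_ge hle)]
    refine exists_psl p ?_
    by_contra h5
    obtain rfl : p = 3 := by
      have : p ≠ 4 := by rintro rfl; exact absurd (Fact.out : Nat.Prime 4) (by norm_num)
      omega
    have := hleast 4 ⟨2, 2, Nat.prime_two.prime, two_pos, rfl⟩ rfl
    omega
end Cfsg.Agent.S3875
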