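import Cfsg.Statements.S3878
-- import your own Cfsg.Agent.* helpers here

set_option autoImplicit false
open Cfsg

namespace Cfsg.Agent.S3878

open Equiv Equiv.Perm MulAction

section Helpers

/-- A prime of `π` dividing the order of the group divides the order of a Hall `π`-subgroup. -/
theorem dvd_card_hall {G : Type*} [Group G] [Finite G] {π : Set ℕ} {H : Subgroup G}
    (hH : Cfsg.IsPiHall π H) {p : ℕ} (hp : p.Prime) (hpπ : p ∈ π) (hdvd : p ∣ Nat.card G) :
    p ∣ Nat.card H := by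
  rw [← H.index_mul_card] at hdvd
  exact (hp.dvd_mul.1 hdvd).resolve_left (hH.2 p hp hpπ)

/-- A subgroup of index prime to `p` contains a conjugate of every `p`-element. -/
theorem exists_conj_mem {G : Type*} [Group G] [Finite G] {p : ℕ} [Fact p.Prime] {H : Subgroup G}
    (hidx : ¬ p ∣ H.index) {g : G} (hg : IsPGroup p (Subgroup.zpowers g)) :
    ∃ x : G, x⁻¹ * g * x ∈ H := by
  obtain ⟨a, ha⟩ := hg.nonempty_fixed_point_of_prime_not_dvd_card (G ⧸ H)
    (by rw [← Subgroup.index_eq_card]; exact hidx)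
  obtain ⟨x, rfl⟩ := QuotientGroup.mk_surjective a
  refine ⟨x, ?_⟩
  have h : ((x : G ⧸ H)) = ((g * x : G) : G ⧸ H) := (ha ⟨g, Subgroup.mem_zpowers g⟩).symm
  have h' := QuotientGroup.eq.1 h
  rwa [← mul_assoc] at h'

/-- A subgroup of prime-degree symmetric group with index prime to the degree is primitive. -/
theorem preprimitive_of_dvd {q : ℕ} (hq : q.Prime) {H : Subgroup (Perm (Fin q))}
    (hidx : ¬ q ∣ H.index) : IsPreprimitive H (Fin q) := by
  haveI : Fact q.Prime := ⟨hq⟩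
  haveI : NeZero q := ⟨hq.ne_zero⟩
  have hc : (finRotate q).IsCycle := isCycle_finRotate_of_le hq.two_le
  have hs : (finRotate q).support = Finset.univ := support_finRotate_of_le hq.two_le
  have ho : orderOf (finRotate q) = q := by
    rw [hc.orderOf, hs, Finset.card_univ, Fintype.card_fin]
  have hzp : IsPGroup q (Subgroup.zpowers (finRotate q)) :=
    IsPGroup.of_card (n := 1) (by rw [Nat.card_zpowers, ho, pow_one])
  obtain ⟨x, hx⟩ := exists_conj_mem hidx hzp
  have hc' : (x⁻¹ * finRotate q * x).IsCycle := by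
    have h := hc.conj (g := x⁻¹)
    rwa [inv_inv] at h
  have hs' : (x⁻¹ * finRotate q * x).support = Finset.univ := by
    refine Finset.eq_univ_of_card _ ?_
    rw [← hc'.orderOf, Fintype.card_fin]
    calc orderOf (x⁻¹ * finRotate q * x) = orderOf (finRotate q) := by
          have h := orderOf_injective (MulAut.conj x⁻¹).toMonoidHom (MulAut.conj x⁻¹).injective
            (finRotate q)
          simpa [MulAut.conj_apply] using h
      _ = q := ho
  haveI : IsPretransitive H (Fin q) := ⟨fun a b => by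
    obtain ⟨i, hi⟩ := hc'.exists_zpow_eq (x := a) (y := b)
      (Equiv.Perm.mem_support.1 (by rw [hs']; exact Finset.mem_univ a))
      (Equiv.Perm.mem_support.1 (by rw [hs']; exact Finset.mem_univ b))
    exact ⟨⟨(x⁻¹ * finRotate q * x) ^ i, H.zpow_mem hx i⟩, hi⟩⟩
  exact IsPreprimitive.of_prime_card (by rw [Nat.card_fin]; exact hq)

/-- Two primes of `π`, both odd, with `2 ∉ π`: the symmetric group of the larger degree has no
Hall `π`-subgroup. -/
theorem not_hall_odd {π : Set ℕ} {p q : ℕ} (hp : p.Prime) (hq : q.Prime) (hpq : p < q)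
    (hpπ : p ∈ π) (hqπ : q ∈ π) (h2 : 2 ∉ π) : ¬ Cfsg.IsEPiGroup π (Perm (Fin q)) := by
  rintro ⟨H, hH⟩
  have hp3 : 3 ≤ p := by
    rcases eq_or_lt_of_le hp.two_le with h | h
    · exact absurd (h ▸ hpπ) h2
    · exact h
  have hq2 : q % 2 = 1 := hq.eq_two_or_odd.resolve_left (by omega)
  have hp2 : p % 2 = 1 := hp.eq_two_or_odd.resolve_left (by omega)
  haveI : Fact p.Prime := ⟨hp⟩
  have hprim : IsPreprimitive H (Fin q) := preprimitive_of_dvd hq (hH.2 q hq hqπ)
  -- a `p`-cycle of the symmetric group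
  obtain ⟨g₀, hg₀⟩ := exists_prime_orderOf_dvd_card' (G := Perm (Fin p)) p (by
    rw [Nat.card_perm, Nat.card_fin]; exact Nat.dvd_factorial hp.pos le_rfl)
  have hg₀c : g₀.IsCycle := Equiv.Perm.isCycle_of_prime_order (by rw [hg₀]; exact hp) (by
    rw [hg₀]
    have := Finset.card_le_univ g₀.support
    rw [Fintype.card_fin] at this
    omega)
  let e : Fin p ≃ {i : Fin q // i.1 < p} :=
    { toFun := fun i => ⟨⟨i.1, i.2.trans hpq⟩, i.2⟩
      invFun := fun i => ⟨i.1.1, i.2⟩
      left_inv := fun i => rfl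
      right_inv := fun i => rfl }
  have hgc : (g₀.extendDomain e).IsCycle := hg₀c.extendDomain e
  have hsupp : (g₀.extendDomain e).support.card = p := by
    rw [Equiv.Perm.card_support_extend_domain, ← hg₀c.orderOf, hg₀]
  have hgo : orderOf (g₀.extendDomain e) = p := by rw [hgc.orderOf, hsupp]
  have hzp : IsPGroup p (Subgroup.zpowers (g₀.extendDomain e)) :=
    IsPGroup.of_card (n := 1) (by rw [Nat.card_zpowers, hgo, pow_one])
  obtain ⟨x, hx⟩ := exists_conj_mem (hH.2 p hp hpπ) hzp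
  set g := x⁻¹ * g₀.extendDomain e * x with hg
  have hc' : g.IsCycle := by
    have h := hgc.conj (g := x⁻¹)
    rwa [inv_inv, ← hg] at h
  have hs' : g.support.card = p := by
    rw [← hc'.orderOf, ← hgo]
    have h := orderOf_injective (MulAut.conj x⁻¹).toMonoidHom (MulAut.conj x⁻¹).injective
      (g₀.extendDomain e)
    simpa [MulAut.conj_apply, hg] using h
  have hn : (((g.support : Set (Fin q)))ᶜ).ncard = (q - p - 1) + 1 := by
    have h := Set.ncard_add_ncard_compl (g.support : Set (Fin q))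
    rw [Set.ncard_coe_finset, hs', Nat.card_fin] at h
    omega
  have htr := Equiv.Perm.isPretransitive_of_isCycle_mem hc' hx
  have h2t : IsMultiplyPretransitive H (Fin q) 2 :=
    hprim.is_two_pretransitive hn (by rw [Nat.card_fin]; omega) htr
  rw [is_two_pretransitive_iff] at h2t
  have hab : (⟨0, hq.pos⟩ : Fin q) ≠ ⟨1, hq.one_lt⟩ := by simp [Fin.ext_iff]
  obtain ⟨h, h01, h10⟩ := h2t hab hab.symm
  have hk : ∀ k : ℕ, (h ^ (2 * k + 1)) • (⟨0, hq.pos⟩ : Fin q) = ⟨1, hq.one_lt⟩ := by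
    intro k
    induction k with
    | zero => simpa using h01
    | succ k ih =>
      rw [show 2 * (k + 1) + 1 = 2 + (2 * k + 1) by ring, pow_add, mul_smul, ih, pow_two, mul_smul,
        h10, h01]
  have heven : 2 ∣ orderOf h := by
    by_contra hodd
    have := hk (orderOf h / 2)
    rw [show 2 * (orderOf h / 2) + 1 = orderOf h by omega, pow_orderOf_eq_one, one_smul] at this
    exact hab this
  exact h2 (hH.1 2 Nat.prime_two (heven.trans (orderOf_dvd_natCard h)))

/-- `2 ∈ π` and an odd prime of `π` above a prime outside `π`. -/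
theorem not_hall_swap {π : Set ℕ} {q r : ℕ} (hq : q.Prime) (hr : r.Prime) (hrq : r < q)
    (h2 : 2 ∈ π) (hqπ : q ∈ π) (hrπ : r ∉ π) : ¬ Cfsg.IsEPiGroup π (Perm (Fin q)) := by
  rintro ⟨H, hH⟩
  haveI : Fact (Nat.Prime 2) := ⟨Nat.prime_two⟩
  have hprim : IsPreprimitive H (Fin q) := preprimitive_of_dvd hq (hH.2 q hq hqπ)
  have hab : (⟨0, hq.pos⟩ : Fin q) ≠ ⟨1, hq.one_lt⟩ := by simp [Fin.ext_iff]
  have hsw : (swap (⟨0, hq.pos⟩ : Fin q) ⟨1, hq.one_lt⟩).IsSwap := ⟨_, _, hab, rfl⟩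
  obtain ⟨x, hx⟩ := exists_conj_mem (hH.2 2 Nat.prime_two h2)
    (IsPGroup.of_card (p := 2) (n := 1)
      (G := Subgroup.zpowers (swap (⟨0, hq.pos⟩ : Fin q) ⟨1, hq.one_lt⟩))
      (by rw [Nat.card_zpowers, hsw.orderOf, pow_one]))
  have hsw' : (x⁻¹ * swap (⟨0, hq.pos⟩ : Fin q) ⟨1, hq.one_lt⟩ * x).IsSwap := by
    refine ⟨x⁻¹ ⟨0, hq.pos⟩, x⁻¹ ⟨1, hq.one_lt⟩, x⁻¹.injective.ne hab, ?_⟩
    have h := Equiv.swap_apply_apply x⁻¹ (⟨0, hq.pos⟩ : Fin q) ⟨1, hq.one_lt⟩
    rw [h, inv_inv]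
  have htop := Equiv.Perm.subgroup_eq_top_of_isPreprimitive_of_isSwap_mem hprim _ hsw' hx
  refine hrπ (hH.1 r hr ?_)
  rw [htop, Subgroup.card_top, Nat.card_perm, Nat.card_fin]
  exact Nat.dvd_factorial hr.pos hrq.le

/-- All primes below `r` lie in `π` while `r` does not. -/
theorem not_hall_index {π : Set ℕ} {r : ℕ} (hr : r.Prime) (hr5 : 5 ≤ r) (hrπ : r ∉ π)
    (hlow : ∀ s : ℕ, s.Prime → s < r → s ∈ π) : ¬ Cfsg.IsEPiGroup π (Perm (Fin (r + 1))) := by
  rintro ⟨H, hH⟩
  have hdvd : H.index ∣ (r + 1).factorial := by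
    have := H.index_dvd_card
    rwa [Nat.card_perm, Nat.card_fin] at this
  have hidx0 : H.index ≠ 0 := Subgroup.index_ne_zero_of_finite
  have hcard : Nat.card H * H.index = (r + 1).factorial := by
    rw [H.card_mul_index, Nat.card_perm, Nat.card_fin]
  have hrH : ¬ r ∣ Nat.card H := fun h => hrπ (hH.1 r hr h)
  have hrI : r ∣ H.index := by
    have h : r ∣ Nat.card H * H.index := hcard ▸ Nat.dvd_factorial hr.pos (by omega)
    exact (hr.dvd_mul.1 h).resolve_left hrH
  have hidx : H.index = r := by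
    obtain ⟨t, ht⟩ := hrI
    rcases Nat.lt_or_ge 1 t with h1 | h1
    · exfalso
      obtain ⟨s, hs, hst⟩ := Nat.exists_prime_and_dvd (show t ≠ 1 by omega)
      have hsI : s ∣ H.index := ht ▸ hst.mul_left r
      have hsle : s ≤ r + 1 := (hs.dvd_factorial).1 (hsI.trans hdvd)
      have hsπ : s ∉ π := fun h => hH.2 s hs h hsI
      have hsr : s = r := by
        rcases lt_trichotomy s r with h | h | h
        · exact absurd (hlow s hs h) hsπ
        · exact h
        · have h2 := hr.eq_two_or_odd.resolve_left (by omega)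
          have h3 := hs.eq_two_or_odd.resolve_left (by omega)
          omega
      subst hsr
      have h2 : s * s ∣ (s + 1).factorial := (ht ▸ mul_dvd_mul_left s hst).trans hdvd
      rw [Nat.factorial_succ, ← Nat.mul_factorial_pred hs.ne_zero, mul_left_comm] at h2
      have h3 := Nat.dvd_of_mul_dvd_mul_left hs.pos h2
      rcases hs.dvd_mul.1 h3 with h4 | h4
      · have := Nat.le_of_dvd (by omega) ((Nat.dvd_add_right dvd_rfl).1 h4)
        omega
      · have := hs.dvd_factorial.1 h4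
        omega
    · rcases Nat.le_one_iff_eq_zero_or_eq_one.1 h1 with rfl | rfl
      · exact absurd (by simpa using ht) hidx0
      · simpa using ht
  let f := MulAction.toPermHom (Perm (Fin (r + 1))) (Perm (Fin (r + 1)) ⧸ H)
  have hfi : f.ker.index ∣ r.factorial := by
    rw [Subgroup.index_ker]
    have h := f.range.card_subgroup_dvd_card
    rwa [Nat.card_perm, ← Subgroup.index_eq_card, hidx] at h
  have hfH : f.ker ≤ H := by
    intro g hg
    have h := congrArg (fun σ => σ ((1 : Perm (Fin (r + 1))) : Perm (Fin (r + 1)) ⧸ H))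
      (MonoidHom.mem_ker.1 hg)
    have h' : ((g * 1 : Perm (Fin (r + 1))) : Perm (Fin (r + 1)) ⧸ H) =
      ((1 : Perm (Fin (r + 1))) : Perm (Fin (r + 1)) ⧸ H) := h
    rw [mul_one, QuotientGroup.eq] at h'
    simpa using h'
  haveI := alternatingGroup.isSimpleGroup (α := Fin (r + 1)) (by rw [Nat.card_fin]; omega)
  rcases Subgroup.Normal.eq_bot_or_eq_top
      (inferInstance : (f.ker.subgroupOf (alternatingGroup (Fin (r + 1)))).Normal) with h | h
  · have hinj : Function.Injective (fun k : f.ker => Equiv.Perm.sign (k : Perm (Fin (r + 1)))) := by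
      intro a b hab
      have hab' : Equiv.Perm.sign (a : Perm (Fin (r + 1))) = Equiv.Perm.sign (b : Perm (Fin (r + 1))) := hab
      have hm : (a : Perm (Fin (r + 1))) * (b : Perm (Fin (r + 1)))⁻¹ ∈
          alternatingGroup (Fin (r + 1)) := by
        rw [Equiv.Perm.mem_alternatingGroup, map_mul, hab', ← map_mul, mul_inv_cancel, map_one]
      have hb : (⟨_, hm⟩ : alternatingGroup (Fin (r + 1))) ∈
          f.ker.subgroupOf (alternatingGroup (Fin (r + 1))) :=
        Subgroup.mem_subgroupOf.2 (f.ker.mul_mem a.2 (f.ker.inv_mem b.2))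
      rw [h, Subgroup.mem_bot] at hb
      exact Subtype.ext (mul_inv_eq_one.1 (congrArg Subtype.val hb))
    have h2 := Nat.card_le_card_of_injective _ hinj
    rw [Nat.card_eq_fintype_card (α := ℤˣ), Fintype.card_units_int] at h2
    have h3 := f.ker.card_mul_index
    rw [Nat.card_perm, Nat.card_fin, Nat.factorial_succ] at h3
    have h4 := Nat.le_of_dvd (Nat.factorial_pos r) hfi
    have h5 : (r + 1) * r.factorial ≤ 2 * r.factorial := h3 ▸ Nat.mul_le_mul h2 h4
    have := Nat.le_of_mul_le_mul_right h5 (Nat.factorial_pos r)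
    omega
  · have hA : alternatingGroup (Fin (r + 1)) ≤ H := (Subgroup.subgroupOf_eq_top.1 h).trans hfH
    have h2 := Subgroup.index_dvd_of_le hA
    haveI : Nontrivial (Fin (r + 1)) := Fin.nontrivial_iff_two_le.2 (by omega)
    rw [hidx, alternatingGroup.index_eq_two] at h2
    have := Nat.le_of_dvd two_pos h2
    omega

theorem exists_not_hall {π : Set ℕ} {p q r : ℕ} (hp : p.Prime) (hq : q.Prime) (hr : r.Prime)
    (hpπ : p ∈ π) (hqπ : q ∈ π) (hpq : p ≠ q) (hrπ : r ∉ π) :
    ∃ n : ℕ, ¬ Cfsg.IsEPiGroup π (Perm (Fin n)) := by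
  classical
  by_cases h2 : 2 ∈ π
  · have hex : ∃ r : ℕ, r.Prime ∧ r ∉ π := ⟨r, hr, hrπ⟩
    obtain ⟨hr₀, hr₀π⟩ := Nat.find_spec hex
    obtain ⟨s, hs, hsπ, hs2⟩ : ∃ s : ℕ, s.Prime ∧ s ∈ π ∧ s ≠ 2 := by
      by_cases hp2 : p = 2
      · exact ⟨q, hq, hqπ, fun h => hpq (hp2.trans h.symm)⟩
      · exact ⟨p, hp, hpπ, hp2⟩
    rcases lt_trichotomy (Nat.find hex) s with h | h | h
    · exact ⟨s, not_hall_swap hs hr₀ h h2 hsπ hr₀π⟩
    · exact absurd (h ▸ hsπ) hr₀π
    · refine ⟨Nat.find hex + 1, not_hall_index hr₀ ?_ hr₀π fun t ht htr => ?_⟩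
      · have := hs.two_le
        have := hr₀.eq_two_or_odd
        omega
      · by_contra htπ
        exact Nat.find_min hex htr ⟨ht, htπ⟩
  · rcases lt_or_gt_of_ne hpq with h | h
    · exact ⟨q, not_hall_odd hp hq h hpπ hqπ h2⟩
    · exact ⟨p, not_hall_odd hq hp h hqπ hpπ h2⟩

theorem d_of_cond {G : Type*} [Group G] [Finite G] {π : Set ℕ}
    (h : (∀ p q : ℕ, p.Prime → q.Prime → p ∈ π → q ∈ π → p = q) ∨ ∀ p : ℕ, p.Prime → p ∈ π) :
    Cfsg.IsDPiGroup π G := by
  intro H K hH hK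
  rcases h with h | h
  · by_cases hex : ∃ p : ℕ, p.Prime ∧ p ∈ π
    · obtain ⟨p, hp, hpπ⟩ := hex
      haveI : Fact p.Prime := ⟨hp⟩
      have hpg : ∀ {L : Subgroup G}, Cfsg.IsPiSubgroup π L → IsPGroup p L := fun {L} hL =>
        IsPGroup.of_card (n := (Nat.card L).primeFactorsList.length)
          (Nat.eq_prime_pow_of_unique_prime_dvd Nat.card_pos.ne'
            fun {d} hd hdd => h d p hd hp (hL d hd hdd) hpπ)
      have hsyl : ∀ {L : Subgroup G}, Maximal (Cfsg.IsPiSubgroup π) L →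
          ∃ P : Sylow p G, (P : Subgroup G) = L := by
        intro L hL
        obtain ⟨P, hP⟩ := (hpg hL.1).exists_le_sylow
        refine ⟨P, le_antisymm (hL.2 ?_ hP) hP⟩
        intro s hs hdvd
        obtain ⟨n, hn⟩ := P.isPGroup'.exists_card_eq
        rw [hn] at hdvd
        rw [(Nat.prime_dvd_prime_iff_eq hs hp).1 (hs.dvd_of_dvd_pow hdvd)]
        exact hpπ
      obtain ⟨P, rfl⟩ := hsyl hH
      obtain ⟨Q, rfl⟩ := hsyl hK
      obtain ⟨g, hg⟩ := MulAction.exists_smul_eq G P Q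
      refine ⟨g, ?_⟩
      rw [← hg]
      rfl
    · have hbot : ∀ {L : Subgroup G}, Cfsg.IsPiSubgroup π L → L = ⊥ := fun {L} hL => by
        rw [← Subgroup.card_eq_one]
        by_contra hne
        obtain ⟨s, hs, hsd⟩ := Nat.exists_prime_and_dvd hne
        exact hex ⟨s, hs, hL s hs hsd⟩
      exact ⟨1, by rw [hbot hK.1, hbot hH.1, Subgroup.map_bot]⟩
  · have htop : Cfsg.IsPiSubgroup π (⊤ : Subgroup G) := fun s hs _ => h s hs
    refine ⟨1, ?_⟩
    rw [top_le_iff.1 (hH.2 htop le_top), top_le_iff.1 (hK.2 htop le_top)]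
    exact (Subgroup.map_top_of_surjective _ (MulAut.conj (1 : G)).surjective).symm

theorem e_of_d {G : Type*} [Group G] [Finite G] {π : Set ℕ} (hD : Cfsg.IsDPiGroup π G) :
    Cfsg.IsEPiGroup π G := by
  have h1 : Cfsg.IsPiSubgroup π (⊥ : Subgroup G) := fun s hs hd => by
    rw [Subgroup.card_bot, Nat.dvd_one] at hd
    exact absurd hd hs.ne_one
  obtain ⟨H, -, hH⟩ := Finite.exists_le_maximal h1
  refine ⟨H, hH.1, fun p hp hpπ hdvd => ?_⟩
  haveI : Fact p.Prime := ⟨hp⟩
  obtain ⟨P⟩ : Nonempty (Sylow p G) := inferInstance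
  have hP : Cfsg.IsPiSubgroup π (P : Subgroup G) := by
    intro s hs hd
    obtain ⟨n, hn⟩ := P.isPGroup'.exists_card_eq
    rw [hn] at hd
    rw [(Nat.prime_dvd_prime_iff_eq hs hp).1 (hs.dvd_of_dvd_pow hd)]
    exact hpπ
  obtain ⟨K, hPK, hK⟩ := Finite.exists_le_maximal hP
  obtain ⟨g, rfl⟩ := hD H K hH hK
  have h2 := Subgroup.index_dvd_of_le hPK
  rw [Subgroup.index_map_of_bijective (MulAut.conj g).bijective] at h2
  exact Sylow.not_dvd_index P (hdvd.trans h2)

theorem e_iff_cond (π : Set ℕ) :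
    ((∀ (G : Type) [Group G] [Finite G], Cfsg.IsEPiGroup π G) ↔
      ((∀ p q : ℕ, p.Prime → q.Prime → p ∈ π → q ∈ π → p = q) ∨ ∀ p : ℕ, p.Prime → p ∈ π)) := by
  constructor
  · intro hE
    by_contra hcon
    push Not at hcon
    obtain ⟨⟨p, q, hp, hq, hpπ, hqπ, hpq⟩, r, hr, hrπ⟩ := hcon
    obtain ⟨n, hn⟩ := exists_not_hall hp hq hr hpπ hqπ hpq hrπ
    exact hn (hE (Perm (Fin n)))
  · exact fun h G _ _ => e_of_d (d_of_cond h)

end Helpers

/-- For a set of primes π the following are equivalent: every finite group has a Hall π-subgroup; in every finite group the maximal π-subgroups are pairwise conjugate; π contains at most one prime or contains every prime. -/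
theorem result (π : Set ℕ) :
    ((∀ (G : Type) [Group G] [Finite G], Cfsg.IsEPiGroup π G) ↔
      ((∀ p q : ℕ, p.Prime → q.Prime → p ∈ π → q ∈ π → p = q) ∨ ∀ p : ℕ, p.Prime → p ∈ π)) ∧
    ((∀ (G : Type) [Group G] [Finite G], Cfsg.IsDPiGroup π G) ↔
      ((∀ p q : ℕ, p.Prime → q.Prime → p ∈ π → q ∈ π → p = q) ∨ ∀ p : ℕ, p.Prime → p ∈ π)) := by
  refine ⟨e_iff_cond π, ⟨fun hD => (e_iff_cond π).1 fun G _ _ => e_of_d (hD G),
    fun h G _ _ => d_of_cond h⟩⟩

end Cfsg.Agent.S3878
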