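import Cfsg.Statements.S3881
import Cfsg.Agent.Lib.MetacyclicOdd.Basic

set_option autoImplicit false
open Cfsg

namespace Cfsg.Agent.S3881

/-- Let p be an odd prime and G a finite metacyclic p-group (G has a cyclic normal subgroup with cyclic quotient). Suppose G is non-abelian with |G'| = p^n. Then for 1 ≤ i ≤ n the number of elements of G whose conjugacy class has exactly p^i elements is |Z(G)| · (p^(2i) − p^(2i−2)). -/
theorem result {G : Type*} [Group G] [Finite G] {p : ℕ} [Fact p.Prime] (hp : p ≠ 2) (hG : IsPGroup p G) (hmc : Cfsg.IsMetacyclic G) (n : ℕ) (hn : n ≠ 0) (hGn : Nat.card ↥(commutator G) = p ^ n) (i : ℕ) (hi : 1 ≤ i) (hin : i ≤ n) :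
    Nat.card {g : G // (Subgroup.centralizer ({g} : Set G)).index = p ^ i} =
      Nat.card ↥(Subgroup.center G) * (p ^ (2 * i) - p ^ (2 * i - 2)) := by
  obtain ⟨N, hN', hN, hQ⟩ := hmc
  obtain ⟨D⟩ := CfsgLib.MetacyclicOdd.exists_data hG N hN hQ
  obtain rfl := D.n_eq hGn
  have hset : {g : G | (Subgroup.centralizer ({g} : Set G)).index = p ^ i} =
      (D.level (D.n - i) : Set G) \ (D.level (D.n - i + 1) : Set G) := by
    ext g
    simp only [Set.mem_setOf_eq, Set.mem_sdiff, SetLike.mem_coe]
    rw [D.mem_level_iff_index_le hp (show D.n - i ≤ D.n by omega),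
      D.mem_level_iff_index_le hp (show D.n - i + 1 ≤ D.n by omega)]
    obtain ⟨e, he, -, -, hidx⟩ := D.exists_level_index hp g
    rw [hidx, Nat.pow_le_pow_iff_right (Fact.out : p.Prime).one_lt, Nat.pow_le_pow_iff_right (Fact.out : p.Prime).one_lt]
    constructor
    · intro h
      have := Nat.pow_right_injective (Fact.out : p.Prime).two_le h
      omega
    · intro h
      congr 1
      omega
  rw [show Nat.card {g : G // (Subgroup.centralizer ({g} : Set G)).index = p ^ i} =
      {g : G | (Subgroup.centralizer ({g} : Set G)).index = p ^ i}.ncard from Nat.card_coe_set_eq _, hset,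
    Set.ncard_sdiff (SetLike.coe_subset_coe.2 (D.level_antitone (Nat.le_succ _))) (Set.toFinite _),
    ← Nat.card_coe_set_eq, ← Nat.card_coe_set_eq]
  show Nat.card (D.level (D.n - i)) - Nat.card (D.level (D.n - i + 1)) = _
  rw [D.card_level hp (by omega), D.card_level hp (by omega), ← Nat.mul_sub,
    show 2 * (D.n - (D.n - i)) = 2 * i by omega, show 2 * (D.n - (D.n - i + 1)) = 2 * i - 2 by omega]

end Cfsg.Agent.S3881
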