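import Cfsg.Statements.S3883
import Cfsg.Agent.Lib.MetacyclicOdd.Lattice

set_option autoImplicit false
open Cfsg

namespace Cfsg.Agent.S3883

/-- Let p be an odd prime and G a finite metacyclic p-group (G has a cyclic normal subgroup with cyclic quotient). Suppose G is non-abelian. Then an element g of G lies outside the Frattini subgroup if and only if its centralizer C_G(g) is abelian. -/
theorem result {G : Type*} [Group G] [Finite G] {p : ℕ} [Fact p.Prime] (hp : p ≠ 2) (hG : IsPGroup p G) (hmc : Cfsg.IsMetacyclic G) (hna : ¬ IsMulCommutative G) (g : G) :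
    g ∉ frattini G ↔ IsMulCommutative ↥(Subgroup.centralizer ({g} : Set G)) := by
  obtain ⟨D⟩ := CfsgLib.MetacyclicOdd.data_of_metacyclic hG hmc
  have hn : 1 ≤ D.n := Nat.pos_of_ne_zero fun h => hna ((D.n_eq_zero_iff hp).1 h)
  rw [CfsgLib.MetacyclicOdd.frattini_eq_level hp hG D hn, D.mem_level_iff_index_le hp hn]
  obtain ⟨e, he, -, -, hidx⟩ := D.exists_level_index hp g
  have hi := D.index_commutator hp
  have hG' := (Subgroup.centralizer ({g} : Set G)).card_mul_index
  have hZ := (Subgroup.center G).card_mul_index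
  rw [hidx] at hG'
  rw [D.index_center hp, ← hG'] at hZ
  rw [hidx, CfsgLib.MetacyclicOdd.isMulCommutative_iff_card_le hp hG hmc, hi,
    Nat.pow_le_pow_iff_right (Fact.out : p.Prime).one_lt]
  have hpos : ∀ k, 0 < p ^ k := fun k => pow_pos (Fact.out : p.Prime).pos k
  have hc : Nat.card (Subgroup.centralizer ({g} : Set G)) =
      Nat.card (Subgroup.center G) * p ^ (D.n + e) := by
    refine Nat.eq_of_mul_eq_mul_right (hpos (D.n - e)) ?_
    rw [← hZ, mul_assoc, ← pow_add]
    congr 2
    omega
  rw [hc, Nat.mul_le_mul_left_iff Nat.card_pos,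
    Nat.pow_le_pow_iff_right (Fact.out : p.Prime).one_lt]
  omega

end Cfsg.Agent.S3883
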