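import Cfsg.Statements.S3884
import Cfsg.Agent.Lib.MetacyclicOdd.Lattice

set_option autoImplicit false
open Cfsg

namespace Cfsg.Agent.S3884

lemma inf_eq_bot_of_forall {G : Type*} [Group G] [Finite G] {x y : G} {N : ℕ} (hN : x ^ N = 1)
    (h : ∀ s : ℕ, x ^ s ∈ Subgroup.zpowers y → N ∣ s) :
    Subgroup.zpowers x ⊓ Subgroup.zpowers y = ⊥ ∧ orderOf x = N := by
  refine ⟨(Subgroup.eq_bot_iff_forall _).2 fun z hz => ?_,
    Nat.dvd_antisymm (orderOf_dvd_of_pow_eq_one hN) (h _ (by rw [pow_orderOf_eq_one]; exact one_mem _))⟩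
  obtain ⟨hx, hy⟩ := Subgroup.mem_inf.1 hz
  obtain ⟨s, rfl⟩ := mem_powers_iff_mem_zpowers.2 hx
  obtain ⟨t, rfl⟩ := h s hy
  simp [pow_mul, hN]

lemma exists_split {G : Type*} [Group G] [Finite G] {p : ℕ} [hp : Fact p.Prime] (hodd : p ≠ 2)
    (hG : IsPGroup p G) (D : CfsgLib.MetacyclicOdd.Data p G) :
    ∃ x y : G, Subgroup.zpowers x ⊓ Subgroup.zpowers y = ⊥ ∧ orderOf x * orderOf y = Nat.card G := by
  set N := Subgroup.zpowers D.a
  have hNn : N.Normal := by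
    refine ⟨fun z hz g => ?_⟩
    obtain ⟨k, rfl⟩ := mem_powers_iff_mem_zpowers.2 hz
    obtain ⟨i, j, rfl⟩ := D.gen g
    show D.a ^ i * D.b ^ j * D.a ^ k * (D.a ^ i * D.b ^ j)⁻¹ ∈ N
    rw [mul_assoc (D.a ^ i), D.bpow_mul, mul_inv_rev]
    simp only [← mul_assoc, mul_inv_cancel_right]
    exact mul_mem (mul_mem (pow_mem (Subgroup.mem_zpowers _) _) (pow_mem (Subgroup.mem_zpowers _) _))
      (inv_mem (pow_mem (Subgroup.mem_zpowers _) _))
  obtain ⟨m, hm⟩ := IsPGroup.iff_orderOf.1 hG D.a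
  obtain ⟨k, hk⟩ := IsPGroup.iff_orderOf.1 (hG.to_quotient N) (D.b : G ⧸ N)
  have hmem : ∀ s : ℕ, D.b ^ s ∈ N ↔ p ^ k ∣ s := fun s => by
    rw [← QuotientGroup.eq_one_iff, QuotientGroup.mk_pow, ← orderOf_dvd_iff_pow_eq_one, hk]
  have hcard : Nat.card G = p ^ m * p ^ k := by
    have htop : (⊤ : Subgroup (G ⧸ N)) = Subgroup.zpowers (D.b : G ⧸ N) := by
      refine le_antisymm (fun q _ => ?_) le_top
      obtain ⟨g, rfl⟩ := QuotientGroup.mk_surjective q
      obtain ⟨i, j, rfl⟩ := D.gen g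
      rw [QuotientGroup.mk_mul, (QuotientGroup.eq_one_iff _).2 (pow_mem (Subgroup.mem_zpowers D.a) i),
        one_mul, QuotientGroup.mk_pow]
      exact pow_mem (Subgroup.mem_zpowers _) _
    rw [← N.card_mul_index, Nat.card_zpowers, hm, Subgroup.index_eq_card, ← Subgroup.card_top,
      htop, Nat.card_zpowers, hk]
  obtain ⟨σ, hσ⟩ := mem_powers_iff_mem_zpowers.2 ((hmem (p ^ k)).2 dvd_rfl)
  simp only at hσ
  -- first case: `σ` may be taken divisible by `p ^ k`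
  have caseA : ∀ τ, D.a ^ τ = D.b ^ p ^ k → p ^ k ∣ τ →
      ∃ x y : G, Subgroup.zpowers x ⊓ Subgroup.zpowers y = ⊥ ∧ orderOf x * orderOf y = Nat.card G := by
    rintro τ hτ ⟨τ', rfl⟩
    obtain ⟨w, hw, hw1⟩ := CfsgLib.MetacyclicOdd.geom_pow_mul hodd D.r_modEq k 1
    rw [mul_one] at hw
    have hcop : w.Coprime (p ^ (m + 1)) :=
      ((hp.out.coprime_iff_not_dvd.2 fun h => hp.out.not_dvd_one ((hw1.dvd_iff dvd_rfl).1 h)).symm).pow_right _
    obtain ⟨v, hv⟩ := Nat.exists_mul_mod_eq_one_of_coprime hcop (Nat.one_lt_pow (by omega) hp.out.one_lt)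
    set t := τ' * v * (p ^ (m + 1) - 1)
    have hmod : t * w + τ' ≡ 0 [MOD p ^ (m + 1)] := by
      have h1 : w * v ≡ 1 [MOD p ^ (m + 1)] := by
        rw [Nat.ModEq, hv.2, Nat.mod_eq_of_lt (Nat.one_lt_pow (by omega) hp.out.one_lt)]
      have h2 : t * w + τ' ≡ τ' * (p ^ (m + 1) - 1) + τ' [MOD p ^ (m + 1)] := by
        refine Nat.ModEq.add_right _ ?_
        rw [show t * w = (w * v) * (τ' * (p ^ (m + 1) - 1)) by simp only [t]; ring]
        simpa using h1.mul_right (τ' * (p ^ (m + 1) - 1))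
      refine h2.trans (Nat.modEq_zero_iff_dvd.2 ?_)
      rw [show τ' * (p ^ (m + 1) - 1) + τ' = τ' * p ^ (m + 1) by
        rw [← Nat.mul_succ, Nat.succ_eq_add_one, Nat.sub_add_cancel (Nat.one_le_pow _ _ hp.out.pos)]]
      exact dvd_mul_left _ _
    refine ⟨D.a ^ t * D.b ^ 1, D.a, ?_⟩
    have hy : (D.a ^ t * D.b ^ 1) ^ p ^ k = 1 := by
      rw [D.pow_rep, pow_one, one_mul, hw, ← hτ, ← pow_add, ← orderOf_dvd_iff_pow_eq_one, hm,
        show t * (p ^ k * w) + p ^ k * τ' = p ^ k * (t * w + τ') by ring]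
      exact ((pow_dvd_pow p (Nat.le_succ m)).trans (Nat.modEq_zero_iff_dvd.1 hmod)).mul_left _
    obtain ⟨h1, h2⟩ := inf_eq_bot_of_forall hy (y := D.a) fun s hs => by
      refine (hmem s).1 ?_
      rw [← QuotientGroup.eq_one_iff, QuotientGroup.mk_pow] at hs ⊢
      rwa [QuotientGroup.mk_mul, pow_one, (QuotientGroup.eq_one_iff _).2 (pow_mem (Subgroup.mem_zpowers D.a) t), one_mul] at hs
    exact ⟨h1, by rw [h2, hm, hcard, mul_comm]⟩
  by_cases hA : p ^ k ∣ σ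
  · exact caseA σ hσ hA
  by_cases hA' : p ^ m ∣ σ
  · exact caseA 0 (by rw [pow_zero, ← hσ, orderOf_dvd_iff_pow_eq_one.1 (hm ▸ hA')]) (dvd_zero _)
  obtain ⟨l, σ', hσ', hσl⟩ := Nat.exists_eq_pow_mul_and_not_dvd
    (show σ ≠ 0 from fun h => hA (h ▸ dvd_zero _)) p hp.out.ne_one
  have hlk : l < k := by
    by_contra h
    exact hA (hσl ▸ (pow_dvd_pow p (by omega)).mul_right _)
  have hlm : l < m := by
    by_contra h
    exact hA' (hσl ▸ (pow_dvd_pow p (by omega)).mul_right _)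
  let R : ℕ → ℕ := fun q => D.r ^ (p ^ (k - l) * q)
  have hR : ∀ q, R q ≡ 1 [MOD p] := fun q => CfsgLib.MetacyclicOdd.pow_modEq_one D.r_modEq _
  have hw : ∀ q, ∃ w, CfsgLib.MetacyclicOdd.geom (R q) (p ^ l) = p ^ l * w := fun q => by
    obtain ⟨w, hw, -⟩ := CfsgLib.MetacyclicOdd.geom_pow_mul hodd (hR q) l 1
    exact ⟨w, by rwa [mul_one] at hw⟩
  choose w hw using hw
  let F : Fin (p ^ (m - l)) → Fin (p ^ (m - l)) := fun q =>
    ⟨(w q + σ' * q) % p ^ (m - l), Nat.mod_lt _ (pow_pos hp.out.pos _)⟩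
  have hF : Function.Injective F := by
    intro q q' h
    have hh : w q + σ' * q ≡ w q' + σ' * q' [MOD p ^ (m - l)] := congrArg Fin.val h
    suffices key : ∀ e ≤ m - l, (q : ℕ) ≡ q' [MOD p ^ e] from
      Fin.ext ((key _ le_rfl).eq_of_lt_of_lt q.2 q'.2)
    intro e
    induction e with
    | zero => intro _; simp [Nat.ModEq, Nat.mod_one]
    | succ e ih =>
      intro he
      have hq := ih (by omega)
      have hRR : R q ≡ R q' [MOD p ^ (e + 1)] := by
        have hper : ∀ x x', x ≡ x' [MOD p ^ e] → D.r ^ x ≡ D.r ^ x' [MOD p ^ (e + 1)] := by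
          intro x x' hx
          have h1 : D.r ^ p ^ e ≡ 1 [MOD p ^ (e + 1)] := by
            rw [CfsgLib.MetacyclicOdd.Data.r, CfsgLib.MetacyclicOdd.pow_eq_geom]
            conv_rhs => rw [← Nat.add_zero 1]
            refine Nat.ModEq.add_left 1 (Nat.modEq_zero_iff_dvd.2 ?_)
            rw [pow_succ']
            refine mul_dvd_mul ((dvd_pow_self p (by have := D.hc; omega)).mul_right _) ?_
            exact (CfsgLib.MetacyclicOdd.pow_dvd_geom hodd D.r_modEq _ _).2 dvd_rfl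
          have h2 : ∀ x, D.r ^ x ≡ D.r ^ (x % p ^ e) [MOD p ^ (e + 1)] := fun x => by
            conv_lhs => rw [← Nat.mod_add_div x (p ^ e), pow_add, pow_mul]
            simpa using ((h1.pow (x / p ^ e)).mul_left (D.r ^ (x % p ^ e)))
          exact (h2 x).trans (by rw [show x % p ^ e = x' % p ^ e from hx]; exact (h2 x').symm)
        exact hper _ _ (hq.mul_left _)
      have hg := CfsgLib.MetacyclicOdd.geom_pow_modEq_of_modEq hodd (hR q) (by omega) hRR l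
      rw [hw, hw, pow_add] at hg
      have hg' := Nat.ModEq.mul_left_cancel' (pow_ne_zero l hp.out.ne_zero) hg
      have h3 := hg'.add_left_cancel (hh.of_dvd (pow_dvd_pow p he))
      exact Nat.ModEq.cancel_left_of_coprime ((hp.out.coprime_iff_not_dvd.2 hσ').pow_left _) h3
  obtain ⟨q, hq⟩ := (Finite.injective_iff_surjective.1 hF) ⟨0, pow_pos hp.out.pos _⟩
  have hq0 : p ^ (m - l) ∣ w q + σ' * q := Nat.dvd_of_mod_eq_zero (congrArg Fin.val hq)
  refine ⟨D.a ^ 1 * D.b ^ (p ^ (k - l) * (q : ℕ)), D.b, ?_⟩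
  have hy : (D.a ^ 1 * D.b ^ (p ^ (k - l) * (q : ℕ))) ^ p ^ l = 1 := by
    rw [D.pow_rep, one_mul, show p ^ (k - l) * (q : ℕ) * p ^ l = p ^ k * q by
      rw [mul_right_comm, ← pow_add, Nat.sub_add_cancel hlk.le], pow_mul D.b, ← hσ, ← pow_mul,
      ← pow_add, ← orderOf_dvd_iff_pow_eq_one, hm, hσl]
    show p ^ m ∣ CfsgLib.MetacyclicOdd.geom (R q) (p ^ l) + p ^ l * σ' * (q : ℕ)
    rw [hw, show p ^ l * w q + p ^ l * σ' * (q : ℕ) = p ^ l * (w q + σ' * q) by ring,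
      show p ^ m = p ^ l * p ^ (m - l) by rw [← pow_add, Nat.add_sub_cancel' hlm.le]]
    exact mul_dvd_mul_left _ hq0
  obtain ⟨h1, h2⟩ := inf_eq_bot_of_forall hy (y := D.b) fun s hs => by
    rw [D.pow_rep, one_mul] at hs
    have hs' : D.a ^ CfsgLib.MetacyclicOdd.geom (R q) s ∈ Subgroup.zpowers D.b := by
      simpa using mul_mem hs (inv_mem (pow_mem (Subgroup.mem_zpowers D.b) (p ^ (k - l) * q * s)))
    obtain ⟨x, hx⟩ := mem_powers_iff_mem_zpowers.2 hs'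
    simp only at hx
    obtain ⟨x', rfl⟩ := (hmem x).1 (hx ▸ pow_mem (Subgroup.mem_zpowers D.a) _)
    rw [pow_mul, ← hσ, ← pow_mul, pow_eq_pow_iff_modEq, hm, hσl] at hx
    refine (CfsgLib.MetacyclicOdd.pow_dvd_geom hodd (hR q) _ _).1 ?_
    exact ((hx.of_dvd (pow_dvd_pow p hlm.le)).dvd_iff dvd_rfl).1 ((dvd_mul_right _ _).mul_right _)
  refine ⟨h1, ?_⟩
  have hb : orderOf D.b = p ^ k * p ^ (m - l) := by
    obtain ⟨e, he⟩ : p ^ k ∣ orderOf D.b := (hmem _).1 (by rw [pow_orderOf_eq_one]; exact one_mem _)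
    have h3 := orderOf_pow' D.b (pow_ne_zero k hp.out.ne_zero)
    rw [← hσ, orderOf_pow, hm, hσl, Nat.Coprime.gcd_mul_right_cancel_right (p ^ l)
      ((hp.out.coprime_iff_not_dvd.2 hσ').symm.pow_right _),
      Nat.gcd_eq_right (pow_dvd_pow p hlm.le), Nat.pow_div hlm.le hp.out.pos, he,
      Nat.gcd_eq_right (dvd_mul_right _ _), Nat.mul_div_cancel_left _ (pow_pos hp.out.pos k)] at h3
    rw [he, h3]
  rw [h2, hb, hcard, ← pow_add, ← pow_add, ← pow_add]
  congr 1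
  omega

/-- Let p be an odd prime and G a finite metacyclic p-group (G has a cyclic normal subgroup with cyclic quotient). Then G is the product of two cyclic subgroups with trivial intersection: there are cyclic subgroups A and B with A ∩ B = 1 and |A| · |B| = |G|. -/
theorem result {G : Type*} [Group G] [Finite G] {p : ℕ} [Fact p.Prime] (hp : p ≠ 2) (hG : IsPGroup p G) (hmc : Cfsg.IsMetacyclic G) : ∃ A B : Subgroup G, IsCyclic ↥A ∧ IsCyclic ↥B ∧ A ⊓ B = ⊥ ∧ Nat.card ↥A * Nat.card ↥B = Nat.card G := by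
  obtain ⟨D⟩ := CfsgLib.MetacyclicOdd.data_of_metacyclic hG hmc
  obtain ⟨x, y, h1, h2⟩ := exists_split hp hG D
  exact ⟨_, _, Subgroup.isCyclic_zpowers x, Subgroup.isCyclic_zpowers y, h1,
    by rw [Nat.card_zpowers, Nat.card_zpowers, h2]⟩

end Cfsg.Agent.S3884
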