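import Cfsg.Statements.S3886
import Cfsg.Agent.Lib.MetacyclicOdd.Lattice

set_option autoImplicit false
open Cfsg

namespace Cfsg.Agent.S3886

/-- Let p be an odd prime and G a finite metacyclic p-group (G has a cyclic normal subgroup with cyclic quotient). Then the largest value of |R| · |Z(R)| over subgroups R of G is |G : G'|², and the subgroups attaining it (the centrally large subgroups) are exactly the non-abelian subgroups together with the maximal abelian subgroups of G. -/
theorem result {G : Type*} [Group G] [Finite G] {p : ℕ} [Fact p.Prime] (hp : p ≠ 2) (hG : IsPGroup p G) (hmc : Cfsg.IsMetacyclic G) : Cfsg.maxCentralProduct G = (commutator G).index ^ 2 ∧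
    ∀ R : Subgroup G, Cfsg.IsCentrallyLarge R ↔ (¬ IsMulCommutative ↥R ∨ Maximal (fun K : Subgroup G => IsMulCommutative ↥K) R) := by
  have hle := fun R => (CfsgLib.MetacyclicOdd.card_mul_center_le hp hG hmc R).1
  have htop : Nat.card ↥(⊤ : Subgroup G) * Nat.card (Subgroup.center ↥(⊤ : Subgroup G)) = (commutator G).index ^ 2 := by
    rw [CfsgLib.LocalEvenB.CDMeasure.card_center_eq, top_inf_eq]
    exact CfsgLib.MetacyclicOdd.cd_top hp hG hmc
  have hmax : Cfsg.maxCentralProduct G = (commutator G).index ^ 2 := by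
    refine le_antisymm (csSup_le ⟨_, ⊤, rfl⟩ ?_) (le_csSup ⟨(commutator G).index ^ 2, ?_⟩ ⟨⊤, htop⟩)
    all_goals
      rintro _ ⟨R, rfl⟩
      exact hle R
  refine ⟨hmax, fun R => ?_⟩
  obtain ⟨-, hna, hab⟩ := CfsgLib.MetacyclicOdd.card_mul_center_le hp hG hmc R
  rw [Cfsg.IsCentrallyLarge, hmax, CfsgLib.MetacyclicOdd.maximal_abelian_iff hp hG hmc R]
  by_cases hc : IsMulCommutative R
  · rw [hab hc]
    exact ⟨Or.inr, fun h => h.resolve_left fun h' => h' hc⟩
  · exact iff_of_true (hna hc) (.inl hc)

end Cfsg.Agent.S3886
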