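import Cfsg.Statements.S3889
-- import your own Cfsg.Agent.* helpers here

set_option autoImplicit false
open Cfsg

namespace Cfsg.Agent.S3889

/-- A finite abelian group that is the union of a family of proper subgroups any two of which intersect trivially is elementary abelian: its exponent is a prime. -/
theorem result {G : Type*} [CommGroup G] [Finite G] (𝓑 : Set (Subgroup G)) (hprop : ∀ B ∈ 𝓑, B ≠ ⊤)
    (hcov : ∀ g : G, ∃ B ∈ 𝓑, g ∈ B) (hdisj : ∀ B ∈ 𝓑, ∀ C ∈ 𝓑, B ≠ C → B ⊓ C = ⊥) :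
    (Monoid.exponent G).Prime := by
  have huniq : ∀ B ∈ 𝓑, ∀ C ∈ 𝓑, ∀ g : G, g ≠ 1 → g ∈ B → g ∈ C → B = C := fun B hB C hC g hg hgB hgC => by
    by_contra hne
    exact hg (Subgroup.mem_bot.1 (hdisj B hB C hC hne ▸ ⟨hgB, hgC⟩))
  have hout : ∀ B ∈ 𝓑, ∃ b : G, b ∉ B := fun B hB => by
    by_contra h; push Not at h; exact hprop B hB ((Subgroup.eq_top_iff' B).2 h)
  have hdvd : ∀ B ∈ 𝓑, ∀ a ∈ B, a ≠ 1 → ∀ b ∉ B, orderOf b ∣ orderOf a := by
    intro B hB a ha ha1 b hb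
    obtain ⟨C, hC, hbC⟩ := hcov b
    obtain ⟨D, hD, habD⟩ := hcov (a * b)
    refine orderOf_dvd_of_pow_eq_one ?_
    by_contra hne
    have hDC : D = C := huniq D hD C hC _ hne (by
      have := D.pow_mem habD (orderOf a)
      rwa [mul_pow, pow_orderOf_eq_one, one_mul] at this) (C.pow_mem hbC _)
    have haC : a ∈ C := by
      have := C.mul_mem (hDC ▸ habD) (C.inv_mem hbC)
      rwa [mul_inv_cancel_right] at this
    exact hb (huniq B hB C hC a ha1 ha haC ▸ hbC)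
  have heq : ∀ B ∈ 𝓑, ∀ a ∈ B, a ≠ 1 → ∀ b ∉ B, orderOf b = orderOf a := fun B hB a ha ha1 b hb => by
    obtain ⟨C, hC, hbC⟩ := hcov b
    have hb1 : b ≠ 1 := fun h => hb (h ▸ B.one_mem)
    exact Nat.dvd_antisymm (hdvd B hB a ha ha1 b hb)
      (hdvd C hC b hbC hb1 a fun haC => hb (huniq B hB C hC a ha1 ha haC ▸ hbC))
  have hall : ∀ a c : G, a ≠ 1 → c ≠ 1 → orderOf a = orderOf c := by
    intro a c ha hc
    obtain ⟨B, hB, haB⟩ := hcov a
    by_cases hcB : c ∈ B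
    · obtain ⟨b, hb⟩ := hout B hB
      rw [← heq B hB a haB ha b hb, heq B hB c hcB hc b hb]
    · exact (heq B hB a haB ha c hcB).symm
  obtain ⟨B, hB, -⟩ := hcov 1
  obtain ⟨g, hg⟩ := hout B hB
  have hg1 : g ≠ 1 := fun h => hg (h ▸ B.one_mem)
  obtain ⟨p, hp, hpd⟩ := Nat.exists_prime_and_dvd (show orderOf g ≠ 1 from fun h => hg1 (orderOf_eq_one_iff.1 h))
  have hex : orderOf g = p := by
    have h1 : orderOf (g ^ (orderOf g / p)) = p := orderOf_pow_orderOf_div (orderOf_pos g).ne' hpd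
    rw [hall g (g ^ (orderOf g / p)) hg1 fun h => hp.ne_one (by rw [← h1, h, orderOf_one]), h1]
  have hdiv : Monoid.exponent G ∣ p := Monoid.exponent_dvd.2 fun c => by
    by_cases hc : c = 1
    · simp [hc]
    · rw [hall c g hc hg1, hex]
  rcases (Nat.dvd_prime hp).1 hdiv with h | h
  · exact absurd (Monoid.order_dvd_exponent g) (by rw [h, hex, Nat.dvd_one]; exact hp.ne_one)
  · exact h ▸ hp

end Cfsg.Agent.S3889
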