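import Cfsg.Statements.S3892
import Cfsg.Agent.Lib.Coprime.NilpotentCoverPerm

set_option autoImplicit false
open Cfsg

namespace Cfsg.Agent.S3892

/-- Six three-cycles of five points. -/
def threeCycles : Fin 6 → Equiv.Perm (Fin 5) :=
  ![c[0, 1, 2], c[0, 1, 3], c[0, 1, 4], c[0, 2, 3], c[0, 2, 4], c[0, 3, 4]]

theorem no_cover_alt_five :
    ¬ ∃ 𝓐 : Finset (Subgroup ↥(alternatingGroup (Fin 5))), ((∀ A ∈ 𝓐, A ≠ ⊤) ∧ (∀ g : ↥(alternatingGroup (Fin 5)), ∃ A ∈ 𝓐, g ∈ A)) ∧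
      (∀ 𝓑 : Finset (Subgroup ↥(alternatingGroup (Fin 5))), (∀ A ∈ 𝓑, A ≠ ⊤) ∧ (∀ g : ↥(alternatingGroup (Fin 5)), ∃ A ∈ 𝓑, g ∈ A) → 𝓐.card ≤ 𝓑.card) ∧
      (∀ A ∈ 𝓐, Group.IsNilpotent ↥A) := by
  classical
  have := Fact.mk Nat.prime_three
  have hord : ∀ i, threeCycles i ^ 3 = 1 ∧ threeCycles i ≠ 1 ∧ Equiv.Perm.sign (threeCycles i) = 1 := by decide +kernel
  have hnc : ∀ i j, threeCycles i * threeCycles j = threeCycles j * threeCycles i → i = j := by decide +kernel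
  have hfix : ∀ i, ∀ a : Equiv.Perm (Fin 5), a * threeCycles i = threeCycles i * a → Equiv.Perm.sign a = 1 → ∃ x, a x = x := by
    decide +kernel
  let φ := (alternatingGroup (Fin 5)).subtype
  let stab : Fin 5 → Subgroup ↥(alternatingGroup (Fin 5)) := fun x =>
    (CfsgLib.Coprime.NilpotentCoverPerm.setStab {x}).comap φ
  refine CfsgLib.Coprime.NilpotentCoverPerm.no_cover_of_perm φ (alternatingGroup (Fin 5)).subtype_injective 3 (by decide)
    (fun i : Fin 6 => ⟨threeCycles i, Equiv.Perm.mem_alternatingGroup.2 (hord i).2.2⟩)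
    (fun i => orderOf_eq_prime (hord i).1 (hord i).2.1) (fun i j h => hnc i j h.eq)
    (Finset.univ.image stab) (fun B hB => ?_) ?_ (fun i a h => ?_)
  · obtain ⟨x, -, rfl⟩ := Finset.mem_image.1 hB
    exact CfsgLib.Coprime.NilpotentCoverPerm.setStab_comap_ne_top (by norm_num) φ (by rw [Subgroup.range_subtype]) {x}
      (Finset.mem_singleton_self x) (b := x + 1) (by clear hB; revert x; decide)
  · refine lt_of_le_of_lt Finset.card_image_le ?_
    simp
  · obtain ⟨x, hx⟩ := hfix i (φ a) h.eq (Equiv.Perm.mem_alternatingGroup.1 a.2)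
    refine ⟨stab x, Finset.mem_image_of_mem _ (Finset.mem_univ x), fun y => ?_⟩
    simp only [Finset.mem_singleton]
    nth_rewrite 1 [← hx]
    exact (φ a).injective.eq_iff

/-- A cover of a group is a finite set of proper subgroups whose union is the whole group; it is minimal when no cover has fewer members, and nilpotent when all its members are nilpotent. The alternating groups of degree at least 5 and the symmetric groups of degree at least 4 have no nilpotent minimal cover. -/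
theorem result (n : ℕ) :
    (5 ≤ n → ¬ ∃ 𝓐 : Finset (Subgroup ↥(alternatingGroup (Fin n))), ((∀ A ∈ 𝓐, A ≠ ⊤) ∧ (∀ g : ↥(alternatingGroup (Fin n)), ∃ A ∈ 𝓐, g ∈ A)) ∧ (∀ 𝓑 : Finset (Subgroup ↥(alternatingGroup (Fin n))), (∀ A ∈ 𝓑, A ≠ ⊤) ∧ (∀ g : ↥(alternatingGroup (Fin n)), ∃ A ∈ 𝓑, g ∈ A) → 𝓐.card ≤ 𝓑.card) ∧ (∀ A ∈ 𝓐, Group.IsNilpotent ↥A)) ∧
    (4 ≤ n → ¬ ∃ 𝓐 : Finset (Subgroup (Equiv.Perm (Fin n))), ((∀ A ∈ 𝓐, A ≠ ⊤) ∧ (∀ g : (Equiv.Perm (Fin n)), ∃ A ∈ 𝓐, g ∈ A)) ∧ (∀ 𝓑 : Finset (Subgroup (Equiv.Perm (Fin n))), (∀ A ∈ 𝓑, A ≠ ⊤) ∧ (∀ g : (Equiv.Perm (Fin n)), ∃ A ∈ 𝓑, g ∈ A) → 𝓐.card ≤ 𝓑.card) ∧ (∀ A ∈ 𝓐, Group.IsNilpotent ↥A)) := by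
  constructor
  · intro h5
    rcases eq_or_lt_of_le h5 with rfl | h6
    · exact no_cover_alt_five
    · exact CfsgLib.Coprime.NilpotentCoverPerm.no_cover_large h6 (alternatingGroup (Fin n)).subtype
        (alternatingGroup (Fin n)).subtype_injective (by rw [Subgroup.range_subtype])
  · intro h4
    rcases (show n = 4 ∨ n = 5 ∨ 6 ≤ n by omega) with rfl | rfl | h6
    · have := Fact.mk Nat.prime_three
      exact CfsgLib.Coprime.NilpotentCoverPerm.no_cover_sym_small 3 (by decide) c[0, 1, 2] c[0, 1, 3]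
        (orderOf_eq_prime (by decide +kernel) (by decide +kernel)) (orderOf_eq_prime (by decide +kernel) (by decide +kernel))
        (by decide +kernel) (by norm_num) (by decide +kernel) (by decide +kernel)
    · have := Fact.mk Nat.prime_five
      exact CfsgLib.Coprime.NilpotentCoverPerm.no_cover_sym_small 5 (by decide) c[0, 1, 2, 3, 4] c[0, 2, 1, 3, 4]
        (orderOf_eq_prime (by decide +kernel) (by decide +kernel)) (orderOf_eq_prime (by decide +kernel) (by decide +kernel))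
        (by decide +kernel) (by norm_num) (by decide +kernel) (by decide +kernel)
    · exact CfsgLib.Coprime.NilpotentCoverPerm.no_cover_large h6 (MonoidHom.id _) Function.injective_id
        (fun x _ => ⟨x, rfl⟩)

end Cfsg.Agent.S3892
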