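import Cfsg.Statements.S3893
import Cfsg.Agent.Lib.KnownB.SuzukiStructure

set_option autoImplicit false
open Cfsg

namespace Cfsg.Agent.S3893

open CfsgLib.KnownB.SzElem CfsgLib.KnownB.Suzuki CfsgLib.KnownB.TICount

/-- A cover of a group is a finite set of proper subgroups whose union is the whole group; it is minimal when no cover has fewer members, and nilpotent when all its members are nilpotent. The Suzuki groups Sz(q), q = 2^(2m+1) with m ≥ 1, have no nilpotent minimal cover. -/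
theorem result {F : Type*} [Field F] [Fintype F] (m : ℕ) (hm : 1 ≤ m) (hF : Fintype.card F = 2 ^ (2 * m + 1)) :
    ¬ ∃ 𝓐 : Finset (Subgroup ↥(Cfsg.Lie.Sz F (2 ^ (m + 1)))), ((∀ A ∈ 𝓐, A ≠ ⊤) ∧ (∀ g : ↥(Cfsg.Lie.Sz F (2 ^ (m + 1))), ∃ A ∈ 𝓐, g ∈ A)) ∧ (∀ 𝓑 : Finset (Subgroup ↥(Cfsg.Lie.Sz F (2 ^ (m + 1)))), (∀ A ∈ 𝓑, A ≠ ⊤) ∧ (∀ g : ↥(Cfsg.Lie.Sz F (2 ^ (m + 1))), ∃ A ∈ 𝓑, g ∈ A) → 𝓐.card ≤ 𝓑.card) ∧ (∀ A ∈ 𝓐, Group.IsNilpotent ↥A) := by
  classical
  have hp := params_of_card hm hF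
  have he := hp.twist
  have hpart := szPartition hp
  have hq := hp.eight
  let _ : Fintype (Cfsg.Lie.Sz F (2 ^ (m + 1))) := Fintype.ofFinite _
  have : Fact (Nat.Prime 2) := ⟨Nat.prime_two⟩
  rintro ⟨𝓐, ⟨-, hcov⟩, hminc, hnil⟩
  -- elements of odd order
  have hodd : ∀ x : Cfsg.Lie.Sz F (2 ^ (m + 1)), x ≠ 1 → ¬ 2 ∣ orderOf x →
      IsCyclic (Subgroup.centralizer {x}) ∧ ∀ y ∈ Subgroup.centralizer {x}, y ≠ 1 →
        Subgroup.centralizer {y} = Subgroup.centralizer {x} := by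
    intro x hx h2
    rcases hpart.cases x hx with h | ⟨h, -, h'⟩
    · exfalso
      obtain ⟨k, hk⟩ := IsPGroup.iff_orderOf.1 h ⟨x, Subgroup.mem_centralizer_singleton_iff.2 rfl⟩
      rw [Subgroup.orderOf_mk] at hk
      rcases Nat.eq_zero_or_pos k with rfl | hk0
      · exact hx (orderOf_eq_one_iff.1 (by simpa using hk))
      · exact h2 (hk ▸ dvd_pow_self 2 hk0.ne')
    · exact ⟨h, h'⟩
  obtain ⟨t, ht⟩ : ∃ t : Fˣ, t ≠ 1 := Fintype.exists_ne_of_one_lt_card (by rw [Fintype.card_units]; omega) 1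
  set h₀ := H (2 ^ (m + 1)) he t with hh₀
  have hh₀C : Subgroup.centralizer {h₀} = hGroup he := centralizer_H he ht
  have hh₀1 : h₀ ≠ 1 := fun h => ht (H_injective he (by
    show hHom he t = hHom he 1
    rw [map_one]; exact h))
  have hh₀d : orderOf h₀ ∣ Fintype.card F - 1 :=
    card_hGroup he ▸ Subgroup.orderOf_dvd_natCard _ (H_mem_hGroup he t)
  have hh₀o : ¬ 2 ∣ orderOf h₀ := fun h => odd_sub_one hp (h.trans hh₀d)
  have hbi : (borel F (2 ^ (m + 1))).index ≠ 1 := fun h => by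
    have h1 := (borel F (2 ^ (m + 1))).index_mul_card
    rw [h, one_mul, card_borel he, card_eq hp] at h1
    have h2 : 0 < Fintype.card F ^ 2 := by positivity
    have h3 : 0 < Fintype.card F - 1 := by omega
    have h4 : 1 < Fintype.card F ^ 2 + 1 := by omega
    nlinarith [mul_pos h2 h3]
  -- representatives
  have hZ : ∀ S : Sylow 2 (Cfsg.Lie.Sz F (2 ^ (m + 1))), ∃ z ∈ (S : Subgroup (Cfsg.Lie.Sz F (2 ^ (m + 1)))),
      z ≠ 1 ∧ (S : Subgroup (Cfsg.Lie.Sz F (2 ^ (m + 1)))) ≤ Subgroup.centralizer {z} := by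
    intro S
    have hnt : Nontrivial (S : Subgroup (Cfsg.Lie.Sz F (2 ^ (m + 1)))) := by
      rw [← Finite.one_lt_card_iff_nontrivial, S.card_eq_multiplicity]
      refine Nat.one_lt_pow (Nat.Prime.factorization_pos_of_dvd Nat.prime_two Nat.card_pos.ne' ?_).ne' one_lt_two
      rw [card_eq hp, hF, ← pow_mul]
      exact ((dvd_pow_self 2 (by omega)).mul_right _).mul_right _
    have := S.2.center_nontrivial
    obtain ⟨z, hz1⟩ := exists_ne (1 : Subgroup.center (S : Subgroup (Cfsg.Lie.Sz F (2 ^ (m + 1)))))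
    exact ⟨z.1.1, z.1.2, fun h => hz1 (Subtype.ext (Subtype.ext h)), fun s hs =>
      Subgroup.mem_centralizer_singleton_iff.2 (congrArg Subtype.val (Subgroup.mem_center_iff.1 z.2 ⟨s, hs⟩))⟩
  choose zS hzS hzS1 hzSC using hZ
  let T := {D : Subgroup (Cfsg.Lie.Sz F (2 ^ (m + 1))) // ∃ x ∈ torusSet F (2 ^ (m + 1)), Subgroup.centralizer {x} = D}
  have hT : ∀ D : T, ∃ x ∈ torusSet F (2 ^ (m + 1)), Subgroup.centralizer {x} = D.1 := fun D => D.2
  choose xT hxT hxTC using hT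
  have hxTo : ∀ D, ¬ 2 ∣ orderOf (xT D) := fun D h =>
    odd_sq_add_one hp (h.trans (orderOf_dvd_torus hp (hxT D)))
  let rep : Sylow 2 (Cfsg.Lie.Sz F (2 ^ (m + 1))) ⊕ Option T → Cfsg.Lie.Sz F (2 ^ (m + 1)) :=
    Sum.elim zS fun o => o.elim h₀ xT
  choose cov hcov1 hcov2 using hcov
  -- a nilpotent subgroup lies in the centraliser of a central element
  have hA : ∀ A ∈ 𝓐, A ≠ ⊥ → ∃ z : Cfsg.Lie.Sz F (2 ^ (m + 1)), z ≠ 1 ∧ A ≤ Subgroup.centralizer {z} := by
    intro A hA hne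
    have := hnil A hA
    have hnt : Nontrivial A := (Subgroup.nontrivial_iff_ne_bot A).2 hne
    have : Nontrivial (Subgroup.center A) := (Subgroup.nontrivial_iff_ne_bot _).2 (Group.IsNilpotent.center_ne_bot A)
    obtain ⟨z, hz⟩ := exists_ne (1 : Subgroup.center A)
    exact ⟨z.1.1, fun h => hz (Subtype.ext (Subtype.ext h)), fun a ha =>
      Subgroup.mem_centralizer_singleton_iff.2 (congrArg Subtype.val (Subgroup.mem_center_iff.1 z.2 ⟨a, ha⟩))⟩
  have hinj : ∀ i j, cov (rep i) = cov (rep j) → i = j := by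
    intro i j hij
    have hne : cov (rep i) ≠ ⊥ := fun h => by
      have h1 := hcov2 (rep i)
      rw [h, Subgroup.mem_bot] at h1
      rcases i with S | _ | D
      · exact hzS1 S h1
      · exact hh₀1 h1
      · exact (hxT D).1 h1
    obtain ⟨z, hz1, hz⟩ := hA _ (hcov1 (rep i)) hne
    have hi : rep i ∈ Subgroup.centralizer {z} := hz (hcov2 (rep i))
    have hj : rep j ∈ Subgroup.centralizer {z} := hz (hij ▸ hcov2 (rep j))
    have hkey : ∀ k, rep k ∈ Subgroup.centralizer {z} →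
        (∃ S, k = Sum.inl S ∧ IsPGroup 2 (Subgroup.centralizer {z})) ∨
        (∃ o, k = Sum.inr o ∧ Subgroup.centralizer {z} = Subgroup.centralizer {rep k}) := by
      intro k hk
      rcases k with S | o
      · refine Or.inl ⟨S, rfl, ?_⟩
        rcases hpart.cases z hz1 with h | ⟨-, -, h'⟩
        · exact h
        · have h1 : Subgroup.centralizer {zS S} ≤ (S : Subgroup (Cfsg.Lie.Sz F (2 ^ (m + 1)))) := hpart.ti S _ (hzS S) (hzS1 S)
          rw [show Subgroup.centralizer {zS S} = Subgroup.centralizer {z} from h' _ hk (hzS1 S)] at h1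
          exact S.2.to_le h1
      · refine Or.inr ⟨o, rfl, ?_⟩
        have hne : rep (Sum.inr o) ≠ 1 ∧ ¬ 2 ∣ orderOf (rep (Sum.inr o)) := by
          rcases o with _ | D
          · exact ⟨hh₀1, hh₀o⟩
          · exact ⟨(hxT D).1, hxTo D⟩
        have hzc : z ∈ Subgroup.centralizer {rep (Sum.inr o)} :=
          Subgroup.mem_centralizer_singleton_iff.2 (Subgroup.mem_centralizer_singleton_iff.1 hk).symm
        exact (hodd _ hne.1 hne.2).2 z hzc hz1
    rcases hkey i hi with ⟨S, rfl, h2⟩ | ⟨o, rfl, hC⟩ <;> rcases hkey j hj with ⟨S', rfl, h2'⟩ | ⟨o', rfl, hC'⟩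
    · obtain ⟨R, hR⟩ := h2.exists_le_sylow
      have hsame : ∀ S : Sylow 2 (Cfsg.Lie.Sz F (2 ^ (m + 1))), zS S ∈ Subgroup.centralizer {z} → R = S := fun S hS =>
        Sylow.ext (S.is_maximal' R.2 ((hzSC S).trans (hpart.ti R _ (hR hS) (hzS1 S))))
      rw [← hsame S hi, ← hsame S' hj]
    · exfalso
      have h3 : rep (Sum.inr o') ∈ Subgroup.centralizer {z} := hj
      obtain ⟨k, hk⟩ := IsPGroup.iff_orderOf.1 h2 ⟨_, h3⟩
      rw [Subgroup.orderOf_mk] at hk
      have hne : rep (Sum.inr o') ≠ 1 ∧ ¬ 2 ∣ orderOf (rep (Sum.inr o')) := by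
        rcases o' with _ | D
        · exact ⟨hh₀1, hh₀o⟩
        · exact ⟨(hxT D).1, hxTo D⟩
      rcases Nat.eq_zero_or_pos k with rfl | hk0
      · exact hne.1 (orderOf_eq_one_iff.1 (by simpa using hk))
      · exact hne.2 (hk ▸ dvd_pow_self 2 hk0.ne')
    · exfalso
      have h3 : rep (Sum.inr o) ∈ Subgroup.centralizer {z} := hi
      obtain ⟨k, hk⟩ := IsPGroup.iff_orderOf.1 h2' ⟨_, h3⟩
      rw [Subgroup.orderOf_mk] at hk
      have hne : rep (Sum.inr o) ≠ 1 ∧ ¬ 2 ∣ orderOf (rep (Sum.inr o)) := by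
        rcases o with _ | D
        · exact ⟨hh₀1, hh₀o⟩
        · exact ⟨(hxT D).1, hxTo D⟩
      rcases Nat.eq_zero_or_pos k with rfl | hk0
      · exact hne.1 (orderOf_eq_one_iff.1 (by simpa using hk))
      · exact hne.2 (hk ▸ dvd_pow_self 2 hk0.ne')
    · have hCC : Subgroup.centralizer {rep (Sum.inr o)} = Subgroup.centralizer {rep (Sum.inr o')} := hC.symm.trans hC'
      have hmix : ∀ D : T, Subgroup.centralizer {h₀} ≠ Subgroup.centralizer {xT D} := fun D h => (hxT D).1 (by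
        have hmem : xT D ∈ hGroup he := hh₀C ▸ h.ge (Subgroup.mem_centralizer_singleton_iff.2 rfl)
        exact orderOf_eq_one_iff.1 (Nat.eq_one_of_dvd_coprimes (coprime_sub_one hp)
          (orderOf_dvd_torus hp (hxT D)) (card_hGroup he ▸ Subgroup.orderOf_dvd_natCard _ hmem)))
      rcases o with _ | D <;> rcases o' with _ | D'
      · rfl
      · exact absurd hCC (hmix D')
      · exact absurd hCC.symm (hmix D)
      · have : D = D' := Subtype.ext ((hxTC D).symm.trans (hCC.trans (hxTC D')))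
        rw [this]
  have hlow : Nat.card (Sylow 2 (Cfsg.Lie.Sz F (2 ^ (m + 1)))) + (Nat.card T + 1) ≤ 𝓐.card := by
    rw [← Finite.card_option, ← Nat.card_sum, ← Fintype.card_coe, ← Nat.card_eq_fintype_card]
    exact Nat.card_le_card_of_injective (fun i => (⟨cov (rep i), hcov1 _⟩ : 𝓐))
      fun i j hij => hinj i j (congrArg Subtype.val hij)
  -- the smaller cover
  let _ : Fintype T := Fintype.ofFinite _
  let _ : Fintype (Sylow 2 (Cfsg.Lie.Sz F (2 ^ (m + 1)))) := Fintype.ofFinite _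
  let 𝓑 : Finset (Subgroup (Cfsg.Lie.Sz F (2 ^ (m + 1)))) :=
    (Finset.univ.image fun S : Sylow 2 (Cfsg.Lie.Sz F (2 ^ (m + 1))) =>
      Subgroup.normalizer ((S : Subgroup (Cfsg.Lie.Sz F (2 ^ (m + 1)))) : Set (Cfsg.Lie.Sz F (2 ^ (m + 1))))) ∪
    (Finset.univ.image fun D : T => D.1)
  have hB : 𝓑.card ≤ Nat.card (Sylow 2 (Cfsg.Lie.Sz F (2 ^ (m + 1)))) + Nat.card T := by
    refine (Finset.card_union_le _ _).trans (Nat.add_le_add ?_ ?_) <;>
    · rw [Nat.card_eq_fintype_card]; exact Finset.card_image_le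
  have hcoe : ((sylow2 he : Sylow 2 (Cfsg.Lie.Sz F (2 ^ (m + 1)))) : Subgroup (Cfsg.Lie.Sz F (2 ^ (m + 1)))) = uGroup he :=
    coe_sylow2 he
  refine absurd (hminc 𝓑 ⟨fun B hB => ?_, fun g => ?_⟩) (by omega)
  · rcases Finset.mem_union.1 hB with hB | hB
    · obtain ⟨S, -, rfl⟩ := Finset.mem_image.1 hB
      intro htop
      have h1 := S.card_eq_index_normalizer
      rw [(sylow2 he).card_eq_index_normalizer,
        show Subgroup.normalizer ((sylow2 he : Sylow 2 _) : Set (Cfsg.Lie.Sz F (2 ^ (m + 1)))) = borel F (2 ^ (m + 1)) by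
          rw [show ((sylow2 he : Sylow 2 _) : Set (Cfsg.Lie.Sz F (2 ^ (m + 1)))) = (uGroup he : Set _) from congrArg SetLike.coe hcoe,
            normalizer_uGroup],
        show Subgroup.normalizer (S : Set (Cfsg.Lie.Sz F (2 ^ (m + 1)))) = ⊤ from htop, Subgroup.index_top] at h1
      exact hbi h1
    · obtain ⟨D, -, rfl⟩ := Finset.mem_image.1 hB
      intro htop
      have h1 := ((hodd _ (hxT D).1 (hxTo D)).2 h₀ (by rw [hxTC D, htop]; exact Subgroup.mem_top _) hh₀1)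
      rw [hh₀C, hxTC D, htop] at h1
      have h2 := card_hGroup he
      rw [h1, Subgroup.card_top, card_eq hp] at h2
      have h4 : 0 < Fintype.card F ^ 2 := by positivity
      have h5 : 0 < Fintype.card F - 1 := by omega
      nlinarith [mul_pos h4 h5]
  · by_cases hg : g = 1
    · exact ⟨_, Finset.mem_union_left _ (Finset.mem_image_of_mem _ (Finset.mem_univ (sylow2 he))), hg ▸ one_mem _⟩
    rcases exists_cases hp hg with h | h | h
    · obtain ⟨-, x, hx⟩ := h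
      refine ⟨_, Finset.mem_union_left _ (Finset.mem_image_of_mem _ (Finset.mem_univ (x⁻¹ • sylow2 he))), Subgroup.le_normalizer ?_⟩
      rw [Sylow.coe_subgroup_smul, hcoe]
      exact ⟨_, hx, by simp [mul_assoc]⟩
    · obtain ⟨-, x, hx⟩ := h
      refine ⟨_, Finset.mem_union_left _ (Finset.mem_image_of_mem _ (Finset.mem_univ (x⁻¹ • sylow2 he))), ?_⟩
      have hb : x * g * x⁻¹ ∈ Subgroup.normalizer (uGroup he : Set (Cfsg.Lie.Sz F (2 ^ (m + 1)))) := by
        rw [normalizer_uGroup]; exact hGroup_le_borel he hx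
      have hmap : ((x⁻¹ • sylow2 he : Sylow 2 (Cfsg.Lie.Sz F (2 ^ (m + 1)))) : Subgroup (Cfsg.Lie.Sz F (2 ^ (m + 1)))) =
          (uGroup he).map (MulAut.conj x⁻¹).toMonoidHom := by
        rw [Sylow.coe_subgroup_smul, hcoe]; rfl
      rw [hmap, ← Subgroup.map_normalizer_eq_of_bijective _ (f := (MulAut.conj x⁻¹).toMonoidHom) (MulAut.conj x⁻¹).bijective]
      exact ⟨_, hb, by simp [mul_assoc]⟩
    · exact ⟨_, Finset.mem_union_right _ (Finset.mem_image_of_mem _ (Finset.mem_univ (⟨_, g, h, rfl⟩ : T))),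
        Subgroup.mem_centralizer_singleton_iff.2 rfl⟩

end Cfsg.Agent.S3893
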