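import Cfsg.Statements.S3895
import Cfsg.Agent.Lib.Coprime.PClassCountHalf

set_option autoImplicit false
open Cfsg

namespace Cfsg.Agent.S3895

open CfsgLib.Coprime.PClassCount

/-- In a `p`-nilpotent group, classes of the Sylow subgroup do not fuse. -/
lemma card_classes_le {G : Type*} [Group G] [Finite G] {p : ℕ} [Fact p.Prime] (h : Cfsg.HasNormalPComplement p G) (P : Sylow p G) :
    Nat.card (ConjClasses (P : Subgroup G)) ≤ Nat.card (PClasses p G) := by
  refine Nat.card_le_card_of_injective (Quotient.lift (toClass P) fun a b h => Subtype.ext ?_) ?_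
  · obtain ⟨g, hg⟩ := isConj_iff.1 h
    exact ConjClasses.mk_eq_mk_iff_isConj.2 (isConj_iff.2 ⟨g, congrArg Subtype.val hg⟩)
  intro x y
  induction x using Quotient.inductionOn with | _ a =>
  induction y using Quotient.inductionOn with | _ b =>
  intro hab
  obtain ⟨g, hg⟩ := isConj_iff.1 (ConjClasses.mk_eq_mk_iff_isConj.1 (congrArg Subtype.val hab))
  obtain ⟨P₀, N, hN, hNc⟩ := h
  have hdisj : N ⊓ (P : Subgroup G) = ⊥ := by
    rw [← Subgroup.card_eq_one]
    have h1 : (Nat.card N).Coprime p := by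
      rw [← hNc.index_eq_card]
      exact ((Fact.out : p.Prime).coprime_iff_not_dvd.2 P₀.not_dvd_index).symm
    obtain ⟨k, hk⟩ := IsPGroup.iff_card.1 P.2
    exact Nat.eq_one_of_dvd_coprimes (h1.pow_right k) (Subgroup.card_dvd_of_le inf_le_left)
      (hk ▸ Subgroup.card_dvd_of_le inf_le_right)
  have hsup : N ⊔ (P : Subgroup G) = ⊤ := by
    refine Subgroup.eq_top_of_card_eq _ ?_
    rw [CfsgLib.Coprime.card_sup_of_le_normalizer Subgroup.le_normalizer_of_normal (disjoint_iff.2 hdisj),
      P.card_eq_multiplicity, ← P₀.card_eq_multiplicity, hNc.card_mul_card]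
  obtain ⟨m, hm, v, hv, rfl⟩ := Subgroup.mem_sup_of_normal_left.1 (hsup.ge (Subgroup.mem_top g))
  set c : G := v * (a : G) * v⁻¹ with hc
  have hcP : c ∈ (P : Subgroup G) := (P : Subgroup G).mul_mem ((P : Subgroup G).mul_mem hv a.2) ((P : Subgroup G).inv_mem hv)
  have hmb : m * c * m⁻¹ = b := by rw [← hg, hc]; group
  have hmem : (b : G) * c⁻¹ ∈ N ⊓ (P : Subgroup G) := by
    refine ⟨?_, (P : Subgroup G).mul_mem b.2 ((P : Subgroup G).inv_mem hcP)⟩
    rw [← hmb, show m * c * m⁻¹ * c⁻¹ = m * (c * m⁻¹ * c⁻¹) by group]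
    exact N.mul_mem hm (hN.conj_mem _ (N.inv_mem hm) _)
  rw [hdisj, Subgroup.mem_bot, mul_inv_eq_one] at hmem
  exact Quotient.sound (isConj_iff.2 ⟨⟨v, hv⟩, Subtype.ext hmem.symm⟩)

/-- Let G be a finite group with Sylow 2-subgroup P, and write k₂(G) for the number of conjugacy classes of G consisting of 2-elements (elements of 2-power order, the identity included). Then k₂(G) > |P|/2 if and only if G has a normal 2-complement and P has more than |P|/2 conjugacy classes. -/
theorem result {G : Type*} [Group G] [Finite G] (P : Sylow 2 G) :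
    Nat.card ↥(P : Subgroup G) < 2 * Nat.card {c : ConjClasses G // ∀ x ∈ c.carrier, ∃ k : ℕ, orderOf x = 2 ^ k} ↔
      Cfsg.HasNormalPComplement 2 G ∧ Nat.card ↥(P : Subgroup G) < 2 * Nat.card (ConjClasses ↥(P : Subgroup G)) := by
  constructor
  · intro h
    refine ⟨by_contra fun hnpc => absurd (two_mul_card_pclasses_le P hnpc) (not_le.2 h), h.trans_le ?_⟩
    exact Nat.mul_le_mul_left 2 (card_pclasses_le_classes P)
  · rintro ⟨hnpc, h⟩
    exact h.trans_le (Nat.mul_le_mul_left 2 (card_classes_le hnpc P))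

end Cfsg.Agent.S3895
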