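import Cfsg.Statements.S3899
import Cfsg.Agent.Lib.Coprime.PClassCount
import Cfsg.Prelude.Def_OddOrderLocal
-- import your own Cfsg.Agent.* helpers here

set_option autoImplicit false
open Cfsg
open scoped commutatorElement

namespace Cfsg.Agent.S3899

open CfsgLib.Coprime.PClassCount

/-- A common normal complement for a finite set of primes. -/
lemma exists_complement {G : Type*} [Group G] [Finite G] (π : Finset ℕ) (hπ : ∀ r ∈ π, r.Prime)
    (h : ∀ r ∈ π, ∀ [Fact r.Prime], ∀ P : Sylow r G, Cfsg.HasNormalPComplement r G ∧ IsMulCommutative (P : Subgroup G)) :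
    ∃ N : Subgroup G, N.Normal ∧ commutator G ≤ N ∧ (∀ r ∈ π, ¬ r ∣ Nat.card N) ∧
      ∀ q : ℕ, q.Prime → q ∣ N.index → q ∈ π := by
  classical
  induction π using Finset.induction_on with
  | empty =>
    refine ⟨⊤, inferInstance, le_top, fun r hr => absurd hr (Finset.notMem_empty r), fun q hq hd => ?_⟩
    rw [Subgroup.index_top] at hd
    exact absurd (Nat.dvd_one.1 hd) hq.ne_one
  | @insert r σ hrσ ih =>
    obtain ⟨N, hN, hcN, hNc, hNi⟩ := ih (fun q hq => hπ q (Finset.mem_insert_of_mem hq))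
      (fun q hq => h q (Finset.mem_insert_of_mem hq))
    have := Fact.mk (hπ r (Finset.mem_insert_self r σ))
    obtain ⟨P⟩ : Nonempty (Sylow r G) := inferInstance
    obtain ⟨⟨P₀, M, hM, hMc⟩, -⟩ := h r (Finset.mem_insert_self r σ) P
    have hP₀ := (h r (Finset.mem_insert_self r σ) P₀).2
    have hMr : ¬ r ∣ Nat.card M := by rw [← hMc.index_eq_card]; exact P₀.not_dvd_index
    have hcM : commutator G ≤ M := by
      rw [commutator_def, Subgroup.commutator_le]
      intro g _ k _
      obtain ⟨⟨m, x⟩, rfl⟩ := (hMc : Function.Bijective _).2 g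
      obtain ⟨⟨m', x'⟩, rfl⟩ := (hMc : Function.Bijective _).2 k
      rw [← QuotientGroup.eq_one_iff]
      show QuotientGroup.mk' M _ = 1
      have hm : ∀ z : M, QuotientGroup.mk' M (z : G) = 1 := fun z => (QuotientGroup.eq_one_iff _).2 z.2
      rw [map_commutatorElement, map_mul, map_mul, hm m, hm m', one_mul, one_mul, ← map_commutatorElement,
        show ⁅(x : G), (x' : G)⁆ = 1 from commutatorElement_eq_one_iff_commute.2 (congrArg Subtype.val (hP₀.is_comm.comm x x')),
        map_one]
    refine ⟨N ⊓ M, Subgroup.normal_inf_normal N M, le_inf hcN hcM, fun q hq hd => ?_, fun q hq hd => ?_⟩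
    · rcases Finset.mem_insert.1 hq with rfl | hq
      · exact hMr (hd.trans (Subgroup.card_dvd_of_le inf_le_right))
      · exact hNc q hq (hd.trans (Subgroup.card_dvd_of_le inf_le_left))
    · rw [← Subgroup.relIndex_mul_index (inf_le_left : N ⊓ M ≤ N)] at hd
      rcases hq.dvd_mul.1 hd with hd | hd
      · rw [Subgroup.inf_relIndex_left] at hd
        have h1 := hd.trans (Subgroup.relIndex_dvd_index_of_normal M N)
        rw [hMc.symm.index_eq_card] at h1
        obtain ⟨k, hk⟩ := IsPGroup.iff_card.1 P₀.2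
        exact Finset.mem_insert.2 (Or.inl ((Nat.prime_dvd_prime_iff_eq hq Fact.out).1 (hq.dvd_of_dvd_pow (hk ▸ h1))))
      · exact Finset.mem_insert_of_mem (hNi q hq hd)


/-- Let π be a finite non-empty set of odd primes with smallest member p and G a finite group. Write k_π(G) for the number of conjugacy classes of G consisting of π-elements (elements all of whose order's prime divisors lie in π) and |G|_π for the π-part of the order of G. If k_π(G) > (p + 1)|G|_π/(2p), then G has a normal π-complement (a normal subgroup of order prime to π whose index is a π-number) and an abelian Hall π-subgroup. -/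
theorem result {G : Type*} [Group G] [Finite G] (π : Finset ℕ) (hπ : ∀ r ∈ π, r.Prime) (h2 : 2 ∉ π) (p : ℕ) (hp : p ∈ π)
    (hmin : ∀ r ∈ π, p ≤ r) (hk : (p + 1) * π.prod (fun r => r ^ (Nat.card G).factorization r) < 2 * p * Nat.card {c : ConjClasses G // ∀ x ∈ c.carrier, ∀ r : ℕ, r.Prime → r ∣ orderOf x → r ∈ π}) :
    (∃ N : Subgroup G, N.Normal ∧ (∀ r : ℕ, r.Prime → r ∣ Nat.card ↥N → r ∉ π) ∧ ∀ r : ℕ, r.Prime → r ∣ N.index → r ∈ π) ∧ ∃ H : Subgroup G, Cfsg.IsPiHall (↑π : Set ℕ) H ∧ IsMulCommutative ↥H := by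
  have hall : ∀ r ∈ π, ∀ [Fact r.Prime], ∀ P : Sylow r G,
      Cfsg.HasNormalPComplement r G ∧ IsMulCommutative (P : Subgroup G) := by
    intro r hr _ P
    rcases npc_or_few_classes P with h' | h'
    · exact h'
    exfalso
    have h1 := card_piClasses_mul_le (G := G) π hπ hr
    rw [← P.card_eq_multiplicity] at h1
    set K := Nat.card {c : ConjClasses G // ∀ x ∈ c.carrier, ∀ r : ℕ, r.Prime → r ∣ orderOf x → r ∈ π} with hK
    set T := π.prod (fun r => r ^ (Nat.card G).factorization r)
    have hPpos : 0 < Nat.card (P : Subgroup G) := Nat.card_pos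
    have h2 : 2 * r * K ≤ (r + 1) * T := by
      refine Nat.le_of_mul_le_mul_right ?_ hPpos
      calc 2 * r * K * Nat.card (P : Subgroup G) = 2 * r * (K * Nat.card (P : Subgroup G)) := by ring
        _ ≤ 2 * r * (Nat.card (PClasses r G) * T) := Nat.mul_le_mul_left _ h1
        _ = (2 * r * Nat.card (PClasses r G)) * T := by ring
        _ ≤ ((r + 1) * Nat.card (P : Subgroup G)) * T := Nat.mul_le_mul_right _ h'
        _ = _ := by ring
    have hr0 : 0 < r := (hπ r hr).pos
    have h3 : r * ((p + 1) * T) < r * (2 * p * K) := Nat.mul_lt_mul_of_pos_left hk hr0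
    nlinarith [Nat.mul_le_mul_left p h2, Nat.mul_le_mul_right T (hmin r hr)]
  obtain ⟨N, hN, hcN, hNc, hNi⟩ := exists_complement π hπ hall
  refine ⟨⟨N, hN, fun r hr hd hmem => hNc r hmem hd, hNi⟩, ?_⟩
  have hcop : (Nat.card N).Coprime N.index :=
    Nat.coprime_of_dvd fun q hq h1 h2 => hNc q (hNi q hq h2) h1
  obtain ⟨H, hH⟩ := Subgroup.exists_right_complement'_of_coprime hcop
  refine ⟨H, ⟨fun q hq hd => hNi q hq (by rwa [hH.symm.index_eq_card]),
    fun q hq hmem hd => hNc q hmem (by rwa [hH.index_eq_card] at hd)⟩, ⟨⟨fun a b => ?_⟩⟩⟩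
  have hmem : ⁅(a : G), (b : G)⁆ ∈ N ⊓ H := by
    refine ⟨hcN ?_, H.mul_mem (H.mul_mem (H.mul_mem a.2 b.2) (H.inv_mem a.2)) (H.inv_mem b.2)⟩
    rw [commutator_def]
    exact Subgroup.commutator_mem_commutator (Subgroup.mem_top _) (Subgroup.mem_top _)
  rw [disjoint_iff.1 hH.disjoint, Subgroup.mem_bot, commutatorElement_eq_one_iff_mul_comm] at hmem
  exact Subtype.ext hmem

end Cfsg.Agent.S3899
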