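import Cfsg.Statements.S3898
import Cfsg.Agent.Lib.Coprime.PClassCountHalf
import Cfsg.Agent.S3899

set_option autoImplicit false
open Cfsg

namespace Cfsg.Agent.S3898

open CfsgLib.Coprime.PClassCount
open scoped commutatorElement

/-- If the odd-order subgroup `K` fails at `r`, centralisers of `2`-elements have at most half as many classes. -/
lemma two_mul_le_of_fail {G : Type*} [Group G] [Finite G] (K : Subgroup G) (hK : K.Normal) (hKodd : Odd (Nat.card K))
    (hKc : ∀ x : G, Odd (orderOf x) → x ∈ K) (σ : Finset ℕ) (hσ : ∀ q ∈ σ, q.Prime) (h2 : 2 ∉ σ) {r : ℕ}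
    [Fact r.Prime] (hr : r ∈ σ) (R : Sylow r K)
    (hfail : ¬ (Cfsg.HasNormalPComplement r K ∧ IsMulCommutative (R : Subgroup K))) (u : G)
    (hu : ∃ k : ℕ, orderOf u = 2 ^ k) :
    2 * Nat.card (PiClasses σ (Subgroup.centralizer ({u} : Set G))) ≤
      σ.prod fun q => q ^ (Nat.card G).factorization q := by
  classical
  have hrp : r.Prime := Fact.out
  set C := Subgroup.centralizer ({u} : Set G) with hC
  set CK := C ⊓ K with hCK
  have hodd : Odd (Nat.card CK) := hKodd.of_dvd_nat (Subgroup.card_dvd_of_le inf_le_right)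
  have hCKC : CK ≤ C := inf_le_left
  -- classes of `σ`-elements of the centraliser meet `K`
  have h1 : Nat.card (PiClasses σ C) ≤ Nat.card (PiClasses σ CK) := by
    have hmap : ∀ c : PiClasses σ CK, ∃ d : PiClasses σ C, ∀ x : CK, ConjClasses.mk x = c.1 →
        ConjClasses.mk (Subgroup.inclusion hCKC x) = d.1 := by
      rintro ⟨c, hc⟩
      obtain ⟨x, rfl⟩ := ConjClasses.mk_surjective c
      refine ⟨⟨ConjClasses.mk (Subgroup.inclusion hCKC x), piClasses_mk fun q hq hd => ?_⟩, fun y hy => ?_⟩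
      · rw [orderOf_injective _ (Subgroup.inclusion_injective hCKC) x] at hd
        exact hc x ConjClasses.mem_carrier_mk q hq hd
      · exact ConjClasses.mk_eq_mk_iff_isConj.2
          (MonoidHom.map_isConj (Subgroup.inclusion hCKC) (ConjClasses.mk_eq_mk_iff_isConj.1 hy))
    choose f hf using hmap
    refine Nat.card_le_card_of_surjective f ?_
    rintro ⟨d, hd⟩
    obtain ⟨x, rfl⟩ := ConjClasses.mk_surjective d
    have hx := hd x ConjClasses.mem_carrier_mk
    have hxK : (x : G) ∈ K := hKc _ (Nat.not_even_iff_odd.1 fun hev =>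
      h2 (hx 2 Nat.prime_two (by rw [← Subgroup.orderOf_coe]; exact even_iff_two_dvd.1 hev)))
    let y : CK := ⟨x, x.2, hxK⟩
    have hy : ∀ q : ℕ, q.Prime → q ∣ orderOf y → q ∈ σ := fun q hq hd' =>
      hx q hq (by rw [← Subgroup.orderOf_coe] at hd' ⊢; exact hd')
    exact ⟨⟨ConjClasses.mk y, piClasses_mk hy⟩, Subtype.ext (hf ⟨ConjClasses.mk y, piClasses_mk hy⟩ y rfl).symm⟩
  refine (Nat.mul_le_mul_left 2 h1).trans ?_
  have hmono : ∀ q ∈ σ, q ^ (Nat.card CK).factorization q ≤ q ^ (Nat.card G).factorization q := fun q hq =>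
    pow_factorization_le (Subgroup.card_subgroup_dvd_card _) Nat.card_pos.ne' q (hσ q hq)
  rcases Nat.lt_or_ge ((Nat.card CK).factorization r) ((Nat.card G).factorization r) with hlt | hge
  · -- the `r`-part drops
    refine (Nat.mul_le_mul_left 2 (card_piClasses_le σ hσ CK)).trans ?_
    rw [← Finset.mul_prod_erase σ _ hr, ← Finset.mul_prod_erase σ (fun q => q ^ (Nat.card G).factorization q) hr, ← mul_assoc]
    refine Nat.mul_le_mul ?_ (Finset.prod_le_prod' fun q hq => hmono q (Finset.mem_of_mem_erase hq))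
    calc 2 * r ^ (Nat.card CK).factorization r ≤ r * r ^ (Nat.card CK).factorization r :=
          Nat.mul_le_mul_right _ hrp.two_le
      _ = r ^ ((Nat.card CK).factorization r + 1) := by rw [pow_succ']
      _ ≤ _ := Nat.pow_le_pow_right hrp.pos hlt
  obtain ⟨R'⟩ : Nonempty (Sylow r CK) := inferInstance
  rcases npc_or_half_of_odd hodd R' with ⟨hnpc, hab⟩ | hhalf
  swap
  · have h3 := card_piClasses_mul_le (G := CK) σ hσ hr
    rw [← R'.card_eq_multiplicity] at h3
    refine (Nat.le_of_mul_le_mul_right ?_ (Nat.card_pos : 0 < Nat.card (R' : Subgroup CK))).trans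
      (Finset.prod_le_prod' hmono)
    calc 2 * Nat.card (PiClasses σ CK) * Nat.card (R' : Subgroup CK)
        = 2 * (Nat.card (PiClasses σ CK) * Nat.card (R' : Subgroup CK)) := mul_assoc _ _ _
      _ ≤ 2 * (Nat.card (PClasses r CK) * σ.prod fun q => q ^ (Nat.card CK).factorization q) :=
          Nat.mul_le_mul_left 2 h3
      _ = 2 * Nat.card (PClasses r CK) * σ.prod fun q => q ^ (Nat.card CK).factorization q := (mul_assoc _ _ _).symm
      _ ≤ Nat.card (R' : Subgroup CK) * σ.prod fun q => q ^ (Nat.card CK).factorization q :=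
          Nat.mul_le_mul_right _ hhalf
      _ = _ := mul_comm _ _
  exfalso
  set R₂ := (R' : Subgroup CK).map CK.subtype with hR₂
  have hR₂CK : R₂ ≤ CK := Subgroup.map_subtype_le _
  have hR₂K : R₂ ≤ K := hR₂CK.trans inf_le_right
  have hcard : Nat.card (R₂.subgroupOf K) = r ^ (Nat.card K).factorization r := by
    rw [Nat.card_congr (Subgroup.subgroupOfEquivOfLe hR₂K).toEquiv, hR₂,
      Subgroup.card_map_of_injective (Subgroup.subtype_injective _), R'.card_eq_multiplicity]
    congr 1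
    have hK1 : (Nat.card K).factorization r ≤ (Nat.card G).factorization r :=
      (Nat.factorization_le_iff_dvd Nat.card_pos.ne' Nat.card_pos.ne').2 (Subgroup.card_subgroup_dvd_card K) r
    have hK2 : (Nat.card CK).factorization r ≤ (Nat.card K).factorization r :=
      (Nat.factorization_le_iff_dvd Nat.card_pos.ne' Nat.card_pos.ne').2 (Subgroup.card_dvd_of_le inf_le_right) r
    omega
  set R₁ : Sylow r K := Sylow.ofCard (R₂.subgroupOf K) hcard with hR₁
  have hR₁c : (R₁ : Subgroup K) = R₂.subgroupOf K := Sylow.coe_ofCard _ _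
  have hab₂ : ∀ a ∈ R₂, ∀ b ∈ R₂, a * b = b * a := by
    rintro _ ⟨a, ha, rfl⟩ _ ⟨b, hb, rfl⟩
    exact congrArg (fun z : (R' : Subgroup CK) => ((z : CK) : G)) (hab.is_comm.comm ⟨a, ha⟩ ⟨b, hb⟩)
  have hab₁ : IsMulCommutative (R₁ : Subgroup K) := ⟨⟨fun a b => Subtype.ext (Subtype.ext
    (hab₂ _ (hR₁c.le a.2) _ (hR₁c.le b.2)))⟩⟩
  have habR : IsMulCommutative (R : Subgroup K) := ⟨⟨fun a b => (Sylow.equiv R R₁).injective (by
    rw [map_mul, map_mul]; exact hab₁.is_comm.comm _ _)⟩⟩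
  have hN : ¬ Subgroup.normalizer ((R₁ : Subgroup K) : Set K) ≤ Subgroup.centralizer ((R₁ : Subgroup K) : Set K) :=
    fun h => hfail ⟨CfsgLib.Fusion.Abelian.npc_of_normalizer_le_centralizer R₁ h, habR⟩
  obtain ⟨n, hn, hnC⟩ := SetLike.not_le_iff_exists.1 hN
  have hnR : (n : G) ∈ Subgroup.normalizer (R₂ : Set G) := by
    refine CfsgLib.Coprime.mem_normalizer_of_conj_map_le fun z hz => ?_
    have := (Subgroup.mem_normalizer_iff.1 hn ⟨z, hR₂K hz⟩).1 (hR₁c.ge (Subgroup.mem_subgroupOf.2 hz))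
    exact Subgroup.mem_subgroupOf.1 (hR₁c.le this)
  obtain ⟨k, hk⟩ := hu
  set N := K ⊓ Subgroup.centralizer (R₂ : Set G) with hN'
  have hAC : Subgroup.zpowers u ≤ Subgroup.centralizer (R₂ : Set G) :=
    Subgroup.zpowers_le.2 (Subgroup.mem_centralizer_iff.2 fun z hz =>
      Subgroup.mem_centralizer_singleton_iff.1 (hCKC (hR₂CK hz)))
  have hAN : Subgroup.zpowers u ≤ Subgroup.normalizer (N : Set G) :=
    (le_inf (Subgroup.le_normalizer_of_normal (H := K)) (hAC.trans Subgroup.le_normalizer)).trans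
      Subgroup.inf_normalizer_le_normalizer_inf
  have hcop : (Nat.card (Subgroup.zpowers u)).Coprime (Nat.card N) := by
    rw [Nat.card_zpowers, hk]
    exact (Nat.coprime_two_left.2 (hKodd.of_dvd_nat (Subgroup.card_dvd_of_le inf_le_left))).pow_left k
  obtain ⟨m, hm, hmn⟩ := CfsgLib.Coprime.exists_mul_mem_centralizer hAN hcop
    (.inl (CfsgLib.Coprime.isSolvable_zpowers u)) (k := (n : G)) fun a ha => by
      refine ⟨?_, ?_⟩
      · rw [commutatorElement_def]
        exact K.mul_mem (hK.conj_mem _ n.2 a) (K.inv_mem n.2)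
      · have hnn : (n : G) ∈ Subgroup.normalizer (Subgroup.centralizer (R₂ : Set G) : Set G) := by
          refine CfsgLib.Coprime.mem_normalizer_of_conj_map_le fun z hz => Subgroup.mem_centralizer_iff.2 fun y hy => ?_
          have h1 := Subgroup.mem_centralizer_iff.1 hz _ ((Subgroup.mem_normalizer_iff''.1 hnR y).1 hy)
          calc y * (↑n * z * (↑n)⁻¹) = ↑n * ((↑n)⁻¹ * y * ↑n * z) * (↑n)⁻¹ := by group
            _ = ↑n * (z * ((↑n)⁻¹ * y * ↑n)) * (↑n)⁻¹ := by rw [h1]
            _ = ↑n * z * (↑n)⁻¹ * y := by group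
        rw [show ⁅a, (n : G)⁆ = a * ((n : G) * a⁻¹ * (n : G)⁻¹) by rw [commutatorElement_def]; group]
        exact Subgroup.mul_mem _ (hAC ha) ((Subgroup.mem_normalizer_iff.1 hnn _).1 (Subgroup.inv_mem _ (hAC ha)))
  set w : CK := ⟨m * n, Subgroup.mem_centralizer_singleton_iff.2
    (Subgroup.mem_centralizer_iff.1 hmn u (Subgroup.mem_zpowers u)).symm, K.mul_mem hm.1 n.2⟩ with hw
  refine hnC (Subgroup.mem_centralizer_iff.2 fun z hz => Subtype.ext ?_)
  have hz₂ : (z : G) ∈ R₂ := Subgroup.mem_subgroupOf.1 (hR₁c.le hz)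
  have hnz : (n : G) * z * (n : G)⁻¹ ∈ R₂ := (Subgroup.mem_normalizer_iff.1 hnR _).1 hz₂
  have hmz : m * ((n : G) * z * (n : G)⁻¹) * m⁻¹ = (n : G) * z * (n : G)⁻¹ := by
    rw [← Subgroup.mem_centralizer_iff.1 hm.2 _ hnz, mul_inv_cancel_right]
  obtain ⟨x, hx, hxz⟩ := hz₂
  obtain ⟨x', hx', hxz'⟩ := hnz
  have hsame : toClass R' ⟨x', hx'⟩ = toClass R' ⟨x, hx⟩ := by
    refine Subtype.ext (ConjClasses.mk_eq_mk_iff_isConj.2 (IsConj.symm (isConj_iff.2 ⟨w, Subtype.ext ?_⟩)))
    show m * n * (x : G) * (m * n)⁻¹ = (x' : G)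
    rw [show ((x' : G)) = (n : G) * z * (n : G)⁻¹ from hxz', ← hmz, show ((x : G)) = (z : G) from hxz]
    group
  have := congrArg (fun v : (R' : Subgroup CK) => ((v : CK) : G)) (toClass_injective_of_npc hnpc R' hab hsame)
  simp only at this
  rw [show ((x : G)) = (z : G) from hxz, show ((x' : G)) = (n : G) * z * (n : G)⁻¹ from hxz'] at this
  show (z : G) * n = n * z
  exact (mul_inv_eq_iff_eq_mul.1 this).symm

/-- Let π be a finite set of primes containing 2 and G a finite group. Write k_π(G) for the number of conjugacy classes of G consisting of π-elements (elements all of whose order's prime divisors lie in π) and |G|_π for the π-part of the order of G. If k_π(G) > |G|_π/2, then G has a normal π-complement (a normal subgroup of order prime to π whose index is a π-number) and an abelian Hall subgroup for the set of odd primes in π. -/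
theorem result {G : Type*} [Group G] [Finite G] (π : Finset ℕ) (hπ : ∀ r ∈ π, r.Prime) (h2 : 2 ∈ π)
    (hk : π.prod (fun r => r ^ (Nat.card G).factorization r) < 2 * Nat.card {c : ConjClasses G // ∀ x ∈ c.carrier, ∀ r : ℕ, r.Prime → r ∣ orderOf x → r ∈ π}) :
    (∃ N : Subgroup G, N.Normal ∧ (∀ r : ℕ, r.Prime → r ∣ Nat.card ↥N → r ∉ π) ∧ ∀ r : ℕ, r.Prime → r ∣ N.index → r ∈ π) ∧ ∃ H : Subgroup G, Cfsg.IsPiHall ((↑π : Set ℕ) \ {2}) H ∧ IsMulCommutative ↥H := by
  classical
  obtain ⟨P⟩ : Nonempty (Sylow 2 G) := inferInstance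
  set T := π.prod (fun r => r ^ (Nat.card G).factorization r) with hT
  set k := Nat.card {c : ConjClasses G // ∀ x ∈ c.carrier, ∀ r : ℕ, r.Prime → r ∣ orderOf x → r ∈ π} with hkdef
  have hnpc : Cfsg.HasNormalPComplement 2 G := by
    by_contra hcon
    have h1 := card_piClasses_mul_le (G := G) π hπ h2
    rw [← P.card_eq_multiplicity] at h1
    have h4 := two_mul_card_pclasses_le P hcon
    have h5 : 2 * k ≤ T := Nat.le_of_mul_le_mul_right (by
      calc 2 * k * Nat.card (P : Subgroup G) = 2 * (k * Nat.card (P : Subgroup G)) := mul_assoc _ _ _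
        _ ≤ 2 * (Nat.card (PClasses 2 G) * T) := Nat.mul_le_mul_left 2 h1
        _ = 2 * Nat.card (PClasses 2 G) * T := (mul_assoc _ _ _).symm
        _ ≤ Nat.card (P : Subgroup G) * T := Nat.mul_le_mul_right _ h4
        _ = T * Nat.card (P : Subgroup G) := mul_comm _ _) Nat.card_pos
    exact absurd hk (not_lt.2 h5)
  obtain ⟨P₀, K, hK, hKc⟩ := hnpc
  obtain ⟨a, ha⟩ := IsPGroup.iff_card.1 P₀.2
  have hKidx : K.index = 2 ^ a := by rw [hKc.symm.index_eq_card, ha]
  have hKodd : Odd (Nat.card K) := by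
    rw [← hKc.index_eq_card]
    exact Nat.not_even_iff_odd.1 fun h => P₀.not_dvd_index (even_iff_two_dvd.1 h)
  have hKmem : ∀ x : G, Odd (orderOf x) → x ∈ K := fun x hx => by
    have h1 : orderOf (QuotientGroup.mk' K x) ∣ 2 ^ a := by
      rw [← hKidx, Subgroup.index_eq_card]; exact orderOf_dvd_natCard _
    have h3 : orderOf (QuotientGroup.mk' K x) = 1 :=
      Nat.eq_one_of_dvd_coprimes (((Nat.coprime_two_right.2 hx)).pow_right a) (orderOf_map_dvd _ x) h1
    exact (QuotientGroup.eq_one_iff x).1 (orderOf_eq_one_iff.1 h3)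
  set σ := π.erase 2 with hσdef
  have hσ : ∀ q ∈ σ, q.Prime := fun q hq => hπ q (Finset.mem_of_mem_erase hq)
  have hσ2 : 2 ∉ σ := Finset.notMem_erase 2 π
  have hall : ∀ r ∈ σ, ∀ [Fact r.Prime], ∀ R : Sylow r K,
      Cfsg.HasNormalPComplement r K ∧ IsMulCommutative (R : Subgroup K) := by
    intro r hr _ R
    by_contra hfail
    set Mσ := σ.prod fun q => q ^ (Nat.card G).factorization q with hMσ
    have h1 := card_piClasses_insert (G := G) Nat.prime_two hσ2 (Mσ / 2) fun u hu =>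
      (Nat.le_div_iff_mul_le two_pos).2 (by
        rw [mul_comm]; exact two_mul_le_of_fail K hK hKodd hKmem σ hσ hσ2 hr R hfail u hu)
    rw [hσdef, Finset.insert_erase h2] at h1
    have h3 : 2 * k ≤ T := by
      calc 2 * k ≤ 2 * (Nat.card (PClasses 2 G) * (Mσ / 2)) := Nat.mul_le_mul_left 2 h1
        _ = Nat.card (PClasses 2 G) * (2 * (Mσ / 2)) := by ring
        _ ≤ Nat.card (P : Subgroup G) * Mσ := Nat.mul_le_mul (card_pclasses_le P) (Nat.mul_div_le Mσ 2)
        _ = T := by
          rw [P.card_eq_multiplicity, hT, hMσ, hσdef, Finset.mul_prod_erase π (fun q => q ^ (Nat.card G).factorization q) h2]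
    exact absurd hk (not_lt.2 h3)
  obtain ⟨N, hN, hcN, hNc, hNi⟩ := S3899.exists_complement σ hσ hall
  set NG := N.map K.subtype with hNG
  have hNGcard : Nat.card NG = Nat.card N := Subgroup.card_map_of_injective (Subgroup.subtype_injective _)
  have hcop : (Nat.card N).Coprime N.index :=
    Nat.coprime_of_dvd fun q hq h₁ h₂ => hNc q (hNi q hq h₂) h₁
  have hnormal : NG.Normal := by
    refine ⟨fun x hx g => ?_⟩
    obtain ⟨x, hx, rfl⟩ := hx
    let y : K := ⟨g * x * g⁻¹, hK.conj_mem _ x.2 g⟩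
    refine ⟨y, ?_, rfl⟩
    have ho : orderOf y ∣ Nat.card N := by
      have h1 : orderOf x ∣ Nat.card N := Subgroup.orderOf_dvd_natCard N hx
      have h2 : orderOf y = orderOf x := by rw [← Subgroup.orderOf_coe, ← Subgroup.orderOf_coe x, orderOf_conj]
      rwa [h2]
    have h3 : orderOf (QuotientGroup.mk' N y) = 1 := Nat.eq_one_of_dvd_coprimes hcop
      ((orderOf_map_dvd _ y).trans ho) (by rw [Subgroup.index_eq_card]; exact orderOf_dvd_natCard _)
    exact (QuotientGroup.eq_one_iff y).1 (orderOf_eq_one_iff.1 h3)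
  obtain ⟨H, hH⟩ := Subgroup.exists_left_complement'_of_coprime hcop
  have hHcard : Nat.card H = N.index := hH.index_eq_card.symm
  refine ⟨⟨NG, hnormal, fun r hr hd hrπ => ?_, fun r hr hd => ?_⟩, H.map K.subtype, ⟨fun r hr hd => ?_, fun r hr hrπ hd => ?_⟩, ?_⟩
  · rw [hNGcard] at hd
    have hr2 : r ≠ 2 := fun h => Nat.not_even_iff_odd.2 hKodd
      (even_iff_two_dvd.2 (h ▸ hd.trans (Subgroup.card_subgroup_dvd_card N)))
    exact hNc r (Finset.mem_erase.2 ⟨hr2, hrπ⟩) hd
  · rw [hNG, Subgroup.index_map_subtype] at hd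
    rcases hr.dvd_mul.1 hd with hd | hd
    · exact Finset.mem_of_mem_erase (hNi r hr hd)
    · rw [hKidx] at hd
      rwa [(Nat.prime_dvd_prime_iff_eq hr Nat.prime_two).1 (hr.dvd_of_dvd_pow hd)]
  · rw [Subgroup.card_map_of_injective (Subgroup.subtype_injective _), hHcard] at hd
    have := Finset.mem_erase.1 (hNi r hr hd)
    exact ⟨this.2, this.1⟩
  · rw [Subgroup.index_map_subtype] at hd
    rcases hr.dvd_mul.1 hd with hd | hd
    · rw [hH.symm.index_eq_card] at hd
      exact hNc r (Finset.mem_erase.2 ⟨hrπ.2, hrπ.1⟩) hd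
    · rw [hKidx] at hd
      exact hrπ.2 ((Nat.prime_dvd_prime_iff_eq hr Nat.prime_two).1 (hr.dvd_of_dvd_pow hd))
  · refine ⟨⟨?_⟩⟩
    rintro ⟨_, a, ha, rfl⟩ ⟨_, b, hb, rfl⟩
    have h1 : ⁅a, b⁆ ∈ H ⊓ N := ⟨H.mul_mem (H.mul_mem (H.mul_mem ha hb) (H.inv_mem ha)) (H.inv_mem hb),
      hcN (Subgroup.commutator_mem_commutator (Subgroup.mem_top a) (Subgroup.mem_top b))⟩
    rw [disjoint_iff.1 hH.disjoint, Subgroup.mem_bot] at h1
    exact Subtype.ext (congrArg K.subtype (commutatorElement_eq_one_iff_commute.1 h1).eq)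

end Cfsg.Agent.S3898
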