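import Cfsg.Statements.S3901
import Cfsg.Agent.S0144
import Cfsg.Agent.Lib.Solvable.FPFNilpotent
-- import your own Cfsg.Agent.* helpers here

set_option autoImplicit false
open Cfsg

namespace Cfsg.Agent.S3901

open Subgroup

variable {G : Type*} [Group G]

/-- Two elements of coprime orders outside `N` cannot commute. -/
theorem mixed [Finite G] {N : Subgroup G} (h : ∀ x : G, x ∉ N → IsPrimePow (orderOf x)) {g a : G}
    (hg : g ∉ N) (hc : Commute g a) (hco : (orderOf g).Coprime (orderOf a)) : a = 1 := by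
  by_contra ha
  have hg1 : g ≠ 1 := fun e => hg (e ▸ N.one_mem)
  have hga : g * a ∉ N := by
    intro hin
    obtain ⟨m, hm⟩ := exists_pow_eq_self_of_coprime hco.symm
    apply hg
    rw [← hm]
    refine N.pow_mem ?_ m
    have := N.pow_mem hin (orderOf a)
    rwa [hc.mul_pow, pow_orderOf_eq_one, mul_one] at this
  obtain ⟨r, k, hr, -, hrk⟩ := (isPrimePow_nat_iff _).1 (h _ hga)
  rw [hc.orderOf_mul_eq_mul_orderOf_of_coprime hco] at hrk
  have key : ∀ n, n ∣ r ^ k → n ≠ 1 → r ∣ n := fun n hn hn1 => by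
    obtain ⟨i, -, rfl⟩ := (Nat.dvd_prime_pow hr).1 hn
    exact dvd_pow_self r fun e => hn1 (by rw [e, pow_zero])
  exact hr.ne_one (Nat.eq_one_of_dvd_coprimes hco
    (key _ (hrk ▸ dvd_mul_right _ _) (mt orderOf_eq_one_iff.1 hg1))
    (key _ (hrk ▸ dvd_mul_left _ _) (mt orderOf_eq_one_iff.1 ha)))

theorem pow_mul_mem {A : Subgroup G} {a b : G} (ha : a ∈ A) (hb : b ∈ normalizer (A : Set G)) (i : ℕ) :
    (a * b) ^ i * (b ^ i)⁻¹ ∈ A := by
  induction i with
  | zero => simp [A.one_mem]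
  | succ i ih =>
    have hbi := (normalizer (A : Set G)).pow_mem hb i
    rw [mem_normalizer_iff] at hbi
    rw [show (a * b) ^ (i + 1) * (b ^ (i + 1))⁻¹ = ((a * b) ^ i * (b ^ i)⁻¹) * (b ^ i * a * (b ^ i)⁻¹) by
      rw [pow_succ, pow_succ]; group]
    exact A.mul_mem ih ((hbi a).1 ha)

/-- The conjugation by an element of the normaliser, as an automorphism. -/
def conjOn (T : Subgroup G) {x : G} (hx : x ∈ normalizer (T : Set G)) : MulAut T where
  toFun t := ⟨x * t * x⁻¹, (mem_normalizer_iff.1 hx _).1 t.2⟩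
  invFun t := ⟨x⁻¹ * t * x, by simpa using (mem_normalizer_iff.1 (inv_mem hx) _).1 t.2⟩
  left_inv t := Subtype.ext (by simp [mul_assoc])
  right_inv t := Subtype.ext (by simp [mul_assoc])
  map_mul' a b := Subtype.ext (by simp [mul_assoc])

theorem conjOn_pow (T : Subgroup G) {x : G} (hx : x ∈ normalizer (T : Set G)) (i : ℕ) (t : T) :
    (((conjOn T hx) ^ i) t : G) = x ^ i * t * (x ^ i)⁻¹ := by
  induction i with
  | zero => simp
  | succ i ih =>
    rw [pow_succ', MulAut.mul_apply]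
    show x * (((conjOn T hx) ^ i) t : G) * x⁻¹ = _
    rw [ih]
    group

/-- The heart: a `q`-element acting nontrivially on a `p`-subgroup of `G ⧸ N`. -/
theorem no_action [Finite G] (N : Subgroup G) [N.Normal] (h : ∀ x : G, x ∉ N → IsPrimePow (orderOf x))
    {p q r : ℕ} [hp : Fact p.Prime] [hq : Fact q.Prime] [hr : Fact r.Prime] (hpq : p ≠ q) (hrp : r ≠ p) (hrq : r ≠ q)
    (hrN : r ∣ Nat.card N) {P : Subgroup (G ⧸ N)} (hP : IsPGroup p P) {z : G ⧸ N} (hzq : ∃ e : ℕ, z ^ q ^ e = 1)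
    (hzn : z ∈ normalizer (P : Set (G ⧸ N))) : z ∈ centralizer (P : Set (G ⧸ N)) := by
  by_contra hzc
  set π := QuotientGroup.mk' N with hπ
  have hker : ∀ g, π g = 1 ↔ g ∈ N := fun g => QuotientGroup.eq_one_iff g
  obtain ⟨R0⟩ : Nonempty (Sylow r N) := inferInstance
  set R : Subgroup G := (R0 : Subgroup N).map N.subtype with hR
  set H := normalizer (R : Set G) with hH
  have hsur : ∀ c : G ⧸ N, ∃ g ∈ H, π g = c := by
    intro c
    obtain ⟨g, rfl⟩ := QuotientGroup.mk'_surjective N c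
    have : g ∈ H ⊔ N := by rw [hH, hR, Sylow.normalizer_sup_eq_top R0]; trivial
    obtain ⟨y, hy, n, hn, rfl⟩ := mem_sup_of_normal_right.1 this
    exact ⟨y, hy, by rw [map_mul, (hker n).2 hn, mul_one]⟩
  set M : Subgroup G := H ⊓ P.comap π with hM
  let f : M →* P := (π.comp M.subtype).codRestrict P fun m => m.2.2
  have hfs : Function.Surjective f := by
    rintro ⟨c, hc⟩
    obtain ⟨g, hg, rfl⟩ := hsur c
    exact ⟨⟨g, hg, hc⟩, Subtype.ext rfl⟩
  obtain ⟨S0⟩ : Nonempty (Sylow p M) := inferInstance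
  set K : Subgroup G := (S0 : Subgroup M).map M.subtype with hK
  have hKM : K ≤ M := Subgroup.map_subtype_le _
  have hKp : IsPGroup p K := S0.isPGroup'.map _
  have hKsur : ∀ c ∈ P, ∃ s ∈ K, π s = c := by
    intro c hc
    have htop : ((S0.mapSurjective hfs : Sylow p P) : Subgroup P) = ⊤ :=
      ((S0.mapSurjective hfs).is_maximal' (hP.of_injective (⊤ : Subgroup P).subtype Subtype.val_injective) le_top).symm
    have hm : (⟨c, hc⟩ : P) ∈ ((S0 : Subgroup M).map f) := by
      rw [← Sylow.coe_mapSurjective hfs, htop]; trivial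
    obtain ⟨m, hm, hm'⟩ := hm
    exact ⟨m, ⟨m, hm, rfl⟩, congrArg Subtype.val hm'⟩
  -- a lift of `z` normalising `K`
  obtain ⟨h₀, hh₀, hh₀z⟩ := hsur z
  have hMn : h₀ ∈ normalizer (M : Set G) := by
    rw [mem_normalizer_iff]
    intro m
    have h1 : m ∈ H ↔ h₀ * m * h₀⁻¹ ∈ H :=
      ⟨fun hm => H.mul_mem (H.mul_mem hh₀ hm) (H.inv_mem hh₀), fun hm => by
        simpa [mul_assoc] using H.mul_mem (H.mul_mem (H.inv_mem hh₀) hm) hh₀⟩
    have h2 : π m ∈ P ↔ π (h₀ * m * h₀⁻¹) ∈ P := by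
      rw [map_mul, map_mul, map_inv, hh₀z]
      exact mem_normalizer_iff.1 hzn _
    exact and_congr h1 h2
  let α : MulAut M := conjOn M hMn
  obtain ⟨m, hm⟩ := MulAction.exists_smul_eq M (α • S0) S0
  set n : G := (m : G) * h₀ with hn
  have hnK : n ∈ normalizer (K : Set G) := by
    have hMul : ∀ t : M, t ∈ (S0 : Subgroup M) → (n * t * n⁻¹ : G) ∈ K := by
      intro t ht
      have : MulAut.conj m (α t) ∈ (S0 : Subgroup M) := by
        rw [← hm]
        exact Subgroup.smul_mem_pointwise_smul _ _ _ (Subgroup.smul_mem_pointwise_smul _ _ _ ht)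
      refine ⟨_, this, ?_⟩
      simp [α, conjOn, hn, mul_assoc]
    have hsub : ∀ k ∈ K, n * k * n⁻¹ ∈ K := by
      rintro k ⟨t, ht, rfl⟩
      exact hMul t ht
    have himg : K.map (MulAut.conj n).toMonoidHom = K := by
      refine Subgroup.eq_of_le_of_card_ge ?_ (Subgroup.card_map_of_injective (MulAut.conj n).injective).ge
      rintro _ ⟨k, hk, rfl⟩
      exact hsub k hk
    rw [mem_normalizer_iff]
    intro k
    refine ⟨hsub k, fun hk => ?_⟩
    rw [← himg] at hk
    obtain ⟨k', hk', e⟩ := hk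
    rwa [show k = k' from ((MulAut.conj n).injective e).symm]
  have hnH : n ∈ H := H.mul_mem m.2.1 hh₀
  have hnorm_pow : ∀ i : ℕ, π n ^ i * (z ^ i)⁻¹ ∈ P := fun i => by
    rw [hn, map_mul, hh₀z]
    exact pow_mul_mem (A := P) m.2.2 hzn i
  -- its `q`-part
  set b := ordCompl[q] (orderOf n) with hb
  have hbq : b.Coprime q := (Nat.coprime_ordCompl hq.out (orderOf_pos n).ne').symm
  set n' := n ^ b with hn'
  have hn'q : n' ^ q ^ (orderOf n).factorization q = 1 := by
    rw [hn', ← pow_mul, hb, mul_comm, Nat.ordProj_mul_ordCompl_eq_self, pow_orderOf_eq_one]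
  have hn'nc : π n' ∉ centralizer (P : Set (G ⧸ N)) := by
    intro hw
    apply hzc
    rw [hn', map_pow] at hw
    obtain ⟨e, he⟩ := hzq
    set u := z ^ b with hu
    set c := u * (π n ^ b)⁻¹ with hc
    have hcP : c ∈ P := by
      have := P.inv_mem (hnorm_pow b)
      rwa [mul_inv_rev, inv_inv] at this
    have hun : u = c * π n ^ b := by rw [hc, inv_mul_cancel_right]
    have hact : ∀ (i : ℕ) (x : G ⧸ N), x ∈ P → u ^ i * x * (u ^ i)⁻¹ = c ^ i * x * (c ^ i)⁻¹ := by
      intro i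
      induction i with
      | zero => intro x _; simp
      | succ i ih =>
        intro x hx
        have e1 : u * x * u⁻¹ = c * x * c⁻¹ := by
          have := (Subgroup.mem_centralizer_iff.1 hw) x hx
          rw [hun, mul_inv_rev]
          calc c * π n ^ b * x * ((π n ^ b)⁻¹ * c⁻¹) = c * (π n ^ b * x) * (π n ^ b)⁻¹ * c⁻¹ := by group
            _ = c * x * c⁻¹ := by rw [← this]; group
        calc u ^ (i + 1) * x * (u ^ (i + 1))⁻¹ = u ^ i * (u * x * u⁻¹) * (u ^ i)⁻¹ := by rw [pow_succ]; group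
          _ = c ^ i * (c * x * c⁻¹) * (c ^ i)⁻¹ := by
              rw [e1, ih _ (P.mul_mem (P.mul_mem hcP hx) (P.inv_mem hcP))]
          _ = _ := by rw [pow_succ]; group
    obtain ⟨k, hk⟩ := hP ⟨c, hcP⟩
    have hk' : c ^ p ^ k = 1 := congrArg Subtype.val hk
    have hucen : u ^ p ^ k ∈ centralizer (P : Set (G ⧸ N)) := by
      rw [Subgroup.mem_centralizer_iff]
      intro x hx
      have := hact (p ^ k) x hx
      rw [hk', inv_one, mul_one, one_mul, mul_inv_eq_iff_eq_mul] at this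
      exact this.symm
    have hord : orderOf z ∣ q ^ e := orderOf_dvd_of_pow_eq_one he
    have hco : (b * p ^ k).Coprime (orderOf z) :=
      (Nat.Coprime.mul_left (hbq.pow_right e)
        (((Nat.coprime_primes hp.out hq.out).2 hpq).pow k e)).coprime_dvd_right hord
    obtain ⟨i, hi⟩ := exists_pow_eq_self_of_coprime hco
    rw [← hi, pow_mul]
    exact Subgroup.pow_mem _ hucen i
  -- power down to order `q` modulo the centraliser
  classical
  have hex : ∃ j : ℕ, π (n' ^ q ^ j) ∈ centralizer (P : Set (G ⧸ N)) :=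
    ⟨_, by rw [hn'q, map_one]; exact one_mem _⟩
  have hj0 : Nat.find hex ≠ 0 := fun e => hn'nc (by
    have h' := Nat.find_spec hex
    rwa [e, pow_zero, pow_one] at h')
  obtain ⟨j, hj⟩ := Nat.exists_eq_succ_of_ne_zero hj0
  set x := n' ^ q ^ j with hx
  have hxnc : π x ∉ centralizer (P : Set (G ⧸ N)) := Nat.find_min hex (by omega)
  have hxqc : π (x ^ q) ∈ centralizer (P : Set (G ⧸ N)) := by
    have := Nat.find_spec hex
    rwa [hj, pow_succ, pow_mul, ← hx] at this
  have hxK : x ∈ normalizer (K : Set G) := pow_mem (pow_mem hnK _) _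
  have hxH : x ∈ H := H.pow_mem (H.pow_mem hnH _) _
  have hxq : x ^ q ^ (orderOf n).factorization q = 1 := by
    rw [hx, ← pow_mul, mul_comm, pow_mul, hn'q, one_pow]
  have hxN : x ∉ N := fun e => hxnc (by rw [(hker x).2 e]; exact one_mem _)
  have hqcop : ∀ {a : G} {l : ℕ}, l.Coprime q → a ^ l = 1 → ∀ i : ℕ, (orderOf (x ^ i)).Coprime (orderOf a) := by
    intro a l hl ha i
    have h1 : orderOf (x ^ i) ∣ q ^ (orderOf n).factorization q :=
      (orderOf_pow_dvd i).trans (orderOf_dvd_of_pow_eq_one hxq)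
    exact Nat.Coprime.coprime_dvd_left h1 (Nat.Coprime.coprime_dvd_right (orderOf_dvd_of_pow_eq_one ha)
      (hl.symm.pow_left _))
  -- an element of `K \ N` centralised by `x ^ q`
  obtain ⟨c, hcP, hc1⟩ : ∃ c ∈ P, c ≠ 1 := by
    by_contra hall
    push Not at hall
    exact hzc (Subgroup.mem_centralizer_iff.2 fun y hy => by rw [hall y hy, one_mul, mul_one])
  obtain ⟨s, hs, hsc⟩ := hKsur c hcP
  let σ : Equiv.Perm {t : K // π (t : G) = c} :=
    { toFun := fun t => ⟨conjOn K (pow_mem hxK q) t.1, by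
        show π (x ^ q * (t.1 : G) * (x ^ q)⁻¹) = c
        rw [map_mul, map_mul, map_inv, t.2, ← (Subgroup.mem_centralizer_iff.1 hxqc) c hcP, mul_inv_cancel_right]⟩
      invFun := fun t => ⟨(conjOn K (pow_mem hxK q)).symm t.1, by
        show π ((x ^ q)⁻¹ * (t.1 : G) * x ^ q) = c
        rw [map_mul, map_mul, map_inv, t.2, mul_assoc, (Subgroup.mem_centralizer_iff.1 hxqc) c hcP,
          inv_mul_cancel_left]⟩
      left_inv := fun t => Subtype.ext ((conjOn K (pow_mem hxK q)).symm_apply_apply t.1)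
      right_inv := fun t => Subtype.ext ((conjOn K (pow_mem hxK q)).apply_symm_apply t.1) }
  have hσpow : ∀ (i : ℕ) (t : {t : K // π (t : G) = c}),
      (((σ ^ i) t).1 : G) = (x ^ q) ^ i * (t.1 : G) * ((x ^ q) ^ i)⁻¹ := by
    intro i
    induction i with
    | zero => intro t; simp
    | succ i ih =>
      intro t
      rw [pow_succ', Equiv.Perm.mul_apply]
      show x ^ q * (((σ ^ i) t).1 : G) * (x ^ q)⁻¹ = _
      rw [ih]
      group
  have hσ : σ ^ q ^ (orderOf n).factorization q = 1 := by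
    refine Equiv.ext fun t => Subtype.ext (Subtype.ext ?_)
    rw [hσpow, ← pow_mul, mul_comm q, pow_mul, hxq, one_pow]
    simp
  have hΩ : Nat.card {t : K // π (t : G) = c} = Nat.card (N.subgroupOf K) := by
    refine Nat.card_congr
      { toFun := fun t => ⟨(⟨s, hs⟩ : K)⁻¹ * t.1, by
          rw [Subgroup.mem_subgroupOf, ← hker]
          show π (s⁻¹ * (t.1 : G)) = 1
          rw [map_mul, map_inv, t.2, hsc, inv_mul_cancel]⟩
        invFun := fun u => ⟨(⟨s, hs⟩ : K) * u.1, by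
          show π (s * (u.1 : G)) = c
          rw [map_mul, hsc, (hker (u.1 : G)).2 u.2, mul_one]⟩
        left_inv := fun t => by simp
        right_inv := fun u => by simp }
  letI := Fintype.ofFinite {t : K // π (t : G) = c}
  obtain ⟨k, hk⟩ := IsPGroup.iff_card.1 (hKp.to_subgroup (N.subgroupOf K))
  obtain ⟨t, ht⟩ := Equiv.Perm.exists_fixed_point_of_prime (p := q) (n := (orderOf n).factorization q)
    (by rw [← Nat.card_eq_fintype_card, hΩ, hk]
        exact fun hd => hpq ((Nat.prime_dvd_prime_iff_eq hq.out hp.out).1 (hq.out.dvd_of_dvd_pow hd)).symm) hσ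
  set a : G := (t.1 : G) with hadef
  have haN : a ∉ N := fun e => hc1 (by rw [← t.2]; exact (hker _).2 e)
  obtain ⟨l, hl⟩ := hKp t.1
  have hal : a ^ p ^ l = 1 := congrArg Subtype.val hl
  have hcoxa := hqcop (((Nat.coprime_primes hp.out hq.out).2 hpq).pow_left l) hal
  have hxq1 : x ^ q = 1 := by
    refine mixed h haN ?_ (hcoxa q).symm
    have := congrArg (fun u : {t : K // π (t : G) = c} => (u.1 : G)) ht
    have e : x ^ q * a * (x ^ q)⁻¹ = a := this
    exact (mul_inv_eq_iff_eq_mul.1 e).symm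
  -- `x` is fixed point free of order `q` on `R K`
  have hKH : K ≤ H := hKM.trans inf_le_left
  obtain ⟨lR, hlR⟩ := IsPGroup.iff_card.1 (R0.isPGroup'.map N.subtype : IsPGroup r R)
  obtain ⟨lK, hlK⟩ := IsPGroup.iff_card.1 hKp
  have hTord : ∀ t ∈ R ⊔ K, t ^ (p ^ lK * r ^ lR) = 1 := by
    intro t ht
    have ht' : t ∈ ((R ⊔ K : Subgroup G) : Set G) := ht
    rw [Subgroup.coe_mul_of_right_le_normalizer_left R K hKH] at ht'
    obtain ⟨u, hu, v, hv, rfl⟩ := ht'
    have h1 := pow_mul_mem (A := R) hu (hKH hv) (p ^ lK)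
    have h2 : v ^ (p ^ lK) = 1 := orderOf_dvd_iff_pow_eq_one.1 (hlK ▸ Subgroup.orderOf_dvd_natCard _ hv)
    rw [h2, inv_one, mul_one] at h1
    show (u * v) ^ _ = 1
    rw [pow_mul]
    exact orderOf_dvd_iff_pow_eq_one.1 (hlR ▸ Subgroup.orderOf_dvd_natCard _ h1)
  have hxT : x ∈ normalizer ((R ⊔ K : Subgroup G) : Set G) := by
    rw [mem_normalizer_iff]
    have key : ∀ y ∈ normalizer (R : Set G), y ∈ normalizer (K : Set G) →
        ∀ t ∈ R ⊔ K, y * t * y⁻¹ ∈ R ⊔ K := by
      intro y hyR hyK t ht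
      have : (R ⊔ K).map (MulAut.conj y).toMonoidHom ≤ R ⊔ K := by
        rw [Subgroup.map_sup, sup_le_iff]
        constructor
        · rintro _ ⟨u, hu, rfl⟩
          exact Subgroup.mem_sup_left ((mem_normalizer_iff.1 hyR u).1 hu)
        · rintro _ ⟨u, hu, rfl⟩
          exact Subgroup.mem_sup_right ((mem_normalizer_iff.1 hyK u).1 hu)
      exact this ⟨t, ht, rfl⟩
    intro t
    refine ⟨key x hxH hxK t, fun ht => ?_⟩
    simpa [mul_assoc] using key x⁻¹ (inv_mem hxH) (inv_mem hxK) _ ht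
  have hcopl : (p ^ lK * r ^ lR).Coprime q :=
    Nat.Coprime.mul_left (((Nat.coprime_primes hp.out hq.out).2 hpq).pow_left _)
      (((Nat.coprime_primes hr.out hq.out).2 hrq).pow_left _)
  have hnil : Group.IsNilpotent ↥(R ⊔ K : Subgroup G) := by
    refine CfsgLib.Solvable.FPFNilpotent.isNilpotent_of_mulAut hq.out (conjOn _ hxT)
      (MulEquiv.ext fun t => Subtype.ext ?_) fun t ht => Subtype.ext ?_
    · rw [conjOn_pow, hxq1]; simp
    · refine mixed h hxN ?_ (by simpa using hqcop hcopl (hTord _ t.2) 1)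
      exact mul_inv_eq_iff_eq_mul.1 (congrArg Subtype.val ht)
  have hKR : K ≤ centralizer (R : Set G) :=
    CfsgLib.Solvable.Schmidt.le_centralizer_of_nilpotent hnil le_sup_right le_sup_left hKp
      (hlR ▸ ((Nat.coprime_primes hr.out hp.out).2 hrp).pow_left lR)
  -- a contradiction
  obtain ⟨ρ, hρ, hρ1⟩ : ∃ ρ ∈ R, ρ ≠ 1 := by
    by_contra hall
    push Not at hall
    have hR0 : (R0 : Subgroup N) = ⊥ := (Subgroup.eq_bot_iff_forall _).2 fun u hu =>
      Subtype.ext (hall _ ⟨u, hu, rfl⟩)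
    exact R0.ne_bot_of_dvd_card hrN hR0
  refine hρ1 (mixed h haN ((Subgroup.mem_centralizer_iff.1 (hKR t.1.2)) ρ hρ).symm ?_)
  exact Nat.Coprime.coprime_dvd_left (orderOf_dvd_of_pow_eq_one hal)
    (Nat.Coprime.coprime_dvd_right (hlR ▸ Subgroup.orderOf_dvd_natCard _ hρ)
      (((Nat.coprime_primes hp.out hr.out).2 (Ne.symm hrp)).pow _ _))


/-- Let N be a non-trivial normal subgroup of the finite group G such that every element of G outside N has prime power order. If N is not solvable, then G/N is solvable. -/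
theorem result {G : Type*} [Group G] [Finite G] (N : Subgroup G) [N.Normal] (hN : N ≠ ⊥) (hns : ¬ Group.IsSolvable ↥N)
    (h : ∀ x : G, x ∉ N → IsPrimePow (orderOf x)) : Group.IsSolvable (G ⧸ N) := by
  by_contra hX
  have hnn : ¬ Group.IsNilpotent (G ⧸ N) := fun hh => hX (by haveI := hh; infer_instance)
  obtain ⟨Y, hY, hYmin⟩ : ∃ Y : Subgroup (G ⧸ N), ¬ Group.IsNilpotent Y ∧
      ∀ Z : Subgroup (G ⧸ N), Z < Y → Group.IsNilpotent Z := by
    obtain ⟨Y, hY, hmin⟩ := Set.Finite.exists_minimal (Set.toFinite {Y : Subgroup (G ⧸ N) | ¬ Group.IsNilpotent Y})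
      ⟨⊤, fun hh => hnn (by haveI := hh; exact (Group.isNilpotent_congr Subgroup.topEquiv).1 hh)⟩
    exact ⟨Y, hY, fun Z hZ => by_contra fun hn => hZ.not_ge (hmin hn hZ.le)⟩
  have hsub : ∀ Z : Subgroup Y, Z ≠ ⊤ → Group.IsNilpotent Z := by
    intro Z hZ
    have hlt : Z.map Y.subtype < Y :=
      lt_of_le_of_ne (Subgroup.map_subtype_le _) fun e => hZ (Subgroup.map_injective Y.subtype_injective
        (by rw [e, ← MonoidHom.range_eq_map, Subgroup.range_subtype]))
    haveI := hYmin _ hlt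
    exact (Group.isNilpotent_congr (Z.equivMapOfInjective _ Y.subtype_injective)).2 inferInstance
  obtain ⟨q, p, hq, hp, hqp, Q, P, -, hPn, -, hnc, -⟩ := CfsgLib.Solvable.Schmidt.structure_minimal hY hsub
  haveI := Fact.mk hp
  haveI := Fact.mk hq
  obtain ⟨r, hr, hrN, hrp, hrq⟩ : ∃ r : ℕ, r.Prime ∧ r ∣ Nat.card N ∧ r ≠ p ∧ r ≠ q := by
    by_contra hall
    push Not at hall
    refine hns (Cfsg.Agent.S0144.result p q ((Nat.card N).factorization p) ((Nat.card N).factorization q) hp hq ?_)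
    have hne : Nat.card N ≠ 0 := Nat.card_pos.ne'
    have hs : (Nat.card N).factorization.support ⊆ {p, q} := by
      intro r hr
      rw [Nat.support_factorization, Nat.mem_primeFactors] at hr
      rcases eq_or_ne r p with h1 | h1
      · simp [h1]
      · simp [hall r hr.1 hr.2.1 h1]
    conv_lhs => rw [← Nat.prod_factorization_pow_eq_self hne]
    rw [Finsupp.prod_of_support_subset _ hs _ (fun i _ => pow_zero i), Finset.prod_pair hqp.symm]
  haveI := Fact.mk hr
  apply hnc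
  intro y hy
  rw [Subgroup.mem_centralizer_iff]
  intro u hu
  have hP' : IsPGroup p ((P : Subgroup Y).map Y.subtype) := P.isPGroup'.map _
  obtain ⟨e, he⟩ := Q.isPGroup' ⟨y, hy⟩
  have hy' : (y : G ⧸ N) ^ q ^ e = 1 := congrArg (fun w : Q => ((w : Y) : G ⧸ N)) he
  have hyn : (y : G ⧸ N) ∈ Subgroup.normalizer (((P : Subgroup Y).map Y.subtype : Subgroup (G ⧸ N)) : Set (G ⧸ N)) := by
    rw [Subgroup.mem_normalizer_iff]
    intro w
    constructor
    · rintro ⟨w', hw', rfl⟩
      exact ⟨y * w' * y⁻¹, hPn.conj_mem _ hw' y, by simp⟩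
    · rintro ⟨w', hw', hww⟩
      exact ⟨y⁻¹ * w' * y, by have h' := hPn.conj_mem _ hw' y⁻¹; rwa [inv_inv] at h', by
        simp only [Subgroup.subtype_apply, Subgroup.coe_mul, Subgroup.coe_inv] at hww ⊢
        rw [hww]; group⟩
  have := Cfsg.Agent.S3901.no_action N h hqp.symm hrp hrq hrN hP' ⟨e, hy'⟩ hyn
  exact Subtype.ext (Subgroup.mem_centralizer_iff.1 this _ ⟨u, hu, rfl⟩)

end Cfsg.Agent.S3901
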