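import Cfsg.Statements.S3903
import Cfsg.Agent.Lib.Coprime.Sylow
import Cfsg.Agent.Lib.Fusion.Abelian
import Cfsg.Agent.Lib.Fusion.Basic

set_option autoImplicit false
open Cfsg

namespace Cfsg.Agent.S3903

open CfsgLib.Coprime

variable {G : Type*} [Group G] [Finite G]

lemma isSolvable_of_pgroup {p : ℕ} [Fact p.Prime] (h : IsPGroup p G) : Group.IsSolvable G := by
  have := h.isNilpotent
  infer_instance

/-- A maximal subgroup that is an abelian `p`-group, or a normal `p`-group, forces solvability. -/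
lemma isSolvable_of_coatom {p : ℕ} [Fact p.Prime] (P : Subgroup G) (hP : IsPGroup p P) (hmax : IsCoatom P)
    (h : IsMulCommutative P ∨ P.Normal) : Group.IsSolvable G := by
  have hPsolv : Group.IsSolvable P := isSolvable_of_pgroup hP
  by_cases hn : P.Normal
  · have hq : Group.IsSolvable (G ⧸ P) := by
      have hcyc : IsCyclic (G ⧸ P) := by
        by_contra hnc
        obtain ⟨g, hg⟩ : ∃ g : G, g ∉ P := by
          by_contra hc
          push Not at hc
          exact hmax.1 (top_le_iff.1 fun g _ => hc g)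
        refine hnc ⟨⟨QuotientGroup.mk' P g, fun y => ?_⟩⟩
        obtain ⟨z, rfl⟩ := QuotientGroup.mk'_surjective P y
        have hle : P ≤ (Subgroup.zpowers (QuotientGroup.mk' P g)).comap (QuotientGroup.mk' P) := fun w hw => by
          rw [Subgroup.mem_comap, show QuotientGroup.mk' P w = 1 from (QuotientGroup.eq_one_iff w).2 hw]
          exact one_mem _
        have htop := hmax.2 _ (lt_of_le_of_ne hle fun he => hg (he.ge (Subgroup.mem_zpowers _)))
        exact htop.ge (Subgroup.mem_top z)
      infer_instance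
    exact Group.isSolvable_of_ker_le_range P.subtype (QuotientGroup.mk' P) (by simp)
  obtain ⟨S, hS⟩ := hP.exists_le_sylow
  rcases eq_or_lt_of_le hS with hPS | hlt
  swap
  · have hGp : IsPGroup p (⊤ : Subgroup G) := hmax.2 _ hlt ▸ S.2
    exact isSolvable_of_pgroup (hGp.of_equiv Subgroup.topEquiv)
  have hab : IsMulCommutative P := h.resolve_right hn
  have hN : Subgroup.normalizer (P : Set G) = P := by
    rcases eq_or_lt_of_le (Subgroup.le_normalizer : P ≤ Subgroup.normalizer (P : Set G)) with h' | h'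
    · exact h'.symm
    · exact absurd (Subgroup.normalizer_eq_top_iff.1 (hmax.2 _ h')) hn
  obtain ⟨P₀, K, hK, hKc⟩ := CfsgLib.Fusion.Abelian.npc_of_normalizer_le_centralizer S (by
    show Subgroup.normalizer ((S : Subgroup G) : Set G) ≤ Subgroup.centralizer ((S : Subgroup G) : Set G)
    rw [← hPS, hN]
    intro x hx
    exact Subgroup.mem_centralizer_iff.2 fun y hy => congrArg Subtype.val (hab.is_comm.comm (⟨y, hy⟩ : P) ⟨x, hx⟩))
  have hKcop : (Nat.card K).Coprime p := by
    rw [← hKc.index_eq_card]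
    exact ((Fact.out : p.Prime).coprime_iff_not_dvd.2 P₀.not_dvd_index).symm
  have hcardP : Nat.card P = Nat.card (P₀ : Subgroup G) := by
    rw [hPS, S.card_eq_multiplicity, P₀.card_eq_multiplicity]
  have hq' : Group.IsSolvable (G ⧸ K) := by
    refine isSolvable_of_pgroup (p := p) ?_
    obtain ⟨j, hj⟩ := IsPGroup.iff_card.1 P₀.2
    exact IsPGroup.of_card (n := j) (by rw [← Subgroup.index_eq_card, hKc.symm.index_eq_card, hj])
  suffices Group.IsSolvable K from Group.isSolvable_of_ker_le_range K.subtype (QuotientGroup.mk' K) (by simp)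
  by_cases hK1 : Nat.card K = 1
  · have : Subsingleton K := (Nat.card_eq_one_iff_unique.1 hK1).1
    infer_instance
  obtain ⟨q, hq, hqK⟩ := Nat.exists_prime_and_dvd hK1
  have := Fact.mk hq
  obtain ⟨a, ha⟩ := IsPGroup.iff_card.1 hP
  have hcop : (Nat.card P).Coprime (Nat.card K) := by rw [ha]; exact (hKcop.symm).pow_left a
  obtain ⟨Q, hQ⟩ := exists_invariant_sylow (A := P) (K := K) Subgroup.le_normalizer_of_normal hcop (.inl hPsolv) q
  set Q' := (Q : Subgroup K).map K.subtype with hQ'
  have hQK : Q' ≤ K := Subgroup.map_subtype_le _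
  have hdisj : Disjoint Q' P := by
    rw [disjoint_iff, ← Subgroup.card_eq_one]
    exact Nat.eq_one_of_dvd_coprimes hcop (Subgroup.card_dvd_of_le inf_le_right)
      ((Subgroup.card_dvd_of_le inf_le_left).trans (Subgroup.card_dvd_of_le hQK))
  have htop : Q' ⊔ P = ⊤ := hmax.2 _ (lt_of_le_of_ne le_sup_right fun he => by
    have h1 : Q' = ⊥ := (hdisj.le_bot.trans' (le_inf le_rfl (he.ge.trans' le_sup_left))) |> eq_bot_iff.2
    rw [← Subgroup.card_eq_one, hQ', card_map_subtype, Q.card_eq_multiplicity] at h1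
    exact hq.ne_one (Nat.pow_eq_one.1 h1 |>.resolve_right
      (Nat.Prime.factorization_pos_of_dvd hq Nat.card_pos.ne' hqK).ne'))
  have hcard : Nat.card Q' = Nat.card K := by
    have h1 := card_sup_of_le_normalizer hQ hdisj
    rw [htop, Subgroup.card_top, hcardP, ← hKc.card_mul_card] at h1
    exact (Nat.eq_of_mul_eq_mul_right Nat.card_pos h1).symm
  exact isSolvable_of_pgroup (p := q) (IsPGroup.of_card
    (hcard.symm.trans (by rw [hQ', card_map_subtype, Q.card_eq_multiplicity])))

/-- A non-abelian `p`-group has centre of index at least `p²`. -/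
lemma center_bound {P : Type*} [Group P] [Finite P] {p : ℕ} [Fact p.Prime] (hP : IsPGroup p P) (hab : ¬ IsMulCommutative P) :
    p ^ 2 * Nat.card (Subgroup.center P) ≤ Nat.card P := by
  obtain ⟨j, hj⟩ := hP.index (Subgroup.center P)
  have hj2 : 2 ≤ j := by
    by_contra hlt
    have hcyc : IsCyclic (P ⧸ Subgroup.center P) := by
      rcases Nat.le_one_iff_eq_zero_or_eq_one.1 (show j ≤ 1 by omega) with h | h
      · have : Subsingleton (P ⧸ Subgroup.center P) :=
          (Nat.card_eq_one_iff_unique.1 (by rw [← Subgroup.index_eq_card, hj, h, pow_zero])).1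
        infer_instance
      · exact isCyclic_of_prime_card (p := p) (by rw [← Subgroup.index_eq_card, hj, h, pow_one])
    exact hab (MonoidHom.isMulCommutative_of_isCyclic_of_ker_le_center
      (QuotientGroup.mk' (Subgroup.center P)) (by rw [QuotientGroup.ker_mk']))
  rw [← (Subgroup.center P).index_mul_card, hj]
  exact Nat.mul_le_mul_right _ (Nat.pow_le_pow_right (Fact.out : p.Prime).pos hj2)

lemma sum_inv_sq : ∀ M : ℕ, 2 ≤ M → ∑ n ∈ Finset.Icc 2 M, (1 : ℚ) / (n : ℚ) ^ 2 ≤ 3 / 4 - 1 / M := by
  intro M hM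
  induction M, hM using Nat.le_induction with
  | base => norm_num
  | succ M hM ih =>
    rw [Finset.sum_Icc_succ_top (by omega)]
    have hM0 : (0 : ℚ) < M := by exact_mod_cast (show 0 < M by omega)
    have h1 : (1 : ℚ) / ((M + 1 : ℕ) : ℚ) ^ 2 ≤ 1 / M - 1 / ((M + 1 : ℕ) : ℚ) := by
      push_cast
      rw [div_sub_div _ _ hM0.ne' (by positivity)]
      rw [div_le_div_iff₀ (by positivity) (by positivity)]
      nlinarith
    linarith

/-- Let N be a proper normal subgroup of the finite group G such that every element x of G outside N has prime power order and has centralizer C_G(x) a maximal subgroup of G. Then N is solvable. -/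
theorem result {G : Type*} [Group G] [Finite G] (N : Subgroup G) [N.Normal] (hN : N ≠ ⊤)
    (h : ∀ x : G, x ∉ N → IsPrimePow (orderOf x) ∧ IsCoatom (Subgroup.centralizer ({x} : Set G))) : Group.IsSolvable ↥N := by
  classical
  suffices Group.IsSolvable G from inferInstance
  by_contra hns
  have key : ∀ x : G, x ∉ N → ∃ (p : ℕ) (_ : Fact p.Prime) (P : Sylow p G), p ∈ N.index.primeFactors ∧
      Subgroup.centralizer ({x} : Set G) = (P : Subgroup G) ∧ ¬ IsMulCommutative (P : Subgroup G) ∧
      Subgroup.normalizer ((P : Subgroup G) : Set G) = (P : Subgroup G) := by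
    intro x hx
    obtain ⟨hpp, hmax⟩ := h x hx
    obtain ⟨p, n, hp, hn, hxo⟩ := (isPrimePow_nat_iff _).1 hpp
    have := Fact.mk hp
    set C := Subgroup.centralizer ({x} : Set G)
    have hCp : IsPGroup p C := by
      intro y
      obtain ⟨k, hk⟩ := CfsgLib.Fusion.Basic.exists_pow_coprime (p := p) (y : G)
      refine ⟨k, Subtype.ext ?_⟩
      set z := (y : G) ^ p ^ k with hz
      show z = 1
      have hcomm : Commute x z := Commute.pow_right (Subgroup.mem_centralizer_singleton_iff.1 y.2).symm _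
      have hcop : (orderOf x).Coprime (orderOf z) := by rw [← hxo]; exact (hk.symm).pow_left n
      have hxz : x * z ∉ N := by
        intro hmem
        have h1 : x ^ orderOf z ∈ N := by
          have := pow_mem hmem (orderOf z)
          rwa [hcomm.mul_pow, pow_orderOf_eq_one, mul_one] at this
        obtain ⟨m, hm⟩ := exists_pow_eq_self_of_coprime hcop.symm
        exact hx (hm ▸ pow_mem h1 m)
      obtain ⟨r, m, hr, hm, hrm⟩ := (isPrimePow_nat_iff _).1 (h _ hxz).1
      rw [hcomm.orderOf_mul_eq_mul_orderOf_of_coprime hcop] at hrm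
      have hpr : p = r := (Nat.prime_dvd_prime_iff_eq hp hr).1
        (hp.dvd_of_dvd_pow (hrm ▸ Dvd.dvd.mul_right (hxo ▸ dvd_pow_self p (by omega)) _))
      refine orderOf_eq_one_iff.1 (Nat.eq_one_of_dvd_coprimes (hk.pow_right m) dvd_rfl ?_)
      exact hpr ▸ Dvd.intro_left _ hrm.symm
    have hnn : ¬ C.Normal := fun hn' => hns (isSolvable_of_coatom C hCp hmax (.inr hn'))
    have hna : ¬ IsMulCommutative C := fun hc => hns (isSolvable_of_coatom C hCp hmax (.inl hc))
    obtain ⟨P, hP⟩ := hCp.exists_le_sylow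
    rcases eq_or_lt_of_le hP with he | hlt
    swap
    · have hGp : IsPGroup p (⊤ : Subgroup G) := hmax.2 _ hlt ▸ P.2
      exact absurd (isSolvable_of_pgroup (hGp.of_equiv Subgroup.topEquiv)) hns
    refine ⟨p, this, P, Nat.mem_primeFactors.2 ⟨hp, ?_, Subgroup.index_ne_zero_of_finite⟩, he, he ▸ hna, ?_⟩
    · have h1 : orderOf (QuotientGroup.mk' N x) ∣ N.index := by
        rw [Subgroup.index_eq_card]; exact orderOf_dvd_natCard _
      obtain ⟨i, -, hi⟩ := (Nat.dvd_prime_pow hp).1 (hxo ▸ orderOf_map_dvd (QuotientGroup.mk' N) x)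
      have hi0 : i ≠ 0 := fun h0 => hx ((QuotientGroup.eq_one_iff x).1 (orderOf_eq_one_iff.1 (by rw [show orderOf (x : G ⧸ N) = orderOf (QuotientGroup.mk' N x) from rfl, hi, h0, pow_zero])))
      exact (hi ▸ dvd_pow_self p hi0).trans h1
    · rw [← he]
      rcases eq_or_lt_of_le (Subgroup.le_normalizer : C ≤ Subgroup.normalizer (C : Set G)) with h' | h'
      · exact h'.symm
      · exact absurd (Subgroup.normalizer_eq_top_iff.1 (hmax.2 _ h')) hnn
  let _ : Fintype G := Fintype.ofFinite G
  let T : ℕ → Finset G := fun p => Finset.univ.filter fun x => ∃ (_ : Fact p.Prime) (P : Sylow p G),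
    Subgroup.centralizer ({x} : Set G) = (P : Subgroup G) ∧ ¬ IsMulCommutative (P : Subgroup G) ∧
      Subgroup.normalizer ((P : Subgroup G) : Set G) = (P : Subgroup G)
  have hT : ∀ p : ℕ, p ^ 2 * (T p).card ≤ Nat.card G := by
    intro p
    rcases (T p).eq_empty_or_nonempty with he | ⟨x₀, hx₀⟩
    · rw [he]; simp
    obtain ⟨hp, P₀, -, hna, hnorm⟩ := (Finset.mem_filter.1 hx₀).2
    have hsel : ∀ x : T p, ∃ P : Sylow p G, Subgroup.centralizer ({(x : G)} : Set G) = (P : Subgroup G) := fun x => by
      obtain ⟨-, P, hP, -, -⟩ := (Finset.mem_filter.1 x.2).2; exact ⟨P, hP⟩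
    choose sel hsel using hsel
    have hmemP : ∀ x : T p, (x : G) ∈ (sel x : Subgroup G) := fun x =>
      (hsel x).le (Subgroup.mem_centralizer_singleton_iff.2 rfl)
    have hmemZ : ∀ x : T p, (⟨(x : G), hmemP x⟩ : (sel x : Subgroup G)) ∈ Subgroup.center (sel x : Subgroup G) := fun x =>
      Subgroup.mem_center_iff.2 fun y => Subtype.ext (Subgroup.mem_centralizer_singleton_iff.1 ((hsel x).ge y.2))
    let f : T p → Σ P : Sylow p G, Subgroup.center (P : Subgroup G) := fun x => ⟨sel x, ⟨_, hmemZ x⟩⟩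
    have hf : Function.Injective f := fun a b hab => Subtype.ext
      (congrArg (fun z : Σ P : Sylow p G, Subgroup.center (P : Subgroup G) => ((z.2.1 : (z.1 : Subgroup G)) : G)) hab)
    let _ : Fintype (Sylow p G) := Fintype.ofFinite _
    calc p ^ 2 * (T p).card = p ^ 2 * Nat.card (T p) := by rw [Nat.card_eq_fintype_card, Fintype.card_coe]
      _ ≤ p ^ 2 * ∑ P : Sylow p G, Nat.card (Subgroup.center (P : Subgroup G)) :=
          Nat.mul_le_mul_left _ (by rw [← Nat.card_sigma]; exact Nat.card_le_card_of_injective f hf)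
      _ = ∑ P : Sylow p G, p ^ 2 * Nat.card (Subgroup.center (P : Subgroup G)) := Finset.mul_sum _ _ _
      _ ≤ ∑ _P : Sylow p G, Nat.card (P₀ : Subgroup G) := Finset.sum_le_sum fun P _ =>
          (center_bound P.2 fun hc => hna ⟨⟨fun a b => (Sylow.equiv P₀ P).injective (by
            rw [map_mul, map_mul]; exact hc.is_comm.comm _ _)⟩⟩).trans_eq
          (by rw [P.card_eq_multiplicity, P₀.card_eq_multiplicity])
      _ = Nat.card (Sylow p G) * Nat.card (P₀ : Subgroup G) := by simp [Nat.card_eq_fintype_card]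
      _ = Nat.card G := by rw [P₀.card_eq_index_normalizer, show Subgroup.normalizer (P₀ : Set G) = (P₀ : Subgroup G) from hnorm, Subgroup.index_mul_card]
  have hcover : Nat.card G ≤ Nat.card N + ∑ p ∈ N.index.primeFactors, (T p).card := by
    have h1 : (Finset.univ : Finset G) ⊆ (Finset.univ.filter fun x => x ∈ N) ∪ N.index.primeFactors.biUnion T := by
      intro x _
      rw [Finset.mem_union]
      by_cases hx : x ∈ N
      · exact Or.inl (Finset.mem_filter.2 ⟨Finset.mem_univ _, hx⟩)
      · obtain ⟨p, hp, P, hmem, hP⟩ := key x hx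
        exact Or.inr (Finset.mem_biUnion.2 ⟨p, hmem, Finset.mem_filter.2 ⟨Finset.mem_univ _, hp, P, hP⟩⟩)
    have h2 := (Finset.card_le_card h1).trans ((Finset.card_union_le _ _).trans
      (Nat.add_le_add_left Finset.card_biUnion_le _))
    rwa [Finset.card_univ, ← Nat.card_eq_fintype_card, ← Fintype.card_subtype, ← Nat.card_eq_fintype_card] at h2
  set i := N.index with hi
  set S := i.primeFactors with hS
  have hi2 : 2 ≤ i := by
    have h1 : i ≠ 1 := fun h1 => hN (Subgroup.index_eq_one.1 h1)
    have h0 : i ≠ 0 := Subgroup.index_ne_zero_of_finite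
    omega
  have hsum : (Nat.card G : ℚ) ≤ Nat.card N + (Nat.card G : ℚ) * ∑ p ∈ S, (1 : ℚ) / (p : ℚ) ^ 2 := by
    refine (Nat.cast_le.2 hcover).trans ?_
    push_cast
    rw [Finset.mul_sum]
    gcongr with p hp
    have hp0 : (0 : ℚ) < (p : ℚ) ^ 2 := by
      have := (Nat.prime_of_mem_primeFactors hp).pos
      positivity
    rw [mul_one_div, le_div_iff₀ hp0, mul_comm]
    exact_mod_cast hT p
  have hbound : ∑ p ∈ S, (1 : ℚ) / (p : ℚ) ^ 2 + 1 / (i : ℚ) < 1 := by
    rcases Nat.lt_or_ge S.card 2 with hc | hc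
    · have hle : ∑ p ∈ S, (1 : ℚ) / (p : ℚ) ^ 2 ≤ 1 / 4 := by
        rcases Nat.le_one_iff_eq_zero_or_eq_one.1 (Nat.lt_succ_iff.1 hc) with h0 | h1
        · rw [Finset.card_eq_zero.1 h0]; norm_num
        · obtain ⟨p, hp⟩ := Finset.card_eq_one.1 h1
          have hp2 : 2 ≤ p := (Nat.prime_of_mem_primeFactors (show p ∈ i.primeFactors by rw [← hS, hp]; exact Finset.mem_singleton_self p)).two_le
          rw [hp, Finset.sum_singleton, div_le_div_iff₀ (by positivity) (by norm_num)]
          have : (2 : ℚ) ≤ p := by exact_mod_cast hp2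
          nlinarith
      have hinv : (1 : ℚ) / i ≤ 1 / 2 := one_div_le_one_div_of_le (by norm_num) (by exact_mod_cast hi2)
      linarith
    · obtain ⟨p, hp, q, hq, hpq⟩ := Finset.one_lt_card.1 hc
      have hpq' : p * q ∣ i := Nat.Coprime.mul_dvd_of_dvd_of_dvd
        ((Nat.coprime_primes (Nat.prime_of_mem_primeFactors hp) (Nat.prime_of_mem_primeFactors hq)).2 hpq)
        (Nat.dvd_of_mem_primeFactors hp) (Nat.dvd_of_mem_primeFactors hq)
      have hi6 : 6 ≤ i := by
        have h1 := Nat.le_of_dvd (by omega) hpq'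
        have h2 := (Nat.prime_of_mem_primeFactors hp).two_le
        have h3 := (Nat.prime_of_mem_primeFactors hq).two_le
        rcases Nat.lt_or_gt_of_ne hpq with h4 | h4 <;> nlinarith
      have hle : ∑ p ∈ S, (1 : ℚ) / (p : ℚ) ^ 2 ≤ 3 / 4 := by
        have h1 : S ⊆ Finset.Icc 2 i := fun r hr => Finset.mem_Icc.2
          ⟨(Nat.prime_of_mem_primeFactors hr).two_le, Nat.le_of_dvd (by omega) (Nat.dvd_of_mem_primeFactors hr)⟩
        have h0 : (0 : ℚ) ≤ 1 / i := by positivity
        refine (Finset.sum_le_sum_of_subset_of_nonneg h1 fun _ _ _ => by positivity).trans ?_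
        linarith [sum_inv_sq i (by omega)]
      have hinv : (1 : ℚ) / i ≤ 1 / 6 := one_div_le_one_div_of_le (by norm_num) (by exact_mod_cast hi6)
      linarith
  have hNi : (Nat.card N : ℚ) = Nat.card G * (1 / (i : ℚ)) := by
    have hi0 : (i : ℚ) ≠ 0 := by exact_mod_cast (show i ≠ 0 by omega)
    rw [← N.index_mul_card, Nat.cast_mul, ← hi]
    field_simp
  have hGpos : (0 : ℚ) < Nat.card G := by exact_mod_cast Nat.card_pos
  have := mul_lt_mul_of_pos_left hbound hGpos
  linarith

end Cfsg.Agent.S3903
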