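import Cfsg.Statements.S3904
import Cfsg.Agent.Lib.NumberTheory.MaximalCentralizers
import Cfsg.Agent.Lib.Solvable.Basic
import Cfsg.Agent.Lib.Coprime.SchurZassenhaus

set_option autoImplicit false
open Cfsg

namespace Cfsg.Agent.S3904

open Subgroup
open scoped commutatorElement

variable {G : Type*} [Group G] [Finite G]

local notation "Q" => G ⧸ Subgroup.center G

/-- The image in the central quotient. -/
local notation "π" => QuotientGroup.mk' (Subgroup.center G)

lemma commute_mk_iff {a b : G} : Commute (π a) (π b) ↔ ⁅a, b⁆ ∈ center G := by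
  rw [← commutatorElement_eq_one_iff_commute, ← map_commutatorElement]
  exact QuotientGroup.eq_one_iff _

/-- If `[x, g]` is central then `[x ^ k, g] = [x, g ^ k] = [x, g] ^ k`. -/
lemma comm_pow {x g : G} (hz : ⁅x, g⁆ ∈ center G) (k : ℕ) :
    ⁅x, g ^ k⁆ = ⁅x, g⁆ ^ k ∧ ⁅x ^ k, g⁆ = ⁅x, g⁆ ^ k := by
  have hzc : ∀ a : G, a * ⁅x, g⁆ = ⁅x, g⁆ * a := fun a => mem_center_iff.1 hz a
  induction k with
  | zero => simp [commutatorElement_def]
  | succ k ih =>
    constructor
    · calc ⁅x, g ^ (k + 1)⁆ = ⁅x, g⁆ * (g * ⁅x, g ^ k⁆ * g⁻¹) := by rw [pow_succ', commutatorElement_def, commutatorElement_def, commutatorElement_def]; group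
        _ = ⁅x, g⁆ ^ (k + 1) := by
          rw [ih.1, show g * ⁅x, g⁆ ^ k * g⁻¹ = ⁅x, g⁆ ^ k from
            mul_inv_eq_iff_eq_mul.2 (Commute.pow_right (hzc g) k), pow_succ']
    · calc ⁅x ^ (k + 1), g⁆ = x * ⁅x ^ k, g⁆ * x⁻¹ * ⁅x, g⁆ := by rw [pow_succ', commutatorElement_def, commutatorElement_def, commutatorElement_def]; group
        _ = ⁅x, g⁆ ^ (k + 1) := by
          rw [ih.2, show x * ⁅x, g⁆ ^ k * x⁻¹ = ⁅x, g⁆ ^ k from
            mul_inv_eq_iff_eq_mul.2 (Commute.pow_right (hzc x) k), pow_succ]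

/-- The central quotient is a `p`-group: it is elementary abelian. -/
lemma elementary_of_isPGroup (h : ∀ x : G, x ∉ center G → IsCoatom (centralizer ({x} : Set G)))
    {p : ℕ} [Fact p.Prime] (hQ : IsPGroup p Q) : Cfsg.IsElementaryAbelian p (⊤ : Subgroup Q) := by
  have : Group.IsNilpotent Q := hQ.isNilpotent
  have hnil : Group.IsNilpotent G := Group.of_quotient_center_nilpotent this
  have hnorm : ∀ x : G, x ∉ center G → (centralizer ({x} : Set G)).Normal ∧ (centralizer ({x} : Set G)).index = p := by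
    intro x hx
    have hn : (centralizer ({x} : Set G)).Normal := Subgroup.NormalizerCondition.normal_of_coatom _
      Group.normalizerCondition_of_isNilpotent (h x hx)
    refine ⟨hn, ?_⟩
    have hqc : ∀ H : Subgroup (G ⧸ centralizer ({x} : Set G)), H = ⊥ ∨ H = ⊤ := by
      intro H
      rcases (h x hx).le_iff.1 (show centralizer ({x} : Set G) ≤ H.comap (QuotientGroup.mk' _) from fun a ha => by
        rw [mem_comap, show QuotientGroup.mk' (centralizer ({x} : Set G)) a = 1 from (QuotientGroup.eq_one_iff a).2 ha]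
        exact one_mem H) with e | e
      · right; rw [← map_comap_eq_self_of_surjective (QuotientGroup.mk'_surjective _) H, e, map_top_of_surjective _ (QuotientGroup.mk'_surjective _)]
      · left; rw [← map_comap_eq_self_of_surjective (QuotientGroup.mk'_surjective _) H, e, QuotientGroup.map_mk'_self]
    have hd : (centralizer ({x} : Set G)).index ∣ Nat.card Q := by
      rw [← Subgroup.index_eq_card]; exact index_dvd_of_le (center_le_centralizer _)
    obtain ⟨j, hj⟩ := IsPGroup.iff_card.1 hQ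
    obtain ⟨i, -, hi⟩ := (Nat.dvd_prime_pow (Fact.out : p.Prime)).1 (hj ▸ hd)
    rcases Nat.lt_trichotomy i 1 with hi1 | hi1 | hi1
    · exact absurd (index_eq_one.1 (by rw [hi, show i = 0 by omega, pow_zero])) (h x hx).1
    · rw [hi, hi1, pow_one]
    · exfalso
      obtain ⟨y, hy⟩ := exists_prime_orderOf_dvd_card' (G := G ⧸ centralizer ({x} : Set G)) p
        (by rw [← index_eq_card, hi]; exact dvd_pow_self p (by omega))
      rcases hqc (zpowers y) with e | e
      · rw [zpowers_eq_bot] at e; rw [e, orderOf_one] at hy; exact (Fact.out : p.Prime).ne_one hy.symm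
      · have h1 : Nat.card (zpowers y) = p := by rw [Nat.card_zpowers, hy]
        rw [e, card_top, ← index_eq_card, hi] at h1
        have := Nat.pow_right_injective (Fact.out : p.Prime).two_le (h1.trans (pow_one p).symm)
        omega
  have hcen : ∀ a b : G, ⁅a, b⁆ ∈ center G := by
    intro a b
    rw [mem_center_iff]
    intro c
    by_cases hc : c ∈ center G
    · exact (mem_center_iff.1 hc _).symm
    obtain ⟨hn, hi⟩ := hnorm c hc
    have : IsCyclic (G ⧸ centralizer ({c} : Set G)) := isCyclic_of_prime_card (p := p) (by rw [← index_eq_card, hi])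
    have hmem : ⁅a, b⁆ ∈ centralizer ({c} : Set G) := by
      rw [← QuotientGroup.eq_one_iff]
      show QuotientGroup.mk' (centralizer ({c} : Set G)) ⁅a, b⁆ = 1
      rw [map_commutatorElement, commutatorElement_eq_one_iff_commute]
      exact this.commGroup.mul_comm _ _
    exact (mem_centralizer_singleton_iff.1 hmem).symm
  refine ⟨⟨⟨fun a b => ?_⟩⟩, fun y _ => ?_⟩
  · obtain ⟨a', ha'⟩ := QuotientGroup.mk'_surjective _ (a : Q)
    obtain ⟨b', hb'⟩ := QuotientGroup.mk'_surjective _ (b : Q)
    refine Subtype.ext ?_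
    show (a : Q) * b = b * a
    rw [← ha', ← hb']
    exact (commute_mk_iff.2 (hcen a' b')).eq
  · obtain ⟨x, rfl⟩ := QuotientGroup.mk'_surjective _ y
    rw [← map_pow]
    refine (QuotientGroup.eq_one_iff _).2 (mem_center_iff.2 fun g => ?_)
    by_cases hx : x ∈ center G
    · exact mem_center_iff.1 (pow_mem hx p) g
    have hgp : g ^ p ∈ centralizer ({x} : Set G) := by
      have := (hnorm x hx).1
      rw [← (hnorm x hx).2]
      exact pow_index_mem _ g
    have h1 : ⁅x, g⁆ ^ p = 1 := by
      rw [← (comm_pow (hcen x g) p).1, commutatorElement_eq_one_iff_commute]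
      exact (mem_centralizer_singleton_iff.1 hgp).symm
    rw [← (comm_pow (hcen x g) p).2, commutatorElement_eq_one_iff_commute] at h1
    exact h1.eq.symm

/-- A non-central minimal normal subgroup of the central quotient. -/
lemma case_noncentral (h : ∀ x : G, x ∉ center G → IsCoatom (centralizer ({x} : Set G)))
    {p : ℕ} [Fact p.Prime] (Nb : Subgroup Q) (hNn : Nb.Normal) (hNp : IsPGroup p Nb)
    (hNc : IsMulCommutative Nb) (hmin : ∀ K : Subgroup Q, K.Normal → K ≤ Nb → K = ⊥ ∨ K = Nb)
    (hnc : ¬ Nb ≤ center Q) :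
    ¬ IsMulCommutative Q ∧ (∀ H : Subgroup Q, H ≠ ⊤ → IsMulCommutative ↥H) ∧
      ∃ p q a : ℕ, p.Prime ∧ q.Prime ∧ p ≠ q ∧ Nat.card Q = p ^ a * q ∧
        ∀ P : Subgroup Q, Nat.card ↥P = p ^ a → P.Normal := by
  classical
  set N := Nb.comap π with hN
  have hNnorm : N.Normal := hNn.comap _
  have hZN : center G ≤ N := fun z hz => by
    rw [hN, mem_comap, show π z = 1 from (QuotientGroup.eq_one_iff z).2 hz]; exact Nb.one_mem
  have hfix : ∀ n ∈ N, (∀ g : G, ⁅n, g⁆ ∈ center G) → n ∈ center G := by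
    intro n hn hg
    have hmem : π n ∈ Nb ⊓ center Q := ⟨hn, mem_center_iff.2 fun y => by
      obtain ⟨g, rfl⟩ := QuotientGroup.mk'_surjective _ y
      exact (commute_mk_iff.2 (hg g)).eq.symm⟩
    rcases hmin _ (Subgroup.normal_inf_normal Nb (center Q)) inf_le_left with e | e
    · exact (QuotientGroup.eq_one_iff n).1 ((Subgroup.mem_bot).1 (e ▸ hmem))
    · exact absurd (inf_eq_left.1 e) hnc
  have hgen : ∀ M : Subgroup G, M.Normal → M ≤ N → ¬ M ≤ center G → M ⊔ center G = N := by
    intro M hM hMN hMZ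
    rcases hmin (M.map π) (hM.map _ (QuotientGroup.mk'_surjective _)) (map_le_iff_le_comap.2 hMN) with e | e
    · refine absurd (fun m hm => (QuotientGroup.eq_one_iff m).1 ?_) hMZ
      exact (Subgroup.mem_bot).1 (e ▸ mem_map_of_mem π hm)
    · refine le_antisymm (sup_le hMN hZN) fun n hn => ?_
      obtain ⟨m, hm, hmn⟩ := (e.ge hn : π n ∈ M.map π)
      rw [show n = m * (m⁻¹ * n) by group]
      exact mul_mem_sup hm (QuotientGroup.eq.1 hmn)
  have hNab' : ∀ a ∈ N, ∀ b ∈ N, ⁅a, b⁆ ∈ center G := fun a ha b hb =>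
    commute_mk_iff.1 (congrArg Subtype.val (hNc.is_comm.comm (⟨π a, ha⟩ : Nb) ⟨π b, hb⟩))
  -- `N` is abelian
  have hNab : ∀ a ∈ N, ∀ b ∈ N, Commute a b := by
    intro a ha b hb
    by_cases haZ : a ∈ center G
    · exact (mem_center_iff.1 haZ b).symm
    by_contra hab
    set C := centralizer ({a} : Set G) with hC
    have hsup : C ⊔ N = ⊤ := (h a haZ).2 _ (lt_of_le_of_ne le_sup_left fun e =>
      hab (mem_centralizer_singleton_iff.1 (e.ge (mem_sup_right hb) : b ∈ C)).symm)
    have hMn : (C ⊓ N).Normal := by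
      refine normalizer_eq_top_iff.1 (top_le_iff.1 (hsup ▸ sup_le ?_ ?_))
      · exact (le_inf le_normalizer le_normalizer_of_normal).trans inf_normalizer_le_normalizer_inf
      · intro n hn
        refine CfsgLib.Coprime.mem_normalizer_of_conj_map_le fun c hc => ?_
        rw [show n * c * n⁻¹ = ⁅n, c⁆ * c by rw [commutatorElement_def]; group]
        exact mul_mem ⟨center_le_centralizer _ (hNab' n hn c hc.2), hZN (hNab' n hn c hc.2)⟩ hc
    have hNC := hgen _ hMn inf_le_right fun e => haZ (e ⟨mem_centralizer_singleton_iff.2 rfl, ha⟩)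
    exact hab (mem_centralizer_singleton_iff.1 ((sup_le inf_le_left (center_le_centralizer _)) (hNC.ge hb) : b ∈ C)).symm
  -- elements centralising `N` modulo the centre centralise `N`
  have hD : ∀ g : G, (∀ n ∈ N, ⁅n, g⁆ ∈ center G) → ∀ n ∈ N, Commute n g := by
    intro g hg n hn
    by_cases hnZ : n ∈ center G
    · exact (mem_center_iff.1 hnZ g).symm
    by_contra hng
    refine hnZ (hfix n hn fun v => ?_)
    let D : Subgroup G := (centralizer ({π n} : Set Q)).comap π
    have hlt : centralizer ({n} : Set G) < D := by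
      refine lt_of_le_of_ne (fun c hc => mem_centralizer_singleton_iff.2 (by
        rw [← map_mul, ← map_mul, mem_centralizer_singleton_iff.1 hc])) fun e => ?_
      exact hng (mem_centralizer_singleton_iff.1 (e.ge
        (mem_comap.2 (mem_centralizer_singleton_iff.2 (commute_mk_iff.2 (hg n hn)).symm.eq)) : g ∈ centralizer ({n} : Set G))).symm
    have := mem_centralizer_singleton_iff.1 (mem_comap.1 (((h n hnZ).2 D hlt).ge (mem_top v)))
    exact commute_mk_iff.1 this.symm
  set K := centralizer (N : Set G) with hK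
  have hKn : K.Normal := inferInstance
  have hNK : N ≤ K := fun a ha => mem_centralizer_iff.2 fun b hb => (hNab b hb a ha).eq
  have hKne : K ≠ ⊤ := by
    intro hKt
    refine hnc fun y hy => mem_center_iff.2 fun z => ?_
    obtain ⟨n, rfl⟩ := QuotientGroup.mk'_surjective _ y
    obtain ⟨g, rfl⟩ := QuotientGroup.mk'_surjective _ z
    rw [← map_mul, ← map_mul, mem_centralizer_iff.1 (hKt.ge (mem_top g)) n hy]
  have : Group.IsSolvable G := CfsgLib.NT.MaxCent.isSolvable h
  have hQne : (⊤ : Subgroup (G ⧸ K)) ≠ ⊥ := by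
    intro e
    refine hKne (index_eq_one.1 ?_)
    rw [index_eq_card, ← card_top, e, card_bot]
  obtain ⟨Rb, q, -, hRn, hRne, -, hRc, -, hRmin⟩ := CfsgLib.Solvable.Basic.exists_minimal_normal_pgroup hQne
  set R := Rb.comap (QuotientGroup.mk' K) with hR
  have hRnorm : R.Normal := hRn.comap _
  have hKR : K ≤ R := fun z hz => by
    rw [hR, mem_comap, show QuotientGroup.mk' K z = 1 from (QuotientGroup.eq_one_iff z).2 hz]; exact Rb.one_mem
  have hRcomm : ∀ a ∈ R, ∀ b ∈ R, ⁅a, b⁆ ∈ K := fun a ha b hb => by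
    rw [← QuotientGroup.eq_one_iff]
    show QuotientGroup.mk' K ⁅a, b⁆ = 1
    rw [map_commutatorElement, commutatorElement_eq_one_iff_commute]
    exact congrArg Subtype.val (hRc.is_comm.comm (⟨_, ha⟩ : Rb) ⟨_, hb⟩)
  obtain ⟨r₀, hr₀, hr₀K⟩ : ∃ r ∈ R, r ∉ K := by
    by_contra hcon
    push Not at hcon
    refine hRne (eq_bot_iff.2 fun y hy => mem_bot.2 ?_)
    obtain ⟨g, rfl⟩ := QuotientGroup.mk'_surjective _ y
    exact (QuotientGroup.eq_one_iff g).2 (hcon g hy)
  have hRfix : ∀ n ∈ N, (∀ r ∈ R, Commute n r) → n ∈ center G := by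
    intro n hn hc
    by_contra hnZ
    have e := hgen (N ⊓ centralizer (R : Set G)) inferInstance inf_le_left fun e =>
      hnZ (e ⟨hn, mem_centralizer_iff.2 fun r hr => (hc r hr).eq.symm⟩)
    refine hr₀K (mem_centralizer_iff.2 fun b hb => ?_)
    exact (mem_centralizer_iff.1 ((sup_le inf_le_right (center_le_centralizer _)) (e.ge hb)) r₀ hr₀).symm
  -- every non-central element of `N` has centraliser `K`
  have hCx : ∀ x ∈ N, x ∉ center G → centralizer ({x} : Set G) = K := by
    intro x hx hxZ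
    set C := centralizer ({x} : Set G) with hC
    have hKC : K ≤ C := fun k hk => mem_centralizer_singleton_iff.2 (mem_centralizer_iff.1 hk x hx).symm
    have hRC : ¬ R ≤ C := fun e => hxZ (hRfix x hx fun r hr => (mem_centralizer_singleton_iff.1 (e hr)).symm)
    have hsup : C ⊔ R = ⊤ := (h x hxZ).2 _ (lt_of_le_of_ne le_sup_left fun e => hRC (le_sup_right.trans e.ge))
    have hCRn : (C ⊓ R).Normal := by
      refine normalizer_eq_top_iff.1 (top_le_iff.1 (hsup ▸ sup_le ?_ ?_))
      · exact (le_inf le_normalizer le_normalizer_of_normal).trans inf_normalizer_le_normalizer_inf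
      · intro r hr
        refine CfsgLib.Coprime.mem_normalizer_of_conj_map_le fun c hc => ?_
        rw [show r * c * r⁻¹ = ⁅r, c⁆ * c by rw [commutatorElement_def]; group]
        exact mul_mem ⟨hKC (hRcomm r hr c hc.2), hKR (hRcomm r hr c hc.2)⟩ hc
    have hCR : C ⊓ R ≤ K := by
      rcases hRmin ((C ⊓ R).map (QuotientGroup.mk' K)) (hCRn.map _ (QuotientGroup.mk'_surjective _))
          (map_le_iff_le_comap.2 inf_le_right) with e | e
      · exact fun c hc => (QuotientGroup.eq_one_iff c).1 ((mem_bot).1 (e ▸ mem_map_of_mem _ hc))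
      · refine absurd (fun r hr => ?_) hRC
        obtain ⟨c, hc, hcr⟩ := (e.ge hr : QuotientGroup.mk' K r ∈ (C ⊓ R).map (QuotientGroup.mk' K))
        rw [show r = c * (c⁻¹ * r) by group]
        exact C.mul_mem hc.1 (hKC (QuotientGroup.eq.1 hcr))
    -- `R` is central modulo `K`
    have hRcent : ∀ y ∈ R, ∀ g : G, ⁅g, y⁆ ∈ K := by
      intro y hy g
      by_cases hyK : y ∈ K
      · rw [commutatorElement_def]; exact K.mul_mem (hKn.conj_mem _ hyK g) (K.inv_mem hyK)
      have hyZ : y ∉ center G := fun hz => hyK (center_le_centralizer _ hz)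
      have hyN : centralizer ({y} : Set G) ⊔ N = ⊤ := (h y hyZ).2 _ (lt_of_le_of_ne le_sup_left fun e =>
        hyK (mem_centralizer_iff.2 fun n hn => mem_centralizer_singleton_iff.1 (e.ge (mem_sup_right hn) : n ∈ centralizer ({y} : Set G))))
      have hg : g ∈ (centralizer ({QuotientGroup.mk' K y} : Set (G ⧸ K))).comap (QuotientGroup.mk' K) := by
        suffices hle : (centralizer ({y} : Set G) ⊔ N) ≤ _ from hle (hyN.ge (mem_top g))
        refine sup_le ?_ ?_
        · exact fun c hc => mem_centralizer_singleton_iff.2 (by rw [← map_mul, ← map_mul, mem_centralizer_singleton_iff.1 hc])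
        · refine fun n hn => mem_centralizer_singleton_iff.2 ?_
          rw [show QuotientGroup.mk' K n = 1 from (QuotientGroup.eq_one_iff n).2 (hNK hn), one_mul, mul_one]
      rw [← QuotientGroup.eq_one_iff]
      show QuotientGroup.mk' K ⁅g, y⁆ = 1
      rw [map_commutatorElement, commutatorElement_eq_one_iff_commute]
      exact mem_centralizer_singleton_iff.1 hg
    have hCn : C.Normal := by
      refine normalizer_eq_top_iff.1 (top_le_iff.1 (hsup ▸ sup_le le_normalizer ?_))
      intro r hr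
      refine CfsgLib.Coprime.mem_normalizer_of_conj_map_le fun c hc => ?_
      rw [show r * c * r⁻¹ = (⁅c, r⁆)⁻¹ * c by rw [commutatorElement_def]; group]
      exact C.mul_mem (C.inv_mem (hKC (hRcent r hr c))) hc
    refine le_antisymm (fun c hc => mem_centralizer_iff.2 fun b hb => ?_) hKC
    have e := hgen (N ⊓ centralizer (C : Set G)) inferInstance inf_le_left fun e =>
      hxZ (e ⟨hx, mem_centralizer_iff.2 fun d hd => mem_centralizer_singleton_iff.1 hd⟩)
    exact (mem_centralizer_iff.1 ((sup_le inf_le_right (center_le_centralizer _)) (e.ge hb)) c hc).symm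
  obtain ⟨x₀, hx₀, hx₀Z⟩ : ∃ x ∈ N, x ∉ center G := by
    by_contra hcon
    push Not at hcon
    refine hnc fun y hy => ?_
    obtain ⟨n, rfl⟩ := QuotientGroup.mk'_surjective _ y
    rw [show π n = 1 from (QuotientGroup.eq_one_iff n).2 (hcon n hy)]
    exact one_mem _
  have hKmax : IsCoatom K := hCx x₀ hx₀ hx₀Z ▸ h x₀ hx₀Z
  have hfix' : ∀ g ∉ K, ∀ n ∈ N, ⁅n, g⁆ ∈ center G → n ∈ center G := by
    intro g hg n hn hng
    refine hfix n hn fun v => ?_
    have hlt : K < (centralizer ({π n} : Set Q)).comap π := by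
      refine lt_of_le_of_ne (fun k hk => mem_centralizer_singleton_iff.2 (by
        rw [← map_mul, ← map_mul, mem_centralizer_iff.1 hk n hn])) fun e => hg ?_
      exact e.ge (mem_comap.2 (mem_centralizer_singleton_iff.2 (commute_mk_iff.2 hng).symm.eq))
    have := mem_centralizer_singleton_iff.1 (mem_comap.1 ((hKmax.2 _ hlt).ge (mem_top v)))
    exact commute_mk_iff.1 this.symm
  obtain ⟨g, hg⟩ : ∃ g : G, g ∉ K := by
    by_contra hcon
    push Not at hcon
    exact hKne (top_le_iff.1 fun g _ => hcon g)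
  have hgZ : g ∉ center G := fun hz => hg (center_le_centralizer _ hz)
  set L := centralizer ({g} : Set G) with hL
  have hLN : ∀ l ∈ L, l ∈ N → l ∈ center G := fun l hl hlN => hfix' g hg l hlN (by
    rw [commutatorElement_eq_one_iff_commute.2 (mem_centralizer_singleton_iff.1 hl)]; exact one_mem _)
  have hLsup : L ⊔ N = ⊤ := (h g hgZ).2 _ (lt_of_le_of_ne le_sup_left fun e =>
    hx₀Z (hLN x₀ (e.ge (mem_sup_right hx₀)) hx₀))
  have hKN : K = N := by
    refine le_antisymm (fun k hk => ?_) hNK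
    obtain ⟨l, hl, n, hn, rfl⟩ := mem_sup_of_normal_right.1 (hLsup.ge (mem_top k))
    have hlK : l ∈ K := by
      have := K.mul_mem hk (K.inv_mem (hNK hn))
      rwa [mul_inv_cancel_right] at this
    suffices l ∈ center G from mul_mem (hZN this) hn
    by_contra hlZ
    have hgl : Commute g l := (mem_centralizer_singleton_iff.1 hl).symm
    have hlnZ : l * x₀ ∉ center G := fun hz => hx₀Z (hfix' g hg x₀ hx₀ (by
      have h1 : Commute g (l * x₀) := mem_center_iff.1 hz g
      have h2 : Commute g x₀ := by simpa using hgl.inv_right.mul_right h1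
      rw [commutatorElement_eq_one_iff_commute.2 h2.symm]; exact one_mem _))
    set M := centralizer ({l * x₀} : Set G) with hM
    by_cases hMK : M ≤ K
    · have hKM : K ≤ M := ((h _ hlnZ).le_iff.1 hMK).resolve_left hKne |>.le
      refine hlZ (mem_center_iff.2 fun v => ?_)
      have hlt : K < centralizer ({l} : Set G) := by
        refine lt_of_le_of_ne (fun b hb => mem_centralizer_singleton_iff.2 ?_) fun e =>
          hg (e.ge (mem_centralizer_singleton_iff.2 hgl.eq))
        have h1 : Commute b (l * x₀) := mem_centralizer_singleton_iff.1 (hKM hb)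
        have h2 : Commute b x₀ := (mem_centralizer_iff.1 hb x₀ hx₀).symm
        have h3 : Commute b l := by simpa using h1.mul_right h2.inv_right
        exact h3.eq
      exact mem_centralizer_singleton_iff.1 ((hKmax.2 _ hlt).ge (mem_top v))
    · obtain ⟨v, hvM, hvK⟩ := SetLike.not_le_iff_exists.1 hMK
      obtain ⟨w, hw, a, ha, rfl⟩ := mem_sup_of_normal_right.1 (hLsup.ge (mem_top v))
      have hwK : w ∉ K := fun hwK => hvK (K.mul_mem hwK (hNK ha))
      have hal : Commute a (l * x₀) := Commute.mul_right (mem_centralizer_iff.1 hlK a ha) (hNab a ha x₀ hx₀)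
      have hwl : Commute w (l * x₀) := by
        simpa using (show Commute (w * a) (l * x₀) from mem_centralizer_singleton_iff.1 hvM).mul_left hal.inv_left
      have hgw : Commute g w := (mem_centralizer_singleton_iff.1 hw).symm
      have h1 : Commute w (l * (g * x₀ * g⁻¹)) := by
        have := hwl.map (MulAut.conj g).toMonoidHom
        simp only [MulEquiv.coe_toMonoidHom, MulAut.conj_apply] at this
        rwa [hgw.eq, mul_inv_cancel_right, show g * (l * x₀) * g⁻¹ = l * (g * x₀ * g⁻¹) by
          rw [← mul_assoc g l x₀, hgl.eq]; group] at this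
      have h2 : Commute w (x₀⁻¹ * (g * x₀ * g⁻¹)) := by
        have := hwl.inv_right.mul_right h1
        rwa [show (l * x₀)⁻¹ * (l * (g * x₀ * g⁻¹)) = x₀⁻¹ * (g * x₀ * g⁻¹) by group] at this
      have hn2 : x₀⁻¹ * (g * x₀ * g⁻¹) ∈ N := N.mul_mem (N.inv_mem hx₀) (hNnorm.conj_mem _ hx₀ g)
      by_cases hn2Z : x₀⁻¹ * (g * x₀ * g⁻¹) ∈ center G
      · refine hx₀Z (hfix' g hg x₀ hx₀ ?_)
        have h3 : ⁅x₀, g⁆ = x₀ * (x₀⁻¹ * (g * x₀ * g⁻¹))⁻¹ * x₀⁻¹ := by rw [commutatorElement_def]; group
        rw [h3]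
        exact (center G).normal_of_characteristic.conj_mem _ (inv_mem hn2Z) x₀
      · exact hwK ((hCx _ hn2 hn2Z).le (mem_centralizer_singleton_iff.2 h2.eq))
  -- conclusion in the quotient
  have hNbmax : IsCoatom Nb := by
    refine ⟨fun e => hKne (hKN.trans ?_), fun H hH => ?_⟩
    · rw [hN, e, comap_top]
    · have hlt : N < H.comap π := (comap_lt_comap_of_surjective (QuotientGroup.mk'_surjective _)).2 hH
      rw [← map_comap_eq_self_of_surjective (QuotientGroup.mk'_surjective _) H, hKmax.2 (H.comap π) (hKN.trans_lt hlt),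
        map_top_of_surjective _ (QuotientGroup.mk'_surjective _)]
  have hsimp : ∀ H : Subgroup (Q ⧸ Nb), H = ⊥ ∨ H = ⊤ := by
    intro H
    rcases hNbmax.le_iff.1 (show Nb ≤ H.comap (QuotientGroup.mk' Nb) from fun a ha => by
      rw [mem_comap, show QuotientGroup.mk' Nb a = 1 from (QuotientGroup.eq_one_iff a).2 ha]; exact one_mem H) with e | e
    · right; rw [← map_comap_eq_self_of_surjective (QuotientGroup.mk'_surjective _) H, e, map_top_of_surjective _ (QuotientGroup.mk'_surjective _)]
    · left; rw [← map_comap_eq_self_of_surjective (QuotientGroup.mk'_surjective _) H, e, QuotientGroup.map_mk'_self]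
  have hidx1 : Nb.index ≠ 1 := fun e => hNbmax.1 (index_eq_one.1 e)
  obtain ⟨r, hr, hrd⟩ := Nat.exists_prime_and_dvd hidx1
  have := Fact.mk hr
  have hidx : Nb.index = r := by
    obtain ⟨y, hy⟩ := exists_prime_orderOf_dvd_card' (G := Q ⧸ Nb) r (by rw [← index_eq_card]; exact hrd)
    rcases hsimp (zpowers y) with e | e
    · rw [zpowers_eq_bot] at e; rw [e, orderOf_one] at hy; exact absurd hy.symm hr.ne_one
    · rw [index_eq_card, ← card_top, ← e, Nat.card_zpowers, hy]
  obtain ⟨a, ha⟩ := IsPGroup.iff_card.1 hNp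
  have hpr : p ≠ r := by
    rintro rfl
    have hG : IsPGroup p Q := IsPGroup.of_card (n := a + 1) (by rw [← Nb.index_mul_card, hidx, ha, pow_succ, mul_comm])
    have : Group.IsNilpotent Q := hG.isNilpotent
    have hNbne : Nb ≠ ⊥ := fun e => hnc (e ▸ bot_le)
    obtain ⟨z, hzN, hzc, hz1⟩ : ∃ z, z ∈ Nb ∧ z ∈ center Q ∧ z ≠ 1 := by
      have hcard : p ∣ Nat.card Nb := by
        rw [ha]; exact dvd_pow_self p fun e => hNbne (card_eq_one.1 (by rw [ha, e, pow_zero]))
      let _ : MulAction Q Nb := MulAction.compHom Nb (MulAut.conjNormal (H := Nb))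
      have hone : (1 : Nb) ∈ MulAction.fixedPoints Q Nb := fun g => by
        show MulAut.conjNormal g (1 : Nb) = 1
        exact map_one _
      obtain ⟨z, hz, hz1⟩ := hG.exists_fixed_point_of_prime_dvd_card_of_fixed_point Nb hcard hone
      refine ⟨z, z.2, mem_center_iff.2 fun g => ?_, fun e => hz1 (Subtype.ext e.symm)⟩
      have : ((MulAut.conjNormal g z : Nb) : Q) = z := congrArg Subtype.val (hz g)
      rw [MulAut.conjNormal_apply] at this
      exact mul_inv_eq_iff_eq_mul.1 this
    rcases hmin _ (Subgroup.normal_inf_normal Nb (center Q)) inf_le_left with e | e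
    · exact hz1 ((mem_bot).1 (e ▸ (⟨hzN, hzc⟩ : z ∈ Nb ⊓ center Q)))
    · exact hnc (inf_eq_left.1 e)
  refine ⟨fun hc => hnc fun y _ => mem_center_iff.2 fun z => hc.is_comm.comm _ _, fun H hH => ?_,
    p, r, a, Fact.out, hr, hpr, by rw [← Nb.index_mul_card, hidx, ha, mul_comm], fun P hP => ?_⟩
  · by_cases hle : H ≤ Nb
    · exact ⟨⟨fun u v => Subtype.ext (congrArg (fun w : Nb => (w : Q)) (hNc.is_comm.comm (⟨u, hle u.2⟩ : Nb) ⟨v, hle v.2⟩))⟩⟩
    have hsup : H ⊔ Nb = ⊤ := hNbmax.2 _ (lt_of_le_of_ne le_sup_right fun e => hle (le_sup_left.trans e.ge))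
    have hn : (H ⊓ Nb).Normal := by
      refine normalizer_eq_top_iff.1 (top_le_iff.1 (hsup ▸ sup_le ?_ ?_))
      · exact (le_inf le_normalizer le_normalizer_of_normal).trans inf_normalizer_le_normalizer_inf
      · intro n hn
        refine CfsgLib.Coprime.mem_normalizer_of_conj_map_le fun c hc => ?_
        rw [show n * c * n⁻¹ = c from mul_inv_eq_iff_eq_mul.2 (congrArg Subtype.val (hNc.is_comm.comm (⟨n, hn⟩ : Nb) ⟨c, hc.2⟩))]
        exact hc
    rcases hmin _ hn inf_le_right with e | e
    · have hd : Nat.card H ∣ r := by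
        rw [← hidx, ← relIndex_bot_left H, ← e, inf_relIndex_left]
        exact relIndex_dvd_index_of_normal Nb H
      rcases (Nat.dvd_prime hr).1 hd with h1 | h1
      · have : Subsingleton H := (Nat.card_eq_one_iff_unique.1 h1).1
        exact ⟨⟨fun u v => Subsingleton.elim _ _⟩⟩
      · have : IsCyclic H := isCyclic_of_prime_card (p := r) h1
        exact ⟨⟨fun u v => this.commGroup.mul_comm u v⟩⟩
    · exact absurd (eq_top_iff.2 (hsup.ge.trans (sup_le le_rfl (inf_eq_right.1 e)))) hH
  · have hle : P ≤ Nb := by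
      intro x hx
      have h1 : orderOf (QuotientGroup.mk' Nb x) ∣ r := by rw [← hidx, index_eq_card]; exact orderOf_dvd_natCard _
      have h2 : orderOf (QuotientGroup.mk' Nb x) ∣ p ^ a :=
        (orderOf_map_dvd _ x).trans (hP ▸ P.orderOf_dvd_natCard hx)
      exact (QuotientGroup.eq_one_iff x).1 (orderOf_eq_one_iff.1 (Nat.eq_one_of_dvd_coprimes
        (((Nat.coprime_primes (Fact.out : p.Prime) hr).2 hpr).pow_left a) h2 h1))
    rw [eq_of_le_of_card_ge hle (by rw [hP, ha])]
    exact hNn

/-- Let G be a non-abelian finite group in which the centralizer of every non-central element is a maximal subgroup. Then G/Z(G) is either an elementary abelian p-group for some prime p, or a minimal non-abelian group (non-abelian with all proper subgroups abelian) of order p^a · q for distinct primes p, q with a normal Sylow p-subgroup. -/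
theorem result {G : Type*} [Group G] [Finite G] (hna : ¬ IsMulCommutative G)
    (h : ∀ x : G, x ∉ Subgroup.center G → IsCoatom (Subgroup.centralizer ({x} : Set G))) :
    (∃ p : ℕ, p.Prime ∧ Cfsg.IsElementaryAbelian p (⊤ : Subgroup (G ⧸ Subgroup.center G))) ∨
    (¬ IsMulCommutative (G ⧸ Subgroup.center G) ∧ (∀ H : Subgroup (G ⧸ Subgroup.center G), H ≠ ⊤ → IsMulCommutative ↥H) ∧
      ∃ p q a : ℕ, p.Prime ∧ q.Prime ∧ p ≠ q ∧ Nat.card (G ⧸ Subgroup.center G) = p ^ a * q ∧
        ∀ P : Subgroup (G ⧸ Subgroup.center G), Nat.card ↥P = p ^ a → P.Normal) := by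
  classical
  have : Group.IsSolvable G := CfsgLib.NT.MaxCent.isSolvable h
  by_cases hex : ∃ (p : ℕ) (_ : Fact p.Prime) (Nb : Subgroup (G ⧸ center G)), Nb.Normal ∧ IsPGroup p Nb ∧ IsMulCommutative Nb ∧
      (∀ K : Subgroup (G ⧸ center G), K.Normal → K ≤ Nb → K = ⊥ ∨ K = Nb) ∧ ¬ Nb ≤ center (G ⧸ center G)
  · obtain ⟨p, hp, Nb, hn, hNp, hNc, hmin, hnc⟩ := hex
    exact Or.inr (case_noncentral h Nb hn hNp hNc hmin hnc)
  left
  push Not at hex
  have htop : (⊤ : Subgroup (G ⧸ center G)) ≠ ⊥ := by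
    intro e
    refine hna ⟨⟨fun a b => ?_⟩⟩
    have : QuotientGroup.mk' (center G) b ∈ (⊥ : Subgroup (G ⧸ center G)) := e.le (mem_top _)
    exact mem_center_iff.1 ((QuotientGroup.eq_one_iff b).1 (mem_bot.1 this)) a
  obtain ⟨Nb, p, hp, hn, hne, -, hNc, hNp, hmin⟩ := CfsgLib.Solvable.Basic.exists_minimal_normal_pgroup htop
  have := Fact.mk hp
  have hcent := hex p this Nb hn hNp hNc hmin
  obtain ⟨y, hy, hy1⟩ := (bot_or_exists_ne_one Nb).resolve_left hne
  obtain ⟨x₁, rfl⟩ := QuotientGroup.mk'_surjective _ y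
  obtain ⟨i, j, hij, hi, hj⟩ := CfsgLib.NT.MaxCent.exists_split (p := p) x₁
  set x := x₁ ^ i with hx
  obtain ⟨k, hk⟩ := hNp ⟨_, hy⟩
  have hjZ : x₁ ^ j ∈ center G := by
    rw [← QuotientGroup.eq_one_iff]
    show QuotientGroup.mk' (center G) (x₁ ^ j) = 1
    rw [← orderOf_eq_one_iff]
    refine Nat.eq_one_of_dvd_coprimes (hj.symm.pow_left k) ?_ (orderOf_map_dvd (QuotientGroup.mk' (center G)) _)
    rw [map_zpow]
    exact (orderOf_dvd_of_mem_zpowers (zpow_mem_zpowers _ j)).trans (orderOf_dvd_of_pow_eq_one (congrArg Subtype.val hk))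
  have hxZ : x ∉ center G := fun hz => hy1 ((QuotientGroup.eq_one_iff x₁).2 (hij ▸ mul_mem hz hjZ))
  have hxc : ∀ g : G, ⁅x, g⁆ ∈ center G := fun g => by
    refine commute_mk_iff.1 ?_
    rw [hx, map_zpow]
    exact (show Commute (QuotientGroup.mk' (center G) x₁) (QuotientGroup.mk' (center G) g) from (mem_center_iff.1 (hcent hy) (QuotientGroup.mk' (center G) g)).symm).zpow_left i
  set K := centralizer ({x} : Set G) with hK
  have hKn : K.Normal := ⟨fun c hc g => mem_centralizer_singleton_iff.2 (by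
    have h1 : Commute c x := mem_centralizer_singleton_iff.1 hc
    have h2 : Commute c ⁅x, g⁻¹⁆ := mem_center_iff.1 (hxc g⁻¹) c
    have h3 : g⁻¹ * x * g = ⁅x, g⁻¹⁆⁻¹ * x := by rw [commutatorElement_def]; group
    have h4 : Commute c (g⁻¹ * x * g) := h3 ▸ h2.inv_right.mul_right h1
    calc g * c * g⁻¹ * x = g * (c * (g⁻¹ * x * g)) * g⁻¹ := by group
      _ = g * ((g⁻¹ * x * g) * c) * g⁻¹ := by rw [h4.eq]
      _ = x * (g * c * g⁻¹) := by group)⟩
  have hxp : x ^ p ∈ center G ∨ ∀ g : G, g ^ p ∈ K := by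
    refine Or.inr fun g => ?_
    -- the class of `x` has order a power of `p` and the quotient by `K` is of prime order
    have hcop : ∀ v : G, (orderOf v).Coprime p → v ∈ K := fun v hv => by
      obtain ⟨e, he⟩ := hi
      have h1 : ⁅x, v⁆ ^ p ^ e = 1 := by
        rw [← (comm_pow (hxc v) (p ^ e)).2, orderOf_dvd_iff_pow_eq_one.1 he]
        simp [commutatorElement_def]
      have h2 : ⁅x, v⁆ ^ orderOf v = 1 := by
        rw [← (comm_pow (hxc v) (orderOf v)).1, pow_orderOf_eq_one]
        simp [commutatorElement_def]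
      have h3 : orderOf ⁅x, v⁆ = 1 := Nat.eq_one_of_dvd_coprimes (hv.pow_right e)
        (orderOf_dvd_of_pow_eq_one h2) (orderOf_dvd_of_pow_eq_one h1)
      exact mem_centralizer_singleton_iff.2 (commutatorElement_eq_one_iff_commute.1 (orderOf_eq_one_iff.1 h3)).eq.symm
    have hsimp : ∀ H : Subgroup (G ⧸ K), H = ⊥ ∨ H = ⊤ := by
      intro H
      rcases (h x hxZ).le_iff.1 (show K ≤ H.comap (QuotientGroup.mk' K) from fun a ha => by
        rw [mem_comap, show QuotientGroup.mk' K a = 1 from (QuotientGroup.eq_one_iff a).2 ha]; exact one_mem H) with e | e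
      · right; rw [← map_comap_eq_self_of_surjective (QuotientGroup.mk'_surjective _) H, e, map_top_of_surjective _ (QuotientGroup.mk'_surjective _)]
      · left; rw [← map_comap_eq_self_of_surjective (QuotientGroup.mk'_surjective _) H, e, QuotientGroup.map_mk'_self]
    rcases hsimp (zpowers (QuotientGroup.mk' K (g ^ p))) with e | e
    · exact (QuotientGroup.eq_one_iff _).1 (zpowers_eq_bot.1 e)
    · exfalso
      -- then `p` is invertible modulo `K`
      have hgen : ∀ v : G, ∃ n : ℤ, QuotientGroup.mk' K (g ^ p) ^ n = QuotientGroup.mk' K v := fun v =>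
        mem_zpowers_iff.1 (e.ge (mem_top _))
      have hord : (orderOf (QuotientGroup.mk' K g)).Coprime p := by
        obtain ⟨n, hn⟩ := hgen g
        refine Nat.Coprime.symm ((Fact.out : p.Prime).coprime_iff_not_dvd.2 fun hd => ?_)
        have h1 : QuotientGroup.mk' K g ^ ((p : ℤ) * n - 1) = 1 := by
          rw [zpow_sub, zpow_mul, zpow_natCast, ← map_pow, hn, zpow_one, mul_inv_cancel]
        have h2 := (Int.natCast_dvd_natCast.2 hd).trans (orderOf_dvd_iff_zpow_eq_one.2 h1)
        have h3 : (p : ℤ) ∣ 1 := by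
          have := (dvd_mul_right (p : ℤ) n).sub h2
          simpa using this
        exact (Fact.out : p.Prime).not_dvd_one (by exact_mod_cast h3)
      obtain ⟨i', j', hij', ⟨e', hi'⟩, hj'⟩ := CfsgLib.NT.MaxCent.exists_split (p := p) g
      have hgi : QuotientGroup.mk' K (g ^ i') = 1 := by
        rw [← orderOf_eq_one_iff]
        refine Nat.eq_one_of_dvd_coprimes (hord.pow_right e') ?_ ((orderOf_map_dvd _ _).trans hi')
        rw [map_zpow]; exact orderOf_dvd_of_mem_zpowers (zpow_mem_zpowers _ _)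
      refine (h x hxZ).1 (eq_top_iff.2 fun v _ => ?_)
      have hgK : QuotientGroup.mk' K g = 1 := by
        rw [← hij', map_mul, hgi, one_mul]
        exact (QuotientGroup.eq_one_iff _).2 (hcop _ hj')
      obtain ⟨n, hn⟩ := hgen v
      rw [map_pow, hgK, one_pow, one_zpow] at hn
      exact (QuotientGroup.eq_one_iff v).1 hn.symm
  have hpK : ∀ g : G, g ^ p ∈ K := hxp.elim (fun hz g => by
    refine mem_centralizer_singleton_iff.2 (commutatorElement_eq_one_iff_commute.1 ?_).eq.symm
    rw [(comm_pow (hxc g) p).1, ← (comm_pow (hxc g) p).2]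
    exact commutatorElement_eq_one_iff_commute.2 (mem_center_iff.1 hz g).symm) id
  have hcopK : ∀ v : G, (orderOf v).Coprime p → v ∈ K := fun v hv => by
    obtain ⟨m, hm⟩ := exists_pow_eq_self_of_coprime hv.symm
    exact hm ▸ K.pow_mem (hpK v) m
  -- elements of order prime to `p` are central
  have hYc : ∀ y : G, (orderOf y).Coprime p → y ∉ center G → centralizer ({y} : Set G) = K := fun y hy hyZ =>
    CfsgLib.NT.MaxCent.centralizer_eq_of_coprime h
      (mem_centralizer_singleton_iff.1 (hcopK y hy)).symm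
      (Nat.Coprime.coprime_dvd_left hi.choose_spec (Nat.Coprime.pow_left _ hy.symm)) hxZ hyZ
  let W : Subgroup G :=
    { carrier := {w | w ∈ K ∧ (∀ c ∈ K, Commute c w) ∧ (orderOf w).Coprime p}
      one_mem' := ⟨one_mem _, fun c _ => Commute.one_right c, by simp⟩
      mul_mem' := fun {a b} ha hb => ⟨mul_mem ha.1 hb.1, fun c hc => (ha.2.1 c hc).mul_right (hb.2.1 c hc),
        Nat.Coprime.coprime_dvd_left ((hb.2.1 a ha.1).orderOf_mul_dvd_lcm.trans (Nat.lcm_dvd_mul _ _))
          (Nat.Coprime.mul_left ha.2.2 hb.2.2)⟩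
      inv_mem' := fun {a} ha => ⟨inv_mem ha.1, fun c hc => (ha.2.1 c hc).inv_right, by rw [orderOf_inv]; exact ha.2.2⟩ }
  have hWn : W.Normal := ⟨fun w hw g => ⟨hKn.conj_mem _ hw.1 g, fun c hc => by
      have h1 := (hw.2.1 (g⁻¹ * c * g) (by simpa using hKn.conj_mem c hc g⁻¹)).map (MulAut.conj g).toMonoidHom
      simpa [mul_assoc] using h1,
    by
      rw [show g * w * g⁻¹ = (MulAut.conj g) w from rfl, MulEquiv.orderOf_eq]
      exact hw.2.2⟩⟩
  have hWall : ∀ y : G, (orderOf y).Coprime p → y ∈ W := fun y hy => ⟨hcopK y hy, fun c hc => by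
    by_cases hyZ : y ∈ center G
    · exact mem_center_iff.1 hyZ c
    · exact mem_centralizer_singleton_iff.1 ((hYc y hy hyZ).ge hc), hy⟩
  have hWZ : W ≤ center G := by
    by_contra hWZ
    have hWne : W.map (QuotientGroup.mk' (center G)) ≠ ⊥ := fun e => hWZ fun w hw =>
      (QuotientGroup.eq_one_iff w).1 (mem_bot.1 (e ▸ mem_map_of_mem (QuotientGroup.mk' (center G)) hw))
    have : (W.map (QuotientGroup.mk' (center G))).Normal := hWn.map _ (QuotientGroup.mk'_surjective _)
    obtain ⟨Mb, r, hr, hMn, hMne, hMle, hMc, hMp, hMmin⟩ :=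
      CfsgLib.Solvable.Basic.exists_minimal_normal_pgroup hWne
    have := Fact.mk hr
    obtain ⟨z, hz, hz1⟩ := (bot_or_exists_ne_one Mb).resolve_left hMne
    obtain ⟨w, hw, rfl⟩ := hMle hz
    have hzc := hex r this Mb hMn hMp hMc hMmin hz
    refine hz1 ((QuotientGroup.eq_one_iff w).2 (mem_center_iff.2 fun g => ?_))
    have hwg : ⁅w, g⁆ ∈ center G := commute_mk_iff.1 (show Commute (QuotientGroup.mk' (center G) w) (QuotientGroup.mk' (center G) g) from (mem_center_iff.1 hzc (QuotientGroup.mk' (center G) g)).symm)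
    have h1 : ⁅w, g⁆ ^ p = 1 := by
      rw [← (comm_pow hwg p).1, commutatorElement_eq_one_iff_commute]
      exact (hw.2.1 _ (hpK g)).symm
    have h2 : ⁅w, g⁆ ^ orderOf w = 1 := by
      rw [← (comm_pow hwg (orderOf w)).2, pow_orderOf_eq_one]; simp [commutatorElement_def]
    have h3 : orderOf ⁅w, g⁆ = 1 := Nat.eq_one_of_dvd_coprimes hw.2.2
      (orderOf_dvd_of_pow_eq_one h2) (orderOf_dvd_of_pow_eq_one h1)
    exact (commutatorElement_eq_one_iff_commute.1 (orderOf_eq_one_iff.1 h3)).eq.symm
  refine ⟨p, hp, elementary_of_isPGroup h fun y => ?_⟩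
  obtain ⟨g, rfl⟩ := QuotientGroup.mk_surjective y
  obtain ⟨i', j', hij', ⟨e', hi'⟩, hj'⟩ := CfsgLib.NT.MaxCent.exists_split (p := p) g
  refine ⟨e', ?_⟩
  rw [← QuotientGroup.mk_pow, QuotientGroup.eq_one_iff, ← hij',
    ((Commute.refl g).zpow_zpow i' j').mul_pow, orderOf_dvd_iff_pow_eq_one.1 hi', one_mul]
  exact pow_mem (hWZ (hWall _ hj')) _

end Cfsg.Agent.S3904
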