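import Cfsg.Statements.S3905
import Cfsg.Agent.Lib.Coprime.NormalMaxCentralizers
import Cfsg.Agent.Lib.FrobRealize.Kernel

set_option autoImplicit false
open Cfsg

namespace Cfsg.Agent.S3905

open Subgroup
open scoped Pointwise commutatorElement

variable {G : Type*} [Group G] [Finite G] {N : Subgroup G} [N.Normal]

open CfsgLib.Coprime.NormalMaxCent

/-- If `N' ≤ Z(N)` then `N / Z(N)` is elementary abelian. -/
lemma elementary_of_class_two (h : MaxCent N) (hcl : commutator N ≤ center N) :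
    ∃ p : ℕ, p.Prime ∧ Cfsg.IsElementaryAbelian p (⊤ : Subgroup (↥N ⧸ center ↥N)) := by
  classical
  have hcen : ∀ a b : N, ⁅a, b⁆ ∈ center N := fun a b =>
    hcl (by rw [_root_.commutator_def]; exact commutator_mem_commutator (mem_top a) (mem_top b))
  have hab : IsMulCommutative (⊤ : Subgroup (↥N ⧸ center ↥N)) := ⟨⟨fun a b => Subtype.ext (by
    obtain ⟨a', ha⟩ := QuotientGroup.mk'_surjective _ (a : ↥N ⧸ center ↥N)
    obtain ⟨b', hb⟩ := QuotientGroup.mk'_surjective _ (b : ↥N ⧸ center ↥N)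
    show (a : ↥N ⧸ center ↥N) * b = b * a
    rw [← ha, ← hb]
    refine Commute.eq (commutatorElement_eq_one_iff_commute.1 ?_)
    rw [← map_commutatorElement]
    exact (QuotientGroup.eq_one_iff _).2 (hcen a' b'))⟩⟩
  -- every non-central element has prime order modulo the centre
  have hprime : ∀ x : N, x ∉ center N → (orderOf (QuotientGroup.mk' (center N) x)).Prime := by
    intro x hx
    set C := centralizer ({x} : Set N) with hC
    have hCn : C.Normal := ⟨fun c hc n => by
      rw [show n * c * n⁻¹ = ⁅n, c⁆ * c by rw [commutatorElement_def]; group]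
      exact C.mul_mem (center_le_centralizer _ (hcen n c)) hc⟩
    have hCne : C ≠ ⊤ := fun e => hx (mem_center_iff.2 fun n => mem_centralizer_singleton_iff.1 (e.ge (mem_top n)))
    have hmax : ∀ R : Subgroup N, C ≤ R → R = C ∨ R = ⊤ := by
      intro R hR
      have hRn : R.Normal := ⟨fun c hc n => by
        rw [show n * c * n⁻¹ = ⁅n, c⁆ * c by rw [commutatorElement_def]; group]
        exact R.mul_mem (hR (center_le_centralizer _ (hcen n c))) hc⟩
      have hRc : ¬ R ≤ center N := fun e => hx (e (hR (mem_centralizer_singleton_iff.2 rfl)))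
      have := normal_map h R hRn hRc
      rcases (h x hx).le_iff.1 (le_sup_left : _ ≤ centralizer ({(x : G)} : Set G) ⊔ R.map N.subtype) with e | e
      · right
        refine top_le_iff.1 fun n _ => ?_
        obtain ⟨c, hc, r, ⟨r', hr', rfl⟩, hcr⟩ := mem_sup_of_normal_right.1 (e.ge (mem_top (n : G)))
        have hcN : c ∈ N := by
          rw [show c = (n : G) * (r' : G)⁻¹ from eq_mul_inv_of_mul_eq hcr]
          exact N.mul_mem n.2 (N.inv_mem r'.2)
        rw [show n = ⟨c, hcN⟩ * r' from Subtype.ext hcr.symm]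
        exact R.mul_mem (hR (mem_centralizer_singleton_iff.2 (Subtype.ext (mem_centralizer_singleton_iff.1 hc)))) hr'
      · left
        refine le_antisymm (fun r hr => ?_) hR
        exact mem_centralizer_singleton_iff.2 (Subtype.ext
          (mem_centralizer_singleton_iff.1 ((le_sup_right.trans e.le) (mem_map_of_mem _ hr))))
    have hidx : C.index ≠ 1 := fun e => hCne (index_eq_one.1 e)
    obtain ⟨r, hr, hrd⟩ := Nat.exists_prime_and_dvd hidx
    have := Fact.mk hr
    obtain ⟨y, hy⟩ := exists_prime_orderOf_dvd_card' (G := N ⧸ C) r (by rwa [← index_eq_card])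
    have hQ : zpowers y = ⊤ := by
      rcases hmax ((zpowers y).comap (QuotientGroup.mk' C)) (fun c hc => by
        rw [mem_comap, show QuotientGroup.mk' C c = 1 from (QuotientGroup.eq_one_iff c).2 hc]; exact one_mem _) with e | e
      · have := congrArg (Subgroup.map (QuotientGroup.mk' C)) e
        rw [map_comap_eq_self_of_surjective (QuotientGroup.mk'_surjective _), QuotientGroup.map_mk'_self, zpowers_eq_bot] at this
        rw [this, orderOf_one] at hy
        exact absurd hy.symm hr.ne_one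
      · rw [← map_comap_eq_self_of_surjective (QuotientGroup.mk'_surjective _) (zpowers y), e,
          map_top_of_surjective _ (QuotientGroup.mk'_surjective _)]
    have hir : C.index = r := by rw [index_eq_card, ← card_top, ← hQ, Nat.card_zpowers, hy]
    have hxr : x ^ r ∈ center N := mem_center_iff.2 fun n => by
      have hz : ⁅x, n⁆ ∈ center N := hcen x n
      have hpow : ∀ k : ℕ, ⁅x, n ^ k⁆ = ⁅x, n⁆ ^ k ∧ ⁅x ^ k, n⁆ = ⁅x, n⁆ ^ k := by
        have hzc : ∀ a : N, a * ⁅x, n⁆ = ⁅x, n⁆ * a := fun a => mem_center_iff.1 hz a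
        intro k
        induction k with
        | zero => simp [commutatorElement_def]
        | succ k ih =>
          constructor
          · calc ⁅x, n ^ (k + 1)⁆ = ⁅x, n⁆ * (n * ⁅x, n ^ k⁆ * n⁻¹) := by
                  rw [pow_succ', commutatorElement_def, commutatorElement_def, commutatorElement_def]; group
              _ = ⁅x, n⁆ ^ (k + 1) := by
                rw [ih.1, show n * ⁅x, n⁆ ^ k * n⁻¹ = ⁅x, n⁆ ^ k from
                  mul_inv_eq_iff_eq_mul.2 (Commute.pow_right (hzc n) k), pow_succ']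
          · calc ⁅x ^ (k + 1), n⁆ = x * ⁅x ^ k, n⁆ * x⁻¹ * ⁅x, n⁆ := by
                  rw [pow_succ', commutatorElement_def, commutatorElement_def, commutatorElement_def]; group
              _ = ⁅x, n⁆ ^ (k + 1) := by
                rw [ih.2, show x * ⁅x, n⁆ ^ k * x⁻¹ = ⁅x, n⁆ ^ k from
                  mul_inv_eq_iff_eq_mul.2 (Commute.pow_right (hzc x) k), pow_succ]
      have h1 : ⁅x, n ^ r⁆ = 1 := commutatorElement_eq_one_iff_commute.2
        (mem_centralizer_singleton_iff.1 (hir ▸ pow_index_mem C n : n ^ r ∈ C)).symm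
      rw [(hpow r).1, ← (hpow r).2, commutatorElement_eq_one_iff_commute] at h1
      exact h1.eq.symm
    have h1 : (QuotientGroup.mk' (center N) x) ^ r = 1 := by
      rw [← map_pow]; exact (QuotientGroup.eq_one_iff _).2 hxr
    rw [orderOf_eq_prime h1 fun e => hx ((QuotientGroup.eq_one_iff x).1 e)]
    exact hr
  by_cases hall : ∀ x : N, x ∈ center N
  · refine ⟨2, Nat.prime_two, hab, fun y _ => ?_⟩
    obtain ⟨x, rfl⟩ := QuotientGroup.mk'_surjective _ y
    rw [show QuotientGroup.mk' (center N) x = 1 from (QuotientGroup.eq_one_iff x).2 (hall x), one_pow]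
  push Not at hall
  obtain ⟨x₀, hx₀⟩ := hall
  refine ⟨_, hprime x₀ hx₀, hab, fun y _ => ?_⟩
  obtain ⟨x, rfl⟩ := QuotientGroup.mk'_surjective _ y
  by_cases hx : x ∈ center N
  · rw [show QuotientGroup.mk' (center N) x = 1 from (QuotientGroup.eq_one_iff x).2 hx, one_pow]
  set a := QuotientGroup.mk' (center N) x₀
  set b := QuotientGroup.mk' (center N) x
  suffices orderOf a = orderOf b by rw [this, pow_orderOf_eq_one]
  by_contra hne
  have hc : Commute a b := congrArg Subtype.val (hab.is_comm.comm (⟨a, mem_top a⟩ : (⊤ : Subgroup (↥N ⧸ center ↥N))) ⟨b, mem_top b⟩)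
  have hmul : orderOf (a * b) = orderOf a * orderOf b :=
    hc.orderOf_mul_eq_mul_orderOf_of_coprime ((Nat.coprime_primes (hprime x₀ hx₀) (hprime x hx)).2 hne)
  have hp : (orderOf (a * b)).Prime := by
    rw [show a * b = QuotientGroup.mk' (center N) (x₀ * x) from (map_mul _ _ _).symm]
    refine hprime _ fun hz => ?_
    have h1 : a * b = 1 := (map_mul _ _ _).symm.trans ((QuotientGroup.eq_one_iff _).2 hz)
    rw [h1, orderOf_one] at hmul
    exact (hprime x₀ hx₀).ne_one (Nat.eq_one_of_mul_eq_one_right hmul.symm)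
  rw [hmul] at hp
  exact Nat.not_prime_mul (hprime x₀ hx₀).ne_one (hprime x hx).ne_one hp

/-- If `N'` is not central then `N / Z(N)` is a Frobenius group. -/
lemma frobenius_case (h : MaxCent N) (hnc : ¬ commutator N ≤ center N) :
    ∃ (Q K : Subgroup (↥N ⧸ center ↥N)) (p : ℕ), p.Prime ∧ Cfsg.IsFrobeniusComplement Q ∧ (Nat.card ↥Q).Prime ∧
      K.Normal ∧ (K : Set (↥N ⧸ center ↥N)) = Cfsg.frobeniusKernel Q ∧ Cfsg.IsElementaryAbelian p K := by
  classical
  set π := QuotientGroup.mk' (center N) with hπ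
  have hπs : Function.Surjective π := QuotientGroup.mk'_surjective _
  have hker : ∀ x : N, π x = 1 ↔ x ∈ center N := fun x => QuotientGroup.eq_one_iff x
  -- the derived subgroup of `N'` is central
  set D := commutator N with hD
  have hDD : ⁅D, D⁆ ≤ center N := by
    by_contra hcon
    have hle : D ≤ ⁅D, D⁆ := commutator_le h (Subgroup.commutator_normal D D) hcon
    set D' := D.map N.subtype with hD'
    have := normal_map h D (inferInstance : (_root_.commutator N).Normal) hnc
    have hD'N : D' ≤ N := map_subtype_le _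
    have hMC : MaxCent D' := by
      intro x hx
      refine h ⟨x, hD'N x.2⟩ fun hz => hx (mem_center_iff.2 fun d => Subtype.ext ?_)
      exact congrArg (fun t : N => (t : G)) (mem_center_iff.1 hz ⟨d, hD'N d.2⟩)
    have hperf : commutator D' = ⊤ := by
      apply map_injective D'.subtype_injective
      rw [_root_.commutator_def, map_commutator, ← MonoidHom.range_eq_map, range_subtype, hD', ← map_commutator,
        le_antisymm (Subgroup.commutator_le_left D D) hle]
    have htop := center_eq_top_of_perfect hMC hperf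
    refine hcon (Subgroup.commutator_le.2 fun a ha b hb => ?_)
    have hc : (⟨a, mem_map_of_mem _ ha⟩ : D') * ⟨b, mem_map_of_mem _ hb⟩ = ⟨b, mem_map_of_mem _ hb⟩ * ⟨a, mem_map_of_mem _ ha⟩ :=
      mem_center_iff.1 (htop.ge (mem_top _)) _
    rw [commutatorElement_eq_one_iff_commute.2 (Subtype.ext (congrArg (fun t : D' => (t : G)) hc) : Commute a b)]
    exact one_mem _
  set K : Subgroup (↥N ⧸ center ↥N) := D.map π with hK
  have hKn : K.Normal := (inferInstance : (_root_.commutator N).Normal).map _ hπs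
  have hKne : K ≠ ⊥ := fun e => hnc fun d hd => (hker d).1 (mem_bot.1 (e ▸ mem_map_of_mem π hd))
  have hKab : ∀ a ∈ K, ∀ b ∈ K, Commute a b := by
    rintro _ ⟨a, ha, rfl⟩ _ ⟨b, hb, rfl⟩
    rw [← commutatorElement_eq_one_iff_commute, ← map_commutatorElement, hker]
    exact hDD (commutator_mem_commutator ha hb)
  have hKmin : ∀ R : Subgroup (↥N ⧸ center ↥N), R.Normal → R ≠ ⊥ → K ≤ R := by
    intro R hR hRne
    refine map_le_iff_le_comap.2 (commutator_le h (hR.comap π) fun hle => hRne (eq_bot_iff.2 fun r hr => ?_))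
    obtain ⟨x, rfl⟩ := hπs r
    exact mem_bot.2 ((hker x).2 (hle hr))
  -- an element not centralising `D` is central modulo its centraliser and `D`
  have hD'n := normal_map h D (inferInstance : (_root_.commutator N).Normal) hnc
  have hdec : ∀ y : N, (∃ d ∈ D, ¬ Commute d y) → ∀ g : N, ∃ d ∈ D, ∃ c : N, Commute c y ∧ g = d * c := by
    rintro y ⟨d, hd, hdy⟩ g
    have hy : y ∉ center N := fun hz => hdy (mem_center_iff.1 hz d)
    obtain ⟨a, ⟨a', ha', rfl⟩, c, hc, e⟩ := exists_dec h hD'n hy (l := (d : G)) (mem_map_of_mem _ hd)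
      (fun hc => hdy (Subtype.ext hc.eq)) (g : G)
    have hcN : c ∈ N := by
      rw [show c = (a' : G)⁻¹ * g from eq_inv_mul_of_mul_eq e.symm]
      exact N.mul_mem (N.inv_mem a'.2) g.2
    exact ⟨a', ha', ⟨c, hcN⟩, Subtype.ext hc.eq, Subtype.ext e⟩
  obtain ⟨d₀, hd₀, hd₀Z⟩ := SetLike.not_le_iff_exists.1 hnc
  obtain ⟨y₁, hy₁⟩ : ∃ y : N, ¬ Commute d₀ y := by
    by_contra hcon
    push Not at hcon
    exact hd₀Z (mem_center_iff.2 fun n => (hcon n).eq.symm)
  -- the centre of the quotient is trivial, so `K` is its own centraliser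
  have hKcent : ¬ K ≤ center (↥N ⧸ center ↥N) := by
    intro hle
    have hgen : ∀ y : N, (∃ d ∈ D, ¬ Commute d y) → π y ∈ center (↥N ⧸ center ↥N) := by
      intro y hy
      refine mem_center_iff.2 fun g => ?_
      obtain ⟨g', rfl⟩ := hπs g
      obtain ⟨d, hd, c, hc, rfl⟩ := hdec y hy g'
      have h1 : Commute (π d) (π y) := (mem_center_iff.1 (hle (mem_map_of_mem π hd)) (π y)).symm
      rw [map_mul]
      exact (h1.mul_left (hc.map π)).eq
    have hall : ∀ y : N, π y ∈ center (↥N ⧸ center ↥N) := fun y => by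
      by_cases hy : ∃ d ∈ D, ¬ Commute d y
      · exact hgen y hy
      · push Not at hy
        have h1 := hgen (y * y₁) ⟨d₀, hd₀, fun e => hy₁ (by
          have := (hy d₀ hd₀).inv_right.mul_right e
          rwa [inv_mul_cancel_left] at this)⟩
        have := mul_mem h1 (inv_mem (hgen y₁ ⟨d₀, hd₀, hy₁⟩))
        rwa [map_mul, mul_inv_cancel_right] at this
    refine hnc ?_
    rw [hD, _root_.commutator_def, Subgroup.commutator_le]
    intro a _ b _
    rw [← hker, map_commutatorElement, commutatorElement_eq_one_iff_commute]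
    exact mem_center_iff.1 (hall b) _
  have hcen : center (↥N ⧸ center ↥N) = ⊥ := by_contra fun e => hKcent (hKmin _ inferInstance e)
  -- elements outside the centraliser of `K`
  have hsplit : ∀ y : ↥N ⧸ center ↥N, y ∉ centralizer (K : Set (↥N ⧸ center ↥N)) →
      (∀ g, ∃ k ∈ K, ∃ c, Commute c y ∧ g = k * c) ∧ ∀ k ∈ K, Commute k y → k = 1 := by
    intro y hy
    obtain ⟨y, rfl⟩ := hπs y
    have hdy : ∃ d ∈ D, ¬ Commute d y := by
      by_contra hcon
      push Not at hcon
      refine hy (mem_centralizer_iff.2 ?_)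
      rintro _ ⟨d, hd, rfl⟩
      exact ((hcon d hd).map π).eq
    have h1 : ∀ g, ∃ k ∈ K, ∃ c, Commute c (π y) ∧ g = k * c := by
      intro g
      obtain ⟨g, rfl⟩ := hπs g
      obtain ⟨d, hd, c, hc, rfl⟩ := hdec y hdy g
      exact ⟨π d, mem_map_of_mem π hd, π c, hc.map π, map_mul _ _ _⟩
    refine ⟨h1, ?_⟩
    let R : Subgroup (↥N ⧸ center ↥N) := K ⊓ centralizer ({π y} : Set (↥N ⧸ center ↥N))
    have hRn : R.Normal := by
      refine ⟨fun r hr g => ?_⟩
      obtain ⟨k, hk, c, hc, rfl⟩ := h1 g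
      have hcr : c * r * c⁻¹ ∈ R := ⟨hKn.conj_mem _ hr.1 c, mem_centralizer_singleton_iff.2
        ((hc.mul_left (mem_centralizer_singleton_iff.1 hr.2 : Commute r (π y))).mul_left hc.inv_left).eq⟩
      rw [show k * c * r * (k * c)⁻¹ = k * (c * r * c⁻¹) * k⁻¹ by group,
        (hKab k hk _ hcr.1).eq, mul_inv_cancel_right]
      exact hcr
    have hRbot : R = ⊥ := by_contra fun e => hy (mem_centralizer_iff.2 fun k hk =>
      mem_centralizer_singleton_iff.1 ((hKmin R hRn e hk).2))
    exact fun k hk hky => mem_bot.1 (hRbot.le ⟨hk, mem_centralizer_singleton_iff.2 hky.eq⟩)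
  obtain ⟨y₀, hy₀⟩ : ∃ y, y ∉ centralizer (K : Set (↥N ⧸ center ↥N)) := by
    by_contra hcon
    push Not at hcon
    exact hKcent fun k hk => mem_center_iff.2 fun g => (mem_centralizer_iff.1 (hcon g) k hk).symm
  set H := centralizer ({y₀} : Set (↥N ⧸ center ↥N)) with hH
  have hKH : ∀ k ∈ K, k ∈ H → k = 1 := fun k hk hkH => (hsplit y₀ hy₀).2 k hk (mem_centralizer_singleton_iff.1 hkH)
  have hcomm : ∀ a b : ↥N ⧸ center ↥N, ⁅a, b⁆ ∈ K := by
    intro a b
    obtain ⟨a, rfl⟩ := hπs a
    obtain ⟨b, rfl⟩ := hπs b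
    rw [← map_commutatorElement]
    exact mem_map_of_mem π (by rw [hD, _root_.commutator_def]; exact commutator_mem_commutator (mem_top a) (mem_top b))
  have hHab : ∀ a ∈ H, ∀ b ∈ H, Commute a b := fun a ha b hb => commutatorElement_eq_one_iff_commute.1
    (hKH _ (hcomm a b) (by rw [commutatorElement_def]; exact H.mul_mem (H.mul_mem (H.mul_mem ha hb) (H.inv_mem ha)) (H.inv_mem hb)))
  have hCK : ∀ x, x ∈ centralizer (K : Set (↥N ⧸ center ↥N)) → x ∈ K := by
    intro x hx
    obtain ⟨k, hk, c, hc, rfl⟩ := (hsplit y₀ hy₀).1 x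
    have hcK : ∀ k' ∈ K, Commute k' c := fun k' hk' => by
      have := (hKab k' hk' k hk).inv_right.mul_right (mem_centralizer_iff.1 hx k' hk' : Commute k' (k * c))
      rwa [inv_mul_cancel_left] at this
    have : c ∈ center (↥N ⧸ center ↥N) := mem_center_iff.2 fun g => by
      obtain ⟨k', hk', c', hc', rfl⟩ := (hsplit y₀ hy₀).1 g
      exact ((hcK k' hk').mul_left (hHab c' (mem_centralizer_singleton_iff.2 hc'.eq) c (mem_centralizer_singleton_iff.2 hc.eq))).eq
    rw [hcen, mem_bot] at this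
    rw [this, mul_one]
    exact hk
  have hout : ∀ y, y ∉ K → ∀ k ∈ K, Commute k y → k = 1 := fun y hy => (hsplit y (fun e => hy (hCK y e))).2
  have hKtop : K ≠ ⊤ := fun e => hKcent fun k hk => mem_center_iff.2 fun g => (hKab k hk g (e.ge (mem_top g))).eq.symm
  -- `D` is abelian
  have hDab : ∀ d ∈ D, ∀ e ∈ D, Commute d e := by
    intro d hd e he
    by_contra hde
    obtain ⟨a, ha, c, hc, rfl⟩ : ∃ a ∈ K, ∃ c, Commute c (π d) ∧ y₀ = a * c := by
      obtain ⟨g, rfl⟩ := hπs y₀
      obtain ⟨d', hd', c, hc, rfl⟩ := hdec d ⟨e, he, fun h => hde h.symm⟩ g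
      exact ⟨π d', mem_map_of_mem π hd', π c, hc.map π, map_mul _ _ _⟩
    have hcK : c ∉ K := fun hc' => hy₀ (mem_centralizer_iff.2 fun k hk => hKab k hk _ (K.mul_mem ha hc'))
    have := hout c hcK (π d) (mem_map_of_mem π hd) hc.symm
    exact hde (mem_center_iff.1 ((hker d).1 this) e).symm
  -- `K` has prime index
  have hdd₀ : π d₀ ≠ 1 := fun e => hd₀Z ((hker d₀).1 e)
  have hmax : ∀ R : Subgroup (↥N ⧸ center ↥N), K ≤ R → R = K ∨ R = ⊤ := by
    intro R hR
    have hRn : R.Normal := ⟨fun r hr g => by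
      rw [show g * r * g⁻¹ = ⁅g, r⁆ * r by rw [commutatorElement_def]; group]
      exact R.mul_mem (hR (hcomm g r)) hr⟩
    have hRc : ¬ R.comap π ≤ center N := fun e => hd₀Z (e (show π d₀ ∈ R from hR (mem_map_of_mem π hd₀)))
    have := normal_map h (R.comap π) (hRn.comap π) hRc
    set M := centralizer ({(d₀ : G)} : Set G) with hM
    have hMN : ∀ n : N, (n : G) ∈ M → π n ∈ K := fun n hn => by_contra fun hK' => hdd₀
      (hout _ hK' _ (mem_map_of_mem π hd₀) (Commute.map (Subtype.ext (mem_centralizer_singleton_iff.1 hn)).symm π))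
    rcases (h d₀ hd₀Z).le_iff.1 (le_sup_left : M ≤ M ⊔ (R.comap π).map N.subtype) with e | e
    · right
      refine top_le_iff.1 fun g _ => ?_
      obtain ⟨n, rfl⟩ := hπs g
      obtain ⟨c, hc, r, ⟨r', hr', rfl⟩, hcr⟩ := mem_sup_of_normal_right.1 (e.ge (mem_top (n : G)))
      have hcN : c ∈ N := by
        rw [show c = (n : G) * (r' : G)⁻¹ from eq_mul_inv_of_mul_eq hcr]
        exact N.mul_mem n.2 (N.inv_mem r'.2)
      rw [show n = ⟨c, hcN⟩ * r' from Subtype.ext hcr.symm, map_mul]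
      exact R.mul_mem (hR (hMN ⟨c, hcN⟩ hc)) hr'
    · left
      refine le_antisymm (fun r hr => ?_) hR
      obtain ⟨n, rfl⟩ := hπs r
      exact hMN n ((le_sup_right.trans e.le) (mem_map_of_mem N.subtype hr))
  have hidx : K.index ≠ 1 := fun e => hKtop (index_eq_one.1 e)
  obtain ⟨r, hr, hrd⟩ := Nat.exists_prime_and_dvd hidx
  have := Fact.mk hr
  obtain ⟨z, hz⟩ := exists_prime_orderOf_dvd_card' (G := (↥N ⧸ center ↥N) ⧸ K) r (by rwa [← index_eq_card])
  have hir : K.index = r := by
    rcases hmax ((zpowers z).comap (QuotientGroup.mk' K)) (fun c hc => by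
      rw [mem_comap, show QuotientGroup.mk' K c = 1 from (QuotientGroup.eq_one_iff c).2 hc]; exact one_mem _) with e | e
    · have := congrArg (Subgroup.map (QuotientGroup.mk' K)) e
      rw [map_comap_eq_self_of_surjective (QuotientGroup.mk'_surjective _), QuotientGroup.map_mk'_self, zpowers_eq_bot] at this
      rw [this, orderOf_one] at hz
      exact absurd hz.symm hr.ne_one
    · have h2 : zpowers z = ⊤ := by
        rw [← map_comap_eq_self_of_surjective (QuotientGroup.mk'_surjective _) (zpowers z), e,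
          map_top_of_surjective _ (QuotientGroup.mk'_surjective _)]
      rw [index_eq_card, ← card_top, ← h2, Nat.card_zpowers, hz]
  have hcardH : Nat.card H = r := by
    rw [← hir, index_eq_card]
    refine Nat.card_eq_of_bijective (fun c : H => QuotientGroup.mk' K (c : ↥N ⧸ center ↥N)) ⟨fun a b e => ?_, fun q => ?_⟩
    · have h1 : (a : ↥N ⧸ center ↥N)⁻¹ * b = 1 := hKH _ (QuotientGroup.eq.1 e) (H.mul_mem (H.inv_mem a.2) b.2)
      exact Subtype.ext (inv_mul_eq_one.1 h1)
    · obtain ⟨g, rfl⟩ := QuotientGroup.mk'_surjective _ q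
      obtain ⟨k, hk, c, hc, rfl⟩ := (hsplit y₀ hy₀).1 g
      refine ⟨⟨c, mem_centralizer_singleton_iff.2 hc.eq⟩, ?_⟩
      show QuotientGroup.mk' K c = QuotientGroup.mk' K (k * c)
      rw [map_mul, show QuotientGroup.mk' K k = 1 from (QuotientGroup.eq_one_iff k).2 hk, one_mul]
  have hconj : ∀ g, ∀ x ∈ H, x ≠ 1 → g⁻¹ * x * g ∈ H → g ∈ H := by
    intro g x hx hx1 hgx
    obtain ⟨k, hk, c, hc, rfl⟩ := (hsplit y₀ hy₀).1 g
    have hcH : c ∈ H := mem_centralizer_singleton_iff.2 hc.eq
    have h1 : k⁻¹ * x * k ∈ H := by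
      have := H.mul_mem (H.mul_mem hcH hgx) (H.inv_mem hcH)
      rwa [show c * ((k * c)⁻¹ * x * (k * c)) * c⁻¹ = k⁻¹ * x * k by group] at this
    have hk1 : k⁻¹ * x * k * x⁻¹ = 1 := hKH _ (by
      rw [mul_assoc (k⁻¹ * x), mul_assoc k⁻¹]
      exact K.mul_mem (K.inv_mem hk) (by simpa [mul_assoc] using hKn.conj_mem k hk x)) (H.mul_mem h1 (H.inv_mem hx))
    have hkx : Commute k x := by
      have := mul_inv_eq_one.1 hk1
      exact (show x * k = k * x by rw [mul_assoc] at this; rwa [inv_mul_eq_iff_eq_mul] at this).symm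
    rw [hout x (fun hxK => hx1 (hKH x hxK hx)) k hk hkx, one_mul]
    exact hcH
  have hy₀1 : y₀ ≠ 1 := fun e => hy₀ (e ▸ one_mem _)
  have hmemc : ∀ g x : ↥N ⧸ center ↥N, x ∈ MulAut.conj g • H ↔ g⁻¹ * x * g ∈ H := fun g x =>
    CfsgLib.FrobRealize.Kernel.mem_conj_smul
  have hFrob : Cfsg.IsFrobeniusComplement H := by
    refine ⟨fun e => hy₀1 (mem_bot.1 (e.le (mem_centralizer_singleton_iff.2 rfl))), fun e => hKne ?_, fun g hg => ?_⟩
    · exact eq_bot_iff.2 fun k hk => mem_bot.2 (hKH k hk (e.ge (mem_top k)))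
    · refine eq_bot_iff.2 fun x hx => mem_bot.2 (by_contra fun hx1 => hg ?_)
      exact hconj g x hx.1 hx1 ((hmemc g x).1 hx.2)
  have hkernel : (K : Set (↥N ⧸ center ↥N)) = Cfsg.frobeniusKernel H := by
    ext x
    constructor
    · intro hx
      refine or_iff_not_imp_left.2 fun hx1 g hg => hx1 ?_
      have h1 : g⁻¹ * x * g = 1 := hKH _ (by simpa using hKn.conj_mem x hx g⁻¹) ((hmemc g x).1 hg)
      rw [show x = g * (g⁻¹ * x * g) * g⁻¹ by group, h1, mul_one, mul_inv_cancel]
    · rintro (rfl | hx)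
      · exact K.one_mem
      by_contra hxK
      obtain ⟨k, hk, c, hc, rfl⟩ := (hsplit y₀ hy₀).1 x
      have hcK : c ∉ K := fun hc' => hxK (K.mul_mem hk hc')
      -- the commutators with `c` exhaust `K`
      let f : K → K := fun j => ⟨(j : ↥N ⧸ center ↥N) * (c * (j : ↥N ⧸ center ↥N)⁻¹ * c⁻¹),
        K.mul_mem j.2 (hKn.conj_mem _ (K.inv_mem j.2) c)⟩
      have hf : Function.Bijective f := Finite.injective_iff_bijective.1 fun a b e => Subtype.ext (by
        have e' : (a : ↥N ⧸ center ↥N) * (c * (a : ↥N ⧸ center ↥N)⁻¹ * c⁻¹) = b * (c * (b : ↥N ⧸ center ↥N)⁻¹ * c⁻¹) :=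
          congrArg Subtype.val e
        refine inv_mul_eq_one.1 (hout c hcK _ (K.mul_mem (K.inv_mem a.2) b.2) ?_)
        have h1 : c * (a : ↥N ⧸ center ↥N)⁻¹ * c⁻¹ = (a : ↥N ⧸ center ↥N)⁻¹ * b * (c * (b : ↥N ⧸ center ↥N)⁻¹ * c⁻¹) := by
          rw [mul_assoc _ (b : ↥N ⧸ center ↥N), ← e', inv_mul_cancel_left]
        have h2 : c * (a : ↥N ⧸ center ↥N)⁻¹ * b * c⁻¹ = (a : ↥N ⧸ center ↥N)⁻¹ * b := by
          rw [show c * (a : ↥N ⧸ center ↥N)⁻¹ * b * c⁻¹ = (c * (a : ↥N ⧸ center ↥N)⁻¹ * c⁻¹) * (c * b * c⁻¹) by group, h1]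
          group
        exact (mul_inv_eq_iff_eq_mul.1 (by rw [← mul_assoc]; exact h2)).symm)
      obtain ⟨j, hj⟩ := hf.2 ⟨k, hk⟩
      have hj' : (j : ↥N ⧸ center ↥N) * (c * (j : ↥N ⧸ center ↥N)⁻¹ * c⁻¹) = k := congrArg Subtype.val hj
      refine hx (j : ↥N ⧸ center ↥N) ((hmemc _ _).2 ?_)
      rw [← hj']
      have : (j : ↥N ⧸ center ↥N)⁻¹ * ((j : ↥N ⧸ center ↥N) * (c * (j : ↥N ⧸ center ↥N)⁻¹ * c⁻¹) * c) * j = c := by group
      rw [this]
      exact mem_centralizer_singleton_iff.2 hc.eq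
  obtain ⟨s, hs, hsd⟩ := Nat.exists_prime_and_dvd (n := Nat.card K) fun e => hKne (card_eq_one.1 e)
  have := Fact.mk hs
  obtain ⟨w, hw⟩ := exists_prime_orderOf_dvd_card' (G := K) s hsd
  let T : Subgroup (↥N ⧸ center ↥N) :=
    { carrier := {k | k ∈ K ∧ k ^ s = 1}
      one_mem' := ⟨K.one_mem, one_pow s⟩
      mul_mem' := fun {a b} ha hb => ⟨K.mul_mem ha.1 hb.1, by rw [(hKab a ha.1 b hb.1).mul_pow, ha.2, hb.2, one_mul]⟩
      inv_mem' := fun {a} ha => ⟨K.inv_mem ha.1, by rw [inv_pow, ha.2, inv_one]⟩ }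
  have hTn : T.Normal := ⟨fun k hk g => ⟨hKn.conj_mem k hk.1 g, by rw [conj_pow, hk.2, mul_one, mul_inv_cancel]⟩⟩
  have hTne : T ≠ ⊥ := fun e => hs.ne_one (by
    have h1 : (w : ↥N ⧸ center ↥N) ∈ T := ⟨w.2, by rw [← hw, ← Subgroup.orderOf_coe, pow_orderOf_eq_one]⟩
    rw [e, mem_bot] at h1
    rw [← hw, ← Subgroup.orderOf_coe, h1, orderOf_one])
  exact ⟨H, K, s, hs, hFrob, hcardH.symm ▸ hr, hKn, hkernel,
    ⟨⟨fun a b => Subtype.ext (hKab a a.2 b b.2).eq⟩⟩, fun k hk => (hKmin T hTn hTne hk).2⟩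

/-- Let N be a normal subgroup of the finite group G such that for every element x of N outside the center of N the centralizer C_G(x) is a maximal subgroup of G. Then N/Z(N) is either an elementary abelian p-group for some prime p, or a Frobenius group whose kernel is an elementary abelian normal subgroup and whose complement has prime order. -/
theorem result {G : Type*} [Group G] [Finite G] (N : Subgroup G) [N.Normal]
    (h : ∀ x : G, x ∈ N → x ∉ Subgroup.centralizer (N : Set G) → IsCoatom (Subgroup.centralizer ({x} : Set G))) :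
    (∃ p : ℕ, p.Prime ∧ Cfsg.IsElementaryAbelian p (⊤ : Subgroup (↥N ⧸ Subgroup.center ↥N))) ∨
    (∃ (Q K : Subgroup (↥N ⧸ Subgroup.center ↥N)) (p : ℕ), p.Prime ∧ Cfsg.IsFrobeniusComplement Q ∧ (Nat.card ↥Q).Prime ∧
      K.Normal ∧ (K : Set (↥N ⧸ Subgroup.center ↥N)) = Cfsg.frobeniusKernel Q ∧ Cfsg.IsElementaryAbelian p K) := by
  have hMC : CfsgLib.Coprime.NormalMaxCent.MaxCent N := fun x hx => h x x.2 fun hc =>
    hx (CfsgLib.Coprime.NormalMaxCent.mem_center_subgroup_iff.2 hc)
  by_cases hcl : commutator N ≤ Subgroup.center N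
  · exact Or.inl (elementary_of_class_two hMC hcl)
  · exact Or.inr (frobenius_case hMC hcl)

end Cfsg.Agent.S3905
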