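import Cfsg.Statements.S3908
import Cfsg.Agent.Lib.FrobRealize.Quaternion
import Cfsg.Agent.Lib.Coprime.SchurZassenhaus

set_option autoImplicit false
open Cfsg
open scoped Pointwise

namespace Cfsg.Agent.S3908

/-- Let G be a finite group in which any two abelian subgroups of the same order are conjugate. Then a Sylow 2-subgroup of G is cyclic, elementary abelian or generalized quaternion, and for an odd prime p a Sylow p-subgroup of G is cyclic or has exponent dividing p. -/
theorem result {G : Type*} [Group G] [Finite G] (hB : ∀ A B : Subgroup G, IsMulCommutative ↥A → IsMulCommutative ↥B → Nat.card ↥A = Nat.card ↥B → ∃ g : G, B = A.map (MulAut.conj g).toMonoidHom) :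
    (∀ P : Sylow 2 G, IsCyclic ↥(P : Subgroup G) ∨ Cfsg.IsElementaryAbelian 2 (P : Subgroup G) ∨ ∃ k : ℕ, Nonempty (↥(P : Subgroup G) ≃* QuaternionGroup (2 ^ k))) ∧
    ∀ (p : ℕ) [Fact p.Prime], p ≠ 2 → ∀ P : Sylow p G, IsCyclic ↥(P : Subgroup G) ∨ ∀ x ∈ (P : Subgroup G), x ^ p = 1 := by
  classical
  have key : ∀ (p : ℕ) [Fact p.Prime] (P : Sylow p G),
      (∀ x ∈ (P : Subgroup G), x ^ p = 1) ∨ IsCyclic ↥(P : Subgroup G) ∨
        (p = 2 ∧ ∃ k : ℕ, Nonempty (↥(P : Subgroup G) ≃* QuaternionGroup (2 ^ k))) := by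
    intro p hp P
    by_cases hexp : ∀ x ∈ (P : Subgroup G), x ^ p = 1
    · exact Or.inl hexp
    right
    apply CfsgLib.FrobRealize.Quaternion.cyclic_or_quaternion P.isPGroup'
    push Not at hexp
    obtain ⟨x, hx, hxp⟩ := hexp
    -- a power of `x` has order `p²`
    obtain ⟨a, ha⟩ := IsPGroup.iff_orderOf.mp P.isPGroup' ⟨x, hx⟩
    rw [Subgroup.orderOf_mk] at ha
    have ha2 : 2 ≤ a := by
      by_contra h
      refine hxp (orderOf_dvd_iff_pow_eq_one.mp ?_)
      rw [ha]
      exact (pow_dvd_pow p (by omega : a ≤ 1)).trans (pow_one p).dvd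
    set y := x ^ p ^ (a - 2) with hy
    have hyo : orderOf y = p ^ 2 := by
      rw [hy, orderOf_pow, ha, Nat.gcd_eq_right (pow_dvd_pow p (Nat.sub_le a 2)),
        Nat.pow_div (Nat.sub_le a 2) hp.out.pos, show a - (a - 2) = 2 by omega]
    by_contra hlt
    rw [not_le] at hlt
    -- a central element of order `p` and another element of order `p`
    haveI : Nontrivial ↥(P : Subgroup G) :=
      ⟨⟨⟨x, hx⟩, 1, fun e => hxp (by rw [show x = 1 from congrArg Subtype.val e, one_pow])⟩⟩
    haveI := IsPGroup.center_nontrivial P.isPGroup'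
    obtain ⟨z, hz⟩ := exists_prime_orderOf_dvd_card' (G := Subgroup.center ↥(P : Subgroup G)) p (by
      obtain ⟨c, hc⟩ := IsPGroup.iff_card.mp (P.isPGroup'.to_subgroup (Subgroup.center _))
      have := Finite.one_lt_card (α := Subgroup.center ↥(P : Subgroup G))
      rw [hc]
      exact dvd_pow_self p fun c0 => by rw [hc, c0, pow_zero] at this; omega)
    have hzP : orderOf (z : ↥(P : Subgroup G)) = p := by rw [Subgroup.orderOf_coe, hz]
    obtain ⟨w, hw, hwz⟩ : ∃ w : ↥(P : Subgroup G), w ^ p = 1 ∧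
        w ∉ Subgroup.zpowers (z : ↥(P : Subgroup G)) := by
      by_contra hall
      push Not at hall
      have h1 := Nat.card_le_card_of_injective
        (fun w : {w : ↥(P : Subgroup G) // w ^ p = 1} =>
          (⟨w.1, hall w.1 w.2⟩ : Subgroup.zpowers (z : ↥(P : Subgroup G))))
        (fun u v h => Subtype.ext (congrArg Subtype.val h :))
      rw [Nat.card_zpowers, hzP] at h1
      omega
    set Z := Subgroup.zpowers (z : ↥(P : Subgroup G))
    set W := Subgroup.zpowers w
    have hc : ∀ u ∈ W, ∀ v ∈ Z, Commute u v := by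
      intro u hu v hv
      have h1 : Z ≤ Subgroup.center _ := Subgroup.zpowers_le.mpr z.2
      exact Subgroup.mem_center_iff.mp (h1 hv) u
    have hwo : orderOf w = p :=
      orderOf_eq_prime hw fun e => hwz (e ▸ one_mem _)
    have hWn : W ≤ Subgroup.normalizer (Z : Set ↥(P : Subgroup G)) := fun u hu =>
      Subgroup.centralizer_le_normalizer _ (Subgroup.mem_centralizer_iff.mpr fun v hv => (hc u hu v hv).eq.symm)
    have hmem : ∀ e ∈ Z ⊔ W, ∃ u ∈ Z, ∃ v ∈ W, u * v = e := fun e he =>
      (CfsgLib.Coprime.mem_sup_of_le_normalizer hWn).mp he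
    set E := (Z ⊔ W).map (P : Subgroup G).subtype with hE
    have hEexp : ∀ e ∈ E, e ^ p = 1 := by
      rintro _ ⟨e, he, rfl⟩
      obtain ⟨u, hu, v, hv, rfl⟩ := hmem e he
      have hu' : u ^ p = 1 := orderOf_dvd_iff_pow_eq_one.mp ((orderOf_dvd_of_mem_zpowers hu).trans hzP.dvd)
      have hv' : v ^ p = 1 := orderOf_dvd_iff_pow_eq_one.mp ((orderOf_dvd_of_mem_zpowers hv).trans hwo.dvd)
      rw [← map_pow, (hc v hv u hu).symm.mul_pow, hu', hv', one_mul, map_one]
    have hEab : IsMulCommutative ↥E := by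
      refine ⟨⟨fun e f => Subtype.ext ?_⟩⟩
      obtain ⟨_, e, he, rfl⟩ := e
      obtain ⟨_, f, hf, rfl⟩ := f
      obtain ⟨u, hu, v, hv, rfl⟩ := hmem e he
      obtain ⟨u', hu', v', hv', rfl⟩ := hmem f hf
      have hZZ : Commute u u' := by
        obtain ⟨i, rfl⟩ := hu; obtain ⟨j, rfl⟩ := hu'
        exact (Commute.refl _).zpow_zpow i j
      have hWW : Commute v v' := by
        obtain ⟨i, rfl⟩ := hv; obtain ⟨j, rfl⟩ := hv'
        exact (Commute.refl _).zpow_zpow i j
      show (P : Subgroup G).subtype (u * v) * (P : Subgroup G).subtype (u' * v') =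
        (P : Subgroup G).subtype (u' * v') * (P : Subgroup G).subtype (u * v)
      rw [← map_mul, ← map_mul]
      exact congrArg _ ((hZZ.mul_right (hc v' hv' u hu).symm).mul_left
        ((hc v hv u' hu').mul_right hWW)).eq
    have hEcard : Nat.card ↥E = p ^ 2 := by
      rw [hE, Subgroup.card_map_of_injective (Subgroup.subtype_injective _)]
      have hd : Disjoint Z W := by
        rw [disjoint_iff, eq_bot_iff]
        intro u hu
        obtain ⟨huZ, huW⟩ := Subgroup.mem_inf.mp hu
        by_contra hu1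
        apply hwz
        have hle : Subgroup.zpowers u ≤ W := Subgroup.zpowers_le.mpr huW
        have huo : orderOf u = p := orderOf_eq_prime
          (orderOf_dvd_iff_pow_eq_one.mp ((orderOf_dvd_of_mem_zpowers huW).trans hwo.dvd)) hu1
        have heq := Subgroup.eq_of_le_of_card_ge hle
          (by rw [Nat.card_zpowers, Nat.card_zpowers, huo, hwo])
        exact Subgroup.zpowers_le.mpr huZ (heq ▸ Subgroup.mem_zpowers w)
      rw [CfsgLib.Coprime.card_sup_of_le_normalizer hWn hd, Nat.card_zpowers, Nat.card_zpowers,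
        hzP, hwo, pow_two]
    obtain ⟨g, hg⟩ := hB E (Subgroup.zpowers y) hEab inferInstance
      (by rw [hEcard, Nat.card_zpowers, hyo])
    obtain ⟨e, he, hey⟩ : y ∈ E.map (MulAut.conj g).toMonoidHom :=
      hg ▸ Subgroup.mem_zpowers y
    have hyp : y ^ p = 1 := by rw [← hey, ← map_pow, hEexp e he, map_one]
    have h2 := orderOf_dvd_of_pow_eq_one hyp
    rw [hyo] at h2
    have h3 := Nat.le_of_dvd hp.out.pos h2
    have := hp.out.one_lt
    nlinarith
  refine ⟨fun P => ?_, fun p _ hp2 P => ?_⟩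
  · haveI : Fact (Nat.Prime 2) := ⟨Nat.prime_two⟩
    rcases key 2 P with h | h | ⟨-, h⟩
    · refine Or.inr (Or.inl ⟨⟨⟨fun a b => ?_⟩⟩, h⟩)
      have hs : ∀ c : ↥(P : Subgroup G), c⁻¹ = c := fun c =>
        inv_eq_of_mul_eq_one_right (Subtype.ext (by rw [← pow_two]; exact h c c.2))
      rw [← hs (a * b), mul_inv_rev, hs, hs]
    · exact Or.inl h
    · exact Or.inr (Or.inr h)
  · rcases key p P with h | h | ⟨h, -⟩
    · exact Or.inr h
    · exact Or.inl h
    · exact absurd h hp2

end Cfsg.Agent.S3908
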