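import Cfsg.Statements.S3909

set_option autoImplicit false
open Cfsg

namespace Cfsg.Agent.S3909

/-- Let G be a finite group in which any two abelian subgroups of the same order are conjugate. Let M be a normal subgroup of G. If M contains an element of the same order as a ∈ G, then a ∈ M; and if M is elementary abelian of order p^t with p prime and t ≥ 2, then M is the unique Sylow p-subgroup of G. -/
theorem result {G : Type*} [Group G] [Finite G] (hB : ∀ A B : Subgroup G, IsMulCommutative ↥A → IsMulCommutative ↥B → Nat.card ↥A = Nat.card ↥B → ∃ g : G, B = A.map (MulAut.conj g).toMonoidHom) (M : Subgroup G) [M.Normal] :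
    (∀ a : G, (∃ m ∈ M, orderOf m = orderOf a) → a ∈ M) ∧
    ∀ (p t : ℕ) [Fact p.Prime], 2 ≤ t → Nat.card ↥M = p ^ t → Cfsg.IsElementaryAbelian p M → ∀ P : Sylow p G, (P : Subgroup G) = M := by
  have h1 : ∀ a : G, (∃ m ∈ M, orderOf m = orderOf a) → a ∈ M := by
    rintro a ⟨m, hm, hma⟩
    obtain ⟨g, hg⟩ := hB (Subgroup.zpowers m) (Subgroup.zpowers a) inferInstance inferInstance
      (by rw [Nat.card_zpowers, Nat.card_zpowers, hma])
    have ha : a ∈ (Subgroup.zpowers m).map (MulAut.conj g).toMonoidHom := hg ▸ Subgroup.mem_zpowers a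
    obtain ⟨y, hy, rfl⟩ := ha
    exact Subgroup.Normal.conj_mem inferInstance y ((Subgroup.zpowers_le.mpr hm) hy) g
  refine ⟨h1, fun p t hp ht hM hel P => ?_⟩
  have hMp : IsPGroup p ↥M := IsPGroup.of_card hM
  haveI : Nontrivial ↥M := Finite.one_lt_card_iff_nontrivial.mp
    (hM ▸ Nat.one_lt_pow (by omega) (Fact.out : p.Prime).one_lt)
  obtain ⟨⟨m, hm⟩, hm1⟩ := exists_ne (1 : ↥M)
  have hmp : orderOf m = p := by
    refine orderOf_eq_prime (hel.2 m hm) fun h => hm1 (Subtype.ext h)
  obtain ⟨D, hDM, hD⟩ : ∃ D ≤ M, Nat.card D = p ^ 2 := by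
    obtain ⟨D, hD⟩ := Sylow.exists_subgroup_card_pow_prime (G := ↥M) p (n := 2)
      (hM ▸ pow_dvd_pow p ht)
    exact ⟨D.map M.subtype, Subgroup.map_subtype_le D,
      by rw [← hD]; exact (Nat.card_congr (D.equivMapOfInjective _ M.subtype_injective).toEquiv).symm⟩
  have hP : (P : Subgroup G) ≤ M := by
    intro x hx
    obtain ⟨k, hk⟩ := (IsPGroup.iff_orderOf.mp P.2) ⟨x, hx⟩
    rw [Subgroup.orderOf_mk] at hk
    by_cases hk2 : 2 ≤ k
    · exfalso
      have hy : orderOf (x ^ p ^ (k - 2)) = p ^ 2 := by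
        rw [orderOf_pow' _ (pow_ne_zero _ (Fact.out : p.Prime).ne_zero), hk,
          Nat.gcd_eq_right (pow_dvd_pow p (Nat.sub_le k 2)),
          Nat.pow_div (Nat.sub_le k 2) (Fact.out : p.Prime).pos]
        congr 1
        omega
      have hDc : IsMulCommutative ↥D := by
        haveI := hel.1
        refine ⟨⟨fun a b => ?_⟩⟩
        have h := IsMulCommutative.is_comm.comm (α := ↥M) ⟨a.1, hDM a.2⟩ ⟨b.1, hDM b.2⟩
        exact Subtype.ext (congrArg (fun w : ↥M => (w : G)) h :)
      obtain ⟨g, hg⟩ := hB D (Subgroup.zpowers (x ^ p ^ (k - 2))) hDc inferInstance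
        (by rw [hD, Nat.card_zpowers, hy])
      have h2 : x ^ p ^ (k - 2) ∈ D.map (MulAut.conj g).toMonoidHom := hg ▸ Subgroup.mem_zpowers _
      obtain ⟨d, hd, hde⟩ := h2
      have h3 : (x ^ p ^ (k - 2)) ^ p = 1 := by
        rw [← hde, ← map_pow, hel.2 d (hDM hd), map_one]
      have h4 := orderOf_dvd_of_pow_eq_one h3
      rw [hy] at h4
      have h5 := Nat.le_of_dvd (Fact.out : p.Prime).pos h4
      have h6 := (Fact.out : p.Prime).two_le
      nlinarith
    · interval_cases k
      · rw [pow_zero, orderOf_eq_one_iff] at hk; rw [hk]; exact one_mem _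
      · exact h1 x ⟨m, hm, by rw [hmp, hk, pow_one]⟩
  exact (P.is_maximal' hMp hP).symm

end Cfsg.Agent.S3909
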