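import Cfsg.Statements.S3910
import Cfsg.Agent.Lib.Frobenius.AbelianRankOne
import Cfsg.Agent.Lib.PGroup.Frattini
import Cfsg.Agent.Lib.Solvable.Cores

set_option autoImplicit false
open Cfsg

namespace Cfsg.Agent.S3910

/-- A finite nilpotent group in which any two abelian subgroups of the same order are conjugate is cyclic. -/
theorem result {G : Type*} [Group G] [Finite G] (hB : ∀ A B : Subgroup G, IsMulCommutative ↥A → IsMulCommutative ↥B → Nat.card ↥A = Nat.card ↥B → ∃ g : G, B = A.map (MulAut.conj g).toMonoidHom) (hnil : Group.IsNilpotent G) : IsCyclic G := by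
  haveI := hnil
  have hall : ∀ (p : ℕ) (_ : Fact p.Prime) (P : Sylow p G), (P : Subgroup G).Normal :=
    ((Group.isNilpotent_of_finite_tfae (G := G)).out 0 3).mp hnil
  refine CfsgLib.Frobenius.AbelianRankOne.isCyclic_of_sylow fun p _ P => ?_
  by_contra hnc
  obtain ⟨x, hx⟩ := Finite.exists_max fun x : ↥(P : Subgroup G) => orderOf x
  -- the cyclic subgroup generated by an element of largest order lies in a maximal subgroup
  have hne : Subgroup.zpowers x ≠ ⊤ := fun h => hnc (isCyclic_iff_exists_zpowers_eq_top.mpr ⟨x, h⟩)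
  obtain ⟨M, hM, hxM⟩ := (eq_top_or_exists_le_coatom (Subgroup.zpowers x)).resolve_left hne
  haveI := CfsgLib.PGroup.Frattini.normal_of_isCoatom P.2 hM
  apply hM.1
  rw [eq_top_iff]
  intro y _
  haveI hPn : (P : Subgroup G).Normal :=
    hall p inferInstance P
  obtain ⟨i, hi⟩ := IsPGroup.iff_orderOf.mp P.2 x
  obtain ⟨j, hj⟩ := IsPGroup.iff_orderOf.mp P.2 y
  have hji : j ≤ i := (Nat.pow_le_pow_iff_right (Fact.out : p.Prime).one_lt).mp (hi ▸ hj ▸ hx y)
  let z : ↥(P : Subgroup G) := x ^ p ^ (i - j)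
  have hz : orderOf z = p ^ j := by
    show orderOf (x ^ p ^ (i - j)) = _
    rw [orderOf_pow' _ (pow_ne_zero _ (Fact.out : p.Prime).ne_zero), hi,
      Nat.gcd_eq_right (pow_dvd_pow p (Nat.sub_le i j)),
      Nat.pow_div (Nat.sub_le i j) (Fact.out : p.Prime).pos]
    congr 1
    omega
  obtain ⟨g, hg⟩ := hB (Subgroup.zpowers (z : G)) (Subgroup.zpowers (y : G)) inferInstance
    inferInstance (by rw [Nat.card_zpowers, Nat.card_zpowers, Subgroup.orderOf_coe,
      Subgroup.orderOf_coe, hz, hj])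
  have h2 : (y : G) ∈ (Subgroup.zpowers (z : G)).map (MulAut.conj g).toMonoidHom :=
    hg ▸ Subgroup.mem_zpowers _
  obtain ⟨_, ⟨k, rfl⟩, hk⟩ := h2
  have htop : (P : Subgroup G) ⊔ Subgroup.centralizer ((P : Subgroup G) : Set G) = ⊤ := by
    refine CfsgLib.Solvable.Cores.eq_top_of_sylow_le _ fun q hq => ?_
    haveI := hq
    obtain ⟨Q⟩ : Nonempty (Sylow q G) := inferInstance
    refine ⟨Q, ?_⟩
    haveI : Fact q.Prime := ⟨hq⟩
    haveI hQn : (Q : Subgroup G).Normal :=
      hall q inferInstance Q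
    by_cases hpq : q = p
    · subst hpq
      letI := Sylow.unique_of_normal P hPn
      rw [Subsingleton.elim Q P]; exact le_sup_left
    · refine le_trans ?_ le_sup_right
      intro w hw
      rw [Subgroup.mem_centralizer_iff]
      intro u hu
      exact Subgroup.commute_of_normal_of_disjoint _ _ hPn hQn
        (IsPGroup.disjoint_of_ne p q (Ne.symm hpq) _ _ P.2 Q.2) u w hu hw
  have hgtop : g ∈ (((P : Subgroup G) ⊔ Subgroup.centralizer ((P : Subgroup G) : Set G) :
      Subgroup G) : Set G) := by rw [htop]; trivial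
  rw [Subgroup.normal_mul] at hgtop
  obtain ⟨a, ha, c, hc, rfl⟩ := Set.mem_mul.mp hgtop
  have hyM : y = ⟨a, ha⟩ * z ^ k * ⟨a, ha⟩⁻¹ := by
    refine Subtype.ext ?_
    rw [← hk]
    show a * c * ((z : G) ^ k) * (a * c)⁻¹ = a * ((z ^ k : ↥(P : Subgroup G)) : G) * a⁻¹
    have hcz : ((z : G) ^ k) * c = c * ((z : G) ^ k) :=
      Subgroup.mem_centralizer_iff.mp hc _ (Subgroup.zpow_mem _ z.2 k)
    rw [mul_inv_rev, mul_assoc a c, ← hcz, SubgroupClass.coe_zpow]
    group
  rw [hyM]
  exact Subgroup.Normal.conj_mem inferInstance _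
    (hxM (Subgroup.zpow_mem _ (Subgroup.pow_mem _ (Subgroup.mem_zpowers x) _) k)) _

end Cfsg.Agent.S3910
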