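import Cfsg.Statements.S3917
import Cfsg.Agent.Lib.Frobenius.AbelianRankOne

set_option autoImplicit false
open Cfsg

namespace Cfsg.Agent.S3917

/-- Say that a group has self-centralizing non-cyclic subgroups when every non-cyclic subgroup H satisfies C_G(H) ≤ H. A finite abelian group with self-centralizing non-cyclic subgroups is cyclic or elementary abelian of order p² for a prime p. -/
theorem result {G : Type*} [CommGroup G] [Finite G] (hX : (∀ H : Subgroup G, ¬ IsCyclic ↥H → Subgroup.centralizer (H : Set G) ≤ H)) :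
    IsCyclic G ∨ ∃ p : ℕ, p.Prime ∧ Nat.card G = p ^ 2 ∧ Monoid.exponent G = p := by
  by_cases hc : IsCyclic G
  · exact Or.inl hc
  right
  have htop : ∀ H : Subgroup G, ¬ IsCyclic ↥H → H = ⊤ := fun H hH =>
    top_le_iff.mp fun x _ => hX H hH (Subgroup.mem_centralizer_iff.mpr fun y _ => mul_comm y x)
  obtain ⟨p, hp, P, hP⟩ : ∃ (p : ℕ) (_ : Fact p.Prime) (P : Sylow p G), ¬ IsCyclic ↥(P : Subgroup G) := by
    by_contra hcon
    push Not at hcon
    exact hc (CfsgLib.Frobenius.AbelianRankOne.isCyclic_of_sylow fun p hp P => hcon p hp P)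
  have hG : IsPGroup p G := by
    have h := P.2
    rw [htop _ hP] at h
    exact h.of_equiv Subgroup.topEquiv
  have hker : p < Nat.card (powMonoidHom p : G →* G).ker := by
    by_contra h
    exact hc (CfsgLib.Frobenius.AbelianRankOne.isCyclic p hG (Nat.le_of_not_lt h))
  have hkc : ¬ IsCyclic ↥(powMonoidHom p : G →* G).ker := fun h => by
    haveI := h
    obtain ⟨g, hg⟩ := IsCyclic.exists_ofOrder_eq_natCard (α := ↥(powMonoidHom p : G →* G).ker)
    have h1 : g ^ p = 1 := Subtype.ext g.2
    have := Nat.le_of_dvd hp.out.pos (orderOf_dvd_of_pow_eq_one h1)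
    omega
  have hexp : ∀ x : G, x ^ p = 1 := fun x => (htop _ hkc).ge (Subgroup.mem_top x)
  obtain ⟨N, hN⟩ := IsPGroup.iff_card.mp hG
  have hN2 : 2 ≤ N := by
    by_contra h
    have h1 : Nat.card (powMonoidHom p : G →* G).ker ≤ Nat.card G := Subgroup.card_le_card_group _
    have := hp.out.two_le
    interval_cases N <;> simp at hN <;> omega
  obtain ⟨D, hD⟩ := Sylow.exists_subgroup_card_pow_prime (G := G) p (n := 2) (hN ▸ pow_dvd_pow p hN2)
  have hDc : ¬ IsCyclic ↥D := fun h => by
    haveI := h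
    obtain ⟨g, hg⟩ := IsCyclic.exists_ofOrder_eq_natCard (α := ↥D)
    have h1 : g ^ p = 1 := Subtype.ext (hexp g.1)
    have h2 := Nat.le_of_dvd hp.out.pos (orderOf_dvd_of_pow_eq_one h1)
    have h3 := hp.out.two_le
    nlinarith
  refine ⟨p, hp.out, ?_, ?_⟩
  · rw [← hD, htop D hDc]; exact Subgroup.card_top.symm
  · refine ((Nat.dvd_prime hp.out).mp (Monoid.exponent_dvd_of_forall_pow_eq_one hexp)).resolve_left
      fun h => ?_
    rw [Monoid.exp_eq_one_iff] at h
    exact hc (@isCyclic_of_subsingleton G _ h)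

end Cfsg.Agent.S3917
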