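import Cfsg.Statements.S3918
import Cfsg.Agent.Lib.Fusion.NormalRankTwo
import Cfsg.Agent.Lib.Coprime.Action

set_option autoImplicit false
open Cfsg
open scoped commutatorElement

namespace Cfsg.Agent.S3918

/-- Say that a group has self-centralizing non-cyclic subgroups when every non-cyclic subgroup H satisfies C_G(H) ≤ H. For an odd prime p, a finite non-abelian p-group has self-centralizing non-cyclic subgroups if and only if it has order p³. -/
theorem result {G : Type*} [Group G] [Finite G] {p : ℕ} [Fact p.Prime] (hp : p ≠ 2) (hG : IsPGroup p G) (hna : ¬ IsMulCommutative G) :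
    (∀ H : Subgroup G, ¬ IsCyclic ↥H → Subgroup.centralizer (H : Set G) ≤ H) ↔ Nat.card G = p ^ 3 := by
  classical
  have hpp := (Fact.out : p.Prime)
  have hnc : ¬ IsCyclic G := fun h => hna (IsCyclic.isMulCommutative)
  constructor
  · intro h
    obtain ⟨E, -, hEn, ⟨hEab, hEp⟩, hEc⟩ := CfsgLib.Fusion.NormalRankTwo.exists_normal_rankTwo hG hp
      (S := (⊤ : Subgroup G)) (fun hc => hnc (isCyclic_of_surjective (Subgroup.topEquiv : _ ≃* G)
        Subgroup.topEquiv.surjective))
    haveI := hEn
    have hEnc : ¬ IsCyclic ↥E := by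
      intro hc
      obtain ⟨g, hg⟩ := IsCyclic.exists_ofOrder_eq_natCard (α := ↥E)
      have h1 : orderOf g ∣ p := orderOf_dvd_of_pow_eq_one (Subtype.ext (hEp g g.2))
      rw [hg, hEc] at h1
      have := Nat.le_of_dvd hpp.pos h1
      have := hpp.one_lt
      nlinarith
    have hCE : Subgroup.centralizer (E : Set G) = E :=
      le_antisymm (h E hEnc) fun a ha => Subgroup.mem_centralizer_iff.mpr fun b hb =>
        congrArg Subtype.val (hEab.is_comm.comm (⟨b, hb⟩ : E) ⟨a, ha⟩)
    haveI : Nontrivial ↥E := Finite.one_lt_card_iff_nontrivial.mp (by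
      rw [hEc]; exact Nat.one_lt_pow (by omega) hpp.one_lt)
    -- a central element of order `p` in `E`
    have hne : ⁅E, (⊤ : Subgroup G)⁆ < E :=
      CfsgLib.Coprime.commutator_lt_of_isPGroup (hG.to_subgroup ⊤) (hG.to_subgroup E)
        (le_top.trans_eq (Subgroup.normalizer_eq_top_iff.mpr hEn).symm)
        ((Subgroup.nontrivial_iff_ne_bot E).mp inferInstance)
    obtain ⟨x, hxE, hxn⟩ := SetLike.exists_of_lt hne
    set M := ⁅E, (⊤ : Subgroup G)⁆ with hM
    have hMc : Nat.card M ∣ p := by
      obtain ⟨i, -, hi⟩ := (Nat.dvd_prime_pow hpp).mp (hEc ▸ Subgroup.card_dvd_of_le hne.le)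
      have : i ≤ 1 := by
        by_contra h2
        refine hne.ne (Subgroup.eq_of_le_of_card_ge hne.le ?_)
        rw [hEc, hi]; exact Nat.pow_le_pow_right hpp.pos (by omega)
      rw [hi]
      exact (pow_dvd_pow p this).trans (pow_one p).dvd
    -- `x` has at most `p` conjugates
    have hidx : (Subgroup.centralizer ({x} : Set G)).index ≤ p := by
      rw [Subgroup.index]
      refine le_trans (Nat.card_le_card_of_injective (α := G ⧸ Subgroup.centralizer ({x} : Set G))
        (β := M) (fun q => ⟨⁅x, q.out⁆, Subgroup.commutator_mem_commutator hxE (Subgroup.mem_top _)⟩)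
        fun q r hqr => ?_) (Nat.le_of_dvd hpp.pos hMc)
      have h1 : ⁅x, q.out⁆ = ⁅x, r.out⁆ := congrArg Subtype.val hqr
      rw [commutatorElement_def, commutatorElement_def] at h1
      rw [← QuotientGroup.out_eq' q, ← QuotientGroup.out_eq' r, QuotientGroup.eq,
        Subgroup.mem_centralizer_singleton_iff]
      have h2 : q.out * x⁻¹ * q.out⁻¹ = r.out * x⁻¹ * r.out⁻¹ := by
        refine mul_left_cancel (a := x) ?_
        simpa only [mul_assoc] using h1
      have h3 : q.out * x * q.out⁻¹ = r.out * x * r.out⁻¹ := by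
        simpa [mul_assoc] using congrArg (fun t => t⁻¹) h2
      calc q.out⁻¹ * r.out * x = q.out⁻¹ * (r.out * x * r.out⁻¹) * r.out := by group
        _ = q.out⁻¹ * (q.out * x * q.out⁻¹) * r.out := by rw [h3]
        _ = _ := by group
    -- `C(x)` is self-centralising modulo `E`
    have hx1 : x ≠ 1 := fun e => hxn (e ▸ one_mem _)
    have hCx : Subgroup.centralizer ({x} : Set G) ≤ Subgroup.centralizer (E : Set G) := by
      intro c hc
      have hcx := Subgroup.mem_centralizer_singleton_iff.mp hc
      have hMcen : ∀ m ∈ M, c * m = m * c := by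
        intro m hm
        by_cases hMb : M = ⊥
        · rw [hMb, Subgroup.mem_bot] at hm; rw [hm, mul_one, one_mul]
        have h2 : ⁅M, (⊤ : Subgroup G)⁆ < M :=
          CfsgLib.Coprime.commutator_lt_of_isPGroup (hG.to_subgroup ⊤) (hG.to_subgroup M)
            (le_top.trans_eq (Subgroup.normalizer_eq_top_iff.mpr inferInstance).symm) hMb
        have h3 : ⁅M, (⊤ : Subgroup G)⁆ = ⊥ := by
          rcases hpp.eq_one_or_self_of_dvd _ ((Subgroup.card_dvd_of_le h2.le).trans hMc) with e | e
          · exact Subgroup.eq_bot_of_card_eq _ e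
          · exact absurd (Subgroup.eq_of_le_of_card_ge h2.le
              ((Nat.le_of_dvd hpp.pos hMc).trans e.ge)) h2.ne
        have h4 : ⁅m, c⁆ ∈ (⊥ : Subgroup G) :=
          h3 ▸ Subgroup.commutator_mem_commutator hm (Subgroup.mem_top c)
        rw [Subgroup.mem_bot, commutatorElement_eq_one_iff_mul_comm] at h4
        exact h4.symm
      have hgen : E ≤ M ⊔ Subgroup.zpowers x := by
        refine (Subgroup.eq_of_le_of_card_ge (sup_le hne.le (Subgroup.zpowers_le.mpr hxE)) ?_).ge
        have hlt : M < M ⊔ Subgroup.zpowers x :=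
          lt_of_le_of_ne le_sup_left fun e => hxn (e.symm ▸ Subgroup.mem_sup_right (Subgroup.mem_zpowers x))
        obtain ⟨i, hi2, hi⟩ := (Nat.dvd_prime_pow hpp).mp (hEc ▸ Subgroup.card_dvd_of_le
          (sup_le hne.le (Subgroup.zpowers_le.mpr hxE)))
        by_cases hMb : M = ⊥
        · -- then `E` is central and equals its centraliser, so `G` is abelian
          exfalso
          apply hna
          have hcen : ∀ g : G, g ∈ Subgroup.centralizer (E : Set G) := fun g =>
            Subgroup.mem_centralizer_iff.mpr fun e he => by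
              have h4 : ⁅e, g⁆ ∈ M := Subgroup.commutator_mem_commutator he (Subgroup.mem_top g)
              rwa [hMb, Subgroup.mem_bot, commutatorElement_eq_one_iff_mul_comm] at h4
          refine ⟨⟨fun a b => ?_⟩⟩
          exact congrArg Subtype.val (hEab.is_comm.comm (⟨a, hCE ▸ hcen a⟩ : E) ⟨b, hCE ▸ hcen b⟩)
        · have hMp : Nat.card M = p :=
            (hpp.eq_one_or_self_of_dvd _ hMc).resolve_left fun e => hMb (Subgroup.eq_bot_of_card_eq _ e)
          have h5 : Nat.card M < Nat.card ↥(M ⊔ Subgroup.zpowers x) :=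
            lt_of_le_of_ne (Subgroup.card_le_of_le hlt.le)
              (fun e => hlt.ne (Subgroup.eq_of_le_of_card_ge hlt.le e.ge))
          rw [hMp, hi] at h5
          have : 2 ≤ i := by
            by_contra h6
            exact absurd h5 (not_lt.mpr ((Nat.pow_le_pow_right hpp.pos (by omega : i ≤ 1)).trans_eq (pow_one p)))
          rw [hEc, hi]; exact Nat.pow_le_pow_right hpp.pos this
      have hle : M ⊔ Subgroup.zpowers x ≤ Subgroup.centralizer ({c} : Set G) :=
        sup_le (fun m hm => Subgroup.mem_centralizer_singleton_iff.mpr (hMcen m hm).symm)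
          (Subgroup.zpowers_le.mpr (Subgroup.mem_centralizer_singleton_iff.mpr hcx.symm))
      exact Subgroup.mem_centralizer_iff.mpr fun e he =>
        Subgroup.mem_centralizer_singleton_iff.mp (hle (hgen he))
    rw [hCE] at hCx
    have hle3 : Nat.card G ≤ p ^ 3 := by
      rw [← Subgroup.card_mul_index (Subgroup.centralizer ({x} : Set G)), pow_succ]
      exact Nat.mul_le_mul (hEc ▸ Subgroup.card_le_of_le hCx) hidx
    obtain ⟨n, hn⟩ := IsPGroup.iff_card.mp hG
    have hn3 : n ≤ 3 := (Nat.pow_le_pow_iff_right hpp.one_lt).mp (hn ▸ hle3)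
    have hn2 : 3 ≤ n := by
      by_contra h2
      apply hna
      interval_cases n
      · haveI : Subsingleton G := (Nat.card_eq_one_iff_unique.mp (by rw [hn, pow_zero])).1
        exact ⟨⟨fun a b => Subsingleton.elim _ _⟩⟩
      · exact absurd (isCyclic_of_prime_card (p := p) (by rw [hn, pow_one])) hnc
      · exact ⟨⟨(IsPGroup.commGroupOfCardEqPrimeSq (p := p) hn).mul_comm⟩⟩
    rw [hn, le_antisymm hn3 hn2]
  · intro hcard H hH c hc
    by_contra hcH
    obtain ⟨k, hk3, hk⟩ := (Nat.dvd_prime_pow hpp).mp (hcard ▸ Subgroup.card_subgroup_dvd_card H)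
    have hk2 : 2 ≤ k := by
      by_contra h2
      apply hH
      rcases Nat.eq_zero_or_pos k with h0 | h0
      · haveI : Subsingleton H := (Nat.card_eq_one_iff_unique.mp (by rw [hk, h0, pow_zero])).1
        infer_instance
      · exact isCyclic_of_prime_card (p := p) (by rw [hk, show k = 1 by omega, pow_one])
    rcases Nat.lt_or_ge k 3 with hk' | hk'
    · have hk2' : Nat.card H = p ^ 2 := by rw [hk, show k = 2 by omega]
      -- `H` and `c` generate `G`, so `H` is central
      have htop : H ⊔ Subgroup.zpowers c = ⊤ := by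
        refine Subgroup.eq_top_of_card_eq _ ?_
        obtain ⟨i, hi3, hi⟩ := (Nat.dvd_prime_pow hpp).mp
          (hcard ▸ Subgroup.card_subgroup_dvd_card (H ⊔ Subgroup.zpowers c))
        have h5 : Nat.card H < Nat.card ↥(H ⊔ Subgroup.zpowers c) :=
          lt_of_le_of_ne (Subgroup.card_le_of_le le_sup_left) fun e => hcH
            ((Subgroup.eq_of_le_of_card_ge le_sup_left e.ge).symm ▸
              Subgroup.mem_sup_right (Subgroup.mem_zpowers c))
        rw [hk2', hi] at h5
        have h6 := (Nat.pow_lt_pow_iff_right hpp.one_lt).mp h5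
        rw [hi, hcard, show i = 3 by omega]
      have hab : ∀ a ∈ H, ∀ b ∈ H, a * b = b * a := fun a ha b hb =>
        congrArg Subtype.val ((IsPGroup.commGroupOfCardEqPrimeSq (p := p) hk2').mul_comm ⟨a, ha⟩ ⟨b, hb⟩)
      have hHc : H ≤ Subgroup.center G := fun a ha => Subgroup.mem_center_iff.mpr fun g => by
        have hle : H ⊔ Subgroup.zpowers c ≤ Subgroup.centralizer ({a} : Set G) :=
          sup_le (fun b hb => Subgroup.mem_centralizer_singleton_iff.mpr (hab b hb a ha))
            (Subgroup.zpowers_le.mpr (Subgroup.mem_centralizer_singleton_iff.mpr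
              (Subgroup.mem_centralizer_iff.mp hc a ha).symm))
        exact Subgroup.mem_centralizer_singleton_iff.mp (hle (htop ▸ Subgroup.mem_top g))
      apply hna
      refine ⟨⟨fun a b => ?_⟩⟩
      have hle : H ⊔ Subgroup.zpowers c ≤ Subgroup.centralizer ({c} : Set G) :=
        sup_le (fun e he => Subgroup.mem_centralizer_singleton_iff.mpr
          (Subgroup.mem_centralizer_iff.mp hc e he))
          (Subgroup.zpowers_le.mpr (Subgroup.mem_centralizer_singleton_iff.mpr rfl))
      have hcc : c ∈ Subgroup.center G := Subgroup.mem_center_iff.mpr fun g =>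
        Subgroup.mem_centralizer_singleton_iff.mp (hle (htop ▸ Subgroup.mem_top g))
      have := (sup_le hHc (Subgroup.zpowers_le.mpr hcc)) (htop ▸ Subgroup.mem_top b)
      exact Subgroup.mem_center_iff.mp this a
    · have : H = ⊤ := Subgroup.eq_top_of_card_eq _ (by rw [hk, hcard, show k = 3 by omega])
      exact hcH (this ▸ Subgroup.mem_top c)

end Cfsg.Agent.S3918
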