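import Cfsg.Statements.S3919
import Cfsg.Agent.Lib.Fusion.MaxClassTwo
import Cfsg.Agent.Lib.FrobRealize.Quaternion
import Cfsg.Agent.Lib.Coprime.SchurZassenhaus

set_option autoImplicit false
open Cfsg

namespace Cfsg.Agent.S3919

theorem four_centralizer {G : Type*} [Group G] [Finite G]
    (hSC : ∀ H : Subgroup G, ¬ IsCyclic ↥H → Subgroup.centralizer (H : Set G) ≤ H)
    {t z : G} (hto : orderOf t = 2) (hzo : orderOf z = 2) (htz : t ≠ z)
    (hz : z ∈ Subgroup.center G) :
    Nat.card (Subgroup.centralizer ({t} : Set G)) = 4 ∧ ∀ u : G, u * t = t * u → u ^ 2 = 1 := by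
  classical
  set T := Subgroup.zpowers t with hT
  set Z := Subgroup.zpowers z with hZ
  have hTZ : Z ≤ Subgroup.normalizer (T : Set G) :=
    (Subgroup.zpowers_le.2 (Subgroup.center_le_normalizer _ hz))
  have hd : Disjoint T Z := by
    rw [Subgroup.disjoint_def]
    intro w hwt hwz
    rw [mem_zpowers_iff_mem_range_orderOf, hto] at hwt
    rw [mem_zpowers_iff_mem_range_orderOf, hzo] at hwz
    simp only [Finset.mem_image, Finset.mem_range] at hwt hwz
    obtain ⟨i, hi, rfl⟩ := hwt
    obtain ⟨j, hj, e⟩ := hwz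
    interval_cases i
    · simp
    · interval_cases j
      · simpa using e.symm
      · exact absurd (by simpa using e.symm) htz
  have hcard : Nat.card ↥(T ⊔ Z) = 4 := by
    rw [CfsgLib.Coprime.card_sup_of_le_normalizer hTZ hd, hT, hZ, Nat.card_zpowers,
      Nat.card_zpowers, hto, hzo]
  have hexp : ∀ u ∈ T ⊔ Z, u ^ 2 = 1 := by
    intro u hu
    obtain ⟨x, hx, y, hy, rfl⟩ := (CfsgLib.Coprime.mem_sup_of_le_normalizer hTZ).1 hu
    have hxy : Commute x y :=
      (Subgroup.mem_center_iff.1 ((Subgroup.zpowers_le.2 hz) hy) x)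
    rw [hxy.mul_pow, orderOf_dvd_iff_pow_eq_one.1 (hto ▸ orderOf_dvd_of_mem_zpowers hx),
      orderOf_dvd_iff_pow_eq_one.1 (hzo ▸ orderOf_dvd_of_mem_zpowers hy), one_mul]
  have hnc : ¬ IsCyclic ↥(T ⊔ Z) := by
    intro hc
    obtain ⟨c, hc'⟩ := IsCyclic.exists_ofOrder_eq_natCard (α := ↥(T ⊔ Z))
    have : orderOf c ∣ 2 := orderOf_dvd_of_pow_eq_one (Subtype.ext (hexp _ c.2))
    rw [hc', hcard] at this
    exact absurd (Nat.le_of_dvd two_pos this) (by omega)
  have hmem : ∀ u : G, u * t = t * u → u ∈ T ⊔ Z := fun u hu => by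
    refine hSC _ hnc (Subgroup.mem_centralizer_iff.2 fun w hw => ?_)
    have hle : T ⊔ Z ≤ Subgroup.centralizer ({u} : Set G) := by
      refine sup_le (Subgroup.zpowers_le.2 ?_) (Subgroup.zpowers_le.2 ?_)
      · exact Subgroup.mem_centralizer_singleton_iff.2 hu.symm
      · exact Subgroup.mem_centralizer_singleton_iff.2 (Subgroup.mem_center_iff.1 hz u).symm
    exact Subgroup.mem_centralizer_singleton_iff.1 (hle hw)
  refine ⟨?_, fun u hu => hexp u (hmem u hu)⟩
  rw [show Subgroup.centralizer ({t} : Set G) = T ⊔ Z from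
    le_antisymm (fun u hu => hmem u (Subgroup.mem_centralizer_singleton_iff.1 hu))
      (sup_le (Subgroup.zpowers_le.2 (Subgroup.mem_centralizer_singleton_iff.2 rfl))
        (Subgroup.zpowers_le.2
          (Subgroup.mem_centralizer_singleton_iff.2 (Subgroup.mem_center_iff.1 hz t).symm))), hcard]

/-- Say that a group has self-centralizing non-cyclic subgroups when every non-cyclic subgroup H satisfies C_G(H) ≤ H. A finite non-abelian 2-group G of order 2^n has self-centralizing non-cyclic subgroups if and only if G has nilpotency class n − 1 (that is, G is dihedral, semidihedral or generalized quaternion). -/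
theorem result {G : Type*} [Group G] [Finite G] (hna : ¬ IsMulCommutative G) (n : ℕ) (hG : Nat.card G = 2 ^ n) :
    (∀ H : Subgroup G, ¬ IsCyclic ↥H → Subgroup.centralizer (H : Set G) ≤ H) ↔ (⊤ : Subgroup G).lowerCentralSeries (n - 2) ≠ ⊥ := by
  classical
  have : Fact (Nat.Prime 2) := ⟨Nat.prime_two⟩
  have hP := IsPGroup.of_card hG
  have := hP.isNilpotent
  have hnc : ∃ x y : G, x * y ≠ y * x := by
    by_contra h
    push Not at h
    exact hna ⟨⟨h⟩⟩
  have hn3 : 3 ≤ n := by
    by_contra hlt
    rcases (by omega : n = 0 ∨ n = 1 ∨ n = 2) with rfl | rfl | rfl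
    · have := (Nat.card_eq_one_iff_unique.1 (by simpa using hG)).1
      obtain ⟨x, y, h⟩ := hnc; exact h (by rw [Subsingleton.elim x y])
    · have : IsCyclic G := isCyclic_of_prime_card (p := 2) (by simpa using hG)
      exact hna inferInstance
    · obtain ⟨x, y, h⟩ := hnc; exact h (IsPGroup.commutative_of_card_eq_prime_sq hG x y)
  constructor
  · intro hSC
    -- a cyclic subgroup of index two
    have hC : ∃ a : G, orderOf a = 2 ^ (n - 1) := by
      by_cases hfew : Nat.card {x : G // x ^ 2 = 1} ≤ 2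
      · rcases CfsgLib.FrobRealize.Quaternion.cyclic_or_quaternion hP hfew with hc | ⟨-, m, ⟨e⟩⟩
        · exact absurd (by infer_instance : IsMulCommutative G) hna
        · refine ⟨e.symm (QuaternionGroup.a 1), ?_⟩
          have hcard : 2 ^ n = 2 ^ (m + 2) := by
            rw [← hG, Nat.card_congr e.toEquiv, Nat.card_eq_fintype_card, QuaternionGroup.card, pow_add]; ring
          have hm : n = m + 2 := Nat.pow_right_injective le_rfl hcard
          rw [e.symm.orderOf_eq, QuaternionGroup.orderOf_a_one, hm,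
            show m + 2 - 1 = m + 1 by omega, pow_succ']
      · have : Nontrivial G := Finite.one_lt_card_iff_nontrivial.1 (by
          rw [hG]; exact Nat.one_lt_two_pow (by omega))
        have := hP.center_nontrivial
        obtain ⟨⟨z, hz⟩, hzo⟩ := exists_prime_orderOf_dvd_card' (G := Subgroup.center G) 2
          ((hP.to_subgroup _).card_eq_or_dvd.resolve_left
            (Finite.one_lt_card (α := Subgroup.center G)).ne')
        rw [Subgroup.orderOf_mk] at hzo
        obtain ⟨t, ht, ht1, htz⟩ : ∃ t : G, t ^ 2 = 1 ∧ t ≠ 1 ∧ t ≠ z := by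
          by_contra h
          push Not at h
          refine hfew ?_
          calc Nat.card {x : G // x ^ 2 = 1} ≤ Nat.card ({1, z} : Set G) :=
                Nat.card_le_card_of_injective (fun x => ⟨x.1, by
                  by_cases h1 : x.1 = 1
                  · simp [h1]
                  · simp [h x.1 x.2 h1]⟩) (fun x y e => Subtype.ext (by simpa using e))
            _ ≤ 2 := by
              rw [Nat.card_coe_set_eq]
              exact (Set.ncard_insert_le _ _).trans (by simp)
        have hto : orderOf t = 2 := orderOf_eq_prime ht ht1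
        obtain ⟨hcard4, -⟩ := four_centralizer hSC hto hzo htz hz
        obtain ⟨l, rfl⟩ : ∃ l, n = l + 3 := ⟨n - 3, by omega⟩
        obtain ⟨C, hC, hCi⟩ :=
          CfsgLib.TwoGroups.MaximalClass.cyclic_max_of_involution_centralizer l G hG t hto hcard4
        obtain ⟨a, -, ha2⟩ := CfsgLib.TwoGroups.Classify.exists_generator hC hCi
        refine ⟨a, ?_⟩
        rw [hG, pow_succ'] at ha2
        exact Nat.eq_of_mul_eq_mul_left two_pos ha2
    obtain ⟨a, ha⟩ := hC
    obtain ⟨k, rfl⟩ : ∃ k, n = k + 1 := ⟨n - 1, by omega⟩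
    rw [show k + 1 - 1 = k by omega] at ha
    obtain ⟨b, hb, hcase⟩ := CfsgLib.TwoGroups.Classify.classify (by omega) hG ha hnc
    have key : ∀ (r u : ℤ), b * a * b⁻¹ = a ^ r → r = -1 + 2 * (2 * u) →
        (⊤ : Subgroup G).lowerCentralSeries (k + 1 - 2) ≠ ⊥ := by
      intro r u hr hu hbot
      have h1 := CfsgLib.Fusion.MaxClassTwo.lcs_mem hr (k + 1 - 2)
      rw [hbot, Subgroup.mem_bot, ← orderOf_dvd_iff_zpow_eq_one, ha,
        show r - 1 = 2 * (2 * u - 1) by rw [hu]; ring, mul_pow] at h1
      obtain ⟨j, rfl⟩ : ∃ j, k = j + 1 := ⟨k - 1, by omega⟩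
      rw [show j + 1 + 1 - 2 = j by omega] at h1
      push_cast at h1
      rw [pow_succ, mul_dvd_mul_iff_left (pow_ne_zero _ two_ne_zero)] at h1
      have := Int.prime_two.dvd_of_dvd_pow h1
      omega
    rcases hcase with ⟨-, h2⟩ | ⟨-, h2⟩ | ⟨h3, h1, h2⟩ | ⟨h3, -, h2⟩
    · exact key (-1) 0 (by rw [h2, zpow_neg_one]) (by ring)
    · exact key (-1) 0 (by rw [h2, zpow_neg_one]) (by ring)
    · exfalso
      set w := a ^ 2 ^ (k - 1) with hw
      have hwo : orderOf w = 2 := by
        rw [hw, orderOf_pow, ha, Nat.gcd_eq_right (pow_dvd_pow 2 (by omega)),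
          Nat.pow_div (by omega) two_pos, show k - (k - 1) = 1 by omega, pow_one]
      have hww : w ^ 2 = 1 := hwo ▸ pow_orderOf_eq_one w
      have hwc : w ∈ Subgroup.center G :=
        CfsgLib.TwoGroups.MaximalClass.central_of_mem_zpowers (m := 2 ^ (k - 1))
          (by rw [ha, ← pow_succ', show k - 1 + 1 = k by omega])
          (CfsgLib.TwoGroups.CyclicMax.index_zpowers hG ha) (Subgroup.npow_mem_zpowers a _)
          (by rw [← sq, hww])
      have hbo : orderOf b = 2 :=
        orderOf_eq_prime h1 (fun e => hb (e ▸ one_mem _))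
      obtain ⟨-, hsq⟩ := four_centralizer hSC hbo hwo
        (fun e => hb (e ▸ Subgroup.npow_mem_zpowers a _)) hwc
      have hfix : b * a ^ 2 * b⁻¹ = a ^ 2 := by
        rw [← conj_pow, h2, pow_add, pow_one, ← hw, (Commute.self_pow a _).mul_pow, hww, mul_one]
      have h4 := hsq (a ^ 2) (mul_inv_eq_iff_eq_mul.1 hfix).symm
      rw [← pow_mul, ← orderOf_dvd_iff_pow_eq_one, ha] at h4
      have := Nat.le_of_dvd (by norm_num) h4
      have : 2 ^ 3 ≤ 2 ^ k := Nat.pow_le_pow_right two_pos h3
      omega
    · refine key ((2 : ℤ) ^ (k - 1) - 1) (2 ^ (k - 3)) ?_ ?_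
      · rw [h2, ← zpow_natCast, Nat.cast_sub Nat.one_le_two_pow]; push_cast; rfl
      · rw [← mul_assoc, show (2:ℤ) * 2 = 2 ^ 2 by norm_num, ← pow_add,
          show 2 + (k - 3) = k - 1 by omega]; ring
  · intro hlcs H hH u hu
    have hcl : Group.nilpotencyClass G = n - 1 := by
      refine le_antisymm (CfsgLib.Fusion.MaxClass.class_le (p := 2) (by omega) hG) ?_
      by_contra hlt
      exact hlcs (Subgroup.lowerCentralSeries_eq_bot_iff_nilpotencyClass_le.2 (by omega))
    obtain ⟨a, b, r, ha, hb, hconj, hr, -, -⟩ := CfsgLib.Fusion.MaxClassTwo.exists_presentation hn3 hG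
      (CfsgLib.TwoGroups.MaximalClass.commutator_index_of_class hn3 hG hcl)
    have hZ := CfsgLib.Fusion.MaxClassTwo.center_eq hn3 hG ha hb hconj hr
    set A := Subgroup.zpowers a with hA
    have hi : A.index = 2 := CfsgLib.TwoGroups.CyclicMax.index_zpowers (k := n - 1)
      (by rw [hG]; congr 1; omega) ha
    -- elements of `A` commuting with something outside `A` are central
    have hcen : ∀ g, g ∉ A → ∀ v ∈ A, Commute v g → v ∈ Subgroup.center G := by
      intro g hg v hv hvg
      have hle : A ≤ Subgroup.centralizer ({v} : Set G) := fun y hy =>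
        Subgroup.mem_centralizer_singleton_iff.2 (setLike_mul_comm hy hv)
      rw [Subgroup.mem_center_iff]
      intro y
      refine Subgroup.mem_centralizer_singleton_iff.1 ?_
      by_cases hy : y ∈ A
      · exact hle hy
      · rw [← mul_inv_cancel_left g y]
        exact mul_mem (Subgroup.mem_centralizer_singleton_iff.2 hvg.eq.symm)
          (hle ((Subgroup.mul_mem_iff_of_index_two hi).2 (by simp [hg, hy])))
    obtain ⟨g, hgH, hgA⟩ : ∃ g ∈ H, g ∉ A := by
      by_contra h
      push Not at h
      exact hH (isCyclic_of_injective (Subgroup.inclusion (h : H ≤ A))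
        (Subgroup.inclusion_injective _))
    set z := a ^ 2 ^ (n - 2) with hzdef
    have hzH : z ∈ H := by
      by_contra hzH
      refine hH ?_
      have hbot : H ⊓ A = ⊥ := by
        rw [Subgroup.eq_bot_iff_forall]
        intro v hv
        by_contra hv1
        obtain ⟨hvH, hvA⟩ := hv
        obtain ⟨d, hd⟩ : ∃ d, orderOf v = 2 ^ d := IsPGroup.iff_orderOf.1 hP v
        have hd0 : d ≠ 0 := fun e => hv1 (orderOf_eq_one_iff.1 (by rw [hd, e, pow_zero]))
        obtain ⟨c, rfl⟩ : ∃ c, d = c + 1 := ⟨d - 1, by omega⟩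
        have hwo : orderOf (v ^ 2 ^ c) = 2 := by
          rw [orderOf_pow, hd, Nat.gcd_eq_right (pow_dvd_pow 2 (by omega)),
            Nat.pow_div (by omega) two_pos, show c + 1 - c = 1 by omega, pow_one]
        have e : v ^ 2 ^ c = z := CfsgLib.TwoGroups.MaximalClass.involution_eq_pow
          (m := 2 ^ (n - 2)) (by rw [ha, ← pow_succ']; congr 1; omega) (pow_mem hvA _)
          (by rw [← sq]; exact orderOf_dvd_iff_pow_eq_one.1 hwo.dvd) (fun e => by rw [e, orderOf_one] at hwo; omega)
        exact hzH (e ▸ pow_mem hvH _)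
      have : A.Normal := Subgroup.normal_of_index_eq_two hi
      have hle2 : Nat.card H ≤ 2 := by
        have h1 := Subgroup.card_mul_index (A.subgroupOf H)
        have h0 : A.subgroupOf H = ⊥ := by
          rw [← Subgroup.inf_subgroupOf_right, inf_comm, hbot, Subgroup.bot_subgroupOf]
        rw [h0, Subgroup.card_bot, one_mul] at h1
        rw [← h1, show ((⊥ : Subgroup H)).index = A.relIndex H by rw [Subgroup.relIndex, h0]]
        exact Nat.le_of_dvd two_pos (hi ▸ Subgroup.relIndex_dvd_index_of_normal A H)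
      rcases (by have := Nat.card_pos (α := H); omega : Nat.card H = 1 ∨ Nat.card H = 2) with h | h
      · have := (Nat.card_eq_one_iff_unique.1 h).1; infer_instance
      · exact isCyclic_of_prime_card h
    have hug : Commute u g := (Subgroup.mem_centralizer_iff.1 hu g hgH).symm
    have hzc : Subgroup.center G ≤ H := hZ ▸ Subgroup.zpowers_le.2 hzH
    by_cases huA : u ∈ A
    · exact hzc (hcen g hgA u huA hug)
    · rw [← mul_inv_cancel_left g u]
      exact mul_mem hgH (hzc (hcen g hgA _
        ((Subgroup.mul_mem_iff_of_index_two hi).2 (by simp [hgA, huA]))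
        ((Commute.refl g).inv_left.mul_left hug)))

end Cfsg.Agent.S3919
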