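import Cfsg.Statements.S3921
import Cfsg.Agent.Lib.Involution.SelfCentNoncyclicMain
import Cfsg.Agent.Lib.Classical.SelfCentPSL

set_option autoImplicit false
open Cfsg

namespace Cfsg.Agent.S3921

/-- Say that a group has self-centralizing non-cyclic subgroups when every non-cyclic subgroup H satisfies C_G(H) ≤ H. A non-abelian finite simple group has self-centralizing non-cyclic subgroups if and only if it is isomorphic to PSL₂(q) with q = 4, q = 9, or q a prime of the form 2^k + 1 or 2^k − 1. -/
theorem result {G : Type*} [Group G] [Finite G] [IsSimpleGroup G] (hna : ¬ IsMulCommutative G) :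
    (∀ H : Subgroup G, ¬ IsCyclic ↥H → Subgroup.centralizer (H : Set G) ≤ H) ↔ ∃ (F : Type) (_ : Field F) (_ : Fintype F),
      (Fintype.card F = 4 ∨ Fintype.card F = 9 ∨ ((Fintype.card F).Prime ∧ ∃ k : ℕ, Fintype.card F = 2 ^ k + 1 ∨ Fintype.card F = 2 ^ k - 1)) ∧
      Nonempty (G ≃* Matrix.ProjectiveSpecialLinearGroup (Fin 2) F) := by
  classical
  constructor
  · intro h
    exact CfsgLib.Involution.SelfCentNoncyclic.forward hna h
  · rintro ⟨F, _, _, hq, ⟨φ⟩⟩ H hH g hg
    have h1 : φ g ∈ H.map φ.toMonoidHom := by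
      refine CfsgLib.Classical.SelfCentPSL.mem_of_centralizes hq _
        (fun h => hH ((H.equivMapOfInjective φ.toMonoidHom φ.injective).isCyclic.2 h)) ?_
      refine Subgroup.mem_centralizer_iff.2 ?_
      rintro _ ⟨a, ha, rfl⟩
      show φ a * φ g = φ g * φ a
      rw [← map_mul, ← map_mul, Subgroup.mem_centralizer_iff.1 hg a ha]
    obtain ⟨a, ha, hag⟩ := h1
    rw [← φ.injective hag]
    exact ha

end Cfsg.Agent.S3921
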