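import Cfsg.Statements.S3922
import Cfsg.Agent.Lib.Frobenius.ThreeSizes.Main
-- import your own Cfsg.Agent.* helpers here

set_option autoImplicit false
open Cfsg

namespace Cfsg.Agent.S3922

/-- A finite group whose conjugacy classes have exactly three distinct sizes (1 and two further values) is solvable. -/
theorem result {G : Type*} [Group G] [Finite G] (n₁ n₂ : ℕ) (h12 : n₂ < n₁) (h2 : 1 < n₂)
    (h : ∀ x : G, (Subgroup.centralizer ({x} : Set G)).index = 1 ∨ (Subgroup.centralizer ({x} : Set G)).index = n₂ ∨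
      (Subgroup.centralizer ({x} : Set G)).index = n₁)
    (h₁ : ∃ x : G, (Subgroup.centralizer ({x} : Set G)).index = n₁) (h₂ : ∃ x : G, (Subgroup.centralizer ({x} : Set G)).index = n₂) :
    Group.IsSolvable G := by
  obtain ⟨w₁, hw₁⟩ := h₁
  obtain ⟨w₂, hw₂⟩ := h₂
  open CfsgLib.Frobenius.ThreeSizes in
  have hnc : ∀ w : G, 1 < (C w).index → w ∉ Subgroup.center G := fun w hw hZ => by
    rw [C_eq_top.2 hZ, Subgroup.index_top] at hw
    exact lt_irrefl _ hw
  open CfsgLib.Frobenius.ThreeSizes in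
  have hcard : ∀ x : G, Nat.card (C x) * (C x).index = Nat.card G := fun x => (C x).card_mul_index
  open CfsgLib.Frobenius.ThreeSizes in
  refine solvable_of_sizes (s := Nat.card (C w₁)) (b := Nat.card (C w₂)) ⟨?_, ?_, ?_,
    ⟨w₁, hnc w₁ (by rw [hw₁]; omega), rfl⟩, ⟨w₂, hnc w₂ (by rw [hw₂]; omega), rfl⟩⟩
  · have e₁ := hcard w₁
    rw [hw₁, ← hcard w₂, hw₂] at e₁
    by_contra hle
    push Not at hle
    have := Nat.mul_le_mul_right n₂ hle
    have hpos : 0 < Nat.card (C w₁) := Nat.card_pos
    nlinarith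
  · have e₂ := hcard w₂
    rw [hw₂] at e₂
    have hpos : 0 < Nat.card (C w₂) := Nat.card_pos
    nlinarith
  · intro x hx
    have key : ∀ w : G, (C x).index = (C w).index → Nat.card (C x) = Nat.card (C w) := fun w e => by
      have e' := hcard x
      rw [← hcard w, e] at e'
      exact Nat.eq_of_mul_eq_mul_right (Nat.pos_of_ne_zero Subgroup.index_ne_zero_of_finite) e'
    rcases h x with e | e | e
    · exact absurd (C_eq_top.1 (Subgroup.index_eq_one.1 e)) hx
    · exact Or.inr (key w₂ (e.trans hw₂.symm))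
    · exact Or.inl (key w₁ (e.trans hw₁.symm))

end Cfsg.Agent.S3922
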