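import Cfsg.Statements.S3927
import Cfsg.Agent.Lib.Solvable.UniqueMaximal

set_option autoImplicit false
open Cfsg
open scoped Pointwise
open Subgroup CfsgLib.Solvable.UniqueMaximal

namespace Cfsg.Agent.S3927

universe u

/-- The commutator map `c ↦ [c, α]`. -/
def fmap {G : Type u} [Group G] (α : MulAut G) (c : G) : G := c * (α c)⁻¹

section
variable {G : Type u} [Group G] (α : MulAut G)

lemma comm_iterate (k : ℕ) (c : G) : α ((fmap α)^[k] c) = (fmap α)^[k] (α c) := by
  induction k generalizing c with
  | zero => rfl
  | succ k ih =>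
    rw [Function.iterate_succ_apply, Function.iterate_succ_apply, ih]
    congr 1
    simp [fmap]

lemma map_closure_eq (S : Set G) (hS : α '' S = S) : (Subgroup.closure S).map α.toMonoidHom = Subgroup.closure S := by
  rw [MonoidHom.map_closure]
  exact congrArg Subgroup.closure hS

lemma image_range (k : ℕ) : α '' Set.range ((fmap α)^[k]) = Set.range ((fmap α)^[k]) := by
  refine Set.Subset.antisymm ?_ ?_
  · rintro _ ⟨_, ⟨c, rfl⟩, rfl⟩; exact ⟨α c, (comm_iterate α k c).symm⟩
  · rintro _ ⟨c, rfl⟩
    exact ⟨_, ⟨α⁻¹ c, rfl⟩, by rw [comm_iterate]; simp⟩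

/-- `D`-elements with left component in an invariant subgroup. -/
def leftIn (K : Subgroup G) (hK : K.map α.toMonoidHom = K) :
    Subgroup (G ⋊[(zpowers α).subtype] ↥(zpowers α)) :=
  have hinv : ∀ (σ : ↥(zpowers α)), ∀ x ∈ K, (σ : MulAut G) x ∈ K := fun σ x hx => by
    have h : zpowers α ≤ MulAction.stabilizer (MulAut G) K := zpowers_le.2 hK
    have h2 : (σ : MulAut G) • K = K := h σ.2
    rw [← h2]
    exact ⟨x, hx, rfl⟩
  { carrier := {d | d.left ∈ K}
    one_mem' := K.one_mem
    mul_mem' := fun {a b} ha hb => K.mul_mem ha (hinv _ _ hb)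
    inv_mem' := fun {a} ha => hinv a.right⁻¹ _ (K.inv_mem ha) }
lemma mem_leftIn {K : Subgroup G} {hK : K.map α.toMonoidHom = K}
    {d : G ⋊[(zpowers α).subtype] ↥(zpowers α)} : d ∈ leftIn α K hK ↔ d.left ∈ K := Iff.rfl
end

theorem main : ∀ (n : ℕ) (G : Type u) [Group G] [Finite G], Nat.card G ≤ n → ∀ α : MulAut G,
    closure (Set.range (fmap α)) = ⊤ → ∀ k, 1 ≤ k → closure (Set.range ((fmap α)^[k])) = ⊤ := by
  intro n
  induction n using Nat.strong_induction_on with
  | _ n ih =>
    intro G _ _ hn α hG k hk
    by_contra hK
    haveI : Finite (G ⋊[(zpowers α).subtype] ↥(zpowers α)) := .of_equiv _ SemidirectProduct.equivProd.symm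
    set K := closure (Set.range ((fmap α)^[k])) with hKdef
    have hKα : K.map α.toMonoidHom = K := map_closure_eq α _ (image_range α k)
    set D := G ⋊[(zpowers α).subtype] ↥(zpowers α) with hD
    set a : D := SemidirectProduct.inr ⟨α, mem_zpowers α⟩ with ha
    set A : Subgroup D := zpowers a with hA
    set J := leftIn α K hKα with hJ
    have hmem : ∀ d : D, d ∈ J ↔ d.left ∈ K := fun d => Iff.rfl
    have hJtop : J ≠ ⊤ := fun h => hK ((eq_top_iff' _).2 fun g =>
      (hmem (SemidirectProduct.inl g)).1 (h ▸ mem_top _))
    have haJ : a ∈ J := (hmem a).2 (by simp [ha])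
    have hAJ : A ≤ J := zpowers_le.2 haJ
    have hAtop : A ≠ ⊤ := fun h => hJtop (top_le_iff.1 (h ▸ hAJ))
    have hconj : ∀ g : G, SemidirectProduct.inl g * a * (SemidirectProduct.inl g)⁻¹ =
        SemidirectProduct.inl (fmap α g) * a := by
      intro g
      have h : (SemidirectProduct.inl (α g⁻¹) : D) = a * SemidirectProduct.inl g⁻¹ * a⁻¹ := by
        rw [ha, ← map_inv SemidirectProduct.inr]
        exact SemidirectProduct.inl_aut (φ := (zpowers α).subtype) ⟨α, mem_zpowers α⟩ g⁻¹
      rw [fmap, map_mul, ← map_inv α, h, map_inv]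
      simp [mul_assoc]
    have hA0 : ∀ d : D, SemidirectProduct.inr d.right ∈ A := by
      intro d
      obtain ⟨i, hi⟩ := mem_zpowers_iff.1 d.right.2
      refine ⟨i, ?_⟩
      show a ^ i = _
      rw [ha, ← map_zpow]
      congr 1
      exact Subtype.ext hi
    have hgen : Gen A ⊤ := by
      refine ⟨le_top, fun N hAN _ hn => top_le_iff.1 ?_⟩
      haveI := normalizer_eq_top_iff.1 (top_le_iff.1 hn)
      have h1 : closure (Set.range (fmap α)) ≤ N.comap SemidirectProduct.inl := by
        rw [closure_le]
        rintro _ ⟨g, rfl⟩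
        have h2 := (inferInstance : N.Normal).conj_mem a (hAN (mem_zpowers a)) (SemidirectProduct.inl g)
        rw [hconj] at h2
        exact (N.mul_mem_cancel_right (hAN (mem_zpowers a))).1 h2
      rw [hG] at h1
      intro d _
      rw [← SemidirectProduct.inl_left_mul_inr_right d]
      exact mul_mem (h1 (mem_top d.left)) (hAN (hA0 d))
    obtain ⟨V, hV, hJV⟩ := (eq_top_or_exists_le_coatom J).resolve_left hJtop
    have hAV : A ≤ V := hAJ.trans hJV
    have hH : ∀ H, Gen A H → H ≠ ⊤ → H ≤ V := by
      intro H hH hHtop
      set L := H.comap (SemidirectProduct.inl (φ := (zpowers α).subtype)) with hL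
      suffices hLK : L ≤ K by
        intro d hd
        refine hJV ((hmem d).2 (hLK ?_))
        show SemidirectProduct.inl d.left ∈ H
        refine (H.mul_mem_cancel_right (hH.1 (hA0 d))).1 ?_
        rwa [SemidirectProduct.inl_left_mul_inr_right]
      have hLtop : L ≠ ⊤ := fun h => hHtop ((eq_top_iff' _).2 fun d => by
        rw [← SemidirectProduct.inl_left_mul_inr_right d]
        exact mul_mem (show SemidirectProduct.inl d.left ∈ H from (h ▸ mem_top d.left : d.left ∈ L))
          (hH.1 (hA0 d)))
      have hLα : L.map α.toMonoidHom = L := by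
        refine eq_of_le_of_card_ge ?_ (card_map_of_injective α.injective).ge
        rintro _ ⟨x, hx, rfl⟩
        show SemidirectProduct.inl (α x) ∈ H
        have h1 := H.mul_mem (H.mul_mem (hH.1 (mem_zpowers a)) hx) (H.inv_mem (hH.1 (mem_zpowers a)))
        rwa [ha, ← map_inv SemidirectProduct.inr, ← SemidirectProduct.inl_aut] at h1
      let β : MulAut L := (α.subgroupMap L).trans (MulEquiv.subgroupCongr hLα)
      have hβ : ∀ x : L, (β x : G) = α x := fun x => rfl
      have hit : ∀ j, ∀ x : L, (((fmap β)^[j] x : L) : G) = (fmap α)^[j] x := by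
        intro j
        induction j with
        | zero => intro x; rfl
        | succ j ih2 =>
          intro x
          rw [Function.iterate_succ_apply', Function.iterate_succ_apply', ← ih2]
          simp [fmap, hβ]
      set L₀ := closure (Set.range (fmap β)) with hL₀
      have hL₀top : L₀ = ⊤ := by
        let M : Subgroup D := (L₀.map L.subtype).map SemidirectProduct.inl ⊔ A
        have hgenmem : ∀ x : L, SemidirectProduct.inl ((fmap β x : L) : G) ∈ M := fun x =>
          mem_sup_left (mem_map_of_mem _ (mem_map_of_mem _ (subset_closure (Set.mem_range_self x))))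
        have hMH : M ≤ H := sup_le (map_le_iff_le_comap.2 (map_subtype_le _)) hH.1
        have hnormL : ∀ h : L, SemidirectProduct.inl (h : G) ∈ normalizer (M : Set D) := by
          intro h
          have hle : ∀ h : L, M.map (MulAut.conj (SemidirectProduct.inl (h : G) : D)).toMonoidHom ≤ M := by
            intro h
            rw [map_le_iff_le_comap]
            refine sup_le ?_ (zpowers_le.2 ?_)
            · rw [Subgroup.map_map, map_le_iff_le_comap, hL₀, closure_le]
              rintro _ ⟨x, rfl⟩
              show SemidirectProduct.inl (h : G) * SemidirectProduct.inl ((fmap β x : L) : G) *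
                (SemidirectProduct.inl (h : G))⁻¹ ∈ M
              rw [← map_inv, ← map_mul, ← map_mul]
              have e : (h : G) * ((fmap β x : L) : G) * (h : G)⁻¹ =
                  ((fmap β (h * x) : L) : G) * ((fmap β h : L) : G)⁻¹ := by
                simp [fmap, hβ, mul_assoc]
              rw [e, map_mul, map_inv]
              exact mul_mem (hgenmem _) (inv_mem (hgenmem _))
            · show SemidirectProduct.inl (h : G) * a * (SemidirectProduct.inl (h : G))⁻¹ ∈ M
              rw [hconj]
              have e : fmap α (h : G) = ((fmap β h : L) : G) := by simp [fmap, hβ]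
              rw [e]
              exact mul_mem (hgenmem h) (mem_sup_right (mem_zpowers a))
          exact mem_normalizer_iff_map_conj_eq.2
            (eq_of_le_of_card_ge (hle h) (card_map_of_injective (MulAut.conj _).injective).ge)
        have hM : M = H := hH.2 M le_sup_right hMH fun d hd => by
          rw [← SemidirectProduct.inl_left_mul_inr_right d]
          refine mul_mem (hnormL ⟨d.left, ?_⟩) (le_normalizer (mem_sup_right (hA0 d)))
          show SemidirectProduct.inl d.left ∈ H
          refine (H.mul_mem_cancel_right (hH.1 (hA0 d))).1 ?_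
          rwa [SemidirectProduct.inl_left_mul_inr_right]
        have hLLα : (L₀.map L.subtype).map α.toMonoidHom = L₀.map L.subtype := by
          have h1 : L₀.map β.toMonoidHom = L₀ := map_closure_eq β _
            (by simpa using image_range β 1)
          conv_rhs => rw [← h1]
          rw [Subgroup.map_map, Subgroup.map_map]
          rfl
        have hMle : M ≤ leftIn α (L₀.map L.subtype) hLLα := by
          refine sup_le ?_ (zpowers_le.2 ?_)
          · rintro _ ⟨x, hx, rfl⟩
            rw [mem_leftIn, SemidirectProduct.left_inl]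
            exact hx
          · rw [mem_leftIn, ha, SemidirectProduct.left_inr]
            exact one_mem _
        refine (eq_top_iff' _).2 fun x => ?_
        have h2 : (SemidirectProduct.inl (x : G) : D) ∈ M := hM ▸ x.2
        obtain ⟨y, hy, hyx⟩ : (x : G) ∈ L₀.map L.subtype := by
          have h5 := (mem_leftIn α).1 (hMle h2)
          rwa [SemidirectProduct.left_inl] at h5
        rwa [← Subtype.ext hyx]
      have hlt : Nat.card L < n := lt_of_lt_of_le (lt_of_le_of_ne (card_le_card_group L)
        fun h => hLtop (eq_top_of_card_eq L h)) hn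
      have h3 := ih _ hlt L le_rfl β hL₀top k hk
      have h4 : (closure (Set.range ((fmap β)^[k]))).map L.subtype ≤ K := by
        rw [MonoidHom.map_closure, closure_le]
        rintro _ ⟨_, ⟨x, rfl⟩, rfl⟩
        exact subset_closure ⟨(x : G), (hit k x).symm⟩
      intro x hx
      exact h4 ⟨⟨x, hx⟩, h3 ▸ mem_top _, rfl⟩
    have huniq := unique_coatom _ A V le_rfl hgen hV hAV hH
    -- the iterates of a suitable element avoid `V`
    have hVn : ∀ d : D, d ∈ normalizer (V : Set D) → d ∈ V := by
      intro d hd
      rcases eq_or_lt_of_le (le_normalizer : V ≤ normalizer (V : Set D)) with h | h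
      · exact h ▸ hd
      · exact absurd (normalizer_eq_top_iff.1 (hV.2 _ h)) (not_top_le hgen hAV le_rfl hV.1)
    have hstep : ∀ g : G, SemidirectProduct.inl (fmap α g) * a ∉ V →
        SemidirectProduct.inl (fmap α (fmap α g)) * a ∉ V := by
      intro g hg hmem'
      rw [← hconj] at hmem'
      set β : D := SemidirectProduct.inl (fmap α g) * a with hβ
      have h1 : β * a * β⁻¹ ∈ V := by
        convert hmem' using 1
        simp [hβ, mul_assoc]
      have h2 : A ≤ cj β⁻¹ V := zpowers_le.2 (mem_cj.2 (by rwa [inv_inv]))
      have h3 := huniq _ (isCoatom_cj hV) h2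
      exact hg (inv_mem_iff.1 (hVn _ (mem_normalizer_of_cj h3)))
    obtain ⟨g, hg⟩ : ∃ g : G, SemidirectProduct.inl (fmap α g) * a ∉ V := by
      by_contra hall
      push Not at hall
      refine hV.1 ((eq_top_iff' _).2 fun d => ?_)
      rw [← SemidirectProduct.inl_left_mul_inr_right d]
      refine mul_mem ?_ (hAV (hA0 d))
      have h1 : closure (Set.range (fmap α)) ≤ V.comap SemidirectProduct.inl := by
        rw [closure_le]
        rintro _ ⟨g, rfl⟩
        exact (V.mul_mem_cancel_right (hAV (mem_zpowers a))).1 (hall g)
      rw [hG] at h1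
      exact h1 (mem_top d.left)
    have hiter : ∀ j, SemidirectProduct.inl ((fmap α)^[j + 1] g) * a ∉ V := by
      intro j
      induction j with
      | zero => exact hg
      | succ j ih2 =>
        rw [Function.iterate_succ_apply'] at ih2 ⊢
        have h := hstep _ ih2
        rwa [← Function.iterate_succ_apply' (fmap α) j g] at h
    obtain ⟨j, rfl⟩ : ∃ j, k = j + 1 := ⟨k - 1, by omega⟩
    refine hiter j (mul_mem (hJV ((hmem _).2 ?_)) (hAV (mem_zpowers a)))
    rw [SemidirectProduct.left_inl]
    exact subset_closure (Set.mem_range_self g)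


/-- Let G be a finite group and α an automorphism of G with [G, α] = G, that is, the elements g·α(g)⁻¹ generate G. Then for every k ≥ 1 the iterated commutators [g, α, …, α] with k entries α — the values of the k-th iterate of the map c ↦ c·α(c)⁻¹ — also generate G. -/
theorem result {G : Type*} [Group G] [Finite G] (α : MulAut G) (hG : Subgroup.closure (Set.range (fun c : G => c * (α c)⁻¹)) = ⊤) (k : ℕ) (hk : 1 ≤ k) :
    Subgroup.closure (Set.range ((fun c : G => c * (α c)⁻¹)^[k])) = ⊤ := by
  exact main _ G le_rfl α hG k hk

end Cfsg.Agent.S3927
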