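import Cfsg.Statements.S3930
import Cfsg.Agent.Lib.Pyramidal.Main
import Cfsg.Agent.Lib.Pyramidal.Example

set_option autoImplicit false
open Cfsg

namespace Cfsg.Agent.S3930

/-- Call a finite group m-pyramidal when it has exactly m involutions and they form a single conjugacy class. Let p be an odd prime and k ≥ 1. Then every p^k-pyramidal finite group is solvable if and only if k is odd or p^k = 9. -/
theorem result (p k : ℕ) (hp : p.Prime) (hp2 : p ≠ 2) (hk : 1 ≤ k) :
    (∀ (G : Type) [Group G] [Finite G], Nat.card {x : G // orderOf x = 2} = p ^ k →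
      (∀ x y : G, orderOf x = 2 → orderOf y = 2 → ∃ g : G, g * x * g⁻¹ = y) → Group.IsSolvable G) ↔ (Odd k ∨ p ^ k = 9) := by
  constructor
  · intro h
    by_contra hne
    push Not at hne
    obtain ⟨hk2, h9⟩ := hne
    obtain ⟨j, rfl⟩ := Nat.not_odd_iff_even.1 hk2
    haveI : Fact p.Prime := ⟨hp⟩
    have hj : j ≠ 0 := by omega
    haveI : Finite (GaloisField p j) := Nat.finite_of_card_ne_zero (by
      rw [GaloisField.card p j hj]; exact (pow_pos hp.pos j).ne')
    have h4 : 4 ≤ p ^ j := by
      by_contra hlt
      have hple : p ^ 1 ≤ p ^ j := Nat.pow_le_pow_right hp.pos (by omega)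
      rw [pow_one] at hple
      have hp3 : p = 3 := by
        have := hp.two_le
        omega
      subst hp3
      have hj1 : j = 1 := by
        by_contra hj1
        have : 3 ^ 2 ≤ 3 ^ j := Nat.pow_le_pow_right (by norm_num) (by omega)
        omega
      subst hj1
      exact h9 (by norm_num)
    have h2 : (2 : GaloisField p j) ≠ 0 := by
      intro e
      have e' : ((2 : ℕ) : GaloisField p j) = 0 := by exact_mod_cast e
      rw [CharP.cast_eq_zero_iff (GaloisField p j) p] at e'
      exact hp2 ((Nat.prime_dvd_prime_iff_eq hp Nat.prime_two).1 e')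
    obtain ⟨hfin, hcard, hconj, hns⟩ := CfsgLib.Pyramidal.aff_spec (F := GaloisField p j) h2
      (by rw [GaloisField.card p j hj]; exact h4)
    haveI := hfin
    refine hns (h _ ?_ hconj)
    rw [hcard, GaloisField.card p j hj, ← pow_mul, mul_two]
  · intro hpar G _ _ hcard hconj
    exact CfsgLib.Pyramidal.isSolvable_of_pyramidal hp hp2 hcard hconj hpar

end Cfsg.Agent.S3930
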