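import Cfsg.Statements.S3933
import Cfsg.Agent.S0144
import Cfsg.Agent.Lib.PGroup.IndexPow

set_option autoImplicit false
open Cfsg

namespace Cfsg.Agent.S3933

universe u

open Subgroup

/-- One or a prime power. -/
def Good (n : ℕ) : Prop := n = 1 ∨ IsPrimePow n

theorem Good.of_dvd {m n : ℕ} (hn : Good n) (h : m ∣ n) : Good m := by
  rcases hn with rfl | hn
  · exact Or.inl (Nat.dvd_one.1 h)
  · obtain ⟨p, k, hp, -, rfl⟩ := (isPrimePow_nat_iff n).1 hn
    obtain ⟨i, -, rfl⟩ := (Nat.dvd_prime_pow hp).1 h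
    rcases Nat.eq_zero_or_pos i with rfl | hi
    · exact Or.inl (pow_zero p)
    · exact Or.inr (isPrimePow_nat_iff _ |>.2 ⟨p, i, hp, hi, rfl⟩)

variable {G : Type u} [Group G] [Finite G]

theorem card_sylow_quotient_dvd (N : Subgroup G) [N.Normal] (r : ℕ) [Fact r.Prime] :
    Nat.card (Sylow r (G ⧸ N)) ∣ Nat.card (Sylow r G) := by
  obtain ⟨P⟩ : Nonempty (Sylow r G) := inferInstance
  set f := QuotientGroup.mk' N with hf
  have hs : Function.Surjective f := QuotientGroup.mk'_surjective N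
  rw [(P.mapSurjective hs).card_eq_index_normalizer, P.card_eq_index_normalizer]
  show (normalizer (((P : Subgroup G).map f : Subgroup _) : Set (G ⧸ N))).index ∣
    (normalizer ((P : Subgroup G) : Set G)).index
  exact (index_dvd_of_le (le_normalizer_map f)).trans (index_map_dvd _ hs)

theorem card_sylow_normal_dvd (N : Subgroup G) [N.Normal] (r : ℕ) [Fact r.Prime] :
    Nat.card (Sylow r N) ∣ Nat.card (Sylow r G) := by
  obtain ⟨Q⟩ : Nonempty (Sylow r N) := inferInstance
  obtain ⟨P, hP⟩ := (Q.2.map N.subtype).exists_le_sylow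
  have hPQ : (P : Subgroup G) ⊓ N = (Q : Subgroup N).map N.subtype := by
    refine le_antisymm ?_ (le_inf hP (map_subtype_le _))
    have h := Q.3 (Q := ((P : Subgroup G)).subgroupOf N) (P.2.comap_subtype)
      (fun x hx => hP (mem_map_of_mem _ hx))
    rw [← h, subgroupOf_map_subtype]
  set H := normalizer (((Q : Subgroup N).map N.subtype : Subgroup G) : Set G) with hH
  have hle : normalizer ((P : Subgroup G) : Set G) ≤ H := by
    intro g hg
    rw [hH, ← hPQ, mem_normalizer_iff]
    intro x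
    simp only [mem_inf]
    rw [mem_normalizer_iff.1 hg x, (inferInstance : N.Normal).mem_comm_iff, mul_assoc,
      inv_mul_cancel_left]
  have hsup : H ⊔ N = ⊤ := Sylow.normalizer_sup_eq_top Q
  have hidx : H.relIndex N = H.index := by
    have h1 : N.index = N.relIndex H := by
      have := relIndex_sup_right (H := H) (K := N)
      rwa [hsup, relIndex_top_right] at this
    have h2 := relIndex_mul_index (inf_le_right : H ⊓ N ≤ N)
    have h3 := relIndex_mul_index (inf_le_left : H ⊓ N ≤ H)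
    rw [inf_relIndex_right] at h2
    rw [inf_relIndex_left, ← h1, ← h2, mul_comm] at h3
    exact (Nat.eq_of_mul_eq_mul_right (Nat.pos_of_ne_zero index_ne_zero_of_finite) h3).symm
  rw [Q.card_eq_index_normalizer, P.card_eq_index_normalizer]
  refine (dvd_of_eq ?_).trans (hidx ▸ index_dvd_of_le hle)
  show (normalizer ((Q : Subgroup N) : Set N)).index = (H.subgroupOf N).index
  rw [hH, subgroupOf_normalizer_eq (map_subtype_le _)]
  congr 2
  exact congrArg _ (comap_map_eq_self_of_injective N.subtype_injective _).symm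

theorem exists_sylow_le {H : Subgroup G} {q b : ℕ} (hq : q.Prime) (hH : H.index = q ^ b) (r : ℕ)
    [Fact r.Prime] (hr : r ≠ q) : ∃ R : Sylow r G, (R : Subgroup G) ≤ H := by
  obtain ⟨S⟩ : Nonempty (Sylow r H) := inferInstance
  refine ⟨Sylow.ofCard ((S : Subgroup H).map H.subtype) ?_, map_subtype_le _⟩
  rw [card_map_of_injective H.subtype_injective, S.card_eq_multiplicity, ← H.card_mul_index, hH,
    Nat.factorization_mul Nat.card_pos.ne' (pow_ne_zero _ hq.ne_zero), Finsupp.add_apply,
    hq.factorization_pow, Finsupp.single_eq_of_ne hr, add_zero]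

open scoped commutatorElement in
/-- A simple group in which every Sylow normaliser has prime power index is abelian. -/
theorem simple_case [IsSimpleGroup G] (hns : ¬ Group.IsSolvable G)
    (h : ∀ (r : ℕ) [Fact r.Prime], Good (Nat.card (Sylow r G))) : False := by
  classical
  have hbot : ∀ {p : ℕ} [Fact p.Prime], p ∣ Nat.card G → ∀ P : Sylow p G,
      (P : Subgroup G) ≠ ⊥ ∧ ¬ (P : Subgroup G).Normal := by
    intro p _ hp P
    refine ⟨P.ne_bot_of_dvd_card hp, fun hn => ?_⟩
    rcases hn.eq_bot_or_eq_top with e | e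
    · exact P.ne_bot_of_dvd_card hp e
    · refine hns ?_
      have hP := P.2
      rw [e] at hP
      have := (hP.of_equiv topEquiv).isNilpotent
      infer_instance
  have hpart : ∀ p : ℕ, p.Prime → p ∣ Nat.card G → ∃ q b : ℕ, q.Prime ∧ q ≠ p ∧ q ∣ Nat.card G ∧
      ∀ [Fact p.Prime] (P : Sylow p G), (normalizer ((P : Subgroup G) : Set G)).index = q ^ b := by
    intro p hp hpG
    have := Fact.mk hp
    rcases h p with h1 | h1
    · obtain ⟨P⟩ : Nonempty (Sylow p G) := inferInstance
      have : Subsingleton (Sylow p G) := (Nat.card_eq_one_iff_unique.1 h1).1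
      exact absurd (Sylow.normal_of_subsingleton P) (hbot hpG P).2
    · obtain ⟨q, b, hq, hb, hqb⟩ := (isPrimePow_nat_iff _).1 h1
      obtain ⟨P0⟩ : Nonempty (Sylow p G) := inferInstance
      refine ⟨q, b, hq, fun e => ?_, ?_, fun P => P.card_eq_index_normalizer.symm.trans hqb.symm⟩
      · have hm := card_sylow_modEq_one p G
        rw [← hqb, e] at hm
        have h0 : p ^ b ≡ 0 [MOD p] := Nat.modEq_zero_iff_dvd.2 (dvd_pow_self p hb.ne')
        exact hp.ne_one (Nat.dvd_one.1 (Nat.modEq_zero_iff_dvd.1 (hm.symm.trans h0)))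
      · refine (dvd_pow_self q hb.ne').trans ?_
        rw [hqb, P0.card_eq_index_normalizer]
        exact index_dvd_card _
  choose! q b hq hqp hqG hidx using hpart
  -- no Sylow subgroup normalises one of the prime of its index
  have hA : ∀ p : ℕ, p.Prime → p ∣ Nat.card G → ∀ [Fact p.Prime] (P : Sylow p G)
      [Fact (q p).Prime] (Q : Sylow (q p) G),
      ¬ (P : Subgroup G) ≤ normalizer ((Q : Subgroup G) : Set G) := by
    intro p hp hpG _ P _ Q hPQ
    have hle : normalClosure ((P : Subgroup G) : Set G) ≤ (P : Subgroup G) ⊔ Q := by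
      rw [normalClosure, closure_le]
      intro x hx
      obtain ⟨y, hy, hc⟩ := Group.mem_conjugatesOfSet_iff.1 hx
      obtain ⟨g, rfl⟩ := isConj_iff.1 hc
      obtain ⟨u, hu, c, hcN, rfl⟩ :=
        CfsgLib.PGroup.IndexPow.exists_mul_of_index_pow (hidx p hp hpG P) Q g
      rw [show u * c * y * (u * c)⁻¹ = u * (c * y * c⁻¹) * u⁻¹ by group]
      exact mul_mem (mul_mem (le_sup_right (a := (P : Subgroup G)) hu)
        (le_sup_left (b := (Q : Subgroup G)) ((mem_normalizer_iff.1 hcN y).1 hy)))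
        (inv_mem (le_sup_right (a := (P : Subgroup G)) hu))
    have htop : (P : Subgroup G) ⊔ Q = ⊤ := by
      rcases (normalClosure_normal (s := ((P : Subgroup G) : Set G))).eq_bot_or_eq_top with e | e
      · exact absurd (le_bot_iff.1 (e ▸ le_normalClosure)) (hbot hpG P).1
      · exact top_le_iff.1 (e ▸ hle)
    have hn : (Q : Subgroup G).Normal := by
      rw [← normalizer_eq_top_iff]
      exact top_le_iff.1 (htop ▸ sup_le hPQ le_normalizer)
    exact (hbot (hqG p hp hpG) Q).2 hn
  have hB : ∀ p : ℕ, p.Prime → p ∣ Nat.card G → q (q p) = p := by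
    intro p hp hpG
    by_contra hne
    have := Fact.mk hp
    have := Fact.mk (hq p hp hpG)
    obtain ⟨Q⟩ : Nonempty (Sylow (q p) G) := inferInstance
    obtain ⟨P, hP⟩ := exists_sylow_le (hq _ (hq p hp hpG) (hqG p hp hpG))
      (hidx _ (hq p hp hpG) (hqG p hp hpG) Q) p (Ne.symm hne)
    exact hA p hp hpG P Q hP
  -- two matched pairs
  obtain ⟨p, hp, hpG⟩ : ∃ p, p.Prime ∧ p ∣ Nat.card G :=
    Nat.exists_prime_and_dvd fun e => hns (by
      have := (Nat.card_eq_one_iff_unique.1 e).1
      exact Group.isSolvable_of_comm fun _ _ => Subsingleton.elim _ _)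
  obtain ⟨s, hs, hsG, hsp, hsq⟩ : ∃ s, s.Prime ∧ s ∣ Nat.card G ∧ s ≠ p ∧ s ≠ q p := by
    by_contra hno
    push Not at hno
    refine hns ?_
    have hsub : (Nat.card G).primeFactors ⊆ {p, q p} := fun r hr => by
      obtain ⟨hr1, hr2, -⟩ := Nat.mem_primeFactors.1 hr
      rw [Finset.mem_insert, Finset.mem_singleton]
      exact or_iff_not_imp_left.2 (hno r hr1 hr2)
    have hfac := Nat.prod_factorization_pow_eq_self (n := Nat.card G) Nat.card_pos.ne'
    rw [Finsupp.prod_of_support_subset (s := {p, q p}) _ (by rwa [Nat.support_factorization]) _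
      (fun i _ => pow_zero i), Finset.prod_pair (hqp p hp hpG).symm] at hfac
    exact Cfsg.Agent.S0144.isSolvable p (q p) hp (hq p hp hpG) _ G rfl _ _ hfac.symm
  have := Fact.mk hp
  have := Fact.mk hs
  set t := q s with ht
  have htq : t ≠ q p := fun e => hsp (by
    rw [← hB s hs hsG, ← hB p hp hpG]; exact congrArg q e)
  have htp : t ≠ p := fun e => hsq (by rw [← hB s hs hsG, ← ht, e])
  obtain ⟨P⟩ : Nonempty (Sylow p G) := inferInstance
  obtain ⟨S, hS⟩ := exists_sylow_le (hq p hp hpG) (hidx p hp hpG P) s hsq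
  obtain ⟨P', hP'⟩ := exists_sylow_le (hq s hs hsG) (hidx s hs hsG S) p htp.symm
  have := Fact.mk (hq s hs hsG)
  obtain ⟨T, hT⟩ := exists_sylow_le (hq p hp hpG) (hidx p hp hpG P) t htq
  have hprod : ∀ g : G, ∃ u ∈ normalizer ((P : Subgroup G) : Set G),
      ∃ c ∈ normalizer ((S : Subgroup G) : Set G), g = u * c := fun g => by
    obtain ⟨u, hu, c, hc, e⟩ :=
      CfsgLib.PGroup.IndexPow.exists_mul_of_index_pow (hidx s hs hsG S) T g
    exact ⟨u, hT hu, c, hc, e⟩
  -- `P` normalises `S`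
  have hPS : (P : Subgroup G) ≤ normalizer ((S : Subgroup G) : Set G) := by
    obtain ⟨a, ha⟩ := MulAction.exists_smul_eq G P P'
    obtain ⟨n, hn, m, hm, e⟩ := hprod a⁻¹
    intro x hx
    have h1 : n * x * n⁻¹ ∈ (P : Subgroup G) := (mem_normalizer_iff.1 hn x).1 hx
    have h2 : a * (n * x * n⁻¹) * a⁻¹ ∈ (P' : Subgroup G) := by
      rw [← ha, Sylow.coe_subgroup_smul]
      exact ⟨_, h1, rfl⟩
    have h3 : m⁻¹ * x * m ∈ normalizer ((S : Subgroup G) : Set G) := by
      have ea : a = m⁻¹ * n⁻¹ := by rw [← inv_inv a, e, mul_inv_rev]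
      have h4 := hP' h2
      rwa [ea, show m⁻¹ * n⁻¹ * (n * x * n⁻¹) * (m⁻¹ * n⁻¹)⁻¹ = m⁻¹ * x * m by group] at h4
    have h5 := mul_mem (mul_mem hm h3) (inv_mem hm)
    rwa [show m * (m⁻¹ * x * m) * m⁻¹ = x by group] at h5
  have hcomm : ∀ x ∈ (P : Subgroup G), ∀ y ∈ (S : Subgroup G), x * y = y * x := by
    intro x hx y hy
    rw [← commutatorElement_eq_one_iff_mul_comm, ← mem_bot, ← disjoint_iff.1
      (IsPGroup.disjoint_of_ne p s hsp.symm _ _ P.2 S.2), mem_inf, commutatorElement_def]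
    refine ⟨?_, mul_mem ((mem_normalizer_iff.1 (hPS hx) y).1 hy) (inv_mem hy)⟩
    rw [show x * y * x⁻¹ * y⁻¹ = x * (y * x⁻¹ * y⁻¹) by group]
    exact mul_mem hx ((mem_normalizer_iff.1 (hS hy) _).1 (inv_mem hx))
  have hle : normalClosure ((P : Subgroup G) : Set G) ≤ centralizer ((S : Subgroup G) : Set G) := by
    rw [normalClosure, closure_le]
    intro x hx
    obtain ⟨x0, hx0, hc⟩ := Group.mem_conjugatesOfSet_iff.1 hx
    obtain ⟨g, rfl⟩ := isConj_iff.1 hc
    obtain ⟨u, hu, c, hcN, e⟩ := hprod g⁻¹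
    have eg : g = c⁻¹ * u⁻¹ := by rw [← inv_inv g, e, mul_inv_rev]
    refine mem_centralizer_iff.2 fun y hy => ?_
    have h1 : u⁻¹ * x0 * u ∈ (P : Subgroup G) := by
      have := (mem_normalizer_iff.1 (inv_mem hu) x0).1 hx0
      rwa [inv_inv] at this
    have h2 := hcomm _ h1 _ ((mem_normalizer_iff.1 hcN y).1 hy)
    rw [eg]
    calc y * (c⁻¹ * u⁻¹ * x0 * (c⁻¹ * u⁻¹)⁻¹)
        = c⁻¹ * ((c * y * c⁻¹) * (u⁻¹ * x0 * u)) * c := by group
      _ = c⁻¹ * ((u⁻¹ * x0 * u) * (c * y * c⁻¹)) * c := by rw [h2]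
      _ = c⁻¹ * u⁻¹ * x0 * (c⁻¹ * u⁻¹)⁻¹ * y := by group
  have htop : centralizer ((S : Subgroup G) : Set G) = ⊤ := by
    rcases (normalClosure_normal (s := ((P : Subgroup G) : Set G))).eq_bot_or_eq_top with e | e
    · exact absurd (le_bot_iff.1 (e ▸ le_normalClosure)) (hbot hpG P).1
    · exact top_le_iff.1 (e ▸ hle)
  refine (hbot hsG S).2 ⟨fun y hy g => ?_⟩
  have hg : g ∈ centralizer ((S : Subgroup G) : Set G) := htop ▸ mem_top g
  rwa [← mem_centralizer_iff.1 hg y hy, mul_inv_cancel_right]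

theorem solvable_aux : ∀ (n : ℕ) (G : Type u) [Group G] [Finite G], Nat.card G = n →
    (∀ (r : ℕ) [Fact r.Prime], Good (Nat.card (Sylow r G))) → Group.IsSolvable G := by
  intro n
  induction n using Nat.strong_induction_on with
  | _ n ih =>
    intro G _ _ hn h
    subst hn
    by_contra hns
    have : Nontrivial G := by
      by_contra ht
      rw [not_nontrivial_iff_subsingleton] at ht
      exact hns (Group.isSolvable_of_comm fun _ _ => Subsingleton.elim _ _)
    by_cases hN : ∃ N : Subgroup G, N.Normal ∧ N ≠ ⊥ ∧ N ≠ ⊤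
    · obtain ⟨N, hNn, hNb, hNt⟩ := hN
      refine hns ((Group.isSolvable_iff_subgroup_quotient N).2 ⟨?_, ?_⟩)
      · exact ih _ (lt_of_le_of_ne (card_le_card_group N) fun e => hNt ((card_eq_iff_eq_top N).1 e))
          N rfl fun r _ => (h r).of_dvd (card_sylow_normal_dvd N r)
      · refine ih _ ?_ (G ⧸ N) rfl fun r _ => (h r).of_dvd (card_sylow_quotient_dvd N r)
        rw [card_eq_card_quotient_mul_card_subgroup N]
        exact lt_mul_of_one_lt_right Nat.card_pos ((one_lt_card_iff_ne_bot N).2 hNb)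
    · push Not at hN
      have : IsSimpleGroup G := ⟨fun N hn => or_iff_not_imp_left.2 (hN N hn)⟩
      exact simple_case hns h


/-- If for every prime r the number of Sylow r-subgroups of the finite group G is a prime power or 1, then G is solvable. -/
theorem result {G : Type*} [Group G] [Finite G] (h : ∀ (r : ℕ) [Fact r.Prime], Nat.card (Sylow r G) = 1 ∨ IsPrimePow (Nat.card (Sylow r G))) :
    Group.IsSolvable G := by
  exact solvable_aux _ G rfl h

end Cfsg.Agent.S3933
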