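import Cfsg.Statements.S3937
import Cfsg.Agent.Lib.Frobenius.Zipper
import Cfsg.Agent.Lib.Components.GenFitting

set_option autoImplicit false
open Cfsg

namespace Cfsg.Agent.S3937

open scoped commutatorElement

universe u

theorem replicate_foldl {G : Type u} [Group G] (g x : G) (n : ℕ) :
    (List.replicate n g).foldl (fun a b => a * b * a⁻¹ * b⁻¹) x = (fun a => ⁅a, g⁆)^[n] x := by
  induction n generalizing x with
  | zero => rfl
  | succ n ih =>
    rw [List.replicate_succ, List.foldl_cons, ih, Function.iterate_succ_apply]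
    rfl

theorem mem_fitting : ∀ (k : ℕ) (G : Type u) [Group G] [Finite G], Nat.card G = k → ∀ g : G,
    (∀ x : G, ∃ n : ℕ, (fun a => ⁅a, g⁆)^[n] x = 1) → g ∈ Cfsg.fittingSubgroup G := by
  intro k
  induction k using Nat.strong_induction_on with
  | _ k ih =>
  intro G _ _ hk g hg
  classical
  have hfin : ∀ {A : Subgroup G}, A = Subgroup.zpowers g → A.IsSubnormal → g ∈ Cfsg.fittingSubgroup G :=
    fun {A} hA h => CfsgLib.Components.le_fittingSubgroup_of_subnormal h
      (hA ▸ CfsgLib.Components.isNilpotent_of_isMulCommutative _) (hA ▸ Subgroup.mem_zpowers g)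
  by_cases hsn : (Subgroup.zpowers g).IsSubnormal
  · exact hfin rfl hsn
  exfalso
  have hsub : ∀ K : Subgroup G, Subgroup.zpowers g ≤ K → K ≠ ⊤ →
      ((Subgroup.zpowers g).subgroupOf K).IsSubnormal := by
    intro K hgK hKtop
    have hgK' : g ∈ K := hgK (Subgroup.mem_zpowers g)
    have hlt : Nat.card K < k := by
      rw [← hk]
      exact lt_of_le_of_ne (Subgroup.card_le_card_group K) fun e => hKtop (Subgroup.eq_top_of_card_eq _ e)
    have hgF := ih _ hlt K rfl ⟨g, hgK'⟩ fun x => by
      obtain ⟨n, hn⟩ := hg x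
      refine ⟨n, Subtype.ext ?_⟩
      have h2 : Function.Semiconj (Subtype.val : K → G) (fun a => ⁅a, (⟨g, hgK'⟩ : K)⁆)
          (fun a => ⁅a, g⁆) := fun a => rfl
      exact ((h2.iterate_right n).eq x).trans hn
    set F := Cfsg.fittingSubgroup K
    have hle : (Subgroup.zpowers g).subgroupOf K ≤ F := by
      rintro ⟨y, hy⟩ hy'
      obtain ⟨i, rfl⟩ := Subgroup.mem_zpowers_iff.1 (Subgroup.mem_subgroupOf.1 hy')
      exact (show (⟨g, hgK'⟩ : K) ^ i ∈ F from zpow_mem hgF i)
    exact Subgroup.IsSubnormal.trans hle (CfsgLib.Frobenius.Zipper.isSubnormal_of_isNilpotent _)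
      (Subgroup.Normal.isSubnormal inferInstance)
  obtain ⟨M, ⟨hM, hgM⟩, huniq⟩ := CfsgLib.Frobenius.Zipper.existsUnique_coatom hsub hsn
  have hMn : Subgroup.normalizer (M : Set G) = M := by
    refine (hM.le_iff.1 Subgroup.le_normalizer).resolve_left fun e => hsn ?_
    exact Subgroup.IsSubnormal.trans hgM (hsub M hgM hM.1)
      (Subgroup.normalizer_eq_top_iff.1 e).isSubnormal
  obtain ⟨x, hx⟩ : ∃ x : G, x ∉ M := by
    by_contra hall
    push Not at hall
    exact hM.1 (eq_top_iff.2 fun y _ => hall y)
  obtain ⟨n, hn⟩ := hg x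
  have hex : ∃ j, (fun a => ⁅a, g⁆)^[j] x ∈ M := ⟨n, hn ▸ M.one_mem⟩
  obtain ⟨j, hj⟩ : ∃ j, Nat.find hex = j + 1 := by
    refine ⟨Nat.find hex - 1, (Nat.succ_pred_eq_of_pos ((Nat.find_pos hex).2 ?_)).symm⟩
    exact hx
  set z := (fun a => ⁅a, g⁆)^[j] x with hz
  have hzM : z ∉ M := Nat.find_min hex (by omega)
  have hgz : ⁅z, g⁆ ∈ M := by
    have h1 := Nat.find_spec hex
    rwa [hj, Function.iterate_succ_apply'] at h1
  have hzg : z * g * z⁻¹ ∈ M := by
    have h1 := mul_mem hgz (hgM (Subgroup.mem_zpowers g))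
    rwa [commutatorElement_def, inv_mul_cancel_right] at h1
  set M' := M.comap (MulAut.conj z).toMonoidHom with hM'
  have hgM' : Subgroup.zpowers g ≤ M' := Subgroup.zpowers_le.2 hzg
  have hM'c : IsCoatom M' := by
    refine ⟨fun e => hM.1 ?_, fun N hN => ?_⟩
    · rw [← Subgroup.map_comap_eq_self_of_surjective (f := (MulAut.conj z).toMonoidHom)
        (MulAut.conj z).surjective M, ← hM', e, Subgroup.map_top_of_surjective _ (MulAut.conj z).surjective]
    · have h1 : M ≤ N.map (MulAut.conj z).toMonoidHom := by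
        rw [← Subgroup.map_comap_eq_self_of_surjective (f := (MulAut.conj z).toMonoidHom)
          (MulAut.conj z).surjective M]
        exact Subgroup.map_mono hN.le
      rcases hM.le_iff.1 h1 with h2 | h2
      · apply Subgroup.map_injective (f := (MulAut.conj z).toMonoidHom) (MulAut.conj z).injective
        rw [h2, Subgroup.map_top_of_surjective _ (MulAut.conj z).surjective]
      · exfalso
        refine hN.ne ?_
        rw [hM', ← h2, Subgroup.comap_map_eq_self_of_injective (f := (MulAut.conj z).toMonoidHom)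
          (MulAut.conj z).injective]
  have heq : M' = M := huniq M' ⟨hM'c, hgM'⟩
  refine hzM (hMn.le (Subgroup.mem_normalizer_iff.2 fun a => ?_))
  constructor
  · intro ha; rw [← heq] at ha; exact ha
  · intro ha; rw [← heq]; exact ha

/-- Baer's characterization of the Fitting subgroup: in a finite group G, an element g lies in the Fitting subgroup if and only if g is a left Engel element, that is, for every x there is n with [x, g, g, …, g] = 1 (n entries g, [a, b] = aba⁻¹b⁻¹). -/
theorem result {G : Type*} [Group G] [Finite G] (g : G) :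
    g ∈ Cfsg.fittingSubgroup G ↔ ∀ x : G, ∃ n : ℕ, (List.replicate n g).foldl (fun a b => a * b * a⁻¹ * b⁻¹) x = 1 := by
  constructor
  · intro hgF x
    set F := Cfsg.fittingSubgroup G
    have hstep : ∀ n, (fun a => ⁅a, g⁆)^[n + 1] x ∈ F.lowerCentralSeries n := by
      intro n
      induction n with
      | zero =>
        show ⁅x, g⁆ ∈ F
        rw [commutatorElement_def]
        exact mul_mem ((inferInstance : F.Normal).conj_mem g hgF x) (inv_mem hgF)
      | succ n ih =>
        rw [Function.iterate_succ_apply']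
        exact Subgroup.commutator_mem_commutator ih hgF
    refine ⟨Group.nilpotencyClass F + 1, ?_⟩
    rw [replicate_foldl]
    have h1 := hstep (Group.nilpotencyClass F)
    rwa [Subgroup.lowerCentralSeries_eq_bot_of_nilpotencyClass_le le_rfl, Subgroup.mem_bot] at h1
  · intro h
    exact mem_fitting _ G rfl g fun x => by
      obtain ⟨n, hn⟩ := h x
      exact ⟨n, by rwa [replicate_foldl] at hn⟩

end Cfsg.Agent.S3937
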