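import Cfsg.Statements.S3939
import Cfsg.Agent.Lib.Frobenius.Elements
import Cfsg.Agent.Lib.Coprime.Action

set_option autoImplicit false
open Cfsg
open scoped Pointwise commutatorElement

namespace Cfsg.Agent.S3939

/-- In a finite group G the set of elements g such that the subgroup generated by g and x is nilpotent for every x ∈ G is exactly the hypercenter of G (the last term of the upper central series). -/
theorem result {G : Type*} [Group G] [Finite G] (g : G) :
    (∀ x : G, Group.IsNilpotent ↥(Subgroup.closure ({x, g} : Set G))) ↔ g ∈ ⨆ n : ℕ, Subgroup.upperCentralSeries G n := by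
  classical
  haveI : Fintype G := Fintype.ofFinite G
  -- the hypercentre is a term of the series
  have hmemn : ∀ z, z ∈ (⨆ n, Subgroup.upperCentralSeries G n) ↔
      ∃ n, z ∈ Subgroup.upperCentralSeries G n := fun z =>
    Subgroup.mem_iSup_of_directed (Subgroup.upperCentralSeries_mono G).directed_le
  obtain ⟨n0, hn0⟩ : ∃ n0, ∀ z, z ∈ (⨆ n, Subgroup.upperCentralSeries G n) →
      z ∈ Subgroup.upperCentralSeries G n0 := by
    refine ⟨Finset.univ.sup fun z : G => if h : z ∈ ⨆ n, Subgroup.upperCentralSeries G n then
      ((hmemn z).mp h).choose else 0, fun z hz => ?_⟩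
    refine Subgroup.upperCentralSeries_mono G ?_ ((hmemn z).mp hz).choose_spec
    exact le_trans (by rw [dif_pos hz]) (Finset.le_sup (f := fun z : G =>
      if h : z ∈ ⨆ n, Subgroup.upperCentralSeries G n then ((hmemn z).mp h).choose else 0)
      (Finset.mem_univ z))
  constructor
  · intro h
    -- reduce to elements of prime power order
    suffices key : ∀ (p a : ℕ) (z : G), p.Prime → orderOf z = p ^ a →
        (∀ x : G, Group.IsNilpotent ↥(Subgroup.closure ({x, z} : Set G))) →
        z ∈ ⨆ n, Subgroup.upperCentralSeries G n by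
      refine CfsgLib.Frobenius.Elements.mem_of_primary fun z hz ⟨p, a, hp, _, hza⟩ =>
        key p a z hp hza fun x => ?_
      haveI := h x
      have hle : Subgroup.closure ({x, z} : Set G) ≤ Subgroup.closure ({x, g} : Set G) := by
        rw [Subgroup.closure_le]
        rintro w (rfl | rfl)
        · exact Subgroup.subset_closure (Or.inl rfl)
        · exact (Subgroup.zpowers_le.mpr (show g ∈ Subgroup.closure ({x, g} : Set G) from Subgroup.subset_closure (Or.inr rfl))) hz
      exact Subgroup.isNilpotent_of_ker_le_center (Subgroup.inclusion hle) (by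
        rw [(MonoidHom.ker_eq_bot_iff _).mpr (Subgroup.inclusion_injective hle)]
        exact bot_le)
    intro p a z hp hza hz
    haveI := Fact.mk hp
    -- `z` commutes with elements of order a power of another prime
    have hcomm : ∀ (q b : ℕ) (x : G), q.Prime → q ≠ p → orderOf x = q ^ b → Commute z x := by
      intro q b x hq hqp hxb
      haveI := Fact.mk hq
      haveI := hz x
      set H := Subgroup.closure ({x, z} : Set G)
      let x' : H := ⟨x, Subgroup.subset_closure (Or.inl rfl)⟩
      let z' : H := ⟨z, Subgroup.subset_closure (Or.inr rfl)⟩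
      have hN := ((Group.isNilpotent_of_finite_tfae (G := H)).out 0 3).mp (inferInstance : Group.IsNilpotent ↥H)
      obtain ⟨S, hS⟩ := (IsPGroup.iff_card.mpr ⟨a, by
        rw [Nat.card_zpowers, Subgroup.orderOf_mk, hza]⟩ :
        IsPGroup p ↥(Subgroup.zpowers z')).exists_le_sylow
      obtain ⟨T, hT⟩ := (IsPGroup.iff_card.mpr ⟨b, by
        rw [Nat.card_zpowers, Subgroup.orderOf_mk, hxb]⟩ :
        IsPGroup q ↥(Subgroup.zpowers x')).exists_le_sylow
      exact congrArg Subtype.val (Subgroup.commute_of_normal_of_disjoint _ _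
        (hN p inferInstance S) (hN q inferInstance T)
        (IsPGroup.disjoint_of_ne p q (Ne.symm hqp) _ _ S.isPGroup' T.isPGroup') z' x'
        (hS (Subgroup.mem_zpowers z')) (hT (Subgroup.mem_zpowers x'))).eq
    set C : Subgroup G := Subgroup.centralizer {w | (orderOf w).Coprime p} with hCdef
    haveI hCn : C.Normal := by
      refine ⟨fun c hc k => Subgroup.mem_centralizer_iff.mpr fun w hw => ?_⟩
      have hw' : (orderOf (k⁻¹ * w * k)).Coprime p := by
        rw [show k⁻¹ * w * k = MulAut.conj k⁻¹ w by simp]
        exact (orderOf_injective (MulAut.conj k⁻¹).toMonoidHom (MulAut.conj k⁻¹).injective w).symm ▸ hw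
      have := Subgroup.mem_centralizer_iff.mp hc _ hw'
      calc w * (k * c * k⁻¹) = k * (k⁻¹ * w * k * c) * k⁻¹ := by group
        _ = k * (c * (k⁻¹ * w * k)) * k⁻¹ := by rw [this]
        _ = _ := by group
    have hzC : z ∈ C := Subgroup.mem_centralizer_iff.mpr fun w hw => by
      have : w ∈ Subgroup.centralizer ({z} : Set G) :=
        CfsgLib.Frobenius.Elements.mem_of_primary fun v _ ⟨q, b, hq, hqw, hv⟩ =>
          Subgroup.mem_centralizer_singleton_iff.mpr
            (hcomm q b v hq (fun e => hp.ne_one (Nat.eq_one_of_dvd_coprimes hw (e ▸ hqw) dvd_rfl))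
              hv).eq.symm
      exact Subgroup.mem_centralizer_singleton_iff.mp this
    obtain ⟨P, hP⟩ := (IsPGroup.iff_card.mpr ⟨a, by rw [Nat.card_zpowers, hza]⟩ :
      IsPGroup p ↥(Subgroup.zpowers z)).exists_le_sylow
    -- the subgroup generated by `P` and the `p'`-elements is everything
    have hgen : (P : Subgroup G) ⊔ Subgroup.closure {w : G | (orderOf w).Coprime p} = ⊤ := by
      refine Subgroup.eq_top_of_card_eq _ (Nat.dvd_antisymm (Subgroup.card_subgroup_dvd_card _)
        ((Nat.dvd_iff_prime_pow_dvd_dvd _ _).mpr fun q k hq hqk => ?_))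
      haveI := Fact.mk hq
      obtain ⟨Q, hQ⟩ : ∃ Q : Sylow q G, (Q : Subgroup G) ≤
          (P : Subgroup G) ⊔ Subgroup.closure {w : G | (orderOf w).Coprime p} := by
        by_cases hqp : q = p
        · subst hqp; exact ⟨P, le_sup_left⟩
        · obtain ⟨Q⟩ : Nonempty (Sylow q G) := inferInstance
          refine ⟨Q, fun w hw => Subgroup.mem_sup_right (Subgroup.subset_closure ?_)⟩
          obtain ⟨b, hb⟩ := IsPGroup.iff_orderOf.mp Q.isPGroup' ⟨w, hw⟩
          rw [Subgroup.orderOf_mk] at hb
          show (orderOf w).Coprime p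
          rw [hb]
          exact ((Nat.coprime_primes hq hp).mpr hqp).pow_left b
      exact ((pow_dvd_pow q ((hq.pow_dvd_iff_le_factorization Nat.card_pos.ne').mp hqk)).trans
        (Q.card_eq_multiplicity ▸ dvd_rfl)).trans (Subgroup.card_dvd_of_le hQ)
    -- the normal closure of `z` is a `p`-group inside `C`
    have hN : Subgroup.normalClosure ({z} : Set G) ≤ (P : Subgroup G) ⊓ C := by
      haveI : ((P : Subgroup G) ⊓ C).Normal := by
        refine Subgroup.normalizer_eq_top_iff.mp (top_le_iff.mp (hgen ▸ sup_le ?_ ?_))
        · exact (le_inf Subgroup.le_normalizer (le_top.trans_eq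
            (Subgroup.normalizer_eq_top_iff.mpr hCn).symm)).trans
              Subgroup.inf_normalizer_le_normalizer_inf
        · rw [Subgroup.closure_le]
          intro w hw
          refine Subgroup.centralizer_le_normalizer _ (Subgroup.mem_centralizer_iff.mpr fun c hc => ?_)
          exact (Subgroup.mem_centralizer_iff.mp hc.2 w hw).symm
      exact Subgroup.normalClosure_le_normal (Set.singleton_subset_iff.mpr
        ⟨hP (Subgroup.mem_zpowers z), hzC⟩)
    suffices hsuff : ∀ (k : ℕ) (N : Subgroup G), N.Normal → N ≤ (P : Subgroup G) ⊓ C →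
        Nat.card N = k → N ≤ ⨆ n, Subgroup.upperCentralSeries G n from
      hsuff _ _ inferInstance hN rfl (Subgroup.subset_normalClosure rfl)
    intro k
    induction k using Nat.strong_induction_on with
    | _ k ih =>
      intro N hNn hNle hk
      by_cases hb : N = ⊥
      · exact hb ▸ bot_le
      have hlt : ⁅N, (P : Subgroup G)⁆ < N :=
        CfsgLib.Coprime.commutator_lt_of_isPGroup P.isPGroup'
          (P.isPGroup'.to_le (hNle.trans inf_le_left))
          (le_top.trans_eq (Subgroup.normalizer_eq_top_iff.mpr hNn).symm) hb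
      set M := ⁅N, (⊤ : Subgroup G)⁆ with hM
      have hMN : M ≤ ⁅N, (P : Subgroup G)⁆ := by
        rw [hM, Subgroup.commutator_le]
        intro x hx y _
        have hy : y ∈ ((P : Subgroup G) : Set G) * (Subgroup.centralizer (N : Set G) : Set G) := by
          haveI : (Subgroup.centralizer (N : Set G)).Normal := inferInstance
          rw [← Subgroup.mul_normal, SetLike.mem_coe]
          refine (hgen.ge.trans (sup_le le_sup_left ?_)) (Subgroup.mem_top y)
          refine le_trans ?_ le_sup_right
          rw [Subgroup.closure_le]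
          exact fun w hw => Subgroup.mem_centralizer_iff.mpr fun c hc =>
            (Subgroup.mem_centralizer_iff.mp (hNle hc).2 w hw).symm
        obtain ⟨u, hu, r, hr, rfl⟩ := hy
        have hrx : x * (u * r) * x⁻¹ * (u * r)⁻¹ = x * u * x⁻¹ * u⁻¹ := by
          calc x * (u * r) * x⁻¹ * (u * r)⁻¹ = x * u * (r * x⁻¹) * r⁻¹ * u⁻¹ := by group
            _ = x * u * (x⁻¹ * r) * r⁻¹ * u⁻¹ := by
              rw [(Subgroup.mem_centralizer_iff.mp hr x⁻¹ (inv_mem hx))]
            _ = _ := by group
        rw [commutatorElement_def, hrx]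
        exact Subgroup.commutator_mem_commutator hx hu
      have hMlt : M < N := lt_of_le_of_lt hMN hlt
      have hMle := ih (Nat.card M) (hk ▸ lt_of_le_of_ne (Subgroup.card_le_of_le hMlt.le)
        (fun e => hMlt.ne (Subgroup.eq_of_le_of_card_ge hMlt.le e.ge))) M inferInstance
        (hMlt.le.trans hNle) rfl
      intro x hx
      refine (hmemn x).mpr ⟨n0 + 1, fun y => hn0 _ (hMle ?_)⟩
      exact Subgroup.commutator_mem_commutator hx (Subgroup.mem_top y)
  · intro hg x
    set Z := Subgroup.upperCentralSeries G n0 with hZ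
    set K := Subgroup.zpowers x ⊔ Z with hK
    have hle : Subgroup.closure ({x, g} : Set G) ≤ K := by
      rw [Subgroup.closure_le]
      rintro w (rfl | rfl)
      · exact Subgroup.mem_sup_left (Subgroup.mem_zpowers _)
      · exact Subgroup.mem_sup_right (hn0 _ hg)
    have hKK : ⁅K, K⁆ ≤ Z := by
      rw [Subgroup.commutator_le]
      intro u hu v hv
      rw [← QuotientGroup.eq_one_iff, ← QuotientGroup.mk'_apply, map_commutatorElement,
        commutatorElement_eq_one_iff_mul_comm]
      have : ∀ w ∈ K, QuotientGroup.mk' Z w ∈ Subgroup.zpowers (QuotientGroup.mk' Z x) := by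
        intro w hw
        have h1 : K.map (QuotientGroup.mk' Z) ≤ Subgroup.zpowers (QuotientGroup.mk' Z x) := by
          rw [hK, Subgroup.map_sup, MonoidHom.map_zpowers, sup_le_iff]
          exact ⟨le_rfl, le_bot_iff.mpr ((Subgroup.map_eq_bot_iff _).mpr
            (QuotientGroup.ker_mk' Z).ge) |>.trans bot_le⟩
        exact h1 ⟨w, hw, rfl⟩
      obtain ⟨i, hi⟩ := this u hu
      obtain ⟨j, hj⟩ := this v hv
      rw [← hi, ← hj]
      exact ((Commute.refl (QuotientGroup.mk' Z x)).zpow_zpow i j).eq
    have hlow : ∀ j i, j + i = n0 → K.lowerCentralSeries (j + 1) ≤ Subgroup.upperCentralSeries G i := by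
      intro j
      induction j with
      | zero =>
        intro i hi
        rw [zero_add] at hi
        subst hi
        exact hKK
      | succ j ih =>
        intro i hi
        rw [Subgroup.lowerCentralSeries_succ, Subgroup.commutator_le]
        intro u hu v _
        exact ih (i + 1) (by omega) hu v
    haveI : Group.IsNilpotent K := Subgroup.isNilpotent_of_lowerCentralSeries_eq_bot
      (n := n0 + 1) (le_bot_iff.mp ((hlow n0 0 (by omega)).trans_eq (Subgroup.upperCentralSeries_zero G)))
    exact Subgroup.isNilpotent_of_ker_le_center (Subgroup.inclusion hle) (by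
        rw [(MonoidHom.ker_eq_bot_iff _).mpr (Subgroup.inclusion_injective hle)]
        exact bot_le)

end Cfsg.Agent.S3939
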