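import Cfsg.Statements.S3941


set_option autoImplicit false
open Cfsg

namespace Cfsg.Agent.S3941

/-- Let n ≥ 5 and p an odd prime with p ≤ n, and suppose that every proper subgroup of the alternating group of degree n whose order is divisible by p has a normal Sylow p-subgroup. Then n = p. -/
theorem result (n p : ℕ) (hn : 5 ≤ n) [Fact p.Prime] (hp : p ≠ 2) (hpn : p ≤ n)
    (h : ∀ H : Subgroup ↥(alternatingGroup (Fin n)), H ≠ ⊤ → p ∣ Nat.card ↥H → Cfsg.IsPClosed p ↥H) : n = p := by
  classical
  by_contra hne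
  have hp3 : 3 ≤ p := by
    have := (Fact.out : p.Prime).two_le
    omega
  obtain ⟨m, rfl⟩ : ∃ m, n = m + 1 := ⟨n - 1, by omega⟩
  have hpm : p ≤ m := by omega
  haveI : Nontrivial (Fin m) := Fin.nontrivial_iff_two_le.mpr (by omega)
  -- the point stabiliser
  let e : Fin m ≃ {x : Fin (m + 1) // x ≠ Fin.last m} := finSuccAboveEquiv (Fin.last m)
  let φ : ↥(alternatingGroup (Fin m)) →* ↥(alternatingGroup (Fin (m + 1))) :=
    ((Equiv.Perm.extendDomainHom e).comp (alternatingGroup (Fin m)).subtype).codRestrict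
      (alternatingGroup (Fin (m + 1))) fun g => by
        rw [Equiv.Perm.mem_alternatingGroup]
        show Equiv.Perm.sign (Equiv.Perm.extendDomain (g : Equiv.Perm (Fin m)) e) = 1
        rw [Equiv.Perm.sign_extendDomain]
        exact Equiv.Perm.mem_alternatingGroup.mp g.2
  have hφ : Function.Injective φ := fun a b hab =>
    Subtype.ext (Equiv.Perm.extendDomainHom_injective e (congrArg Subtype.val hab))
  have hcm : 2 * Nat.card ↥(alternatingGroup (Fin m)) = m.factorial := by
    have h1 := two_mul_card_alternatingGroup (α := Fin m)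
    rw [Fintype.card_perm, Fintype.card_fin] at h1
    rw [Nat.card_eq_fintype_card]; exact h1
  haveI : Nontrivial (Fin (m + 1)) := Fin.nontrivial_iff_two_le.mpr (by omega)
  have hcn : 2 * Nat.card ↥(alternatingGroup (Fin (m + 1))) = (m + 1).factorial := by
    have h1 := two_mul_card_alternatingGroup (α := Fin (m + 1))
    rw [Fintype.card_perm, Fintype.card_fin] at h1
    rw [Nat.card_eq_fintype_card]; exact h1
  have hrc : Nat.card φ.range = Nat.card ↥(alternatingGroup (Fin m)) :=
    (Nat.card_congr (MonoidHom.ofInjective hφ).toEquiv).symm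
  have hproper : φ.range ≠ ⊤ := by
    intro htop
    rw [htop, Subgroup.card_top] at hrc
    rw [hrc, hcm, Nat.factorial_succ] at hcn
    have := Nat.factorial_pos m
    nlinarith
  have hpdvd : p ∣ Nat.card ↥(alternatingGroup (Fin m)) := by
    have h1 : p ∣ 2 * Nat.card ↥(alternatingGroup (Fin m)) :=
      hcm ▸ Nat.dvd_factorial (by omega) hpm
    exact ((Fact.out : p.Prime).dvd_mul.mp h1).resolve_left fun h2 => by
      have := Nat.le_of_dvd (by norm_num) h2
      omega
  have hclosed : ∀ P : Sylow p ↥(alternatingGroup (Fin m)), (P : Subgroup ↥(alternatingGroup (Fin m))).Normal := by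
    intro P
    let eq' := MonoidHom.ofInjective hφ
    have hidx : ¬ p ∣ ((P : Subgroup ↥(alternatingGroup (Fin m))).map eq'.toMonoidHom).index := by
      rw [Subgroup.index_map_of_bijective (f := eq'.toMonoidHom) eq'.bijective]
      exact P.not_dvd_index
    have h1 := h φ.range hproper (hrc ▸ hpdvd) ((P.isPGroup'.map eq'.toMonoidHom).toSylow hidx)
    have h2 := h1.comap eq'.toMonoidHom
    rwa [IsPGroup.toSylow_coe, Subgroup.comap_map_eq_self_of_injective (f := eq'.toMonoidHom) eq'.injective] at h2
  obtain ⟨P⟩ : Nonempty (Sylow p ↥(alternatingGroup (Fin m))) := inferInstance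
  rcases Nat.lt_or_ge m 5 with hm5 | hm5
  · obtain rfl : m = 4 := by omega
    obtain rfl : p = 3 := by
      rcases Nat.lt_or_ge p 4 with h4 | h4
      · omega
      · exfalso
        have := (Fact.out : p.Prime)
        rw [show p = 4 by omega] at this
        norm_num at this
    haveI := hclosed P
    haveI := Sylow.unique_of_normal P (hclosed P)
    have hmem : ∀ x : ↥(alternatingGroup (Fin 4)), x ^ 3 = 1 → x ∈ (P : Subgroup ↥(alternatingGroup (Fin 4))) := by
      intro x hx
      obtain ⟨S, hS⟩ := (show IsPGroup 3 ↥(Subgroup.zpowers x) from fun w => ⟨1, by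
        obtain ⟨_, i, rfl⟩ := w
        refine Subtype.ext ?_
        show (x ^ i) ^ (3 ^ 1) = 1
        rw [pow_one, ← zpow_natCast, ← zpow_mul, mul_comm, zpow_mul, zpow_natCast, hx, one_zpow]⟩
        ).exists_le_sylow
      exact Subsingleton.elim S P ▸ hS (Subgroup.mem_zpowers x)
    obtain ⟨x, y, hx, hy, hxy⟩ : ∃ x y : ↥(alternatingGroup (Fin 4)),
        x ^ 3 = 1 ∧ y ^ 3 = 1 ∧ (x * y) ^ 3 ≠ 1 := by decide +kernel
    obtain ⟨k, hk⟩ := P.isPGroup' ⟨x * y, mul_mem (hmem x hx) (hmem y hy)⟩
    have hcard : Nat.card ↥(P : Subgroup ↥(alternatingGroup (Fin 4))) ∣ 3 := by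
      have h12 : Nat.card ↥(alternatingGroup (Fin 4)) = 12 := by
        have : Nat.factorial 4 = 24 := rfl
        omega
      obtain ⟨j, hj⟩ := IsPGroup.iff_card.mp P.isPGroup'
      have h1 := Subgroup.card_subgroup_dvd_card (P : Subgroup ↥(alternatingGroup (Fin 4)))
      rw [hj, h12] at h1
      rw [hj]
      rcases j with _ | _ | j
      · norm_num
      · norm_num
      · exfalso
        have h9 : 3 ^ 2 ∣ 12 := (pow_dvd_pow 3 (by omega : 2 ≤ j + 1 + 1)).trans h1
        norm_num at h9
    apply hxy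
    have h3 : (⟨x * y, mul_mem (hmem x hx) (hmem y hy)⟩ : (P : Subgroup ↥(alternatingGroup (Fin 4)))) ^ 3 = 1 :=
      orderOf_dvd_iff_pow_eq_one.mp ((orderOf_dvd_natCard _).trans hcard)
    exact congrArg Subtype.val h3
  · haveI := alternatingGroup.isSimpleGroup (α := Fin m) (by simpa using hm5)
    rcases (hclosed P).eq_bot_or_eq_top with hb | ht
    · have h1 := P.dvd_card_of_dvd_card hpdvd
      rw [hb, Subgroup.card_bot] at h1
      exact (Fact.out : p.Prime).not_dvd_one h1
    · obtain ⟨j, hj⟩ := IsPGroup.iff_card.mp P.isPGroup'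
      rw [ht, Subgroup.card_top] at hj
      have h4 : 4 ∣ m.factorial := Nat.dvd_factorial (by norm_num) (by omega)
      have h2 : 2 ∣ p ^ j := by rw [← hj]; omega
      have := (Nat.prime_dvd_prime_iff_eq Nat.prime_two Fact.out).mp (Nat.prime_two.dvd_of_dvd_pow h2)
      exact hp this.symm

end Cfsg.Agent.S3941
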