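import Cfsg.Statements.S3947
import Cfsg.Agent.Lib.Solvable.UniqueMaximal

set_option autoImplicit false
open Cfsg
open Subgroup CfsgLib.Solvable.UniqueMaximal

namespace Cfsg.Agent.S3947

/-- Let G be a finite group and A a proper subgroup of G whose normal closure is G. Let Y be the join of all proper subgroups H of G that contain A and are generated by their own conjugates of A (the normal closure of A in H is H). Then either Y = G, or A is contained in exactly one maximal subgroup of G. -/
theorem result {G : Type*} [Group G] [Finite G] (A : Subgroup G) (hA : Subgroup.normalClosure (A : Set G) = ⊤) (hAG : A ≠ ⊤) :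
    sSup {H : Subgroup G | A ≤ H ∧ H ≠ ⊤ ∧ Subgroup.normalClosure ((A.subgroupOf H : Subgroup ↥H) : Set ↥H) = ⊤} = ⊤ ∨
      ∃! M : Subgroup G, IsCoatom M ∧ A ≤ M := by
  classical
  refine or_iff_not_imp_left.2 fun hY => ?_
  obtain ⟨V, hV, hYV⟩ := (eq_top_or_exists_le_coatom _).resolve_left hY
  have hAV : A ≤ V := le_trans (le_sSup (by exact ⟨le_rfl, hAG, (gen_iff le_rfl).1 (Gen.refl A)⟩)) hYV
  exact ⟨V, ⟨hV, hAV⟩, fun U hU => unique_coatom _ A V le_rfl (gen_top_iff.2 hA) hV hAV
    (fun H hH hne => le_trans (le_sSup (by exact ⟨hH.1, hne, (gen_iff hH.1).1 hH⟩)) hYV) U hU.1 hU.2⟩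

end Cfsg.Agent.S3947
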