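import Cfsg.Statements.S3949

set_option autoImplicit false
open Cfsg

namespace Cfsg.Agent.S3949

/-- Let G be a finite group and α an automorphism of G of order 2 such that the elements g·α(g)⁻¹ generate G. Let j be a positive integer such that 2^j divides the order of no element inverted by α. Then the set of values of the j-th iterate of the map c ↦ c·α(c)⁻¹ is exactly the set of elements of odd order inverted by α. -/
theorem result {G : Type*} [Group G] [Finite G] (α : MulAut G) (hα : orderOf α = 2) (hG : Subgroup.closure (Set.range (fun c : G => c * (α c)⁻¹)) = ⊤)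
    (j : ℕ) (hj : ∀ g : G, α g = g⁻¹ → ¬ 2 ^ j ∣ orderOf g) :
    Set.range ((fun c : G => c * (α c)⁻¹)^[j]) = {g : G | Odd (orderOf g) ∧ α g = g⁻¹} := by
  have hα2 : ∀ g, α (α g) = g := fun g => by
    show (α * α) g = g
    rw [← sq, ← hα, pow_orderOf_eq_one]; rfl
  set f : G → G := fun c => c * (α c)⁻¹ with hf
  have hinv : ∀ c, α (f c) = (f c)⁻¹ := fun c => by
    simp [hf, hα2]
  have hsq : ∀ g, α g = g⁻¹ → ∀ n : ℕ, f^[n] g = g ^ 2 ^ n := by
    intro g hg n
    induction n with
    | zero => simp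
    | succ n ih =>
      rw [Function.iterate_succ_apply', ih]
      show g ^ 2 ^ n * (α (g ^ 2 ^ n))⁻¹ = _
      rw [map_pow, hg, inv_pow, inv_inv, ← pow_add, ← two_mul, ← pow_succ']
  obtain ⟨i, rfl⟩ : ∃ i, j = i + 1 := by
    rcases j with _ | i
    · exact absurd (by simp) (hj 1 (by simp))
    · exact ⟨i, rfl⟩
  ext g
  constructor
  · rintro ⟨c, rfl⟩
    rw [Function.iterate_succ_apply, hsq _ (hinv c)]
    refine ⟨?_, by rw [map_pow, hinv, inv_pow]⟩
    obtain ⟨a, m, hm, hord⟩ := Nat.exists_eq_two_pow_mul_odd (orderOf_pos (f c)).ne'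
    have ha : a ≤ i := by
      by_contra h
      exact hj (f c) (hinv c) (hord ▸ (pow_dvd_pow 2 (by omega)).trans (Dvd.intro _ rfl))
    rw [orderOf_pow, hord]
    obtain ⟨e, rfl⟩ := Nat.exists_eq_add_of_le ha
    rw [pow_add, Nat.gcd_mul_left, Nat.mul_div_mul_left _ _ (by positivity)]
    exact Odd.of_dvd_nat hm (Nat.div_dvd_of_dvd (Nat.gcd_dvd_left _ _))
  · rintro ⟨hodd, hg⟩
    obtain ⟨l, hl⟩ := exists_pow_eq_self_of_coprime
      (n := 2 ^ (i + 1)) (x := g) ((Nat.coprime_two_left.mpr hodd).pow_left _)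
    refine ⟨g ^ l, ?_⟩
    rw [hsq _ (by rw [map_pow, hg, inv_pow]), ← pow_mul, mul_comm, pow_mul]
    exact hl

end Cfsg.Agent.S3949
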