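import Cfsg.Statements.S3950
import Cfsg.Agent.Lib.Schur.Bound
import Cfsg.Agent.Lib.Schur.Bilinear

set_option autoImplicit false
open Cfsg

namespace Cfsg.Agent.S3950

/-- A finite abelian group has trivial Schur multiplier if and only if it is cyclic. -/
theorem result {G : Type*} [CommGroup G] [Finite G] : Cfsg.HasCyclicSchurMultiplier G 1 ↔ IsCyclic G := by
  constructor
  · intro h
    obtain ⟨ι, _, n, hn, ⟨e⟩⟩ := CommGroup.equiv_prod_multiplicative_zmod_of_finite G
    classical
    by_cases hcop : Pairwise fun i j => Nat.Coprime (n i) (n j)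
    · let r := ZMod.prodEquivPi n hcop
      let e' : Multiplicative (ZMod (∏ i, n i)) ≃* G :=
        (((AddEquiv.toMultiplicative r.toAddEquiv).trans
          { toFun := fun x i => Multiplicative.ofAdd (Multiplicative.toAdd x i)
            invFun := fun x => Multiplicative.ofAdd fun i => Multiplicative.toAdd (x i)
            left_inv := fun _ => rfl
            right_inv := fun _ => rfl
            map_mul' := fun _ _ => rfl }).trans e.symm)
      exact isCyclic_of_surjective e'.toMonoidHom e'.surjective
    · exfalso
      rw [Pairwise] at hcop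
      push Not at hcop
      obtain ⟨i, j, hij, hnc⟩ := hcop
      obtain ⟨p, hp, hpi, hpj⟩ := Nat.Prime.not_coprime_iff_dvd.mp hnc
      haveI := Fact.mk hp
      let f : G →* Multiplicative (ZMod p) :=
        (AddMonoidHom.toMultiplicative (ZMod.castHom hpi (ZMod p)).toAddMonoidHom).comp
          ((Pi.evalMonoidHom _ i).comp e.toMonoidHom)
      let g : G →* Multiplicative (ZMod p) :=
        (AddMonoidHom.toMultiplicative (ZMod.castHom hpj (ZMod p)).toAddMonoidHom).comp
          ((Pi.evalMonoidHom _ j).comp e.toMonoidHom)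
      let x : G := e.symm (Pi.mulSingle i (Multiplicative.ofAdd 1))
      let y : G := e.symm (Pi.mulSingle j (Multiplicative.ofAdd 1))
      have hc : CfsgLib.Schur.Bilinear.Heis.coc f g x y - CfsgLib.Schur.Bilinear.Heis.coc f g y x = 1 := by
        simp [CfsgLib.Schur.Bilinear.Heis.coc, f, g, x, y, Pi.mulSingle_eq_of_ne hij,
          Pi.mulSingle_eq_of_ne hij.symm, ZMod.cast_one hpi, ZMod.cast_one hpj]
      obtain ⟨-, hd⟩ := CfsgLib.Schur.Basic.card_ker_le_card_mult _
        (CfsgLib.Schur.Bilinear.Heis.isStemExtension x y hc)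
      haveI := CfsgLib.Schur.Basic.subsingleton_mult_iff.mp h
      rw [Nat.card_congr (CfsgLib.Schur.Bilinear.Heis.kerEquiv f g).toEquiv,
        Nat.card_unique (α := CfsgLib.Schur.Basic.Mult G), Nat.dvd_one] at hd
      simp at hd
      exact hp.ne_one hd
  · intro h
    exact CfsgLib.Schur.Bound.hasCyclicSchurMultiplier_one_of_cyclic_sylow fun p _ P => inferInstance

end Cfsg.Agent.S3950
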