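import Cfsg.Statements.S3951
import Cfsg.Agent.Lib.Schur.Metacyclic
import Cfsg.Agent.Lib.Schur.Bilinear

set_option autoImplicit false
open Cfsg
open scoped commutatorElement

namespace Cfsg.Agent.S3951

/-- For positive integers `m` and `n` with `n` dividing `m`, the Schur multiplier of the abelian group `ZMod m × ZMod n` (written multiplicatively) is cyclic of order `n`. In particular the elementary abelian group of order `p ^ 2` has multiplier of order `p`. -/
theorem result (m n : ℕ) [NeZero m] [NeZero n] (hnm : n ∣ m) : Cfsg.HasCyclicSchurMultiplier (Multiplicative (ZMod m × ZMod n)) n := by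
  let G := Multiplicative (ZMod m × ZMod n)
  let f : G →* Multiplicative (ZMod n) :=
    AddMonoidHom.toMultiplicative ((ZMod.castHom hnm (ZMod n)).toAddMonoidHom.comp
      (AddMonoidHom.fst (ZMod m) (ZMod n)))
  let g : G →* Multiplicative (ZMod n) :=
    AddMonoidHom.toMultiplicative (AddMonoidHom.snd (ZMod m) (ZMod n))
  let A : G := Multiplicative.ofAdd (1, 0)
  let B : G := Multiplicative.ofAdd (0, 1)
  have hc : CfsgLib.Schur.Bilinear.Heis.coc f g A B - CfsgLib.Schur.Bilinear.Heis.coc f g B A = 1 := by
    change ZMod.castHom hnm (ZMod n) (1 : ZMod m) * (1 : ZMod n)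
      - ZMod.castHom hnm (ZMod n) (0 : ZMod m) * (0 : ZMod n) = 1
    simp [-ZMod.castHom_apply]
  refine CfsgLib.Schur.Basic.hasSchurMultiplier_of_le _
    (CfsgLib.Schur.Bilinear.Heis.isStemExtension A B hc)
    (CfsgLib.Schur.Bilinear.Heis.kerEquiv f g) fun Γ _ _ σ hσ => ?_
  have hgen : Subgroup.closure ({A, B} : Set G) = ⊤ := by
    rw [eq_top_iff]
    intro x _
    have hx : x = A ^ (Multiplicative.toAdd x).1.val * B ^ (Multiplicative.toAdd x).2.val := by
      change (Multiplicative.toAdd x) = (Multiplicative.toAdd x).1.val • ((1 : ZMod m), (0 : ZMod n))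
        + (Multiplicative.toAdd x).2.val • ((0 : ZMod m), (1 : ZMod n))
      simp [Prod.smul_mk]
    rw [hx]
    exact mul_mem (pow_mem (Subgroup.subset_closure (by simp)) _)
      (pow_mem (Subgroup.subset_closure (by simp)) _)
  have h := CfsgLib.Schur.Metacyclic.card_ker_mul_dvd σ hσ A B hgen 1 m n 0
    (by rw [pow_one, mul_comm B A, mul_inv_cancel_right])
    (by apply Multiplicative.toAdd.injective; simp [A])
    (by apply Multiplicative.toAdd.injective; simp [B])
  have h1 : ⁅B, A⁆ = 1 := commutatorElement_eq_one_iff_mul_comm.mpr (mul_comm B A)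
  rw [h1, orderOf_one, mul_one] at h
  simp only [one_pow, Finset.sum_const, Finset.card_range, smul_eq_mul, mul_one, Nat.gcd_zero_right,
    Nat.gcd_eq_right hnm] at h
  have := Nat.le_of_dvd (Nat.pos_of_neZero n) h
  simpa [Nat.card_eq_fintype_card (α := Multiplicative (ZMod n))] using this

end Cfsg.Agent.S3951
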