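import Cfsg.Statements.S3952
import Cfsg.Agent.Lib.Schur.Basic
import Cfsg.Agent.Lib.Schur.Character
import Cfsg.Agent.Lib.Char.Orth
import Cfsg.Agent.Lib.Char.Integral
import Cfsg.Agent.Lib.CharDeep.IrrTools

set_option autoImplicit false
open Cfsg

namespace Cfsg.Agent.S3952

/-- A central element in the commutator subgroup of order `e` forces `e ^ 3 ∣ |G|`. -/
private theorem cube_dvd {G : Type*} [Group G] [Finite G] (z : G) (hc : z ∈ Subgroup.center G)
    (hd : z ∈ commutator G) : orderOf z ^ 2 * orderOf z ∣ Nat.card G := by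
  classical
  haveI := Fintype.ofFinite G
  set e := orderOf z with he
  have hepos : 0 < e := orderOf_pos z
  let ζ : ℂ := Complex.exp (2 * Real.pi * Complex.I / e)
  have hζ : IsPrimitiveRoot ζ e := Complex.isPrimitiveRoot_exp e hepos.ne'
  have hζ0 : ζ ≠ 0 := hζ.ne_zero hepos.ne'
  -- the central character of `z`
  have hval : ∀ χ : Cfsg.IrrCharacter G, ∃ (d : ℕ) (ω : ℂ), (χ : G → ℂ) 1 = d ∧ 0 < d ∧
      ω ^ e = 1 ∧ ω ^ d = 1 ∧ ∀ i : ℕ, (χ : G → ℂ) (z ^ i) = ω ^ i * d := by
    rintro ⟨χ, n, ρ, hρ, rfl⟩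
    obtain ⟨c, hcz⟩ := CfsgLib.CharDeep.IrrTools.exists_smul_of_commute ρ (ρ z) fun g => by
      rw [← map_mul, ← map_mul, Subgroup.mem_center_iff.mp hc g]
    have hn : 0 < n := by simpa using CfsgLib.Char.irreducible_finrank_pos (ρ := ρ)
    have hpow : ∀ i : ℕ, ρ (z ^ i) = c ^ i • 1 := fun i => by
      rw [map_pow, hcz, smul_pow, one_pow]
    have hchar : ∀ i : ℕ, ρ.character (z ^ i) = c ^ i * n := fun i => by
      rw [Representation.character, hpow, map_smul, LinearMap.trace_one, smul_eq_mul]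
      simp
    have hce : c ^ e = 1 := by
      have h := hchar e
      rw [he, pow_orderOf_eq_one, Representation.char_one] at h
      simp only [Module.finrank_fintype_fun_eq_card, Fintype.card_fin] at h
      exact mul_right_cancel₀ (by exact_mod_cast hn.ne') (h.symm.trans (one_mul _).symm)
    -- the determinant kills the commutator subgroup
    let D : G →* ℂ := (LinearMap.det).comp ρ
    have hdet : c ^ n = 1 := by
      have h1 : commutator G ≤ D.toHomUnits.ker := Abelianization.commutator_subset_ker _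
      have h2 : D z = 1 := congrArg Units.val (h1 hd)
      have h3 : D z = c ^ n := by
        show LinearMap.det (ρ z) = _
        rw [hcz, LinearMap.det_smul, map_one, mul_one, Module.finrank_fintype_fun_eq_card, Fintype.card_fin]
      exact h3.symm.trans h2
    exact ⟨n, c, by simp, hn, hce, hdet, hchar⟩
  choose d ω hd1 hdpos hωe hωd hωi using hval
  let T : ℕ := ∑ χ ∈ Finset.univ.filter (fun χ => ω χ = ζ), d χ * d χ
  have hkey : (e : ℂ) * T = Nat.card G := by
    have h1 : ∀ χ : Cfsg.IrrCharacter G, ∑ i ∈ Finset.range e, (ζ⁻¹) ^ i * ((χ : G → ℂ) 1 * (χ : G → ℂ) (z ^ i))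
        = if ω χ = ζ then (e : ℂ) * (d χ * d χ) else 0 := by
      intro χ
      have h2 : ∀ i : ℕ, (ζ⁻¹) ^ i * ((χ : G → ℂ) 1 * (χ : G → ℂ) (z ^ i))
          = ((d χ : ℂ) * d χ) * (ω χ * ζ⁻¹) ^ i := fun i => by rw [hd1, hωi, mul_pow]; ring
      simp only [h2, ← Finset.mul_sum]
      by_cases h : ω χ = ζ
      · rw [if_pos h, h, mul_inv_cancel₀ hζ0]; simp; ring
      · rw [if_neg h, geom_sum_eq (fun h' => h (mul_inv_eq_one₀ hζ0 |>.mp h')), mul_pow, hωe, inv_pow,
          hζ.pow_eq_one, inv_one, mul_one, sub_self, zero_div, mul_zero]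
    calc (e : ℂ) * T = ∑ χ : Cfsg.IrrCharacter G, (if ω χ = ζ then (e : ℂ) * (d χ * d χ) else 0) := by
          rw [← Finset.sum_filter, ← Finset.mul_sum]; simp [T]
      _ = ∑ χ : Cfsg.IrrCharacter G, ∑ i ∈ Finset.range e,
            (ζ⁻¹) ^ i * ((χ : G → ℂ) 1 * (χ : G → ℂ) (z ^ i)) := by
          simp only [h1]
      _ = ∑ i ∈ Finset.range e, (ζ⁻¹) ^ i * (if z ^ i = 1 then (Nat.card G : ℂ) else 0) := by
          rw [Finset.sum_comm]
          simp only [← Finset.mul_sum, CfsgLib.Char.regular_eq_sum_irr]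
      _ = Nat.card G := by
          rw [Finset.sum_eq_single 0]
          · simp
          · intro i hi hi0
            rw [if_neg, mul_zero]
            exact pow_ne_one_of_lt_orderOf hi0 (Finset.mem_range.mp hi)
          · intro h; exact absurd (Finset.mem_range.mpr hepos) h
  have hdiv : e * e ∣ T := Finset.dvd_sum fun χ hχ => by
    have hω : ω χ = ζ := (Finset.mem_filter.mp hχ).2
    have h := hζ.dvd_of_pow_eq_one _ (hω ▸ hωd χ)
    exact Nat.mul_dvd_mul h h
  have hcard : Nat.card G = e * T := by exact_mod_cast hkey.symm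
  rw [hcard, sq, mul_comm e T]
  exact Nat.mul_dvd_mul hdiv dvd_rfl

/-- If `A` is the Schur multiplier of the finite group `Q`, then the square of the exponent of `A` divides the order of `Q`. -/
theorem result {Q : Type*} [Group Q] [Finite Q] {A : Type*} [CommGroup A] (hA : Cfsg.HasSchurMultiplier Q A) : Monoid.exponent A ^ 2 ∣ Nat.card Q := by
  haveI := CfsgLib.Schur.Basic.finite_of_hasSchurMultiplier hA
  obtain ⟨Γ, _, _, σ, hσ, ⟨f⟩⟩ := hA.1
  obtain ⟨a, ha⟩ := Monoid.exists_orderOf_eq_exponent (G := A) Monoid.ExponentExists.of_finite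
  set e := Monoid.exponent A with he
  have hepos : 0 < e := Nat.pos_of_ne_zero Monoid.exponent_ne_zero_of_finite
  letI : CommGroup σ.ker :=
    { (inferInstance : Group σ.ker) with
      mul_comm := fun a b => Subtype.ext (Subgroup.mem_center_iff.mp (hσ.2.1 b.2) a.1) }
  let z : σ.ker := f.symm a
  have hz : orderOf z = e := (f.symm.orderOf_eq a).trans ha
  have hexp : ∀ k : σ.ker, k ^ e = 1 := fun k => by
    apply f.injective
    rw [map_pow, map_one, he, Monoid.pow_exponent_eq_one]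
  have hζ : IsPrimitiveRoot (Complex.exp (2 * Real.pi * Complex.I / e)) e :=
    Complex.isPrimitiveRoot_exp e hepos.ne'
  let u : ℂˣ := Units.mk0 _ (hζ.ne_zero hepos.ne')
  have hu : IsPrimitiveRoot u e := IsPrimitiveRoot.coe_units_iff.mp hζ
  let χ₀ : Subgroup.zpowers z →* ℂˣ := monoidHomOfForallMemZpowers
    (g := (⟨z, Subgroup.mem_zpowers z⟩ : Subgroup.zpowers z))
    (fun x => by
      obtain ⟨k, hk⟩ := x.2
      exact ⟨k, Subtype.ext (by simpa using hk)⟩)
    (g' := u) (by rw [← Subgroup.orderOf_coe, hz, ← hu.eq_orderOf])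
  obtain ⟨ψ, hψ⟩ := CfsgLib.Schur.Character.exists_extension_subgroup (Subgroup.zpowers z) χ₀
  have hψz : ψ z = u := (hψ ⟨z, Subgroup.mem_zpowers z⟩).trans
    (monoidHomOfForallMemZpowers_apply_gen _ _)
  have hgen : ∀ k : σ.ker, ∃ i : ℕ, (z ^ i)⁻¹ * k ∈ ψ.ker := fun k => by
    haveI : NeZero e := ⟨hepos.ne'⟩
    obtain ⟨i, -, hi'⟩ := hζ.eq_pow_of_pow_eq_one (ξ := ((ψ k : ℂˣ) : ℂ))
      (by rw [← Units.val_pow_eq_pow_val, ← map_pow, hexp, map_one, Units.val_one])
    have hi : u ^ i = ψ k := Units.ext (by rw [Units.val_pow_eq_pow_val]; exact hi')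
    exact ⟨i, by rw [MonoidHom.mem_ker, map_mul, map_inv, map_pow, hψz, hi, inv_mul_cancel]⟩
  let N : Subgroup Γ := ψ.ker.map σ.ker.subtype
  have hN : N ≤ σ.ker := by rintro _ ⟨k, -, rfl⟩; exact k.2
  haveI : N.Normal := ⟨fun n hn g => by
    rw [Subgroup.mem_center_iff.mp (hσ.2.1 (hN hn)) g, mul_inv_cancel_right]; exact hn⟩
  let zb : Γ ⧸ N := QuotientGroup.mk (z : Γ)
  have hzord : orderOf zb = e := by
    refine Nat.dvd_antisymm (hz ▸ ((orderOf_map_dvd (QuotientGroup.mk' N) (z : Γ)).trans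
      (by rw [Subgroup.orderOf_coe]))) ?_
    have h := pow_orderOf_eq_one zb
    rw [← QuotientGroup.mk_pow, QuotientGroup.eq_one_iff] at h
    obtain ⟨k, hk, hkz⟩ := h
    have h2 : ψ (z ^ orderOf zb) = 1 := by
      rw [← show k = z ^ orderOf zb from Subtype.ext hkz]; exact hk
    rw [map_pow, hψz] at h2
    exact hu.dvd_of_pow_eq_one _ h2
  let τ : Γ ⧸ N →* Q := QuotientGroup.lift N σ hN
  have hker : τ.ker = Subgroup.zpowers zb := by
    apply le_antisymm
    · intro x hx
      induction x using QuotientGroup.induction_on with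
      | _ w =>
        obtain ⟨i, hi⟩ := hgen ⟨w, hx⟩
        refine ⟨(i : ℤ), ?_⟩
        show zb ^ (i : ℤ) = _
        rw [zpow_natCast, ← QuotientGroup.mk_pow, QuotientGroup.eq]
        exact ⟨_, hi, by simp⟩
    · rw [Subgroup.zpowers_le]; exact z.2
  have hcard : Nat.card (Γ ⧸ N) = Nat.card Q * e := by
    rw [Subgroup.card_eq_card_quotient_mul_card_subgroup τ.ker,
      Nat.card_congr (QuotientGroup.quotientKerEquivOfSurjective τ (fun q => by
        obtain ⟨x, hx⟩ := hσ.1 q; exact ⟨QuotientGroup.mk x, hx⟩)).toEquiv,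
      hker, Nat.card_zpowers, hzord]
  have h := cube_dvd zb
    (Subgroup.mem_center_iff.mpr fun y => by
      obtain ⟨y, rfl⟩ := QuotientGroup.mk_surjective y
      exact congrArg (QuotientGroup.mk (s := N)) (Subgroup.mem_center_iff.mp (hσ.2.1 z.2) y))
    (by
      have hle : (commutator Γ).map (QuotientGroup.mk' N) ≤ commutator (Γ ⧸ N) := by
        rw [commutator_def, commutator_def, Subgroup.map_commutator]
        exact Subgroup.commutator_mono le_top le_top
      exact hle ⟨z, hσ.2.2 z.2, rfl⟩)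
  rw [hzord, hcard] at h
  exact Nat.dvd_of_mul_dvd_mul_right hepos h

end Cfsg.Agent.S3952
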