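import Cfsg.Statements.S3953
import Cfsg.Agent.Lib.Schur.Restriction

set_option autoImplicit false
open Cfsg
open CfsgLib.Schur.Basic CfsgLib.Schur.Restriction

namespace Cfsg.Agent.S3953

/-- Let `P` be a Sylow `p`-subgroup of the finite group `G`, let `A` be the Schur multiplier of `G` and `B` that of `P`. Then the `p`-primary component of `A` is isomorphic to a direct factor of `B`: there are subgroups `C` and `D` of `B` meeting trivially and generating `B`, with `C` isomorphic to the `p`-primary component of `A`. -/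
theorem result {G : Type*} [Group G] [Finite G] (p : ℕ) [Fact p.Prime] (P : Sylow p G) {A B : Type*} [CommGroup A] [CommGroup B] (hA : Cfsg.HasSchurMultiplier G A) (hB : Cfsg.HasSchurMultiplier P B) : ∃ C D : Subgroup B, C ⊓ D = ⊥ ∧ C ⊔ D = ⊤ ∧ Nonempty (CommGroup.primaryComponent A p ≃* C) := by
  haveI := finite_of_hasSchurMultiplier hA
  haveI := finite_of_hasSchurMultiplier hB
  obtain ⟨a⟩ := mult_equiv hA
  obtain ⟨b₀⟩ := mult_equiv hB
  obtain ⟨b₁⟩ := mult_equiv_MU (P : Subgroup G)
  obtain ⟨res, cor, hrc⟩ := exists_cores (P : Subgroup G)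
  let e : MU (P : Subgroup G) ≃* B := b₁.symm.trans b₀
  let r : B →* A := a.toMonoidHom.comp (res.comp e.symm.toMonoidHom)
  let c : A →* B := e.toMonoidHom.comp (cor.comp a.symm.toMonoidHom)
  have hrc' : ∀ x, r (c x) = x ^ (P : Subgroup G).index := fun x => by
    simp only [r, c, MonoidHom.comp_apply, MulEquiv.coe_toMonoidHom, MulEquiv.symm_apply_apply, hrc]
    rw [map_pow, MulEquiv.apply_symm_apply]
  -- `B` is a `p`-group
  have hBp : ∀ y : B, ∃ k : ℕ, y ^ p ^ k = 1 := by
    intro y
    obtain ⟨k, hk⟩ := IsPGroup.iff_card.mp P.2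
    refine ⟨k, ?_⟩
    have h := CfsgLib.Schur.Bound.pow_card_eq_one (projU (P : Subgroup G)) (projU_surjective _)
      (ker_projU_le_center _) (e.symm y).2.1 (e.symm y).2.2
    have hk' : Nat.card ↥(P : Subgroup G) = p ^ k := hk
    rw [hk'] at h
    have h2 : (e.symm y) ^ p ^ k = 1 := Subtype.ext (by rw [SubgroupClass.coe_pow]; exact h)
    rw [← map_pow] at h2
    exact e.symm.injective (h2.trans (map_one _).symm)
  have hrp : ∀ y, r y ∈ CommGroup.primaryComponent A p := fun y => by
    obtain ⟨k, hk⟩ := hBp y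
    exact CommGroup.mem_primaryComponent.mpr ⟨k, by rw [← map_pow, hk, map_one]⟩
  have hcop : (P : Subgroup G).index.Coprime p :=
    ((Nat.Prime.coprime_iff_not_dvd (Fact.out : p.Prime)).mpr P.not_dvd_index).symm
  have hbij : ∀ x ∈ CommGroup.primaryComponent A p,
      ∃ l : ℕ, (x ^ (P : Subgroup G).index) ^ l = x := by
    intro x hx
    obtain ⟨k, hk⟩ := CommGroup.mem_primaryComponent_iff_orderOf.mp hx
    exact exists_pow_eq_self_of_coprime (hk ▸ hcop.pow_right k)
  let f : CommGroup.primaryComponent A p →* B := c.comp (CommGroup.primaryComponent A p).subtype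
  have hf : Function.Injective f := (injective_iff_map_eq_one f).mpr fun x hx => by
    obtain ⟨l, hl⟩ := hbij x x.2
    have h1 : r (f x) = 1 := by rw [hx, map_one]
    rw [show r (f x) = (x : A) ^ (P : Subgroup G).index from hrc' _] at h1
    rw [h1, one_pow] at hl
    exact Subtype.ext hl.symm
  refine ⟨f.range, r.ker, ?_, ?_, ⟨MonoidHom.ofInjective hf⟩⟩
  · rw [eq_bot_iff]
    rintro _ ⟨⟨x, rfl⟩, hx⟩
    obtain ⟨l, hl⟩ := hbij x x.2
    have h1 : (x : A) ^ (P : Subgroup G).index = 1 := (hrc' _).symm.trans hx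
    rw [h1, one_pow] at hl
    rw [Subgroup.mem_bot, show x = 1 from Subtype.ext hl.symm, map_one]
  · rw [eq_top_iff]
    intro y _
    obtain ⟨l, hl⟩ := hbij (r y) (hrp y)
    let x : CommGroup.primaryComponent A p := ⟨r y ^ l, Subgroup.pow_mem _ (hrp y) l⟩
    have hx : r (f x) = r y := by
      show r (c (r y ^ l)) = r y
      rw [hrc', ← pow_mul, mul_comm, pow_mul]; exact hl
    have hmem : (f x)⁻¹ * y ∈ r.ker := by
      rw [MonoidHom.mem_ker, map_mul, map_inv, hx, inv_mul_cancel]
    have := Subgroup.mul_mem_sup (show f x ∈ f.range from ⟨x, rfl⟩) hmem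
    rwa [mul_inv_cancel_left] at this

end Cfsg.Agent.S3953
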