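import Cfsg.Statements.S3954
import Cfsg.Agent.Lib.Schur.Bound
import Cfsg.Agent.Lib.Schur.Dual

set_option autoImplicit false
open Cfsg
open CfsgLib.Schur.Basic

namespace Cfsg.Agent.S3954

/-- Let `U` be a subgroup of index `m` in the finite group `G`, let `A` be the Schur multiplier of `G` and `B` that of `U`. Then the subgroup of `m`-th powers of `A` is isomorphic to a subgroup of `B`. -/
theorem result {G : Type*} [Group G] [Finite G] (U : Subgroup G) {A B : Type*} [CommGroup A] [CommGroup B] (hA : Cfsg.HasSchurMultiplier G A) (hB : Cfsg.HasSchurMultiplier U B) : ∃ C : Subgroup B, Nonempty ((powMonoidHom U.index : A →* A).range ≃* C) := by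
  haveI := finite_of_hasSchurMultiplier hB
  obtain ⟨Γ, _, _, σ, hσ, ⟨e⟩⟩ := hA.1
  obtain ⟨g⟩ := mult_equiv hB
  let X : Subgroup Γ := U.comap σ
  let ξ : ↥X →* ↥U := (σ.comp X.subtype).codRestrict U fun x => x.2
  have hk : ξ.ker ≤ Subgroup.center ↥X := fun x hx => Subgroup.mem_center_iff.mpr fun y =>
    Subtype.ext (Subgroup.mem_center_iff.mp (hσ.2.1 (congrArg Subtype.val hx : σ x.1 = 1)) y.1)
  have hs : Function.Surjective ξ := fun u => by
    obtain ⟨x, hx⟩ := hσ.1 u.1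
    exact ⟨⟨x, by show σ x ∈ U; rw [hx]; exact u.2⟩, Subtype.ext hx⟩
  obtain ⟨η, hη⟩ := exists_lift (canon ↥U) ξ hs hk
  have hmap := map_multOf _ (canon_surjective ↥U) ξ hk η hη
  let D : Subgroup Γ := (ξ.ker ⊓ commutator ↥X).map X.subtype
  have hcomm : ∀ a b : ↥D, a * b = b * a := by
    rintro ⟨a, ha⟩ ⟨b, y, hy, rfl⟩
    exact Subtype.ext (Subgroup.mem_center_iff.mp
      (hσ.2.1 (congrArg Subtype.val hy.1 : σ y.1 = 1)) a)
  letI : CommGroup ↥D := { (inferInstance : Group ↥D) with mul_comm := hcomm }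
  let p : B →* ↥D := ((X.subtype.comp (η.comp (multOf (canon ↥U)).subtype)).codRestrict D
    fun m => Subgroup.mem_map.mpr ⟨_, hmap.le ⟨m.1, m.2, rfl⟩, rfl⟩).comp g.symm.toMonoidHom
  have hp : Function.Surjective p := by
    rintro ⟨_, y, hy, rfl⟩
    obtain ⟨m, hm, hmy⟩ := hmap.ge hy
    exact ⟨g ⟨m, hm⟩, Subtype.ext (by simp [p, hmy])⟩
  obtain ⟨i, hi⟩ := CfsgLib.Schur.Dual.exists_injective_of_surjective p hp
  let R := (powMonoidHom U.index : A →* A).range
  have hmem : ∀ a : ↥R, (e.symm a.1).1 ∈ D := by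
    rintro ⟨_, a, rfl⟩
    show (e.symm (a ^ U.index)).1 ∈ D
    rw [map_pow, SubgroupClass.coe_pow]
    obtain ⟨y, hy, hyz⟩ := CfsgLib.Schur.Bound.pow_index_mem σ hσ.1 U
      (hσ.2.1 (e.symm a).2) (hσ.2.2 (e.symm a).2)
    refine ⟨y, ⟨?_, hy⟩, hyz⟩
    refine Subtype.ext ?_
    show σ y.1 = 1
    rw [show y.1 = (e.symm a).1 ^ U.index from hyz, map_pow, (MonoidHom.mem_ker.mp (e.symm a).2),
      one_pow]
  let j : ↥R →* ↥D := (σ.ker.subtype.comp (e.symm.toMonoidHom.comp R.subtype)).codRestrict D hmem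
  have hj : Function.Injective j := fun a b h =>
    Subtype.ext (e.symm.injective (Subtype.ext (congrArg Subtype.val h : _)))
  exact ⟨(i.comp j).range, ⟨MonoidHom.ofInjective (f := i.comp j) (hi.comp hj)⟩⟩

end Cfsg.Agent.S3954
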