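import Cfsg.Statements.S3955
import Cfsg.Agent.Lib.Schur.Projective

set_option autoImplicit false
open Cfsg
open CfsgLib.Schur.Basic CfsgLib.Schur.Projective

namespace Cfsg.Agent.S3955

/-- Let `Q` be a finite group with Schur multiplier `A`, and let `σ : Γ →* Q` be a finite stem extension whose kernel is isomorphic to `A` (a Schur covering group of `Q`). Then every homomorphism `γ` from `Q` to the quotient of `GL n ℂ` by its centre lifts along `σ`: there is a homomorphism `ρ : Γ →* GL n ℂ` which, followed by the quotient map, equals `γ ∘ σ`. -/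
theorem result {Q : Type*} [Group Q] [Finite Q] {A : Type*} [CommGroup A] (hA : Cfsg.HasSchurMultiplier Q A) {Γ : Type*} [Group Γ] [Finite Γ] (σ : Γ →* Q) (hσ : Cfsg.IsStemExtension σ) (hk : Nonempty (σ.ker ≃* A)) (n : ℕ) (γ : Q →* (GL (Fin n) ℂ ⧸ Subgroup.center (GL (Fin n) ℂ))) : ∃ ρ : Γ →* GL (Fin n) ℂ, (QuotientGroup.mk' (Subgroup.center (GL (Fin n) ℂ))).comp ρ = γ.comp σ := by
  obtain ⟨η, hη⟩ := exists_lift (canon Q) σ hσ.1 hσ.2.1
  obtain ⟨ρ, hρ⟩ := exists_lift_gl γ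
  have hmap : (multOf (canon Q)).map η = σ.ker :=
    (map_multOf _ (canon_surjective Q) σ hσ.2.1 η hη).trans (inf_eq_left.mpr hσ.2.2)
  let q : Mult Q →* σ.ker := (η.comp (multOf (canon Q)).subtype).codRestrict σ.ker
    fun m => hmap.le ⟨m.1, m.2, rfl⟩
  have hq : Function.Surjective q := fun x => by
    obtain ⟨m, hm, hx⟩ := hmap.ge x.2
    exact ⟨⟨m, hm⟩, Subtype.ext hx⟩
  obtain ⟨f⟩ := hk
  obtain ⟨g⟩ := mult_equiv hA
  have hbij : Function.Bijective q := (Nat.bijective_iff_surjective_and_card q).mpr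
    ⟨hq, by rw [Nat.card_congr g.toEquiv, Nat.card_congr f.toEquiv]⟩
  have hkerK : η.ker ≤ (proj (canon Q)).ker := fun e he => by
    rw [MonoidHom.mem_ker, ← hη, MonoidHom.comp_apply, MonoidHom.mem_ker.mp he, map_one]
  have hC : η.ker ⊓ commutator (Ext (canon Q)) = ⊥ := by
    rw [eq_bot_iff]
    rintro x ⟨hx1, hx2⟩
    have hx : x ∈ multOf (canon Q) := ⟨hkerK hx1, hx2⟩
    have := hbij.1 (a₁ := ⟨x, hx⟩) (a₂ := 1) (Subtype.ext (by
      show η x = (q 1 : ↥σ.ker).1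
      rw [map_one]; exact hx1))
    exact congrArg Subtype.val this
  let μ : η.ker →* Subgroup.center (GL (Fin n) ℂ) := (ρ.comp η.ker.subtype).codRestrict _ fun e => by
    have h : QuotientGroup.mk' (Subgroup.center (GL (Fin n) ℂ)) (ρ e.1) = γ (proj (canon Q) e.1) :=
      congrArg (fun f : Ext (canon Q) →* _ => f e.1) hρ
    rw [MonoidHom.mem_ker.mp (hkerK e.2), map_one] at h
    exact (QuotientGroup.eq_one_iff _).mp h
  obtain ⟨χ, hχc, hχ⟩ := exists_scalar_extension η.ker hC μ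
  let ρ' : Ext (canon Q) →* GL (Fin n) ℂ :=
    { toFun := fun e => ρ e * (χ e)⁻¹
      map_one' := by simp
      map_mul' := fun a b => by
        rw [map_mul, map_mul, mul_inv_rev]
        have h1 : (χ a)⁻¹ * ρ b = ρ b * (χ a)⁻¹ :=
          (Subgroup.mem_center_iff.mp (inv_mem (hχc a)) (ρ b)).symm
        have h2 : (χ b)⁻¹ * (χ a)⁻¹ = (χ a)⁻¹ * (χ b)⁻¹ :=
          Subgroup.mem_center_iff.mp (inv_mem (hχc a)) _
        rw [h2]
        calc ρ a * ρ b * ((χ a)⁻¹ * (χ b)⁻¹) = ρ a * (ρ b * (χ a)⁻¹) * (χ b)⁻¹ := by group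
          _ = ρ a * ((χ a)⁻¹ * ρ b) * (χ b)⁻¹ := by rw [h1]
          _ = ρ a * (χ a)⁻¹ * (ρ b * (χ b)⁻¹) := by group }
  have hsurj : Function.Surjective η := lift_surjective _ (canon_surjective Q) σ hσ η hη
  have hle : η.ker ≤ ρ'.ker := fun e he => by
    show ρ e * (χ e)⁻¹ = 1
    rw [show χ e = ρ e from hχ ⟨e, he⟩, mul_inv_cancel]
  refine ⟨(η.liftOfSurjective hsurj) ⟨ρ', hle⟩, MonoidHom.ext fun x => ?_⟩
  obtain ⟨e, rfl⟩ := hsurj x
  rw [MonoidHom.comp_apply, MonoidHom.comp_apply]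
  rw [show ((η.liftOfSurjective hsurj) ⟨ρ', hle⟩) (η e) = ρ' e from
    MonoidHom.liftOfRightInverse_comp_apply _ _ _ _ e]
  have h := congrArg (fun f : Ext (canon Q) →* _ => f e) hρ
  simp only [MonoidHom.comp_apply] at h
  show QuotientGroup.mk' _ (ρ e * (χ e)⁻¹) = _
  rw [map_mul, h, show QuotientGroup.mk' (Subgroup.center (GL (Fin n) ℂ)) (χ e)⁻¹ = 1 from
    (QuotientGroup.eq_one_iff _).mpr (inv_mem (hχc e)), mul_one]
  exact congrArg γ (congrArg (fun f : Ext (canon Q) →* Q => f e) hη).symm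

end Cfsg.Agent.S3955
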