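import Cfsg.Statements.S3956
import Cfsg.Agent.Lib.Schur.Cover
import Cfsg.Agent.Lib.Schur.Projective

set_option autoImplicit false
universe u v
open Cfsg
open CfsgLib.Schur.Basic CfsgLib.Schur.Projective

namespace Cfsg.Agent.S3956

/-- Let `σ : Γ →* Q` be a finite stem extension of the finite group `Q` such that every homomorphism from `Q` to the quotient of `GL n ℂ` by its centre, for every `n`, lifts along `σ` to a homomorphism `Γ →* GL n ℂ`. Then `σ` is a Schur covering group of `Q`: for every finite stem extension `τ : Δ →* Q` with `Δ` in the same universe as `Q`, the kernel of `τ` is a homomorphic image of the kernel of `σ`. -/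
theorem result {Q : Type u} [Group Q] [Finite Q] {Γ : Type v} [Group Γ] [Finite Γ] (σ : Γ →* Q) (hσ : Cfsg.IsStemExtension σ) (hlift : ∀ (n : ℕ) (γ : Q →* (GL (Fin n) ℂ ⧸ Subgroup.center (GL (Fin n) ℂ))), ∃ ρ : Γ →* GL (Fin n) ℂ, (QuotientGroup.mk' (Subgroup.center (GL (Fin n) ℂ))).comp ρ = γ.comp σ) (Δ : Type u) [Group Δ] [Finite Δ] (τ : Δ →* Q) (hτ : Cfsg.IsStemExtension τ) : ∃ π : σ.ker →* τ.ker, Function.Surjective π := by
  obtain ⟨η, hη⟩ := exists_lift (canon Q) σ hσ.1 hσ.2.1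
  obtain ⟨η', hη'⟩ := exists_lift (canon Q) τ hτ.1 hτ.2.1
  refine CfsgLib.Schur.Cover.exists_surjective_kernels σ hσ τ hτ η hη η' hη' fun m hm hm1 => ?_
  by_contra hne
  have hz : η' m ∈ τ.ker := by
    rw [MonoidHom.mem_ker, ← MonoidHom.comp_apply, hη']; exact hm.1
  letI : CommGroup τ.ker :=
    { (inferInstance : Group τ.ker) with
      mul_comm := fun a b => Subtype.ext (Subgroup.mem_center_iff.mp (hτ.2.1 b.2) a.1) }
  obtain ⟨lam, hlam⟩ := CommGroup.exists_apply_ne_one_of_hasEnoughRootsOfUnity τ.ker ℂ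
    (a := ⟨η' m, hz⟩) (fun h => hne (congrArg Subtype.val h))
  obtain ⟨k, P, hk, hP⟩ := exists_monomial τ hτ.1 hτ.2.1 lam
  have hle : τ.ker ≤ ((QuotientGroup.mk' (Subgroup.center (GL (Fin k) ℂ))).comp P).ker := fun z hz' => by
    rw [MonoidHom.mem_ker, MonoidHom.comp_apply, QuotientGroup.mk'_apply, QuotientGroup.eq_one_iff]
    rw [hP ⟨z, hz'⟩]
    exact scalarHom_mem_center _
  let γ : Q →* GL (Fin k) ℂ ⧸ Subgroup.center (GL (Fin k) ℂ) :=
    (τ.liftOfSurjective hτ.1) ⟨_, hle⟩
  obtain ⟨ρ, hρ⟩ := hlift k γ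
  have hdiff : ∀ e, ((P.comp η') e)⁻¹ * (ρ.comp η) e ∈ Subgroup.center (GL (Fin k) ℂ) := fun e => by
    rw [← QuotientGroup.eq_one_iff, ← QuotientGroup.mk'_apply, map_mul, map_inv]
    have h1 : QuotientGroup.mk' (Subgroup.center (GL (Fin k) ℂ)) (ρ (η e)) = γ (σ (η e)) :=
      congrArg (fun f : Γ →* _ => f (η e)) hρ
    have h2 : γ (τ (η' e)) = QuotientGroup.mk' (Subgroup.center (GL (Fin k) ℂ)) (P (η' e)) :=
      MonoidHom.liftOfRightInverse_comp_apply _ _ _ _ (η' e)
    have h3 : σ (η e) = τ (η' e) := by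
      rw [← MonoidHom.comp_apply, hη, ← hη', MonoidHom.comp_apply]
    rw [MonoidHom.comp_apply, MonoidHom.comp_apply, h1, h3, h2, inv_mul_cancel]
  -- the difference is a homomorphism into an abelian group, so it is trivial on `m`
  let d : Ext (canon Q) →* GL (Fin k) ℂ :=
    { toFun := fun e => ((P.comp η') e)⁻¹ * (ρ.comp η) e
      map_one' := by simp
      map_mul' := fun a b => by
        have hc := Subgroup.mem_center_iff.mp (hdiff a) ((P.comp η') b)⁻¹
        rw [map_mul, map_mul, mul_inv_rev]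
        calc ((P.comp η') b)⁻¹ * ((P.comp η') a)⁻¹ * ((ρ.comp η) a * (ρ.comp η) b)
            = ((P.comp η') b)⁻¹ * (((P.comp η') a)⁻¹ * (ρ.comp η) a) * (ρ.comp η) b := by group
          _ = ((P.comp η') a)⁻¹ * (ρ.comp η) a * ((P.comp η') b)⁻¹ * (ρ.comp η) b := by rw [hc]
          _ = _ := by group }
  have hd : d m = 1 := by
    have h1 : commutator (Ext (canon Q)) ≤ d.ker := by
      rw [commutator_def, Subgroup.commutator_le]
      intro a _ b _
      rw [MonoidHom.mem_ker, map_commutatorElement, commutatorElement_eq_one_iff_mul_comm]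
      exact (Subgroup.mem_center_iff.mp (hdiff a) _).symm
    exact h1 hm.2
  have hP1 : P (η' m) = 1 := by
    have : (P (η' m))⁻¹ * ρ (η m) = 1 := hd
    rw [hm1, map_one, mul_one, inv_eq_one] at this
    exact this
  rw [hP ⟨η' m, hz⟩] at hP1
  exact hlam (scalarHom_injective hk (hP1.trans (map_one _).symm))

end Cfsg.Agent.S3956
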