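import Cfsg.Statements.S3957
import Cfsg.Agent.Lib.Schur.Cover

set_option autoImplicit false
universe u v
open Cfsg
open CfsgLib.Schur.Basic

namespace Cfsg.Agent.S3957

/-- Let `Q` be a finite group with Schur multiplier `A` and let `τ : Δ →* Q` be a finite stem extension, `Δ` in the universe of `Q`. Then there is a finite stem extension `σ : Γ →* Q` with kernel isomorphic to `A` (a Schur covering group) and a surjective homomorphism `β : Γ →* Δ` with `τ ∘ β = σ`. -/
theorem result {Q : Type u} [Group Q] [Finite Q] {A : Type v} [CommGroup A] (hA : Cfsg.HasSchurMultiplier Q A) {Δ : Type u} [Group Δ] [Finite Δ] (τ : Δ →* Q) (hτ : Cfsg.IsStemExtension τ) : ∃ (Γ : Type u) (_ : Group Γ) (_ : Finite Γ) (σ : Γ →* Q), Cfsg.IsStemExtension σ ∧ Nonempty (σ.ker ≃* A) ∧ ∃ β : Γ →* Δ, Function.Surjective β ∧ τ.comp β = σ := by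
  obtain ⟨η, hη⟩ := exists_lift (canon Q) τ hτ.1 hτ.2.1
  have hmap : (multOf (canon Q)).map η = τ.ker :=
    (map_multOf _ (canon_surjective Q) τ hτ.2.1 η hη).trans (inf_eq_left.mpr hτ.2.2)
  let K := (proj (canon Q)).ker
  obtain ⟨C, hCL, hd, hj⟩ := exists_complement_le (canon Q) (K ⊓ η.ker) inf_le_left
  have hC : C ≤ K := hCL.trans inf_le_left
  have hj' : C ⊔ multOf (canon Q) = K := by
    refine le_antisymm (sup_le hC inf_le_left) fun k hk => ?_
    have h1 : η k ∈ τ.ker := by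
      rw [MonoidHom.mem_ker, ← MonoidHom.comp_apply, hη]; exact hk
    obtain ⟨m, hm, hme⟩ := hmap.ge h1
    have h2 : k * m⁻¹ ∈ K ⊓ η.ker :=
      ⟨K.mul_mem hk (K.inv_mem hm.1), by simp [hme]⟩
    rw [← hj] at h2
    have h3 : C ⊔ ((K ⊓ η.ker) ⊓ commutator (Ext (canon Q))) ≤ C ⊔ multOf (canon Q) :=
      sup_le_sup_left (inf_le_inf_right _ inf_le_left) C
    have := Subgroup.mul_mem _ (h3 h2) (Subgroup.mem_sup_right (S := C) hm)
    rwa [inv_mul_cancel_right] at this
  haveI := normal_of_le_ker (canon Q) hC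
  obtain ⟨hfin, hs, e, -⟩ := cover_of_complement (canon Q) (canon_surjective Q) C hC hd hj'
  obtain ⟨f⟩ := mult_equiv hA
  refine ⟨_, inferInstance, hfin, _, hs, ⟨e.symm.trans f⟩,
    QuotientGroup.lift C η (hCL.trans inf_le_right), ?_, ?_⟩
  · intro d
    obtain ⟨x, rfl⟩ := lift_surjective _ (canon_surjective Q) τ hτ η hη d
    exact ⟨QuotientGroup.mk x, rfl⟩
  · exact QuotientGroup.monoidHom_ext _ hη

end Cfsg.Agent.S3957
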