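import Cfsg.Statements.S3958
import Cfsg.Agent.Lib.Schur.Cover

set_option autoImplicit false
universe u v
open Cfsg
open CfsgLib.Schur.Basic

namespace Cfsg.Agent.S3958

/-- Let `σ : Γ →* Q` be a finite stem extension of the finite group `Q` with `Γ` of trivial Schur multiplier. Then `σ` is a Schur covering group of `Q`: for every finite stem extension `τ : Δ →* Q` with `Δ` in the same universe as `Q`, the kernel of `τ` is a homomorphic image of the kernel of `σ`. -/
theorem result {Q : Type u} [Group Q] [Finite Q] {Γ : Type v} [Group Γ] [Finite Γ] (σ : Γ →* Q) (hσ : Cfsg.IsStemExtension σ) (hΓ : Cfsg.HasCyclicSchurMultiplier Γ 1) (Δ : Type u) [Group Δ] [Finite Δ] (τ : Δ →* Q) (hτ : Cfsg.IsStemExtension τ) : ∃ π : σ.ker →* τ.ker, Function.Surjective π := by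
  obtain ⟨η, hη⟩ := exists_lift (canon Q) σ hσ.1 hσ.2.1
  obtain ⟨η', hη'⟩ := exists_lift (canon Q) τ hτ.1 hτ.2.1
  refine CfsgLib.Schur.Cover.exists_surjective_kernels σ hσ τ hτ η hη η' hη' fun m hm hm1 => ?_
  let X : Subgroup (Γ × Δ) := (η.prod η').range
  let ξ : ↥X →* Γ := (MonoidHom.fst Γ Δ).comp X.subtype
  have hsurj : Function.Surjective ξ := fun g => by
    obtain ⟨x, rfl⟩ := lift_surjective _ (canon_surjective Q) σ hσ η hη g
    exact ⟨⟨(η x, η' x), x, rfl⟩, rfl⟩
  have hk : ξ.ker ≤ Subgroup.center ↥X := by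
    rintro ⟨⟨g, d⟩, x, hx⟩ hg
    have hg1 : g = 1 := hg
    have e1 : η x = g := congrArg Prod.fst hx
    have e2 : η' x = d := congrArg Prod.snd hx
    have hd : d ∈ τ.ker := by
      rw [MonoidHom.mem_ker, ← e2, ← MonoidHom.comp_apply, hη', ← hη, MonoidHom.comp_apply, e1,
        hg1, map_one]
    rw [Subgroup.mem_center_iff]
    rintro ⟨⟨a, b⟩, _⟩
    refine Subtype.ext (Prod.ext ?_ (Subgroup.mem_center_iff.mp (hτ.2.1 hd) b))
    show a * g = g * a
    simp [hg1]
  have h0 := ker_inf_commutator_eq_bot hΓ ξ hsurj hk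
  let y : ↥X := ⟨(η m, η' m), m, rfl⟩
  have hy : y ∈ ξ.ker ⊓ commutator ↥X := by
    refine ⟨hm1, ?_⟩
    have hle : (commutator (Ext (canon Q))).map (η.prod η').rangeRestrict ≤ commutator ↥X := by
      rw [commutator_def, commutator_def, Subgroup.map_commutator]
      exact Subgroup.commutator_mono le_top le_top
    exact hle ⟨m, hm.2, rfl⟩
  rw [h0, Subgroup.mem_bot] at hy
  exact congrArg (fun z : ↥X => z.1.2) hy

end Cfsg.Agent.S3958
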