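import Cfsg.Statements.S3959
import Cfsg.Agent.Lib.Schur.Product

set_option autoImplicit false
universe u v w
open Cfsg
open CfsgLib.Schur.Basic CfsgLib.Schur.Product
open scoped TensorProduct

namespace Cfsg.Agent.S3959

/-- Let `Q₁` and `Q₂` be finite groups with Schur multipliers `A` and `B`. Then the Schur multiplier of `Q₁ × Q₂` is isomorphic to `A × B × (Q₁ᵃᵇ ⊗ Q₂ᵃᵇ)`, the last factor being the tensor product over the integers of the commutator quotients, written multiplicatively. -/
theorem result {Q₁ : Type u} {Q₂ : Type v} [Group Q₁] [Group Q₂] [Finite Q₁] [Finite Q₂] {A B : Type w} [CommGroup A] [CommGroup B] (hA : Cfsg.HasSchurMultiplier Q₁ A) (hB : Cfsg.HasSchurMultiplier Q₂ B) : Cfsg.HasSchurMultiplier (Q₁ × Q₂) (A × B × Multiplicative (TensorProduct ℤ (Additive (Abelianization Q₁)) (Additive (Abelianization Q₂)))) := by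
  haveI := finite_of_hasSchurMultiplier hA
  haveI := finite_of_hasSchurMultiplier hB
  haveI : Finite (TensorProduct ℤ (Additive (Abelianization Q₁)) (Additive (Abelianization Q₂))) := by
    haveI : AddGroup.FG (TensorProduct ℤ (Additive (Abelianization Q₁)) (Additive (Abelianization Q₂))) := by
      refine ⟨(Set.finite_range fun x : Additive (Abelianization Q₁) × Additive (Abelianization Q₂) =>
        x.1 ⊗ₜ[ℤ] x.2).toFinset, ?_⟩
      rw [Set.Finite.coe_toFinset, eq_top_iff]
      intro t _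
      induction t with
      | zero => exact zero_mem _
      | add a b ha hb => exact add_mem (ha trivial) (hb trivial)
      | tmul a b => exact AddSubgroup.subset_closure ⟨(a, b), rfl⟩
    refine AddCommGroup.finite_of_fg_isAddTorsion _ fun t => ?_
    rw [isOfFinAddOrder_iff_nsmul_eq_zero]
    refine ⟨Nat.card (Additive (Abelianization Q₁)), Nat.card_pos, ?_⟩
    induction t with
    | zero => simp
    | add a b ha hb => rw [nsmul_add, ha, hb, add_zero]
    | tmul a b => rw [TensorProduct.smul_tmul', card_nsmul_eq_zero', TensorProduct.zero_tmul]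
  haveI : Finite (TensorAb Q₁ Q₂) := inferInstanceAs (Finite (Multiplicative _))
  obtain ⟨Γ₁, _, _, σ₁, h₁, ⟨e₁⟩⟩ := hA.1
  obtain ⟨Γ₂, _, _, σ₂, h₂, ⟨e₂⟩⟩ := hB.1
  obtain ⟨X, _, σ, hσ, ⟨e⟩⟩ := exists_stem σ₁ σ₂ h₁ h₂
  obtain ⟨g₁⟩ := mult_equiv hA
  obtain ⟨g₂⟩ := mult_equiv hB
  refine hasSchurMultiplier_of_le σ hσ (e.trans (e₁.prodCongr (e₂.prodCongr (MulEquiv.refl _)))) ?_
  intro Γ _ _ τ hτ
  refine (card_ker_le τ hτ).trans (le_of_eq ?_)
  simp only [Nat.card_prod, Nat.card_congr g₁.toEquiv, Nat.card_congr g₂.toEquiv]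

end Cfsg.Agent.S3959
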