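import Cfsg.Statements.S3960
import Cfsg.Agent.Lib.Schur.Cover

set_option autoImplicit false
universe u
open Cfsg
open CfsgLib.Schur.Basic

namespace Cfsg.Agent.S3960

/-- A finite perfect group `Q` has a universal central extension: a finite perfect group `G` in the universe of `Q` and a surjective homomorphism `π : G →* Q` with central kernel such that for every group `X` in that universe and every surjective homomorphism `ξ : X →* Q` with central kernel there is exactly one homomorphism `η : G →* X` with `ξ ∘ η = π`. -/
theorem result {Q : Type u} [Group Q] [Finite Q] (hQ : Group.IsPerfect Q) : ∃ (G : Type u) (_ : Group G) (_ : Finite G) (π : G →* Q), Group.IsPerfect G ∧ Function.Surjective π ∧ π.ker ≤ Subgroup.center G ∧ ∀ (X : Type u) [Group X] (ξ : X →* Q), Function.Surjective ξ → ξ.ker ≤ Subgroup.center X → ∃! η : G →* X, ξ.comp η = π := by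
  let E := Ext (canon Q)
  have hQ' := (Group.IsPerfect.commutator_eq_top (G := Q) (self := hQ))
  have hrange : (commutator E).map (proj (canon Q)) = ⊤ := by
    rw [commutator_def, Subgroup.map_commutator, ← MonoidHom.range_eq_map,
      MonoidHom.range_eq_top.mpr (proj_surjective _ (canon_surjective Q)), ← commutator_def, hQ']
  let π : ↥(commutator E) →* Q := (proj (canon Q)).comp (commutator E).subtype
  have hπ : Function.Surjective π := fun q => by
    obtain ⟨e, he, hq⟩ := hrange.ge (Subgroup.mem_top q)
    exact ⟨⟨e, he⟩, hq⟩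
  haveI := finiteIndex_center (canon Q)
  have hk : π.ker ≤ Subgroup.center ↥(commutator E) := fun x hx =>
    Subgroup.mem_center_iff.mpr fun y => Subtype.ext
      (Subgroup.mem_center_iff.mp (ker_proj_le_center (canon Q) hx) y.1)
  have hperf : Group.IsPerfect ↥(commutator E) := by
    refine ⟨eq_top_iff.mpr ?_⟩
    intro x _
    have h := commutator_le_map_of_sup_center (commutator E).subtype
      (range_sup_center_eq_top π hπ (proj (canon Q)) (ker_proj_le_center _) _ rfl) x.2
    obtain ⟨y, hy, hyx⟩ := h
    rwa [← Subtype.ext hyx]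
  refine ⟨↥(commutator E), inferInstance, finite_commutator_of_finiteIndex_center, π, hperf, hπ, hk,
    fun X _ ξ hξ hξk => ?_⟩
  obtain ⟨η, hη⟩ := exists_lift (canon Q) ξ hξ hξk
  have h1 : ξ.comp (η.comp (commutator E).subtype) = π := by
    rw [← MonoidHom.comp_assoc, hη]
  refine ⟨η.comp (commutator E).subtype, h1, fun θ hθ => ?_⟩
  refine CfsgLib.Schur.Cover.hom_eq_of_isPerfect hperf _ _ fun g => hξk ?_
  rw [MonoidHom.mem_ker, map_mul, map_inv, ← MonoidHom.comp_apply, ← MonoidHom.comp_apply, hθ, h1,
    inv_mul_cancel]

end Cfsg.Agent.S3960
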