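import Cfsg.Statements.S3961
import Cfsg.Agent.Lib.Schur.Cover

set_option autoImplicit false
universe u v
open Cfsg

namespace Cfsg.Agent.S3961

/-- Let `π : G →* Q` be a surjective homomorphism with central kernel from a finite perfect group `G` (a perfect cover of `Q`). Then `π` is universal, in the sense that every surjective homomorphism `ξ : X →* Q` with central kernel from a group `X` in the universe of `G` admits a homomorphism `η : G →* X` with `ξ ∘ η = π`, if and only if `G` has trivial Schur multiplier. -/
theorem result {G : Type u} {Q : Type v} [Group G] [Group Q] [Finite G] (hG : Group.IsPerfect G) (π : G →* Q) (hπ : Function.Surjective π) (hker : π.ker ≤ Subgroup.center G) : (∀ (X : Type u) [Group X] (ξ : X →* Q), Function.Surjective ξ → ξ.ker ≤ Subgroup.center X → ∃ η : G →* X, ξ.comp η = π) ↔ Cfsg.HasCyclicSchurMultiplier G 1 := by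
  constructor
  · intro huniv
    refine CfsgLib.Schur.Basic.hasCyclicSchurMultiplier_one_of fun Δ _ _ τ hτ => ?_
    have hΔ : Group.IsPerfect Δ := by
      refine ⟨eq_top_iff.mpr fun d _ => ?_⟩
      haveI := hG
      have hm : (commutator Δ).map τ = ⊤ := by
        rw [commutator_def, Subgroup.map_commutator, ← MonoidHom.range_eq_map,
          MonoidHom.range_eq_top.mpr hτ.1, ← commutator_def,
          Group.IsPerfect.commutator_eq_top (G := G)]
      obtain ⟨c, hc, hcd⟩ := hm.ge (Subgroup.mem_top (τ d))
      have : c⁻¹ * d ∈ commutator Δ := hτ.2.2 (by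
        rw [MonoidHom.mem_ker, map_mul, map_inv, hcd, inv_mul_cancel])
      simpa using Subgroup.mul_mem _ hc this
    have hk : (π.comp τ).ker ≤ Subgroup.center Δ := by
      intro x hx
      refine CfsgLib.Schur.Cover.mem_center_of_isPerfect hΔ x fun g => hτ.2.1 ?_
      have : τ x ∈ Subgroup.center G := hker hx
      rw [MonoidHom.mem_ker, map_mul, map_mul, map_mul, map_inv, map_inv,
        ← Subgroup.mem_center_iff.mp this (τ g), mul_inv_cancel_right, mul_inv_cancel]
    obtain ⟨η, hη⟩ := huniv Δ (π.comp τ) (hπ.comp hτ.1) hk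
    have hid : τ.comp η = MonoidHom.id G := by
      refine (CfsgLib.Schur.Cover.hom_eq_of_isPerfect hG _ _ fun g => hker ?_).symm
      have := congrArg (fun f : G →* Q => f g) hη
      simp only [MonoidHom.comp_apply] at this
      simp [this]
    have hrange : η.range ⊔ Subgroup.center Δ = ⊤ :=
      CfsgLib.Schur.Basic.range_sup_center_eq_top (MonoidHom.id G) (fun g => ⟨g, rfl⟩) τ hτ.2.1 η
        hid
    rw [eq_bot_iff]
    intro z hz
    obtain ⟨g, -, rfl⟩ := CfsgLib.Schur.Basic.commutator_le_map_of_sup_center η hrange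
      ((hΔ.commutator_eq_top).ge (Subgroup.mem_top z))
    have : g = 1 := (congrArg (fun f : G →* G => f g) hid).symm.trans hz
    rw [this, map_one]; exact one_mem _
  · intro hM X _ ξ hξ hk
    let Y : Subgroup (G × X) := (π.comp (MonoidHom.fst G X)).eqLocus (ξ.comp (MonoidHom.snd G X))
    let f : ↥Y →* G := (MonoidHom.fst G X).comp Y.subtype
    have hf : Function.Surjective f := fun g => by
      obtain ⟨x, hx⟩ := hξ (π g)
      exact ⟨⟨(g, x), hx.symm⟩, rfl⟩
    have hfk : f.ker ≤ Subgroup.center ↥Y := by
      rintro ⟨⟨g, x⟩, hgx⟩ hg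
      have hg1 : g = 1 := hg
      have hx : x ∈ ξ.ker := by
        have : π g = ξ x := hgx
        rw [MonoidHom.mem_ker, ← this, hg1, map_one]
      rw [Subgroup.mem_center_iff]
      rintro ⟨⟨a, b⟩, _⟩
      refine Subtype.ext (Prod.ext ?_ (Subgroup.mem_center_iff.mp (hk hx) b))
      show a * g = g * a
      simp [hg1]
    have h0 := CfsgLib.Schur.Basic.ker_inf_commutator_eq_bot hM f hf hfk
    let r : ↥(commutator ↥Y) →* G := f.comp (commutator ↥Y).subtype
    have hr : Function.Bijective r := by
      refine ⟨(injective_iff_map_eq_one r).mpr fun y hy => ?_, fun g => ?_⟩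
      · have : y.1 ∈ f.ker ⊓ commutator ↥Y := ⟨hy, y.2⟩
        rw [h0] at this
        exact Subtype.ext this
      · haveI := hG
        have hm : (commutator ↥Y).map f = ⊤ := by
          rw [commutator_def, Subgroup.map_commutator, ← MonoidHom.range_eq_map,
            MonoidHom.range_eq_top.mpr hf, ← commutator_def,
            Group.IsPerfect.commutator_eq_top (G := G)]
        obtain ⟨y, hy, hyg⟩ := hm.ge (Subgroup.mem_top g)
        exact ⟨⟨y, hy⟩, hyg⟩
    let e := MulEquiv.ofBijective r hr
    refine ⟨(MonoidHom.snd G X).comp (Y.subtype.comp ((commutator ↥Y).subtype.comp e.symm.toMonoidHom)),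
      MonoidHom.ext fun g => ?_⟩
    have h1 : π (e.symm g).1.1.1 = ξ (e.symm g).1.1.2 := (e.symm g).1.2
    have h2 : (e.symm g).1.1.1 = g := e.apply_symm_apply g
    rw [h2] at h1
    exact h1.symm

end Cfsg.Agent.S3961
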