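import Cfsg.Statements.S3962

set_option autoImplicit false
open Cfsg

namespace Cfsg.Agent.S3962

/-- Let `G` be a perfect group and `π : G →* Q` a surjective homomorphism whose kernel is central. Then `π` maps the centre of `G` onto the centre of `Q`. Taking `π` to be the map to `G ⧸ Z(G)` shows that the central quotient of a perfect group has trivial centre. -/
theorem result {G Q : Type*} [Group G] [Group Q] (hG : Group.IsPerfect G) (π : G →* Q) (hπ : Function.Surjective π) (hker : π.ker ≤ Subgroup.center G) : (Subgroup.center G).map π = Subgroup.center Q := by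
  apply le_antisymm
  · rintro _ ⟨g, hg, rfl⟩
    rw [Subgroup.mem_center_iff]
    intro q
    obtain ⟨x, rfl⟩ := hπ q
    rw [← map_mul, ← map_mul, Subgroup.mem_center_iff.mp hg x]
  · intro q hq
    obtain ⟨g, rfl⟩ := hπ q
    refine ⟨g, ?_, rfl⟩
    -- `x ↦ ⁅x, g⁆` is a homomorphism into the centre, hence trivial on a perfect group
    have hz : ∀ x : G, x * g * x⁻¹ * g⁻¹ ∈ Subgroup.center G := fun x => hker (by
      rw [MonoidHom.mem_ker, map_mul, map_mul, map_mul, Subgroup.mem_center_iff.mp hq (π x),
        map_inv, map_inv, mul_inv_cancel_right, mul_inv_cancel])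
    let f : G →* Subgroup.center G :=
      { toFun := fun x => ⟨x * g * x⁻¹ * g⁻¹, hz x⟩
        map_one' := Subtype.ext (by simp)
        map_mul' := fun x y => Subtype.ext (by
          have h := Subgroup.mem_center_iff.mp (hz y) x
          show x * y * g * (x * y)⁻¹ * g⁻¹ = x * g * x⁻¹ * g⁻¹ * (y * g * y⁻¹ * g⁻¹)
          calc x * y * g * (x * y)⁻¹ * g⁻¹
              = x * (y * g * y⁻¹ * g⁻¹) * g * x⁻¹ * g⁻¹ := by group
            _ = (y * g * y⁻¹ * g⁻¹) * x * g * x⁻¹ * g⁻¹ := by rw [h]
            _ = (y * g * y⁻¹ * g⁻¹) * (x * g * x⁻¹ * g⁻¹) := by group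
            _ = _ := (Subgroup.mem_center_iff.mp (hz y) _).symm) }
    rw [SetLike.mem_coe, Subgroup.mem_center_iff]
    intro x
    have hx : x ∈ f.ker := by
      haveI := hG
      have h1 : commutator G ≤ f.ker := by
        rw [commutator_def, Subgroup.commutator_le]
        intro a _ b _
        rw [MonoidHom.mem_ker, map_commutatorElement, commutatorElement_eq_one_iff_mul_comm]
        exact Subtype.ext ((Subgroup.mem_center_iff.mp (f b).2) (f a).1)
      exact h1 ((Group.IsPerfect.commutator_eq_top (G := G)).ge trivial)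
    have h2 : x * g * x⁻¹ * g⁻¹ = 1 := congrArg Subtype.val (MonoidHom.mem_ker.mp hx)
    rwa [← commutatorElement_def, commutatorElement_eq_one_iff_mul_comm] at h2

end Cfsg.Agent.S3962
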