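import Cfsg.Statements.S3964
import Cfsg.Agent.Lib.Schur.Dihedral

set_option autoImplicit false
open Cfsg

namespace Cfsg.Agent.S3964

/-- For odd `n` the dihedral group of order `2 n` has trivial Schur multiplier. -/
theorem result (n : ℕ) (hn : Odd n) : Cfsg.HasCyclicSchurMultiplier (DihedralGroup n) 1 := by
  haveI : NeZero n := ⟨fun h => by simp [h] at hn⟩
  refine CfsgLib.Schur.Basic.hasCyclicSchurMultiplier_one_of fun Γ _ _ σ hσ => ?_
  have h := CfsgLib.Schur.Dihedral.dihedral_bound n σ hσ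
  have hg : Nat.gcd n 2 = 1 := Nat.Coprime.gcd_eq_one (Nat.coprime_two_right.mpr hn)
  rw [hg, Nat.div_one] at h
  apply Subgroup.eq_bot_of_card_eq
  have h1 := Nat.le_of_dvd (Nat.pos_of_neZero n) h
  have h2 : 0 < Nat.card σ.ker := Nat.card_pos
  have h3 := Nat.pos_of_neZero n
  nlinarith

end Cfsg.Agent.S3964
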