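import Cfsg.Statements.S3966
import Cfsg.Agent.Lib.Schur.Dihedral

set_option autoImplicit false
open Cfsg
open scoped commutatorElement

namespace Cfsg.Agent.S3966

/-- For even `n ≥ 2` the dicyclic group of order `4 n` is a stem extension of the dihedral group of order `2 n` with kernel of order `2`: there is a surjective homomorphism `QuaternionGroup n →* DihedralGroup n` whose kernel is central, lies in the commutator subgroup and has two elements. Together with the order of the multiplier this exhibits the dicyclic group as a Schur covering group of the dihedral group. -/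
theorem result (n : ℕ) [NeZero n] (hn : Even n) : ∃ σ : QuaternionGroup n →* DihedralGroup n, Cfsg.IsStemExtension σ ∧ Nat.card σ.ker = 2 := by
  let c : ZMod (2 * n) →+* ZMod n := ZMod.castHom (dvd_mul_left n 2) (ZMod n)
  have hcn : c (n : ZMod (2 * n)) = 0 := by rw [map_natCast, ZMod.natCast_self]
  let σ : QuaternionGroup n →* DihedralGroup n :=
    { toFun := fun x => match x with
        | QuaternionGroup.a i => DihedralGroup.r (c i)
        | QuaternionGroup.xa i => DihedralGroup.sr (c i)
      map_one' := by rw [QuaternionGroup.one_def]; simp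
      map_mul' := by rintro (i | i) (j | j) <;> simp [hcn, map_add, map_sub] }
  have hker : σ.ker = Subgroup.zpowers (QuaternionGroup.a (n : ZMod (2 * n))) := by
    apply le_antisymm
    · rintro (i | i) hi
      · have h1 : c i = 0 := by
          have : DihedralGroup.r (c i) = DihedralGroup.r 0 := MonoidHom.mem_ker.mp hi
          exact DihedralGroup.r.inj this
        obtain ⟨k, hk⟩ : (n : ℕ) ∣ i.val := by
          rw [← CharP.cast_eq_zero_iff (ZMod n) n, ← h1, ← map_natCast c, ZMod.natCast_zmod_val]
        refine ⟨k, ?_⟩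
        show _ ^ (k : ℤ) = _
        rw [zpow_natCast]
        have : (i : ZMod (2 * n)) = ((n * k : ℕ) : ZMod (2 * n)) := by
          rw [← hk, ZMod.natCast_zmod_val]
        rw [this, ← QuaternionGroup.a_one_pow, ← QuaternionGroup.a_one_pow, ← pow_mul]
      · exfalso
        have : DihedralGroup.sr (c i) = DihedralGroup.r 0 := MonoidHom.mem_ker.mp hi
        cases this
    · rw [Subgroup.zpowers_le, MonoidHom.mem_ker]
      show DihedralGroup.r (c n) = 1
      rw [hcn]; rfl
  refine ⟨σ, ⟨?_, ?_, ?_⟩, ?_⟩
  · rintro (i | i)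
    · obtain ⟨j, rfl⟩ := ZMod.castHom_surjective (dvd_mul_left n 2) i
      exact ⟨QuaternionGroup.a j, rfl⟩
    · obtain ⟨j, rfl⟩ := ZMod.castHom_surjective (dvd_mul_left n 2) i
      exact ⟨QuaternionGroup.xa j, rfl⟩
  · have hneg : -(n : ZMod (2 * n)) = n := by
      rw [neg_eq_iff_add_eq_zero, ← Nat.cast_add, ← two_mul, ZMod.natCast_self]
    rw [hker, Subgroup.zpowers_le, Subgroup.mem_center_iff]
    rintro (i | i) <;> simp [add_comm, sub_eq_add_neg, hneg]
  · obtain ⟨k, hk⟩ := hn
    rw [hker, Subgroup.zpowers_le]
    have : QuaternionGroup.a (n : ZMod (2 * n)) =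
        ⁅QuaternionGroup.xa (0 : ZMod (2 * n)), QuaternionGroup.a (-(k : ZMod (2 * n)))⁆ := by
      simp [commutatorElement_def, CfsgLib.Schur.Dihedral.inv_xa, CfsgLib.Schur.Dihedral.inv_a]
      subst hk
      have h := CfsgLib.Schur.Dihedral.natCast_add_self (k + k)
      push_cast at h ⊢
      linear_combination -h
    rw [this]
    exact Subgroup.commutator_mem_commutator (Subgroup.mem_top _) (Subgroup.mem_top _)
  · rw [hker, Nat.card_zpowers, orderOf_eq_prime_iff]
    refine ⟨?_, fun h => ?_⟩
    · rw [sq, QuaternionGroup.a_mul_a, ← Nat.cast_add, ← two_mul, ZMod.natCast_self]; rfl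
    · have h1 : (n : ZMod (2 * n)) = 0 := QuaternionGroup.a.inj h
      rw [CharP.cast_eq_zero_iff (ZMod (2 * n)) (2 * n)] at h1
      have h2 := Nat.le_of_dvd (Nat.pos_of_neZero n) h1
      have h3 := Nat.pos_of_neZero n
      omega

end Cfsg.Agent.S3966
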