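import Cfsg.Statements.S3965
import Cfsg.Agent.Lib.Schur.Dihedral
import Cfsg.Agent.S3966

set_option autoImplicit false
open Cfsg

namespace Cfsg.Agent.S3965

/-- For even `n ≥ 2` the dihedral group of order `2 n` has Schur multiplier cyclic of order `2`. -/
theorem result (n : ℕ) [NeZero n] (hn : Even n) : Cfsg.HasCyclicSchurMultiplier (DihedralGroup n) 2 := by
  obtain ⟨σ, hσ, hcard⟩ := Cfsg.Agent.S3966.result n hn
  haveI : Fact (Nat.Prime 2) := ⟨Nat.prime_two⟩
  have e : σ.ker ≃* Multiplicative (ZMod 2) :=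
    (mulEquivOfPrimeCardEq (p := 2) hcard (by simp))
  refine CfsgLib.Schur.Basic.hasSchurMultiplier_of_le σ hσ e fun Γ _ _ τ hτ => ?_
  have h := CfsgLib.Schur.Dihedral.dihedral_bound n τ hτ
  rw [Nat.gcd_eq_right hn.two_dvd] at h
  obtain ⟨k, rfl⟩ := hn.two_dvd
  rw [Nat.mul_div_cancel_left _ (by norm_num : 0 < 2)] at h
  have hk : 0 < k := by
    have := Nat.pos_of_neZero (2 * k)
    omega
  have h2 := Nat.le_of_dvd (by omega) h
  simp only [Nat.card_eq_fintype_card (α := Multiplicative (ZMod 2)), Fintype.card_multiplicative,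
    ZMod.card]
  nlinarith

end Cfsg.Agent.S3965
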