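import Cfsg.Statements.S3967
import Cfsg.Agent.Lib.Schur.MetacyclicGroup

set_option autoImplicit false
open Cfsg
open scoped commutatorElement

namespace Cfsg.Agent.S3967

/-- Let `m, n ≥ 1`, `r ≥ 1` with `r ^ n ≡ 1 (mod m)`, and `l` a natural number; put `d = gcd(m, r - 1)`, `t = m l / d` and `h = d · gcd(m, 1 + r + ⋯ + r^(n-1)) / m`. The group presented by generators `a, b` and relations `a ^ m = 1`, `b ^ n = a ^ t`, `b a b⁻¹ = a ^ r` (a metacyclic group of order `m n`) has Schur multiplier cyclic of order `gcd(l, h)`. -/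
theorem result (m n r l : ℕ) (hm : 0 < m) (hn : 0 < n) (hr : 0 < r) (hrn : r ^ n ≡ 1 [MOD m]) : Cfsg.HasCyclicSchurMultiplier (PresentedGroup ({FreeGroup.of true ^ m, (FreeGroup.of false) ^ n * (FreeGroup.of true ^ (m * l / Nat.gcd m (r - 1)))⁻¹, FreeGroup.of false * FreeGroup.of true * (FreeGroup.of false)⁻¹ * (FreeGroup.of true ^ r)⁻¹} : Set (FreeGroup Bool))) (Nat.gcd l (Nat.gcd m (r - 1) * Nat.gcd m (∑ i ∈ Finset.range n, r ^ i) / m)) := by
  obtain ⟨r₀, rfl⟩ : ∃ r₀, r = r₀ + 1 := ⟨r - 1, by omega⟩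
  rw [Nat.add_sub_cancel]
  set d := Nat.gcd m r₀ with hd
  have hdpos : 0 < d := Nat.gcd_pos_of_pos_left _ hm
  obtain ⟨m₁, r₁, hcop, hm₁, hr₁⟩ : ∃ m₁ r₁ : ℕ, m₁.Coprime r₁ ∧ m = m₁ * d ∧ r₀ = r₁ * d :=
    Nat.exists_coprime m r₀
  have hm₁pos : 0 < m₁ := Nat.pos_of_ne_zero fun h => by
    rw [h, zero_mul] at hm₁; omega
  set t := m * l / d with ht
  have ht' : t = m₁ * l := by
    rw [ht, hm₁, mul_right_comm, Nat.mul_div_cancel _ hdpos]
  set S := ∑ i ∈ Finset.range n, (r₀ + 1) ^ i with hS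
  have hgeom : ∀ s : ℕ, (s + 1) ^ n = s * (∑ i ∈ Finset.range n, (s + 1) ^ i) + 1 := fun s => by
    have h := geom_sum_mul_add s n
    rw [mul_comm]; exact h.symm
  -- `m₁` divides `S`
  obtain ⟨S', hS'⟩ : m₁ ∣ S := by
    have h1 : m ∣ r₀ * S := by
      have h2 : r₀ * S + 1 ≡ 0 + 1 [MOD m] := by
        rw [zero_add, hS, ← hgeom]; exact hrn
      exact Nat.modEq_zero_iff_dvd.mp (Nat.ModEq.add_right_cancel' 1 h2)
    rw [hm₁, hr₁] at h1
    have h3 : m₁ ∣ r₁ * S := Nat.dvd_of_mul_dvd_mul_right hdpos (by convert h1 using 1; ring)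
    exact hcop.dvd_of_dvd_mul_left h3
  have hh : d * Nat.gcd m S / m = Nat.gcd d S' := by
    rw [hm₁, hS', Nat.gcd_mul_left, ← mul_assoc, mul_comm d m₁,
      Nat.mul_div_cancel_left _ (Nat.mul_pos hm₁pos hdpos)]
  rw [hh]
  set g := Nat.gcd l (Nat.gcd d S') with hg
  have hgl : g ∣ l := Nat.gcd_dvd_left _ _
  have hgd : g ∣ d := (Nat.gcd_dvd_right _ _).trans (Nat.gcd_dvd_left _ _)
  have hgS : g ∣ S' := (Nat.gcd_dvd_right _ _).trans (Nat.gcd_dvd_right _ _)
  have hgpos : 0 < g := Nat.pos_of_ne_zero fun h0 => hdpos.ne' (by simpa [h0] using hgd)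
  -- adjust the exponent so that `gcd (r' - 1, m g) = d`
  obtain ⟨k, hk⟩ : ∃ k : ℕ, (r₁ + k * m₁).Coprime (m₁ * g) := by
    refine ⟨∏ p ∈ g.primeFactors.filter (fun p => ¬ p ∣ r₁), p, ?_⟩
    refine Nat.coprime_of_dvd' fun p hp hp1 hp2 => ?_
    exfalso
    set k := ∏ p ∈ g.primeFactors.filter (fun p => ¬ p ∣ r₁), p with hk
    rcases (Nat.Prime.dvd_mul hp).mp hp2 with h | h
    · have : p ∣ r₁ := (Nat.dvd_add_left (Dvd.dvd.mul_left h k)).mp hp1
      exact Nat.not_coprime_of_dvd_of_dvd hp.one_lt h this hcop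
    · by_cases hr : p ∣ r₁
      · have h2 : p ∣ k * m₁ := (Nat.dvd_add_right hr).mp hp1
        rcases (Nat.Prime.dvd_mul hp).mp h2 with h3 | h3
        · obtain ⟨q, hq, hpq⟩ := (Prime.dvd_finsetProd_iff hp.prime _).mp h3
          simp only [Finset.mem_filter, Nat.mem_primeFactors] at hq
          have : p = q := (Nat.prime_dvd_prime_iff_eq hp hq.1.1).mp hpq
          exact hq.2 (this ▸ hr)
        · exact Nat.not_coprime_of_dvd_of_dvd hp.one_lt h3 hr hcop
      · have h2 : p ∣ k := Finset.dvd_prod_of_mem _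
          (Finset.mem_filter.mpr ⟨Nat.mem_primeFactors.mpr ⟨hp, h, hgpos.ne'⟩, hr⟩)
        exact hr ((Nat.dvd_add_left (Dvd.dvd.mul_right h2 m₁)).mp hp1)
  set s := r₀ + k * m with hs
  have hs' : s = (r₁ + k * m₁) * d := by rw [hs, hm₁, hr₁]; ring
  have hN : m₁ * g ∣ m := hm₁ ▸ Nat.mul_dvd_mul_left m₁ hgd
  have hS2 : m₁ * g ∣ ∑ i ∈ Finset.range n, (s + 1) ^ i := by
    have h1 : (∑ i ∈ Finset.range n, (s + 1) ^ i) ≡ S [MOD m] := by
      refine Nat.ModEq.sum fun i _ => Nat.ModEq.pow i (Nat.ModEq.add_right 1 ?_)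
      exact Nat.add_mul_mod_self_right r₀ k m
    refine Nat.modEq_zero_iff_dvd.mp ((h1.of_dvd hN).trans (Nat.modEq_zero_iff_dvd.mpr ?_))
    exact hS' ▸ Nat.mul_dvd_mul_left m₁ hgS
  haveI : NeZero (m * g) := ⟨(Nat.mul_pos hm hgpos).ne'⟩
  obtain ⟨X, _, _, A, B, hAN, hBn, hAB, hXgen, hXinj, hXuniv⟩ :=
    CfsgLib.Schur.MetacyclicGroup.exists_group (m * g) (s + 1) n t hn
      (by
        rw [hgeom]
        have : m * g ∣ s * ∑ i ∈ Finset.range n, (s + 1) ^ i := by
          rw [hm₁, show m₁ * d * g = d * (m₁ * g) by ring]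
          exact Nat.mul_dvd_mul (hs' ▸ Dvd.intro_left _ rfl) hS2
        simpa using (Nat.modEq_zero_iff_dvd.mpr this).add_right 1)
      (by
        have : m * g ∣ s * t := by
          rw [hs', ht', hm₁, show m₁ * d * g = d * (m₁ * g) by ring]
          exact Nat.mul_dvd_mul (Dvd.intro_left _ rfl) (Nat.mul_dvd_mul_left m₁ hgl)
        simpa [add_mul] using (Nat.modEq_zero_iff_dvd.mpr this).add_right t)
  -- the presented group and its map to the concrete group of order `m n`
  haveI : NeZero m := ⟨hm.ne'⟩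
  obtain ⟨X₀, _, _, A₀, B₀, hA₀N, hB₀n, hA₀B₀, -, hX₀inj, -⟩ :=
    CfsgLib.Schur.MetacyclicGroup.exists_group m (r₀ + 1) n t hn hrn
      (by
        have : m ∣ r₀ * t := by
          rw [hr₁, ht', hm₁]; exact ⟨r₁ * l, by ring⟩
        simpa [add_mul] using (Nat.modEq_zero_iff_dvd.mpr this).add_right t)
  set rels : Set (FreeGroup Bool) := {FreeGroup.of true ^ m, (FreeGroup.of false) ^ n * (FreeGroup.of true ^ t)⁻¹,
    FreeGroup.of false * FreeGroup.of true * (FreeGroup.of false)⁻¹ * (FreeGroup.of true ^ (r₀ + 1))⁻¹} with hrels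
  set a : PresentedGroup rels := PresentedGroup.of true with ha
  set b : PresentedGroup rels := PresentedGroup.of false with hb
  have ham : a ^ m = 1 := by
    have h := PresentedGroup.one_of_mem (rels := rels) (x := FreeGroup.of true ^ m) (by simp [hrels])
    rw [map_pow] at h
    exact h
  have hbn : b ^ n = a ^ t := by
    have h := PresentedGroup.one_of_mem (rels := rels)
      (x := (FreeGroup.of false) ^ n * (FreeGroup.of true ^ t)⁻¹) (by simp [hrels])
    rw [map_mul, map_inv, map_pow, map_pow] at h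
    exact mul_inv_eq_one.mp h
  have hab : b * a * b⁻¹ = a ^ (r₀ + 1) := by
    have h := PresentedGroup.one_of_mem (rels := rels)
      (x := FreeGroup.of false * FreeGroup.of true * (FreeGroup.of false)⁻¹ * (FreeGroup.of true ^ (r₀ + 1))⁻¹)
      (by simp [hrels])
    rw [map_mul, map_mul, map_mul, map_inv, map_inv, map_pow] at h
    exact mul_inv_eq_one.mp h
  obtain ⟨f, hfA, hfB⟩ := hXuniv (PresentedGroup rels) a b
    (by rw [pow_mul, ham, one_pow]) hbn
    (by rw [hab, hs, show r₀ + k * m + 1 = r₀ + 1 + m * k by ring, pow_add _ (r₀ + 1), pow_mul, ham,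
      one_pow, mul_one])
  have hgen : Subgroup.closure ({a, b} : Set (PresentedGroup rels)) = ⊤ := by
    rw [eq_top_iff, ← PresentedGroup.closure_range_of]
    refine Subgroup.closure_mono ?_
    rintro _ ⟨x, rfl⟩
    cases x <;> simp [ha, hb]
  have hsurj : Function.Surjective f := fun y => by
    have : (Subgroup.closure ({a, b} : Set (PresentedGroup rels))) ≤ f.range := by
      rw [Subgroup.closure_le]
      rintro x (rfl | rfl)
      exacts [⟨A, hfA⟩, ⟨B, hfB⟩]
    exact this (hgen ▸ Subgroup.mem_top y)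
  haveI : Finite (PresentedGroup rels) := Finite.of_surjective f hsurj
  let π : PresentedGroup rels →* X₀ := PresentedGroup.toGroup (f := fun x => if x then A₀ else B₀) (by
    rintro x (rfl | rfl | rfl)
    · simp [map_pow, hA₀N]
    · simp [map_pow, hB₀n]
    · simp [map_pow, hA₀B₀])
  have hπa : π a = A₀ := PresentedGroup.toGroup.of (rels := rels) _
  have hπb : π b = B₀ := PresentedGroup.toGroup.of (rels := rels) _
  have hordA : orderOf A = m * g := Nat.dvd_antisymm (orderOf_dvd_of_pow_eq_one hAN)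
    ((hXinj (orderOf A) 0 hn (by rw [pow_orderOf_eq_one, pow_zero, mul_one])).2)
  have hker : f.ker = Subgroup.zpowers (A ^ m) := by
    apply le_antisymm
    · intro x hx
      obtain ⟨i, j, hj, rfl⟩ := hXgen x
      have h : π (f (A ^ i * B ^ j)) = 1 := by rw [MonoidHom.mem_ker.mp hx, map_one]
      rw [map_mul, map_pow, map_pow, hfA, hfB, map_mul, map_pow, map_pow, hπa, hπb] at h
      obtain ⟨rfl, ⟨q, rfl⟩⟩ := hX₀inj i j hj h
      rw [pow_zero, mul_one, pow_mul]
      exact pow_mem (Subgroup.mem_zpowers _) _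
    · rw [Subgroup.zpowers_le, MonoidHom.mem_ker, map_pow, hfA, ham]
  have hcard : Nat.card f.ker = g := by
    rw [hker, Nat.card_zpowers, orderOf_pow, hordA, Nat.gcd_eq_right (Dvd.intro g rfl),
      Nat.mul_div_cancel_left _ hm]
  have hBAm : B * A ^ m * B⁻¹ = A ^ m := by
    rw [← conj_pow, hAB, ← pow_mul, add_mul, one_mul, pow_add, show s * m = m * g * ((r₁ + k * m₁) * (d / g)) by
      conv_lhs => rw [hs', ← Nat.div_mul_cancel hgd]
      ring, pow_mul A (m * g), hAN, one_pow, one_mul]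
  have hstem : Cfsg.IsStemExtension f := by
    refine ⟨hsurj, ?_, ?_⟩
    · rw [hker, Subgroup.zpowers_le, Subgroup.mem_center_iff]
      intro x
      obtain ⟨i, j, -, rfl⟩ := hXgen x
      have hcA : Commute (A ^ i) (A ^ m) := Commute.pow_pow_self A i m
      have hcB : Commute B (A ^ m) := mul_inv_eq_iff_eq_mul.mp hBAm
      exact (hcA.mul_left (hcB.pow_left j)).eq
    · rw [hker, Subgroup.zpowers_le]
      have hc : ⁅B, A⁆ = A ^ s := by
        rw [commutatorElement_def, hAB, pow_succ, mul_inv_cancel_right]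
      have hmem : A ^ d ∈ Subgroup.zpowers (A ^ s) := by
        obtain ⟨c, hc'⟩ := exists_pow_eq_self_of_coprime (x := A ^ d) (n := r₁ + k * m₁) (by
          rw [orderOf_pow, hordA, hm₁, show m₁ * d * g = m₁ * g * d by ring,
            Nat.gcd_eq_right (Dvd.intro_left _ rfl), Nat.mul_div_cancel _ hdpos]
          exact hk)
        refine ⟨(c : ℤ), ?_⟩
        show (A ^ s) ^ (c : ℤ) = _
        rw [zpow_natCast, hs', mul_comm _ d, pow_mul]
        exact hc'
      have hmem' : A ^ d ∈ commutator X := by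
        refine Subgroup.zpowers_le.mpr ?_ hmem
        rw [← hc]
        exact Subgroup.commutator_mem_commutator (Subgroup.mem_top _) (Subgroup.mem_top _)
      rw [hm₁, mul_comm, pow_mul]
      exact pow_mem hmem' _
  haveI : IsCyclic f.ker := by rw [hker]; infer_instance
  haveI : NeZero g := ⟨hgpos.ne'⟩
  refine CfsgLib.Schur.Basic.hasSchurMultiplier_of_le f hstem
    (mulEquivOfCyclicCardEq (by rw [hcard]; simp)) fun Γ _ _ τ hτ => ?_
  have hbound := CfsgLib.Schur.Metacyclic.card_ker_mul_dvd τ hτ a b hgen (r₀ + 1) m n t hab ham hbn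
  have horda : orderOf a = m := Nat.dvd_antisymm (orderOf_dvd_of_pow_eq_one ham)
    ((hX₀inj (orderOf a) 0 hn (by
      rw [pow_zero, mul_one, ← hπa, ← map_pow, pow_orderOf_eq_one, map_one])).2)
  have hc : ⁅b, a⁆ = a ^ r₀ := by
    rw [commutatorElement_def, hab, pow_succ, mul_inv_cancel_right]
  have hgcd : Nat.gcd m (Nat.gcd S t) = m₁ * g := by
    rw [hm₁, hS', ht', Nat.gcd_mul_left, Nat.gcd_mul_left, hg, ← Nat.gcd_assoc,
      Nat.gcd_comm (Nat.gcd d S') l]
  rw [← hS, hgcd, hc, orderOf_pow, horda, ← hd,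
    show m / d = m₁ by rw [hm₁, Nat.mul_div_cancel _ hdpos], mul_comm] at hbound
  have h := Nat.le_of_dvd (Nat.mul_pos hm₁pos hgpos) hbound
  simp only [Nat.card_eq_fintype_card (α := Multiplicative (ZMod g)), Fintype.card_multiplicative,
    ZMod.card]
  exact Nat.le_of_mul_le_mul_left h hm₁pos

end Cfsg.Agent.S3967
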