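import Cfsg.Statements.S3968
import Cfsg.Agent.Lib.Char.Orth
import Cfsg.Agent.S0142
import Mathlib.GroupTheory.PGroup
import Mathlib.GroupTheory.Sylow

set_option autoImplicit false
open Cfsg

namespace Cfsg.Agent.S3968

/-- Let `p` be a prime and `G` a finite group with a faithful irreducible complex character of degree `p` (so `G` is an irreducible linear group in `p` variables). If `p ^ 2` divides the order of `G`, then the centre of `G` is nontrivial. -/
theorem result {G : Type*} [Group G] [Finite G] (p : ℕ) (hp : p.Prime) (χ : Cfsg.IrrCharacter G) (hdeg : χ.1 1 = p) (hfaith : ∀ g : G, χ.1 g = χ.1 1 → g = 1) (hdiv : p ^ 2 ∣ Nat.card G) : Subgroup.center G ≠ ⊥ := by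
  classical
  have : Fintype G := Fintype.ofFinite G
  haveI : Fact p.Prime := ⟨hp⟩
  obtain ⟨χf, hχ⟩ := χ
  obtain ⟨n, ρ, hρ, rfl⟩ := hχ
  dsimp only at hdeg hfaith
  have hn : n = p := by
    have h1 := ρ.char_one
    rw [hdeg, Module.finrank_fin_fun] at h1
    exact_mod_cast h1.symm
  have hid : ∀ g : G, ρ g = LinearMap.id → g = 1 := fun g hg => hfaith g (by
    rw [(CfsgLib.Char.char_eq_finrank_iff ρ g).mpr hg, ρ.char_one])
  obtain ⟨P⟩ : Nonempty (Sylow p G) := inferInstance
  have hPcard : p ^ 2 ∣ Nat.card (P : Subgroup G) := P.pow_dvd_card_of_pow_dvd_card hdiv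
  intro hZ
  have hvan : ∀ z : G, z ∈ P → (∀ x ∈ (P : Subgroup G), x * z = z * x) → z ≠ 1 →
      ρ.character z = 0 := by
    intro z _ hzc hz1
    have hle : (P : Subgroup G) ≤ Subgroup.centralizer {z} := fun x hx =>
      Subgroup.mem_centralizer_singleton_iff.mpr (hzc x hx)
    have hcop : Nat.Coprime (Module.finrank ℂ (Fin n → ℂ))
        (Subgroup.centralizer ({z} : Set G)).index := by
      rw [Module.finrank_fin_fun, hn]
      exact (hp.coprime_iff_not_dvd.mpr fun h => P.not_dvd_index
        (h.trans (Subgroup.index_dvd_of_le hle)))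
    rcases Cfsg.Agent.S0142.eq_zero_or_norm ρ z hcop with h | h
    · exact h
    · obtain ⟨ω, -, hω, -⟩ := CfsgLib.Char.exists_scalar_of_norm_char_eq ρ z h
      exfalso
      have hcomm : ∀ g : G, g * z = z * g := fun g => by
        have e : ρ (g * z * (z * g)⁻¹) = LinearMap.id := by
          have e1 : ρ (g * z) = ρ (z * g) := by
            rw [map_mul, map_mul, hω]
            apply LinearMap.ext; intro v; simp
          rw [map_mul, e1, ← map_mul, mul_inv_cancel, map_one]
          rfl
        exact mul_inv_eq_one.mp (hid _ e)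
      have : z ∈ Subgroup.center G := Subgroup.mem_center_iff.mpr hcomm
      rw [hZ, Subgroup.mem_bot] at this
      exact hz1 this
  -- an element of order `p` in the centre of `P`
  have hP1 : 1 < Nat.card (P : Subgroup G) := by
    refine lt_of_lt_of_le ?_ (Nat.le_of_dvd Nat.card_pos hPcard)
    exact Nat.one_lt_pow (by norm_num) hp.one_lt
  haveI : Nontrivial (P : Subgroup G) := Finite.one_lt_card_iff_nontrivial.mp hP1
  haveI := P.isPGroup'.center_nontrivial
  obtain ⟨c, hc⟩ := exists_prime_orderOf_dvd_card' (G := Subgroup.center (P : Subgroup G)) p (by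
    obtain ⟨k, hk⟩ := (P.isPGroup'.to_subgroup (Subgroup.center (P : Subgroup G))).exists_card_eq
    rw [hk]
    refine dvd_pow_self p fun h0 => ?_
    rw [h0, pow_zero] at hk
    exact absurd hk (ne_of_gt Finite.one_lt_card))
  set z : G := ((c : (P : Subgroup G)) : G) with hz
  have hzP : z ∈ (P : Subgroup G) := (c : (P : Subgroup G)).2
  have hzc : ∀ x ∈ (P : Subgroup G), x * z = z * x := fun x hx =>
    congrArg Subtype.val (Subgroup.mem_center_iff.mp c.2 ⟨x, hx⟩)
  have hzo : orderOf z = p := by rw [hz, Subgroup.orderOf_coe, Subgroup.orderOf_coe, hc]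
  have hzk : ∀ k, k < p → k ≠ 0 → ρ.character (z ^ k) = 0 := fun k hk hk0 =>
    hvan _ (pow_mem hzP k) (fun x hx => (Commute.pow_right (hzc x hx) k).eq) (fun h =>
      absurd (Nat.le_of_dvd (Nat.pos_of_ne_zero hk0) (hzo ▸ orderOf_dvd_of_pow_eq_one h))
        (not_le.mpr hk))
  obtain ⟨b, μ, hμ, hk⟩ := CfsgLib.Char.exists_eigenbasis ρ z
  rw [hzo] at hμ
  have htr : ∀ k : ℕ, ρ.character (z ^ k) = ∑ i, μ i ^ k := fun k =>
    CfsgLib.Char.trace_eq_sum_of_eigen _ b _ (hk k)
  have hμ0 : ∀ i, μ i ≠ 0 := fun i h0 => by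
    have := hμ i; rw [h0, zero_pow hp.ne_zero] at this; exact zero_ne_one this
  have hinj : ∀ i j, μ j = μ i → j = i := by
    intro i
    have hin : ∀ j, (∑ k ∈ Finset.range p, (μ j / μ i) ^ k) = if μ j = μ i then (p : ℂ) else 0 := by
      intro j
      split_ifs with h
      · rw [h, div_self (hμ0 i)]; simp
      · have hne : μ j / μ i ≠ 1 := fun h1 => h ((div_eq_one_iff_eq (hμ0 i)).mp h1)
        rw [geom_sum_eq hne, div_pow, hμ j, hμ i]; simp
    have hsum : (∑ k ∈ Finset.range p, ∑ j, (μ j / μ i) ^ k) = (p : ℂ) := by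
      rw [Finset.sum_eq_single 0]
      · simp [hn]
      · intro k hkr hk0
        simp_rw [div_pow, ← Finset.sum_div, ← htr k, hzk k (Finset.mem_range.mp hkr) hk0, zero_div]
      · exact fun h => absurd (Finset.mem_range.mpr hp.pos) h
    rw [Finset.sum_comm] at hsum
    simp_rw [hin] at hsum
    rw [← Finset.sum_filter, Finset.sum_const, nsmul_eq_mul] at hsum
    have hp0 : (p : ℂ) ≠ 0 := Nat.cast_ne_zero.mpr hp.ne_zero
    have hone : (Finset.univ.filter fun j => μ j = μ i).card = 1 := by
      exact_mod_cast mul_right_cancel₀ hp0 (hsum.trans (one_mul _).symm)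
    intro j hj
    obtain ⟨a, ha⟩ := Finset.card_eq_one.mp hone
    have h1 : j ∈ ({a} : Finset _) := ha ▸ by simp [hj]
    have h2 : i ∈ ({a} : Finset _) := ha ▸ by simp
    rw [Finset.mem_singleton] at h1 h2
    rw [h1, h2]
  have hdiag : ∀ x ∈ (P : Subgroup G), ∀ i, ∃ t : ℂ, ρ x (b i) = t • b i := by
    intro x hx i
    refine ⟨b.repr (ρ x (b i)) i, ?_⟩
    have e : ρ z (ρ x (b i)) = μ i • ρ x (b i) := by
      have h1 : ρ z (b i) = μ i • b i := by simpa using hk 1 i
      rw [← Module.End.mul_apply, ← map_mul, ← hzc x hx, map_mul, Module.End.mul_apply, h1,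
        map_smul]
    set w := ρ x (b i)
    have hw : ∀ j, (μ j - μ i) * b.repr w j = 0 := fun j => by
      have h2 : b.repr (ρ z w) j = μ j * b.repr w j := by
        conv_lhs => rw [← b.sum_repr w]
        rw [map_sum]
        simp only [map_smul]
        have h3 : ∀ l, ρ z (b l) = μ l • b l := fun l => by simpa using hk 1 l
        simp [h3, Finsupp.single_apply, mul_comm]
      rw [e, map_smul, Finsupp.smul_apply, smul_eq_mul] at h2
      linear_combination -h2
    refine b.repr.injective (Finsupp.ext fun j => ?_)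
    rw [map_smul, Finsupp.smul_apply, Module.Basis.repr_self, Finsupp.single_apply]
    by_cases hji : i = j
    · subst hji; simp
    · rw [if_neg hji, smul_zero]
      exact (mul_eq_zero.mp (hw j)).resolve_left fun h0 => hji ((hinj i j (sub_eq_zero.mp h0)).symm)
  have hab : ∀ x ∈ (P : Subgroup G), ∀ y ∈ (P : Subgroup G), x * y = y * x := by
    intro x hx y hy
    have e : ρ (x * y) = ρ (y * x) := by
      refine b.ext fun i => ?_
      obtain ⟨s, hs⟩ := hdiag x hx i
      obtain ⟨t, ht⟩ := hdiag y hy i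
      simp only [map_mul, Module.End.mul_apply, ht, hs, map_smul, smul_smul, mul_comm]
    refine mul_inv_eq_one.mp (hid _ ?_)
    rw [map_mul, e, ← map_mul, mul_inv_cancel, map_one]
    rfl
  have hχP : Cfsg.IsCharacter (P : Subgroup G) (fun x : (P : Subgroup G) => ρ.character (x : G)) :=
    CfsgLib.Char.IsCharacter.restrict ⟨n, ρ, rfl⟩ _
  have : Fintype (P : Subgroup G) := Fintype.ofFinite _
  obtain ⟨m, hm⟩ := CfsgLib.Char.IsCharacter.classInner_nat hχP CfsgLib.Char.isCharacter_one
  rw [CfsgLib.Char.classInner_fun_one_right, Finset.sum_eq_single (1 : (P : Subgroup G))] at hm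
  · rw [OneMemClass.coe_one, hdeg, inv_mul_eq_iff_eq_mul₀ (by exact_mod_cast Nat.card_pos.ne')] at hm
    have hdvd : Nat.card (P : Subgroup G) ∣ p := ⟨m, by exact_mod_cast hm⟩
    have := Nat.le_of_dvd hp.pos (hPcard.trans hdvd)
    nlinarith [hp.two_le]
  · exact fun x _ hx1 => hvan x x.2 (fun y hy => hab y hy x x.2) (fun h => hx1 (Subtype.ext h))
  · exact fun h => absurd (Finset.mem_univ _) h

end Cfsg.Agent.S3968
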