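import Cfsg.Statements.S3969
import Cfsg.Agent.Lib.Fusion.Abelian
import Cfsg.Agent.Lib.PGroup.Frattini
import Cfsg.Agent.Lib.Coprime.Action
import Cfsg.Agent.Lib.Frobenius.Elements

set_option autoImplicit false
open Cfsg

namespace Cfsg.Agent.S3969

/-- Let `P` be an abelian Sylow `p`-subgroup of the finite group `G`, generated by `d` elements (`d` its minimal number of generators). If the order of `G` is coprime to `(p - 1)(p ^ 2 - 1) ⋯ (p ^ d - 1)`, then `G` has a normal `p`-complement. (The classical statement needs only the largest number of cyclic factors of `P` of equal order in place of `d`; the form here follows from it.) -/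
theorem result {G : Type*} [Group G] [Finite G] (p : ℕ) [Fact p.Prime] (P : Sylow p G) (hab : IsMulCommutative (P : Subgroup G)) (hcop : Nat.Coprime (Nat.card G) (∏ i ∈ Finset.Icc 1 (Group.rank (P : Subgroup G)), (p ^ i - 1))) : Cfsg.HasNormalPComplement p G := by
  classical
  refine CfsgLib.Fusion.Abelian.npc_of_normalizer_le_centralizer P fun g hg => ?_
  refine CfsgLib.Frobenius.Elements.mem_of_primary fun z hz ⟨q, b, hq, _, hord⟩ => ?_
  have hzN : z ∈ Subgroup.normalizer ((P : Subgroup G) : Set G) :=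
    Subgroup.zpowers_le.2 hg hz
  have hPp := P.isPGroup'
  rcases eq_or_ne q p with rfl | hqp
  · have hzp : IsPGroup q (Subgroup.zpowers z) :=
      IsPGroup.of_card (n := b) (by rw [Nat.card_zpowers, hord])
    have hsup : IsPGroup q ↥((P : Subgroup G) ⊔ Subgroup.zpowers z) :=
      hPp.to_sup_of_normal_left' hzp (Subgroup.zpowers_le.2 hzN)
    have hzP : z ∈ (P : Subgroup G) :=
      P.is_maximal' hsup le_sup_left ▸ Subgroup.mem_sup_right (Subgroup.mem_zpowers z)
    exact Subgroup.le_centralizer (P : Subgroup G) hzP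
  have : Fact q.Prime := ⟨hq⟩
  have hcopzP : (Nat.card (Subgroup.zpowers z)).Coprime (Nat.card (P : Subgroup G)) := by
    obtain ⟨k, hk⟩ := hPp.exists_card_eq
    rw [Nat.card_zpowers, hord, hk]
    exact Nat.Coprime.pow _ _ ((Nat.coprime_primes hq Fact.out).2 hqp)
  refine CfsgLib.Coprime.le_centralizer_of_frattini (A := Subgroup.zpowers z)
    (Subgroup.zpowers_le.2 hzN)
    (hcopzP.coprime_dvd_right (Subgroup.card_subgroup_dvd_card _)) ?_ (Subgroup.mem_zpowers z)
  intro a ha k hk
  -- the induced automorphisms of the Frattini quotient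
  let ψ : MulAut (P : Subgroup G) →* MulAut ((P : Subgroup G) ⧸ frattini (P : Subgroup G)) :=
    { toFun := fun α => QuotientGroup.congr _ _ α
        (Subgroup.characteristic_iff_map_eq.1 inferInstance α)
      map_one' := by
        ext x; obtain ⟨x, rfl⟩ := QuotientGroup.mk'_surjective _ x; rfl
      map_mul' := fun α β => by
        ext x; obtain ⟨x, rfl⟩ := QuotientGroup.mk'_surjective _ x; rfl }
  set f := ψ.comp (P : Subgroup G).normalizerMonoidHom with hf
  set γ := f ⟨z, hzN⟩ with hγ
  suffices h1 : γ = 1 by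
    obtain ⟨i, rfl⟩ := ha
    have h2 : f (⟨z, hzN⟩ ^ i) = 1 := by rw [map_zpow, ← hγ, h1, one_zpow]
    have h3 := DFunLike.congr_fun h2 (QuotientGroup.mk ⟨k, hk⟩)
    have h4 : ((⟨z ^ i * k * (z ^ i)⁻¹, ?_⟩ : (P : Subgroup G)) :
        (P : Subgroup G) ⧸ frattini (P : Subgroup G)) = (⟨k, hk⟩ : (P : Subgroup G)) := h3
    · rw [QuotientGroup.eq_iff_div_mem] at h4
      exact ⟨_, h4, by simp [commutatorElement_def, div_eq_mul_inv]⟩
    · exact (Subgroup.mem_normalizer_iff.1 (zpow_mem hzN i) k).1 hk
  by_contra hne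
  have hdvd : orderOf γ ∣ q ^ b := by
    rw [hγ, ← hord]
    exact (orderOf_map_dvd f _).trans (Subgroup.orderOf_coe _).symm.dvd
  have hZ : IsPGroup q (Subgroup.zpowers γ) := by
    obtain ⟨c, _, hc⟩ := (Nat.dvd_prime_pow hq).1 hdvd
    exact IsPGroup.of_card (n := c) (by rw [Nat.card_zpowers, hc])
  set Q := (P : Subgroup G) ⧸ frattini (P : Subgroup G)
  have hmod := hZ.card_modEq_card_fixedPoints Q
  let F : Subgroup Q := (γ.toMonoidHom).eqLocus (MonoidHom.id _)
  have hfix : MulAction.fixedPoints (Subgroup.zpowers γ) Q = (F : Set Q) := by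
    ext x
    refine ⟨fun hx => hx ⟨γ, Subgroup.mem_zpowers γ⟩, fun hx a => ?_⟩
    obtain ⟨_, j, rfl⟩ := a
    have : Subgroup.zpowers γ ≤ MulAction.stabilizer (MulAut Q) x :=
      Subgroup.zpowers_le.mpr (show γ • x = x from hx)
    exact this ⟨j, rfl⟩
  rw [hfix] at hmod
  obtain ⟨d', hd'⟩ := (hPp.to_quotient (frattini (P : Subgroup G))).exists_card_eq
  obtain ⟨c, hc⟩ := ((hPp.to_quotient (frattini (P : Subgroup G))).to_subgroup F).exists_card_eq
  have hcd : c < d' := by
    by_contra hle
    have htop : F = ⊤ := Subgroup.eq_top_of_le_card F (by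
      rw [hd', hc]; exact Nat.pow_le_pow_right (Fact.out : p.Prime).pos (not_lt.1 hle))
    refine hne (MulEquiv.ext fun x => ?_)
    have : x ∈ F := htop ▸ Subgroup.mem_top x
    exact this
  -- the Frattini quotient is generated by `rank P` elements of order `p`
  have hd : d' ≤ Group.rank (P : Subgroup G) := by
    let _ : CommGroup Q :=
      { (inferInstance : Group Q) with
        mul_comm := CfsgLib.PGroup.Frattini.quotient_mul_comm hPp }
    have h1 : Nat.card Q ∣ p ^ Group.rank Q :=
      card_dvd_exponent_pow_rank' Q (CfsgLib.PGroup.Frattini.quotient_pow_eq_one hPp)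
    have h2 : Group.rank Q ≤ Group.rank (P : Subgroup G) :=
      Group.rank_le_of_surjective (QuotientGroup.mk' _) (QuotientGroup.mk'_surjective _)
    rw [hd'] at h1
    exact ((Nat.pow_dvd_pow_iff_le_right (Fact.out : p.Prime).one_lt).1 h1).trans h2
  have hq1 : q ∣ p ^ (d' - c) - 1 := by
    have h := (Nat.modEq_iff_dvd' ((Nat.pow_le_pow_right (Fact.out : p.Prime).pos hcd.le))).1
      (show p ^ c ≡ p ^ d' [MOD q] by
        have := hmod.symm
        rw [hd'] at this
        exact (show Nat.card (F : Set Q) = p ^ c from hc) ▸ this)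
    rw [show d' = c + (d' - c) by omega, pow_add, ← Nat.mul_sub_one] at h
    exact ((Nat.Coprime.pow_right c ((Nat.coprime_primes hq Fact.out).2 hqp)).dvd_of_dvd_mul_left h)
  have hqG : q ∣ Nat.card G := by
    have h0 : b ≠ 0 := fun h0 => hne (by
      rw [h0, pow_zero] at hdvd
      exact orderOf_eq_one_iff.1 (Nat.dvd_one.1 hdvd))
    exact ((dvd_pow_self q h0).trans (hord ▸ dvd_rfl)).trans (orderOf_dvd_natCard z)
  exact hq.not_dvd_one (hcop ▸ Nat.dvd_gcd hqG (hq1.trans (Finset.dvd_prod_of_mem _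
    (Finset.mem_Icc.2 ⟨by omega, by omega⟩))))

end Cfsg.Agent.S3969
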