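import Cfsg.Statements.S3970
import Cfsg.Agent.Lib.Frobenius.FrattiniAction
import Mathlib.GroupTheory.Transfer
import Mathlib.GroupTheory.Rank

set_option autoImplicit false
open Cfsg

namespace Cfsg.Agent.S3970

universe u

theorem frattini_card_le {p : ℕ} [Fact p.Prime] {Q : Type*} [Group Q] [Finite Q] (hQ : IsPGroup p Q)
    (h : Group.rank Q ≤ 2) : Nat.card (Q ⧸ frattini Q) ≤ p ^ 2 := by
  let _ : CommGroup (Q ⧸ frattini Q) :=
    { (inferInstance : Group (Q ⧸ frattini Q)) with
      mul_comm := CfsgLib.PGroup.Frattini.quotient_mul_comm hQ }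
  have h1 := card_dvd_exponent_pow_rank' (Q ⧸ frattini Q) (CfsgLib.PGroup.Frattini.quotient_pow_eq_one hQ)
  have hpos := (Fact.out : p.Prime).pos
  exact (Nat.le_of_dvd (pow_pos hpos _) h1).trans (Nat.pow_le_pow_right hpos
    ((Group.rank_le_of_surjective (QuotientGroup.mk' _) (QuotientGroup.mk'_surjective _)).trans h))

theorem aux : ∀ (n : ℕ) (G : Type u) [Group G] [Finite G], Nat.card G = n →
    (∀ p : ℕ, p.Prime → p ∣ Nat.card G → (∃ q : ℕ, q.Prime ∧ q ∣ Nat.card G ∧ p < q) →
      ∀ P : Sylow p G, IsMulCommutative (P : Subgroup G) ∧ Group.rank (P : Subgroup G) ≤ 2) →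
    ¬ 12 ∣ Nat.card G → Group.IsSolvable G := by
  intro n
  induction n using Nat.strong_induction_on with
  | _ n ih =>
  intro G _ _ hn h h12
  classical
  rcases eq_or_ne (Nat.card G) 1 with h1 | h1
  · haveI := (Nat.card_eq_one_iff_unique.mp h1).1
    infer_instance
  set p := (Nat.card G).minFac with hpdef
  have hp : p.Prime := Nat.minFac_prime h1
  haveI := Fact.mk hp
  have hpG : p ∣ Nat.card G := Nat.minFac_dvd _
  by_cases hq : ∃ q : ℕ, q.Prime ∧ q ∣ Nat.card G ∧ p < q
  swap
  · push Not at hq
    have hp' : IsPGroup p G := IsPGroup.of_card (n := (Nat.card G).primeFactorsList.length)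
      (Nat.eq_prime_pow_of_unique_prime_dvd Nat.card_pos.ne' fun {d} hd hdd =>
        le_antisymm (hq d hd hdd) (Nat.minFac_le_of_dvd hd.two_le hdd))
    haveI := hp'.isNilpotent
    infer_instance
  obtain ⟨P⟩ : Nonempty (Sylow p G) := inferInstance
  obtain ⟨hPc, hPr⟩ := h p hp hpG hq P
  have hle : Subgroup.normalizer ((P : Subgroup G) : Set G) ≤ Subgroup.centralizer ((P : Subgroup G) : Set G) := by
    intro g hg
    set m := (orderOf g).factorization p
    set r := orderOf g / p ^ m
    have hr : p ^ m * r = orderOf g := Nat.ordProj_mul_ordCompl_eq_self _ _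
    have hcop : (p ^ m).Coprime r := (Nat.coprime_ordCompl hp (orderOf_pos g).ne').pow_left m
    have hmem : ∀ x : G, x ∈ Subgroup.normalizer ((P : Subgroup G) : Set G) → orderOf x ∣ p ^ m →
        x ∈ Subgroup.centralizer ((P : Subgroup G) : Set G) := by
      intro x hx hox
      have hxp : IsPGroup p (Subgroup.zpowers x) :=
        IsPGroup.of_card_dvd_pow (n := m) (by rwa [Nat.card_zpowers])
      have hxP : x ∈ (P : Subgroup G) :=
        (P.is_maximal' (hxp.to_sup_of_normal_right' P.isPGroup' (Subgroup.zpowers_le.mpr hx)) le_sup_right) ▸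
          Subgroup.mem_sup_left (Subgroup.mem_zpowers x)
      exact Subgroup.mem_centralizer_iff.mpr fun y hy =>
        congrArg Subtype.val ((isMulCommutative_iff.mp hPc) ⟨y, hy⟩ ⟨x, hxP⟩)
    have hnormp : ∀ x : G, x ∈ Subgroup.normalizer ((P : Subgroup G) : Set G) → orderOf x ∣ r →
        x ∈ Subgroup.centralizer ((P : Subgroup G) : Set G) := by
      intro x hx hox
      have hxG : ∀ q : ℕ, q.Prime → q ∣ orderOf x → p < q := fun q hq hqd => by
        have hne : q ≠ p := fun he =>
          Nat.not_dvd_ordCompl hp (orderOf_pos g).ne' (by rw [he] at hqd; exact hqd.trans hox)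
        exact lt_of_le_of_ne (Nat.minFac_le_of_dvd hq.two_le (hqd.trans (orderOf_dvd_natCard x))) (Ne.symm hne)
      have hco : (orderOf x).Coprime p :=
        ((Nat.coprime_ordCompl hp (orderOf_pos g).ne').coprime_dvd_right hox).symm
      by_cases h32 : p = 2 ∧ 3 ∣ orderOf x
      · obtain ⟨hp2, h3⟩ := h32
        have hP4 : ¬ 4 ∣ Nat.card (P : Subgroup G) := fun h4 => h12 (by
          have := (by norm_num : Nat.Coprime 4 3).mul_dvd_of_dvd_of_dvd
            (h4.trans (P : Subgroup G).card_subgroup_dvd_card) (h3.trans (orderOf_dvd_natCard x))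
          norm_num at this; exact this)
        have hP2 : Nat.card (P : Subgroup G) ≤ p ^ 1 := by
          rw [P.card_eq_multiplicity] at hP4 ⊢
          refine Nat.pow_le_pow_right hp.pos ?_
          by_contra hlt
          refine hP4 ?_
          have h5 : p ^ 2 ∣ p ^ (Nat.card G).factorization p := pow_dvd_pow p (by omega)
          rw [show (4 : ℕ) = p ^ 2 by rw [hp2]; norm_num]
          exact h5
        refine CfsgLib.Frobenius.FrattiniAction.centralizes P.isPGroup' 1
          (le_trans (Nat.le_of_dvd Nat.card_pos (Subgroup.card_quotient_dvd_card _)) hP2) hx hco ?_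
        intro q hq hqd i hi1 hi2 hdd
        obtain rfl : i = 1 := by omega
        rw [hp2] at hdd
        norm_num at hdd
        exact hq.ne_one hdd
      · refine CfsgLib.Frobenius.FrattiniAction.centralizes P.isPGroup' 2
          (frattini_card_le P.isPGroup' hPr) hx hco ?_
        intro q hq hqd i hi1 hi2 hdd
        have hlt := hxG q hq hqd
        interval_cases i
        · rw [pow_one] at hdd
          have := Nat.le_of_dvd (by have := hp.two_le; omega) hdd
          omega
        · have h2 : p ^ 2 - 1 = (p - 1) * (p + 1) := by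
            obtain ⟨e, he⟩ : ∃ e, p = e + 1 := ⟨p - 1, by have := hp.one_le; omega⟩
            rw [he, Nat.add_sub_cancel, show (e + 1) ^ 2 = e * (e + 1 + 1) + 1 by ring, Nat.add_sub_cancel]
          rw [h2] at hdd
          have := hp.two_le
          rcases hq.dvd_mul.mp hdd with h3 | h3
          · have := Nat.le_of_dvd (by omega) h3; omega
          · have hq1 : q = p + 1 := le_antisymm (Nat.le_of_dvd (by omega) h3) hlt
            rcases hp.eq_two_or_odd with hp2 | hpodd
            · exact h32 ⟨hp2, by rw [show 3 = q by omega]; exact hqd⟩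
            · rcases hq.eq_two_or_odd with hq2 | hqodd <;> omega
    obtain ⟨u, v, huv⟩ := Int.isCoprime_iff_nat_coprime.mpr (show Nat.Coprime (p ^ m : ℤ).natAbs (r : ℤ).natAbs by
      rw [Int.natAbs_natCast, show ((p : ℤ) ^ m).natAbs = p ^ m by rw [Int.natAbs_pow, Int.natAbs_natCast]]
      exact hcop)
    have e : g = g ^ ((p : ℤ) ^ m * u) * g ^ ((r : ℤ) * v) := by
      rw [← zpow_add, show (p : ℤ) ^ m * u + (r : ℤ) * v = 1 by linarith, zpow_one]
    rw [e]
    refine mul_mem (hnormp _ (zpow_mem hg _) ?_) (hmem _ (zpow_mem hg _) ?_) <;>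
      refine orderOf_dvd_of_pow_eq_one ?_
    · rw [← zpow_natCast, ← zpow_mul, show (p : ℤ) ^ m * u * (r : ℤ) = ((p ^ m * r : ℕ) : ℤ) * u by push_cast; ring,
        hr, zpow_mul, zpow_natCast, pow_orderOf_eq_one, one_zpow]
    · rw [← zpow_natCast, ← zpow_mul, show (r : ℤ) * v * ((p ^ m : ℕ) : ℤ) = ((p ^ m * r : ℕ) : ℤ) * v by push_cast; ring,
        hr, zpow_mul, zpow_natCast, pow_orderOf_eq_one, one_zpow]
  have hcompl := MonoidHom.ker_transferSylow_isComplement' P hle
  set K := (MonoidHom.transferSylow P hle).ker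
  have hKlt : Nat.card K < n := by
    have h1 := hcompl.card_mul
    have h2 : p ∣ Nat.card (P : Subgroup G) := P.dvd_card_of_dvd_card hpG
    have h3 : 2 ≤ Nat.card (P : Subgroup G) := hp.two_le.trans (Nat.le_of_dvd Nat.card_pos h2)
    rw [← hn, ← h1]
    exact lt_mul_of_one_lt_right Nat.card_pos h3
  have hKp : ¬ p ∣ Nat.card K := by
    rw [← hcompl.index_eq_card]
    exact P.not_dvd_index
  have hKd := K.card_subgroup_dvd_card
  have hK : Group.IsSolvable K := by
    refine ih _ hKlt K rfl (fun q hq hqd ⟨r, hr, hrd, hqr⟩ Q => ?_) (fun hd => h12 (hd.trans hKd))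
    haveI := Fact.mk hq
    obtain ⟨Q', hQ'⟩ := (Q.isPGroup'.map K.subtype).exists_le_sylow
    obtain ⟨hc, hrk⟩ := h q hq (hqd.trans hKd) ⟨r, hr, hrd.trans hKd, hqr⟩ Q'
    have hqp : q ≠ p := fun he => hKp (he ▸ hqd)
    have hcard : Nat.card (Q' : Subgroup G) ≤ Nat.card ((Q : Subgroup K).map K.subtype) := by
      rw [Subgroup.card_map_of_injective K.subtype_injective, Q'.card_eq_multiplicity, Q.card_eq_multiplicity,
        ← hcompl.card_mul, Nat.factorization_mul Nat.card_pos.ne' Nat.card_pos.ne', P.card_eq_multiplicity,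
        hp.factorization_pow]
      simp [Finsupp.single_apply, Ne.symm hqp]
    have he := Subgroup.eq_of_le_of_card_ge hQ' hcard
    let e : (Q : Subgroup K) ≃* (Q' : Subgroup G) :=
      ((Q : Subgroup K).equivMapOfInjective K.subtype K.subtype_injective).trans (MulEquiv.subgroupCongr he)
    refine ⟨isMulCommutative_iff.mpr fun x y => e.injective (by
      rw [map_mul, map_mul]; exact (isMulCommutative_iff.mp hc) _ _), ?_⟩
    exact (Group.rank_le_of_surjective e.symm.toMonoidHom e.symm.surjective).trans hrk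
  have hP : Group.IsSolvable (G ⧸ K) := by
    haveI := P.isPGroup'.isNilpotent
    refine Group.isSolvable_of_surjective (f := (QuotientGroup.mk' K).comp (P : Subgroup G).subtype) ?_
    intro y
    obtain ⟨g, rfl⟩ := QuotientGroup.mk'_surjective K y
    have hg : g ∈ K ⊔ (P : Subgroup G) := hcompl.sup_eq_top ▸ Subgroup.mem_top g
    obtain ⟨k, hk, x, hx, rfl⟩ := Subgroup.mem_sup_of_normal_left.mp hg
    exact ⟨⟨x, hx⟩, by
      show QuotientGroup.mk' K x = QuotientGroup.mk' K (k * x)
      rw [map_mul, show QuotientGroup.mk' K k = 1 from (QuotientGroup.eq_one_iff k).mpr hk, one_mul]⟩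
  exact Group.isSolvable_of_ker_le_range K.subtype (QuotientGroup.mk' K) (by simp)

/-- Let `G` be a finite group such that for every prime `p` dividing its order, other than the largest such prime, the Sylow `p`-subgroups are abelian and generated by at most two elements, and suppose `12` does not divide the order of `G`. Then `G` is solvable. In particular a group of cube-free order not divisible by `12` is solvable. -/
theorem result {G : Type*} [Group G] [Finite G] (h : ∀ p : ℕ, p.Prime → p ∣ Nat.card G → (∃ q : ℕ, q.Prime ∧ q ∣ Nat.card G ∧ p < q) → ∀ P : Sylow p G, IsMulCommutative (P : Subgroup G) ∧ Group.rank (P : Subgroup G) ≤ 2) (h12 : ¬ 12 ∣ Nat.card G) : Group.IsSolvable G := by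
  exact aux _ G rfl h h12

end Cfsg.Agent.S3970
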