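import Cfsg.Statements.S3973
import Cfsg.Agent.Lib.Schur.Basic

set_option autoImplicit false
open Cfsg
open CfsgLib.Schur.Basic

namespace Cfsg.Agent.S3973

/-- If a finite group is presented by `n` generators and a finite set of `r` relators, then its Schur multiplier can be generated by `r - n` elements. In particular a finite group with a presentation having as many relators as generators has trivial Schur multiplier. -/
theorem result (n : ℕ) (rels : Finset (FreeGroup (Fin n))) [Finite (PresentedGroup (rels : Set (FreeGroup (Fin n))))] {A : Type*} [CommGroup A] [Finite A] (hA : Cfsg.HasSchurMultiplier (PresentedGroup (rels : Set (FreeGroup (Fin n)))) A) : Group.rank A ≤ rels.card - n := by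
  classical
  let φ : FreeGroup (Fin n) →* PresentedGroup (rels : Set (FreeGroup (Fin n))) :=
    QuotientGroup.mk' _
  have hφ : Function.Surjective φ := QuotientGroup.mk'_surjective _
  obtain ⟨g⟩ := multOf_equiv φ hφ
  obtain ⟨g'⟩ := mult_equiv hA
  let e : multOf φ ≃* A := g.symm.trans g'
  -- the kernel of `Ext φ → Q` is generated by the images of the relators
  let T : Set (Ext φ) := QuotientGroup.mk' (commRel φ) '' (rels : Set (FreeGroup (Fin n)))
  have hT : T ⊆ (proj φ).ker := by
    rintro _ ⟨r, hr, rfl⟩
    show φ r = 1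
    exact (QuotientGroup.eq_one_iff r).mpr (Subgroup.subset_normalClosure hr)
  have hK : Subgroup.closure T = (proj φ).ker := by
    refine le_antisymm ((Subgroup.closure_le _).mpr hT) fun x hx => ?_
    induction x using QuotientGroup.induction_on with
    | _ a =>
      have ha : a ∈ Subgroup.normalClosure (rels : Set (FreeGroup (Fin n))) :=
        (QuotientGroup.eq_one_iff a).mp hx
      haveI : (Subgroup.closure T).Normal := normal_of_le_ker φ ((Subgroup.closure_le _).mpr hT)
      have : Subgroup.normalClosure (rels : Set (FreeGroup (Fin n)))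
          ≤ (Subgroup.closure T).comap (QuotientGroup.mk' (commRel φ)) :=
        Subgroup.normalClosure_le_normal fun r hr => Subgroup.subset_closure ⟨r, hr, rfl⟩
      exact this ha
  letI : CommGroup ↥(proj φ).ker :=
    { (inferInstance : Group ↥(proj φ).ker) with
      mul_comm := fun a b => Subtype.ext
        (Subgroup.mem_center_iff.mp (ker_proj_le_center φ b.2) a.1) }
  let K := Additive ↥(proj φ).ker
  let gen : ↥rels → K := fun r => Additive.ofMul ⟨QuotientGroup.mk' (commRel φ) r.1,
    hT ⟨r.1, r.2, rfl⟩⟩
  let P : (↥rels → ℤ) →ₗ[ℤ] K := Fintype.linearCombination ℤ gen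
  have hP : Function.Surjective P := by
    intro k
    have hle : Subgroup.closure T ≤ (AddSubgroup.toSubgroup'
        (LinearMap.range P).toAddSubgroup).map (proj φ).ker.subtype := by
      rw [Subgroup.closure_le]
      rintro _ ⟨r, hr, rfl⟩
      refine ⟨⟨QuotientGroup.mk' (commRel φ) r, hT ⟨r, hr, rfl⟩⟩, ⟨Pi.single ⟨r, hr⟩ 1, ?_⟩, rfl⟩
      show Fintype.linearCombination ℤ gen (Pi.single ⟨r, hr⟩ 1) = _
      rw [Fintype.linearCombination_apply_single, one_smul]
      rfl
    obtain ⟨k', hk', hkk⟩ := hle (hK.ge (Additive.toMul k).2)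
    obtain ⟨v, hv⟩ := hk'
    exact ⟨v, hv.trans (congrArg Additive.ofMul (Subtype.ext hkk))⟩
  let f : K →ₗ[ℤ] FreeAbelianGroup (Fin n) :=
    (MonoidHom.toAdditive ((toAb φ).comp (proj φ).ker.subtype)).toIntLinearMap
  haveI : Module.Finite ℤ (FreeAbelianGroup (Fin n)) :=
    Module.Finite.equiv (FreeAbelianGroup.equivFinsupp (Fin n)).symm.toIntLinearEquiv
  haveI : Module.Free ℤ (FreeAbelianGroup (Fin n)) :=
    Module.Free.of_equiv (FreeAbelianGroup.equivFinsupp (Fin n)).symm.toIntLinearEquiv
  have hfin : Module.finrank ℤ (FreeAbelianGroup (Fin n)) = n := by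
    rw [LinearEquiv.finrank_eq (FreeAbelianGroup.equivFinsupp (Fin n)).toIntLinearEquiv]
    simp
  let N := Nat.card (PresentedGroup (rels : Set (FreeGroup (Fin n))))
  have hrange : n ≤ Module.finrank ℤ (LinearMap.range (f.comp P)) := by
    have hmem : ∀ v : FreeAbelianGroup (Fin n), (N : ℤ) • v ∈ LinearMap.range (f.comp P) := by
      intro v
      obtain ⟨a, ha⟩ := QuotientGroup.mk_surjective (Additive.toMul v : Abelianization (FreeGroup (Fin n)))
      have hk : (QuotientGroup.mk' (commRel φ) a) ^ N ∈ (proj φ).ker := by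
        rw [MonoidHom.mem_ker, map_pow]; exact pow_card_eq_one'
      obtain ⟨w, hw⟩ := hP (Additive.ofMul ⟨_, hk⟩)
      refine ⟨w, ?_⟩
      show f (P w) = _
      rw [hw, natCast_zsmul]
      show Additive.ofMul (toAb φ ((QuotientGroup.mk' (commRel φ) a) ^ N)) = N • v
      rw [map_pow, ofMul_pow]
      exact congrArg (N • ·) (congrArg Additive.ofMul ha)
    have hN : (N : ℤ) ≠ 0 := Int.natCast_ne_zero.mpr Nat.card_pos.ne'
    have h := LinearMap.finrank_le_finrank_of_injective
      (f := ((LinearMap.lsmul ℤ (FreeAbelianGroup (Fin n)) (N : ℤ)).codRestrict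
        (LinearMap.range (f.comp P)) hmem)) (fun a b hab => by
          exact smul_right_injective _ hN (congrArg Subtype.val hab))
    omega
  let L := LinearMap.ker (f.comp P)
  have hL : Module.finrank ℤ L + n ≤ rels.card := by
    have h := Submodule.finrank_quotient_add_finrank L
    rw [LinearEquiv.finrank_eq (f.comp P).quotKerEquivRange, Module.finrank_pi, Fintype.card_coe] at h
    omega
  have hmemL : ∀ x : L, (Additive.toMul (P x.1)).1 ∈ multOf φ := fun x => by
    refine ⟨(Additive.toMul (P x.1)).2, ?_⟩
    rw [← ker_toAb]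
    exact congrArg Additive.toMul (x.2 : f (P x.1) = 0)
  let r : Multiplicative L →* A :=
    { toFun := fun x => e ⟨_, hmemL (Multiplicative.toAdd x)⟩
      map_one' := by
        rw [← map_one e]
        congr 1
        exact Subtype.ext (by simp)
      map_mul' := fun x y => by
        rw [← map_mul]
        congr 1
        exact Subtype.ext (by simp; rfl) }
  have hr : Function.Surjective r := by
    intro a
    obtain ⟨m, rfl⟩ := e.surjective a
    obtain ⟨v, hv⟩ := hP (Additive.ofMul ⟨m.1, m.2.1⟩)
    refine ⟨Multiplicative.ofAdd ⟨v, ?_⟩, congrArg e (Subtype.ext ?_)⟩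
    · show f (P v) = 0
      rw [hv]
      show Additive.ofMul (toAb φ m.1) = 0
      rw [show toAb φ m.1 = 1 from (ker_toAb φ).ge m.2.2]
      rfl
    · show (Additive.toMul (P v)).1 = m.1
      rw [hv]; rfl
  let b := Module.Free.chooseBasis ℤ L
  have hgen : Subgroup.closure (Set.range fun i => r (Multiplicative.ofAdd (b i))) = ⊤ := by
    rw [eq_top_iff]
    intro a _
    obtain ⟨x, rfl⟩ := hr a
    have key : ∀ u : L, r (Multiplicative.ofAdd u) ∈
        Subgroup.closure (Set.range fun i => r (Multiplicative.ofAdd (b i))) := by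
      intro u
      induction (show u ∈ Submodule.span ℤ (Set.range b) by rw [b.span_eq]; trivial)
          using Submodule.span_induction with
      | mem y hy => obtain ⟨i, rfl⟩ := hy; exact Subgroup.subset_closure ⟨i, rfl⟩
      | zero => rw [ofAdd_zero, map_one]; exact one_mem _
      | add y z _ _ hy hz => rw [ofAdd_add, map_mul]; exact mul_mem hy hz
      | smul c y _ hy => rw [ofAdd_zsmul, map_zpow]; exact zpow_mem hy c
    exact key (Multiplicative.toAdd x)
  have hrk : Group.rank A ≤ Fintype.card (Module.Free.ChooseBasisIndex ℤ L) := by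
    refine le_trans (Group.rank_le (S := Finset.univ.image fun i => r (Multiplicative.ofAdd (b i))) ?_)
      Finset.card_image_le
    rw [Finset.coe_image, Finset.coe_univ, Set.image_univ]
    exact hgen
  rw [← Module.finrank_eq_card_chooseBasisIndex] at hrk
  omega

end Cfsg.Agent.S3973
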