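import Cfsg.Statements.S3974
import Cfsg.Agent.Lib.Schur.Basic

set_option autoImplicit false
universe u v
open Cfsg
open CfsgLib.Schur.Basic Subgroup
open scoped commutatorElement

namespace Cfsg.Agent.S3974


section
variable {Q : Type u} [Group Q]

/-- Two lifts of the projection differ by a homomorphism into the kernel. -/
def twist {X : Type v} [Group X] (τ : X →* Q) (hk : τ.ker ≤ Subgroup.center X)
    (η : Ext (canon Q) →* X) (δ : Ext (canon Q) →* τ.ker) : Ext (canon Q) →* X where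
  toFun x := η x * δ x
  map_one' := by simp
  map_mul' a b := by
    have h := Subgroup.mem_center_iff.1 (hk (δ a).2) (η b)
    rw [map_mul, map_mul, Subgroup.coe_mul]
    calc η a * η b * ((δ a : X) * δ b) = η a * (η b * (δ a : X)) * δ b := by group
      _ = η a * ((δ a : X) * η b) * δ b := by rw [h]
      _ = _ := by group

theorem map_proj_commutator :
    (commutator (Ext (canon Q))).map (proj (canon Q)) = commutator Q := by
  rw [_root_.commutator_def, _root_.commutator_def, map_commutator,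
    Subgroup.map_top_of_surjective _ (proj_surjective _ (canon_surjective Q))]

theorem mem_sup_of_proj_mem {C : Subgroup (Ext (canon Q))}
    (hj : C ⊔ multOf (canon Q) = (proj (canon Q)).ker) {x : Ext (canon Q)}
    (hx : proj (canon Q) x ∈ commutator Q) : x ∈ C ⊔ commutator (Ext (canon Q)) := by
  obtain ⟨w, hw, hwx⟩ := (map_proj_commutator (Q := Q)).ge hx
  have h1 : x * w⁻¹ ∈ C ⊔ multOf (canon Q) := by
    rw [hj, MonoidHom.mem_ker, map_mul, map_inv, hwx, mul_inv_cancel]
  have h2 := mul_mem ((sup_le_sup_left (inf_le_right : multOf (canon Q) ≤ _) C) h1)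
    (Subgroup.mem_sup_right (T := commutator (Ext (canon Q))) (S := C) hw)
  simpa using h2

variable [Finite Q]

theorem exists_iso {Γ₁ Γ₂ : Type u} [Group Γ₁] [Finite Γ₁] [Group Γ₂] [Finite Γ₂]
    (σ₁ : Γ₁ →* Q) (σ₂ : Γ₂ →* Q) (h₁ : Cfsg.IsStemExtension σ₁) (h₂ : Cfsg.IsStemExtension σ₂)
    (e₁ : σ₁.ker ≃* Mult Q) (e₂ : σ₂.ker ≃* Mult Q)
    (hcop : Nat.Coprime (Nat.card (Abelianization Q)) (Nat.card (Mult Q))) :
    ∃ e : Γ₁ ≃* Γ₂, σ₂.comp e.toMonoidHom = σ₁ := by
  classical
  have hs := canon_surjective Q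
  obtain ⟨η₁, hη₁⟩ := exists_lift (canon Q) σ₁ h₁.1 h₁.2.1
  obtain ⟨η₂, hη₂⟩ := exists_lift (canon Q) σ₂ h₂.1 h₂.2.1
  have hsur₁ := lift_surjective _ hs σ₁ h₁ η₁ hη₁
  have hM : (multOf (canon Q)).map η₁ = σ₁.ker :=
    (map_multOf _ hs σ₁ h₁.2.1 η₁ hη₁).trans (inf_eq_left.2 h₁.2.2)
  have hinj : ∀ m ∈ multOf (canon Q), η₁ m = 1 → m = 1 := by
    intro m hm hm1
    let π : Mult Q →* σ₁.ker := (η₁.comp (multOf (canon Q)).subtype).codRestrict _
      fun m => hM.le ⟨m.1, m.2, rfl⟩
    have hπ : Function.Surjective π := fun x => by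
      obtain ⟨m, hm, hx⟩ := hM.ge x.2
      exact ⟨⟨m, hm⟩, Subtype.ext hx⟩
    have hb : Function.Bijective π := (Nat.bijective_iff_surjective_and_card π).2
      ⟨hπ, (Nat.card_congr e₁.toEquiv).symm⟩
    have : (⟨m, hm⟩ : Mult Q) = 1 := hb.1 (Subtype.ext (by simpa [π] using hm1))
    exact congrArg Subtype.val this
  set C := η₁.ker with hCdef
  have hC : C ≤ (proj (canon Q)).ker := fun x hx => by
    rw [MonoidHom.mem_ker, ← hη₁, MonoidHom.comp_apply, MonoidHom.mem_ker.1 hx, map_one]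
  have hCd : C ⊓ commutator (Ext (canon Q)) = ⊥ := by
    rw [Subgroup.eq_bot_iff_forall]
    exact fun x hx => hinj x ⟨hC hx.1, hx.2⟩ hx.1
  have hCj : C ⊔ multOf (canon Q) = (proj (canon Q)).ker := by
    refine le_antisymm (sup_le hC inf_le_left) fun r hr => ?_
    obtain ⟨m, hm, hmr⟩ := hM.ge (show η₁ r ∈ σ₁.ker by
      rw [MonoidHom.mem_ker, ← MonoidHom.comp_apply, hη₁]; exact hr)
    have h1 : r * m⁻¹ ∈ C := by
      rw [hCdef, MonoidHom.mem_ker, map_mul, map_inv, hmr, mul_inv_cancel]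
    simpa using Subgroup.mul_mem_sup h1 hm
  let ι : C →* Abelianization (Ext (canon Q)) := Abelianization.of.comp C.subtype
  have hι : Function.Injective ι := (injective_iff_map_eq_one ι).2 fun c hc => by
    have h2 : (c : Ext (canon Q)) ∈ C ⊓ commutator (Ext (canon Q)) :=
      ⟨c.2, by rw [← Abelianization.ker_of]; exact hc⟩
    rw [hCd] at h2
    exact Subtype.ext h2
  set h := Nat.card (Abelianization Q)
  let θ : Ext (canon Q) →* ι.range :=
    ((powMonoidHom h).comp Abelianization.of).codRestrict ι.range fun x => by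
      have h1 : x ^ h ∈ C ⊔ commutator (Ext (canon Q)) := by
        refine mem_sup_of_proj_mem hCj ?_
        rw [map_pow, ← Abelianization.ker_of, MonoidHom.mem_ker, map_pow]
        exact pow_card_eq_one'
      rw [← SetLike.mem_coe, Subgroup.mul_normal] at h1
      obtain ⟨c, hc, w, hw, e⟩ := Set.mem_mul.1 h1
      refine ⟨⟨c, hc⟩, ?_⟩
      show Abelianization.of c = (Abelianization.of x) ^ h
      rw [← map_pow, ← e, map_mul, show Abelianization.of w = 1 by
        rw [← MonoidHom.mem_ker, Abelianization.ker_of]; exact hw, mul_one]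
  have hK : ∀ a b : σ₂.ker, a * b = b * a := fun a b =>
    Subtype.ext (Subgroup.mem_center_iff.1 (h₂.2.1 b.2) a)
  let _ : CommGroup σ₂.ker := { (inferInstance : Group σ₂.ker) with mul_comm := hK }
  let ρ : C →* σ₂.ker := (η₂.comp C.subtype).codRestrict _ fun c => by
    show σ₂ (η₂ c) = 1
    rw [← MonoidHom.comp_apply, hη₂]; exact hC c.2
  obtain ⟨k, hk⟩ : ∃ k : ℤ, (Nat.card (Mult Q) : ℤ) ∣ h * k - 1 := by
    refine ⟨Nat.gcdA h (Nat.card (Mult Q)), -Nat.gcdB h (Nat.card (Mult Q)), ?_⟩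
    have := Nat.gcd_eq_gcd_ab h (Nat.card (Mult Q))
    rw [hcop.gcd_eq_one] at this
    push_cast at this
    rw [mul_neg]; linarith
  let δ : Ext (canon Q) →* σ₂.ker :=
    (zpowGroupHom (-k)).comp (ρ.comp ((MonoidHom.ofInjective hι).symm.toMonoidHom.comp θ))
  have hδ : ∀ c : C, δ c = (ρ c)⁻¹ := by
    intro c
    have h1 : θ c = MonoidHom.ofInjective hι (c ^ h) := Subtype.ext (by
      show (Abelianization.of (c : Ext (canon Q))) ^ h = ι (c ^ h)
      rw [map_pow]; rfl)
    show (ρ ((MonoidHom.ofInjective hι).symm (θ c))) ^ (-k) = _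
    rw [h1, MulEquiv.symm_apply_apply, map_pow, ← zpow_natCast, ← zpow_mul]
    obtain ⟨t, ht⟩ := hk
    have h2 : ρ c ^ (Nat.card (Mult Q)) = 1 := by
      rw [← Nat.card_congr e₂.toEquiv]; exact pow_card_eq_one'
    rw [show (h : ℤ) * -k = -((Nat.card (Mult Q) : ℤ) * t) + -1 by linarith, zpow_add, zpow_neg,
      zpow_mul, zpow_natCast, h2, one_zpow, inv_one, one_mul, zpow_neg_one]
  let η' := twist σ₂ h₂.2.1 η₂ δ
  have hη' : σ₂.comp η' = proj (canon Q) := MonoidHom.ext fun x => by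
    show σ₂ (η₂ x * δ x) = _
    rw [map_mul, MonoidHom.mem_ker.1 (δ x).2, mul_one, ← hη₂, MonoidHom.comp_apply]
  have hle : η₁.ker ≤ η'.ker := fun c hc => by
    show η₂ c * δ c = 1
    rw [show δ c = (ρ ⟨c, hc⟩)⁻¹ from hδ ⟨c, hc⟩, Subgroup.coe_inv]
    exact mul_inv_cancel _
  let e : Γ₁ →* Γ₂ := η₁.liftOfSurjective hsur₁ ⟨η', hle⟩
  have he : ∀ x, e (η₁ x) = η' x := fun x =>
    MonoidHom.liftOfRightInverse_comp_apply _ _ _ _ x
  have hesur : Function.Surjective e := fun y => by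
    obtain ⟨x, rfl⟩ := lift_surjective _ hs σ₂ h₂ η' hη' y
    exact ⟨η₁ x, he x⟩
  have hcard : Nat.card Γ₁ = Nat.card Γ₂ := by
    rw [Subgroup.card_eq_card_quotient_mul_card_subgroup σ₁.ker,
      Subgroup.card_eq_card_quotient_mul_card_subgroup σ₂.ker,
      Nat.card_congr (QuotientGroup.quotientKerEquivOfSurjective σ₁ h₁.1).toEquiv,
      Nat.card_congr (QuotientGroup.quotientKerEquivOfSurjective σ₂ h₂.1).toEquiv,
      Nat.card_congr e₁.toEquiv, Nat.card_congr e₂.toEquiv]
  refine ⟨MulEquiv.ofBijective e ((Nat.bijective_iff_surjective_and_card e).2 ⟨hesur, hcard⟩),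
    MonoidHom.ext fun g => ?_⟩
  obtain ⟨x, rfl⟩ := hsur₁ g
  show σ₂ (e (η₁ x)) = σ₁ (η₁ x)
  rw [he, ← MonoidHom.comp_apply, hη', ← hη₁, MonoidHom.comp_apply]

variable {C : Subgroup (Ext (canon Q))}

theorem exists_extension {A : Type v} [CommGroup A]
    (hC : C ≤ (proj (canon Q)).ker) (hd : C ⊓ commutator (Ext (canon Q)) = ⊥)
    (hj : C ⊔ multOf (canon Q) = (proj (canon Q)).ker) (eA : Mult Q ≃* A)
    (hall : ∀ (Γ₁ Γ₂ : Type u) [Group Γ₁] [Finite Γ₁] [Group Γ₂] [Finite Γ₂] (σ₁ : Γ₁ →* Q)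
      (σ₂ : Γ₂ →* Q), Cfsg.IsStemExtension σ₁ → Cfsg.IsStemExtension σ₂ →
      Nonempty (σ₁.ker ≃* A) → Nonempty (σ₂.ker ≃* A) →
      ∃ e : Γ₁ ≃* Γ₂, σ₂.comp e.toMonoidHom = σ₁)
    (f : C →* Mult Q) : ∃ δ : Ext (canon Q) →* Mult Q, ∀ c : C, δ c = f c := by
  classical
  have hs := canon_surjective Q
  have hcen : ∀ m : Mult Q, ∀ x : Ext (canon Q), x * (m : Ext (canon Q)) = (m : Ext (canon Q)) * x :=
    fun m x => Subgroup.mem_center_iff.1 (multOf_le_center _ m.2) x
  -- the twisted complement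
  let g : C →* Ext (canon Q) :=
    { toFun := fun c => (c : Ext (canon Q)) * (f c : Ext (canon Q))
      map_one' := by simp
      map_mul' := fun a b => by
        have h := hcen (f a) b
        rw [map_mul, Subgroup.coe_mul, Subgroup.coe_mul]
        calc (a : Ext (canon Q)) * b * ((f a : Ext (canon Q)) * (f b : Ext (canon Q)))
            = a * (b * (f a : Ext (canon Q))) * (f b : Ext (canon Q)) := by group
          _ = a * ((f a : Ext (canon Q)) * b) * (f b : Ext (canon Q)) := by rw [h]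
          _ = _ := by group }
  have hDk : g.range ≤ (proj (canon Q)).ker := by
    rintro _ ⟨c, rfl⟩
    exact mul_mem (hC c.2) (f c).2.1
  have hDd : g.range ⊓ commutator (Ext (canon Q)) = ⊥ := by
    rw [Subgroup.eq_bot_iff_forall]
    rintro _ ⟨⟨c, rfl⟩, hx⟩
    have h1 : (c : Ext (canon Q)) ∈ C ⊓ commutator (Ext (canon Q)) :=
      ⟨c.2, ((commutator (Ext (canon Q))).mul_mem_cancel_right (f c).2.2).1 hx⟩
    rw [hd, Subgroup.mem_bot] at h1
    rw [show c = 1 from Subtype.ext h1, map_one]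
  have hDj : g.range ⊔ multOf (canon Q) = (proj (canon Q)).ker := by
    refine le_antisymm (sup_le hDk inf_le_left) ?_
    rw [← hj]
    refine sup_le (fun c hc => ?_) le_sup_right
    have h1 := Subgroup.mul_mem_sup (show g ⟨c, hc⟩ ∈ g.range from ⟨_, rfl⟩)
      (inv_mem (f ⟨c, hc⟩).2)
    simpa [g] using h1
  have := normal_of_le_ker (canon Q) hC
  have := normal_of_le_ker (canon Q) hDk
  obtain ⟨hf1, hst1, e1, -⟩ := cover_of_complement (canon Q) hs C hC hd hj
  obtain ⟨hf2, hst2, e2, he2⟩ := cover_of_complement (canon Q) hs g.range hDk hDd hDj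
  obtain ⟨e, he⟩ := hall _ _ _ _ hst1 hst2 ⟨e1.symm.trans eA⟩ ⟨e2.symm.trans eA⟩
  let τ := QuotientGroup.lift g.range (proj (canon Q)) hDk
  let η' : Ext (canon Q) →* Ext (canon Q) ⧸ g.range :=
    e.toMonoidHom.comp (QuotientGroup.mk' C)
  have hη' : ∀ x, τ (η' x) = proj (canon Q) x := fun x => DFunLike.congr_fun he (QuotientGroup.mk x)
  let δ : Ext (canon Q) →* τ.ker :=
    { toFun := fun x => ⟨(QuotientGroup.mk' g.range x)⁻¹ * η' x, by
        show τ _ = 1
        rw [map_mul, map_inv, hη']; exact inv_mul_cancel _⟩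
      map_one' := Subtype.ext (by simp)
      map_mul' := fun a b => Subtype.ext (by
        have hz : (QuotientGroup.mk' g.range a)⁻¹ * η' a ∈ Subgroup.center _ := hst2.2.1 (by
          show τ _ = 1
          rw [map_mul, map_inv, hη']; exact inv_mul_cancel _)
        have h := Subgroup.mem_center_iff.1 hz (QuotientGroup.mk' g.range b)⁻¹
        show (QuotientGroup.mk' g.range (a * b))⁻¹ * η' (a * b) = _
        rw [map_mul, map_mul, mul_inv_rev]
        calc (QuotientGroup.mk' g.range b)⁻¹ * (QuotientGroup.mk' g.range a)⁻¹ * (η' a * η' b)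
            = ((QuotientGroup.mk' g.range b)⁻¹ * ((QuotientGroup.mk' g.range a)⁻¹ * η' a)) * η' b := by
              group
          _ = ((QuotientGroup.mk' g.range a)⁻¹ * η' a * (QuotientGroup.mk' g.range b)⁻¹) * η' b := by
              rw [h]
          _ = _ := by rw [mul_assoc]; rfl) }
  refine ⟨e2.symm.toMonoidHom.comp δ, fun c => ?_⟩
  show e2.symm (δ c) = f c
  rw [MulEquiv.symm_apply_eq]
  refine Subtype.ext ?_
  refine Eq.trans ?_ (he2 (f c)).symm
  show (QuotientGroup.mk' g.range (c : Ext (canon Q)))⁻¹ * η' c = _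
  have h1 : QuotientGroup.mk' C (c : Ext (canon Q)) = 1 := (QuotientGroup.eq_one_iff _).2 c.2
  have h2 : QuotientGroup.mk' g.range (g c) = 1 := (QuotientGroup.eq_one_iff _).2 ⟨c, rfl⟩
  rw [show η' c = e (QuotientGroup.mk' C (c : Ext (canon Q))) from rfl, h1, map_one, mul_one,
    inv_eq_iff_mul_eq_one]
  rw [show g c = (c : Ext (canon Q)) * (f c : Ext (canon Q)) from rfl, map_mul] at h2
  exact h2

theorem not_extends (hC : C ≤ (proj (canon Q)).ker) (hd : C ⊓ commutator (Ext (canon Q)) = ⊥)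
    (hj : C ⊔ multOf (canon Q) = (proj (canon Q)).ker) {p : ℕ} (hp : p.Prime)
    (hp1 : p ∣ Nat.card (Abelianization Q)) (hp2 : p ∣ Nat.card (Mult Q))
    (hext : ∀ f : C →* Mult Q, ∃ δ : Ext (canon Q) →* Mult Q, ∀ c : C, δ c = f c) : False := by
  classical
  have : Fact p.Prime := ⟨hp⟩
  -- an element of order `p` modulo `C` and the commutators
  obtain ⟨q, hq⟩ := exists_prime_orderOf_dvd_card' (G := Abelianization Q) p hp1
  obtain ⟨q, rfl⟩ : ∃ r, Abelianization.of r = q := QuotientGroup.mk'_surjective (commutator Q) q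
  obtain ⟨x, rfl⟩ := proj_surjective _ (canon_surjective Q) q
  have hxp : x ^ p ∈ C ⊔ commutator (Ext (canon Q)) := by
    refine mem_sup_of_proj_mem hj ?_
    rw [map_pow, ← Abelianization.ker_of, MonoidHom.mem_ker, map_pow, ← hq, pow_orderOf_eq_one]
  have hxn : x ∉ C ⊔ commutator (Ext (canon Q)) := by
    intro hx
    have h1 : proj (canon Q) x ∈ commutator Q := by
      refine (show C ⊔ commutator (Ext (canon Q)) ≤ (commutator Q).comap (proj (canon Q)) from
        sup_le (fun c hc => ?_) ?_) hx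
      · rw [Subgroup.mem_comap, hC hc]; exact one_mem _
      · rw [← Subgroup.map_le_iff_le_comap, map_proj_commutator]
    rw [← Abelianization.ker_of, MonoidHom.mem_ker] at h1
    rw [h1, orderOf_one] at hq
    exact hp.ne_one hq.symm
  rw [← SetLike.mem_coe, Subgroup.mul_normal] at hxp
  obtain ⟨c, hc, w, hw, hcw⟩ := Set.mem_mul.1 hxp
  -- coordinates on `C`
  let _ : CommGroup C := { (inferInstance : Group C) with
    mul_comm := fun a b =>
      Subtype.ext (Subgroup.mem_center_iff.1 (ker_proj_le_center _ (hC b.2)) a) }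
  let L : Additive C →ₗ[ℤ] FreeAbelianGroup Q :=
    (MonoidHom.toAdditive ((toAb (canon Q)).comp C.subtype)).toIntLinearMap
  have := Fintype.ofFinite Q
  have : Module.Finite ℤ (FreeAbelianGroup Q) :=
    Module.Finite.equiv (FreeAbelianGroup.equivFinsupp Q).symm.toIntLinearEquiv
  have : Module.Free ℤ (FreeAbelianGroup Q) :=
    Module.Free.of_equiv (FreeAbelianGroup.equivFinsupp Q).symm.toIntLinearEquiv
  have hL : Function.Injective L := by
    rw [injective_iff_map_eq_zero]
    intro a ha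
    have h1 : ((Additive.toMul a : C) : Ext (canon Q)) ∈ C ⊓ commutator (Ext (canon Q)) :=
      ⟨(Additive.toMul a).2, by rw [← ker_toAb]; exact ha⟩
    rw [hd] at h1
    exact Additive.toMul.injective (Subtype.ext h1)
  let E := LinearEquiv.ofInjective L hL
  let b := Module.Free.chooseBasis ℤ (LinearMap.range L)
  set v := b.repr (E (Additive.ofMul ⟨c, hc⟩)) with hv
  obtain ⟨i, hi⟩ : ∃ i, ¬ (p : ℤ) ∣ v i := by
    by_contra hall
    push Not at hall
    choose t ht using hall
    let d : LinearMap.range L := ∑ i, t i • b i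
    have hd1 : E (Additive.ofMul ⟨c, hc⟩) = (p : ℤ) • d := by
      rw [Finset.smul_sum]
      conv_lhs => rw [← b.sum_repr (E (Additive.ofMul ⟨c, hc⟩))]
      exact Finset.sum_congr rfl fun i _ => by rw [smul_smul, ← ht i]
    obtain ⟨⟨a, ha⟩, hea⟩ : ∃ a : C, E (Additive.ofMul a) = d :=
      ⟨Additive.toMul (E.symm d), E.apply_symm_apply d⟩
    refine hxn ?_
    have h1 : toAb (canon Q) (x * a⁻¹) = 1 := by
      have h2 : Additive.ofMul (toAb (canon Q) c) =
          (p : ℤ) • Additive.ofMul (toAb (canon Q) a) :=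
        (congrArg Subtype.val hd1).trans (congrArg (fun z => (p : ℤ) • z) (congrArg Subtype.val hea).symm)
      have h3 : toAb (canon Q) x ^ p = toAb (canon Q) a ^ p := by
        rw [← map_pow, ← hcw, map_mul, show toAb (canon Q) w = 1 by
          rw [← MonoidHom.mem_ker, ker_toAb]; exact hw, mul_one]
        rw [natCast_zsmul, ← ofMul_pow] at h2
        exact Additive.ofMul.injective h2
      have h4 : (p : ℤ) • (show FreeAbelianGroup Q from
          Additive.ofMul (toAb (canon Q) (x * a⁻¹))) = 0 := by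
        show (p : ℤ) • Additive.ofMul (toAb (canon Q) (x * a⁻¹)) = 0
        rw [natCast_zsmul, ← ofMul_pow, map_mul, map_inv, mul_pow, inv_pow, h3, mul_inv_cancel,
          ofMul_one]
      exact (smul_eq_zero.1 h4).resolve_left (by exact_mod_cast hp.ne_zero)
    rw [← MonoidHom.mem_ker, ker_toAb] at h1
    have := mul_mem (Subgroup.mem_sup_right (S := C) h1) (Subgroup.mem_sup_left ha)
    simpa using this
  -- a value which is not a `p`-th power
  obtain ⟨u, hu⟩ : ∃ u : Mult Q, ∀ z : Mult Q, z ^ p ≠ u := by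
    by_contra h
    push Not at h
    obtain ⟨o, ho⟩ := exists_prime_orderOf_dvd_card' (G := Mult Q) p hp2
    have hb : Function.Bijective (fun z : Mult Q => z ^ p) :=
      (Nat.bijective_iff_surjective_and_card _).2 ⟨fun u => h u, rfl⟩
    have : o = 1 := hb.1 (show o ^ p = 1 ^ p by rw [one_pow, ← ho, pow_orderOf_eq_one])
    rw [this, orderOf_one] at ho
    exact hp.ne_one ho.symm
  let f : C →* Mult Q :=
    { toFun := fun c => u ^ (b.repr (E (Additive.ofMul c)) i)
      map_one' := by simp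
      map_mul' := fun a a' => by simp [zpow_add] }
  obtain ⟨δ, hδ⟩ := hext f
  have h1 : δ x ^ p = u ^ (v i) := by
    rw [← map_pow, ← hcw, map_mul, show δ w = 1 from
      Abelianization.commutator_subset_ker δ hw, mul_one]
    exact hδ ⟨c, hc⟩
  obtain ⟨s, t, hst⟩ := (Prime.coprime_iff_not_dvd (Nat.prime_iff_prime_int.1 hp)).2 hi
  refine hu (u ^ s * δ x ^ t) ?_
  rw [mul_pow, ← zpow_natCast (δ x ^ t), ← zpow_mul, mul_comm t, zpow_mul, zpow_natCast, h1,
    ← zpow_natCast (u ^ s), ← zpow_mul, ← zpow_mul, ← zpow_add, mul_comm (v i), hst, zpow_one]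

end

/-- Let `Q` be a finite group with Schur multiplier `A`. Any two Schur covering groups of `Q` (finite stem extensions `σ₁ : Γ₁ →* Q`, `σ₂ : Γ₂ →* Q` with kernels isomorphic to `A`, `Γ₁, Γ₂` in the universe of `Q`) are isomorphic over `Q` — there is a group isomorphism `e : Γ₁ ≃* Γ₂` with `σ₂ ∘ e = σ₁` — if and only if the order of the commutator quotient of `Q` is coprime to the order of `A`. In particular a finite perfect group has a unique Schur covering group up to isomorphism over it. -/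
theorem result {Q : Type u} [Group Q] [Finite Q] {A : Type v} [CommGroup A] (hA : Cfsg.HasSchurMultiplier Q A) : (∀ (Γ₁ Γ₂ : Type u) [Group Γ₁] [Finite Γ₁] [Group Γ₂] [Finite Γ₂] (σ₁ : Γ₁ →* Q) (σ₂ : Γ₂ →* Q), Cfsg.IsStemExtension σ₁ → Cfsg.IsStemExtension σ₂ → Nonempty (σ₁.ker ≃* A) → Nonempty (σ₂.ker ≃* A) → ∃ e : Γ₁ ≃* Γ₂, σ₂.comp e.toMonoidHom = σ₁) ↔ Nat.Coprime (Nat.card (Abelianization Q)) (Nat.card A) := by
  classical
  obtain ⟨eA⟩ := mult_equiv hA
  have : Finite A := finite_of_hasSchurMultiplier hA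
  constructor
  · intro hall
    refine Nat.coprime_of_dvd fun p hp hp1 hp2 => ?_
    have : Fact p.Prime := ⟨hp⟩
    obtain ⟨C, hC, hd, hj⟩ := exists_complement (canon Q)
    have := normal_of_le_ker (canon Q) hC
    -- every homomorphism from `C` to the multiplier extends
    have hext : ∀ f : C →* Mult Q, ∃ δ : Ext (canon Q) →* Mult Q, ∀ c : C, δ c = f c :=
      fun f => exists_extension hC hd hj eA hall f
    exact not_extends hC hd hj hp hp1 (by rwa [Nat.card_congr eA.toEquiv]) hext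
  · intro hcop Γ₁ Γ₂ _ _ _ _ σ₁ σ₂ h₁ h₂ ⟨e₁⟩ ⟨e₂⟩
    exact exists_iso σ₁ σ₂ h₁ h₂ (e₁.trans eA.symm) (e₂.trans eA.symm)
      (by rwa [Nat.card_congr eA.toEquiv])

end Cfsg.Agent.S3974
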