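import Cfsg.Statements.S3977
import Cfsg.Agent.Lib.FrobRealize.Quaternion

set_option autoImplicit false
open Cfsg

namespace Cfsg.Agent.S3977

/-- Let `p` be a prime and `G` a group of order `p ^ m` which has exactly one subgroup of order `p ^ s`, where `1 ≤ s < m`, and where `s ≥ 2` if `p = 2`. Then `G` is cyclic. (For `p = 2` and `s = 1` the generalized quaternion groups also occur; that case is the classical criterion for a unique involution.) -/
theorem result {G : Type*} [Group G] [Finite G] (p m s : ℕ) (hp : p.Prime) (hG : Nat.card G = p ^ m) (hs : 1 ≤ s) (hsm : s < m) (h2 : p ≠ 2 ∨ 2 ≤ s) (huniq : ∀ H K : Subgroup G, Nat.card H = p ^ s → Nat.card K = p ^ s → H = K) : IsCyclic G := by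
  classical
  haveI := Fact.mk hp
  haveI := Fintype.ofFinite G
  have hGp : IsPGroup p G := IsPGroup.of_card hG
  obtain ⟨H, hH⟩ := Sylow.exists_subgroup_card_pow_prime (G := G) p (n := s)
    (hG ▸ pow_dvd_pow p hsm.le)
  have hle : ∀ x : G, orderOf x ∣ p ^ s → x ∈ H := by
    intro x hx
    obtain ⟨j, hj, e⟩ := (Nat.dvd_prime_pow hp).1 hx
    obtain ⟨K, hK, hxK⟩ := Sylow.exists_subgroup_card_pow_prime_le (G := G) p
      (hG ▸ pow_dvd_pow p hsm.le) (Subgroup.zpowers x) (by rw [Nat.card_zpowers, e]) hj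
    exact huniq H K hH hK ▸ hxK (Subgroup.mem_zpowers x)
  -- `H` is cyclic
  obtain ⟨g, hg⟩ : ∃ g : G, g ∉ H := by
    by_contra hall
    push Not at hall
    have h1 : H = ⊤ := eq_top_iff.2 fun y _ => hall y
    rw [h1, Subgroup.card_top, hG] at hH
    exact hsm.ne' (Nat.pow_right_injective hp.two_le hH)
  obtain ⟨a, ha⟩ := IsPGroup.iff_orderOf.1 hGp g
  have hsa : s ≤ a := by
    by_contra h
    exact hg (hle g (ha ▸ pow_dvd_pow p (by omega)))
  set h := g ^ p ^ (a - s) with hh
  have hho : orderOf h = p ^ s := by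
    rw [hh, orderOf_pow, ha, Nat.gcd_eq_right (pow_dvd_pow p (Nat.sub_le a s)),
      Nat.pow_div (Nat.sub_le a s) hp.pos, show a - (a - s) = s by omega]
  have hHz : Subgroup.zpowers h = H :=
    huniq _ _ (by rw [Nat.card_zpowers, hho]) hH
  haveI hcycH : IsCyclic H := hHz ▸ inferInstance
  have hroot : ∀ k : ℕ, 0 < k → k ≤ s → Nat.card {x : G // x ^ p ^ k = 1} ≤ p ^ k := by
    intro k hk0 hks
    haveI := Fintype.ofFinite H
    refine le_trans (Nat.card_le_card_of_injective
      (fun x : {x : G // x ^ p ^ k = 1} => (⟨⟨x.1, hle x.1 ((orderOf_dvd_of_pow_eq_one x.2).trans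
        (pow_dvd_pow p hks))⟩, Subtype.ext (by simpa using x.2)⟩ : {y : H // y ^ p ^ k = 1}))
      fun u v huv => Subtype.ext (congrArg (fun z => (z.1 : G)) huv)) ?_
    rw [Nat.card_eq_fintype_card, Fintype.card_subtype]
    exact IsCyclic.card_pow_eq_one_le (pow_pos hp.pos k)
  have h1 := hroot 1 Nat.one_pos hs
  rw [pow_one] at h1
  rcases CfsgLib.FrobRealize.Quaternion.cyclic_or_quaternion hGp h1 with hc | ⟨rfl, n, ⟨e⟩⟩
  · exact hc
  have hs2 : 2 ≤ s := h2.resolve_left (fun h => h rfl)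
  rcases Nat.eq_zero_or_pos n with rfl | hn
  · haveI := QuaternionGroup.quaternionGroup_one_isCyclic
    exact isCyclic_of_surjective e.symm.toMonoidHom e.symm.surjective
  exfalso
  haveI : NeZero (2 ^ n) := ⟨(Nat.two_pow_pos n).ne'⟩
  -- five solutions of `x ^ 4 = 1`
  have h4 := hroot 2 two_pos hs2
  have hN : 4 ≤ 2 * 2 ^ n := by
    have : 2 ^ 1 ≤ 2 ^ n := Nat.pow_le_pow_right (by norm_num) hn
    omega
  let f : Fin 5 → {x : G // x ^ 2 ^ 2 = 1} := ![
    ⟨1, one_pow _⟩,
    ⟨e.symm (QuaternionGroup.xa 0), by rw [← map_pow, show (2:ℕ) ^ 2 = 4 from rfl, QuaternionGroup.xa_pow_four, map_one]⟩,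
    ⟨e.symm (QuaternionGroup.xa 1), by rw [← map_pow, show (2:ℕ) ^ 2 = 4 from rfl, QuaternionGroup.xa_pow_four, map_one]⟩,
    ⟨e.symm (QuaternionGroup.xa 2), by rw [← map_pow, show (2:ℕ) ^ 2 = 4 from rfl, QuaternionGroup.xa_pow_four, map_one]⟩,
    ⟨e.symm (QuaternionGroup.xa 3), by rw [← map_pow, show (2:ℕ) ^ 2 = 4 from rfl, QuaternionGroup.xa_pow_four, map_one]⟩]
  have hne : ∀ i j : ℕ, i < 4 → j < 4 → ((i : ℕ) : ZMod (2 * 2 ^ n)) = ((j : ℕ) : ZMod (2 * 2 ^ n)) → i = j := by
    intro i j hi hj hij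
    rw [ZMod.natCast_eq_natCast_iff'] at hij
    rwa [Nat.mod_eq_of_lt (lt_of_lt_of_le hi hN), Nat.mod_eq_of_lt (lt_of_lt_of_le hj hN)] at hij
  have hxane : ∀ i j : ℕ, i < 4 → j < 4 → i ≠ j →
      e.symm (QuaternionGroup.xa (i : ZMod (2 * 2 ^ n))) ≠ e.symm (QuaternionGroup.xa (j : ZMod (2 * 2 ^ n))) :=
    fun i j hi hj hij h => hij (hne i j hi hj (QuaternionGroup.xa.inj (e.symm.injective h)))
  have hxa1 : ∀ i : ZMod (2 * 2 ^ n), e.symm (QuaternionGroup.xa i) ≠ 1 := fun i h => by
    rw [MulEquiv.map_eq_one_iff, QuaternionGroup.one_def] at h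
    cases h
  have hf : Function.Injective f := by
    intro i j hij
    have hij' := congrArg Subtype.val hij
    have e01 := hxane 0 1 (by norm_num) (by norm_num) (by norm_num)
    have e02 := hxane 0 2 (by norm_num) (by norm_num) (by norm_num)
    have e03 := hxane 0 3 (by norm_num) (by norm_num) (by norm_num)
    have e12 := hxane 1 2 (by norm_num) (by norm_num) (by norm_num)
    have e13 := hxane 1 3 (by norm_num) (by norm_num) (by norm_num)
    have e23 := hxane 2 3 (by norm_num) (by norm_num) (by norm_num)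
    push_cast at e01 e02 e03 e12 e13 e23
    fin_cases i <;> fin_cases j <;>
      first
      | rfl
      | exact absurd hij' (hxa1 _)
      | exact absurd hij'.symm (hxa1 _)
      | exact absurd hij' e01
      | exact absurd hij'.symm e01
      | exact absurd hij' e02
      | exact absurd hij'.symm e02
      | exact absurd hij' e03
      | exact absurd hij'.symm e03
      | exact absurd hij' e12
      | exact absurd hij'.symm e12
      | exact absurd hij' e13
      | exact absurd hij'.symm e13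
      | exact absurd hij' e23
      | exact absurd hij'.symm e23
  have h5 := (Nat.card_le_card_of_injective f hf).trans h4
  rw [Nat.card_fin] at h5
  omega

end Cfsg.Agent.S3977
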