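import Cfsg.Statements.S3978
import Cfsg.Agent.S3955
import Cfsg.Agent.S3956

set_option autoImplicit false
open Cfsg

namespace Cfsg.Agent.S3978

private theorem hid {Q : Type*} [Group Q] : Cfsg.IsStemExtension (MonoidHom.id Q) := by
  refine ⟨fun q => ⟨q, rfl⟩, ?_, ?_⟩ <;> rw [MonoidHom.ker_id] <;> exact bot_le

private def kerEquiv (Q : Type*) [Group Q] : (MonoidHom.id Q).ker ≃* Multiplicative (ZMod 1) where
  toFun _ := 1
  invFun _ := 1
  left_inv x := Subtype.ext x.2.symm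
  right_inv _ := Subsingleton.elim _ _
  map_mul' _ _ := Subsingleton.elim _ _

/-- A finite group `Q` has trivial Schur multiplier if and only if, for every `n`, every homomorphism from `Q` to the projective general linear group (the quotient of `GL n ℂ` by its centre) lifts to a homomorphism into `GL n ℂ`. -/
theorem result {Q : Type*} [Group Q] [Finite Q] : Cfsg.HasCyclicSchurMultiplier Q 1 ↔ ∀ (n : ℕ) (γ : Q →* (GL (Fin n) ℂ ⧸ Subgroup.center (GL (Fin n) ℂ))), ∃ ρ : Q →* GL (Fin n) ℂ, (QuotientGroup.mk' (Subgroup.center (GL (Fin n) ℂ))).comp ρ = γ := by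
  constructor
  · intro h n γ
    obtain ⟨ρ, hρ⟩ := Cfsg.Agent.S3955.result h (MonoidHom.id Q) hid ⟨kerEquiv Q⟩ n γ
    exact ⟨ρ, hρ⟩
  · intro hlift
    refine CfsgLib.Schur.Basic.hasCyclicSchurMultiplier_one_of fun Γ _ _ τ hτ => ?_
    obtain ⟨π, hπ⟩ := Cfsg.Agent.S3956.result (MonoidHom.id Q) hid hlift Γ τ hτ
    rw [eq_bot_iff]
    intro z hz
    obtain ⟨⟨w, hw⟩, hwz⟩ := hπ ⟨z, hz⟩
    have : (⟨w, hw⟩ : (MonoidHom.id Q).ker) = 1 := Subtype.ext hw
    rw [this, map_one] at hwz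
    exact (congrArg Subtype.val hwz).symm

end Cfsg.Agent.S3978
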