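import Cfsg.Statements.S3980
import Cfsg.Agent.S3959

set_option autoImplicit false
universe u v w
open Cfsg

namespace Cfsg.Agent.S3980

/-- Let `Q₁` and `Q₂` be finite groups whose commutator quotients have coprime orders, with Schur multipliers `A` and `B`. Then the Schur multiplier of `Q₁ × Q₂` is isomorphic to `A × B`. -/
theorem result {Q₁ : Type u} {Q₂ : Type v} [Group Q₁] [Group Q₂] [Finite Q₁] [Finite Q₂] {A B : Type w} [CommGroup A] [CommGroup B] (hA : Cfsg.HasSchurMultiplier Q₁ A) (hB : Cfsg.HasSchurMultiplier Q₂ B) (hcop : Nat.Coprime (Nat.card (Abelianization Q₁)) (Nat.card (Abelianization Q₂))) : Cfsg.HasSchurMultiplier (Q₁ × Q₂) (A × B) := by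
  haveI : Subsingleton (TensorProduct ℤ (Additive (Abelianization Q₁)) (Additive (Abelianization Q₂))) := by
    have h0 : ∀ t : TensorProduct ℤ (Additive (Abelianization Q₁)) (Additive (Abelianization Q₂)), t = 0 := by
      intro t
      have h1 : Nat.card (Abelianization Q₁) • t = 0 := by
        induction t with
        | zero => simp
        | add a b ha hb => rw [nsmul_add, ha, hb, add_zero]
        | tmul a b =>
          rw [TensorProduct.smul_tmul', show Nat.card (Abelianization Q₁) • a = 0 from
            card_nsmul_eq_zero' (G := Additive (Abelianization Q₁)), TensorProduct.zero_tmul]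
      have h2 : Nat.card (Abelianization Q₂) • t = 0 := by
        clear h1
        induction t with
        | zero => simp
        | add a b ha hb => rw [nsmul_add, ha, hb, add_zero]
        | tmul a b =>
          rw [← TensorProduct.tmul_smul, show Nat.card (Abelianization Q₂) • b = 0 from
            card_nsmul_eq_zero' (G := Additive (Abelianization Q₂)), TensorProduct.tmul_zero]
      exact AddMonoid.addOrderOf_eq_one_iff.mp (Nat.dvd_one.mp (hcop.gcd_eq_one ▸
        Nat.dvd_gcd (addOrderOf_dvd_of_nsmul_eq_zero h1) (addOrderOf_dvd_of_nsmul_eq_zero h2)))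
    exact ⟨fun a b => (h0 a).trans (h0 b).symm⟩
  haveI : Subsingleton (Multiplicative (TensorProduct ℤ (Additive (Abelianization Q₁)) (Additive (Abelianization Q₂)))) :=
    inferInstanceAs (Subsingleton (TensorProduct ℤ (Additive (Abelianization Q₁)) (Additive (Abelianization Q₂))))
  refine CfsgLib.Schur.Basic.hasSchurMultiplier_congr (Cfsg.Agent.S3959.result hA hB) ?_
  exact
    { toFun := fun x => (x.1, x.2.1)
      invFun := fun x => (x.1, x.2, 1)
      left_inv := fun x => Prod.ext rfl (Prod.ext rfl (Subsingleton.elim _ _))
      right_inv := fun _ => rfl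
      map_mul' := fun _ _ => rfl }

end Cfsg.Agent.S3980
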