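import Cfsg.Statements.S3981
import Mathlib
import Cfsg.Agent.Lib.Coprime.Sylow

set_option autoImplicit false
open Cfsg

namespace Cfsg.Agent.S3981

/-- Let p be an odd prime, Q a p-subgroup of the finite group G and y an involution normalizing Q. Then Q is maximal among the p-subgroups of G normalized by y if and only if the image of y in N_G(Q) ⧸ Q neither inverts nor centralizes any element of order p there; the latter is phrased inside N_G(Q): for every x in N_G(Q) outside Q with x ^ p ∈ Q, neither y x y⁻¹ x nor y x y⁻¹ x⁻¹ lies in Q. -/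
theorem result {G : Type*} [Group G] [Finite G] (p : ℕ) [Fact p.Prime] (hp2 : p ≠ 2) (Q : Subgroup G) (hQ : IsPGroup p ↥Q) (y : G) (hy : orderOf y = 2) (hyQ : y ∈ Subgroup.normalizer (Q : Set G)) : (∀ R : Subgroup G, IsPGroup p ↥R → Q ≤ R → y ∈ Subgroup.normalizer (R : Set G) → R = Q) ↔ ∀ x : G, x ∈ Subgroup.normalizer (Q : Set G) → x ∉ Q → x ^ p ∈ Q → (y * x * y⁻¹ * x ∉ Q ∧ y * x * y⁻¹ * x⁻¹ ∉ Q) := by
  have hy2 : y * y = 1 := by rw [← pow_two, ← hy]; exact pow_orderOf_eq_one y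
  have hyi : y⁻¹ = y := inv_eq_of_mul_eq_one_right hy2
  constructor
  · intro hmax x hxN hxQ hxp
    set Z := Subgroup.zpowers x with hZ
    have hZN : Z ≤ Subgroup.normalizer (Q : Set G) := Subgroup.zpowers_le.mpr hxN
    have hsupN : Q ⊔ Z ≤ Subgroup.normalizer (Q : Set G) := sup_le Subgroup.le_normalizer hZN
    have hRp : IsPGroup p ↥(Q ⊔ Z) := by
      refine hQ.to_sup_of_normal_left' ?_ hZN
      obtain ⟨a, ha⟩ := hQ ⟨x ^ p, hxp⟩
      have hpow : x ^ p ^ (a + 1) = 1 := by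
        rw [pow_succ', pow_mul]
        simpa using congrArg Subtype.val ha
      obtain ⟨b, -, hb⟩ := (Nat.dvd_prime_pow Fact.out).mp (orderOf_dvd_of_pow_eq_one hpow)
      exact IsPGroup.iff_card.mpr ⟨b, by rw [hZ, Nat.card_zpowers, hb]⟩
    have hQR : Q ≤ Q ⊔ Z := le_sup_left
    have hxR : x ∈ Q ⊔ Z := Subgroup.mem_sup_right (Subgroup.mem_zpowers x)
    have key : y * x * y⁻¹ ∈ Q ⊔ Z → False := by
      intro hmem
      have hle : (Q ⊔ Z).map (MulAut.conj y).toMonoidHom ≤ Q ⊔ Z := by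
        rw [Subgroup.map_sup, sup_le_iff, hZ, MonoidHom.map_zpowers, Subgroup.zpowers_le]
        exact ⟨(Subgroup.mem_normalizer_iff_map_conj_eq.mp hyQ).le.trans hQR, hmem⟩
      have hnorm : y ∈ Subgroup.normalizer ((Q ⊔ Z : Subgroup G) : Set G) :=
        Subgroup.mem_normalizer_iff_map_conj_eq.mpr (Subgroup.eq_of_le_of_card_ge hle
          (CfsgLib.Coprime.card_conj_map _ _).ge)
      exact hxQ (hmax _ hRp hQR hnorm ▸ hxR)
    refine ⟨fun h => key ?_, fun h => key ?_⟩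
    · have := mul_mem (hQR h) (inv_mem hxR)
      rwa [mul_inv_cancel_right] at this
    · have := mul_mem (hQR h) hxR
      rwa [inv_mul_cancel_right] at this
  · intro h R hR hQR hyR
    by_contra hne
    have hlt := CfsgLib.Coprime.lt_normalizer_inf_of_lt hR (lt_of_le_of_ne hQR (Ne.symm hne))
    obtain ⟨x, hx, hxQ⟩ := SetLike.exists_of_lt hlt
    classical
    -- replace `x` by a power with `x ^ p ∈ Q`
    have hdown : ∀ w : G, w ∈ R ⊓ Subgroup.normalizer (Q : Set G) → w ∉ Q →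
        ∃ k : ℕ, w ^ p ^ k ∉ Q ∧ (w ^ p ^ k) ^ p ∈ Q := by
      intro w hw hwQ
      have hex : ∃ j : ℕ, w ^ p ^ j ∈ Q := by
        obtain ⟨j, hj⟩ := hR ⟨w, (Subgroup.mem_inf.mp hw).1⟩
        refine ⟨j, ?_⟩
        rw [show w ^ p ^ j = 1 by simpa using congrArg Subtype.val hj]
        exact Q.one_mem
      obtain ⟨k, hk⟩ : ∃ k, Nat.find hex = k + 1 := by
        refine ⟨Nat.find hex - 1, (Nat.succ_pred_eq_of_pos ((Nat.find_pos hex).mpr ?_)).symm⟩
        simpa using hwQ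
      refine ⟨k, Nat.find_min hex (by omega), ?_⟩
      rw [← pow_mul, ← pow_succ, ← hk]
      exact Nat.find_spec hex
    obtain ⟨k, hk1, hk2⟩ := hdown x hx hxQ
    set x₁ := x ^ p ^ k
    have hx1 : x₁ ∈ R ⊓ Subgroup.normalizer (Q : Set G) := pow_mem hx _
    obtain ⟨hnot, hnot'⟩ := h x₁ (Subgroup.mem_inf.mp hx1).2 hk1 hk2
    set w := x₁⁻¹ * (y * x₁ * y⁻¹) with hw
    have hyx : y * x₁ * y⁻¹ ∈ R ⊓ Subgroup.normalizer (Q : Set G) :=
      ⟨(Subgroup.mem_normalizer_iff.mp hyR x₁).mp (Subgroup.mem_inf.mp hx1).1,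
        Subgroup.mul_mem _ (Subgroup.mul_mem _ hyQ (Subgroup.mem_inf.mp hx1).2) (Subgroup.inv_mem _ hyQ)⟩
    have hwR : w ∈ R ⊓ Subgroup.normalizer (Q : Set G) := mul_mem (inv_mem hx1) hyx
    have hwQ : w ∉ Q := fun hwQ => hnot' (by
      have h1 : x₁ * w * x₁⁻¹ ∈ Q :=
        (Subgroup.mem_normalizer_iff.mp (Subgroup.mem_inf.mp hx1).2 w).mp hwQ
      rwa [hw, mul_inv_cancel_left] at h1)
    have hyw : y * w * y⁻¹ = w⁻¹ := by
      rw [hw, hyi, mul_inv_rev, inv_inv]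
      simp only [mul_inv_rev, hyi, mul_assoc]
      simp [hy2]
    obtain ⟨j, hj1, hj2⟩ := hdown w hwR hwQ
    obtain ⟨hv, -⟩ := h (w ^ p ^ j) (Subgroup.mem_inf.mp (pow_mem hwR _)).2 hj1 hj2
    apply hv
    rw [← conj_pow, hyw, inv_pow, inv_mul_cancel]
    exact Q.one_mem

end Cfsg.Agent.S3981
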