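import Cfsg.Statements.S3982
import Mathlib
import Cfsg.Agent.Lib.Coprime.Sylow

set_option autoImplicit false
open Cfsg
open scoped Pointwise

namespace Cfsg.Agent.S3982

/-- Let p be an odd prime and G a finite group of even order divisible by p in which the centralizer of every non-identity p-element has odd order. If some nontrivial p-subgroup of G has a normalizer of even order, then the normalizer of every Sylow p-subgroup of G has even order. -/
theorem result {G : Type*} [Group G] [Finite G] (p : ℕ) [Fact p.Prime] (hp2 : p ≠ 2) (hpG : p ∣ Nat.card G) (h2G : 2 ∣ Nat.card G) (hC : ∀ g : G, g ≠ 1 → (∃ k : ℕ, orderOf g = p ^ k) → Odd (Nat.card ↥(Subgroup.centralizer ({g} : Set G)))) (Q : Subgroup G) (hQ : IsPGroup p ↥Q) (hQ1 : Q ≠ ⊥) (hev : Even (Nat.card ↥(Subgroup.normalizer (Q : Set G)))) (P : Sylow p G) : Even (Nat.card ↥(Subgroup.normalizer ((P : Subgroup G) : Set G))) := by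
  classical
  haveI : Fact (Nat.Prime 2) := ⟨Nat.prime_two⟩
  obtain ⟨⟨t, htN⟩, ht⟩ := exists_prime_orderOf_dvd_card'
    (G := ↥(Subgroup.normalizer (Q : Set G))) 2 (even_iff_two_dvd.mp hev)
  rw [Subgroup.orderOf_mk] at ht
  have ht2 : t * t = 1 := by rw [← pow_two, ← ht]; exact pow_orderOf_eq_one t
  have hti : t⁻¹ = t := inv_eq_of_mul_eq_one_right ht2
  -- the centraliser of `t` has order prime to `p`
  have hCt : ∀ g : G, Commute g t → ¬ p ∣ orderOf g := by
    intro g hgt hdvd
    have hg' : orderOf (g ^ (orderOf g / p)) = p :=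
      orderOf_pow_orderOf_div (orderOf_pos g).ne' hdvd
    have hne : g ^ (orderOf g / p) ≠ 1 := fun e => by
      rw [e, orderOf_one] at hg'; exact (Fact.out : p.Prime).ne_one hg'.symm
    have hodd := hC _ hne ⟨1, by rw [hg', pow_one]⟩
    have htmem : t ∈ Subgroup.centralizer ({g ^ (orderOf g / p)} : Set G) :=
      Subgroup.mem_centralizer_singleton_iff.mpr (hgt.pow_left _).eq.symm
    exact (Nat.not_even_iff_odd.mpr hodd)
      (even_iff_two_dvd.mpr (ht ▸ Subgroup.orderOf_dvd_natCard _ htmem))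
  obtain ⟨R, hQR, hR⟩ := Finite.exists_le_maximal
    (p := fun R : Subgroup G => IsPGroup p ↥R ∧ t ∈ Subgroup.normalizer (R : Set G)) ⟨hQ, htN⟩
  obtain ⟨hRp, htR⟩ := hR.prop
  obtain ⟨⟨r, hr⟩, hr1⟩ := Subgroup.ne_bot_iff_exists_ne_one.mp
    (fun e => hQ1 (le_bot_iff.mp (e ▸ hQR)) : R ≠ ⊥)
  -- `t` inverts `R`
  have hinv : ∀ x ∈ R, t * x * t⁻¹ = x⁻¹ := by
    let φ : R →* R := MonoidHom.mk'
      (fun x => ⟨t * x * t⁻¹, (Subgroup.mem_normalizer_iff.mp htR x).mp x.2⟩)
      fun a b => Subtype.ext (by simp [mul_assoc])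
    have hfix : MonoidHom.FixedPointFree φ := by
      intro x hx
      by_contra hne
      have hcomm : Commute (x : G) t :=
        (mul_inv_eq_iff_eq_mul.mp (congrArg Subtype.val hx)).symm
      obtain ⟨a, ha⟩ := IsPGroup.iff_orderOf.mp hRp x
      refine hCt _ hcomm ?_
      rw [Subgroup.orderOf_coe, ha]
      refine dvd_pow_self p fun a0 => hne ?_
      rw [a0, pow_zero, orderOf_eq_one_iff] at ha
      exact ha
    have hinvol : Function.Involutive φ := fun x => Subtype.ext (by
      show t * (t * x * t⁻¹) * t⁻¹ = x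
      simp only [hti, mul_assoc]
      rw [← mul_assoc t t, ht2, one_mul, mul_one])
    intro x hx
    exact congrArg Subtype.val (congrFun (hfix.coe_eq_inv_of_involutive hinvol) ⟨x, hx⟩)
  have hRab : ∀ a ∈ R, ∀ b ∈ R, a * b = b * a := fun a ha b hb => by
    have h := hinv _ (mul_mem ha hb)
    rw [← conj_mul, hinv a ha, hinv b hb, mul_inv_rev] at h
    have := congrArg (fun z => z⁻¹) h
    simpa using this.symm
  set C := Subgroup.centralizer (R : Set G) with hCdef
  set H := Subgroup.normalizer (R : Set G) with hH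
  have hCH : C ≤ H := Subgroup.centralizer_le_normalizer _
  have hRC : R ≤ C := fun a ha => Subgroup.mem_centralizer_iff.mpr fun b hb => hRab b hb a ha
  have hCodd : Odd (Nat.card C) := by
    obtain ⟨a, ha⟩ := IsPGroup.iff_orderOf.mp hRp ⟨r, hr⟩
    refine (hC r (fun e => hr1 (Subtype.ext e))
      ⟨a, by rw [← ha, Subgroup.orderOf_mk]⟩).of_dvd_nat (Subgroup.card_dvd_of_le ?_)
    exact Subgroup.centralizer_le (Set.singleton_subset_iff.mpr hr)
  have hconjC : ∀ h ∈ H, ∀ c ∈ C, h * c * h⁻¹ ∈ C := fun h hh c hc =>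
    Subgroup.mem_centralizer_iff.mpr fun a ha => by
      have ha' : h⁻¹ * a * h ∈ R := by
        simpa using (Subgroup.mem_normalizer_iff.mp (inv_mem hh) a).mp ha
      have := Subgroup.mem_centralizer_iff.mp hc _ ha'
      calc a * (h * c * h⁻¹) = h * (h⁻¹ * a * h * c) * h⁻¹ := by group
        _ = h * (c * (h⁻¹ * a * h)) * h⁻¹ := by rw [this]
        _ = _ := by group
  haveI hCn : (C.subgroupOf H).Normal := ⟨fun c hc h => hconjC h h.2 c hc⟩
  -- `R` is a Sylow subgroup of `C`
  have hRC' : ¬ p ∣ R.relIndex C := by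
    have hA : Subgroup.zpowers t ≤ Subgroup.normalizer (C : Set G) :=
      Subgroup.zpowers_le.mpr ((Subgroup.mem_normalizer_iff_map_conj_eq).mpr
        (Subgroup.eq_of_le_of_card_ge (by rintro _ ⟨c, hc, rfl⟩; exact hconjC t htR c hc)
          (CfsgLib.Coprime.card_conj_map _ _).ge))
    have hcop : (Nat.card (Subgroup.zpowers t)).Coprime (Nat.card C) := by
      rw [Nat.card_zpowers, ht]; exact Nat.coprime_two_left.mpr hCodd
    obtain ⟨P₀, hRP₀, htP₀⟩ := CfsgLib.Coprime.exists_le_invariant_sylow hA hcop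
      (Or.inl (CfsgLib.Coprime.isSolvable_zpowers t)) hRC hRp (Subgroup.zpowers_le.mpr htR)
    have heq : (P₀ : Subgroup C).map C.subtype = R := le_antisymm
      (hR.le_of_ge ⟨P₀.isPGroup'.map _, htP₀ (Subgroup.mem_zpowers t)⟩ hRP₀) hRP₀
    rw [← heq, Subgroup.relIndex, Subgroup.subgroupOf,
      Subgroup.comap_map_eq_self_of_injective C.subtype_injective]
    exact P₀.not_dvd_index
  -- `C` has index prime to `p` in its normaliser
  have hCH' : ¬ p ∣ C.relIndex H := by
    intro hdvd
    obtain ⟨z, hz⟩ := exists_prime_orderOf_dvd_card' (G := H ⧸ C.subgroupOf H) p hdvd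
    obtain ⟨⟨x, hx⟩, rfl⟩ := QuotientGroup.mk_surjective z
    have hxp : x ^ p ∈ C := by
      have h1 := pow_orderOf_eq_one (QuotientGroup.mk (⟨x, hx⟩ : H) : H ⧸ C.subgroupOf H)
      rw [hz, ← QuotientGroup.mk_pow, QuotientGroup.eq_one_iff] at h1
      exact h1
    have hxC : x ∈ C := by
      set s := x * t * x⁻¹ with hs
      have hsinv : ∀ a ∈ R, s * a * s⁻¹ = a⁻¹ := fun a ha => by
        have ha' : x⁻¹ * a * x ∈ R := by
          simpa using (Subgroup.mem_normalizer_iff.mp (inv_mem hx) a).mp ha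
        calc s * a * s⁻¹ = x * (t * (x⁻¹ * a * x) * t⁻¹) * x⁻¹ := by rw [hs]; group
          _ = a⁻¹ := by rw [hinv _ ha']; group
      set u := t * s with hu
      have huC : u ∈ C := Subgroup.mem_centralizer_iff.mpr fun a ha => by
        have h1 : u * a * u⁻¹ = a := by
          calc u * a * u⁻¹ = t * (s * a * s⁻¹) * t⁻¹ := by rw [hu]; group
            _ = a := by rw [hsinv a ha, hinv _ (inv_mem ha), inv_inv]
        exact (mul_inv_eq_iff_eq_mul.mp h1).symm
      obtain ⟨m, hm⟩ : Odd (orderOf u) :=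
        hCodd.of_dvd_nat (Subgroup.orderOf_dvd_natCard _ huC)
      set v := u ^ (m + 1) with hv
      have hv2 : v * v = u := by
        rw [hv, ← pow_add, show m + 1 + (m + 1) = orderOf u + 1 by omega, pow_succ,
          pow_orderOf_eq_one, one_mul]
      have hs2 : s⁻¹ = s := by rw [hs, mul_inv_rev, mul_inv_rev, inv_inv, hti, mul_assoc]
      have htu : t * u * t⁻¹ = u⁻¹ := by
        rw [hu, mul_inv_rev, hs2, ← mul_assoc, ht2, one_mul]
      have htv : t * v * t⁻¹ = v⁻¹ := by rw [hv, ← conj_pow, htu, inv_pow]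
      have hvs : v * s * v⁻¹ = t := by
        have h1 : s = t * (v * v) := by rw [hv2, hu, ← mul_assoc, ht2, one_mul]
        calc v * s * v⁻¹ = v * (t * v * t⁻¹) * t := by rw [h1]; group
          _ = t := by rw [htv, mul_inv_cancel, one_mul]
      have hw : Commute (v * x) t := by
        refine mul_inv_eq_iff_eq_mul.mp ?_
        calc v * x * t * (v * x)⁻¹ = v * s * v⁻¹ := by rw [hs]; group
          _ = t := hvs
      have hvC : v ∈ C := pow_mem huC _
      have hwp : (v * x) ^ p ∈ C := by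
        have hvH : v * x ∈ H := mul_mem (hCH hvC) hx
        have h1 : ((⟨v * x, hvH⟩ : H) : H ⧸ C.subgroupOf H) ^ p = 1 := by
          rw [show (⟨v * x, hvH⟩ : H) = ⟨v, hCH hvC⟩ * ⟨x, hx⟩ from rfl, QuotientGroup.mk_mul,
            (QuotientGroup.eq_one_iff _).mpr (show (⟨v, hCH hvC⟩ : H) ∈ C.subgroupOf H from hvC),
            one_mul, ← QuotientGroup.mk_pow, QuotientGroup.eq_one_iff]
          exact hxp
        rw [← QuotientGroup.mk_pow, QuotientGroup.eq_one_iff] at h1
        exact h1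
      obtain ⟨k, hk⟩ := exists_pow_eq_self_of_coprime (x := v * x) (n := p)
        ((Fact.out : p.Prime).coprime_iff_not_dvd.mpr (hCt _ hw))
      have hvxC : v * x ∈ C := hk ▸ pow_mem hwp k
      have := mul_mem (inv_mem hvC) hvxC
      rwa [inv_mul_cancel_left] at this
    rw [(QuotientGroup.eq_one_iff _).mpr (show (⟨x, hx⟩ : H) ∈ C.subgroupOf H from hxC),
      orderOf_one] at hz
    exact (Fact.out : p.Prime).ne_one hz.symm
  -- hence `R` is a Sylow subgroup of `G`
  obtain ⟨S, hS⟩ := hRp.exists_le_sylow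
  have hRS : R = S := by
    by_contra hne
    have hlt := CfsgLib.Coprime.lt_normalizer_inf_of_lt S.isPGroup' (lt_of_le_of_ne hS hne)
    have h1 : R.relIndex ((S : Subgroup G) ⊓ H) ∣ R.relIndex H := by
      rw [← Subgroup.relIndex_mul_relIndex R C H hRC hCH]
      rw [Subgroup.relIndex_mul_relIndex R C H hRC hCH,
        ← Subgroup.relIndex_mul_relIndex R _ H hlt.le inf_le_right]
      exact dvd_mul_right _ _
    obtain ⟨a, ha⟩ := IsPGroup.iff_card.mp
      (S.isPGroup'.to_le (inf_le_left : (S : Subgroup G) ⊓ H ≤ S))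
    obtain ⟨b, -, hb⟩ := (Nat.dvd_prime_pow Fact.out).mp
      (ha ▸ Subgroup.index_dvd_card (R.subgroupOf ((S : Subgroup G) ⊓ H)) :
        R.relIndex ((S : Subgroup G) ⊓ H) ∣ p ^ a)
    rcases b with _ | b
    · exact hlt.not_ge (Subgroup.relIndex_eq_one.mp (by rw [hb, pow_zero]))
    · refine ((Fact.out : p.Prime).dvd_mul.mp ?_).elim hRC' hCH'
      rw [Subgroup.relIndex_mul_relIndex R C H hRC hCH]
      exact ((hb ▸ dvd_pow_self p (by omega) : p ∣ R.relIndex ((S : Subgroup G) ⊓ H))).trans h1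
  obtain ⟨g, hg⟩ := MulAction.exists_smul_eq G S P
  have htg : g * t * g⁻¹ ∈ Subgroup.normalizer ((P : Subgroup G) : Set G) := by
    refine Sylow.smul_eq_iff_mem_normalizer.mp ?_
    rw [← hg, smul_smul, inv_mul_cancel_right, ← smul_smul]
    congr 1
    exact Sylow.smul_eq_iff_mem_normalizer.mpr (by rw [hH, hRS] at htR; exact htR)
  have hto : orderOf (g * t * g⁻¹) = 2 := by
    rw [← ht]
    exact orderOf_injective (MulAut.conj g).toMonoidHom (MulAut.conj g).injective t
  exact even_iff_two_dvd.mpr (hto ▸ Subgroup.orderOf_dvd_natCard _ htg)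

end Cfsg.Agent.S3982
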