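import Cfsg.Statements.S3983
import Cfsg.Agent.Lib.Frobenius.Elements

set_option autoImplicit false
open scoped Pointwise
open Cfsg
open scoped Pointwise

namespace Cfsg.Agent.S3983

/-- Let P be a Sylow p-subgroup of the finite group G that meets each conjugate g P g⁻¹ with g outside N_G(P) trivially, and let U be a subgroup of G of order divisible by p. Then a Sylow p-subgroup Q of U has the same property inside U: Q meets each conjugate u Q u⁻¹ with u ∈ U outside N_U(Q) trivially. -/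
theorem result {G : Type*} [Group G] [Finite G] (p : ℕ) [Fact p.Prime] (P : Sylow p G) (hTI : ∀ g : G, g ∉ Subgroup.normalizer ((P : Subgroup G) : Set G) → (P : Subgroup G) ⊓ (MulAut.conj g • (P : Subgroup G)) = ⊥) (U : Subgroup G) (hU : p ∣ Nat.card ↥U) (Q : Sylow p ↥U) : ∀ u : ↥U, u ∉ Subgroup.normalizer ((Q : Subgroup ↥U) : Set ↥U) → (Q : Subgroup ↥U) ⊓ (MulAut.conj u • (Q : Subgroup ↥U)) = ⊥ := by
  intro u hu
  by_contra hne
  apply hu
  obtain ⟨⟨z, hz⟩, hz1'⟩ := Subgroup.ne_bot_iff_exists_ne_one.mp hne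
  have hz1 : z ≠ 1 := fun h => hz1' (Subtype.ext h)
  obtain ⟨hzQ, hzQ'⟩ := Subgroup.mem_inf.mp hz
  rw [← Sylow.coe_subgroup_smul] at hzQ'
  obtain ⟨S, hS⟩ := (Q.isPGroup'.map U.subtype).exists_le_sylow
  obtain ⟨T, hT⟩ := ((u • Q).isPGroup'.map U.subtype).exists_le_sylow
  have hST : S = T := CfsgLib.Frobenius.Elements.sylow_eq_of_mem P hTI
    (hS ⟨z, hzQ, rfl⟩) (hT ⟨z, hzQ', rfl⟩) (fun h => hz1 (Subtype.ext h))
  have hR : IsPGroup p ↥((S : Subgroup G).comap U.subtype) :=
    S.isPGroup'.comap_of_injective U.subtype U.subtype_injective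
  have h1 : (S : Subgroup G).comap U.subtype = (Q : Subgroup ↥U) :=
    Q.is_maximal' hR (Subgroup.map_le_iff_le_comap.mp hS)
  have h2 : (S : Subgroup G).comap U.subtype = ((u • Q : Sylow p ↥U) : Subgroup ↥U) :=
    (u • Q).is_maximal' hR (Subgroup.map_le_iff_le_comap.mp (hST ▸ hT))
  exact Sylow.smul_eq_iff_mem_normalizer.mp (Sylow.ext (h2.symm.trans h1))

end Cfsg.Agent.S3983
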