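import Cfsg.Statements.S3984
import Cfsg.Agent.Lib.Frobenius.Elements

set_option autoImplicit false
open scoped Pointwise
open Cfsg
open scoped Pointwise

namespace Cfsg.Agent.S3984

/-- Let P be a Sylow p-subgroup of the finite group G that meets each conjugate g P g⁻¹ with g outside N_G(P) trivially, and let N be a normal subgroup of G of order prime to p. Then every Sylow p-subgroup Q of G ⧸ N meets each conjugate x Q x⁻¹ with x outside its normalizer trivially. -/
theorem result {G : Type*} [Group G] [Finite G] (p : ℕ) [Fact p.Prime] (P : Sylow p G) (hTI : ∀ g : G, g ∉ Subgroup.normalizer ((P : Subgroup G) : Set G) → (P : Subgroup G) ⊓ (MulAut.conj g • (P : Subgroup G)) = ⊥) (N : Subgroup G) [N.Normal] (hN : (Nat.card ↥N).Coprime p) (Q : Sylow p (G ⧸ N)) : ∀ x : G ⧸ N, x ∉ Subgroup.normalizer ((Q : Subgroup (G ⧸ N)) : Set (G ⧸ N)) → (Q : Subgroup (G ⧸ N)) ⊓ (MulAut.conj x • (Q : Subgroup (G ⧸ N))) = ⊥ := by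
  intro x hx
  by_contra hne
  apply hx
  set φ := QuotientGroup.mk' N with hφ
  have hsurj : Function.Surjective φ := QuotientGroup.mk'_surjective N
  -- every Sylow subgroup of the quotient containing the image of a `p`-group `T` lifts over `T`
  have hlift : ∀ (R : Sylow p (G ⧸ N)) (T : Subgroup G), IsPGroup p T →
      T.map φ ≤ (R : Subgroup (G ⧸ N)) → ∃ S : Sylow p G, T ≤ (S : Subgroup G) ∧
        (S : Subgroup G).map φ = (R : Subgroup (G ⧸ N)) := by
    intro R T hT hTR
    set H : Subgroup G := (R : Subgroup (G ⧸ N)).comap φ with hH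
    have hTH : T ≤ H := Subgroup.map_le_iff_le_comap.mp hTR
    obtain ⟨V, hV⟩ := (hT.of_equiv (Subgroup.subgroupOfEquivOfLe hTH).symm).exists_le_sylow
    have hVle : (V : Subgroup H).map H.subtype ≤ H := Subgroup.map_subtype_le _
    have hVidx : ¬ p ∣ ((V : Subgroup H).map H.subtype).index := by
      have hHi : H.index = (R : Subgroup (G ⧸ N)).index :=
        Subgroup.index_comap_of_surjective _ hsurj
      rw [← Subgroup.relIndex_mul_index hVle, Subgroup.relIndex, Subgroup.subgroupOf,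
        Subgroup.comap_map_eq_self_of_injective H.subtype_injective, hHi]
      exact fun h => ((Fact.out : p.Prime).dvd_mul.mp h).elim V.not_dvd_index R.not_dvd_index
    refine ⟨(V.isPGroup'.map H.subtype).toSylow hVidx, ?_, ?_⟩
    · intro t ht
      exact ⟨⟨t, hTH ht⟩, hV ht, rfl⟩
    · refine (Sylow.is_maximal' (((V.isPGroup'.map H.subtype).toSylow hVidx).mapSurjective hsurj)
        R.isPGroup' ?_).symm
      exact Subgroup.map_le_iff_le_comap.mpr hVle
  obtain ⟨⟨z, hz⟩, hz1'⟩ := Subgroup.ne_bot_iff_exists_ne_one.mp hne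
  have hz1 : z ≠ 1 := fun h => hz1' (Subtype.ext h)
  obtain ⟨hzQ, hzQ'⟩ := Subgroup.mem_inf.mp hz
  rw [← Sylow.coe_subgroup_smul] at hzQ'
  obtain ⟨S, -, hS⟩ := hlift Q ⊥ IsPGroup.of_bot (by simp)
  obtain ⟨s, hs, hsz⟩ : z ∈ (S : Subgroup G).map φ := hS ▸ hzQ
  have hTp : IsPGroup p ↥(Subgroup.zpowers s) := S.isPGroup'.to_le (Subgroup.zpowers_le.mpr hs)
  have hTle : (Subgroup.zpowers s).map φ ≤ ((x • Q : Sylow p (G ⧸ N)) : Subgroup (G ⧸ N)) := by
    rw [MonoidHom.map_zpowers, hsz]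
    exact Subgroup.zpowers_le.mpr hzQ'
  obtain ⟨T, hT, hT'⟩ := hlift (x • Q) _ hTp hTle
  have hs1 : s ≠ 1 := fun h => hz1 (by rw [← hsz, h, map_one])
  have hST : S = T := CfsgLib.Frobenius.Elements.sylow_eq_of_mem P hTI hs
    (hT (Subgroup.mem_zpowers s)) hs1
  exact Sylow.smul_eq_iff_mem_normalizer.mp (Sylow.ext (hT'.symm.trans (hST ▸ hS)))

end Cfsg.Agent.S3984
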