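import Cfsg.Statements.S3985
import Cfsg.Agent.Lib.Frobenius.Elements

set_option autoImplicit false
open scoped Pointwise
open Cfsg
open scoped Pointwise

namespace Cfsg.Agent.S3985

/-- Let P be a cyclic Sylow p-subgroup of the finite group G. Then P meets each conjugate g P g⁻¹ with g outside N_G(P) trivially if and only if P is weakly self-centralizing: C_G(x) = C_G(P) for every non-identity x ∈ P. -/
theorem result {G : Type*} [Group G] [Finite G] (p : ℕ) [Fact p.Prime] (P : Sylow p G) (hcyc : IsCyclic ↥(P : Subgroup G)) : (∀ g : G, g ∉ Subgroup.normalizer ((P : Subgroup G) : Set G) → (P : Subgroup G) ⊓ (MulAut.conj g • (P : Subgroup G)) = ⊥) ↔ ∀ x : G, x ∈ (P : Subgroup G) → x ≠ 1 → Subgroup.centralizer ({x} : Set G) = Subgroup.centralizer ((P : Subgroup G) : Set G) := by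
  haveI := hcyc
  have hPc : (P : Subgroup G) ≤ Subgroup.centralizer ((P : Subgroup G) : Set G) := fun a ha =>
    Subgroup.mem_centralizer_iff.mpr fun b hb =>
      congrArg Subtype.val (mul_comm' (⟨b, hb⟩ : (P : Subgroup G)) ⟨a, ha⟩)
  constructor
  · intro hTI x hx hx1
    refine le_antisymm (fun c hc => ?_) (fun c hc => Subgroup.mem_centralizer_singleton_iff.mpr
      ((Subgroup.mem_centralizer_iff.mp hc x hx).symm))
    have hcx : c * x * c⁻¹ = x := by
      rw [Subgroup.mem_centralizer_singleton_iff.mp hc, mul_inv_cancel_right]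
    have hcN : c ∈ Subgroup.normalizer ((P : Subgroup G) : Set G) := by
      by_contra hn
      have hmem : x ∈ (P : Subgroup G) ⊓ MulAut.conj c • (P : Subgroup G) :=
        ⟨hx, ⟨x, hx, hcx⟩⟩
      rw [hTI c hn, Subgroup.mem_bot] at hmem
      exact hx1 hmem
    obtain ⟨⟨a, ha⟩, hgen⟩ := IsCyclic.exists_generator (α := ↥(P : Subgroup G))
    have hall : ∀ b ∈ (P : Subgroup G), ∃ i : ℤ, a ^ i = b := fun b hb => by
      obtain ⟨i, hi⟩ := hgen ⟨b, hb⟩
      exact ⟨i, congrArg Subtype.val hi⟩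
    obtain ⟨k, hk⟩ := hall (c * a * c⁻¹) ((Subgroup.mem_normalizer_iff.mp hcN a).mp ha)
    obtain ⟨n, hn⟩ : ∃ n, orderOf a = p ^ n := by
      obtain ⟨n, hn⟩ := IsPGroup.iff_orderOf.mp P.isPGroup' ⟨a, ha⟩
      exact ⟨n, by rw [← hn, Subgroup.orderOf_mk]⟩
    obtain ⟨i, hi⟩ := hall x hx
    have hki : ((p : ℤ) ^ n) ∣ (k - 1) * i := by
      have h1 : a ^ (k * i) = a ^ i := by
        rw [zpow_mul, hk, conj_zpow, hi, hcx]
      have h2 : a ^ ((k - 1) * i) = 1 := by
        rw [sub_mul, one_mul, zpow_sub, h1, mul_inv_cancel]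
      have h3 := orderOf_dvd_iff_zpow_eq_one.mpr h2
      rw [hn] at h3; exact_mod_cast h3
    have hp1 : (p : ℤ) ∣ k - 1 := by
      by_contra hnd
      have hcop : IsCoprime ((p : ℤ) ^ n) (k - 1) :=
        ((Nat.prime_iff_prime_int.mp Fact.out).coprime_iff_not_dvd.mpr hnd).pow_left
      have : a ^ i = 1 := orderOf_dvd_iff_zpow_eq_one.mp (by
        rw [hn]; exact_mod_cast hcop.dvd_of_dvd_mul_left hki)
      exact hx1 (hi ▸ this)
    have hiter : ∀ j : ℕ, c ^ j * a * (c ^ j)⁻¹ = a ^ (k ^ j) := by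
      intro j
      induction j with
      | zero => simp
      | succ j ih =>
        rw [pow_succ' k, zpow_mul, hk, conj_zpow, ← ih, pow_succ' c]
        group
    set C := Subgroup.centralizer ((P : Subgroup G) : Set G) with hC
    have h1 : c ^ p ^ n ∈ C := by
      have hpk : a ^ (k ^ p ^ n) = a := by
        have h3 : (p : ℤ) ^ (n + 1) ∣ k ^ p ^ n - 1 ^ p ^ n := dvd_sub_pow_of_dvd_sub hp1 n
        rw [one_pow] at h3
        have h4 : a ^ (k ^ p ^ n - 1) = 1 := orderOf_dvd_iff_zpow_eq_one.mp (by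
          rw [hn]; push_cast; exact (pow_dvd_pow _ (Nat.le_succ n)).trans h3)
        rwa [zpow_sub, zpow_one, mul_inv_eq_one] at h4
      refine Subgroup.mem_centralizer_iff.mpr fun b hb => ?_
      obtain ⟨j, rfl⟩ := hall b hb
      have h5 : c ^ p ^ n * a ^ j * (c ^ p ^ n)⁻¹ = a ^ j := by
        rw [← conj_zpow, hiter, hpk]
      exact (mul_inv_eq_iff_eq_mul.mp h5).symm
    set N := Subgroup.normalizer ((P : Subgroup G) : Set G)
    have h2 : c ^ (P : Subgroup G).relIndex N ∈ C := by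
      refine hPc ?_
      have := Subgroup.pow_index_mem ((P : Subgroup G).subgroupOf N) (⟨c, hcN⟩ : N)
      simpa [Subgroup.mem_subgroupOf, Subgroup.relIndex] using this
    have hcop : Nat.Coprime (p ^ n) ((P : Subgroup G).relIndex N) :=
      (((Fact.out : p.Prime).coprime_iff_not_dvd.mpr fun h => P.not_dvd_index
        (h.trans (Subgroup.relIndex_dvd_index_of_le Subgroup.le_normalizer)))).pow_left n
    have e := Nat.gcd_eq_gcd_ab (p ^ n) ((P : Subgroup G).relIndex N)
    rw [hcop] at e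
    have : c ^ ((1 : ℕ) : ℤ) ∈ C := by
      rw [e, zpow_add, zpow_mul, zpow_mul, zpow_natCast, zpow_natCast]
      exact mul_mem (zpow_mem h1 _) (zpow_mem h2 _)
    simpa using this
  · intro hC g hg
    by_contra hne
    apply hg
    obtain ⟨⟨z, hz⟩, hz1'⟩ := Subgroup.ne_bot_iff_exists_ne_one.mp hne
    have hz1 : z ≠ 1 := fun h => hz1' (Subtype.ext h)
    obtain ⟨hzP, hzg⟩ := Subgroup.mem_inf.mp hz
    obtain ⟨w, hw, rfl⟩ := hzg
    have hw1 : w ≠ 1 := fun h => hz1 (by rw [h]; exact map_one _)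
    have hle : ∀ b ∈ (P : Subgroup G),
        g * b * g⁻¹ ∈ Subgroup.centralizer ((P : Subgroup G) : Set G) := by
      intro b hb
      rw [← hC _ hzP hz1, Subgroup.mem_centralizer_singleton_iff]
      have h : b * w = w * b := Subgroup.mem_centralizer_singleton_iff.mp
        ((hC w hw hw1).symm ▸ hPc hb)
      show g * b * g⁻¹ * (g * w * g⁻¹) = g * w * g⁻¹ * (g * b * g⁻¹)
      calc g * b * g⁻¹ * (g * w * g⁻¹) = g * (b * w) * g⁻¹ := by group
        _ = g * (w * b) * g⁻¹ := by rw [h]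
        _ = _ := by group
    have hMP : (P : Subgroup G) ⊔ ((g • P : Sylow p G) : Subgroup G) = (P : Subgroup G) := by
      refine P.is_maximal' ?_ le_sup_left
      refine P.isPGroup'.to_sup_of_normal_left' (g • P).isPGroup' ?_
      rw [Sylow.coe_subgroup_smul]
      rintro _ ⟨b, hb, rfl⟩
      exact Subgroup.centralizer_le_normalizer _ (hle b hb)
    exact Sylow.smul_eq_iff_mem_normalizer.mp
      (Sylow.ext ((g • P).is_maximal' P.isPGroup' (hMP ▸ le_sup_right)).symm)

end Cfsg.Agent.S3985
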