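import Cfsg.Statements.S3987
import Cfsg.Agent.S3986

set_option autoImplicit false
open Cfsg
open scoped Pointwise

namespace Cfsg.Agent.S3987

/-- Let p be a prime and G a finite group. Then some Sylow p-subgroup of G is a direct factor of G (normal with a normal complement) if and only if for every element x of p-power order and every element y whose order is a power of a prime other than p, the conjugacy class of x y has as many elements as the product of the sizes of the classes of x and of y. -/
theorem result {G : Type*} [Group G] [Finite G] (p : ℕ) [Fact p.Prime] : (∃ (P : Sylow p G) (K : Subgroup G), (P : Subgroup G).Normal ∧ K.Normal ∧ (P : Subgroup G) ⊓ K = ⊥ ∧ (P : Subgroup G) ⊔ K = ⊤) ↔ ∀ x y : G, (∃ a : ℕ, orderOf x = p ^ a) → (∃ q b : ℕ, q.Prime ∧ q ≠ p ∧ orderOf y = q ^ b) → (Subgroup.centralizer ({x * y} : Set G)).index = (Subgroup.centralizer ({x} : Set G)).index * (Subgroup.centralizer ({y} : Set G)).index := by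
  constructor
  · intro hdp x y hx hy
    have hc : Commute x y := (Cfsg.Agent.S3986.result p).mp hdp x y hx hy
    obtain ⟨P, K, hPn, hKn, hinf, hsup⟩ := hdp
    have hcomm : ∀ u ∈ (P : Subgroup G), ∀ v ∈ K, Commute u v := fun u hu v hv =>
      Subgroup.commute_of_normal_of_disjoint (P : Subgroup G) K hPn hKn (disjoint_iff.mpr hinf)
        u v hu hv
    obtain ⟨a, hxo⟩ := hx
    obtain ⟨q, b, hq, hqp, hyo⟩ := hy
    have hxP : x ∈ (P : Subgroup G) :=
      by
        obtain ⟨S, hS⟩ := (IsPGroup.iff_card.mpr ⟨a, by rw [Nat.card_zpowers, hxo]⟩ :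
          IsPGroup p ↥(Subgroup.zpowers x)).exists_le_sylow
        haveI := Sylow.unique_of_normal P hPn
        exact Subsingleton.elim S P ▸ hS (Subgroup.mem_zpowers x)
    have hidx : K.index = Nat.card (P : Subgroup G) :=
      (Subgroup.isComplement'_of_disjoint_and_mul_eq_univ (disjoint_iff.mpr hinf) (by
        rw [← Subgroup.normal_mul, hsup, Subgroup.coe_top])).index_eq_card
    obtain ⟨e, he⟩ := IsPGroup.iff_card.mp P.isPGroup'
    have hyK : y ∈ K := (QuotientGroup.eq_one_iff y).mp (orderOf_eq_one_iff.mp
      (Nat.eq_one_of_dvd_coprimes (((Nat.coprime_primes hq Fact.out).mpr hqp).pow b e)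
        (hyo ▸ orderOf_map_dvd (QuotientGroup.mk' K) y)
        (he ▸ hidx ▸ orderOf_dvd_natCard _)))
    have hcop : (orderOf x).Coprime (orderOf y) := by
      rw [hxo, hyo]; exact ((Nat.coprime_primes Fact.out hq).mpr hqp.symm).pow a b
    have hCeq : Subgroup.centralizer ({x * y} : Set G) =
        Subgroup.centralizer {x} ⊓ Subgroup.centralizer {y} := by
      refine le_antisymm (fun g hg => ?_) fun g hg => ?_
      · have hg' : Commute g (x * y) := Subgroup.mem_centralizer_singleton_iff.mp hg
        have h1 : Commute g (x ^ orderOf y) := by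
          have := hg'.pow_right (orderOf y)
          rwa [hc.mul_pow, pow_orderOf_eq_one y, mul_one] at this
        have h2 : Commute g (y ^ orderOf x) := by
          have := hg'.pow_right (orderOf x)
          rwa [hc.mul_pow, pow_orderOf_eq_one x, one_mul] at this
        obtain ⟨m, hm⟩ := exists_pow_eq_self_of_coprime (x := x) hcop.symm
        obtain ⟨m', hm'⟩ := exists_pow_eq_self_of_coprime (x := y) hcop
        exact ⟨Subgroup.mem_centralizer_singleton_iff.mpr (hm ▸ h1.pow_right m).eq,
          Subgroup.mem_centralizer_singleton_iff.mpr (hm' ▸ h2.pow_right m').eq⟩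
      · exact Subgroup.mem_centralizer_singleton_iff.mpr
          ((show Commute g x from Subgroup.mem_centralizer_singleton_iff.mp hg.1).mul_right
            (Subgroup.mem_centralizer_singleton_iff.mp hg.2))
    have hKx : (Subgroup.centralizer ({x} : Set G)).index ∣ Nat.card (P : Subgroup G) :=
      hidx ▸ Subgroup.index_dvd_of_le fun v hv =>
        Subgroup.mem_centralizer_singleton_iff.mpr (hcomm x hxP v hv).eq.symm
    have hPy : (Subgroup.centralizer ({y} : Set G)).index ∣ (P : Subgroup G).index :=
      Subgroup.index_dvd_of_le fun u hu =>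
        Subgroup.mem_centralizer_singleton_iff.mpr (hcomm u hu y hyK).eq
    rw [hCeq]
    refine le_antisymm Subgroup.index_inf_le (Nat.le_of_dvd
      (Nat.pos_of_ne_zero Subgroup.index_ne_zero_of_finite) ?_)
    exact ((P.card_coprime_index.coprime_dvd_left hKx).coprime_dvd_right hPy).mul_dvd_of_dvd_of_dvd
      (Subgroup.index_dvd_of_le inf_le_left) (Subgroup.index_dvd_of_le inf_le_right)
  · intro h
    refine (Cfsg.Agent.S3986.result p).mpr fun x y hx hy => ?_
    have hle : Subgroup.centralizer {x} ⊓ Subgroup.centralizer {y} ≤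
        Subgroup.centralizer ({x * y} : Set G) := fun g hg =>
      Subgroup.mem_centralizer_singleton_iff.mpr
        ((show Commute g x from Subgroup.mem_centralizer_singleton_iff.mp hg.1).mul_right
          (Subgroup.mem_centralizer_singleton_iff.mp hg.2))
    have heq := Subgroup.eq_of_le_of_card_ge hle (by
      have h1 := Subgroup.card_mul_index (Subgroup.centralizer {x} ⊓ Subgroup.centralizer {y})
      have h2 := Subgroup.card_mul_index (Subgroup.centralizer ({x * y} : Set G))
      have h3 : (Subgroup.centralizer {x} ⊓ Subgroup.centralizer {y}).index ≤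
          (Subgroup.centralizer ({x * y} : Set G)).index :=
        (h x y hx hy).symm ▸ Subgroup.index_inf_le
      have hpos := Nat.pos_of_ne_zero (Subgroup.index_ne_zero_of_finite
        (H := Subgroup.centralizer {x} ⊓ Subgroup.centralizer {y}))
      by_contra hlt
      rw [not_le] at hlt
      have := Nat.mul_lt_mul_of_lt_of_le hlt h3 (lt_of_lt_of_le hpos h3)
      omega)
    have hself : x * y ∈ Subgroup.centralizer ({x * y} : Set G) :=
      Subgroup.mem_centralizer_singleton_iff.mpr rfl
    have hxy := Subgroup.mem_centralizer_singleton_iff.mp (heq.symm ▸ hself).1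
    rw [mul_assoc] at hxy
    exact (mul_left_cancel hxy).symm

end Cfsg.Agent.S3987
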