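import Cfsg.Statements.S3989
import Cfsg.Agent.Lib.Fusion.PSolvable
import Cfsg.Agent.Lib.Fusion.Alperin

set_option autoImplicit false
set_option linter.style.haveILetI false
open Cfsg

namespace Cfsg.Agent.S3989

/-- The hypothesis of the statement. -/
def ClassMul (p : ℕ) (G : Type*) [Group G] : Prop :=
  ∀ x y : G, (∃ a : ℕ, orderOf x = p ^ a) → (∃ q b : ℕ, q.Prime ∧ q ≠ p ∧ orderOf y = q ^ b) →
    ∀ z : G, IsConj (x * y) z ↔ ∃ a b : G, z = a * x * a⁻¹ * (b * y * b⁻¹)

/-- An element of prime power order of a quotient comes from an element of prime power order. -/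
theorem exists_lift {G : Type*} [Group G] [Finite G] (M : Subgroup G) [M.Normal] {q a : ℕ} (hq : q.Prime)
    {y : G ⧸ M} (hy : orderOf y = q ^ a) : ∃ g : G, (g : G ⧸ M) = y ∧ ∃ b, orderOf g = q ^ b := by
  obtain ⟨g, rfl⟩ := QuotientGroup.mk_surjective y
  obtain ⟨k, m, hm, ho⟩ := Nat.exists_eq_pow_mul_and_not_dvd (orderOf_pos g).ne' q hq.ne_one
  obtain ⟨e, he1, he2⟩ := Nat.chineseRemainder
    (Nat.Coprime.pow_right a ((hq.coprime_iff_not_dvd.mpr hm).symm) : m.Coprime (q ^ a)) 0 1
  refine ⟨g ^ e, ?_, ?_⟩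
  · rw [QuotientGroup.mk_pow]
    exact (pow_eq_pow_iff_modEq.mpr (by rwa [hy])).trans (pow_one _)
  · have hd : orderOf (g ^ e) ∣ q ^ k := by
      refine orderOf_dvd_of_pow_eq_one ?_
      rw [← pow_mul, ← orderOf_dvd_iff_pow_eq_one, ho, mul_comm e]
      exact Nat.mul_dvd_mul_left _ (Nat.modEq_zero_iff_dvd.mp he1)
    obtain ⟨b, -, hb⟩ := (Nat.dvd_prime_pow hq).mp hd
    exact ⟨b, hb⟩

theorem ClassMul.quotient {p : ℕ} [hp : Fact p.Prime] {G : Type*} [Group G] [Finite G] (h : ClassMul p G)
    (M : Subgroup G) [M.Normal] : ClassMul p (G ⧸ M) := by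
  rintro x y ⟨a, ha⟩ ⟨q, b, hq, hqp, hb⟩ z
  obtain ⟨x, rfl, hx⟩ := exists_lift M hp.out ha
  obtain ⟨y, rfl, b', hb'⟩ := exists_lift M hq hb
  obtain ⟨z, rfl⟩ := QuotientGroup.mk_surjective z
  constructor
  · intro hc
    obtain ⟨c, hc⟩ := isConj_iff.mp hc
    refine ⟨c, c, ?_⟩
    rw [← hc]
    group
  · rintro ⟨c, d, hcd⟩
    obtain ⟨c, rfl⟩ := QuotientGroup.mk_surjective c
    obtain ⟨d, rfl⟩ := QuotientGroup.mk_surjective d
    have h1 := (h x y hx ⟨q, b', hq, hqp, hb'⟩ (c * x * c⁻¹ * (d * y * d⁻¹))).mpr ⟨c, d, rfl⟩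
    rw [hcd]
    have h2 := MonoidHom.map_isConj (QuotientGroup.mk' M) h1
    simpa only [map_mul, map_inv, QuotientGroup.mk'_apply] using h2

/-- If an element `y` of prime power order normalises a `p`-subgroup and moves `u` in it, then the normal
closure of `u y u⁻¹ y⁻¹` does not contain `y`. -/
theorem notMem_normalClosure {p : ℕ} {G : Type*} [Group G] [Finite G] (h : ClassMul p G) {x y : G}
    (hx : ∃ a : ℕ, orderOf x = p ^ a) (hy : ∃ q b : ℕ, q.Prime ∧ q ≠ p ∧ orderOf y = q ^ b) (hy1 : y ≠ 1)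
    (hxy : IsConj y (x * y)) : y ∉ Subgroup.normalClosure {x} := by
  let K : Subgroup G :=
    { carrier := {k | ∀ c, IsConj y c → IsConj y (k * c)}
      one_mem' := fun c hc => by rwa [one_mul]
      mul_mem' := fun {k l} hk hl c hc => by rw [mul_assoc]; exact hk _ (hl c hc)
      inv_mem' := fun {k} hk c hc => by
        have hpow : ∀ n : ℕ, IsConj y (k ^ n * c) := fun n => by
          induction n with
          | zero => rwa [pow_zero, one_mul]
          | succ n ih => rw [pow_succ', mul_assoc]; exact hk _ ih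
        have := hpow (orderOf k - 1)
        rwa [eq_inv_of_mul_eq_one_left (show k ^ (orderOf k - 1) * k = 1 by
          rw [← pow_succ, Nat.sub_add_cancel (orderOf_pos k), pow_orderOf_eq_one])] at this }
  have hle : Subgroup.normalClosure {x} ≤ K := by
    refine (Subgroup.closure_le K).mpr fun w hw => ?_
    obtain ⟨x', hx', hwc⟩ := Group.mem_conjugatesOfSet_iff.mp hw
    rw [Set.mem_singleton_iff] at hx'
    subst hx'
    obtain ⟨a, rfl⟩ := isConj_iff.mp hwc
    intro c hc
    obtain ⟨b, rfl⟩ := isConj_iff.mp hc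
    exact hxy.trans ((h _ y hx hy _).mpr ⟨a, b, rfl⟩)
  intro hm
  have := (hle (inv_mem hm)) y (IsConj.refl y)
  rw [inv_mul_cancel] at this
  exact hy1 (isConj_one_left.mp this)

/-- A minimal normal subgroup has a normal `p`-complement. -/
theorem hasNormalPComplement_of_minimal {p : ℕ} [hp : Fact p.Prime] {G : Type*} [Group G] [Finite G]
    (h : ClassMul p G) (M : Subgroup G)
    (hmin : ∀ K : Subgroup G, K.Normal → K ≤ M → K ≠ ⊥ → M ≤ K) (hM : M.Normal) :
    Cfsg.HasNormalPComplement p M := by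
  obtain ⟨P⟩ : Nonempty (Sylow p M) := inferInstance
  refine CfsgLib.Fusion.Alperin.npc_of_frobenius P fun Q hQ g => ?_
  have key : ∀ m : ℕ, ∀ g ∈ Subgroup.normalizer (Q : Set M), orderOf g = m → Nat.Coprime m p →
      g ∈ Subgroup.centralizer (Q : Set M) := by
    intro m
    induction m using Nat.recOnPosPrimePosCoprime with
    | zero => intro g _ hg _; exact absurd hg (orderOf_pos g).ne'
    | one => intro g _ hg _; rw [orderOf_eq_one_iff.mp hg]; exact one_mem _
    | prime_pow q n hq hn =>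
      intro g hg ho hco
      refine Subgroup.mem_centralizer_iff.mpr fun u hu => ?_
      by_contra hne
      have hqp : q ≠ p := by
        rintro rfl
        exact hq.ne_one (by simpa [Nat.coprime_pow_left_iff hn] using hco)
      set x : M := u * g * u⁻¹ * g⁻¹ with hxdef
      have hxQ : x ∈ Q := by
        rw [hxdef, show u * g * u⁻¹ * g⁻¹ = u * (g * u⁻¹ * g⁻¹) by group]
        exact mul_mem hu ((Subgroup.mem_normalizer_iff.mp hg u⁻¹).mp (inv_mem hu))
      have hx1 : (x : G) ≠ 1 := fun e => hne (by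
        have e' : x = 1 := Subtype.ext e
        rw [hxdef, mul_inv_eq_one, mul_inv_eq_iff_eq_mul] at e'
        exact e')
      obtain ⟨k, hk⟩ := (P.2.to_le hQ) ⟨x, hxQ⟩
      obtain ⟨a, -, ha⟩ := (Nat.dvd_prime_pow hp.out).mp
        (orderOf_dvd_of_pow_eq_one (congrArg Subtype.val hk : x ^ p ^ k = 1))
      have hg1 : g ≠ 1 := fun e => hne (by rw [e, mul_one, one_mul])
      refine notMem_normalClosure h (x := (x : G)) (y := (g : G)) ⟨a, by rw [Subgroup.orderOf_coe, ha]⟩
        ⟨q, n, hq, hqp, by rw [Subgroup.orderOf_coe, ho]⟩ (fun e => hg1 (Subtype.ext e))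
        (isConj_iff.mpr ⟨(u : G), by rw [hxdef]; push_cast; group⟩) ?_
      haveI := hM
      refine hmin _ Subgroup.normalClosure_normal (Subgroup.normalClosure_le_normal ?_) (fun e => hx1 ?_) g.2
      · exact Set.singleton_subset_iff.mpr x.2
      · exact Subgroup.mem_bot.mp (e ▸ Subgroup.subset_normalClosure (Set.mem_singleton (x : G)))
    | coprime a b ha hb hab iha ihb =>
      intro g hg ho hco
      obtain ⟨e, he1, he2⟩ := Nat.chineseRemainder hab 0 1
      obtain ⟨e', he1', he2'⟩ := Nat.chineseRemainder hab 1 0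
      have hmul : g ^ e * g ^ e' = g := by
        rw [← pow_add]
        refine (pow_eq_pow_iff_modEq.mpr ?_).trans (pow_one g)
        rw [ho]
        exact (Nat.modEq_and_modEq_iff_modEq_mul hab).mp
          ⟨by simpa using he1.add he1', by simpa using he2.add he2'⟩
      have hd : orderOf (g ^ e) ∣ b := by
        refine orderOf_dvd_of_pow_eq_one ?_
        rw [← pow_mul, ← orderOf_dvd_iff_pow_eq_one, ho]
        exact Nat.mul_dvd_mul (Nat.modEq_zero_iff_dvd.mp he1) dvd_rfl
      have hd' : orderOf (g ^ e') ∣ a := by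
        refine orderOf_dvd_of_pow_eq_one ?_
        rw [← pow_mul, ← orderOf_dvd_iff_pow_eq_one, ho, mul_comm e']
        exact Nat.mul_dvd_mul dvd_rfl (Nat.modEq_zero_iff_dvd.mp he2')
      have hmm : orderOf g ∣ orderOf (g ^ e) * orderOf (g ^ e') := by
        have h0 := Commute.orderOf_mul_dvd_mul_orderOf (Commute.pow_pow_self g e e')
        rwa [hmul] at h0
      have hd2 : b ∣ orderOf (g ^ e) := by
        have := Nat.dvd_trans (by rw [ho]; exact Dvd.intro_left a rfl : b ∣ orderOf g)
          hmm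
        exact (Nat.Coprime.coprime_dvd_right hd' hab.symm).dvd_of_dvd_mul_right this
      have hd2' : a ∣ orderOf (g ^ e') := by
        have := Nat.dvd_trans (by rw [ho]; exact Dvd.intro b rfl : a ∣ orderOf g)
          hmm
        exact (Nat.Coprime.coprime_dvd_right hd hab).dvd_of_dvd_mul_left this
      rw [← hmul]
      exact mul_mem (ihb _ (pow_mem hg e) (Nat.dvd_antisymm hd hd2) (hco.coprime_dvd_left (Dvd.intro_left a rfl)))
        (iha _ (pow_mem hg e') (Nat.dvd_antisymm hd' hd2') (hco.coprime_dvd_left (Dvd.intro b rfl)))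
  exact fun hg hco => key _ g hg rfl hco

theorem isPSolvable_of_classMul {p : ℕ} [hp : Fact p.Prime] : ∀ (n : ℕ) {G : Type*} [Group G] [Finite G],
    Nat.card G = n → ClassMul p G → Cfsg.IsPSolvable p G := by
  intro n
  induction n using Nat.strong_induction_on with
  | h n ih =>
  intro G _ _ hn h
  rcases subsingleton_or_nontrivial G with _ | _
  · exact CfsgLib.Fusion.PSolvable.psolvable_of_subsingleton
  obtain ⟨M, ⟨hMn, hMne⟩, hmin⟩ := Set.exists_min_image
    {M : Subgroup G | M.Normal ∧ M ≠ ⊥} (fun M : Subgroup G => Nat.card M)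
    (Set.toFinite _) ⟨⊤, inferInstance, top_ne_bot⟩
  haveI := hMn
  refine CfsgLib.Fusion.PSolvable.psolvable_of_normal M
    (CfsgLib.Fusion.PSolvable.psolvable_of_npc (hasNormalPComplement_of_minimal h M
      (fun K hK hle hne => (Subgroup.eq_of_le_of_card_ge hle (hmin K ⟨hK, hne⟩)).ge) hMn))
    (ih _ (hn ▸ CfsgLib.Solvable.Basic.card_quotient_lt M hMne) rfl (h.quotient M))


/-- Let p be a prime and G a finite group such that for every element x of p-power order and every element y whose order is a power of a prime other than p, the conjugacy class of x y is the set of all products of a conjugate of x with a conjugate of y. Then G is p-solvable. -/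
theorem result {G : Type*} [Group G] [Finite G] (p : ℕ) [Fact p.Prime] (h : ∀ x y : G, (∃ a : ℕ, orderOf x = p ^ a) → (∃ q b : ℕ, q.Prime ∧ q ≠ p ∧ orderOf y = q ^ b) → ∀ z : G, IsConj (x * y) z ↔ ∃ a b : G, z = a * x * a⁻¹ * (b * y * b⁻¹)) : Cfsg.IsPSolvable p G := by
  exact isPSolvable_of_classMul _ rfl h

end Cfsg.Agent.S3989
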