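import Cfsg.Statements.S3994
import Cfsg.Agent.Lib.Frobenius.Divisibility

set_option autoImplicit false
open Cfsg

namespace Cfsg.Agent.S3994

/-- Let G be a finite group and n a positive integer. The number of elements of G whose order is divisible by n is either 0 or divisible by the largest divisor of the order of G that is coprime to n. -/
theorem result {G : Type*} [Group G] [Finite G] (n : ℕ) (hn : 0 < n) :
    Nat.card {g : G // n ∣ orderOf g} = 0 ∨
      (Nat.card G / Nat.gcd (Nat.card G) (n ^ Nat.card G)) ∣ Nat.card {g : G // n ∣ orderOf g} := by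
  classical
  haveI := Fintype.ofFinite G
  set N := Nat.card G with hN
  have hN0 : N ≠ 0 := Nat.card_pos.ne'
  set D := N / Nat.gcd N (n ^ N) with hD
  by_cases hnN : n ∣ N
  swap
  · left
    haveI : IsEmpty {g : G // n ∣ orderOf g} := ⟨fun g => hnN (g.2.trans (orderOf_dvd_natCard _))⟩
    exact Nat.card_of_isEmpty
  right
  -- `D` is prime to `n`
  have hDN : D ∣ N := Nat.div_dvd_of_dvd (Nat.gcd_dvd_left _ _)
  have hDcop : ∀ q, q.Prime → q ∣ n → ¬ q ∣ D := by
    intro q hq hqn hqD
    have hgpos : 0 < Nat.gcd N (n ^ N) := Nat.gcd_pos_of_pos_left _ (Nat.pos_of_ne_zero hN0)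
    have h1 : q * Nat.gcd N (n ^ N) ∣ N := by
      have := Nat.mul_dvd_mul_right hqD (Nat.gcd N (n ^ N))
      rwa [hD, Nat.div_mul_cancel (Nat.gcd_dvd_left _ _)] at this
    have hv : q ^ N.factorization q ∣ Nat.gcd N (n ^ N) :=
      Nat.dvd_gcd (Nat.ordProj_dvd N q)
        ((pow_dvd_pow_of_dvd hqn _).trans (pow_dvd_pow n (Nat.factorization_lt q hN0).le))
    have h2 : q ^ (N.factorization q + 1) ∣ N :=
      pow_succ' q (N.factorization q) ▸ (Nat.mul_dvd_mul_left q hv).trans h1
    have := (hq.pow_dvd_iff_le_factorization hN0).1 h2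
    omega
  have key : ∀ (T : Finset ℕ), T ⊆ n.primeFactors → ∀ m, m ∣ N → D ∣ m →
      D ∣ ((Finset.univ : Finset G).filter
        fun g => g ^ m = 1 ∧ ∀ q ∈ T, q ^ n.factorization q ∣ orderOf g).card := by
    intro T
    induction T using Finset.induction_on with
    | empty =>
      intro _ m hm hDm
      simp only [Finset.notMem_empty, IsEmpty.forall_iff, implies_true, and_true]
      rw [← Fintype.card_subtype, ← Nat.card_eq_fintype_card]
      exact hDm.trans (CfsgLib.Frobenius.Divisibility.dvd_card_pow_eq_one hm)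
    | insert q T hqT ih =>
      intro hT m hm hDm
      have hqn := hT (Finset.mem_insert_self q T)
      have hT' := (Finset.subset_insert q T).trans hT
      obtain ⟨hq, hqdvd, hn0⟩ := Nat.mem_primeFactors.1 hqn
      set b := n.factorization q with hb
      have hb1 : 1 ≤ b := hq.factorization_pos_of_dvd hn0 hqdvd
      have hqbN : q ^ b ∣ N := (Nat.ordProj_dvd n q).trans hnN
      set M := N / q ^ N.factorization q * q ^ (b - 1) with hM
      have hMN : M ∣ N := by
        have hbv : b - 1 ≤ N.factorization q :=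
          (Nat.sub_le b 1).trans ((hq.pow_dvd_iff_le_factorization hN0).1 hqbN)
        rw [hM]
        conv_rhs => rw [← Nat.div_mul_cancel (Nat.ordProj_dvd N q)]
        exact Nat.mul_dvd_mul_left _ (pow_dvd_pow q hbv)
      have hDM : D ∣ M := by
        refine Dvd.dvd.mul_right ?_ _
        have hc : D.Coprime (q ^ N.factorization q) :=
          ((hq.coprime_iff_not_dvd.2 (hDcop q hq hqdvd)).symm).pow_right _
        refine hc.dvd_of_dvd_mul_right ?_
        rw [Nat.div_mul_cancel (Nat.ordProj_dvd N q)]
        exact hDN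
      have hiff : ∀ g : G, ¬ q ^ b ∣ orderOf g ↔ g ^ M = 1 := by
        intro g
        rw [← orderOf_dvd_iff_pow_eq_one]
        have ho : orderOf g ∣ N := orderOf_dvd_natCard g
        obtain ⟨e, r, hr, her⟩ :=
          Nat.exists_eq_pow_mul_and_not_dvd (orderOf_pos g).ne' q hq.ne_one
        have hcr : ∀ i : ℕ, (q ^ i).Coprime r := fun i => (hq.coprime_iff_not_dvd.2 hr).pow_left i
        have hrN : r ∣ N / q ^ N.factorization q := by
          refine ((hcr (N.factorization q)).symm).dvd_of_dvd_mul_right ?_
          rw [Nat.div_mul_cancel (Nat.ordProj_dvd N q)]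
          exact (dvd_mul_left r (q ^ e)).trans (her ▸ ho)
        rw [her]
        constructor
        · intro h
          have heb : e ≤ b - 1 := by
            by_contra hlt
            exact h ((pow_dvd_pow q (by omega : b ≤ e)).trans (dvd_mul_right _ _))
          rw [hM, mul_comm (N / _)]
          exact Nat.mul_dvd_mul (pow_dvd_pow q heb) hrN
        · intro h hd
          have h1 : q ^ b ∣ N / q ^ N.factorization q * q ^ (b - 1) := hd.trans h
          have h2 : (q ^ b).Coprime (N / q ^ N.factorization q) :=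
            (hq.coprime_iff_not_dvd.2 (Nat.not_dvd_ordCompl hq hN0)).pow_left b
          have h3 := (Nat.pow_dvd_pow_iff_le_right hq.one_lt).1 (h2.dvd_of_dvd_mul_left h1)
          omega
      have hbig := ih hT' m hm hDm
      have hsmall := ih hT' (Nat.gcd m M) ((Nat.gcd_dvd_left _ _).trans hm) (Nat.dvd_gcd hDm hDM)
      have hsplit := Finset.card_filter_add_card_filter_not
        (s := (Finset.univ : Finset G).filter
          fun g => g ^ m = 1 ∧ ∀ q' ∈ T, q' ^ n.factorization q' ∣ orderOf g)
        (fun g => q ^ b ∣ orderOf g)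
      rw [Finset.filter_filter, Finset.filter_filter] at hsplit
      have e1 : ((Finset.univ : Finset G).filter fun g => (g ^ m = 1 ∧
          ∀ q' ∈ T, q' ^ n.factorization q' ∣ orderOf g) ∧ ¬ q ^ b ∣ orderOf g) =
          (Finset.univ : Finset G).filter fun g => g ^ Nat.gcd m M = 1 ∧
            ∀ q' ∈ T, q' ^ n.factorization q' ∣ orderOf g := by
        refine Finset.filter_congr fun g _ => ?_
        simp only [hiff, ← orderOf_dvd_iff_pow_eq_one, Nat.dvd_gcd_iff]
        tauto
      have e2 : ((Finset.univ : Finset G).filter fun g => (g ^ m = 1 ∧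
          ∀ q' ∈ T, q' ^ n.factorization q' ∣ orderOf g) ∧ q ^ b ∣ orderOf g) =
          (Finset.univ : Finset G).filter fun g => g ^ m = 1 ∧
            ∀ q' ∈ insert q T, q' ^ n.factorization q' ∣ orderOf g := by
        refine Finset.filter_congr fun g _ => ?_
        rw [Finset.forall_mem_insert]
        tauto
      rw [e1, e2] at hsplit
      exact (Nat.dvd_add_left hsmall).1 (hsplit ▸ hbig)
  have h := key n.primeFactors subset_rfl N dvd_rfl hDN
  convert h using 1
  rw [Nat.card_eq_fintype_card, Fintype.card_subtype]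
  congr 1
  refine Finset.filter_congr fun g _ => ?_
  refine ⟨fun hd => ⟨pow_card_eq_one', fun q hq => (Nat.ordProj_dvd n q).trans hd⟩, fun ⟨_, hd⟩ => ?_⟩
  refine (Nat.dvd_iff_prime_pow_dvd_dvd _ _).2 fun q k hq hqk => ?_
  rcases Nat.eq_zero_or_pos k with rfl | hk
  · simp
  exact (pow_dvd_pow q ((hq.pow_dvd_iff_le_factorization hn.ne').1 hqk)).trans
    (hd q (Nat.mem_primeFactors.2 ⟨hq, (dvd_pow_self q hk.ne').trans hqk, hn.ne'⟩))

end Cfsg.Agent.S3994
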