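import Cfsg.Statements.S3995
import Cfsg.Agent.Lib.Frobenius.Divisibility
import Cfsg.Agent.Lib.FrobRealize.Quaternion
import Mathlib.GroupTheory.SpecificGroups.Quaternion

set_option autoImplicit false
open Cfsg

namespace Cfsg.Agent.S3995

/-- The orders occurring in a finite group, below a given bound. -/
theorem exists_shrink {P : Type*} [Group P] [Finite P] :
    ∃ (Q : Type) (_ : Group Q) (_ : Finite Q), Nonempty (Q ≃* P) := by
  let e := Finite.equivFin P
  exact ⟨Fin (Nat.card P), e.symm.group, inferInstance, ⟨e.symm.mulEquiv⟩⟩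

/-- Let G be a finite group such that the numbers of elements of each order that occurs in G (the numbers #{g : o(g) = m}, m ranging over the element orders of G) take exactly two values, 1 and some n ≠ 1. Then either G is a p-group of exponent p and order at least 3 for some prime p, or G is the quaternion group of order 8, or G is cyclic of order 4, or G ≅ Z₂ × P for a p-group P of exponent p with p an odd prime. -/
theorem result {G : Type*} [Group G] [Finite G] (n : ℕ) (hn : n ≠ 1) (h : ((fun m : ℕ => Nat.card {g : G // orderOf g = m}) '' Set.range (orderOf : G → ℕ)) = {1, n}) :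
    (∃ p : ℕ, p.Prime ∧ IsPGroup p G ∧ 3 ≤ Nat.card G ∧ Monoid.exponent G = p) ∨
      Nonempty (G ≃* QuaternionGroup 2) ∨ (IsCyclic G ∧ Nat.card G = 4) ∨
      (∃ (p : ℕ) (P : Type) (_ : Group P) (_ : Finite P), p.Prime ∧ p ≠ 2 ∧ IsPGroup p P ∧ Monoid.exponent P = p ∧
        Nonempty (G ≃* Multiplicative (ZMod 2) × P)) := by
  classical
  haveI := Fintype.ofFinite G
  let c : ℕ → ℕ := fun m => Nat.card {g : G // orderOf g = m}
  have hc : ∀ m, c m = Nat.card {g : G // orderOf g = m} := fun _ => rfl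
  have hc1 : c 1 = 1 := Nat.card_eq_one_iff_unique.mpr
    ⟨⟨fun a b => Subtype.ext ((orderOf_eq_one_iff.mp a.2).trans (orderOf_eq_one_iff.mp b.2).symm)⟩,
      ⟨⟨1, orderOf_one⟩⟩⟩
  have hval : ∀ g : G, c (orderOf g) = 1 ∨ c (orderOf g) = n := by
    intro g
    have h1 : c (orderOf g) ∈ (fun m : ℕ => Nat.card {g : G // orderOf g = m}) '' Set.range (orderOf : G → ℕ) :=
      ⟨_, ⟨g, rfl⟩, rfl⟩
    rwa [h, Set.mem_insert_iff, Set.mem_singleton_iff] at h1
  obtain ⟨g₀, hg₀⟩ : ∃ g : G, c (orderOf g) = n := by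
    have h1 : n ∈ (fun m : ℕ => Nat.card {g : G // orderOf g = m}) '' Set.range (orderOf : G → ℕ) := by
      rw [h]; exact Or.inr rfl
    obtain ⟨_, ⟨g, rfl⟩, hm⟩ := h1
    exact ⟨g, hm⟩
  have hG1 : 1 < Nat.card G := by
    rw [Finite.one_lt_card_iff_nontrivial]
    refine ⟨g₀, 1, fun h1 => hn ?_⟩
    rw [← hg₀, h1, orderOf_one, hc1]
  have hc0 : ∀ m, (∀ g : G, orderOf g ≠ m) → c m = 0 := fun m hm => by
    haveI : IsEmpty {g : G // orderOf g = m} := ⟨fun g => hm _ g.2⟩
    exact Nat.card_of_isEmpty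
  have hdiv : ∀ d, d.totient ∣ c d := fun d => CfsgLib.Frobenius.Divisibility.totient_dvd_card d
  have hcn : ∀ g : G, 3 ≤ orderOf g → c (orderOf g) = n := by
    intro g hg
    rcases hval g with h1 | h1
    · exfalso
      have h2 := (Nat.totient_even hg).two_dvd.trans (hdiv _)
      rw [h1] at h2; omega
    · exact h1
  have hroots : ∀ m, m ≠ 0 → m ∣ Nat.card G → m ∣ ∑ d ∈ m.divisors, c d := by
    intro m hm hmd
    have h1 := CfsgLib.Frobenius.Divisibility.dvd_card_pow_eq_one (G := G) hmd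
    rw [Nat.card_eq_fintype_card, Fintype.card_subtype] at h1
    convert h1 using 1
    convert sum_card_orderOf_eq_card_pow_eq_one (G := G) hm using 2 with d
    · simp only [hc, Nat.card_eq_fintype_card, Fintype.card_subtype]
  have hexo : ∀ p : ℕ, p.Prime → p ∣ Nat.card G → ∃ g : G, orderOf g = p := fun p hp hd =>
    haveI := Fact.mk hp
    exists_prime_orderOf_dvd_card' p hd
  have hcp : ∀ p : ℕ, p.Prime → p ≠ 2 → p ∣ Nat.card G → c p = n ∧ p ∣ 1 + n ∧ 2 ∣ n := by
    intro p hp hp2 hpd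
    obtain ⟨g, hg⟩ := hexo p hp hpd
    have h3 : 3 ≤ p := lt_of_le_of_ne hp.two_le (Ne.symm hp2)
    have h4 : c p = n := hg ▸ hcn g (hg ▸ h3)
    refine ⟨h4, ?_, h4 ▸ (Nat.totient_even h3).two_dvd.trans (hdiv p)⟩
    have h1 := hroots p hp.ne_zero hpd
    rwa [hp.divisors, Finset.sum_pair hp.one_lt.ne, hc1, h4] at h1
  -- no element of order `p ^ 2`, `p` odd
  have hsq : ∀ p : ℕ, p.Prime → p ≠ 2 → ∀ g : G, ¬ p ^ 2 ∣ orderOf g := by
    intro p hp hp2 g hpg
    obtain ⟨k, hk⟩ := hpg
    have hx : orderOf (g ^ k) = p ^ 2 := by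
      have hk0 : k ≠ 0 := fun h0 => by rw [h0, mul_zero] at hk; exact (orderOf_pos g).ne' hk
      rw [orderOf_pow' _ hk0, hk, Nat.gcd_eq_right (dvd_mul_left k (p ^ 2)),
        Nat.mul_div_cancel _ (Nat.pos_of_ne_zero hk0)]
    have hd : p ^ 2 ∣ Nat.card G := hx ▸ orderOf_dvd_natCard _
    obtain ⟨h1, h2, -⟩ := hcp p hp hp2 ((dvd_pow_self p two_ne_zero).trans hd)
    have h3 := hroots _ (pow_ne_zero 2 hp.ne_zero) hd
    rw [Nat.sum_divisors_prime_pow hp] at h3
    simp only [Finset.sum_range_succ, Finset.sum_range_zero, pow_zero, pow_one, zero_add, hc1, h1] at h3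
    rw [← hx, hcn (g ^ k) (by rw [hx]; nlinarith [hp.two_le])] at h3
    rw [hx] at h3
    have h4 : p ∣ n := (Nat.dvd_add_iff_right h2).mpr ((dvd_pow_self p two_ne_zero).trans h3)
    exact hp.ne_one (Nat.dvd_one.mp ((Nat.dvd_add_iff_left h4).mpr h2))
  -- a single odd prime
  have hone : ∀ p q : ℕ, p.Prime → q.Prime → p ≠ 2 → q ≠ 2 → p ∣ Nat.card G → q ∣ Nat.card G → p = q := by
    intro p q hp hq hp2 hq2 hpd hqd
    by_contra hne
    obtain ⟨h1, h2, -⟩ := hcp p hp hp2 hpd
    obtain ⟨h1', h2', -⟩ := hcp q hq hq2 hqd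
    have hd := ((Nat.coprime_primes hp hq).mpr hne).mul_dvd_of_dvd_of_dvd hpd hqd
    have hdivs : (p * q).divisors = {1, p, q, p * q} := by
      ext d
      simp only [Nat.mem_divisors, Finset.mem_insert, Finset.mem_singleton]
      constructor
      · rintro ⟨hd', -⟩
        obtain ⟨a, b, ha, hb, rfl⟩ := Nat.dvd_mul.mp hd'
        rcases (Nat.dvd_prime hp).mp ha with rfl | rfl <;>
          rcases (Nat.dvd_prime hq).mp hb with rfl | rfl <;> simp
      · rintro (rfl | rfl | rfl | rfl) <;> simp [hp.ne_zero, hq.ne_zero]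
    have h3 := hroots _ (mul_ne_zero hp.ne_zero hq.ne_zero) hd
    have hp1 := hp.two_le
    have hq1 := hq.two_le
    rw [hdivs, Finset.sum_insert (by simp; exact ⟨hp.one_lt.ne, hq.one_lt.ne, by nlinarith⟩),
      Finset.sum_insert (by simp; exact ⟨hne, by nlinarith⟩),
      Finset.sum_pair (by nlinarith), hc1, h1, h1'] at h3
    have h5 : p ∣ 1 + (n + (n + c (p * q))) := (dvd_mul_right p q).trans h3
    have h6 : p ∣ n + c (p * q) := (Nat.dvd_add_iff_right h2).mpr (by rwa [add_assoc])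
    rcases em (∃ g : G, orderOf g = p * q) with ⟨g, hg⟩ | hno
    · rw [← hg, hcn g (by rw [hg]; nlinarith)] at h6
      rw [← two_mul] at h6
      rcases hp.dvd_mul.mp h6 with h7 | h7
      · exact hp2 ((Nat.prime_dvd_prime_iff_eq hp Nat.prime_two).mp h7)
      · exact hp.ne_one (Nat.dvd_one.mp ((Nat.dvd_add_iff_left h7).mpr h2))
    · rw [hc0 _ (fun g hg => hno ⟨g, hg⟩), add_zero] at h6
      exact hp.ne_one (Nat.dvd_one.mp ((Nat.dvd_add_iff_left h6).mpr h2))
  by_cases h2G : 2 ∣ Nat.card G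
  swap
  · -- odd order
    obtain ⟨p, hp, hpd⟩ := Nat.exists_prime_and_dvd (n := Nat.card G) (by omega)
    have hp2 : p ≠ 2 := fun h0 => h2G (h0 ▸ hpd)
    haveI := Fact.mk hp
    have hexp : ∀ g : G, g ^ p = 1 := by
      intro g
      refine orderOf_dvd_iff_pow_eq_one.mp ?_
      by_cases h1 : orderOf g = 1
      · rw [h1]; exact one_dvd p
      have h0 := (orderOf_pos g).ne'
      have hpp := Nat.eq_prime_pow_of_unique_prime_dvd h0 (p := p) fun {d} hd hdd =>
        hone d p hd hp (fun h2 => h2G (h2 ▸ hdd.trans (orderOf_dvd_natCard g))) hp2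
          (hdd.trans (orderOf_dvd_natCard g)) hpd
      rw [hpp]
      refine dvd_trans (pow_dvd_pow p ?_) (pow_one p).dvd
      by_contra hle
      exact hsq p hp hp2 g (hpp ▸ pow_dvd_pow p (by omega))
    refine Or.inl ⟨p, hp, fun g => ⟨1, by rw [pow_one]; exact hexp g⟩, by omega, ?_⟩
    obtain ⟨g, hg⟩ := hexo p hp hpd
    exact Nat.dvd_antisymm (Monoid.exponent_dvd_of_forall_pow_eq_one hexp) (hg ▸ Monoid.order_dvd_exponent g)
  obtain ⟨t, ht⟩ := hexo 2 Nat.prime_two h2G
  have hr2 : 2 ∣ 1 + c 2 := by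
    have := hroots 2 two_ne_zero h2G
    rwa [Nat.prime_two.divisors, Finset.sum_pair (by norm_num), hc1] at this
  rcases ht ▸ hval t with hc2 | hc2
  swap
  · -- exponent two
    have hexp : ∀ g : G, g ^ 2 = 1 := by
      intro g
      refine orderOf_dvd_iff_pow_eq_one.mp ?_
      rcases le_or_gt 3 (orderOf g) with h3 | h3
      · exfalso
        have h4 := (Nat.totient_even h3).two_dvd.trans (hdiv _)
        rw [hcn g h3] at h4; rw [hc2] at hr2; omega
      · interval_cases hh : orderOf g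
        · exact absurd hh (orderOf_pos g).ne'
        · exact one_dvd 2
        · exact dvd_rfl
    refine Or.inl ⟨2, Nat.prime_two, fun g => ⟨1, by rw [pow_one]; exact hexp g⟩, ?_, ?_⟩
    · by_contra hlt
      refine hn ?_
      have hle : c 2 + 1 ≤ Nat.card G := by
        rw [← Finite.card_option]
        exact Nat.card_le_card_of_injective (fun o : Option {g : G // orderOf g = 2} => o.elim 1 Subtype.val) (by
          rintro (_ | a) (_ | b) hab
          · rfl
          · exact absurd b.2 (by rw [← show (1 : G) = b.1 from hab, orderOf_one]; norm_num)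
          · exact absurd a.2 (by rw [show a.1 = (1 : G) from hab, orderOf_one]; norm_num)
          · exact congrArg some (Subtype.ext hab))
      have hpos : 0 < c 2 := @Nat.card_pos _ ⟨⟨t, ht⟩⟩ _
      omega
    · exact Nat.dvd_antisymm (Monoid.exponent_dvd_of_forall_pow_eq_one hexp) (ht ▸ Monoid.order_dvd_exponent t)
  -- a unique involution
  have huniq : ∀ g : G, orderOf g = 2 → g = t := fun g hg => by
    obtain ⟨⟨hsub⟩, -⟩ := Nat.card_eq_one_iff_unique.mp hc2
    exact congrArg Subtype.val (hsub ⟨g, hg⟩ ⟨t, ht⟩)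
  have htc : ∀ g : G, g * t * g⁻¹ = t := fun g => huniq _ (by
    show orderOf (MulAut.conj g t) = 2
    rw [MulEquiv.orderOf_eq]; exact ht)
  have hno8 : ∀ g : G, ¬ 8 ∣ orderOf g := by
    intro g hg
    obtain ⟨k, hk⟩ := hg
    have hk0 : k ≠ 0 := fun h0 => by rw [h0, mul_zero] at hk; exact (orderOf_pos g).ne' hk
    have hx : orderOf (g ^ k) = 8 := by
      rw [orderOf_pow' _ hk0, hk, Nat.gcd_eq_right (dvd_mul_left k 8),
        Nat.mul_div_cancel _ (Nat.pos_of_ne_zero hk0)]
    have hd : 8 ∣ Nat.card G := hx ▸ orderOf_dvd_natCard _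
    have hy : orderOf ((g ^ k) ^ 2) = 4 := by rw [orderOf_pow' _ two_ne_zero, hx]; rfl
    have h3 := hroots 8 (by norm_num) hd
    rw [show Nat.divisors 8 = {1, 2, 4, 8} by decide] at h3
    simp only [Finset.sum_insert, Finset.mem_insert, Finset.mem_singleton, Finset.sum_singleton,
      OfNat.one_ne_ofNat, Nat.reduceEqDiff, or_self, not_false_eq_true, hc1, hc2] at h3
    have e4 : c 4 = n := hy ▸ hcn ((g ^ k) ^ 2) (by omega)
    have e8 : c 8 = n := hx ▸ hcn (g ^ k) (by omega)
    rw [e4, e8] at h3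
    have h4 := hroots 4 (by norm_num) ((show 4 ∣ 8 by norm_num).trans hd)
    rw [show Nat.divisors 4 = {1, 2, 4} by decide] at h4
    simp only [Finset.sum_insert, Finset.mem_insert, Finset.mem_singleton, Finset.sum_singleton,
      OfNat.one_ne_ofNat, Nat.reduceEqDiff, or_self, not_false_eq_true, hc1, hc2] at h4
    rw [e4] at h4
    omega
  by_cases hodd : ∃ p : ℕ, p.Prime ∧ p ≠ 2 ∧ p ∣ Nat.card G
  swap
  · -- a `2`-group
    push Not at hodd
    haveI := Fact.mk Nat.prime_two
    have hp2 : IsPGroup 2 G := IsPGroup.of_card (n := (Nat.card G).primeFactorsList.length)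
      (Nat.eq_prime_pow_of_unique_prime_dvd Nat.card_pos.ne' fun {d} hd hdd => by
        by_contra h0; exact hodd d hd h0 hdd)
    have hexp : ∀ g : G, orderOf g ∣ 4 := by
      intro g
      obtain ⟨j, hj⟩ := hp2 g
      obtain ⟨i, -, hi⟩ := (Nat.dvd_prime_pow Nat.prime_two).mp (orderOf_dvd_of_pow_eq_one hj)
      rw [hi]
      show 2 ^ i ∣ 2 ^ 2
      refine pow_dvd_pow 2 ?_
      by_contra hle
      exact hno8 g (hi ▸ show 2 ^ 3 ∣ 2 ^ i from pow_dvd_pow 2 (by omega))
    have hfew : Nat.card {x : G // x ^ 2 = 1} ≤ 2 := by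
      calc Nat.card {x : G // x ^ 2 = 1} ≤ Nat.card (Fin 2) := Nat.card_le_card_of_injective
            (fun x => if x.1 = 1 then 0 else 1) (by
              intro a b hab
              apply Subtype.ext
              by_cases ha : a.1 = 1 <;> by_cases hb : b.1 = 1 <;> simp [ha, hb] at hab ⊢
              exact (huniq _ (orderOf_eq_prime a.2 ha)).trans (huniq _ (orderOf_eq_prime b.2 hb)).symm)
        _ = 2 := by simp
    have hcyc : IsCyclic G → IsCyclic G ∧ Nat.card G = 4 := by
      intro hG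
      refine ⟨hG, ?_⟩
      obtain ⟨g, hg⟩ := hG.exists_generator
      have h1 : orderOf g = Nat.card G := orderOf_eq_card_of_forall_mem_zpowers hg
      have h2 : Nat.card G ∣ 4 := h1 ▸ hexp g
      have h3 : Nat.card G ≤ 4 := Nat.le_of_dvd (by norm_num) h2
      interval_cases hh : Nat.card G <;> try omega
      -- two elements
      exfalso
      have h4 : orderOf g₀ ∣ 2 := hh ▸ orderOf_dvd_natCard g₀
      rcases (Nat.dvd_prime Nat.prime_two).mp h4 with h5 | h5 <;> rw [h5] at hg₀
      · exact hn (hg₀ ▸ hc1)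
      · exact hn (hg₀ ▸ hc2)
    by_cases hG1case : IsCyclic G ∧ Nat.card G = 4
    · exact Or.inr (Or.inr (Or.inl hG1case))
    rcases CfsgLib.FrobRealize.Quaternion.cyclic_or_quaternion hp2 hfew with hG | ⟨-, a, ⟨e⟩⟩
    · exact Or.inr (Or.inr (Or.inl (hcyc hG)))
    · have h1 : 2 * 2 ^ a ∣ 4 := by
        rw [← QuaternionGroup.orderOf_a_one, ← MulEquiv.orderOf_eq e.symm]
        exact hexp _
      have h2 : 2 * 2 ^ a ≤ 4 := Nat.le_of_dvd (by norm_num) h1
      rcases a with _ | _ | a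
      · exfalso
        have h3 : Nat.card G = 4 := by
          rw [Nat.card_congr e.toEquiv, Nat.card_eq_fintype_card]; rfl
        have h4 : orderOf (QuaternionGroup.xa 0 : QuaternionGroup 1) = 4 := QuaternionGroup.orderOf_xa 0
        have : IsCyclic G := isCyclic_of_orderOf_eq_card (e.symm (QuaternionGroup.xa 0)) (by
          rw [MulEquiv.orderOf_eq, h3]; exact h4)
        exact hG1case ⟨this, h3⟩
      · exact Or.inr (Or.inl ⟨e⟩)
      · exfalso
        have : 2 ^ 2 ≤ 2 ^ (a + 1 + 1) := Nat.pow_le_pow_right (by norm_num) (by omega)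
        omega
  -- `2` and one odd prime
  obtain ⟨p, hp, hp2, hpd⟩ := hodd
  haveI := Fact.mk hp
  haveI := Fact.mk Nat.prime_two
  obtain ⟨hcpn, hpn, -⟩ := hcp p hp hp2 hpd
  have hno4 : ∀ g : G, ¬ 4 ∣ orderOf g := by
    intro g hg
    obtain ⟨k, hk⟩ := hg
    have hk0 : k ≠ 0 := fun h0 => by rw [h0, mul_zero] at hk; exact (orderOf_pos g).ne' hk
    have hx : orderOf (g ^ k) = 4 := by
      rw [orderOf_pow' _ hk0, hk, Nat.gcd_eq_right (dvd_mul_left k 4),
        Nat.mul_div_cancel _ (Nat.pos_of_ne_zero hk0)]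
    have h4p : Nat.Coprime 4 p := (Nat.Coprime.pow_left 2 ((Nat.coprime_primes Nat.prime_two hp).mpr (Ne.symm hp2)) : Nat.Coprime (2 ^ 2) p)
    have hd := h4p.mul_dvd_of_dvd_of_dvd (hx ▸ orderOf_dvd_natCard _) hpd
    obtain ⟨u, hu⟩ := hexo p hp hpd
    have h2p : orderOf (t * u) = 2 * p := by
      rw [(show Commute t u from (mul_inv_eq_iff_eq_mul.mp (htc u)).symm).orderOf_mul_eq_mul_orderOf_of_coprime
        (by rw [ht, hu]; exact (Nat.coprime_primes Nat.prime_two hp).mpr (Ne.symm hp2)), ht, hu]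
    have hp3 : 3 ≤ p := lt_of_le_of_ne hp.two_le (Ne.symm hp2)
    have hdivs : (4 * p).divisors = {1, 2, 4, p, 2 * p, 4 * p} := by
      ext d
      simp only [Nat.mem_divisors, Finset.mem_insert, Finset.mem_singleton]
      constructor
      · rintro ⟨hd', -⟩
        obtain ⟨a, b, ha, hb, rfl⟩ := Nat.dvd_mul.mp hd'
        have ha' : a ∈ Nat.divisors 4 := Nat.mem_divisors.mpr ⟨ha, by norm_num⟩
        rw [show Nat.divisors 4 = {1, 2, 4} by decide] at ha'
        simp only [Finset.mem_insert, Finset.mem_singleton] at ha'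
        rcases ha' with rfl | rfl | rfl <;> rcases (Nat.dvd_prime hp).mp hb with rfl | rfl <;> simp
      · rintro (rfl | rfl | rfl | rfl | rfl | rfl) <;> simp [hp.ne_zero, Nat.mul_dvd_mul_iff_right hp.pos, dvd_mul_of_dvd_left]
    have h3 := hroots _ (mul_ne_zero (by norm_num) hp.ne_zero) hd
    have hp4 : p ≠ 4 := fun h0 => by rw [h0] at hp; norm_num at hp
    rw [hdivs, Finset.sum_insert (by simp; omega), Finset.sum_insert (by simp; omega),
      Finset.sum_insert (by simp; omega), Finset.sum_insert (by simp; omega),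
      Finset.sum_pair (show 2 * p ≠ 4 * p by omega), hc1, hc2, hcpn] at h3
    have e4 : c 4 = n := hx ▸ hcn (g ^ k) (by omega)
    have e2p : c (2 * p) = n := h2p ▸ hcn (t * u) (by omega)
    rw [e4, e2p] at h3
    rcases em (∃ v : G, orderOf v = 4 * p) with ⟨v, hv⟩ | hno
    · rw [← hv, hcn v (by omega)] at h3
      have h5 : p ∣ 1 + (1 + (n + (n + (n + n)))) := (dvd_mul_left p 4).trans (hv ▸ h3)
      have h6 : p ∣ 4 * (1 + n) := dvd_mul_of_dvd_right hpn 4
      have h7 : p ∣ 2 := by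
        have := Nat.dvd_sub h6 h5
        rwa [show 4 * (1 + n) - (1 + (1 + (n + (n + (n + n))))) = 2 by omega] at this
      exact hp2 ((Nat.prime_dvd_prime_iff_eq hp Nat.prime_two).mp h7)
    · rw [hc0 _ (fun g hg => hno ⟨g, hg⟩), add_zero] at h3
      have h5 : p ∣ 1 + (1 + (n + (n + n))) := (dvd_mul_left p 4).trans h3
      have h6 : p ∣ 3 * (1 + n) := dvd_mul_of_dvd_right hpn 3
      have h7 : p ∣ 1 := by
        have := Nat.dvd_sub h6 h5
        rwa [show 3 * (1 + n) - (1 + (1 + (n + (n + n)))) = 1 by omega] at this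
      exact hp.ne_one (Nat.dvd_one.mp h7)
  obtain ⟨S⟩ : Nonempty (Sylow 2 G) := inferInstance
  have hS : Nat.card (S : Subgroup G) = 2 := by
    have hle : (S : Subgroup G) ≤ Subgroup.zpowers t := by
      intro x hx
      obtain ⟨j, hj⟩ := S.isPGroup' ⟨x, hx⟩
      obtain ⟨i, -, hi⟩ := (Nat.dvd_prime_pow Nat.prime_two).mp (orderOf_dvd_of_pow_eq_one
        (congrArg Subtype.val hj : x ^ 2 ^ j = 1))
      have hi1 : i ≤ 1 := by
        by_contra hle
        exact hno4 x (hi ▸ show 2 ^ 2 ∣ 2 ^ i from pow_dvd_pow 2 (by omega))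
      have hi' : orderOf x = 2 ^ i := hi
      interval_cases i
      · rw [pow_zero, orderOf_eq_one_iff] at hi'; rw [hi']; exact one_mem _
      · rw [huniq x hi']; exact Subgroup.mem_zpowers t
    have h1 := Subgroup.card_dvd_of_le hle
    rw [Nat.card_zpowers, ht] at h1
    rcases (Nat.dvd_prime Nat.prime_two).mp h1 with h2 | h2
    · exfalso
      have := S.dvd_card_of_dvd_card h2G
      rw [h2] at this; omega
    · exact h2
  obtain ⟨P⟩ : Nonempty (Sylow p G) := inferInstance
  have hord : ∀ g : G, g ^ (2 * p) = 1 := by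
    intro g
    refine orderOf_dvd_iff_pow_eq_one.mp ?_
    refine (Nat.dvd_iff_prime_pow_dvd_dvd _ _).2 fun q k hq hqk => ?_
    rcases eq_or_ne k 0 with rfl | hk0
    · simp
    have hqd : q ∣ Nat.card G := (dvd_pow_self q hk0).trans (hqk.trans (orderOf_dvd_natCard g))
    have hk1 : k = 1 := by
      by_contra hk1
      have h2 : q ^ 2 ∣ orderOf g := (pow_dvd_pow q (by omega)).trans hqk
      rcases eq_or_ne q 2 with rfl | hq2
      · exact hno4 g h2
      · exact hsq q hq hq2 g h2
    subst hk1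
    rw [pow_one]
    rcases eq_or_ne q 2 with rfl | hq2
    · exact dvd_mul_right 2 p
    · rw [hone q p hq hp hq2 hp2 hqd hpd]; exact dvd_mul_left p 2
  have hPexp : ∀ x : (P : Subgroup G), x ^ p = 1 := by
    intro x
    obtain ⟨j, hj⟩ := P.isPGroup' x
    obtain ⟨i, -, hi⟩ := (Nat.dvd_prime_pow hp).mp (orderOf_dvd_of_pow_eq_one hj)
    refine orderOf_dvd_iff_pow_eq_one.mp ?_
    rw [hi]
    refine dvd_trans (pow_dvd_pow p ?_) (pow_one p).dvd
    by_contra hle
    exact hsq p hp hp2 (x : G) (by rw [Subgroup.orderOf_coe, hi]; exact pow_dvd_pow p (by omega))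
  have hcard : Nat.card G = 2 * Nat.card (P : Subgroup G) := by
    refine Nat.eq_of_factorization_eq Nat.card_pos.ne' (mul_ne_zero two_ne_zero Nat.card_pos.ne') fun q => ?_
    rw [P.card_eq_multiplicity, Nat.factorization_mul two_ne_zero (pow_ne_zero _ hp.ne_zero),
      Nat.prime_two.factorization, hp.factorization_pow]
    simp only [Finsupp.coe_add, Pi.add_apply, Finsupp.single_apply]
    rcases eq_or_ne q 2 with rfl | hq2
    · have h8 := S.card_eq_multiplicity
      rw [hS] at h8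
      have h9 := Nat.pow_right_injective le_rfl ((pow_one 2).trans h8)
      rw [if_pos rfl, if_neg hp2]; omega
    · rcases eq_or_ne q p with rfl | hqp
      · simp [Ne.symm hq2]
      · rw [if_neg (Ne.symm hq2), if_neg (Ne.symm hqp), add_zero]
        by_contra h0
        have hq : q.Prime := Nat.prime_of_mem_primeFactors (Nat.support_factorization _ ▸ Finsupp.mem_support_iff.mpr h0)
        exact hqp (hone q p hq hp hq2 hp2 (Nat.dvd_of_factorization_pos h0) hpd)
  obtain ⟨Q, _, _, ⟨eQ⟩⟩ := exists_shrink (P := (P : Subgroup G))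
  refine Or.inr (Or.inr (Or.inr ⟨p, Q, inferInstance, inferInstance, hp, hp2,
    P.isPGroup'.of_equiv eQ.symm, ?_, ?_⟩))
  · rw [Monoid.exponent_eq_of_mulEquiv eQ]
    obtain ⟨u, hu⟩ := exists_prime_orderOf_dvd_card' (G := (P : Subgroup G)) p (P.dvd_card_of_dvd_card hpd)
    exact Nat.dvd_antisymm (Monoid.exponent_dvd_of_forall_pow_eq_one hPexp) (hu.symm.dvd.trans (Monoid.order_dvd_exponent u))
  · let φ : Multiplicative (ZMod 2) →* G :=
      { toFun := fun i => t ^ i.toAdd.val
        map_one' := by simp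
        map_mul' := fun i j => by
          rw [← pow_add, pow_eq_pow_iff_modEq, ht, toAdd_mul, ZMod.val_add]
          exact Nat.mod_modEq _ _ }
    have hcomm : ∀ (i : Multiplicative (ZMod 2)) (x : (P : Subgroup G)), Commute (φ i) (x : G) := fun i x =>
      Commute.pow_left (mul_inv_eq_iff_eq_mul.mp (htc (x : G))).symm _
    let Φ := MonoidHom.noncommCoprod φ (P : Subgroup G).subtype hcomm
    have hΦ : Function.Injective Φ := by
      rw [← MonoidHom.ker_eq_bot_iff, Subgroup.eq_bot_iff_forall]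
      rintro ⟨i, x⟩ hix
      have hix' : t ^ i.toAdd.val * (x : G) = 1 := hix
      have h1 : (x : G) ^ 2 = 1 := by
        rw [show (x : G) = (t ^ i.toAdd.val)⁻¹ from eq_inv_of_mul_eq_one_right hix', inv_pow, ← pow_mul,
          mul_comm, pow_mul, show t ^ 2 = 1 by rw [← ht, pow_orderOf_eq_one], one_pow, inv_one]
      have hx1 : x = 1 := by
        refine orderOf_eq_one_iff.mp (Nat.eq_one_of_dvd_coprimes
          ((Nat.coprime_primes Nat.prime_two hp).mpr (Ne.symm hp2)) ?_ (orderOf_dvd_of_pow_eq_one (hPexp x)))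
        exact orderOf_dvd_of_pow_eq_one (Subtype.ext h1)
      subst hx1
      rw [OneMemClass.coe_one, mul_one, ← orderOf_dvd_iff_pow_eq_one, ht] at hix'
      have h2 : i.toAdd.val = 0 := Nat.eq_zero_of_dvd_of_lt hix' (ZMod.val_lt _)
      exact Prod.ext (toAdd_eq_zero.mp ((ZMod.val_eq_zero _).mp h2)) rfl
    have hbij : Function.Bijective Φ := (Nat.bijective_iff_injective_and_card Φ).mpr ⟨hΦ, by
      rw [Nat.card_prod, hcard]; congr 1; simp [Nat.card_eq_fintype_card]⟩
    exact ⟨(MulEquiv.ofBijective Φ hbij).symm.trans (MulEquiv.prodCongr (MulEquiv.refl _) eQ.symm)⟩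

end Cfsg.Agent.S3995
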