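import Cfsg.Statements.S3996
import Cfsg.Agent.S0144
import Cfsg.Agent.Lib.Frobenius.Divisibility

set_option autoImplicit false
open Cfsg

namespace Cfsg.Agent.S3996

open Finset

variable {G : Type*} [Group G]

/-- The number of elements of a given order. -/
noncomputable def cnt (G : Type*) [Group G] (d : ℕ) : ℕ := Nat.card {g : G // orderOf g = d}

theorem exists_of_cnt_ne {d : ℕ} (h : cnt G d ≠ 0) : ∃ g : G, orderOf g = d := by
  obtain ⟨g, hg⟩ := (Nat.card_ne_zero.1 h).1
  exact ⟨g, hg⟩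

theorem cnt_one : cnt G 1 = 1 :=
  Nat.card_eq_one_iff_unique.2 ⟨⟨fun x y => Subtype.ext
    ((orderOf_eq_one_iff.1 x.2).trans (orderOf_eq_one_iff.1 y.2).symm)⟩, ⟨⟨1, orderOf_one⟩⟩⟩

theorem sum_prime_mul {p m : ℕ} (hp : p.Prime) (hm : 0 < m) (h : ¬ p ∣ m) (f : ℕ → ℕ) :
    ∑ d ∈ (p * m).divisors, f d = ∑ d ∈ m.divisors, f d + ∑ d ∈ m.divisors, f (p * d) := by
  have he : (p * m).divisors = m.divisors ∪ m.divisors.image (p * ·) := by
    ext d
    simp only [Finset.mem_union, Nat.mem_divisors, Finset.mem_image, ne_eq]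
    refine ⟨fun hd => ?_, ?_⟩
    · by_cases hpd : p ∣ d
      · obtain ⟨e, rfl⟩ := hpd
        exact Or.inr ⟨e, ⟨Nat.dvd_of_mul_dvd_mul_left hp.pos hd.1, hm.ne'⟩, rfl⟩
      · exact Or.inl ⟨((hp.coprime_iff_not_dvd.2 hpd).symm).dvd_of_dvd_mul_left hd.1, hm.ne'⟩
    · rintro (⟨hd, -⟩ | ⟨e, ⟨he, -⟩, rfl⟩)
      · exact ⟨hd.mul_left p, (Nat.mul_pos hp.pos hm).ne'⟩
      · exact ⟨Nat.mul_dvd_mul_left p he, (Nat.mul_pos hp.pos hm).ne'⟩
  have hdisj : Disjoint m.divisors (m.divisors.image (p * ·)) := by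
    rw [Finset.disjoint_left]
    intro d hd hd'
    obtain ⟨e, -, rfl⟩ := Finset.mem_image.1 hd'
    exact h ((dvd_mul_right p e).trans (Nat.mem_divisors.1 hd).1)
  rw [he, Finset.sum_union hdisj, Finset.sum_image fun x _ y _ e => Nat.eq_of_mul_eq_mul_left hp.pos e]

theorem sum_prime {p : ℕ} (hp : p.Prime) (f : ℕ → ℕ) : ∑ d ∈ p.divisors, f d = f 1 + f p := by
  rw [hp.divisors, Finset.sum_pair hp.one_lt.ne]

variable [Finite G]

theorem card_pow_eq_sum {m : ℕ} (hm : 0 < m) :
    Nat.card {g : G // g ^ m = 1} = ∑ d ∈ m.divisors, cnt G d := by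
  classical
  have := Fintype.ofFinite G
  simp only [cnt, Nat.card_eq_fintype_card, Fintype.card_subtype]
  rw [Finset.card_eq_sum_card_fiberwise (f := orderOf) (t := m.divisors) fun g hg =>
    Nat.mem_divisors.2 ⟨orderOf_dvd_of_pow_eq_one (Finset.mem_filter.1 hg).2, hm.ne'⟩]
  refine Finset.sum_congr rfl fun d hd => ?_
  congr 1
  ext g
  simp only [Finset.mem_filter, Finset.mem_univ, true_and, and_iff_right_iff_imp]
  exact fun e => orderOf_dvd_iff_pow_eq_one.1 (e ▸ (Nat.mem_divisors.1 hd).1)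

/-- Frobenius' congruence, read on the numbers of elements of each order. -/
theorem dvd_sum {m : ℕ} (hm : m ∣ Nat.card G) : m ∣ ∑ d ∈ m.divisors, cnt G d := by
  rw [← card_pow_eq_sum (Nat.pos_of_dvd_of_pos hm Nat.card_pos)]
  exact CfsgLib.Frobenius.Divisibility.dvd_card_pow_eq_one hm

theorem cast_sum {p m : ℕ} (hm : m ∣ Nat.card G) (hp : p ∣ m) :
    ((∑ d ∈ m.divisors, cnt G d : ℕ) : ZMod p) = 0 :=
  (ZMod.natCast_eq_zero_iff _ _).2 (hp.trans (dvd_sum hm))

theorem even_cnt {d : ℕ} (hd : 2 < d) : 2 ∣ cnt G d :=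
  (even_iff_two_dvd.1 (Nat.totient_even hd)).trans
    (CfsgLib.Frobenius.Divisibility.totient_dvd_card d)

theorem cnt_prime_ne {p : ℕ} (hp : p.Prime) (h : p ∣ Nat.card G) : cnt G p ≠ 0 := by
  have := Fact.mk hp
  obtain ⟨x, hx⟩ := exists_prime_orderOf_dvd_card' p h
  exact Nat.card_ne_zero.2 ⟨⟨⟨x, hx⟩⟩, inferInstance⟩

theorem cast_prime {p : ℕ} (hp : p.Prime) (h : p ∣ Nat.card G) :
    (1 : ZMod p) + (cnt G p : ZMod p) = 0 := by
  have := cast_sum (G := G) h dvd_rfl
  rw [sum_prime hp, cnt_one] at this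
  exact_mod_cast this

/-- Without elements of order `p * m`, an element of order `p` permutes those of order `m`
without fixed points. -/
theorem dvd_cnt_of_none {p m : ℕ} (hp : p.Prime) (hpG : p ∣ Nat.card G) (hpm : ¬ p ∣ m)
    (h : cnt G (p * m) = 0) : p ∣ cnt G m := by
  have := Fact.mk hp
  obtain ⟨x, hx⟩ := exists_prime_orderOf_dvd_card' p hpG
  let act : MulAction (Subgroup.zpowers x) {g : G // orderOf g = m} :=
    { smul := fun u g => ⟨(u : G) * g * (u : G)⁻¹, by
        rw [← MulAut.conj_apply, MulEquiv.orderOf_eq, g.2]⟩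
      one_smul := fun g => Subtype.ext (by
        show ((1 : Subgroup.zpowers x) : G) * g * ((1 : Subgroup.zpowers x) : G)⁻¹ = g
        simp)
      mul_smul := fun u v g => Subtype.ext (by
        show ((u * v : Subgroup.zpowers x) : G) * g * ((u * v : Subgroup.zpowers x) : G)⁻¹ =
          (u : G) * ((v : G) * g * (v : G)⁻¹) * (u : G)⁻¹
        simp [mul_assoc]) }
  have hP : IsPGroup p (Subgroup.zpowers x) :=
    IsPGroup.of_card (n := 1) (by rw [Nat.card_zpowers, hx, pow_one])
  have hfix : Nat.card (MulAction.fixedPoints (Subgroup.zpowers x) {g : G // orderOf g = m}) = 0 := by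
    rw [Nat.card_eq_zero]
    refine Or.inl ⟨fun ⟨g, hg⟩ => ?_⟩
    have e : x * g * x⁻¹ = g := congrArg Subtype.val (hg ⟨x, Subgroup.mem_zpowers x⟩)
    have hc : Commute x g := mul_inv_eq_iff_eq_mul.1 e
    have ho := hc.orderOf_mul_eq_mul_orderOf_of_coprime
      (by rw [hx, g.2]; exact hp.coprime_iff_not_dvd.2 hpm)
    rw [hx, g.2] at ho
    exact Nat.card_ne_zero.2 ⟨⟨⟨_, ho⟩⟩, inferInstance⟩ h
  have := IsPGroup.card_modEq_card_fixedPoints (p := p) hP {g : G // orderOf g = m}
  rw [hfix] at this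
  exact Nat.modEq_zero_iff_dvd.1 this

theorem two_ne {p : ℕ} (hp : p.Prime) (hp2 : p ≠ 2) : (2 : ZMod p) ≠ 0 := by
  intro h
  exact hp2 ((Nat.prime_dvd_prime_iff_eq hp Nat.prime_two).1
    ((ZMod.natCast_eq_zero_iff 2 p).1 (by exact_mod_cast h)))

/-- Every number of elements of an order above two is zero or one of two values. -/
def Vals (G : Type*) [Group G] (a b : ℕ) : Prop :=
  ∀ d, 2 < d → cnt G d = 0 ∨ cnt G d = a ∨ cnt G d = b

theorem Vals.symm {a b : ℕ} (h : Vals G a b) : Vals G b a := fun d hd => (h d hd).imp_right Or.symm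

theorem coprime_mul_dvd {p q : ℕ} (hp : p.Prime) (hq : q.Prime) (hpq : p ≠ q)
    (h1 : p ∣ Nat.card G) (h2 : q ∣ Nat.card G) : p * q ∣ Nat.card G :=
  ((Nat.coprime_primes hp hq).2 hpq).mul_dvd_of_dvd_of_dvd h1 h2

theorem two_lt_mul {p q : ℕ} (hp : p.Prime) (hq : q.Prime) : 2 < p * q :=
  lt_of_lt_of_le (by norm_num) (Nat.mul_le_mul hp.two_le hq.two_le)

theorem cast_pair {p q : ℕ} (hp : p.Prime) (hq : q.Prime) (hpq : p ≠ q)
    (h1 : p ∣ Nat.card G) (h2 : q ∣ Nat.card G) {r : ℕ} (hr : r ∣ p * q) :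
    (1 : ZMod r) + cnt G q + (cnt G p + cnt G (p * q)) = 0 := by
  have := cast_sum (G := G) (coprime_mul_dvd hp hq hpq h1 h2) hr
  rw [sum_prime_mul hp hq.pos (fun e => hpq ((Nat.prime_dvd_prime_iff_eq hp hq).1 e)),
    sum_prime hq, sum_prime hq, mul_one, cnt_one] at this
  exact_mod_cast this

/-- Two odd primes with the same value force the other value on their product. -/
theorem same_pair {a b p q : ℕ} (hV : Vals G a b) (hp : p.Prime) (hq : q.Prime) (hpq : p ≠ q)
    (hp2 : p ≠ 2) (h1 : p ∣ Nat.card G) (h2 : q ∣ Nat.card G) (ha : cnt G p = a)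
    (ha' : cnt G q = a) : cnt G (p * q) = b ∧ (b : ZMod p) = 1 := by
  have e1 := cast_prime hp h1
  have e2 := cast_pair hp hq hpq h1 h2 (dvd_mul_right p q)
  rw [ha] at e1
  rw [ha, ha'] at e2
  rcases hV _ (two_lt_mul hp hq) with h | h | h
  · exfalso
    have := Fact.mk hp
    have h3 : ((cnt G q : ℕ) : ZMod p) = 0 := (ZMod.natCast_eq_zero_iff _ _).2
      (dvd_cnt_of_none hp h1 (fun e => hpq ((Nat.prime_dvd_prime_iff_eq hp hq).1 e)) h)
    rw [ha'] at h3
    rw [h3, add_zero] at e1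
    exact one_ne_zero e1
  · exfalso
    rw [h] at e2
    exact two_ne hp hp2 (by linear_combination (-1) * e2 + 3 * e1)
  · refine ⟨h, ?_⟩
    rw [h] at e2
    linear_combination e2 - 2 * e1

/-- Two odd primes of one value and a third prime of the other cannot coexist. -/
theorem no_mixed {a b p q r : ℕ} (hV : Vals G a b) (hp : p.Prime) (hq : q.Prime) (hr : r.Prime)
    (hpq : p ≠ q) (hpr : p ≠ r) (hqr : q ≠ r) (hp2 : p ≠ 2) (hq2 : q ≠ 2) (h1 : p ∣ Nat.card G)
    (h2 : q ∣ Nat.card G) (h3 : r ∣ Nat.card G) (ha : cnt G p = a) (ha' : cnt G q = a)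
    (hb : cnt G r = b) : False := by
  obtain ⟨hpqb, hbp⟩ := same_pair hV hp hq hpq hp2 h1 h2 ha ha'
  obtain ⟨-, hbq⟩ := same_pair hV hq hp hpq.symm hq2 h2 h1 ha' ha
  have := Fact.mk hr
  have eb := cast_prime hr h3
  rw [hb] at eb
  have key : ∀ s : ℕ, s.Prime → s ≠ 2 → s ≠ r → s ∣ Nat.card G → cnt G s = a →
      (b : ZMod s) = 1 → cnt G (s * r) = a ∧ (a : ZMod r) = 0 := by
    intro s hs hs2 hsr h4 hsa hbs
    have := Fact.mk hs
    have es := cast_prime hs h4
    rw [hsa] at es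
    have e2 := cast_pair hs hr hsr h4 h3 (dvd_mul_right s r)
    rw [hsa, hb] at e2
    rcases hV _ (two_lt_mul hs hr) with h | h | h
    · exfalso
      have h5 : ((cnt G r : ℕ) : ZMod s) = 0 := (ZMod.natCast_eq_zero_iff _ _).2
        (dvd_cnt_of_none hs h4 (fun e => hsr ((Nat.prime_dvd_prime_iff_eq hs hr).1 e)) h)
      rw [hb, hbs] at h5
      exact one_ne_zero h5
    · refine ⟨h, ?_⟩
      by_cases hr2 : r = 2
      · subst hr2
        rw [← hsa]
        exact (ZMod.natCast_eq_zero_iff _ _).2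
          (even_cnt (lt_of_le_of_ne hs.two_le (Ne.symm hs2)))
      have e3 := cast_pair hs hr hsr h4 h3 (dvd_mul_left r s)
      rw [hsa, hb, h] at e3
      refine (mul_eq_zero.1 (?_ : (2 : ZMod r) * a = 0)).resolve_left (two_ne hr hr2)
      linear_combination e3 - eb
    · exfalso
      rw [h] at e2
      exact two_ne hs hs2 (by linear_combination e2 - es - 2 * hbs)
  obtain ⟨hpra, har⟩ := key p hp hp2 hpr h1 ha hbp
  obtain ⟨hqra, -⟩ := key q hq hq2 hqr h2 ha' hbq
  have hm : p * (q * r) ∣ Nat.card G := by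
    refine Nat.Coprime.mul_dvd_of_dvd_of_dvd ?_ h1 (coprime_mul_dvd hq hr hqr h2 h3)
    exact Nat.Coprime.mul_right ((Nat.coprime_primes hp hq).2 hpq) ((Nat.coprime_primes hp hr).2 hpr)
  have hnd : ¬ p ∣ q * r := fun e => (hp.dvd_mul.1 e).elim
    (fun h => hpq ((Nat.prime_dvd_prime_iff_eq hp hq).1 h))
    (fun h => hpr ((Nat.prime_dvd_prime_iff_eq hp hr).1 h))
  have hnq : ¬ q ∣ r := fun e => hqr ((Nat.prime_dvd_prime_iff_eq hq hr).1 e)
  have hsum : ∀ s : ℕ, s ∣ p * (q * r) →
      (1 : ZMod s) + b + (a + a) + (a + a + (b + cnt G (p * (q * r)))) = 0 := by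
    intro s hs
    have := cast_sum (G := G) hm hs
    rw [sum_prime_mul hp (Nat.mul_pos hq.pos hr.pos) hnd, sum_prime_mul hq hr.pos hnq,
      sum_prime_mul hq hr.pos hnq, sum_prime hr, sum_prime hr, sum_prime hr, sum_prime hr] at this
    simp only [mul_one, cnt_one, hb, ha, ha', hqra, hpra, hpqb] at this
    exact_mod_cast this
  have ep := hsum p (dvd_mul_right _ _)
  have er := hsum r ((dvd_mul_left r q).mul_left p)
  have ea := cast_prime hp h1
  rw [ha] at ea
  have h2lt : 2 < p * (q * r) := lt_of_lt_of_le (two_lt_mul hq hr) (Nat.le_mul_of_pos_left _ hp.pos)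
  rcases hV _ h2lt with h | h | h
  · have hnr : ¬ r ∣ p * q := fun e => (hr.dvd_mul.1 e).elim
      (fun h => hpr ((Nat.prime_dvd_prime_iff_eq hr hp).1 h).symm)
      (fun h => hqr ((Nat.prime_dvd_prime_iff_eq hr hq).1 h).symm)
    have h4 : ((cnt G (p * q) : ℕ) : ZMod r) = 0 := (ZMod.natCast_eq_zero_iff _ _).2
      (dvd_cnt_of_none hr h3 hnr (by rwa [show r * (p * q) = p * (q * r) by ring]))
    rw [hpqb] at h4
    rw [h4, add_zero] at eb
    exact one_ne_zero eb
  · rw [h] at ep
    exact two_ne hp hp2 (by linear_combination (-1) * ep + 5 * ea + 2 * hbp)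
  · rw [h] at er
    by_cases hr2 : r = 2
    · subst hr2
      have h4 : ((cnt G (p * (q * 2)) : ℕ) : ZMod 2) = 0 :=
        (ZMod.natCast_eq_zero_iff _ _).2 (even_cnt h2lt)
      rw [h] at h4
      rw [h4, add_zero] at eb
      exact one_ne_zero eb
    · exact two_ne hr hr2 (by linear_combination (-1) * er + 4 * har + 3 * eb)

theorem exists_third (hns : ¬ Group.IsSolvable G) {p q : ℕ} (hp : p.Prime) (hq : q.Prime) :
    ∃ r, r.Prime ∧ r ∣ Nat.card G ∧ r ≠ p ∧ r ≠ q := by
  by_contra hno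
  push Not at hno
  refine hns ?_
  rcases eq_or_ne p q with rfl | hpq
  · have hsub : (Nat.card G).primeFactors ⊆ {p} := fun r hr => by
      obtain ⟨hr1, hr2, -⟩ := Nat.mem_primeFactors.1 hr
      rw [Finset.mem_singleton]
      exact by_contra fun e => e (hno r hr1 hr2 e)
    have hfac := Nat.prod_factorization_pow_eq_self (n := Nat.card G) Nat.card_pos.ne'
    rw [Finsupp.prod_of_support_subset (s := {p}) _ (by rwa [Nat.support_factorization]) _
      (fun i _ => pow_zero i), Finset.prod_singleton] at hfac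
    exact Cfsg.Agent.S0144.isSolvable p p hp hp _ G rfl ((Nat.card G).factorization p) 0 (by rw [pow_zero, mul_one]; exact hfac.symm)
  · have hsub : (Nat.card G).primeFactors ⊆ {p, q} := fun r hr => by
      obtain ⟨hr1, hr2, -⟩ := Nat.mem_primeFactors.1 hr
      rw [Finset.mem_insert, Finset.mem_singleton]
      exact or_iff_not_imp_left.2 (hno r hr1 hr2)
    have hfac := Nat.prod_factorization_pow_eq_self (n := Nat.card G) Nat.card_pos.ne'
    rw [Finsupp.prod_of_support_subset (s := {p, q}) _ (by rwa [Nat.support_factorization]) _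
      (fun i _ => pow_zero i), Finset.prod_pair hpq] at hfac
    exact Cfsg.Agent.S0144.isSolvable p q hp hq _ G rfl _ _ hfac.symm

/-- A group of odd order with two values is solvable. -/
theorem solvable_of_odd {a b : ℕ} (hV : Vals G a b) (hodd : ¬ 2 ∣ Nat.card G) :
    Group.IsSolvable G := by
  by_contra hns
  have hne2 : ∀ {s : ℕ}, s ∣ Nat.card G → s ≠ 2 := fun h e => hodd (e ▸ h)
  have hcnt : ∀ {s : ℕ}, s.Prime → s ∣ Nat.card G → cnt G s = a ∨ cnt G s = b := fun hs h =>
    (hV _ (lt_of_le_of_ne hs.two_le (hne2 h).symm)).resolve_left (cnt_prime_ne hs h)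
  obtain ⟨p, hp, h1, -, -⟩ := exists_third hns Nat.prime_two Nat.prime_two
  wlog hpa : cnt G p = a generalizing a b
  · exact this hV.symm (fun hs h => (hcnt hs h).symm) ((hcnt hp h1).resolve_left hpa)
  have hall : ∀ s : ℕ, s.Prime → s ∣ Nat.card G → cnt G s = a := by
    intro s hs h2
    by_contra hsa
    have hsb := (hcnt hs h2).resolve_left hsa
    have hps : p ≠ s := fun e => hsa (e ▸ hpa)
    obtain ⟨t, ht, h3, htp, hts⟩ := exists_third hns hp hs
    rcases hcnt ht h3 with hta | htb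
    · exact no_mixed hV hp ht hs htp.symm hps hts (hne2 h1) (hne2 h3) h1 h3 h2 hpa hta hsb
    · exact no_mixed hV.symm hs ht hp hts.symm hps.symm htp (hne2 h2) (hne2 h3) h2 h3 h1 hsb htb hpa
  have hexp : ∀ s : ℕ, s.Prime → s ∣ Nat.card G → cnt G (s ^ 2) = 0 := by
    intro s hs h2
    have := Fact.mk hs
    obtain ⟨t, ht, h3, hts, -⟩ := exists_third hns hs hs
    obtain ⟨-, hb1⟩ := same_pair hV hs ht hts.symm (hne2 h2) h2 h3 (hall s hs h2) (hall t ht h3)
    have hdvd : ((cnt G (s ^ 2) : ℕ) : ZMod s) = 0 := (ZMod.natCast_eq_zero_iff _ _).2 (by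
      refine (?_ : s ∣ Nat.totient (s ^ 2)).trans
        (CfsgLib.Frobenius.Divisibility.totient_dvd_card _)
      rw [Nat.totient_prime_pow hs (by norm_num)]
      simp)
    have es := cast_prime hs h2
    rw [hall s hs h2] at es
    rcases hV _ (lt_of_lt_of_le (by norm_num) (Nat.pow_le_pow_left hs.two_le 2)) with h | h | h
    · exact h
    · rw [h] at hdvd
      rw [hdvd, add_zero] at es
      exact absurd es one_ne_zero
    · rw [h, hb1] at hdvd
      exact absurd hdvd one_ne_zero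
  have hdiv : Nat.card G ∣ 1 + a := by
    refine (Nat.dvd_iff_prime_pow_dvd_dvd _ _).2 fun s k hs hsk => ?_
    rcases Nat.eq_zero_or_pos k with rfl | hk
    · simp
    have h2 : s ∣ Nat.card G := (dvd_pow_self s hk.ne').trans hsk
    have e : Nat.card {g : G // g ^ (s ^ k) = 1} = 1 + a := by
      rw [card_pow_eq_sum (pow_pos hs.pos k), Nat.sum_divisors_prime_pow hs,
        show k + 1 = (k - 1) + 1 + 1 by omega, Finset.sum_range_succ', Finset.sum_range_succ']
      rw [pow_zero, cnt_one, pow_one, hall s hs h2, Finset.sum_eq_zero, zero_add, add_comm]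
      intro i _
      by_contra hi
      obtain ⟨g, hg⟩ := exists_of_cnt_ne hi
      have h4 : orderOf (g ^ (s ^ i)) = s ^ 2 := by
        rw [orderOf_pow' _ (pow_pos hs.pos i).ne', hg, Nat.gcd_eq_right (pow_dvd_pow s (by omega)),
          Nat.pow_div (by omega) hs.pos]
        congr 1
        omega
      exact Nat.card_ne_zero.2 ⟨⟨⟨_, h4⟩⟩, inferInstance⟩ (hexp s hs h2)
    rw [← e]
    exact CfsgLib.Frobenius.Divisibility.dvd_card_pow_eq_one hsk
  obtain ⟨q, hq, h2, hqp, -⟩ := exists_third hns hp hp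
  have hle : ∑ d ∈ (p * q).divisors, cnt G d ≤ Nat.card G := by
    rw [← card_pow_eq_sum (Nat.mul_pos hp.pos hq.pos)]
    exact Nat.card_le_card_of_injective _ Subtype.val_injective
  rw [sum_prime_mul hp hq.pos (fun e => hqp ((Nat.prime_dvd_prime_iff_eq hp hq).1 e).symm),
    sum_prime hq, sum_prime hq, mul_one, cnt_one, hall p hp h1, hall q hq h2] at hle
  have ha0 : a ≠ 0 := hall p hp h1 ▸ cnt_prime_ne hp h1
  have := Nat.le_of_dvd (by omega) hdiv
  omega

/-- A group with a single involution and an element of order four. -/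
theorem no_single_involution {a b p q : ℕ} (hV : Vals G a b) (h4 : cnt G 4 = a)
    (hz : cnt G 2 = 1) (h4G : 4 ∣ Nat.card G) (hp : p.Prime) (hq : q.Prime) (hpq : p ≠ q)
    (hp2 : p ≠ 2) (hq2 : q ≠ 2) (h1 : p ∣ Nat.card G) (h2 : q ∣ Nat.card G)
    (hdouble : ∀ d, ¬ 2 ∣ d → cnt G (2 * d) = cnt G d) (hpa : cnt G p = a ∨ cnt G q = b) :
    False := by
  have := Fact.mk hp
  have := Fact.mk hq
  have ha4 : ¬ 4 ∣ a := by
    intro h
    have h0 := dvd_sum (G := G) h4G
    rw [show Nat.divisors 4 = {1, 2, 4} by decide, Finset.sum_insert (by decide),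
      Finset.sum_pair (by decide), cnt_one, hz, h4] at h0
    omega
  have hb : ∀ d, 2 < d → 4 ∣ d.totient → cnt G d = 0 ∨ cnt G d = b := by
    intro d hd h
    rcases hV d hd with e | e | e
    · exact Or.inl e
    · exact absurd (e ▸ h.trans (CfsgLib.Frobenius.Divisibility.totient_dvd_card d)) ha4
    · exact Or.inr e
  have hev : ∀ {s : ℕ}, s.Prime → s ≠ 2 → 2 ∣ s.totient := fun hs h =>
    even_iff_two_dvd.1 (Nat.totient_even (lt_of_le_of_ne hs.two_le h.symm))
  have hodd : ∀ {s : ℕ}, s.Prime → s ≠ 2 → ¬ 2 ∣ s := fun hs h e =>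
    h ((Nat.prime_dvd_prime_iff_eq Nat.prime_two hs).1 e).symm
  have hnd4 : ∀ {s : ℕ}, s.Prime → s ≠ 2 → ¬ s ∣ 4 := fun hs h e =>
    h ((Nat.prime_dvd_prime_iff_eq hs Nat.prime_two).1
      (hs.dvd_of_dvd_pow (show _ ∣ 2 ^ 2 from e)))
  have hpqb : cnt G (p * q) = 0 ∨ cnt G (p * q) = b := hb _ (two_lt_mul hp hq) (by
    rw [Nat.totient_mul ((Nat.coprime_primes hp hq).2 hpq), show (4 : ℕ) = 2 * 2 from rfl]
    exact Nat.mul_dvd_mul (hev hp hp2) (hev hq hq2))
  -- the orders four times a prime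
  have h4s : ∀ s : ℕ, s.Prime → s ≠ 2 → s ∣ Nat.card G → cnt G s = a →
      cnt G (s * 4) = b ∧ (b : ZMod s) = 1 := by
    intro s hs hs2 h3 hsa
    have := Fact.mk hs
    have es := cast_prime hs h3
    rw [hsa] at es
    have hcop : s.Coprime 4 := hs.coprime_iff_not_dvd.2 (hnd4 hs hs2)
    have hsum := cast_sum (G := G) (hcop.mul_dvd_of_dvd_of_dvd h3 h4G) (dvd_mul_right s 4)
    rw [sum_prime_mul hs (by norm_num) (hnd4 hs hs2), show Nat.divisors 4 = {1, 2, 4} by decide,
      Finset.sum_insert (by decide), Finset.sum_pair (by decide), Finset.sum_insert (by decide),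
      Finset.sum_pair (by decide), mul_one, cnt_one, hz, h4, hsa, mul_comm s 2,
      hdouble s (hodd hs hs2), hsa] at hsum
    have h24 : 2 < s * 4 := by have := hs.two_le; omega
    rcases hb _ h24 (by
        rw [Nat.totient_mul hcop]
        exact Nat.mul_dvd_mul (hev hs hs2) (dvd_of_eq rfl)) with h | h
    · exfalso
      have h5 : ((cnt G 4 : ℕ) : ZMod s) = 0 := (ZMod.natCast_eq_zero_iff _ _).2
        (dvd_cnt_of_none hs h3 (hnd4 hs hs2) h)
      rw [h4] at h5
      rw [h5, add_zero] at es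
      exact one_ne_zero es
    · refine ⟨h, ?_⟩
      rw [h] at hsum
      push_cast at hsum
      linear_combination hsum - 3 * es
  have hcp : cnt G p = a ∨ cnt G p = b :=
    (hV _ (lt_of_le_of_ne hp.two_le hp2.symm)).resolve_left (cnt_prime_ne hp h1)
  have hcq : cnt G q = a ∨ cnt G q = b :=
    (hV _ (lt_of_le_of_ne hq.two_le hq2.symm)).resolve_left (cnt_prime_ne hq h2)
  rcases hcp with hpa' | hpb
  · obtain ⟨h4p, hbp⟩ := h4s p hp hp2 h1 hpa'
    rcases hcq with hqa | hqb
    · -- both of the first value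
      obtain ⟨hpqb', -⟩ := same_pair hV hp hq hpq hp2 h1 h2 hpa' hqa
      obtain ⟨h4q, hbq⟩ := h4s q hq hq2 h2 hqa
      have hnd : ¬ p ∣ q * 4 := fun e => (hp.dvd_mul.1 e).elim
        (fun h => hpq ((Nat.prime_dvd_prime_iff_eq hp hq).1 h)) (hnd4 hp hp2)
      have hnq : ¬ q ∣ p * 4 := fun e => (hq.dvd_mul.1 e).elim
        (fun h => hpq ((Nat.prime_dvd_prime_iff_eq hq hp).1 h).symm) (hnd4 hq hq2)
      have hcq4 : q.Coprime 4 := hq.coprime_iff_not_dvd.2 (hnd4 hq hq2)
      have hcp4 : p.Coprime (q * 4) := hp.coprime_iff_not_dvd.2 hnd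
      have hodd2 : ¬ 2 ∣ p * q := fun e => (Nat.prime_two.dvd_mul.1 e).elim (hodd hp hp2) (hodd hq hq2)
      have hsum := cast_sum (G := G)
        (hcp4.mul_dvd_of_dvd_of_dvd h1 (hcq4.mul_dvd_of_dvd_of_dvd h2 h4G)) (dvd_mul_right p _)
      rw [sum_prime_mul hp (by have := hq.pos; omega) hnd,
        sum_prime_mul hq (by norm_num) (hnd4 hq hq2),
        sum_prime_mul hq (by norm_num) (hnd4 hq hq2)] at hsum
      simp only [show Nat.divisors 4 = {1, 2, 4} by decide,
        Finset.sum_insert (by decide : (1 : ℕ) ∉ ({2, 4} : Finset ℕ)),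
        Finset.sum_pair (by decide : (2 : ℕ) ≠ 4), mul_one] at hsum
      rw [show p * (q * 2) = 2 * (p * q) by ring, hdouble _ hodd2, mul_comm q 2,
        hdouble q (hodd hq hq2), mul_comm p 2, hdouble p (hodd hp hp2), cnt_one, hz, h4, hpa', hqa,
        h4p, h4q, hpqb'] at hsum
      have es := cast_prime hp h1
      rw [hpa'] at es
      rcases hb _ (by nlinarith [hp.two_le, hq.two_le] : 2 < p * (q * 4)) (by
          rw [Nat.totient_mul hcp4, Nat.totient_mul hcq4]
          exact Dvd.dvd.trans (Nat.mul_dvd_mul (hev hp hp2) (hev hq hq2))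
            (dvd_mul_right _ (Nat.totient 4) |>.trans (dvd_of_eq (mul_assoc _ _ _)))) with h | h
      · have h5 : ((cnt G (p * 4) : ℕ) : ZMod q) = 0 := (ZMod.natCast_eq_zero_iff _ _).2
          (dvd_cnt_of_none hq h2 hnq (by rwa [show q * (p * 4) = p * (q * 4) by ring]))
        rw [h4p, hbq] at h5
        exact one_ne_zero h5
      · rw [h] at hsum
        push_cast at hsum
        exact two_ne hp hp2 (by linear_combination hsum - 5 * es - 5 * hbp)
    · -- mixed
      have h5 : (b : ZMod p) = 0 := by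
        rcases hpqb with h | h
        · rw [← hqb]
          exact (ZMod.natCast_eq_zero_iff _ _).2
            (dvd_cnt_of_none hp h1 (fun e => hpq ((Nat.prime_dvd_prime_iff_eq hp hq).1 e)) h)
        · have e2 := cast_pair hp hq hpq h1 h2 (dvd_mul_right p q)
          have es := cast_prime hp h1
          rw [hpa'] at es
          rw [hpa', hqb, h] at e2
          exact (mul_eq_zero.1 (by linear_combination e2 - es : (2 : ZMod p) * b = 0)).resolve_left
            (two_ne hp hp2)
      exact one_ne_zero (hbp.symm.trans h5)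
  · -- both of the second value
    have hqb : cnt G q = b := hpa.elim (fun h => by
      rcases hcq with hqa | hqb
      · exact hqa.trans (h.symm.trans hpb)
      · exact hqb) id
    have e2 := cast_pair hp hq hpq h1 h2 (dvd_mul_right p q)
    have es := cast_prime hp h1
    rw [hpb] at es
    rw [hpb, hqb] at e2
    rcases hpqb with h | h
    · have h5 : ((cnt G q : ℕ) : ZMod p) = 0 := (ZMod.natCast_eq_zero_iff _ _).2
        (dvd_cnt_of_none hp h1 (fun e => hpq ((Nat.prime_dvd_prime_iff_eq hp hq).1 e)) h)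
      rw [hqb] at h5
      rw [h5, add_zero] at es
      exact one_ne_zero es
    · rw [h] at e2
      exact two_ne hp hp2 (by linear_combination (-1) * e2 + 3 * es)

theorem solvable_of_values {a b : ℕ} (hV : Vals G a b)
    (h2 : 2 ∣ Nat.card G → cnt G 2 = 1 ∨ cnt G 2 = a ∨ cnt G 2 = b) : Group.IsSolvable G := by
  by_cases heven : 2 ∣ Nat.card G
  swap
  · exact solvable_of_odd hV heven
  by_contra hns
  obtain ⟨p, hp, hp1, hp2, -⟩ := exists_third hns Nat.prime_two Nat.prime_two
  obtain ⟨q, hq, hq1, hq2, hqp⟩ := exists_third hns Nat.prime_two hp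
  have hcnt : ∀ {s : ℕ}, s.Prime → s ≠ 2 → s ∣ Nat.card G → cnt G s = a ∨ cnt G s = b :=
    fun hs hs2 h => (hV _ (lt_of_le_of_ne hs.two_le hs2.symm)).resolve_left (cnt_prime_ne hs h)
  have hodd2 : ¬ 2 ∣ cnt G 2 := by
    intro h
    have h0 := dvd_sum (G := G) heven
    rw [sum_prime Nat.prime_two, cnt_one] at h0
    omega
  rcases eq_or_ne (cnt G 2) 1 with hone | hne
  swap
  · rcases (h2 heven).resolve_left hne with ha | hb
    · have hv : ∀ {s : ℕ}, s.Prime → s ≠ 2 → s ∣ Nat.card G → cnt G s = b := fun {s} hs hs2 h =>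
        (hcnt hs hs2 h).resolve_left fun e => hodd2 (ha ▸ e ▸
          even_cnt (lt_of_le_of_ne hs.two_le hs2.symm))
      exact no_mixed hV.symm hp hq Nat.prime_two hqp.symm hp2 hq2 hp2 hq2 hp1 hq1 heven
        (hv hp hp2 hp1) (hv hq hq2 hq1) ha
    · have hv : ∀ {s : ℕ}, s.Prime → s ≠ 2 → s ∣ Nat.card G → cnt G s = a := fun {s} hs hs2 h =>
        (hcnt hs hs2 h).resolve_right fun e => hodd2 (hb ▸ e ▸
          even_cnt (lt_of_le_of_ne hs.two_le hs2.symm))
      exact no_mixed hV hp hq Nat.prime_two hqp.symm hp2 hq2 hp2 hq2 hp1 hq1 heven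
        (hv hp hp2 hp1) (hv hq hq2 hq1) hb
  -- a single involution
  obtain ⟨z, hz⟩ := exists_of_cnt_ne (show cnt G 2 ≠ 0 by rw [hone]; norm_num)
  have huniq : ∀ y : G, orderOf y = 2 → y = z := fun y hy =>
    congrArg Subtype.val ((Nat.card_eq_one_iff_unique.1 hone).1.elim
      (⟨y, hy⟩ : {g : G // orderOf g = 2}) ⟨z, hz⟩)
  have hzc : ∀ g : G, Commute z g := fun g => by
    have h : g * z * g⁻¹ = z := huniq _ (by
      rw [← MulAut.conj_apply, MulEquiv.orderOf_eq, hz])
    exact (mul_inv_eq_iff_eq_mul.1 h).symm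
  have hzz : z * z = 1 := by rw [← pow_two, ← hz, pow_orderOf_eq_one]
  have hcop : ∀ {g : G}, ¬ 2 ∣ orderOf g → orderOf (z * g) = 2 * orderOf g := fun hd => by
    rw [(hzc _).orderOf_mul_eq_mul_orderOf_of_coprime
      (by rw [hz]; exact Nat.prime_two.coprime_iff_not_dvd.2 hd), hz]
  have hdouble : ∀ d, ¬ 2 ∣ d → cnt G (2 * d) = cnt G d := by
    intro d hd
    refine (Nat.card_eq_of_bijective (fun g : {g : G // orderOf g = d} =>
      (⟨z * g, by rw [hcop (by rw [g.2]; exact hd), g.2]⟩ : {g : G // orderOf g = 2 * d})) ⟨?_, ?_⟩).symm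
    · exact fun g g' e => Subtype.ext (mul_left_cancel (congrArg Subtype.val e))
    · intro y
      have h1 : orderOf (y.1 ^ d) = 2 := by
        rw [orderOf_pow' _ (fun e => hd (by rw [e]; exact dvd_zero 2)), y.2, Nat.gcd_eq_right (dvd_mul_left d 2),
          Nat.mul_div_cancel _ (Nat.pos_of_ne_zero fun e => hd (by rw [e]; exact dvd_zero 2))]
      have h2' : (z * y.1) ^ d = 1 := by
        rw [(hzc _).mul_pow, huniq _ h1, show z ^ d = z by
          rw [← pow_mod_orderOf, hz, Nat.two_dvd_ne_zero.1 hd, pow_one], hzz]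
      have ho := orderOf_dvd_of_pow_eq_one h2'
      have hno : ¬ 2 ∣ orderOf (z * y.1) := fun e => hd (e.trans ho)
      have h3 := hcop hno
      rw [← mul_assoc, hzz, one_mul, y.2] at h3
      exact ⟨⟨z * y.1, (Nat.eq_of_mul_eq_mul_left two_pos h3).symm⟩,
        Subtype.ext (by show z * (z * y.1) = y.1; rw [← mul_assoc, hzz, one_mul])⟩
  by_cases h4G : 4 ∣ Nat.card G
  · have h4ne : cnt G 4 ≠ 0 := by
      intro h
      have h0 := dvd_sum (G := G) h4G
      rw [show Nat.divisors 4 = {1, 2, 4} by decide, Finset.sum_insert (by decide),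
        Finset.sum_pair (by decide), cnt_one, hone, h] at h0
      omega
    wlog ha4 : cnt G 4 = a generalizing a b
    · exact this hV.symm (fun h => (h2 h).imp_right Or.symm)
        (fun hs hs2 h => (hcnt hs hs2 h).symm)
        (((hV 4 (by norm_num)).resolve_left h4ne).resolve_left ha4)
    by_cases hcase : cnt G p = a ∨ cnt G q = b
    · exact no_single_involution hV ha4 hone h4G hp hq hqp.symm hp2 hq2 hp1 hq1 hdouble hcase
    · refine no_single_involution hV ha4 hone h4G hq hp hqp hq2 hp2 hq1 hp1 hdouble (Or.inl ?_)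
      push Not at hcase
      exact (hcnt hq hq2 hq1).resolve_right hcase.2
  -- the odd order elements form a normal complement
  set Z := Subgroup.zpowers z with hZ
  have hZn : Z.Normal := ⟨fun x hx g => by
    obtain ⟨i, rfl⟩ := hx
    show g * z ^ i * g⁻¹ ∈ Z
    rw [((hzc g).zpow_left i).symm.eq, mul_inv_cancel_right]
    exact ⟨i, rfl⟩⟩
  have hZ2 : Nat.card Z = 2 := by rw [hZ, Nat.card_zpowers, hz]
  have hidx : Z.index * 2 = Nat.card G := by
    have h := Z.card_mul_index
    rw [hZ2] at h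
    omega
  have hio : ¬ 2 ∣ Z.index := fun h => h4G (by rw [← hidx]; exact Nat.mul_dvd_mul h dvd_rfl)
  obtain ⟨K, hK⟩ := Subgroup.exists_right_complement'_of_coprime (N := Z)
    (by rw [hZ2]; exact Nat.prime_two.coprime_iff_not_dvd.2 hio)
  have hKc : Nat.card K = Z.index := by
    have h1 := hK.card_mul_card
    rw [← Z.card_mul_index] at h1
    exact Nat.eq_of_mul_eq_mul_left Nat.card_pos h1
  have hKsol : Group.IsSolvable K := by
    refine solvable_of_odd (a := a) (b := b) (fun d hd => ?_) (by rw [hKc]; exact hio)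
    by_cases hd2 : 2 ∣ d
    · left
      by_contra h
      obtain ⟨g, hg⟩ := exists_of_cnt_ne h
      exact hio (hKc ▸ hd2.trans (hg ▸ orderOf_dvd_natCard g))
    have hKi : K.index = 2 := by
      have h := K.card_mul_index
      rw [hKc, ← hidx] at h
      exact Nat.eq_of_mul_eq_mul_left (Nat.pos_of_ne_zero Subgroup.index_ne_zero_of_finite) h
    have hKn : K.Normal := Subgroup.normal_of_index_eq_two hKi
    have hmem : ∀ g : G, orderOf g = d → g ∈ K := fun g hg => by
      have h1 : orderOf (QuotientGroup.mk' K g) ∣ 2 := hKi ▸ orderOf_dvd_natCard _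
      have h2' : orderOf (QuotientGroup.mk' K g) ∣ d := hg ▸ orderOf_map_dvd _ g
      rcases (Nat.dvd_prime Nat.prime_two).1 h1 with h | h
      · exact (QuotientGroup.eq_one_iff g).1 (orderOf_eq_one_iff.1 h)
      · exact absurd (h ▸ h2') hd2
    have : cnt K d = cnt G d := Nat.card_eq_of_bijective
      (fun g : {g : K // orderOf g = d} =>
        (⟨g.1.1, (Subgroup.orderOf_coe g.1).trans g.2⟩ : {g : G // orderOf g = d}))
      ⟨fun g g' e => Subtype.ext (Subtype.ext (congrArg (fun v : {g : G // orderOf g = d} => v.1) e)), fun y =>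
        ⟨⟨⟨y.1, hmem _ y.2⟩, (Subgroup.orderOf_coe _).symm.trans y.2⟩, rfl⟩⟩
    rw [this]
    exact hV d hd
  have hKi : K.index = 2 := by
    have h := K.card_mul_index
    rw [hKc, ← hidx] at h
    exact Nat.eq_of_mul_eq_mul_left (Nat.pos_of_ne_zero Subgroup.index_ne_zero_of_finite) h
  have hKn : K.Normal := Subgroup.normal_of_index_eq_two hKi
  refine hns ((Group.isSolvable_iff_subgroup_quotient K).2 ⟨hKsol, ?_⟩)
  exact Cfsg.Agent.S0144.solvable_of_card_prime (by
    show (K.index).Prime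
    rw [hKi]; exact Nat.prime_two)


/-- A finite group in which the numbers of elements of each order that occurs (the numbers #{g : o(g) = m}, m ranging over the element orders) take exactly three different values is solvable. -/
theorem result {G : Type*} [Group G] [Finite G] (h : (((fun m : ℕ => Nat.card {g : G // orderOf g = m}) '' Set.range (orderOf : G → ℕ))).ncard = 3) : Group.IsSolvable G := by
  set V := (fun m : ℕ => Nat.card {g : G // orderOf g = m}) '' Set.range (orderOf : G → ℕ) with hV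
  have h1 : 1 ∈ V := ⟨1, ⟨1, orderOf_one⟩, cnt_one⟩
  obtain ⟨a, b, -, hab⟩ := Set.ncard_eq_two.1
    (show (V \ {1}).ncard = 2 by rw [Set.ncard_sdiff_singleton_of_mem h1, h])
  have hmem : ∀ d, cnt G d = 0 ∨ cnt G d = 1 ∨ cnt G d = a ∨ cnt G d = b := by
    intro d
    rcases eq_or_ne (cnt G d) 0 with h0 | h0
    · exact Or.inl h0
    rcases eq_or_ne (cnt G d) 1 with hd | hd
    · exact Or.inr (Or.inl hd)
    have hm : cnt G d ∈ V \ {1} := ⟨⟨d, exists_of_cnt_ne h0, rfl⟩, hd⟩
    rw [hab] at hm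
    exact Or.inr (Or.inr hm)
  refine solvable_of_values (a := a) (b := b) (fun d hd => ?_) (fun h2 => ?_)
  · exact (hmem d).imp_right fun h' => h'.resolve_left fun e => by
      have := even_cnt (G := G) hd
      omega
  · exact (hmem 2).resolve_left (cnt_prime_ne Nat.prime_two h2)

end Cfsg.Agent.S3996
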