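import Cfsg.Statements.S3997
-- import your own Cfsg.Agent.* helpers here

set_option autoImplicit false
open Cfsg

namespace Cfsg.Agent.S3997

/-- Let G and H be finite groups with the same order type: for every m they have the same number of elements of order m. If G is nilpotent then so is H. -/
theorem result {G H : Type*} [Group G] [Finite G] [Group H] [Finite H] (hT : (∀ m : ℕ, Nat.card {g : G // orderOf g = m} = Nat.card {h : H // orderOf h = m})) (hG : Group.IsNilpotent G) :
    Group.IsNilpotent H := by
  classical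
  have hcard : Nat.card G = Nat.card H := by
    haveI : Fintype G := Fintype.ofFinite G
    haveI : Fintype H := Fintype.ofFinite H
    set b := Nat.card G + Nat.card H + 1
    have hG' : Nat.card G = ∑ m ∈ Finset.range b, Nat.card {g : G // orderOf g = m} := by
      rw [Nat.card_eq_fintype_card, ← Finset.card_univ,
        Finset.card_eq_sum_card_fiberwise (t := Finset.range b) (f := orderOf) fun g _ =>
          Finset.mem_coe.mpr (Finset.mem_range.mpr (by
            have := orderOf_le_card (x := g); omega))]
      exact Finset.sum_congr rfl fun m _ => by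
        rw [Nat.card_eq_fintype_card, Fintype.card_subtype]
    have hH' : Nat.card H = ∑ m ∈ Finset.range b, Nat.card {g : H // orderOf g = m} := by
      rw [Nat.card_eq_fintype_card, ← Finset.card_univ,
        Finset.card_eq_sum_card_fiberwise (t := Finset.range b) (f := orderOf) fun g _ =>
          Finset.mem_coe.mpr (Finset.mem_range.mpr (by
            have := orderOf_le_card (x := g); omega))]
      exact Finset.sum_congr rfl fun m _ => by
        rw [Nat.card_eq_fintype_card, Fintype.card_subtype]
    rw [hG', hH']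
    exact Finset.sum_congr rfl fun m _ => hT m
  -- every subgroup of Sylow order is unique
  refine ((Group.isNilpotent_of_finite_tfae (G := H)).out 0 3).mpr ?_
  intro p _ S
  haveI := ((Group.isNilpotent_of_finite_tfae (G := G)).out 0 3).mp hG
  obtain ⟨T⟩ : Nonempty (Sylow p G) := inferInstance
  haveI := Sylow.unique_of_normal T (this p inferInstance T)
  have hTset : ∀ g : G, g ∈ (T : Subgroup G) ↔ ∃ k, orderOf g = p ^ k := by
    intro g
    refine ⟨fun hg => ?_, fun ⟨k, hk⟩ => ?_⟩
    · obtain ⟨k, hk⟩ := IsPGroup.iff_orderOf.mp T.isPGroup' ⟨g, hg⟩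
      exact ⟨k, by rw [← hk, Subgroup.orderOf_mk]⟩
    · obtain ⟨U, hU⟩ := (IsPGroup.iff_card.mpr ⟨k, by rw [Nat.card_zpowers, hk]⟩ :
        IsPGroup p ↥(Subgroup.zpowers g)).exists_le_sylow
      exact Subsingleton.elim U T ▸ hU (Subgroup.mem_zpowers g)
  have hequiv : ∀ m, Nonempty ({g : G // orderOf g = m} ≃ {h : H // orderOf h = m}) := fun m =>
    Nonempty.intro (Finite.equivFinOfCardEq (hT m) |>.trans (Finite.equivFin _).symm)
  let e : G ≃ H := (Equiv.sigmaFiberEquiv orderOf).symm.trans
    ((Equiv.sigmaCongrRight fun m => (hequiv m).some).trans (Equiv.sigmaFiberEquiv orderOf))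
  have he : ∀ g, orderOf (e g) = orderOf g := fun g => ((hequiv (orderOf g)).some ⟨g, rfl⟩).2
  have hpel : Nat.card {h : H // ∃ k, orderOf h = p ^ k} = Nat.card (S : Subgroup H) := by
    rw [S.card_eq_multiplicity, ← hcard, ← T.card_eq_multiplicity]
    exact (Nat.card_congr (e.subtypeEquiv fun g => by rw [hTset, he])).symm
  have hall : ∀ h : H, (∃ k, orderOf h = p ^ k) → h ∈ (S : Subgroup H) := by
    have hsub : ((S : Subgroup H) : Set H) ⊆ {h | ∃ k, orderOf h = p ^ k} := fun h hh => by
      obtain ⟨k, hk⟩ := IsPGroup.iff_orderOf.mp S.isPGroup' ⟨h, hh⟩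
      exact ⟨k, by rw [← hk, Subgroup.orderOf_mk]⟩
    have heq := Set.eq_of_subset_of_ncard_le hsub
      (by rw [← Nat.card_coe_set_eq, ← Nat.card_coe_set_eq]; exact hpel.le) (Set.toFinite _)
    exact fun h hh => (heq.symm ▸ hh : h ∈ ((S : Subgroup H) : Set H))
  refine ⟨fun s hs g => hall _ ?_⟩
  obtain ⟨k, hk⟩ := IsPGroup.iff_orderOf.mp S.isPGroup' ⟨s, hs⟩
  refine ⟨k, ?_⟩
  rw [← hk, Subgroup.orderOf_mk]
  exact orderOf_injective (MulAut.conj g).toMonoidHom (MulAut.conj g).injective s

end Cfsg.Agent.S3997
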