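import Cfsg.Statements.S3998
import Cfsg.Agent.Lib.Solvable.SupersolvableCriteria
import Cfsg.Agent.Lib.Coprime.SchurZassenhaus
import Cfsg.Agent.Lib.Solvable.Basic

set_option autoImplicit false
open Cfsg

namespace Cfsg.Agent.S3998

/-- Both groups have a normal Hall subgroup of the same order for the primes at least `b`. -/
def Tower (b : ℕ) (G H : Type*) [Group G] [Group H] : Prop :=
  ∃ n : ℕ, n ∣ Nat.card G ∧ n.Coprime (Nat.card G / n) ∧
    (∀ p : ℕ, p.Prime → p ∣ n → b ≤ p) ∧ (∀ p : ℕ, p.Prime → p ∣ Nat.card G / n → p < b) ∧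
    (∃ M : Subgroup G, M.Normal ∧ Nat.card M = n) ∧
    ∃ N : Subgroup H, N.Normal ∧ Nat.card N = n ∧ Group.IsSolvable N

theorem step {G H : Type*} [Group G] [Finite G] [Group H] [Finite H] (hG : Cfsg.IsSupersolvable G)
    (e : G ≃ H) (he : ∀ g, orderOf (e g) = orderOf g) (hcard : Nat.card G = Nat.card H) (q : ℕ)
    (h : Tower (q + 1) G H) : Tower q G H := by
  classical
  obtain ⟨n, hn, hco, hbig, hsmall, ⟨M, hM, hMc⟩, N, hN, hNc, hNs⟩ := h
  by_cases hq : q.Prime ∧ q ∣ Nat.card G / n
  swap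
  · refine ⟨n, hn, hco, fun p hp h => (Nat.le_succ q).trans (hbig p hp h), fun p hp h => ?_,
      ⟨M, hM, hMc⟩, N, hN, hNc, hNs⟩
    have := hsmall p hp h
    have hne : p ≠ q := fun e' => hq ⟨e' ▸ hp, e' ▸ h⟩
    omega
  obtain ⟨hq, hqd⟩ := hq
  have : Fact q.Prime := ⟨hq⟩
  set r := Nat.card G / n with hr
  have hnr : Nat.card G = n * r := (Nat.mul_div_cancel' hn).symm
  have hnpos : 0 < n := Nat.pos_of_dvd_of_pos hn Nat.card_pos
  have hrpos : 0 < r := Nat.div_pos (Nat.le_of_dvd Nat.card_pos hn) hnpos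
  set v := r.factorization q with hv
  have hqn : n.Coprime (q ^ v) := hco.coprime_dvd_right (Nat.ordProj_dvd r q)
  have hr' : r = q ^ v * (r / q ^ v) := (Nat.ordProj_mul_ordCompl_eq_self r q).symm
  have hqr : ¬ q ∣ r / q ^ v := Nat.not_dvd_ordCompl hq hrpos.ne'
  have hfac : (Nat.card G).factorization q = v := by
    rw [hnr, Nat.factorization_mul hnpos.ne' hrpos.ne', Finsupp.add_apply,
      Nat.factorization_eq_zero_of_not_dvd, zero_add]
    intro hd
    exact hq.not_dvd_one (hco ▸ Nat.dvd_gcd hd hqd)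
  -- the new normal subgroup on the supersolvable side
  have hQM : Nat.card (G ⧸ M) = r := by
    have h1 := M.card_eq_card_quotient_mul_card_subgroup
    rw [hMc, hnr, mul_comm n r] at h1
    exact (Nat.eq_of_mul_eq_mul_right hnpos h1).symm
  obtain ⟨P₀⟩ : Nonempty (Sylow q (G ⧸ M)) := inferInstance
  have hP₀ := CfsgLib.Solvable.SupersolvableCriteria.sylow_normal
    (CfsgLib.Solvable.Supersolvable.quotient M hG) (p := q) (fun p hp hpd => by
      rw [hQM] at hpd
      have := hsmall p hp hpd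
      omega) P₀
  set M₁ := (P₀ : Subgroup (G ⧸ M)).comap (QuotientGroup.mk' M) with hM₁def
  have hM₁ : M₁.Normal := hP₀.comap _
  have hM₁c : Nat.card M₁ = n * q ^ v := by
    rw [hM₁def, CfsgLib.Solvable.Basic.card_comap_mk, hMc, P₀.card_eq_multiplicity, hQM, mul_comm]
  have hM₁i : M₁.index = r / q ^ v := by
    have h1 := M₁.card_mul_index
    rw [hM₁c, hnr] at h1
    conv_rhs at h1 => rw [hr', ← mul_assoc]
    exact Nat.eq_of_mul_eq_mul_left (Nat.mul_pos hnpos (pow_pos hq.pos v)) h1
  have hcop : (n * q ^ v).Coprime (r / q ^ v) :=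
    Nat.Coprime.mul_left (hco.coprime_dvd_right (Nat.ordCompl_dvd r q))
      (Nat.Coprime.pow_left v (hq.coprime_iff_not_dvd.2 hqr))
  -- the solutions of `x ^ m = 1`
  have hsol : {x : G | orderOf x ∣ n * q ^ v} = (M₁ : Set G) := by
    ext x
    refine ⟨fun hx => ?_, fun hx => hM₁c ▸ Subgroup.orderOf_dvd_natCard M₁ hx⟩
    have h1 : orderOf (QuotientGroup.mk' M₁ x) ∣ r / q ^ v := by
      rw [← hM₁i, Subgroup.index_eq_card]; exact orderOf_dvd_natCard _
    exact (QuotientGroup.eq_one_iff x).1 (orderOf_eq_one_iff.1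
      (Nat.eq_one_of_dvd_coprimes hcop ((orderOf_map_dvd (QuotientGroup.mk' M₁) x).trans hx) h1))
  have hcount : Nat.card {y : H | orderOf y ∣ n * q ^ v} = n * q ^ v := by
    calc Nat.card {y : H | orderOf y ∣ n * q ^ v}
        = Nat.card {x : G | orderOf x ∣ n * q ^ v} :=
          (Nat.card_congr (e.subtypeEquiv fun g => by simp [he])).symm
      _ = Nat.card M₁ := congrArg (fun S : Set G => Nat.card S) hsol
      _ = n * q ^ v := hM₁c
  -- the new subgroup of `H`
  obtain ⟨Q⟩ : Nonempty (Sylow q H) := inferInstance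
  have hQc : Nat.card (Q : Subgroup H) = q ^ v := by
    rw [Q.card_eq_multiplicity, ← hcard, hfac]
  set S := N ⊔ (Q : Subgroup H) with hSdef
  have hSc : Nat.card S = n * q ^ v := by
    rw [hSdef, CfsgLib.Coprime.card_sup_of_le_normalizer (by rw [Subgroup.normalizer_eq_top N]; exact le_top)
      (Subgroup.inf_eq_bot_of_coprime (by rw [hNc, hQc]; exact hqn) |> disjoint_iff.2), hNc, hQc]
  have hSset : (S : Set H) = {y : H | orderOf y ∣ n * q ^ v} := by
    refine Set.eq_of_subset_of_ncard_le (fun y hy => hSc ▸ Subgroup.orderOf_dvd_natCard S hy) ?_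
      (Set.toFinite _)
    rw [← Nat.card_coe_set_eq, ← Nat.card_coe_set_eq, hcount]
    exact hSc.ge
  have hSn : S.Normal := ⟨fun y hy g => by
    rw [← SetLike.mem_coe, hSset] at hy ⊢
    show orderOf (g * y * g⁻¹) ∣ _
    rw [← MulAut.conj_apply, MulEquiv.orderOf_eq]; exact hy⟩
  have hSs : Group.IsSolvable S := by
    have : Group.IsSolvable N := hNs
    let f : S →* H ⧸ N := (QuotientGroup.mk' N).comp S.subtype
    have hker : Group.IsSolvable f.ker :=
      Group.isSolvable_of_isSolvable_injective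
        (f := (S.subtype.comp f.ker.subtype).codRestrict N fun x => by
          exact (QuotientGroup.eq_one_iff _).1 x.2)
        (fun a b hab => Subtype.ext (Subtype.ext (congrArg Subtype.val hab :)))
    have hrange : f.range = (Q : Subgroup H).map (QuotientGroup.mk' N) := by
      rw [MonoidHom.range_comp, Subgroup.range_subtype, hSdef, Subgroup.map_sup,
        (Subgroup.map_eq_bot_iff N).2 (QuotientGroup.ker_mk' N).ge, bot_sup_eq]
    have hrp : IsPGroup q f.range := hrange ▸ Q.isPGroup'.map _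
    have : Group.IsNilpotent f.range := hrp.isNilpotent
    exact Group.isSolvable_of_ker_le_range f.ker.subtype f.rangeRestrict
      (by rw [MonoidHom.ker_rangeRestrict, Subgroup.range_subtype])
  refine ⟨n * q ^ v, ?_, ?_, fun p hp hpd => ?_, fun p hp hpd => ?_, ⟨M₁, hM₁, hM₁c⟩, S, hSn, hSc, hSs⟩
  · exact ⟨r / q ^ v, by rw [hnr, mul_assoc, ← hr']⟩
  · rw [show Nat.card G / (n * q ^ v) = r / q ^ v by rw [← Nat.div_div_eq_div_mul]]
    exact hcop
  · rcases hp.dvd_mul.1 hpd with h | h
    · have := hbig p hp h; omega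
    · rw [(Nat.prime_dvd_prime_iff_eq hp hq).1 (hp.dvd_of_dvd_pow h)]
  · rw [show Nat.card G / (n * q ^ v) = r / q ^ v by rw [← Nat.div_div_eq_div_mul]] at hpd
    have := hsmall p hp (hpd.trans (Nat.ordCompl_dvd r q))
    have hne : p ≠ q := fun e' => hqr (e' ▸ hpd)
    omega

/-- Let G and H be finite groups with the same order type (for every m the same number of elements of order m). If G is supersolvable then H is solvable. -/
theorem result {G H : Type*} [Group G] [Finite G] [Group H] [Finite H] (hT : (∀ m : ℕ, Nat.card {g : G // orderOf g = m} = Nat.card {h : H // orderOf h = m})) (hG : Cfsg.IsSupersolvable G) :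
    Group.IsSolvable H := by
  classical
  -- a bijection preserving orders
  have e : {e : G ≃ H // ∀ g, orderOf (e g) = orderOf g} :=
    let f : ∀ m, {g : G // orderOf g = m} ≃ {h : H // orderOf h = m} := fun m =>
      (Finite.card_eq.1 (hT m)).some
    ⟨(Equiv.sigmaFiberEquiv orderOf).symm.trans
      ((Equiv.sigmaCongrRight f).trans (Equiv.sigmaFiberEquiv orderOf)),
      fun g => (f (orderOf g) ⟨g, rfl⟩).2⟩
  have hcard : Nat.card G = Nat.card H := Nat.card_congr e.1
  suffices ∀ k b : ℕ, b + k = Nat.card G + 1 → Tower b G H by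
    obtain ⟨n, hn, hco, hbig, hsmall, -, N, hN, hNc, hNs⟩ := this (Nat.card G + 1) 0 (by omega)
    have h1 : Nat.card G / n = 1 := by
      by_contra h1
      obtain ⟨q, hq, hqd⟩ := Nat.exists_prime_and_dvd h1
      exact absurd (hsmall q hq hqd) (Nat.not_lt_zero _)
    have h2 : N = ⊤ := Subgroup.eq_top_of_card_eq N (by
      rw [hNc, ← hcard, ← Nat.mul_div_cancel' hn, h1, mul_one])
    subst h2
    exact Group.isSolvable_of_surjective (f := (Subgroup.topEquiv : (⊤ : Subgroup H) ≃* H).toMonoidHom)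
      Subgroup.topEquiv.surjective
  intro k
  induction k with
  | zero =>
    intro b hb
    refine ⟨1, one_dvd _, Nat.coprime_one_left _, fun p hp h => absurd h hp.not_dvd_one,
      fun p hp h => ?_, ⟨⊥, inferInstance, Subgroup.card_bot⟩, ⊥, inferInstance, Subgroup.card_bot,
      inferInstance⟩
    have := Nat.le_of_dvd (Nat.card_pos) (h.trans (Nat.div_dvd_of_dvd (one_dvd _)))
    omega
  | succ k ih =>
    intro q hb
    exact step hG e.1 e.2 hcard q (ih (q + 1) (by omega))

end Cfsg.Agent.S3998
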