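import Cfsg.Statements.S4001
import Cfsg.Agent.Lib.FrobRealize.FixedPointFree
import Cfsg.Agent.Lib.FrobRealize.Kernel
import Cfsg.Agent.Lib.Solvable.FPFNilpotent
import Cfsg.Agent.Lib.Solvable.Basic
import Cfsg.Agent.Lib.Frobenius.AbelianRankOne
import Cfsg.Agent.Lib.Coprime.SchurZassenhaus
import Cfsg.Agent.Lib.KnownA.AbelianSylow
import Cfsg.Agent.Lib.Solvable.Cores

set_option autoImplicit false
open Cfsg
open Subgroup

namespace Cfsg.Agent.S4001

open Subgroup

/-- In a Frobenius group nothing outside the kernel commutes with a non-identity kernel element. -/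
theorem eq_one_of_commute {W : Type*} [Group W] {C N : Subgroup W} [N.Normal]
    (hset : (N : Set W) = Cfsg.frobeniusKernel C) (hfpf : ∀ a ∈ C, a ≠ 1 → N ⊓ centralizer {a} = ⊥)
    {x y : W} (hx : x ∈ N) (hy : y ∉ N) (hc : Commute x y) : x = 1 := by
  rw [← SetLike.mem_coe, hset, CfsgLib.FrobRealize.Kernel.mem_frobeniusKernel] at hy
  push Not at hy
  obtain ⟨hy1, g, hg⟩ := hy
  have h1 : g⁻¹ * x * g ∈ N ⊓ centralizer {g⁻¹ * y * g} := by
    refine ⟨?_, mem_centralizer_singleton_iff.mpr ?_⟩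
    · simpa using (inferInstance : N.Normal).conj_mem x hx g⁻¹
    · calc g⁻¹ * x * g * (g⁻¹ * y * g) = g⁻¹ * (x * y) * g := by group
        _ = g⁻¹ * (y * x) * g := by rw [hc.eq]
        _ = g⁻¹ * y * g * (g⁻¹ * x * g) := by group
  rw [hfpf _ hg (fun h => hy1 (by
    have : y = g * (g⁻¹ * y * g) * g⁻¹ := by group
    rw [this, h]; group)), mem_bot] at h1
  have : x = g * (g⁻¹ * x * g) * g⁻¹ := by group
  rw [this, h1]; group

/-- An element of the required order from one with a multiple of it. -/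
theorem exists_order {W : Type*} [Group W] [Finite W] {m : ℕ} (g : W) (hm : m ∣ orderOf g) :
    ∃ x : W, orderOf x = m := by
  obtain ⟨k, hk⟩ := hm
  have hk0 : k ≠ 0 := fun h => by rw [h, mul_zero] at hk; exact (orderOf_pos g).ne' hk
  exact ⟨g ^ k, by rw [orderOf_pow' _ hk0, hk, Nat.gcd_eq_right (dvd_mul_left k m),
    Nat.mul_div_cancel _ (Nat.pos_of_ne_zero hk0)]⟩

/-- Commuting elements of orders `p` and `q` inside an element of order `p * q`. -/
theorem exists_pair {W : Type*} [Group W] [Finite W] {p q : ℕ} (g : W) (hg : orderOf g = p * q)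
    (hp : p ≠ 0) (hq : q ≠ 0) : ∃ x y : W, orderOf x = p ∧ orderOf y = q ∧ Commute x y :=
  ⟨g ^ q, g ^ p, by rw [orderOf_pow' _ hq, hg, Nat.gcd_eq_right (dvd_mul_left q p),
      Nat.mul_div_cancel _ (Nat.pos_of_ne_zero hq)],
    by rw [orderOf_pow' _ hp, hg, Nat.gcd_eq_right (dvd_mul_right p q),
      Nat.mul_div_cancel_left _ (Nat.pos_of_ne_zero hp)], Commute.pow_pow_self g q p⟩

theorem notMem_of_coprime {W : Type*} [Group W] [Finite W] {L : Subgroup W} {y : W} {q : ℕ}
    (hq : q.Prime) (hy : orderOf y = q) (hd : ¬ q ∣ Nat.card L) : y ∉ L := fun h =>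
  hd (hy ▸ Subgroup.orderOf_dvd_natCard L h)

/-- A fixed-point free element of prime order on `B`, coprime action on abelian `V`: a fixed point
in `V` appears unless `B` centralises `V`. -/
theorem exists_fixed {W : Type*} [Group W] [Finite W] {V B : Subgroup W} [V.Normal] {y : W} {q : ℕ}
    (hq : q.Prime) (hy : y ^ q = 1) (hVc : IsMulCommutative V)
    (hBy : ∀ b ∈ B, y * b * y⁻¹ ∈ B) (hBfpf : ∀ b ∈ B, y * b * y⁻¹ = b → b = 1)
    (hd : Disjoint V B) (hcop : (Nat.card V).Coprime (Nat.card B))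
    (hnc : ¬ B ≤ centralizer (V : Set W)) : ∃ v ∈ V, v ≠ 1 ∧ Commute v y := by
  by_contra hno
  push Not at hno
  have hBV : B ≤ normalizer (V : Set W) := by rw [normalizer_eq_top_iff.mpr inferInstance]; exact le_top
  set X := V ⊔ B with hX
  have hXy : ∀ x ∈ X, y * x * y⁻¹ ∈ X := by
    intro x hx
    obtain ⟨v, hv, b, hb, rfl⟩ := (CfsgLib.Coprime.mem_sup_of_le_normalizer hBV).mp hx
    rw [show y * (v * b) * y⁻¹ = (y * v * y⁻¹) * (y * b * y⁻¹) by group]
    exact mul_mem_sup ((inferInstance : V.Normal).conj_mem v hv y) (hBy b hb)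
  let φ : X →* X := MonoidHom.mk' (fun x => ⟨y * x * y⁻¹, hXy x x.2⟩) fun a b => Subtype.ext (by
    show y * ((a : W) * b) * y⁻¹ = y * a * y⁻¹ * (y * b * y⁻¹); group)
  have hit : ∀ (i : ℕ) (x : X), ((φ^[i] x : X) : W) = y ^ i * x * (y ^ i)⁻¹ := by
    intro i
    induction i with
    | zero => intro x; simp
    | succ i ih =>
      intro x
      rw [Function.iterate_succ_apply']
      show y * ((φ^[i] x : X) : W) * y⁻¹ = _
      rw [ih, pow_succ']; group
  have h := CfsgLib.Solvable.FPFNilpotent.le_centralizer_of_coprime (φ := φ) hq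
    (fun x => Subtype.ext (by rw [hit, hy]; simp)) ?_ (M := V.subgroupOf X) (R := B.subgroupOf X)
    ?_ ?_ ?_ ?_ ?_
  · refine hnc fun b hb => mem_centralizer_iff.mpr fun v hv => ?_
    have := mem_centralizer_iff.mp (h (show (⟨b, mem_sup_right hb⟩ : X) ∈ B.subgroupOf X from hb))
      ⟨v, mem_sup_left hv⟩ hv
    exact congrArg Subtype.val this
  · rintro ⟨x, hx⟩ hfix
    have hfix' : y * x * y⁻¹ = x := congrArg Subtype.val hfix
    obtain ⟨v, hv, b, hb, rfl⟩ := (CfsgLib.Coprime.mem_sup_of_le_normalizer hBV).mp hx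
    have e : (y * v * y⁻¹) * (y * b * y⁻¹) = v * b := by rw [← hfix']; group
    have hi := @mul_injective_of_disjoint W _ V B hd
      (⟨_, (inferInstance : V.Normal).conj_mem v hv y⟩, ⟨_, hBy b hb⟩) (⟨v, hv⟩, ⟨b, hb⟩) e
    have hb1 := hBfpf b hb (congrArg (fun t => ((t.2 : B) : W)) hi)
    have hv1 : v = 1 := by
      by_contra hv1
      exact hno v hv hv1 (mul_inv_eq_iff_eq_mul.mp (congrArg (fun t => ((t.1 : V) : W)) hi)).symm
    subst hv1; subst hb1
    exact Subtype.ext (mul_one 1)
  · rw [CfsgLib.Solvable.Basic.isMulCommutative_subgroup_iff]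
    intro a ha b hb
    exact Subtype.ext (CfsgLib.Solvable.Basic.isMulCommutative_subgroup_iff.mp hVc _ ha _ hb)
  · exact fun x hx => (inferInstance : V.Normal).conj_mem _ hx y
  · exact fun x hx => hBy _ hx
  · rw [normalizer_eq_top_iff.mpr inferInstance]; exact le_top
  · rw [Nat.card_congr (subgroupOfEquivOfLe (le_sup_left : V ≤ X)).toEquiv,
      Nat.card_congr (subgroupOfEquivOfLe (le_sup_right : B ≤ X)).toEquiv]
    exact hcop

/-- Let G be a 2-Frobenius group: it has normal subgroups H < K with K a Frobenius group with kernel H and G/H a Frobenius group with kernel K/H. Then G is solvable; K/H has odd order coprime to the order of H and to the order of G/K (it is the image of an odd-order Hall subgroup); G/K is cyclic; and the prime graph of G has exactly two connected components, both complete: for distinct primes p, q dividing the order of G, G has an element of order pq exactly when p and q either both divide the order of K/H or both do not. -/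
theorem result {G : Type*} [Group G] [Finite G] (H K : Subgroup G) [H.Normal] [K.Normal] (hlt : H < K)
    (hK : ∃ C : Subgroup ↥K, Cfsg.IsFrobeniusComplement C ∧ Cfsg.frobeniusKernel C = (H.subgroupOf K : Set ↥K))
    (hGH : ∃ C : Subgroup (G ⧸ H), Cfsg.IsFrobeniusComplement C ∧ Cfsg.frobeniusKernel C = (K.map (QuotientGroup.mk' H) : Set (G ⧸ H))) :
    Group.IsSolvable G ∧ Odd (Nat.card (↥K ⧸ H.subgroupOf K)) ∧
      Nat.Coprime (Nat.card (↥K ⧸ H.subgroupOf K)) (Nat.card ↥H * Nat.card (G ⧸ K)) ∧ IsCyclic (G ⧸ K) ∧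
      ∀ p q : ℕ, p.Prime → q.Prime → p ≠ q → p ∣ Nat.card G → q ∣ Nat.card G →
        ((∃ g : G, orderOf g = p * q) ↔ (p ∣ Nat.card (↥K ⧸ H.subgroupOf K) ↔ q ∣ Nat.card (↥K ⧸ H.subgroupOf K))) := by
  classical
  obtain ⟨C, hC, hCset⟩ := hK
  obtain ⟨D, hD, hDset⟩ := hGH
  obtain ⟨N, hNn, hN0, hCN, hCfpf, hCcompl, hNset⟩ := CfsgLib.FrobRealize.FPF.exists_fpf_kernel hC
  obtain rfl : N = H.subgroupOf K := SetLike.coe_injective (hNset.trans hCset)
  set f := QuotientGroup.mk' H with hf
  have hfs : Function.Surjective f := QuotientGroup.mk'_surjective H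
  obtain ⟨Kb, hKbn, hKb0, hDKb, hDfpf, hDcompl, hKbset⟩ := CfsgLib.FrobRealize.FPF.exists_fpf_kernel hD
  obtain rfl : Kb = K.map f := SetLike.coe_injective (hKbset.trans hDset)
  set n := Nat.card (↥K ⧸ H.subgroupOf K) with hn
  have hCn : Nat.card C = n := by rw [hn, ← hCcompl.symm.index_eq_card]; rfl
  have hKbn' : Nat.card (K.map f) = n := by
    have h1 := CfsgLib.Solvable.Basic.card_map_mk_of_le H K hlt.le
    have h2 := (H.subgroupOf K).card_mul_index
    rw [Nat.card_congr (subgroupOfEquivOfLe hlt.le).toEquiv, mul_comm] at h2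
    exact Nat.eq_of_mul_eq_mul_right Nat.card_pos (h1.trans h2.symm)
  have hDK : Nat.card D = Nat.card (G ⧸ K) := by
    rw [← hDcompl.symm.index_eq_card, Subgroup.index_map, QuotientGroup.ker_mk', sup_eq_left.mpr hlt.le,
      MonoidHom.range_eq_top.mpr hfs, index_top, mul_one]
    rfl
  have hnH : n.Coprime (Nat.card H) := by
    have := CfsgLib.FrobRealize.FPF.coprime_card hCN hCfpf
    rwa [hCn, Nat.card_congr (subgroupOfEquivOfLe hlt.le).toEquiv] at this
  have hnD : n.Coprime (Nat.card (G ⧸ K)) := by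
    have := CfsgLib.FrobRealize.FPF.coprime_card hDKb hDfpf
    rwa [hKbn', hDK, Nat.coprime_comm] at this
  obtain ⟨Kb', hKb'set, -, hKb'nil⟩ := CfsgLib.Solvable.FPFNilpotent.frobenius_kernel_nilpotent hD
  obtain rfl : Kb' = K.map f := SetLike.coe_injective (hKb'set.trans hDset)
  obtain ⟨H', hH'set, -, hH'nil⟩ := CfsgLib.Solvable.FPFNilpotent.frobenius_kernel_nilpotent hC
  obtain rfl : H' = H.subgroupOf K := SetLike.coe_injective (hH'set.trans hCset)
  haveI := hKb'nil
  haveI := hH'nil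
  haveI hHnil : Group.IsNilpotent H := Group.nilpotent_of_mulEquiv (subgroupOfEquivOfLe hlt.le)
  -- `C` is isomorphic to the image of `K`
  let e₀ : C →* K.map f := (f.subgroupMap K).comp C.subtype
  have he₀inj : Function.Injective e₀ := by
    rw [← MonoidHom.ker_eq_bot_iff, Subgroup.eq_bot_iff_forall]
    intro c hc
    have h1 : ((c : K) : G) ∈ H := (QuotientGroup.eq_one_iff _).mp (congrArg Subtype.val hc)
    have h2 : (c : K) ∈ H.subgroupOf K ⊓ C := ⟨h1, c.2⟩
    rw [disjoint_iff.mp hCcompl.disjoint, mem_bot] at h2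
    exact Subtype.ext h2
  let e : C ≃* K.map f := MulEquiv.ofBijective e₀
    ((Nat.bijective_iff_injective_and_card e₀).mpr ⟨he₀inj, by rw [hCn, hKbn']⟩)
  haveI hCnil : Group.IsNilpotent C := Group.nilpotent_of_mulEquiv e.symm
  have hodd : Odd n := by
    rw [Nat.odd_iff, ← Nat.not_even_iff, even_iff_two_dvd, ← hCn]
    intro h2
    haveI := Fact.mk Nat.prime_two
    obtain ⟨z, hz⟩ := exists_prime_orderOf_dvd_card' 2 h2
    have hzz : (z : K) * z = 1 := by
      have h3 := pow_orderOf_eq_one z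
      rw [hz, pow_two] at h3
      exact congrArg Subtype.val h3
    have hz1 : (z : K) ≠ 1 := fun h => by
      rw [← Subgroup.orderOf_coe, h, orderOf_one] at hz; exact absurd hz (by norm_num)
    have hu : ∀ w : C, w * w = 1 → w ≠ 1 → w = z := fun w hw hw1 => Subtype.ext
      (CfsgLib.FrobRealize.Kernel.eq_of_involution hC z.2 hz1 hzz w.2 (fun h => hw1 (Subtype.ext h))
        (congrArg Subtype.val hw))
    set zb : G ⧸ H := ((e z : K.map f) : G ⧸ H) with hzb
    have hzb1 : zb ≠ 1 := fun h => hz1 (congrArg Subtype.val (e.injective (Subtype.ext (h.trans (by simp)) : e z = e 1)))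
    obtain ⟨d, hd, hd1⟩ := D.bot_or_exists_ne_one.resolve_left hD.1
    have h4 : d * zb * d⁻¹ = zb := by
      set w : K.map f := ⟨d * zb * d⁻¹, hKbn.conj_mem _ (e z).2 d⟩
      have hw : e.symm w = z := by
        refine hu _ ?_ ?_
        · apply e.injective
          rw [map_mul, e.apply_symm_apply, map_one]
          apply Subtype.ext
          show d * zb * d⁻¹ * (d * zb * d⁻¹) = 1
          have h5 : zb * zb = 1 := by
            have := congrArg Subtype.val (congrArg e (Subtype.ext hzz : z * z = 1))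
            rwa [map_mul, map_one] at this
          rw [show d * zb * d⁻¹ * (d * zb * d⁻¹) = d * (zb * zb) * d⁻¹ by group, h5]; group
        · intro h
          have := congrArg Subtype.val (e.symm.injective (h.trans (map_one e.symm).symm))
          exact hzb1 (by
            have h6 : d * zb * d⁻¹ = 1 := this
            rw [show zb = d⁻¹ * (d * zb * d⁻¹) * d by group, h6]; group)
      exact congrArg Subtype.val (e.symm_apply_eq.mp hw)
    have h7 : zb ∈ K.map f ⊓ centralizer {d} := ⟨(e z).2,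
      mem_centralizer_singleton_iff.mpr (mul_inv_eq_iff_eq_mul.mp h4).symm⟩
    rw [hDfpf d hd hd1, mem_bot] at h7
    exact hzb1 h7
  haveI hCcyc : IsCyclic C := CfsgLib.Frobenius.AbelianRankOne.isCyclic_of_sylow fun p _ P => by
    rcases CfsgLib.FrobRealize.FPF.sylow_cyclic_or_quaternion hN0 hCN hCfpf P with h | ⟨rfl, m, ⟨e'⟩⟩
    · exact h
    · exfalso
      have h1 : Nat.card (P : Subgroup C) = 4 * 2 ^ m := by
        rw [Nat.card_congr e'.toEquiv, Nat.card_eq_fintype_card, QuaternionGroup.card]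
      have h2 := (P : Subgroup C).card_subgroup_dvd_card
      rw [h1, hCn] at h2
      exact absurd ((dvd_mul_of_dvd_left (by norm_num : 2 ∣ 4) _).trans h2)
        (fun h => by rw [Nat.odd_iff] at hodd; omega)
  haveI hKbcyc : IsCyclic (K.map f) := isCyclic_of_surjective e.toMonoidHom e.surjective
  have hDcomm : ∀ a b : D, a * b = b * a := by
    let a₀ : D →* MulAut (K.map f) := (MulAut.conjNormal (H := K.map f)).comp D.subtype
    have hinj : Function.Injective a₀ := by
      rw [← MonoidHom.ker_eq_bot_iff, Subgroup.eq_bot_iff_forall]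
      intro d hd
      by_contra hd1
      obtain ⟨c, hc, hc1⟩ := (K.map f).bot_or_exists_ne_one.resolve_left hKb0
      have h1 : c ∈ K.map f ⊓ centralizer {(d : G ⧸ H)} := by
        refine ⟨hc, mem_centralizer_singleton_iff.mpr ?_⟩
        have h2 := congrArg Subtype.val (DFunLike.congr_fun (MonoidHom.mem_ker.mp hd) ⟨c, hc⟩)
        simp only [a₀, MonoidHom.comp_apply, Subgroup.subtype_apply, MulAut.conjNormal_apply,
          MulAut.one_apply] at h2
        exact (mul_inv_eq_iff_eq_mul.mp h2).symm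
      rw [hDfpf d d.2 (fun h => hd1 (Subtype.ext h)), mem_bot] at h1
      exact hc1 h1
    intro a b
    apply hinj
    rw [map_mul, map_mul]
    exact (IsCyclic.mulAutMulEquiv (K.map f)).injective (by rw [map_mul, map_mul, mul_comm])
  haveI hDcyc : IsCyclic D := CfsgLib.FrobRealize.FPF.isCyclic_of_comm hKb0 hDKb hDfpf
    (isMulCommutative_iff.mpr hDcomm)
  let θ : D →* G ⧸ K := (QuotientGroup.map H K (MonoidHom.id G) hlt.le).comp D.subtype
  have hθs : Function.Surjective θ := by
    intro x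
    obtain ⟨g, rfl⟩ := QuotientGroup.mk'_surjective K x
    have hg : f g ∈ (K.map f : Subgroup (G ⧸ H)) ⊔ D := hDcompl.sup_eq_top ▸ mem_top _
    obtain ⟨k, hk, d, hd, hkd⟩ := Subgroup.mem_sup_of_normal_left.mp hg
    refine ⟨⟨d, hd⟩, ?_⟩
    obtain ⟨k', hk', rfl⟩ := hk
    obtain ⟨d', rfl⟩ := hfs d
    show QuotientGroup.mk' K d' = QuotientGroup.mk' K g
    rw [← map_mul] at hkd
    have h1 : (k' * d')⁻¹ * g ∈ H := QuotientGroup.eq.mp hkd
    refine QuotientGroup.eq.mpr ?_
    have h2 : d'⁻¹ * g = (d'⁻¹ * k' * d'⁻¹⁻¹) * ((k' * d')⁻¹ * g) := by group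
    rw [h2]
    exact mul_mem ((inferInstance : K.Normal).conj_mem k' hk' d'⁻¹) (hlt.le h1)
  have hGKcyc : IsCyclic (G ⧸ K) := isCyclic_of_surjective θ hθs
  have hsolv : Group.IsSolvable G := by
    haveI : Group.IsSolvable (G ⧸ H) := by
      haveI : Group.IsSolvable (K.map f) := Group.isSolvable_of_comm fun a b => by
        letI := IsCyclic.commGroup (α := K.map f); exact mul_comm a b
      haveI : Group.IsSolvable (G ⧸ K) := Group.isSolvable_of_comm fun a b => by
        letI := IsCyclic.commGroup (α := G ⧸ K); exact mul_comm a b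
      refine Group.isSolvable_of_ker_le_range (K.map f).subtype
        (QuotientGroup.map H K (MonoidHom.id G) hlt.le) ?_
      intro x hx
      obtain ⟨g, rfl⟩ := hfs x
      exact ⟨⟨f g, mem_map_of_mem f ((QuotientGroup.eq_one_iff g).mp hx)⟩, rfl⟩
    exact Group.isSolvable_of_ker_le_range H.subtype f (by simp [f])
  refine ⟨hsolv, hodd, hnH.mul_right hnD, hGKcyc, fun p q hp hq hpq hpG hqG => ?_⟩
  haveI := Fact.mk hp
  haveI := Fact.mk hq
  have hcard : Nat.card G = Nat.card H * n * Nat.card (G ⧸ K) := by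
    rw [K.card_eq_card_quotient_mul_card_subgroup, ← CfsgLib.Solvable.Basic.card_map_mk_of_le H K hlt.le,
      hKbn']
    ring
  -- one prime of each kind
  have hmix : ∀ (r s : ℕ), r.Prime → s.Prime → r ∣ n → ¬ s ∣ n → ∀ g : G, orderOf g ≠ r * s := by
    intro r s hr hs hrn hsn g hg
    obtain ⟨x, y, hx, hy, hxy⟩ := exists_pair g hg hr.ne_zero hs.ne_zero
    have hrH : ¬ r ∣ Nat.card H := fun h =>
      hr.ne_one (Nat.eq_one_of_dvd_coprimes hnH hrn h)
    have hrD : ¬ r ∣ Nat.card (G ⧸ K) := fun h =>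
      hr.ne_one (Nat.eq_one_of_dvd_coprimes hnD hrn h)
    have hxH : x ∉ H := notMem_of_coprime hr hx hrH
    have hxK : x ∈ K := by
      have h1 : orderOf (x : G ⧸ K) ∣ r := hx ▸ orderOf_map_dvd (QuotientGroup.mk' K) x
      rcases (Nat.dvd_prime hr).mp h1 with h2 | h2
      · exact (QuotientGroup.eq_one_iff x).mp (orderOf_eq_one_iff.mp h2)
      · exact absurd (h2 ▸ orderOf_dvd_natCard (x : G ⧸ K)) hrD
    by_cases hyK : y ∈ K
    · have hyH : y ∈ H := by
        have h1 : orderOf (f y) ∣ s := hy ▸ orderOf_map_dvd f y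
        rcases (Nat.dvd_prime hs).mp h1 with h2 | h2
        · exact (QuotientGroup.eq_one_iff y).mp (orderOf_eq_one_iff.mp h2)
        · exact absurd (hKbn' ▸ h2 ▸ Subgroup.orderOf_dvd_natCard _ (mem_map_of_mem f hyK)) hsn
      have h3 := eq_one_of_commute (W := K) (N := H.subgroupOf K) (C := C) hNset hCfpf
        (x := ⟨y, hyK⟩) (y := ⟨x, hxK⟩) hyH hxH (Subtype.ext hxy.symm.eq)
      rw [show y = 1 from congrArg Subtype.val h3, orderOf_one] at hy
      exact hs.ne_one hy.symm
    · have h3 := eq_one_of_commute (N := K.map f) (C := D) hKbset hDfpf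
        (x := f x) (y := f y) (mem_map_of_mem f hxK) (fun h => by
          obtain ⟨k, hk, hky⟩ := h
          have h5 : k⁻¹ * y ∈ H := QuotientGroup.eq.mp hky
          exact hyK (by simpa using mul_mem hk (hlt.le h5))) (hxy.map f)
      exact hxH ((QuotientGroup.eq_one_iff x).mp h3)
  constructor
  · rintro ⟨g, hg⟩
    by_contra hne
    rcases em (p ∣ n) with h1 | h1
    · exact hmix p q hp hq h1 (fun h2 => hne ⟨fun _ => h2, fun _ => h1⟩) g hg
    · rcases em (q ∣ n) with h2 | h2
      · exact hmix q p hq hp h2 h1 g (by rw [hg, mul_comm])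
      · exact hne ⟨fun h => absurd h h1, fun h => absurd h h2⟩
  intro hiff
  have hcop : p.Coprime q := (Nat.coprime_primes hp hq).mpr hpq
  by_cases hpn : p ∣ n
  · obtain ⟨c, hc⟩ := IsCyclic.exists_ofOrder_eq_natCard (α := C)
    obtain ⟨x, hx⟩ := exists_order c (m := p * q)
      (by rw [hc, hCn]; exact hcop.mul_dvd_of_dvd_of_dvd hpn (hiff.mp hpn))
    exact ⟨((x : K) : G), by rw [Subgroup.orderOf_coe, Subgroup.orderOf_coe, hx]⟩
  have hqn : ¬ q ∣ n := fun h => hpn (hiff.mpr h)
  have hsplit : ∀ r : ℕ, r.Prime → r ∣ Nat.card G → ¬ r ∣ n → r ∣ Nat.card H ∨ r ∣ Nat.card (G ⧸ K) := by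
    intro r hr hrG hrn
    rw [hcard] at hrG
    rcases hr.dvd_mul.mp hrG with h | h
    · exact Or.inl ((hr.dvd_mul.mp h).resolve_right hrn)
    · exact Or.inr h
  have hHD : ∀ r s : ℕ, r.Prime → s.Prime → r ∣ Nat.card H → ¬ s ∣ Nat.card H →
      s ∣ Nat.card (G ⧸ K) → ∃ g : G, orderOf g = r * s := by
    intro r s hr hs hrH hsH hsD
    haveI := Fact.mk hr
    haveI := Fact.mk hs
    -- complements of `H` in `K` are conjugate under `H`
    set C₁ := C.map K.subtype with hC₁
    have hC₁K : C₁ ≤ K := map_subtype_le C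
    have hC₁c : Nat.card C₁ = n := by rw [hC₁, card_map_of_injective K.subtype_injective, hCn]
    have hd₁ : Disjoint H C₁ := by
      rw [disjoint_iff, Subgroup.eq_bot_iff_forall]
      rintro _ ⟨hx, c, hc, rfl⟩
      have h2 : c ∈ H.subgroupOf K ⊓ C := ⟨hx, hc⟩
      rw [disjoint_iff.mp hCcompl.disjoint, mem_bot] at h2
      simp [h2]
    have hKsup : K ≤ H ⊔ C₁ := by
      intro x hx
      have h3 : (⟨x, hx⟩ : K) ∈ H.subgroupOf K ⊔ C := hCcompl.sup_eq_top ▸ mem_top _
      have h4 := mem_map_of_mem K.subtype h3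
      rwa [Subgroup.map_sup, subgroupOf_map_subtype, inf_eq_left.mpr hlt.le] at h4
    set Nm := normalizer (C₁ : Set G)
    have hsur : ∀ x : G ⧸ H, x ∈ Nm.map f := by
      intro x
      obtain ⟨g, rfl⟩ := hfs x
      have hnH' : ∀ L : Subgroup G, L ≤ normalizer (H : Set G) := fun L => by
        rw [normalizer_eq_top_iff.mpr inferInstance]; exact le_top
      obtain ⟨h, hh, he⟩ := CfsgLib.Coprime.exists_conj_eq (N := H)
        (H := C₁.map (MulAut.conj g).toMonoidHom) (K := C₁)
        (Or.inl inferInstance) (hnH' _) (hnH' _) (by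
          refine le_trans ?_ hKsup
          rintro _ ⟨c, hc, rfl⟩
          exact (inferInstance : K.Normal).conj_mem c (hC₁K hc) g)
        (card_map_of_injective (MulAut.conj g).injective)
        (by rw [card_map_of_injective (MulAut.conj g).injective, hC₁c]; exact hnH.symm)
      rw [CfsgLib.Coprime.conj_map_map] at he
      refine ⟨h * g, mem_normalizer_iff_map_conj_eq.mpr he, ?_⟩
      rw [map_mul, show f h = 1 from (QuotientGroup.eq_one_iff h).mpr hh, one_mul]
    have hsD' : s ∣ Nat.card D := by rw [hDK]; exact hsD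
    obtain ⟨d, hd⟩ := exists_prime_orderOf_dvd_card' (G := D) s hsD'
    obtain ⟨S, hS, hSd⟩ := CfsgLib.KnownA.AbelianSylow.exists_pgroup_map_eq (f := f.comp Nm.subtype)
      (fun x => by obtain ⟨g, hg, hgx⟩ := hsur x; exact ⟨⟨g, hg⟩, hgx⟩)
      (U := zpowers (d : G ⧸ H))
      (IsPGroup.of_card (p := s) (n := 1) (by rw [Nat.card_zpowers, Subgroup.orderOf_coe, hd, pow_one]))
    obtain ⟨y, hy, hyd⟩ : (d : G ⧸ H) ∈ S.map (f.comp Nm.subtype) := by rw [hSd]; exact mem_zpowers _
    have hyd' : f (y : G) = (d : G ⧸ H) := hyd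
    have hys : orderOf (y : G) = s := by
      obtain ⟨j, hj⟩ := hS ⟨y, hy⟩
      have hj' : (y : G) ^ s ^ j = 1 := congrArg (fun t : S => ((t : Nm) : G)) hj
      have h1 : f ((y : G) ^ s) = 1 := by rw [map_pow, hyd', ← hd, ← Subgroup.orderOf_coe, pow_orderOf_eq_one]
      have h2 : (y : G) ^ s ∈ H := (QuotientGroup.eq_one_iff _).mp h1
      have h3 : orderOf ((y : G) ^ s) ∣ s ^ j := orderOf_dvd_of_pow_eq_one (by
        rw [← pow_mul, mul_comm, pow_mul, hj', one_pow])
      have h4 : orderOf ((y : G) ^ s) = 1 := Nat.eq_one_of_dvd_coprimes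
        ((hs.coprime_iff_not_dvd.mpr hsH).pow_left j) h3 (Subgroup.orderOf_dvd_natCard H h2)
      refine orderOf_eq_prime (orderOf_eq_one_iff.mp h4) fun h5 => ?_
      rw [h5, map_one] at hyd'
      rw [← Subgroup.orderOf_coe, ← hyd', orderOf_one] at hd
      exact hs.ne_one hd.symm
    have hys1 : (y : G) ^ s = 1 := hys ▸ pow_orderOf_eq_one _
    have hd1 : (d : G ⧸ H) ≠ 1 := fun h => by
      rw [← Subgroup.orderOf_coe, h, orderOf_one] at hd; exact hs.ne_one hd.symm
    -- a minimal normal `r`-subgroup inside `H`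
    set R := (Cfsg.pCore r H).map H.subtype with hR
    have hR0 : R ≠ ⊥ := by
      intro h0
      rw [hR, map_eq_bot_iff_of_injective _ H.subtype_injective] at h0
      obtain ⟨P⟩ : Nonempty (Sylow r H) := inferInstance
      have hPn : (P : Subgroup H).Normal := Sylow.normal_of_all_max_subgroups_normal
        (fun M hM => NormalizerCondition.normal_of_coatom M (Group.normalizerCondition_of_isNilpotent) hM) P
      have hP : (P : Subgroup H) = ⊥ := le_bot_iff.mp (h0 ▸ CfsgLib.Solvable.Cores.le_pCore P.isPGroup')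
      have := P.dvd_card_of_dvd_card hrH
      rw [hP, Subgroup.card_bot] at this
      exact hr.ne_one (Nat.dvd_one.mp this)
    haveI hRn : R.Normal := by rw [hR]; infer_instance
    haveI : Group.IsSolvable R := Group.isSolvable_of_isSolvable_injective
      (Subgroup.inclusion_injective (map_subtype_le _ : R ≤ H))
    obtain ⟨V, hVn, hV0, hVR, hVmin⟩ := CfsgLib.Solvable.Basic.exists_minimal_normal_le hR0
    haveI : Group.IsSolvable V := Group.isSolvable_of_isSolvable_injective (Subgroup.inclusion_injective hVR)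
    obtain ⟨hVc, -⟩ := CfsgLib.Solvable.Basic.minimal_normal_solvable V hV0 hVmin
    have hVH : V ≤ H := hVR.trans (map_subtype_le _)
    have hVr : IsPGroup r V := ((CfsgLib.Solvable.Cores.isPGroup_pCore r).map H.subtype).to_le hVR
    obtain ⟨v, hv, hv1, hvy⟩ := exists_fixed (V := V) (B := C₁) hs hys1 hVc
      (fun b hb => (mem_normalizer_iff.mp y.2 b).mp hb)
      (fun b hb hby => by
        have hbK : f b ∈ K.map f := mem_map_of_mem f (hC₁K hb)
        have h1 : f b ∈ K.map f ⊓ centralizer {(d : G ⧸ H)} := by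
          refine ⟨hbK, mem_centralizer_singleton_iff.mpr ?_⟩
          rw [← hyd', ← map_mul, ← map_mul]
          exact congrArg f (mul_inv_eq_iff_eq_mul.mp hby).symm
        rw [hDfpf _ d.2 hd1, mem_bot] at h1
        have h2 : b ∈ H ⊓ C₁ := ⟨(QuotientGroup.eq_one_iff b).mp h1, hb⟩
        rwa [disjoint_iff.mp hd₁, mem_bot] at h2)
      (hd₁.mono_left hVH)
      (by rw [hC₁c]; exact (hnH.coprime_dvd_right (card_dvd_of_le hVH)).symm)
      (by
        intro hle
        obtain ⟨c, hc, hc1⟩ := C₁.bot_or_exists_ne_one.resolve_left (fun h0 => hC.1 (by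
          rwa [hC₁, map_eq_bot_iff_of_injective _ K.subtype_injective] at h0))
        obtain ⟨w, hw, hw1⟩ := V.bot_or_exists_ne_one.resolve_left hV0
        obtain ⟨c', hc', rfl⟩ := hc
        have h1 : (⟨w, hlt.le (hVH hw)⟩ : K) ∈ H.subgroupOf K ⊓ centralizer {c'} := by
          refine ⟨hVH hw, mem_centralizer_singleton_iff.mpr (Subtype.ext ?_)⟩
          exact mem_centralizer_iff.mp (hle ⟨c', hc', rfl⟩) w hw
        rw [hCfpf c' hc' (fun h0 => hc1 (by rw [h0, map_one])), mem_bot] at h1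
        exact hw1 (congrArg Subtype.val h1))
    obtain ⟨i, hi⟩ := hVr ⟨v, hv⟩
    obtain ⟨j, -, hj⟩ := (Nat.dvd_prime_pow hr).mp
      (orderOf_dvd_of_pow_eq_one (congrArg Subtype.val hi : v ^ r ^ i = 1))
    have hrs : r.Coprime s := (Nat.coprime_primes hr hs).mpr (fun h => hsH (h ▸ hrH))
    refine exists_order (v * y) ?_
    rw [hvy.orderOf_mul_eq_mul_orderOf_of_coprime (by rw [hj, hys]; exact hrs.pow_left j), hj, hys]
    exact mul_dvd_mul_right (dvd_pow_self r (fun h => hv1 (orderOf_eq_one_iff.mp (by rw [hj, h, pow_zero])))) s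
  have hHH : p ∣ Nat.card H → q ∣ Nat.card H → ∃ g : G, orderOf g = p * q := by
    intro h1 h2
    obtain ⟨x, hx⟩ := exists_prime_orderOf_dvd_card' p h1
    obtain ⟨y, hy⟩ := exists_prime_orderOf_dvd_card' q h2
    have hcm := CfsgLib.Solvable.Schmidt.le_centralizer_of_nilpotent (p := p) (C := (⊤ : Subgroup H))
      (Group.isNilpotent_top.mpr inferInstance) (le_top : zpowers x ≤ ⊤) (le_top : zpowers y ≤ ⊤)
      (IsPGroup.of_card (n := 1) (by rw [Nat.card_zpowers, hx, pow_one]))
      (by rw [Nat.card_zpowers, hy]; exact hcop.symm)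
    have hc : Commute x y := (mem_centralizer_iff.mp (hcm (mem_zpowers x)) y (mem_zpowers y)).symm
    exact ⟨((x * y : H) : G), by
      rw [Subgroup.orderOf_coe, hc.orderOf_mul_eq_mul_orderOf_of_coprime (by rw [hx, hy]; exact hcop), hx, hy]⟩
  rcases em (p ∣ Nat.card H) with hpH | hpH <;> rcases em (q ∣ Nat.card H) with hqH | hqH
  · exact hHH hpH hqH
  · exact hHD p q hp hq hpH hqH ((hsplit q hq hqG hqn).resolve_left hqH)
  · obtain ⟨g, hg⟩ := hHD q p hq hp hqH hpH ((hsplit p hp hpG hpn).resolve_left hpH)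
    exact ⟨g, by rw [hg, mul_comm]⟩
  · obtain ⟨c, hc⟩ := IsCyclic.exists_ofOrder_eq_natCard (α := G ⧸ K)
    obtain ⟨g, rfl⟩ := QuotientGroup.mk'_surjective K c
    exact exists_order g ((hcop.mul_dvd_of_dvd_of_dvd ((hsplit p hp hpG hpn).resolve_left hpH)
      ((hsplit q hq hqG hqn).resolve_left hqH)).trans (hc ▸ orderOf_map_dvd _ g))

end Cfsg.Agent.S4001
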