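import Cfsg.Statements.S4002
import Cfsg.Agent.Lib.Frobenius.ThreePrimes

set_option autoImplicit false
open Cfsg

namespace Cfsg.Agent.S4002

/-- If the set of element orders of a finite group G is {1, 2, …, n} with n ≥ 7, then G is not solvable. -/
theorem result {G : Type*} [Group G] [Finite G] (n : ℕ) (hn : 7 ≤ n) (h : Set.range (orderOf : G → ℕ) = {k : ℕ | 1 ≤ k ∧ k ≤ n}) : ¬ Group.IsSolvable G := by
  classical
  intro hsol
  obtain ⟨p, q, r, hp, hq, hr, hpq, hqr, hrn, hprod⟩ : ∃ p q r : ℕ, p.Prime ∧ q.Prime ∧ r.Prime ∧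
      p < q ∧ q < r ∧ r ≤ n ∧ n < p * q := by
    rcases Nat.lt_or_ge n 15 with h15 | h15
    · exact ⟨3, 5, 7, by norm_num, by norm_num, by norm_num, by norm_num, by norm_num, hn, h15⟩
    rcases Nat.lt_or_ge n 35 with h35 | h35
    · exact ⟨5, 7, 11, by norm_num, by norm_num, by norm_num, by norm_num, by norm_num, by omega, h35⟩
    obtain ⟨r, hr, hr1, hr2⟩ := Nat.exists_prime_lt_and_le_two_mul (n / 2) (by omega)
    obtain ⟨q, hq, hq1, hq2⟩ := Nat.exists_prime_lt_and_le_two_mul (n / 4) (by omega)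
    obtain ⟨p, hp, hp1, hp2⟩ := Nat.exists_prime_lt_and_le_two_mul (n / 8) (by omega)
    refine ⟨p, q, r, hp, hq, hr, by omega, by omega, by omega, ?_⟩
    have h4 : n + 1 ≤ 4 * q := by omega
    have h8 : n + 1 ≤ 8 * p := by omega
    nlinarith [Nat.mul_le_mul h8 h4]
  have hdvd : ∀ s, s.Prime → s ≤ n → s ∣ Nat.card G := fun s hs hsn => by
    obtain ⟨x, hx⟩ : s ∈ Set.range (orderOf : G → ℕ) := h ▸ ⟨hs.one_lt.le, hsn⟩
    exact hx ▸ orderOf_dvd_natCard x
  obtain ⟨s, hs, t, ht, hst, x, hx⟩ := CfsgLib.Frobenius.ThreePrimes.exists_orderOf (G := G) {p, q, r}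
    (by simp [hp, hq, hr]) (Finset.card_eq_three.2 ⟨p, q, r, hpq.ne, (hpq.trans hqr).ne, hqr.ne, rfl⟩)
    (by
      intro u hu
      simp only [Finset.mem_insert, Finset.mem_singleton] at hu
      rcases hu with rfl | rfl | rfl
      · exact hdvd _ hp (by omega)
      · exact hdvd _ hq (by omega)
      · exact hdvd _ hr hrn)
  have hmem : s * t ∈ {k : ℕ | 1 ≤ k ∧ k ≤ n} := h ▸ ⟨x, hx⟩
  have hle : p * q ≤ s * t := by
    simp only [Finset.mem_insert, Finset.mem_singleton] at hs ht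
    have h1 : p * q ≤ p * r := Nat.mul_le_mul_left p hqr.le
    have h2 : p * q ≤ q * r := (Nat.mul_le_mul hpq.le hqr.le)
    rcases hs with e1 | e1 | e1 <;> rcases ht with e2 | e2 | e2 <;>
      first
        | exact absurd (e1.trans e2.symm) hst
        | ((rw [e1, e2]) <;> linarith [Nat.mul_comm p q, Nat.mul_comm p r, Nat.mul_comm q r])
  exact absurd hmem.2 (by omega)

end Cfsg.Agent.S4002
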