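import Cfsg.Statements.S4003
import Cfsg.Agent.Lib.Frobenius.Miller

set_option autoImplicit false
open Cfsg

namespace Cfsg.Agent.S4003

/-- Let G be a finite group, p an odd prime dividing the order of G whose Sylow p-subgroups are not cyclic, and n = p^s·m with s > 1 and m coprime to p. Then the number of elements of G of order n is a multiple of p^s. -/
theorem result {G : Type*} [Group G] [Finite G] (p : ℕ) [Fact p.Prime] (hodd : p ≠ 2) (hpG : p ∣ Nat.card G)
    (P : Sylow p G) (hP : ¬ IsCyclic ↥(P : Subgroup G)) (s m : ℕ) (hs : 1 < s) (hm : Nat.Coprime p m) :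
    p ^ s ∣ Nat.card {g : G // orderOf g = p ^ s * m} := by
  classical
  have hp := (Fact.out : p.Prime)
  have hm0 : 0 < m := Nat.pos_of_ne_zero fun h => by
    rw [h, Nat.coprime_zero_right] at hm
    exact hp.ne_one hm
  rw [CfsgLib.Frobenius.Miller.card_orderOf_mul (hm.pow_left s) (pow_pos hp.pos s) hm0]
  let T := {T : Subgroup G × G // (IsCyclic T.1 ∧ Nat.card T.1 = p ^ s) ∧ orderOf T.2 = m ∧
    T.2 ∈ Subgroup.centralizer (T.1 : Set G)}
  let D := {D : G × G // (orderOf D.1 = p ^ s ∧ orderOf D.2 = m) ∧ Commute D.1 D.2}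
  let f : D → T := fun D => ⟨(Subgroup.zpowers D.1.1, D.1.2),
    ⟨inferInstance, by rw [Nat.card_zpowers]; exact D.2.1.1⟩, D.2.1.2, by
      rw [Subgroup.mem_centralizer_iff]
      rintro _ ⟨i, rfl⟩
      exact (D.2.2.zpow_left i).eq⟩
  show p ^ s ∣ Nat.card D
  haveI : Fintype T := Fintype.ofFinite T
  rw [Nat.card_congr (Equiv.sigmaFiberEquiv f).symm, Nat.card_sigma]
  have hfib : ∀ X : T, Nat.card {d : D // f d = X} = (p ^ s).totient := by
    rintro ⟨⟨X, y⟩, ⟨hXc, hX⟩, hy, hyc⟩
    haveI := hXc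
    haveI := Fintype.ofFinite X
    rw [← IsCyclic.card_orderOf_eq_totient (α := X) (d := p ^ s)
      (by rw [← Nat.card_eq_fintype_card, hX]), ← Fintype.card_subtype, ← Nat.card_eq_fintype_card]
    refine Nat.card_congr
      { toFun := fun g => ⟨⟨g.1.1.1, by
          have h : Subgroup.zpowers g.1.1.1 = X := congrArg (fun T : T => T.1.1) g.2
          exact h.le (Subgroup.mem_zpowers g.1.1.1)⟩, by rw [Subgroup.orderOf_mk]; exact g.1.2.1.1⟩
        invFun := fun g => ⟨⟨((g.1 : G), y), ⟨by rw [Subgroup.orderOf_coe]; exact g.2, hy⟩,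
            (Subgroup.mem_centralizer_iff.mp hyc _ g.1.2)⟩, Subtype.ext (Prod.ext
            (Subgroup.eq_of_le_of_card_ge (Subgroup.zpowers_le.2 g.1.2)
              (by rw [hX, Nat.card_zpowers, Subgroup.orderOf_coe, g.2])) rfl)⟩
        left_inv := fun g => Subtype.ext (Subtype.ext (Prod.ext rfl
          (congrArg (fun T : T => T.1.2) g.2).symm))
        right_inv := fun g => rfl }
  rw [Finset.sum_congr rfl fun X _ => hfib X, Finset.sum_const, smul_eq_mul, Finset.card_univ,
    ← Nat.card_eq_fintype_card, Nat.totient_prime_pow hp (by omega), ← mul_assoc]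
  refine dvd_mul_of_dvd_left ?_ _
  have hpq : p ^ s = p * p ^ (s - 1) := by
    conv_lhs => rw [show s = s - 1 + 1 by omega, pow_succ']
  rw [hpq]
  exact mul_dvd_mul_right (CfsgLib.Frobenius.Miller.dvd_card_pairs hodd P hP hs m) _

end Cfsg.Agent.S4003
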