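import Cfsg.Statements.S4004
import Cfsg.Agent.Lib.PGroup.FrobeniusCount
import Cfsg.Agent.S0144
-- import your own Cfsg.Agent.* helpers here

set_option autoImplicit false
set_option linter.style.haveILetI false
set_option linter.unusedSectionVars false
open Cfsg

namespace Cfsg.Agent.S4004

variable {G : Type*} [Group G]

/-- The number of elements of order `m`. -/
noncomputable def cnt (G : Type*) [Group G] (m : ℕ) : ℕ := Nat.card {g : G // orderOf g = m}

theorem cnt_pos [Finite G] (g : G) : 0 < cnt G (orderOf g) := by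
  haveI : Nonempty {x : G // orderOf x = orderOf g} := ⟨⟨g, rfl⟩⟩
  exact Nat.card_pos

theorem exists_of_cnt_ne_zero {m : ℕ} (h : cnt G m ≠ 0) : ∃ g : G, orderOf g = m := by
  by_contra hne
  haveI : IsEmpty {x : G // orderOf x = m} := ⟨fun x => hne ⟨x, x.2⟩⟩
  exact h Nat.card_of_isEmpty

theorem cnt_one : cnt G 1 = 1 := by
  haveI : Unique {g : G // orderOf g = 1} :=
    ⟨⟨⟨1, orderOf_one⟩⟩, fun g => Subtype.ext (orderOf_eq_one_iff.1 g.2)⟩
  exact Nat.card_unique

/-- In a group of odd order at least two elements have each order that occurs, apart from one. -/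
theorem two_le_cnt [Finite G] (hodd : Odd (Nat.card G)) {g : G} (hg : g ≠ 1) : 2 ≤ cnt G (orderOf g) := by
  have hne : g⁻¹ ≠ g := by
    intro h
    have h2 : g ^ 2 = 1 := by rw [pow_two]; nth_rewrite 1 [← h]; exact inv_mul_cancel g
    have h3 := Nat.dvd_gcd (orderOf_dvd_of_pow_eq_one h2) (orderOf_dvd_natCard g)
    rw [Nat.Coprime.gcd_eq_one hodd.coprime_two_left] at h3
    exact hg (orderOf_eq_one_iff.1 (Nat.dvd_one.1 h3))
  have hinj : Function.Injective (fun b : Bool =>
      (if b then ⟨g, rfl⟩ else ⟨g⁻¹, orderOf_inv g⟩ : {x : G // orderOf x = orderOf g})) := by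
    intro b c e
    have e' := congrArg Subtype.val e
    cases b <;> cases c
    · rfl
    · exact absurd e' hne
    · exact absurd e'.symm hne
    · rfl
  have := Nat.card_le_card_of_injective _ hinj
  rw [Nat.card_eq_fintype_card (α := Bool), Fintype.card_bool] at this
  exact this

theorem card_roots [Finite G] (n : ℕ) (hn : n ≠ 0) :
    Nat.card {x : G // x ^ n = 1} = ∑ d ∈ n.divisors, cnt G d := by
  classical
  haveI := Fintype.ofFinite G
  rw [Nat.card_eq_fintype_card, Fintype.card_subtype,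
    Finset.card_eq_sum_card_fiberwise (f := orderOf) (t := n.divisors)
      (fun x hx => Nat.mem_divisors.2 ⟨orderOf_dvd_of_pow_eq_one (Finset.mem_filter.1 hx).2, hn⟩)]
  refine Finset.sum_congr rfl fun d hd => ?_
  rw [cnt, Nat.card_eq_fintype_card, Fintype.card_subtype]
  refine congrArg Finset.card ?_
  ext x
  simp only [Finset.mem_filter, Finset.mem_univ, true_and]
  exact ⟨fun h => h.2, fun h => ⟨orderOf_dvd_iff_pow_eq_one.1 (h ▸ (Nat.mem_divisors.1 hd).1), h⟩⟩

/-- Frobenius' theorem. -/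
theorem dvd_roots [Finite G] {k n : ℕ} (hkn : k ∣ n) (hk : k ∣ Nat.card G) (hn : n ≠ 0) :
    k ∣ ∑ d ∈ n.divisors, cnt G d := by
  rw [← card_roots n hn]
  exact (Nat.dvd_gcd hkn hk).trans
    (CfsgLib.PGroup.FrobeniusCount.gcd_dvd_card_roots _ n G rfl 1 (Subgroup.one_mem _))

theorem dvd_one_add [Finite G] {p : ℕ} (hp : p.Prime) (hpG : p ∣ Nat.card G) : p ∣ 1 + cnt G p := by
  have h := dvd_roots (G := G) (dvd_refl p) hpG hp.ne_zero
  rwa [hp.divisors, Finset.sum_pair hp.one_lt.ne, cnt_one] at h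

theorem dvd_cnt_sq [Finite G] {p : ℕ} (hp : p.Prime) (hpG : p ∣ Nat.card G) : p ∣ cnt G (p ^ 2) := by
  have h := dvd_roots (G := G) (dvd_pow_self p two_ne_zero) hpG (pow_ne_zero 2 hp.ne_zero)
  rw [Nat.divisors_prime_pow hp, Finset.sum_map, Finset.sum_range_succ, Finset.sum_range_succ,
    Finset.sum_range_succ] at h
  simp only [Finset.range_zero, Finset.sum_empty, Function.Embedding.coeFn_mk, pow_zero, pow_one,
    zero_add, cnt_one] at h
  exact (Nat.dvd_add_right (dvd_one_add hp hpG)).1 h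

theorem sum_divisors_pair {p q : ℕ} (hp : p.Prime) (hq : q.Prime) (hpq : p ≠ q) :
    ∑ d ∈ (p * q).divisors, cnt G d = 1 + cnt G p + cnt G q + cnt G (p * q) := by
  have hd : (p * q).divisors = {1, p, q, p * q} := by
    rw [Nat.divisors_mul, hp.divisors, hq.divisors]
    ext x
    simp only [Finset.mem_mul, Finset.mem_insert, Finset.mem_singleton]
    constructor
    · rintro ⟨a, ha | ha, b, hb | hb, rfl⟩ <;> simp [ha, hb]
    · rintro (h | h | h | h) <;> subst h
      · exact ⟨1, Or.inl rfl, 1, Or.inl rfl, one_mul 1⟩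
      · exact ⟨_, Or.inr rfl, 1, Or.inl rfl, mul_one _⟩
      · exact ⟨1, Or.inl rfl, _, Or.inr rfl, one_mul _⟩
      · exact ⟨_, Or.inr rfl, _, Or.inr rfl, rfl⟩
  have h1 : p < p * q := lt_mul_of_one_lt_right hp.pos hq.one_lt
  have h2 : q < p * q := lt_mul_of_one_lt_left hq.pos hp.one_lt
  have h3 := hp.one_lt
  have h4 := hq.one_lt
  rw [hd, Finset.sum_insert (by simp; omega), Finset.sum_insert (by simp; omega),
    Finset.sum_pair (by omega), cnt_one]
  omega

theorem dvd_pair [Finite G] {p q : ℕ} (hp : p.Prime) (hq : q.Prime) (hpq : p ≠ q) (hpG : p ∣ Nat.card G) :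
    p ∣ 1 + cnt G p + cnt G q + cnt G (p * q) := by
  have h := dvd_roots (G := G) (dvd_mul_right p q) hpG (mul_ne_zero hp.ne_zero hq.ne_zero)
  rw [sum_divisors_pair hp hq hpq] at h
  exact h

/-- A Sylow subgroup fixes an element of order `m` when `p` does not divide their number. -/
theorem exists_fixed [Finite G] {p m : ℕ} [hp : Fact p.Prime] (P : Sylow p G) (h : ¬ p ∣ cnt G m) :
    ∃ w : G, orderOf w = m ∧ ∀ u ∈ (P : Subgroup G), u * w = w * u := by
  letI : MulAction ↥(P : Subgroup G) {g : G // orderOf g = m} :=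
    { smul := fun u g => ⟨MulAut.conj (u : G) g.1, ((MulAut.conj (u : G)).orderOf_eq g.1).trans g.2⟩
      one_smul := fun g => Subtype.ext (show MulAut.conj ((1 : ↥(P : Subgroup G)) : G) g.1 = g.1 by simp)
      mul_smul := fun u v g => Subtype.ext (show MulAut.conj ((u * v : ↥(P : Subgroup G)) : G) g.1 =
        MulAut.conj (u : G) (MulAut.conj (v : G) g.1) by simp [mul_assoc]) }
  obtain ⟨w, hw⟩ := P.isPGroup'.nonempty_fixed_point_of_prime_not_dvd_card _ h
  refine ⟨w.1, w.2, fun u hu => mul_inv_eq_iff_eq_mul.1 ?_⟩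
  exact congrArg Subtype.val (hw ⟨u, hu⟩)

theorem exists_order_mul [Finite G] {p m : ℕ} [hp : Fact p.Prime] (hpG : p ∣ Nat.card G)
    (h : ¬ p ∣ cnt G m) (hm : m.Coprime p) : ∃ z : G, orderOf z = p * m := by
  obtain ⟨P⟩ : Nonempty (Sylow p G) := inferInstance
  obtain ⟨w, hwm, hwP⟩ := exists_fixed P h
  obtain ⟨x, hx⟩ := exists_prime_orderOf_dvd_card' (G := ↥(P : Subgroup G)) p (P.dvd_card_of_dvd_card hpG)
  refine ⟨(x : G) * w, ?_⟩
  have hc : Commute (x : G) w := hwP x x.2
  rw [hc.orderOf_mul_eq_mul_orderOf_of_coprime (by rw [Subgroup.orderOf_coe, hx, hwm]; exact hm.symm),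
    Subgroup.orderOf_coe, hx, hwm]

/-- If a Sylow `p`-subgroup centralizes an element of order `q`, elements of order `pq` are plentiful. -/
theorem two_mul_le [Finite G] {p q : ℕ} [hp : Fact p.Prime] (hq : q.Prime) (hq2 : q ≠ 2) (hpq : p ≠ q)
    (h : ¬ p ∣ cnt G q) : 2 * cnt G p ≤ cnt G (p * q) := by
  classical
  obtain ⟨P⟩ : Nonempty (Sylow p G) := inferInstance
  obtain ⟨w, hwq, hwP⟩ := exists_fixed P h
  have hw : ∀ x : {g : G // orderOf g = p}, ∃ v : G, orderOf v = q ∧ x.1 * v = v * x.1 := by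
    intro x
    obtain ⟨Q, hQ⟩ := (IsPGroup.of_card (n := 1)
      (show Nat.card (Subgroup.zpowers x.1) = p ^ 1 by rw [Nat.card_zpowers, x.2, pow_one])).exists_le_sylow
    obtain ⟨g, rfl⟩ := MulAction.exists_smul_eq G P Q
    obtain ⟨u, hu, hux⟩ := Subgroup.mem_map.1 (hQ (Subgroup.mem_zpowers x.1))
    refine ⟨MulAut.conj g w, by rw [MulEquiv.orderOf_eq]; exact hwq, ?_⟩
    rw [← hux]
    show MulAut.conj g u * MulAut.conj g w = MulAut.conj g w * MulAut.conj g u
    rw [← map_mul, ← map_mul, hwP u hu]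
  choose v hv hvc using hw
  have hcop : p.Coprime q := (Nat.coprime_primes hp.out hq).2 hpq
  have hord : ∀ (x : {g : G // orderOf g = p}) (b : Bool),
      orderOf (if b then x.1 * v x else x.1 * (v x)⁻¹) = p * q := by
    intro x b
    have hc : Commute x.1 (v x) := hvc x
    cases b
    · rw [if_neg (by simp), hc.inv_right.orderOf_mul_eq_mul_orderOf_of_coprime (by rw [orderOf_inv, x.2, hv]; exact hcop),
        orderOf_inv, x.2, hv]
    · rw [if_pos rfl, hc.orderOf_mul_eq_mul_orderOf_of_coprime (by rw [x.2, hv]; exact hcop), x.2, hv]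
  let F : {g : G // orderOf g = p} × Bool → {g : G // orderOf g = p * q} := fun xb =>
    ⟨if xb.2 then xb.1.1 * v xb.1 else xb.1.1 * (v xb.1)⁻¹, hord xb.1 xb.2⟩
  have hq' : ∀ x b, (F (x, b)).1 ^ q = x.1 ^ q := by
    intro x b
    have hc : Commute x.1 (v x) := hvc x
    have h1 : v x ^ q = 1 := by rw [← hv x, pow_orderOf_eq_one]
    cases b
    · show (x.1 * (v x)⁻¹) ^ q = _
      rw [hc.inv_right.mul_pow, inv_pow, h1, inv_one, mul_one]
    · show (x.1 * v x) ^ q = _
      rw [hc.mul_pow, h1, mul_one]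
  have hF : Function.Injective F := by
    rintro ⟨x, b⟩ ⟨y, c⟩ e
    have h1 : x.1 ^ q = y.1 ^ q := by rw [← hq' x b, ← hq' y c, e]
    have hxy : x = y := by
      refine Subtype.ext ?_
      obtain ⟨m, hm⟩ := Nat.exists_mul_mod_eq_one_of_coprime hcop.symm hp.out.one_lt
      have key : ∀ z : {g : G // orderOf g = p}, (z.1 ^ q) ^ m = z.1 := fun z => by
        rw [← pow_mul, ← pow_mod_orderOf, z.2, hm.2, pow_one]
      rw [← key x, ← key y, h1]
    subst hxy
    refine Prod.ext rfl ?_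
    have hne : (v x)⁻¹ ≠ v x := by
      intro hi
      have h2 : v x ^ 2 = 1 := by rw [pow_two]; nth_rewrite 1 [← hi]; exact inv_mul_cancel _
      exact hq2 ((Nat.prime_dvd_prime_iff_eq hq Nat.prime_two).1 (hv x ▸ orderOf_dvd_of_pow_eq_one h2))
    cases b <;> cases c <;> simp [F] at e ⊢
    · exact hne e
    · exact hne e.symm
  have := Nat.card_le_card_of_injective F hF
  rw [Nat.card_prod, Nat.card_eq_fintype_card (α := Bool), Fintype.card_bool] at this
  rw [cnt, cnt, mul_comm]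
  exact this

/-- Among the numbers of elements of the nontrivial orders at most two values occur. -/
theorem val_cases [Finite G] (hodd : Odd (Nat.card G))
    (h : (((fun m : ℕ => Nat.card {g : G // orderOf g = m}) '' Set.range (orderOf : G → ℕ))).ncard = 3)
    {a b m : ℕ} {g₁ g₂ : G} (h₁ : g₁ ≠ 1) (h₂ : g₂ ≠ 1) (ha : cnt G (orderOf g₁) = a) (hb : cnt G (orderOf g₂) = b)
    (hab : a ≠ b) (hm : m ≠ 1) (hm0 : cnt G m ≠ 0) : cnt G m = a ∨ cnt G m = b := by
  obtain ⟨g, rfl⟩ := exists_of_cnt_ne_zero hm0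
  by_contra hc
  push_neg at hc
  have hg : g ≠ 1 := fun e => hm (by rw [e, orderOf_one])
  have hsub : ({1, a, b, cnt G (orderOf g)} : Set ℕ) ⊆
      (fun m : ℕ => Nat.card {x : G // orderOf x = m}) '' Set.range (orderOf : G → ℕ) := by
    rintro x (rfl | rfl | rfl | rfl)
    · exact ⟨1, ⟨1, orderOf_one⟩, cnt_one⟩
    · exact ⟨_, ⟨g₁, rfl⟩, ha⟩
    · exact ⟨_, ⟨g₂, rfl⟩, hb⟩
    · exact ⟨_, ⟨g, rfl⟩, rfl⟩
  have hle := Set.ncard_le_ncard hsub ((Set.finite_range _).image _)
  rw [h] at hle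
  have hA := two_le_cnt hodd h₁
  have hB := two_le_cnt hodd h₂
  have hC := two_le_cnt hodd hg
  rw [Set.ncard_insert_of_notMem (by simp; omega), Set.ncard_insert_of_notMem (by simp; omega),
    Set.ncard_pair (Ne.symm hc.2)] at hle
  omega

section main

variable [Finite G] (hodd : Odd (Nat.card G))
  (h : (((fun m : ℕ => Nat.card {g : G // orderOf g = m}) '' Set.range (orderOf : G → ℕ))).ncard = 3)

include hodd

theorem ne_two {p : ℕ} (hpG : p ∣ Nat.card G) : p ≠ 2 := by
  rintro rfl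
  exact (Nat.not_even_iff_odd.2 hodd) (even_iff_two_dvd.2 hpG)

include h

/-- Two primes with different values commute in no element. -/
theorem pair_zero {p q : ℕ} (hp : p.Prime) (hq : q.Prime) (hpq : p ≠ q) (hpG : p ∣ Nat.card G)
    (hqG : q ∣ Nat.card G) (hne : cnt G p ≠ cnt G q) : cnt G (p * q) = 0 := by
  haveI := Fact.mk hp
  haveI := Fact.mk hq
  obtain ⟨x, hx⟩ := exists_prime_orderOf_dvd_card' (G := G) p hpG
  obtain ⟨y, hy⟩ := exists_prime_orderOf_dvd_card' (G := G) q hqG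
  have hx1 : x ≠ 1 := fun e => hp.ne_one (by rw [← hx, e, orderOf_one])
  have hy1 : y ≠ 1 := fun e => hq.ne_one (by rw [← hy, e, orderOf_one])
  by_contra h0
  have key : ∀ p q : ℕ, p.Prime → q.Prime → p ≠ q → p ∣ Nat.card G → q ∣ Nat.card G →
      cnt G (p * q) = cnt G p → (∀ g : G, orderOf g = p → 0 < cnt G p) → (∃ g : G, orderOf g = p) → False := by
    intro p q hp hq hpq hpG hqG he hpos hex
    haveI := Fact.mk hp
    obtain ⟨g, hg⟩ := hex
    have hpos' := hpos g hg
    have h1 := dvd_one_add (G := G) hp hpG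
    have h2 := dvd_pair (G := G) hp hq hpq hpG
    rw [he] at h2
    have hnd : ¬ p ∣ cnt G q := by
      intro hd
      have h3 : p ∣ cnt G q + cnt G p := (Nat.dvd_add_right h1).1 (by rwa [← add_assoc])
      have h4 := (Nat.dvd_add_left ((Nat.dvd_add_right hd).1 h3)).1 h1
      exact hp.ne_one (Nat.dvd_one.1 h4)
    have h5 := two_mul_le (G := G) hq (ne_two hodd hqG) hpq hnd
    omega
  rcases val_cases hodd h hx1 hy1 (by rw [hx]) (by rw [hy]) hne (fun e => hp.ne_one (Nat.eq_one_of_mul_eq_one_right e)) h0 with e | e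
  · exact key p q hp hq hpq hpG hqG e (fun g hg => hg ▸ cnt_pos g) ⟨x, hx⟩
  · exact key q p hq hp hpq.symm hqG hpG (by rwa [mul_comm]) (fun g hg => hg ▸ cnt_pos g) ⟨y, hy⟩

/-- Distinct primes have distinct values. -/
theorem cnt_injOn {p q : ℕ} (hp : p.Prime) (hq : q.Prime) (hpq : p ≠ q) (hpG : p ∣ Nat.card G)
    (hqG : q ∣ Nat.card G) : cnt G p ≠ cnt G q := by
  intro heq
  haveI := Fact.mk hp
  obtain ⟨x, hx⟩ := exists_prime_orderOf_dvd_card' (G := G) p hpG
  have hx1 : x ≠ 1 := fun e => hp.ne_one (by rw [← hx, e, orderOf_one])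
  set a := cnt G p with ha
  have step : ∀ r s : ℕ, r.Prime → s.Prime → r ≠ s → r ∣ Nat.card G → cnt G r = a → cnt G s = a →
      ¬ r ∣ cnt G (r * s) ∧ cnt G (r * s) ≠ a ∧ r ∣ a + cnt G (r * s) := by
    intro r s hr hs hrs hrG hra hsa
    have h1 := dvd_one_add (G := G) hr hrG
    have h2 := dvd_pair (G := G) hr hs hrs hrG
    rw [hra] at h1 h2
    rw [hsa] at h2
    have h3 : r ∣ a + cnt G (r * s) := (Nat.dvd_add_right h1).1 (by rwa [← add_assoc])
    have hna : ¬ r ∣ a := fun hd => hr.ne_one (Nat.dvd_one.1 ((Nat.dvd_add_left hd).1 h1))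
    refine ⟨fun hd => hna ((Nat.dvd_add_left hd).1 h3), fun he => ?_, h3⟩
    rw [he, ← two_mul] at h3
    rcases hr.dvd_mul.1 h3 with h4 | h4
    · exact ne_two hodd hrG ((Nat.prime_dvd_prime_iff_eq hr Nat.prime_two).1 h4)
    · exact hna h4
  obtain ⟨hnd, hna, hpab⟩ := step p q hp hq hpq hpG rfl heq.symm
  set b := cnt G (p * q) with hb
  obtain ⟨z, hz⟩ := exists_of_cnt_ne_zero (G := G) (m := p * q) (fun e => hnd (by rw [hb, e]; exact dvd_zero p))
  have hz1 : z ≠ 1 := fun e => hp.ne_one (Nat.eq_one_of_mul_eq_one_right (by rw [← hz, e, orderOf_one]))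
  have hval : ∀ m, m ≠ 1 → cnt G m ≠ 0 → cnt G m = a ∨ cnt G m = b := fun m hm hm0 =>
    val_cases hodd h hx1 hz1 (by rw [hx]) (by rw [hz]) hna.symm hm hm0
  -- every prime has the value `a`
  have hall : ∀ r : ℕ, r.Prime → r ∣ Nat.card G → cnt G r = a := by
    intro r hr hrG
    haveI := Fact.mk hr
    obtain ⟨g, hg⟩ := exists_prime_orderOf_dvd_card' (G := G) r hrG
    refine (hval r hr.ne_one (hg ▸ (cnt_pos g).ne')).resolve_right fun hrb => ?_
    have hpr : p ≠ r := by rintro rfl; exact hna hrb.symm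
    have h0 := pair_zero hodd h hp hr hpr hpG hrG (by rw [hrb]; exact hna.symm)
    have h1 := dvd_pair (G := G) hp hr hpr hpG
    rw [h0, hrb, add_zero, add_assoc] at h1
    exact hp.ne_one (Nat.dvd_one.1 ((Nat.dvd_add_left hpab).1 h1))
  -- every Sylow subgroup has prime exponent
  have hsq : ∀ r : ℕ, r.Prime → r ∣ Nat.card G → cnt G (r ^ 2) = 0 := by
    intro r hr hrG
    by_contra h0
    have hd := dvd_cnt_sq (G := G) hr hrG
    have hra : ¬ r ∣ a := fun hd => hr.ne_one (Nat.dvd_one.1 ((Nat.dvd_add_left hd).1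
      (by have h1 := dvd_one_add (G := G) hr hrG; rwa [hall r hr hrG] at h1)))
    rcases hval (r ^ 2) (Nat.one_lt_pow two_ne_zero hr.one_lt).ne' h0 with e | e
    · exact hra (e ▸ hd)
    · obtain ⟨s, hs, hsG, hrs⟩ : ∃ s : ℕ, s.Prime ∧ s ∣ Nat.card G ∧ r ≠ s := by
        by_cases hrp : r = p
        · exact ⟨q, hq, hqG, hrp ▸ hpq⟩
        · exact ⟨p, hp, hpG, hrp⟩
      obtain ⟨h1, h2, -⟩ := step r s hr hs hrs hrG (hall r hr hrG) (hall s hs hsG)
      refine h1 ?_
      rcases hval (r * s) (fun e => hr.ne_one (Nat.eq_one_of_mul_eq_one_right e))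
        (fun e => h1 (by rw [e]; exact dvd_zero r)) with e' | e'
      · exact absurd e' h2
      · rw [e', ← e]; exact hd
  have hdvd : Nat.card G ∣ 1 + a := by
    rw [← Nat.factorization_le_iff_dvd Nat.card_pos.ne' (by omega)]
    intro r
    by_cases hr : r.Prime ∧ r ∣ Nat.card G
    · obtain ⟨hr, hrG⟩ := hr
      refine (hr.pow_dvd_iff_le_factorization (by omega)).1 ?_
      set e := (Nat.card G).factorization r with he
      have h1 := dvd_roots (G := G) (dvd_refl (r ^ e)) (Nat.ordProj_dvd _ r) (pow_ne_zero _ hr.ne_zero)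
      have he1 : 1 ≤ e := hr.factorization_pos_of_dvd Nat.card_pos.ne' hrG
      rw [Nat.divisors_prime_pow hr, Finset.sum_map] at h1
      have h2 : ∑ i ∈ Finset.range (e + 1), cnt G (r ^ i) = 1 + a := by
        rw [← Finset.sum_range_add_sum_Ico _ (show 2 ≤ e + 1 by omega),
          show ∑ i ∈ Finset.Ico 2 (e + 1), cnt G (r ^ i) = 0 from Finset.sum_eq_zero fun i hi => ?_,
          Finset.sum_range_succ, Finset.sum_range_one, pow_zero, pow_one, cnt_one, hall r hr hrG, add_zero]
        by_contra h0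
        obtain ⟨g, hg⟩ := exists_of_cnt_ne_zero h0
        have hi2 := (Finset.mem_Ico.1 hi).1
        have hdiv : r ^ (i - 2) ∣ orderOf g := hg ▸ pow_dvd_pow r (Nat.sub_le i 2)
        have h3 : orderOf (g ^ r ^ (i - 2)) = r ^ 2 := by
          rw [orderOf_pow_of_dvd (pow_ne_zero _ hr.ne_zero) hdiv, hg, Nat.pow_div (Nat.sub_le i 2) hr.pos,
            show i - (i - 2) = 2 by omega]
        exact (cnt_pos (g ^ r ^ (i - 2))).ne' (by rw [h3]; exact hsq r hr hrG)
      rw [← h2]
      exact h1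
    · have : (Nat.card G).factorization r = 0 := by
        rcases not_and_or.1 hr with hr | hr
        · exact Nat.factorization_eq_zero_of_not_prime _ hr
        · exact Nat.factorization_eq_zero_of_not_dvd hr
      rw [this]; exact Nat.zero_le _
  have hle : 1 + a + a + b ≤ Nat.card G := by
    have h1 := sum_divisors_pair (G := G) hp hq hpq
    rw [← ha, ← hb, ← heq, ← card_roots _ (mul_ne_zero hp.ne_zero hq.ne_zero)] at h1
    rw [← h1]
    exact Nat.card_le_card_of_injective _ Subtype.val_injective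
  have := Nat.le_of_dvd (by omega) hdvd
  have hb0 : 0 < b := by rw [hb, ← hz]; exact cnt_pos z
  omega

end main

section fpf

variable {A : Type*} [CommGroup A] (φ : G →* MulAut A)

/-- The norm of `v` under the powers of `g`. -/
def nrm (g : G) (n : ℕ) (v : A) : A := ∏ i ∈ Finset.range n, φ (g ^ i) v

theorem smul_nrm {g : G} {n : ℕ} (hn : g ^ n = 1) (v : A) : φ g (nrm φ g n v) = nrm φ g n v := by
  rw [nrm, map_prod]
  simp only [← MulAut.mul_apply, ← map_mul, ← pow_succ']
  have h1 := Finset.prod_range_succ' (fun i => φ (g ^ i) v) n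
  have h2 := Finset.prod_range_succ (fun i => φ (g ^ i) v) n
  rw [h2, hn, pow_zero] at h1
  exact mul_right_cancel h1.symm

variable {p q : ℕ} (hp : p.Prime) (hA : ∀ v : A, v ^ q = 1) (hpq : p.Coprime q)
  (hfpf : ∀ y : G, y ^ p = 1 → y ≠ 1 → ∀ v : A, φ y v = v → v = 1)

include hfpf

theorem nrm_eq_one {y : G} (hy : y ^ p = 1) (hy1 : y ≠ 1) (v : A) : nrm φ y p v = 1 :=
  hfpf y hy hy1 _ (smul_nrm φ hy v)

include hp hA hpq

theorem eq_one_of_nrm {v : A} (h : v ^ p = 1) : v = 1 := by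
  have h1 := Nat.dvd_gcd (orderOf_dvd_of_pow_eq_one h) (orderOf_dvd_of_pow_eq_one (hA v))
  rw [hpq] at h1
  exact orderOf_eq_one_iff.1 (Nat.dvd_one.1 h1)

/-- An elementary abelian group of order `p²` does not act freely. -/
theorem mem_zpowers_of_fpf {x u : G} (hc : Commute x u) (hx : x ^ p = 1) (hu : u ^ p = 1) (hx1 : x ≠ 1)
    (hnu : u ∉ Subgroup.zpowers x) (v : A) : v = 1 := by
  refine eq_one_of_nrm φ hp hA hpq hfpf ?_
  have hne : ∀ j : ℕ, x ^ j * u ≠ 1 := fun j e => hnu (by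
    rw [eq_inv_of_mul_eq_one_right e]; exact inv_mem (Subgroup.pow_mem _ (Subgroup.mem_zpowers x) j))
  have hpw : ∀ j : ℕ, (x ^ j * u) ^ p = 1 := fun j => by
    rw [(hc.pow_left j).mul_pow, hu, mul_one, ← pow_mul, mul_comm j p, pow_mul, hx, one_pow]
  have h1 : ∏ j ∈ Finset.range p, nrm φ (x ^ j * u) p v = 1 :=
    Finset.prod_eq_one fun j _ => nrm_eq_one φ hfpf (hpw j) (hne j) v
  simp only [nrm] at h1
  rw [Finset.prod_comm, ← Finset.mul_prod_erase _ _ (Finset.mem_range.2 hp.pos)] at h1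
  have h2 : ∏ i ∈ (Finset.range p).erase 0, ∏ j ∈ Finset.range p, φ ((x ^ j * u) ^ i) v = 1 := by
    refine Finset.prod_eq_one fun i hi => ?_
    obtain ⟨hi0, hi⟩ := Finset.mem_erase.1 hi
    have hxi : x ^ i ≠ 1 := by
      intro e
      have h3 : orderOf x = p := (hp.eq_one_or_self_of_dvd _ (orderOf_dvd_of_pow_eq_one hx)).resolve_left
        fun h4 => hx1 (orderOf_eq_one_iff.1 h4)
      have := Nat.le_of_dvd (Nat.pos_of_ne_zero hi0) (h3 ▸ orderOf_dvd_of_pow_eq_one e)
      exact absurd (Finset.mem_range.1 hi) (by omega)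
    have h3 := nrm_eq_one φ hfpf (show (x ^ i) ^ p = 1 by rw [← pow_mul, mul_comm, pow_mul, hx, one_pow]) hxi (φ (u ^ i) v)
    rw [nrm] at h3
    rw [← h3]
    refine Finset.prod_congr rfl fun j _ => ?_
    rw [← MulAut.mul_apply, ← map_mul, (hc.pow_left j).mul_pow, ← pow_mul, ← pow_mul, mul_comm i j]
  rw [h2, mul_one] at h1
  simpa using h1

/-- No element of order `q` with trivial norms normalizes a freely acting group of order `p`. -/
theorem eq_one_of_normalizer {x d : G} (hx : x ^ p = 1) (hd : ∀ v : A, nrm φ d q v = 1) (hq : 0 < q)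
    (hdx : ∀ i, 0 < i → i < q → ∀ j : ℕ, (d ^ i)⁻¹ * x ^ j * d ^ i * (x ^ j)⁻¹ = ((d ^ i)⁻¹ * x * d ^ i * x⁻¹) ^ j ∧
      (d ^ i)⁻¹ * x * d ^ i * x⁻¹ ≠ 1 ∧ ((d ^ i)⁻¹ * x * d ^ i * x⁻¹) ^ p = 1) (v : A) : v = 1 := by
  refine eq_one_of_nrm φ hp hA hpq hfpf ?_
  have h1 : ∏ j ∈ Finset.range p, ∏ i ∈ Finset.range q, φ (x ^ j * d ^ i * (x ^ j)⁻¹) v = 1 := by
    refine Finset.prod_eq_one fun j _ => ?_
    have h := congrArg (φ (x ^ j)) (hd (φ (x ^ j)⁻¹ v))
    rw [nrm, map_prod, map_one] at h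
    simpa only [← MulAut.mul_apply, ← map_mul, mul_assoc] using h
  rw [Finset.prod_comm, ← Finset.mul_prod_erase _ _ (Finset.mem_range.2 hq)] at h1
  have h2 : ∏ i ∈ (Finset.range q).erase 0, ∏ j ∈ Finset.range p, φ (x ^ j * d ^ i * (x ^ j)⁻¹) v = 1 := by
    refine Finset.prod_eq_one fun i hi => ?_
    obtain ⟨hi0, hi⟩ := Finset.mem_erase.1 hi
    have hi' := hdx i (Nat.pos_of_ne_zero hi0) (Finset.mem_range.1 hi)
    have h3 := nrm_eq_one φ hfpf (hi' 0).2.2 (hi' 0).2.1 v
    rw [nrm] at h3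
    have h4 : φ (d ^ i) (∏ j ∈ Finset.range p, φ (((d ^ i)⁻¹ * x * d ^ i * x⁻¹) ^ j) v) = 1 := by
      rw [h3, map_one]
    rw [map_prod] at h4
    rw [← h4]
    refine Finset.prod_congr rfl fun j _ => ?_
    rw [← MulAut.mul_apply, ← map_mul, ← (hi' j).1]
    congr 2
    group
  rw [h2, mul_one] at h1
  simpa using h1

end fpf

noncomputable local instance commSubgroup (N : Subgroup G) [IsMulCommutative ↥N] : CommGroup ↥N :=
  { (inferInstance : Group ↥N) with mul_comm := fun a b => IsMulCommutative.is_comm.comm a b }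

/-- Powers of a product with an element of a normal subgroup. -/
theorem mul_pow_normal (N : Subgroup G) [N.Normal] [IsMulCommutative ↥N] (d : G) (v : ↥N) (n : ℕ) :
    ((v : G) * d) ^ n = ((nrm (MulAut.conjNormal (H := N)) d n v : ↥N) : G) * d ^ n := by
  induction n with
  | zero => simp [nrm]
  | succ n ih =>
    rw [pow_succ, ih]
    simp only [nrm, Finset.prod_range_succ, Subgroup.coe_mul, MulAut.conjNormal_apply, pow_succ]
    group

/-- The Frobenius structure when all elements have order `1`, `p` or `q`. -/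
theorem complement [Finite G] {p q : ℕ} [hp : Fact p.Prime] (hq : q.Prime) (hpq : p ≠ q)
    (hpG : p ∣ Nat.card G) (hqG : q ∣ Nat.card G) (hor : ∀ g : G, g ^ p = 1 ∨ g ^ q = 1)
    (N : Subgroup G) [N.Normal] [IsMulCommutative ↥N] (hN : N ≠ ⊥) (hNq : ∀ v ∈ N, v ^ q = 1) :
    ∃ C : Subgroup G, Cfsg.IsFrobeniusComplement C ∧ (Nat.card ↥C).Prime := by
  classical
  have hcop : p.Coprime q := (Nat.coprime_primes hp.out hq).2 hpq
  have hboth : ∀ g : G, g ^ p = 1 → g ^ q = 1 → g = 1 := fun g h1 h2 => by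
    have h3 := Nat.dvd_gcd (orderOf_dvd_of_pow_eq_one h1) (orderOf_dvd_of_pow_eq_one h2)
    rw [hcop] at h3
    exact orderOf_eq_one_iff.1 (Nat.dvd_one.1 h3)
  have hcomm : ∀ a b : G, a ^ p = 1 → b ^ q = 1 → a * b = b * a → a = 1 ∨ b = 1 := by
    intro a b ha hb hab
    rcases hor (a * b) with h | h
    · rw [Commute.mul_pow hab, ha, one_mul] at h
      exact Or.inr (hboth b h hb)
    · rw [Commute.mul_pow hab, hb, mul_one] at h
      exact Or.inl (hboth a ha h)
  set φ := MulAut.conjNormal (H := N) (G := G) with hφ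
  have hA : ∀ v : ↥N, v ^ q = 1 := fun v => Subtype.ext (by rw [Subgroup.coe_pow]; exact hNq _ v.2)
  have hfpf : ∀ y : G, y ^ p = 1 → y ≠ 1 → ∀ v : ↥N, φ y v = v → v = 1 := by
    intro y hy hy1 v hv
    have h1 : y * (v : G) * y⁻¹ = v := by
      have := congrArg Subtype.val hv
      rwa [hφ, MulAut.conjNormal_apply] at this
    exact Subtype.ext ((hcomm y v hy (hNq _ v.2) (mul_inv_eq_iff_eq_mul.1 h1)).resolve_left hy1)
  obtain ⟨v₀, hv₀⟩ := Subgroup.ne_bot_iff_exists_ne_one.1 hN
  obtain ⟨P⟩ : Nonempty (Sylow p G) := inferInstance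
  have hPp : ∀ u ∈ (P : Subgroup G), u ^ p = 1 := by
    intro u hu
    rcases hor u with h | h
    · exact h
    · obtain ⟨k, hk⟩ := P.isPGroup' ⟨u, hu⟩
      have h1 := Nat.dvd_gcd (orderOf_dvd_of_pow_eq_one (congrArg Subtype.val hk)) (orderOf_dvd_of_pow_eq_one h)
      rw [(hcop.pow_left k)] at h1
      show u ^ p = 1
      rw [show u = 1 from orderOf_eq_one_iff.1 (Nat.dvd_one.1 h1), one_pow]
  haveI : Nontrivial ↥(P : Subgroup G) := (Subgroup.nontrivial_iff_ne_bot _).2 (P.ne_bot_of_dvd_card hpG)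
  haveI := P.isPGroup'.center_nontrivial
  obtain ⟨⟨⟨x, hxP⟩, hxc⟩, hx1⟩ := exists_ne (1 : Subgroup.center ↥(P : Subgroup G))
  have hx1' : x ≠ 1 := fun e => hx1 (Subtype.ext (Subtype.ext e))
  have hxp := hPp x hxP
  have hPx : (P : Subgroup G) = Subgroup.zpowers x := by
    refine le_antisymm (fun u hu => ?_) (Subgroup.zpowers_le.2 hxP)
    by_contra hnu
    have hc : Commute x u := (congrArg Subtype.val (Subgroup.mem_center_iff.1 hxc ⟨u, hu⟩)).symm
    exact hv₀ (mem_zpowers_of_fpf φ hp.out hA hcop hfpf hc hxp (hPp u hu) hx1' hnu v₀)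
  have hox : orderOf x = p := orderOf_eq_prime hxp hx1'
  have hcP : Nat.card ↥(P : Subgroup G) = p := by rw [hPx, Nat.card_zpowers, hox]
  refine ⟨P, ⟨P.ne_bot_of_dvd_card hpG, fun e => ?_, fun g hg => ?_⟩, hcP.symm ▸ hp.out⟩
  · rw [e, Subgroup.card_top] at hcP
    rw [hcP] at hqG
    exact hpq ((Nat.prime_dvd_prime_iff_eq hq hp.out).1 hqG).symm
  · by_contra hne
    -- `g` normalizes `P`
    obtain ⟨⟨y, hyP, hyg⟩, hy1⟩ := Subgroup.ne_bot_iff_exists_ne_one.1 hne
    have hgx : ∀ j : ℕ, ∃ k : ℕ, g * x ^ j * g⁻¹ = x ^ k := by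
      obtain ⟨z, hz, hzy⟩ := (Subgroup.mem_smul_pointwise_iff_exists _ _ _).1 hyg
      have hzne : z ≠ 1 := fun e => hy1 (Subtype.ext (hzy.symm.trans (by rw [e, smul_one]; rfl)))
      replace hyP : y ∈ Subgroup.zpowers x := hPx ▸ (hyP : y ∈ (P : Subgroup G))
      rw [hPx] at hz
      obtain ⟨a, ha⟩ := mem_powers_iff_mem_zpowers.2 hyP
      obtain ⟨b, hb⟩ := mem_powers_iff_mem_zpowers.2 hz
      simp only at ha hb
      have hbp : b.Coprime p := (hp.out.coprime_iff_not_dvd.2 fun hd => hzne (by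
        rw [← hb, orderOf_dvd_iff_pow_eq_one.1 (hox.symm ▸ hd)])).symm
      obtain ⟨c, -, hc⟩ := Nat.exists_mul_mod_eq_one_of_coprime hbp hp.out.one_lt
      intro j
      refine ⟨a * c * j, ?_⟩
      have hx' : x = z ^ c := by rw [← hb, ← pow_mul, ← pow_mod_orderOf, hox, hc, pow_one]
      have hzg : g * z * g⁻¹ = x ^ a := by rw [ha, ← hzy]; rfl
      calc g * x ^ j * g⁻¹ = MulAut.conj g (z ^ (c * j)) := by rw [pow_mul, ← hx']; rfl
        _ = (g * z * g⁻¹) ^ (c * j) := by rw [map_pow]; rfl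
        _ = x ^ (a * c * j) := by rw [hzg, ← pow_mul, mul_assoc]
    obtain ⟨k, hk⟩ := hgx 1
    rw [pow_one] at hk
    rcases hor g with hgp | hgq
    · -- a larger `p`-subgroup
      have hgN : g ∈ Subgroup.normalizer ((P : Subgroup G) : Set G) := by
        rw [Subgroup.mem_normalizer_iff_map_conj_eq]
        refine Subgroup.eq_of_le_of_card_ge ?_ (Subgroup.card_map_of_injective (MulAut.conj g).injective).ge
        rw [hPx, MonoidHom.map_zpowers, Subgroup.zpowers_le]
        exact ⟨k, by simpa using hk.symm⟩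
      have hgP : IsPGroup p (Subgroup.zpowers g) := fun u => ⟨1, Subtype.ext (by
        obtain ⟨i, hi⟩ := Subgroup.mem_zpowers_iff.1 u.2
        rw [Subgroup.coe_pow, ← hi, pow_one, ← zpow_natCast, ← zpow_mul, mul_comm, zpow_mul, zpow_natCast, hgp,
          one_zpow, Subgroup.coe_one])⟩
      have h2 : g ∈ Subgroup.zpowers g ⊓ Subgroup.normalizer ((P : Subgroup G) : Set G) := ⟨Subgroup.mem_zpowers g, hgN⟩
      exact hg ((hgP.inf_normalizer_sylow P).le h2).2
    · -- an element of order `q` normalizing `P`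
      have hgN : ∀ i j : ℕ, ∃ k : ℕ, (g ^ i) * x ^ j * (g ^ i)⁻¹ = x ^ k := by
        intro i
        induction i with
        | zero => exact fun j => ⟨j, by simp⟩
        | succ i ih =>
          intro j
          obtain ⟨k, hk⟩ := ih j
          obtain ⟨l, hl⟩ := hgx k
          refine ⟨l, ?_⟩
          rw [← hl, ← hk, pow_succ']
          group
      have hd : ∀ v : ↥N, nrm φ g q v = 1 := by
        intro v
        have h1 := mul_pow_normal N g v q
        rw [hgq, mul_one] at h1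
        rcases hor ((v : G) * g) with h | h
        · have h2 := mul_pow_normal N g v p
          rw [h] at h2
          have h3 : g ^ p ∈ N := by
            rw [eq_inv_of_mul_eq_one_right h2.symm]; exact inv_mem (SetLike.coe_mem _)
          obtain ⟨c, -, hc⟩ := Nat.exists_mul_mod_eq_one_of_coprime hcop hq.one_lt
          have hgN' : g ∈ N := by
            have h4 := N.pow_mem h3 c
            rwa [← pow_mul, ← Nat.mod_add_div (p * c) q, hc, pow_add, pow_mul g q, hgq, one_pow, mul_one,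
              pow_one] at h4
          exfalso
          have hxg : x * g * x⁻¹ * g⁻¹ = 1 := by
            refine hboth _ ?_ (hNq _ (N.mul_mem (Subgroup.Normal.conj_mem ‹_› g hgN' x) (inv_mem hgN')))
            have : x * g * x⁻¹ * g⁻¹ = x * (g * x * g⁻¹)⁻¹ := by group
            rw [this, hk]
            exact hPp _ ((P : Subgroup G).mul_mem hxP (inv_mem (Subgroup.pow_mem _ hxP k)))
          rcases hcomm x g hxp hgq (by
            rwa [mul_inv_eq_one, mul_inv_eq_iff_eq_mul] at hxg) with h5 | h5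
          · exact hx1' h5
          · exact hg (h5 ▸ (P : Subgroup G).one_mem)
        · exact Subtype.ext (by rw [← h1, h]; rfl)
      refine hv₀ (eq_one_of_normalizer φ hp.out hA hcop hfpf hxp hd hq.pos ?_ v₀)
      intro i hi0 hiq j
      have hmem : (g ^ i)⁻¹ * x * g ^ i ∈ Subgroup.zpowers x := by
        have hinv : (g ^ i)⁻¹ = g ^ (q - i) := inv_eq_of_mul_eq_one_right (by
          rw [← pow_add, show i + (q - i) = q by omega, hgq])
        obtain ⟨k, hk⟩ := hgN (q - i) 1
        rw [pow_one, ← hinv, inv_inv] at hk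
        exact hk ▸ Subgroup.pow_mem _ (Subgroup.mem_zpowers x) k
      obtain ⟨m, hm⟩ := mem_powers_iff_mem_zpowers.2 hmem
      simp only at hm
      refine ⟨?_, ?_, ?_⟩
      · rw [Commute.mul_pow (by rw [← hm]; exact ((Commute.self_pow x m).symm).inv_right), inv_pow]
        congr 1
        have h1 := map_pow (MulAut.conj (g ^ i)⁻¹) x j
        rwa [MulAut.conj_apply, MulAut.conj_apply, inv_inv] at h1
      · intro e
        rw [mul_inv_eq_one, mul_assoc, inv_mul_eq_iff_eq_mul] at e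
        rcases hcomm x (g ^ i) hxp (by rw [← pow_mul, mul_comm, pow_mul, hgq, one_pow]) e with h5 | h5
        · exact hx1' h5
        · rcases Nat.Prime.eq_one_or_self_of_dvd hq _ (orderOf_dvd_of_pow_eq_one hgq) with h6 | h6
          · exact hg (orderOf_eq_one_iff.1 h6 ▸ (P : Subgroup G).one_mem)
          · have := Nat.le_of_dvd hi0 (h6 ▸ orderOf_dvd_of_pow_eq_one h5)
            omega
      · rw [← hm]
        exact hPp _ ((P : Subgroup G).mul_mem (Subgroup.pow_mem _ hxP m) (inv_mem hxP))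

/-- Let G be a finite group of odd order in which the numbers of elements of each order that occurs (the numbers #{g : o(g) = m}, m ranging over the element orders of G) take exactly three different values. Then the order of G has at most two prime divisors; and if it has exactly two, then every Sylow subgroup of G for a prime dividing its order has prime exponent, G is a Frobenius group, and some Frobenius complement of G has prime order. -/
theorem result {G : Type*} [Group G] [Finite G] (hodd : Odd (Nat.card G)) (h : (((fun m : ℕ => Nat.card {g : G // orderOf g = m}) '' Set.range (orderOf : G → ℕ))).ncard = 3) :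
    (Nat.card G).primeFactors.card ≤ 2 ∧
      ((Nat.card G).primeFactors.card = 2 →
        (∀ (p : ℕ) [Fact p.Prime] (P : Sylow p G), p ∣ Nat.card G → Monoid.exponent ↥(P : Subgroup G) = p) ∧
        ∃ C : Subgroup G, Cfsg.IsFrobeniusComplement C ∧ (Nat.card ↥C).Prime) := by
  classical
  have hmem : ∀ r, r ∈ (Nat.card G).primeFactors → r.Prime ∧ r ∣ Nat.card G := fun r hr =>
    ⟨Nat.prime_of_mem_primeFactors hr, Nat.dvd_of_mem_primeFactors hr⟩
  refine ⟨?_, fun hcard => ?_⟩
  · by_contra hlt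
    obtain ⟨p, q, r, hpm, hqm, hrm, hpq, hpr, hqr⟩ := Finset.two_lt_card_iff.1 (not_le.1 hlt)
    obtain ⟨hp, hpG⟩ := hmem p hpm
    obtain ⟨hq, hqG⟩ := hmem q hqm
    obtain ⟨hr, hrG⟩ := hmem r hrm
    haveI := Fact.mk hp
    haveI := Fact.mk hq
    haveI := Fact.mk hr
    obtain ⟨x, hx⟩ := exists_prime_orderOf_dvd_card' (G := G) p hpG
    obtain ⟨y, hy⟩ := exists_prime_orderOf_dvd_card' (G := G) q hqG
    obtain ⟨z, hz⟩ := exists_prime_orderOf_dvd_card' (G := G) r hrG
    rcases val_cases hodd h (g₁ := x) (g₂ := y) (fun e => hp.ne_one (by rw [← hx, e, orderOf_one]))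
      (fun e => hq.ne_one (by rw [← hy, e, orderOf_one])) (by rw [hx]) (by rw [hy])
      (cnt_injOn hodd h hp hq hpq hpG hqG) hr.ne_one (hz ▸ (cnt_pos z).ne') with e | e
    · exact cnt_injOn hodd h hr hp hpr.symm hrG hpG e
    · exact cnt_injOn hodd h hr hq hqr.symm hrG hqG e
  obtain ⟨p, q, hpq, hset⟩ := Finset.card_eq_two.1 hcard
  obtain ⟨hp, hpG⟩ := hmem p (by rw [hset]; simp)
  obtain ⟨hq, hqG⟩ := hmem q (by rw [hset]; simp)
  haveI := Fact.mk hp
  haveI := Fact.mk hq
  have hne := cnt_injOn hodd h hp hq hpq hpG hqG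
  have h0 := pair_zero hodd h hp hq hpq hpG hqG hne
  have hnopq : ∀ g : G, p ∣ orderOf g → q ∣ orderOf g → False := by
    intro g h1 h2
    have hd : p * q ∣ orderOf g := Nat.Coprime.mul_dvd_of_dvd_of_dvd ((Nat.coprime_primes hp hq).2 hpq) h1 h2
    have h3 := orderOf_pow_orderOf_div (orderOf_pos g).ne' hd
    exact (cnt_pos (g ^ (orderOf g / (p * q)))).ne' (by rw [h3]; exact h0)
  have hnosq : ∀ r s : ℕ, r.Prime → s.Prime → r ≠ s → r ∣ Nat.card G → s ∣ Nat.card G →
      (∀ g : G, r ∣ orderOf g → s ∣ orderOf g → False) → cnt G (r ^ 2) = 0 := by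
    intro r s hr hs hrs hrG hsG hno
    haveI := Fact.mk hr
    haveI := Fact.mk hs
    by_contra h2
    obtain ⟨x, hx⟩ := exists_prime_orderOf_dvd_card' (G := G) r hrG
    obtain ⟨y, hy⟩ := exists_prime_orderOf_dvd_card' (G := G) s hsG
    have hd := dvd_cnt_sq (G := G) hr hrG
    have hsd : s ∣ cnt G (r ^ 2) := by
      by_contra hns
      obtain ⟨z, hz⟩ := exists_order_mul (G := G) hsG hns (((Nat.coprime_primes hr hs).2 hrs).pow_left 2)
      exact hno z (hz ▸ dvd_mul_of_dvd_right (dvd_pow_self r two_ne_zero) s) (hz ▸ dvd_mul_right s _)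
    rcases val_cases hodd h (g₁ := x) (g₂ := y) (fun e => hr.ne_one (by rw [← hx, e, orderOf_one]))
      (fun e => hs.ne_one (by rw [← hy, e, orderOf_one])) (by rw [hx]) (by rw [hy])
      (cnt_injOn hodd h hr hs hrs hrG hsG) (Nat.one_lt_pow two_ne_zero hr.one_lt).ne' h2 with e | e
    · rw [e] at hd
      exact hr.ne_one (Nat.dvd_one.1 ((Nat.dvd_add_left hd).1 (dvd_one_add hr hrG)))
    · rw [e] at hsd
      exact hs.ne_one (Nat.dvd_one.1 ((Nat.dvd_add_left hsd).1 (dvd_one_add hs hsG)))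
  have hp2 := hnosq p q hp hq hpq hpG hqG hnopq
  have hq2 := hnosq q p hq hp hpq.symm hqG hpG fun g h1 h2 => hnopq g h2 h1
  have hor : ∀ g : G, g ^ p = 1 ∨ g ^ q = 1 := by
    intro g
    by_contra hg
    push_neg at hg
    have hm1 : orderOf g ≠ 1 := fun e => hg.1 (by rw [orderOf_eq_one_iff.1 e, one_pow])
    obtain ⟨r, hr, hrd⟩ := Nat.exists_prime_and_dvd hm1
    have hrs : r = p ∨ r = q := by
      have h1 : r ∈ (Nat.card G).primeFactors := Nat.mem_primeFactors.2 ⟨hr, hrd.trans (orderOf_dvd_natCard g), Nat.card_pos.ne'⟩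
      rw [hset] at h1; simpa using h1
    have hone : ∀ t, t.Prime → t ∣ orderOf g → t = r := by
      intro t ht htd
      have h1 : t ∈ (Nat.card G).primeFactors := Nat.mem_primeFactors.2 ⟨ht, htd.trans (orderOf_dvd_natCard g), Nat.card_pos.ne'⟩
      rw [hset] at h1
      simp only [Finset.mem_insert, Finset.mem_singleton] at h1
      rcases hrs with rfl | rfl <;> rcases h1 with rfl | rfl
      · rfl
      · exact (hnopq g hrd htd).elim
      · exact (hnopq g htd hrd).elim
      · rfl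
    have hpw := Nat.eq_prime_pow_of_unique_prime_dvd (orderOf_pos g).ne' (fun {t} ht htd => hone t ht htd)
    rcases Nat.lt_or_ge (orderOf g).primeFactorsList.length 2 with hl | hl
    · have hd : orderOf g ∣ r := by
        rw [hpw]
        exact (pow_dvd_pow r (Nat.lt_succ_iff.1 hl)).trans (by rw [pow_one])
      rcases hrs with rfl | rfl
      · exact hg.1 (orderOf_dvd_iff_pow_eq_one.1 hd)
      · exact hg.2 (orderOf_dvd_iff_pow_eq_one.1 hd)
    · have hd : r ^ 2 ∣ orderOf g := by rw [hpw]; exact pow_dvd_pow r hl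
      have h3 := orderOf_pow_orderOf_div (orderOf_pos g).ne' hd
      rcases hrs with rfl | rfl
      · exact (cnt_pos _).ne' (h3.symm ▸ hp2)
      · exact (cnt_pos _).ne' (h3.symm ▸ hq2)
  refine ⟨fun r _ P hrG => ?_, ?_⟩
  · have hr := (Fact.out : r.Prime)
    have hrs : r = p ∨ r = q := by
      have h1 : r ∈ (Nat.card G).primeFactors := Nat.mem_primeFactors.2 ⟨hr, hrG, Nat.card_pos.ne'⟩
      rw [hset] at h1; simpa using h1
    have hall : ∀ u : ↥(P : Subgroup G), u ^ r = 1 := by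
      intro u
      refine orderOf_dvd_iff_pow_eq_one.1 ?_
      obtain ⟨k, hk⟩ := IsPGroup.iff_orderOf.1 P.isPGroup' u
      rw [hk]
      rcases k with _ | k
      · simp
      · have hd : ∀ t, t.Prime → (u : G) ^ t = 1 → r ∣ t := fun t ht hut => by
          refine (dvd_pow_self r (Nat.succ_ne_zero k)).trans ?_
          rw [← hk, ← Subgroup.orderOf_coe]; exact orderOf_dvd_of_pow_eq_one hut
        rcases hor (u : G) with h1 | h1
        · rw [← hk, ← Subgroup.orderOf_coe]
          exact (orderOf_dvd_of_pow_eq_one h1).trans (dvd_of_eq ((Nat.prime_dvd_prime_iff_eq hr hp).1 (hd p hp h1)).symm)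
        · rw [← hk, ← Subgroup.orderOf_coe]
          exact (orderOf_dvd_of_pow_eq_one h1).trans (dvd_of_eq ((Nat.prime_dvd_prime_iff_eq hr hq).1 (hd q hq h1)).symm)
    refine ((hr.eq_one_or_self_of_dvd _ (Monoid.exponent_dvd_of_forall_pow_eq_one hall)).resolve_left fun e => ?_)
    haveI : Subsingleton ↥(P : Subgroup G) := Monoid.exp_eq_one_iff.1 e
    exact P.ne_bot_of_dvd_card hrG (Subgroup.eq_bot_of_subsingleton _)
  -- an abelian normal subgroup
  have hfac : Nat.card G = p ^ (Nat.card G).factorization p * q ^ (Nat.card G).factorization q := by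
    conv_lhs => rw [← Nat.prod_factorization_pow_eq_self (Nat.card_pos (α := G)).ne']
    rw [Finsupp.prod, Nat.support_factorization, hset, Finset.prod_pair hpq]
  haveI : Group.IsSolvable G := Cfsg.Agent.S0144.result p q _ _ hp hq hfac
  haveI : Nontrivial G := Finite.one_lt_card_iff_nontrivial.1 (lt_of_lt_of_le hp.one_lt (Nat.le_of_dvd Nat.card_pos hpG))
  obtain ⟨N, hNn, hNc, hN⟩ : ∃ N : Subgroup G, N.Normal ∧ IsMulCommutative ↥N ∧ N ≠ ⊥ := by
    obtain ⟨n, hn⟩ := ‹Group.IsSolvable G›.solvable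
    have hex : ∃ n, derivedSeries G n = ⊥ := ⟨n, hn⟩
    have h0 : Nat.find hex ≠ 0 := fun e => by
      have h1 := Nat.find_spec hex
      rw [e, derivedSeries_zero] at h1
      exact top_ne_bot h1
    obtain ⟨m, hm⟩ := Nat.exists_eq_succ_of_ne_zero h0
    refine ⟨derivedSeries G m, derivedSeries_normal G m, ⟨⟨fun a b => ?_⟩⟩, Nat.find_min hex (by omega)⟩
    have h1 : ⁅derivedSeries G m, derivedSeries G m⁆ = ⊥ := by
      rw [← derivedSeries_succ, ← Nat.succ_eq_add_one, ← hm]; exact Nat.find_spec hex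
    exact Subtype.ext (Subgroup.mem_centralizer_iff.1
      ((Subgroup.commutator_eq_bot_iff_le_centralizer.1 h1) b.2) a.1 a.2)
  obtain ⟨v, hv⟩ := Subgroup.ne_bot_iff_exists_ne_one.1 hN
  have hv' : (v : G) ≠ 1 := fun e => hv (Subtype.ext e)
  have key : ∀ r s : ℕ, r.Prime → s.Prime → r ≠ s → (∀ g : G, g ^ r = 1 ∨ g ^ s = 1) → (v : G) ^ s = 1 →
      ∀ w ∈ N, w ^ s = 1 := by
    intro r s hr hs hrs hor' hvs w hw
    rcases hor' w with h1 | h1
    · by_cases hw1 : w = 1
      · rw [hw1, one_pow]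
      · exfalso
        have hc : Commute w (v : G) := congrArg Subtype.val (hNc.is_comm.comm ⟨w, hw⟩ v)
        have hcop : r.Coprime s := (Nat.coprime_primes hr hs).2 hrs
        have hboth : ∀ g : G, g ^ r = 1 → g ^ s = 1 → g = 1 := fun g h1 h2 => by
          have h3 := Nat.dvd_gcd (orderOf_dvd_of_pow_eq_one h1) (orderOf_dvd_of_pow_eq_one h2)
          rw [hcop] at h3
          exact orderOf_eq_one_iff.1 (Nat.dvd_one.1 h3)
        rcases hor' (w * v) with h2 | h2
        · rw [hc.mul_pow, h1, one_mul] at h2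
          exact hv' (hboth _ h2 hvs)
        · rw [hc.mul_pow, hvs, mul_one] at h2
          exact hw1 (hboth _ h1 h2)
    · exact h1
  rcases hor (v : G) with hvp | hvq
  · exact complement hp hpq.symm hqG hpG (fun g => (hor g).symm) N hN
      (key q p hq hp hpq.symm (fun g => (hor g).symm) hvp)
  · exact complement hq hpq hpG hqG hor N hN (key p q hp hq hpq hor hvq)

end Cfsg.Agent.S4004
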