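import Cfsg.Statements.S4005
import Cfsg.Agent.S0144
import Cfsg.Agent.Lib.Solvable.Basic
import Cfsg.Agent.Lib.Coprime.Generation

set_option autoImplicit false
open Cfsg
open scoped Pointwise

namespace Cfsg.Agent.S4005

/-- A finite group whose set of element orders is exactly {1, 2, 3} has either a normal elementary abelian 3-subgroup of index 2 or a normal elementary abelian 2-subgroup of index 3. -/
theorem result {G : Type*} [Group G] [Finite G] (h : Set.range (orderOf : G → ℕ) = {k : ℕ | 1 ≤ k ∧ k ≤ 3}) :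
    (∃ N : Subgroup G, N.Normal ∧ Cfsg.IsElementaryAbelian 3 N ∧ N.index = 2) ∨
      (∃ N : Subgroup G, N.Normal ∧ Cfsg.IsElementaryAbelian 2 N ∧ N.index = 3) := by
  classical
  haveI : Fact (Nat.Prime 2) := ⟨Nat.prime_two⟩
  haveI : Fact (Nat.Prime 3) := ⟨Nat.prime_three⟩
  have hle : ∀ g : G, orderOf g = 1 ∨ orderOf g = 2 ∨ orderOf g = 3 := fun g => by
    have hm : orderOf g ∈ {k : ℕ | 1 ≤ k ∧ k ≤ 3} := h ▸ Set.mem_range_self g
    simp only [Set.mem_setOf_eq] at hm
    omega
  have hprimes : ∀ q : ℕ, q.Prime → q ∣ Nat.card G → q = 2 ∨ q = 3 := fun q hq hd => by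
    haveI := Fact.mk hq
    obtain ⟨g, hg⟩ := exists_prime_orderOf_dvd_card' (G := G) q hd
    have := hle g; have := hq.two_le; omega
  obtain ⟨a, b, hab⟩ : ∃ a b, Nat.card G = 2 ^ a * 3 ^ b := by
    obtain ⟨a, m, hm, e⟩ := Nat.exists_eq_pow_mul_and_not_dvd (Nat.card_pos (α := G)).ne' 2 (by norm_num)
    have hm0 : m ≠ 0 := fun h0 => hm (h0 ▸ dvd_zero 2)
    refine ⟨a, m.primeFactorsList.length, ?_⟩
    rw [← Nat.eq_prime_pow_of_unique_prime_dvd hm0 fun {d} hd hdm => ?_]
    · exact e
    · exact (hprimes d hd (hdm.trans (e ▸ dvd_mul_left m (2 ^ a)))).resolve_left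
        fun h2 => hm (h2 ▸ hdm)
  haveI : Group.IsSolvable G := Cfsg.Agent.S0144.result 2 3 a b Nat.prime_two Nat.prime_three hab
  obtain ⟨t, ht⟩ : ∃ t : G, orderOf t = 2 := by
    have : (2 : ℕ) ∈ Set.range (orderOf : G → ℕ) := by rw [h]; simp
    exact this
  obtain ⟨u, hu⟩ : ∃ u : G, orderOf u = 3 := by
    have : (3 : ℕ) ∈ Set.range (orderOf : G → ℕ) := by rw [h]; simp
    exact this
  -- elements of orders 2 and 3 do not commute
  have hno : ∀ x y : G, orderOf x = 2 → orderOf y = 3 → ¬ Commute x y := fun x y hx hy hc => by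
    have := hc.orderOf_mul_eq_mul_orderOf_of_coprime (by rw [hx, hy]; norm_num)
    rw [hx, hy] at this
    have := hle (x * y); omega
  haveI : Nontrivial G := ⟨⟨t, 1, fun e => by rw [e, orderOf_one] at ht; omega⟩⟩
  obtain ⟨N, p, hp, hNn, hNb, -, hNab, hNp, -⟩ :=
    CfsgLib.Solvable.Basic.exists_minimal_normal_pgroup (G := G) (H := ⊤) top_ne_bot
  haveI := Fact.mk hp
  obtain ⟨⟨n, hn⟩, hn1'⟩ := Subgroup.ne_bot_iff_exists_ne_one.1 hNb
  have hn1 : n ≠ 1 := fun e => hn1' (Subtype.ext e)
  have hordN : ∀ x ∈ N, x ≠ 1 → orderOf x = p := by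
    intro x hx hx1
    obtain ⟨k, hk⟩ := IsPGroup.iff_orderOf.1 hNp ⟨x, hx⟩
    rw [Subgroup.orderOf_mk] at hk
    rcases hle x with h' | h' | h'
    · exact absurd (orderOf_eq_one_iff.1 h') hx1
    · rw [h'] at hk ⊢
      exact ((Nat.prime_dvd_prime_iff_eq Nat.prime_two hp).1
        (Nat.prime_two.dvd_of_dvd_pow hk.dvd))
    · rw [h'] at hk ⊢
      exact ((Nat.prime_dvd_prime_iff_eq Nat.prime_three hp).1
        (Nat.prime_three.dvd_of_dvd_pow hk.dvd))
  have hexp : ∀ (q : ℕ) (P : Subgroup G), q.Prime → IsPGroup q P → ∀ x ∈ P, x ^ q = 1 := by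
    intro q P hq hP x hx
    haveI := Fact.mk hq
    obtain ⟨k, hk⟩ := IsPGroup.iff_orderOf.1 hP ⟨x, hx⟩
    rw [Subgroup.orderOf_mk] at hk
    apply orderOf_dvd_iff_pow_eq_one.1
    rcases hle x with h' | h' | h'
    · rw [h']; exact one_dvd q
    · rw [h'] at hk ⊢
      exact ((Nat.prime_dvd_prime_iff_eq Nat.prime_two hq).1
        (Nat.prime_two.dvd_of_dvd_pow hk.dvd)).dvd
    · rw [h'] at hk ⊢
      exact ((Nat.prime_dvd_prime_iff_eq Nat.prime_three hq).1
        (Nat.prime_three.dvd_of_dvd_pow hk.dvd)).dvd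
  obtain ⟨S⟩ : Nonempty (Sylow 2 G) := inferInstance
  have hSexp := hexp 2 S Nat.prime_two S.isPGroup'
  have hSab : ∀ x ∈ (S : Subgroup G), ∀ y ∈ (S : Subgroup G), x * y = y * x := fun x hx y hy => by
    have hs : ∀ c ∈ (S : Subgroup G), c⁻¹ = c := fun c hc =>
      inv_eq_of_mul_eq_one_right (by rw [← pow_two]; exact hSexp c hc)
    rw [← hs (x * y) (mul_mem hx hy), mul_inv_rev, hs x hx, hs y hy]
  rcases hprimes p hp ((hordN n hn hn1) ▸ orderOf_dvd_natCard n) with rfl | rfl
  · -- `p = 2`: the Sylow 2-subgroup is normal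
    right
    have hNS : N ≤ (S : Subgroup G) := by
      obtain ⟨T, hT⟩ := hNp.exists_le_sylow
      obtain ⟨g, hg⟩ := MulAction.exists_smul_eq G T S
      intro x hx
      rw [← hg, Sylow.coe_subgroup_smul]
      exact ⟨g⁻¹ * x * g, hT (by simpa using hNn.conj_mem x hx g⁻¹), by simp [mul_assoc]⟩
    have hSC : (S : Subgroup G) ≤ Subgroup.centralizer (N : Set G) := fun x hx =>
      Subgroup.mem_centralizer_iff.2 fun y hy => hSab y (hNS hy) x hx
    have hCp : IsPGroup 2 ↥(Subgroup.centralizer (N : Set G)) := fun ⟨x, hx⟩ => by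
      refine ⟨1, Subtype.ext ?_⟩
      show x ^ 2 ^ 1 = 1
      rw [pow_one, ← orderOf_dvd_iff_pow_eq_one]
      rcases hle x with h' | h' | h'
      · rw [h']; norm_num
      · rw [h']
      · exact absurd (show Commute n x from Subgroup.mem_centralizer_iff.1 hx n hn)
          (hno n x (hordN n hn hn1) h')
    haveI hSn : (S : Subgroup G).Normal := by
      rw [← S.is_maximal' hCp hSC]
      haveI := hNn
      infer_instance
    refine ⟨S, hSn, ⟨⟨⟨fun x y => Subtype.ext (hSab x x.2 y y.2)⟩⟩, hSexp⟩, ?_⟩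
    obtain ⟨P⟩ : Nonempty (Sylow 3 G) := inferInstance
    have hidx : (S : Subgroup G).index = Nat.card (P : Subgroup G) := by
      have h1 := Subgroup.card_mul_index (S : Subgroup G)
      rw [S.card_eq_multiplicity, hab] at h1
      rw [P.card_eq_multiplicity, hab]
      have hfa : (2 ^ a * 3 ^ b).factorization 2 = a := by
        rw [Nat.factorization_mul (by positivity) (by positivity), Finsupp.add_apply,
          Nat.prime_two.factorization_pow, Nat.prime_three.factorization_pow]
        simp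
      have hfb : (2 ^ a * 3 ^ b).factorization 3 = b := by
        rw [Nat.factorization_mul (by positivity) (by positivity), Finsupp.add_apply,
          Nat.prime_two.factorization_pow, Nat.prime_three.factorization_pow]
        simp
      rw [hfa] at h1
      rw [hfb]
      exact Nat.eq_of_mul_eq_mul_left (pow_pos two_pos a) h1
    obtain ⟨c, hc⟩ := IsPGroup.iff_card.1 P.isPGroup'
    have hc1 : 1 ≤ c := by
      by_contra h0
      have h3 : 3 ∣ Nat.card (P : Subgroup G) := P.dvd_card_of_dvd_card (hu ▸ orderOf_dvd_natCard u)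
      rw [hc, show c = 0 by omega] at h3
      norm_num at h3
    have hc2 : c ≤ 1 := by
      by_contra h2
      obtain ⟨A, hA⟩ := Sylow.exists_subgroup_card_pow_prime (G := ↥(P : Subgroup G)) 3 (n := 2)
        (hc ▸ pow_dvd_pow 3 (by omega))
      set B := A.map (P : Subgroup G).subtype
      have hBc : Nat.card B = 3 ^ 2 := by
        rw [Subgroup.card_map_of_injective (P : Subgroup G).subtype_injective, hA]
      haveI : IsMulCommutative B := ⟨⟨(IsPGroup.commGroupOfCardEqPrimeSq (p := 3) hBc).mul_comm⟩⟩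
      have hB3 : ∀ x ∈ B, x ^ 3 = 1 := hexp 3 B Nat.prime_three (IsPGroup.iff_card.2 ⟨2, hBc⟩)
      have hncB : ¬ IsCyclic B := by
        intro hcy
        obtain ⟨g, hg⟩ := IsCyclic.exists_ofOrder_eq_natCard (α := B)
        have := Nat.le_of_dvd (by norm_num)
          (orderOf_dvd_of_pow_eq_one (show g ^ 3 = 1 from Subtype.ext (hB3 g g.2)))
        rw [hg, hBc] at this
        norm_num at this
      have hcopB : (Nat.card B).Coprime (Nat.card N) := by
        obtain ⟨d, hd⟩ := IsPGroup.iff_card.1 hNp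
        rw [hBc, hd]
        exact ((Nat.coprime_primes Nat.prime_three Nat.prime_two).2 (by norm_num)).pow 2 d
      have hgen := CfsgLib.Coprime.iSup_centralizer_singleton hncB
        (le_top.trans_eq (Subgroup.normalizer_eq_top_iff.2 hNn).symm) hcopB
      have hbot : N ≤ ⊥ := hgen.ge.trans (iSup₂_le fun x hx y hy => by
        obtain ⟨hy1, hy2⟩ := Subgroup.mem_inf.1 hy
        rw [Subgroup.mem_bot]
        by_contra hy'
        refine hno y x (hordN y hy1 hy') ?_ (Subgroup.mem_centralizer_singleton_iff.1 hy2)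
        exact orderOf_eq_prime (hB3 x hx.1) hx.2)
      exact hNb (le_bot_iff.1 hbot)
    rw [hidx, hc, show c = 1 by omega, pow_one]
  · -- `p = 3`: involutions invert `N`
    left
    have hNno : ∀ x : G, orderOf x = 2 → ∀ y ∈ N, Commute x y → y = 1 := fun x hx y hy hc =>
      by_contra fun hy1 => hno x y hx (hordN y hy hy1) hc
    have hinv : ∀ x : G, orderOf x = 2 → ∀ M : Subgroup G, M.Normal →
        (∀ y ∈ M, Commute x y → y = 1) → ∀ y ∈ M, x * y * x⁻¹ = y⁻¹ := by
      intro x hx M hM hfix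
      have hx2 : x * x = 1 := by rw [← pow_two, ← hx]; exact pow_orderOf_eq_one x
      let φ : M →* M := MonoidHom.mk' (fun y => ⟨x * y * x⁻¹, hM.conj_mem y y.2 x⟩)
        fun c d => Subtype.ext (by simp [mul_assoc])
      have hff : MonoidHom.FixedPointFree φ := fun y hy =>
        Subtype.ext (hfix y y.2 (mul_inv_eq_iff_eq_mul.1 (congrArg Subtype.val hy)))
      have hi : Function.Involutive φ := fun y => Subtype.ext (by
        show x * (x * y * x⁻¹) * x⁻¹ = y
        simp only [inv_eq_of_mul_eq_one_right hx2, mul_assoc]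
        rw [← mul_assoc x x, hx2, one_mul, mul_one])
      intro y hy
      exact congrArg Subtype.val (congrFun (hff.coe_eq_inv_of_involutive hi) ⟨y, hy⟩)
    -- the Sylow 2-subgroup has order two
    have hScard : Nat.card (S : Subgroup G) = 2 := by
      obtain ⟨c, hc⟩ := IsPGroup.iff_card.1 S.isPGroup'
      have h2 : 2 ∣ Nat.card (S : Subgroup G) := S.dvd_card_of_dvd_card (ht ▸ orderOf_dvd_natCard t)
      obtain ⟨s, hs⟩ := exists_prime_orderOf_dvd_card' (G := (S : Subgroup G)) 2 h2
      rw [Nat.card_eq_two_iff' (1 : (S : Subgroup G))]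
      refine ⟨s, fun e => by rw [e, orderOf_one] at hs; omega, fun r hr => ?_⟩
      have hso : ∀ w : (S : Subgroup G), w ≠ 1 → orderOf (w : G) = 2 := fun w hw =>
        orderOf_eq_prime (hSexp w w.2) fun e => hw (Subtype.ext e)
      by_contra hrs
      have hs1 : s ≠ 1 := fun e => by rw [e, orderOf_one] at hs; omega
      have hprod : r * s ≠ 1 := fun e => hrs (by
        rw [mul_eq_one_iff_eq_inv] at e
        rw [e, inv_eq_iff_mul_eq_one, ← pow_two]; exact orderOf_dvd_iff_pow_eq_one.1 hs.dvd)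
      have hcomm : Commute ((r * s : (S : Subgroup G)) : G) n := by
        have e1 := hinv r (hso r hr) N hNn (hNno r (hso r hr)) n hn
        have e2 := hinv s (hso s hs1) N hNn (hNno s (hso s hs1)) n hn
        refine mul_inv_eq_iff_eq_mul.1 ?_
        calc ((r * s : (S : Subgroup G)) : G) * n * ((r * s : (S : Subgroup G)) : G)⁻¹
            = r * (s * n * (s : G)⁻¹) * (r : G)⁻¹ := by rw [Subgroup.coe_mul]; group
          _ = n := by rw [e2, ← conj_inv, e1, inv_inv]
      exact hn1 (hNno _ (hso _ hprod) n hn hcomm)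
    obtain ⟨P⟩ : Nonempty (Sylow 3 G) := inferInstance
    have hidx : (P : Subgroup G).index = 2 := by
      have h1 := Subgroup.card_mul_index (P : Subgroup G)
      rw [P.card_eq_multiplicity, hab] at h1
      have h2 := S.card_eq_multiplicity
      rw [hScard, hab] at h2
      have hfa : (2 ^ a * 3 ^ b).factorization 2 = a := by
        rw [Nat.factorization_mul (by positivity) (by positivity), Finsupp.add_apply,
          Nat.prime_two.factorization_pow, Nat.prime_three.factorization_pow]
        simp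
      have hfb : (2 ^ a * 3 ^ b).factorization 3 = b := by
        rw [Nat.factorization_mul (by positivity) (by positivity), Finsupp.add_apply,
          Nat.prime_two.factorization_pow, Nat.prime_three.factorization_pow]
        simp
      rw [hfb] at h1
      rw [hfa] at h2
      rw [← h2, mul_comm 2 (3 ^ b)] at h1
      exact Nat.eq_of_mul_eq_mul_left (pow_pos (by norm_num) b) h1
    haveI hPn : (P : Subgroup G).Normal := Subgroup.normal_of_index_eq_two hidx
    have hfixP : ∀ y ∈ (P : Subgroup G), Commute t y → y = 1 := fun y hy hc => by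
      rcases hle y with h' | h' | h'
      · exact orderOf_eq_one_iff.1 h'
      · obtain ⟨k, hk⟩ := IsPGroup.iff_orderOf.1 P.isPGroup' ⟨y, hy⟩
        rw [Subgroup.orderOf_mk, h'] at hk
        exact absurd ((Nat.prime_dvd_prime_iff_eq Nat.prime_two Nat.prime_three).1
          (Nat.prime_two.dvd_of_dvd_pow hk.dvd)) (by norm_num)
      · exact absurd hc (hno t y ht h')
    refine ⟨P, hPn, ⟨⟨⟨fun x y => Subtype.ext ?_⟩⟩, hexp 3 P Nat.prime_three P.isPGroup'⟩, hidx⟩
    have hi := hinv t ht P hPn hfixP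
    have h1 := hi _ (mul_mem x.2 y.2)
    rw [← conj_mul, hi x x.2, hi y y.2, mul_inv_rev] at h1
    have := congrArg (fun z => z⁻¹) h1
    simpa using this.symm

end Cfsg.Agent.S4005
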