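import Cfsg.Statements.S4010
import Cfsg.Agent.Lib.Frobenius.LinearPGroup

set_option autoImplicit false
open Cfsg

namespace Cfsg.Agent.S4010

/-- Let F be a field, n ≥ 1, and P a finite p-group (p a prime) admitting an injective homomorphism into the general linear group of degree n over F. Then the derived length of P is at most ⌊log₂ n⌋ + 1: that term of the derived series of P is trivial. -/
theorem result {P : Type*} [Group P] [Finite P] (p : ℕ) [Fact p.Prime] (hP : IsPGroup p P) (F : Type*) [Field F] (n : ℕ) (hn : 1 ≤ n) (ρ : P →* Matrix.GeneralLinearGroup (Fin n) F) (hρ : Function.Injective ρ) : derivedSeries P (Nat.log 2 n + 1) = ⊥ := by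
  classical
  let ι := algebraMap F (AlgebraicClosure F)
  let σ : Representation (AlgebraicClosure F) P (Fin n → AlgebraicClosure F) :=
    { toFun := fun g => Matrix.mulVecLin (((ρ g : Matrix (Fin n) (Fin n) F)).map ι)
      map_one' := by
        rw [map_one, Units.val_one, Matrix.map_one _ (map_zero ι) (map_one ι), Matrix.mulVecLin_one]
        rfl
      map_mul' := fun g h => by
        rw [map_mul, Units.val_mul, Matrix.map_mul, Matrix.mulVecLin_mul]
        rfl }
  have hker : ∀ g, σ g = 1 → g = 1 := by
    intro g hg
    apply hρ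
    rw [map_one]
    refine Units.ext ?_
    have h1 : ((ρ g : Matrix (Fin n) (Fin n) F)).map ι = 1 := by
      refine Matrix.ext_of_mulVec_single fun j => ?_
      rw [Matrix.one_mulVec]
      exact LinearMap.congr_fun hg (Pi.single j 1)
    refine Matrix.ext fun i j => ι.injective ?_
    have h2 := congrFun (congrFun h1 i) j
    rw [Matrix.map_apply] at h2
    rw [h2, Units.val_one, Matrix.one_apply, Matrix.one_apply]
    split_ifs <;> simp
  rw [Subgroup.eq_bot_iff_forall]
  intro g hg
  refine hker g ?_
  have hdim : Module.finrank (AlgebraicClosure F) (Fin n → AlgebraicClosure F) = n := Module.finrank_fin_fun _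
  have hlog : n < 2 ^ (Nat.log 2 n + 1) := Nat.lt_pow_succ_log_self Nat.one_lt_two n
  by_cases hpK : (p : AlgebraicClosure F) = 0
  · haveI : CharP (AlgebraicClosure F) p := by
      obtain ⟨q, hq⟩ := CharP.exists (AlgebraicClosure F)
      have h1 : q ∣ p := (CharP.cast_eq_zero_iff (AlgebraicClosure F) q p).mp hpK
      rcases (Nat.dvd_prime (Fact.out : p.Prime)).mp h1 with rfl | rfl
      · exact absurd hq (fun h => CharP.ringChar_ne_one (R := AlgebraicClosure F) ((ringChar.eq (AlgebraicClosure F) 1)))
      · exact hq
    exact CfsgLib.Frobenius.LinearPGroup.derivedSeries_apply_char (p := p) (Nat.log 2 n + 1) P hP _ σ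
      (by rw [hdim]; exact hlog.le) g hg
  · exact CfsgLib.Frobenius.LinearPGroup.derivedSeries_apply hpK n P hP _ σ hdim (Nat.log 2 n) hlog g hg

end Cfsg.Agent.S4010
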