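import Cfsg.Statements.S4013
import Cfsg.Agent.Lib.PGroup.Basic

set_option autoImplicit false
open Cfsg

namespace Cfsg.Agent.S4013

/-- Let G be a finite p-group (p prime) and N < M normal subgroups of G such that for some g ∈ M ∖ N the conjugacy class of g is exactly M ∖ N. Then p = 2 and N has index 2 in M. -/
theorem result {G : Type*} [Group G] [Finite G] (p : ℕ) [Fact p.Prime] (hG : IsPGroup p G) (N M : Subgroup G) [N.Normal] [M.Normal] (hNM : N < M) (g : G) (hgM : g ∈ M) (hgN : g ∉ N) (hcl : {h : G | IsConj g h} = (M : Set G) \ (N : Set G)) : p = 2 ∧ N.relIndex M = 2 := by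
  obtain ⟨k, hk⟩ : ∃ k, Nat.card {h : G | IsConj g h} = p ^ k := by
    obtain ⟨k, hk⟩ := hG.index (Subgroup.centralizer ({g} : Set G))
    exact ⟨k, (CfsgLib.PGroup.Basic.conj_card_eq_index g).trans hk⟩
  rw [Nat.card_coe_set_eq, hcl, Set.ncard_sdiff (SetLike.coe_subset_coe.mpr hNM.le) (Set.toFinite _),
    ← Nat.card_coe_set_eq, ← Nat.card_coe_set_eq] at hk
  obtain ⟨b, hb⟩ := IsPGroup.iff_card.mp (hG.to_subgroup M)
  obtain ⟨a, ha⟩ := IsPGroup.iff_card.mp (hG.to_subgroup N)
  have hk' : p ^ b - p ^ a = p ^ k := by rw [← hb, ← ha]; exact hk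
  have hp := (Fact.out : p.Prime)
  have hab : a < b := by
    by_contra h
    have := Nat.pow_le_pow_right hp.pos (Nat.le_of_not_lt h)
    have := pow_pos hp.pos k
    omega
  obtain ⟨c, rfl⟩ := Nat.exists_eq_add_of_le hab.le
  have hmul : p ^ a * (p ^ c - 1) = p ^ k := by
    rw [Nat.mul_sub, mul_one, ← pow_add]; exact hk'
  have hone : p ^ c - 1 = 1 := by
    obtain ⟨j, -, hj⟩ := (Nat.dvd_prime_pow hp).mp (Dvd.intro_left _ hmul)
    rcases Nat.eq_zero_or_pos j with rfl | hjpos
    · rw [pow_zero] at hj; exact hj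
    · exfalso
      have h1 : p ∣ p ^ c - 1 := hj ▸ dvd_pow_self p hjpos.ne'
      have h2 : p ∣ p ^ c := dvd_pow_self p (by omega)
      have h3 := Nat.dvd_sub h2 h1
      rw [Nat.sub_sub_self (Nat.one_le_pow _ _ hp.pos)] at h3
      exact hp.one_lt.ne' (Nat.dvd_one.mp h3)
  have hpc : p ^ c = 2 := by omega
  have hc1 : c = 1 := by
    have h1 := hp.two_le
    have h2 := Nat.le_self_pow (n := c) (by omega) p
    have h3 : p = 2 := by omega
    subst h3
    exact (Nat.pow_right_injective (le_refl 2)) (hpc.trans (pow_one 2).symm)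
  subst hc1
  refine ⟨by simpa using hpc, ?_⟩
  have h := Subgroup.card_mul_index (N.subgroupOf M)
  rw [Nat.card_congr (Subgroup.subgroupOfEquivOfLe hNM.le).toEquiv, ha, hb, pow_add] at h
  have h2 := Nat.eq_of_mul_eq_mul_left (pow_pos hp.pos a) h
  exact h2.trans hpc

end Cfsg.Agent.S4013
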