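import Mathlib
import Cfsg.Statements.S4014


set_option autoImplicit false
open Cfsg

namespace Cfsg.Agent.S4014


namespace Aux

open scoped commutatorElement

variable {p : ℕ} [hp : Fact p.Prime]

theorem map_derivedSeries_eq_iterate {X : Type*} [Group X] (Q : Subgroup X) (k : ℕ) :
    (derivedSeries Q k).map Q.subtype = (fun K : Subgroup X => ⁅K, K⁆)^[k] Q := by
  induction k with
  | zero => rw [derivedSeries_zero, ← MonoidHom.range_eq_map, Subgroup.range_subtype]; rfl
  | succ k ih => rw [derivedSeries_succ, Subgroup.map_commutator, ih, Function.iterate_succ_apply']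

/-- A proper subgroup of a finite `p`-group lies in a normal proper subgroup containing the
derived group and of index at least `p`. -/
theorem exists_big {Q : Type*} [Group Q] [Finite Q] (hQ : IsPGroup p Q) (H : Subgroup Q)
    (hH : H ≠ ⊤) : ∃ M : Subgroup Q, H ≤ M ∧ commutator Q ≤ M ∧ p ≤ M.index := by
  obtain ⟨M, hM, hHM⟩ := (eq_top_or_exists_le_coatom H).resolve_left hH
  haveI : Group.IsNilpotent Q := hQ.isNilpotent
  haveI : M.Normal := Subgroup.NormalizerCondition.normal_of_coatom M Group.normalizerCondition_of_isNilpotent hM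
  refine ⟨M, hHM, ?_, ?_⟩
  · haveI : IsSimpleGroup (Q ⧸ M) := by
      haveI : Nontrivial (Q ⧸ M) := QuotientGroup.nontrivial_iff.mpr hM.1
      refine ⟨fun K _ => ?_⟩
      rcases hM.le_iff.mp (QuotientGroup.le_comap_mk' M K) with h | h
      · right
        rw [← Subgroup.map_comap_eq_self_of_surjective (QuotientGroup.mk'_surjective M) K, h,
          Subgroup.map_top_of_surjective _ (QuotientGroup.mk'_surjective M)]
      · left
        rw [← Subgroup.map_comap_eq_self_of_surjective (QuotientGroup.mk'_surjective M) K, h,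
          QuotientGroup.map_mk'_self]
    haveI : Group.IsSolvable (Q ⧸ M) := inferInstance
    have hcomm : ∀ a b : Q ⧸ M, a * b = b * a := IsSimpleGroup.comm_iff_isSolvable.mpr inferInstance
    rw [commutator_def, Subgroup.commutator_le]
    intro a _ b _
    rw [← QuotientGroup.eq_one_iff]
    change (QuotientGroup.mk' M) ⁅a, b⁆ = 1
    rw [map_commutatorElement, commutatorElement_eq_one_iff_mul_comm]
    exact hcomm _ _
  · obtain ⟨k, hk⟩ := hQ.index M
    rcases k with _ | k
    · exact absurd (Subgroup.index_eq_one.mp (by rw [hk, pow_zero])) hM.1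
    · rw [hk]; exact Nat.le_self_pow (Nat.succ_ne_zero k) p

theorem upper {X : Type*} [Finite X] (k : ℕ) :
    ∀ Q : Subgroup (Equiv.Perm X), IsPGroup p Q →
      (∀ x : X, (MulAction.stabilizer (Equiv.Perm X) x).relIndex Q ≤ p ^ k) →
      (fun K : Subgroup (Equiv.Perm X) => ⁅K, K⁆)^[k] Q = ⊥ := by
  classical
  induction k with
  | zero =>
    intro Q _ hx
    rw [Function.iterate_zero, id_eq, eq_bot_iff]
    intro g hg
    rw [Subgroup.mem_bot]
    ext x
    have h1 : (MulAction.stabilizer (Equiv.Perm X) x).relIndex Q ≠ 0 := Subgroup.index_ne_zero_of_finite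
    have h2 : (MulAction.stabilizer (Equiv.Perm X) x).relIndex Q = 1 := by
      have := hx x
      rw [pow_zero] at this; omega
    exact MulAction.mem_stabilizer_iff.mp (Subgroup.relIndex_eq_one.mp h2 hg)
  | succ k ih =>
    intro Q hQ hx
    rw [Function.iterate_succ_apply]
    refine ih _ (hQ.to_le (Q.commutator_le_self)) fun x => ?_
    set K := MulAction.stabilizer (Equiv.Perm X) x with hK
    by_cases hQK : Q ≤ K
    · have h1 : K.relIndex ⁅Q, Q⁆ = 1 :=
        Subgroup.relIndex_eq_one.mpr ((Q.commutator_le_self).trans hQK)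
      rw [h1]; exact Nat.one_le_pow _ _ hp.out.pos
    · have hne : K.subgroupOf Q ≠ ⊤ := fun h => hQK (Subgroup.subgroupOf_eq_top.mp h)
      obtain ⟨M, hHM, hcM, hpM⟩ := exists_big hQ _ hne
      set M' := M.map Q.subtype with hM'
      have hM'Q : M' ≤ Q := Subgroup.map_subtype_le M
      have hcM' : ⁅Q, Q⁆ ≤ M' := by
        have : (commutator Q).map Q.subtype = ⁅Q, Q⁆ := by
          rw [commutator_def, Subgroup.map_commutator, ← MonoidHom.range_eq_map, Subgroup.range_subtype]
        rw [← this]; exact Subgroup.map_mono hcM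
      have hKM : Q ⊓ K ≤ M' := fun g hg => ⟨⟨g, hg.1⟩, hHM hg.2, rfl⟩
      have hne0 : K.relIndex M' ≠ 0 := Subgroup.index_ne_zero_of_finite
      refine le_trans (Subgroup.relIndex_le_of_le_right hcM' hne0) ?_
      have e1 : (Q ⊓ K).relIndex M' * M'.relIndex Q = (Q ⊓ K).relIndex Q :=
        Subgroup.relIndex_mul_relIndex _ _ _ hKM hM'Q
      have e2 : (Q ⊓ K).relIndex Q = K.relIndex Q := by rw [inf_comm, Subgroup.inf_relIndex_right]
      have e3 : (Q ⊓ K).relIndex M' = K.relIndex M' := by
        rw [← Subgroup.inf_relIndex_right (Q ⊓ K) M', ← Subgroup.inf_relIndex_right K M']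
        congr 1
        exact le_antisymm (inf_le_inf_right _ inf_le_right)
          (fun g hg => ⟨⟨hM'Q hg.2, hg.1⟩, hg.2⟩)
      have e4 : M'.relIndex Q = M.index := by
        rw [Subgroup.relIndex, hM', Subgroup.subgroupOf, Subgroup.comap_map_eq_self_of_injective (Subgroup.subtype_injective Q)]
      have h5 : K.relIndex M' * p ≤ p ^ (k + 1) := by
        calc K.relIndex M' * p ≤ K.relIndex M' * M.index := Nat.mul_le_mul_left _ hpM
          _ = K.relIndex Q := by rw [← e3, ← e4, e1, e2]
          _ ≤ _ := hx x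
      rw [pow_succ] at h5
      exact Nat.le_of_mul_le_mul_right h5 hp.out.pos

theorem derivedSeries_mono_ne_bot {A B : Type*} [Group A] [Group B] (f : A →* B)
    (hf : Function.Injective f) {j : ℕ} (h : derivedSeries A j ≠ ⊥) : derivedSeries B j ≠ ⊥ := by
  intro hb
  refine h ((Subgroup.map_eq_bot_iff_of_injective _ hf).mp (le_bot_iff.mp ?_))
  rw [← hb]; exact map_derivedSeries_le_derivedSeries f j

/-- Taking the wreath product with a nontrivial group raises the derived length. -/
theorem wreath_step {D C : Type*} [Group D] [Group C] {g : C} (hg : g ≠ 1) {j : ℕ}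
    (hD : derivedSeries D j ≠ ⊥) : derivedSeries (D ≀ᵣ C) (j + 1) ≠ ⊥ := by
  classical
  let φ : (RegularWreathProduct.rightHom : D ≀ᵣ C →* C).ker →* D :=
    { toFun := fun w => w.1.left 1
      map_one' := rfl
      map_mul' := fun a b => by
        have ha : a.1.right = 1 := a.2
        simp [ha] }
  have key : ∀ i, derivedSeries D i ≤
      ((derivedSeries (D ≀ᵣ C) (i + 1)).subgroupOf
        (RegularWreathProduct.rightHom : D ≀ᵣ C →* C).ker).map φ := by
    intro i
    induction i with
    | zero =>
      intro h _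
      let a : D ≀ᵣ C := ⟨Pi.mulSingle 1 h, 1⟩
      let b : D ≀ᵣ C := RegularWreathProduct.inl g
      have hmem : ⁅a, b⁆ ∈ derivedSeries (D ≀ᵣ C) (0 + 1) := by
        rw [derivedSeries_succ, derivedSeries_zero]
        exact Subgroup.commutator_mem_commutator (Subgroup.mem_top _) (Subgroup.mem_top _)
      have hker : ⁅a, b⁆ ∈ (RegularWreathProduct.rightHom : D ≀ᵣ C →* C).ker := by
        rw [MonoidHom.mem_ker, RegularWreathProduct.rightHom_eq_right]
        simp [a, b, commutatorElement_def]
      refine ⟨⟨_, hker⟩, hmem, ?_⟩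
      change (⁅a, b⁆).left 1 = h
      have h1 : g⁻¹ ≠ 1 := inv_ne_one.mpr hg
      simp [a, b, commutatorElement_def, Pi.mulSingle_eq_of_ne h1]
    | succ i ih =>
      rw [derivedSeries_succ, Subgroup.commutator_le]
      intro x hx y hy
      obtain ⟨wa, ha, rfl⟩ := ih hx
      obtain ⟨wb, hb, rfl⟩ := ih hy
      refine ⟨⁅wa, wb⁆, ?_, map_commutatorElement φ wa wb⟩
      rw [SetLike.mem_coe, Subgroup.mem_subgroupOf, derivedSeries_succ _ (i + 1)]
      exact Subgroup.commutator_mem_commutator ha hb
  intro hbot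
  refine hD (le_bot_iff.mp ((key j).trans ?_))
  rw [hbot, Subgroup.bot_subgroupOf, Subgroup.map_bot]

theorem lower {C : Type*} [Group C] {g : C} (hg : g ≠ 1) :
    ∀ m, derivedSeries (IteratedWreathProduct C (m + 1)) m ≠ ⊥ := by
  intro m
  induction m with
  | zero =>
    intro h
    rw [derivedSeries_zero] at h
    have h2 : (RegularWreathProduct.inl g : IteratedWreathProduct C 0 ≀ᵣ C) = 1 :=
      Subgroup.mem_bot.mp (h ▸ Subgroup.mem_top (RegularWreathProduct.inl g : IteratedWreathProduct C 0 ≀ᵣ C))
    exact hg (congrArg RegularWreathProduct.right h2)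
  | succ m ih => exact wreath_step (D := IteratedWreathProduct C (m + 1)) hg ih

end Aux

/-- Let p be a prime, n ≥ 1, and P a Sylow p-subgroup of the symmetric group on n letters. Then the derived length of P is exactly k = ⌊log_p n⌋ (the largest k with p^k ≤ n): the k-th derived subgroup of P is trivial and, when k ≥ 1, the (k−1)-st is not. -/
theorem result (p : ℕ) [Fact p.Prime] (n : ℕ) (hn : 1 ≤ n) (P : Sylow p (Equiv.Perm (Fin n))) : derivedSeries ↥(P : Subgroup (Equiv.Perm (Fin n))) (Nat.log p n) = ⊥ ∧ (1 ≤ Nat.log p n → derivedSeries ↥(P : Subgroup (Equiv.Perm (Fin n))) (Nat.log p n - 1) ≠ ⊥) := by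
  classical
  constructor
  · have h := Aux.upper (p := p) (X := Fin n) (Nat.log p n) (P : Subgroup (Equiv.Perm (Fin n)))
      P.2 fun x => ?_
    · rw [← Aux.map_derivedSeries_eq_iterate] at h
      exact (Subgroup.map_eq_bot_iff_of_injective _ (Subgroup.subtype_injective _)).mp h
    · obtain ⟨j, hj⟩ := P.2.index
        ((MulAction.stabilizer (Equiv.Perm (Fin n)) x).subgroupOf (P : Subgroup (Equiv.Perm (Fin n))))
      rw [← Subgroup.relIndex] at hj
      rw [hj]
      refine Nat.pow_le_pow_right (Fact.out : p.Prime).pos (Nat.le_log_of_pow_le (Fact.out : p.Prime).one_lt ?_)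
      rw [← hj]
      refine le_trans (Subgroup.relIndex_le_of_le_right le_top ?_) ?_
      · rw [Subgroup.relIndex_top_right]; exact Subgroup.index_ne_zero_of_finite
      · rw [Subgroup.relIndex_top_right, MulAction.index_stabilizer]
        simpa using Set.ncard_le_card (MulAction.orbit (Equiv.Perm (Fin n)) x)
  · intro hk
    obtain ⟨m, hm⟩ : ∃ m, Nat.log p n = m + 1 := ⟨Nat.log p n - 1, by omega⟩
    rw [hm, Nat.add_sub_cancel]
    let C := Multiplicative (ZMod p)
    have hC : Nat.card C = p := Nat.card_zmod p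
    haveI : Finite C := inferInstanceAs (Finite (Multiplicative (ZMod p)))
    have hpn : p ^ (m + 1) ≤ n := hm ▸ Nat.pow_log_le_self p (by omega)
    obtain ⟨ι⟩ : Nonempty ((Fin (m + 1) → C) ↪ Fin n) := by
      haveI := Fintype.ofFinite C
      refine Function.Embedding.nonempty_of_card_le ?_
      rw [← Nat.card_eq_fintype_card, Nat.card_fun, Nat.card_fin, hC, Fintype.card_fin]
      exact hpn
    let f := (Equiv.Perm.viaEmbeddingHom ι).comp (iteratedWreathToPermHom C (m + 1))
    have hf : Function.Injective f :=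
      (Equiv.Perm.viaEmbeddingHom_injective ι).comp (iteratedWreathToPermHomInj C (m + 1))
    have hW : IsPGroup p (IteratedWreathProduct C (m + 1)) :=
      IsPGroup.of_card (by rw [IteratedWreathProduct.card, hC])
    have hR : IsPGroup p f.range := hW.of_equiv (MonoidHom.ofInjective hf)
    obtain ⟨S, hS⟩ := hR.exists_le_sylow
    let g := (P.equiv S).symm.toMonoidHom.comp
      (f.codRestrict (S : Subgroup (Equiv.Perm (Fin n))) fun w => hS ⟨w, rfl⟩)
    have hg : Function.Injective g :=
      (P.equiv S).symm.injective.comp fun a b h => hf (congrArg Subtype.val h)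
    obtain ⟨c, hc⟩ : ∃ c : C, c ≠ 1 := by
      haveI : Fact (1 < p) := ⟨(Fact.out : p.Prime).one_lt⟩
      exact exists_ne _
    exact Aux.derivedSeries_mono_ne_bot g hg (Aux.lower hc m)

end Cfsg.Agent.S4014
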