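import Cfsg.Statements.S4016
import Cfsg.Agent.Lib.Solvable.CyclicAbelianPPrime.Main

set_option autoImplicit false
open Cfsg

namespace Cfsg.Agent.S4016

/-- Let G be a finite group and p a prime such that a Sylow p-subgroup P of G is cyclic and every subgroup of G of order prime to p is abelian. Then G has a normal p-complement or P is normal in G. -/
theorem result {G : Type*} [Group G] [Finite G] {p : ℕ}
    [Fact p.Prime] (P : Sylow p G) (hcyc : IsCyclic P)
    (hab : ∀ H : Subgroup G, ¬ p ∣ Nat.card H → IsMulCommutative H) :
    Cfsg.HasNormalPComplement p G ∨ (P : Subgroup G).Normal := by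
  exact CfsgLib.Solvable.CyclicAbelianPPrime.npc_or_normal P hcyc hab

end Cfsg.Agent.S4016
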