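import Cfsg.Statements.S4018
import Cfsg.Agent.Lib.Involution.KleinSylow
import Cfsg.Agent.Lib.LocalEvenB.HSubgroup

set_option autoImplicit false
open Cfsg
open scoped Pointwise

namespace Cfsg.Agent.S4018

theorem hc_coprime {G : Type*} [Group G] [Finite G] (S : Sylow 2 G) {K : Subgroup G}
    (h : K.IsComplement' (S : Subgroup G)) : Nat.Coprime (Nat.card K) (Nat.card (S : Subgroup G)) := by
  have : Fact (Nat.Prime 2) := ⟨Nat.prime_two⟩
  rw [← h.index_eq_card]
  exact S.card_coprime_index.symm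

theorem friendship {ι : Type*} [Fintype ι] [DecidableEq ι] [Nonempty ι] {p : ℕ} [Fact p.Prime]
    (A : Matrix ι ι (ZMod p)) (hdiag : ∀ x, A x x = 0) (hrow : ∀ x, ∑ y, A x y = 1)
    (hsq : ∀ x y, (A * A) x y = 1) : False := by
  set J : Matrix ι ι (ZMod p) := Matrix.of fun _ _ => 1
  have hAA : A * A = J := Matrix.ext hsq
  have hAJ : A * J = J := Matrix.ext fun x y => by simp [J, Matrix.mul_apply, hrow]
  have hpow : ∀ k : ℕ, A ^ (k + 2) = J := by
    intro k
    induction k with
    | zero => rw [zero_add, sq, hAA]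
    | succ k ih => rw [pow_succ', ih, hAJ]
  have hcard : ((Fintype.card ι : ℕ) : ZMod p) = 1 := by
    have h1 : J * J = J := by
      have := hpow 2
      rwa [show 2 + 2 = 2 * 2 by norm_num, pow_mul, sq, sq, hAA] at this
    have h2 := congrFun (congrFun h1 (Classical.arbitrary ι)) (Classical.arbitrary ι)
    simpa [J, Matrix.mul_apply] using h2
  have h3 := ZMod.trace_pow_card A
  have hp := (Fact.out : p.Prime).two_le
  have h4 : A ^ p = J := by
    have := hpow (p - 2)
    rwa [Nat.sub_add_cancel hp] at this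
  rw [h4, show A.trace = 0 by simp [Matrix.trace, hdiag], zero_pow (by omega : p ≠ 0),
    show J.trace = ((Fintype.card ι : ℕ) : ZMod p) by simp [J, Matrix.trace], hcard] at h3
  exact one_ne_zero h3

theorem no_plane {G : Type*} [Group G] [Finite G] (t : G) (P' : ℕ) (ht : orderOf t = 2) (hP1 : 1 < P')
    (C N P : Subgroup G) (htC : t ∈ C) (hPC : P ≤ C)
    (hsplit : ∀ c ∈ C, c ∈ P ∨ t⁻¹ * c ∈ P)
    (hCcomm : ∀ a ∈ C, ∀ b ∈ C, a * b = b * a) (huniq : ∀ c ∈ C, orderOf c = 2 → c = t)
    (hNC : ∀ g ∈ N, ∀ c ∈ C, g * c * g⁻¹ ∈ C)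
    (hC : Nat.card C = 2 * P') (hN : Nat.card N = 4 * P')
    (htN : Subgroup.centralizer ({t} : Set G) = N)
    (hTI : ∀ g : G, ∀ w ∈ C, w ≠ 1 → g * w * g⁻¹ ∈ C → g ∈ N)
    (hNN : ∀ a ∈ N, ∀ b ∈ N, (a * b ∈ C ↔ (a ∈ C ↔ b ∈ C))) (hCle : C ≤ N)
    (hPN : ∀ v ∈ P, ∀ {g : G}, g ∈ N → g * v * g⁻¹ ∈ P)
    (hPodd : ∀ v ∈ P, v * v = 1 → v = 1)
    (hconj : ∀ x : G, orderOf x = 2 → ∃ g : G, g * t * g⁻¹ = x)
    (houter : ∃ u : G, orderOf u = 2 ∧ u ∈ N ∧ u ∉ C)
    (h3 : ∀ w : G, (∃ k, orderOf w = 3 ^ k) → ∃ g : G, g⁻¹ * w * g ∈ P) {kP : ℕ} (hkP : P' = 3 ^ kP)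
    (heven : ∀ H : Subgroup G, H ≠ ⊤ → 2 ∣ Nat.card H → Nat.card H ∣ 4 * P')
    (hnab : ¬ ∀ a b : G, a * b = b * a) (hcentre : ∀ g : G, g ∈ Subgroup.center G → g = 1)
    (hbotop : ∀ H : Subgroup G, H.Normal → H = ⊥ ∨ H = ⊤) : False := by
  classical
  have h2 : ∀ {x : G}, orderOf x = 2 → x * x = 1 := fun {x} hx => by
    rw [← sq, ← hx, pow_orderOf_eq_one]
  have hinv : ∀ {x : G}, orderOf x = 2 → x⁻¹ = x := fun {x} hx => inv_eq_of_mul_eq_one_left (h2 hx)
  have hne1 : ∀ {x : G}, orderOf x = 2 → x ≠ 1 := fun {x} hx e => by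
    rw [e, orderOf_one] at hx; omega
  have hmemN : ∀ {v : G}, v ∈ N ↔ Commute v t := fun {v} => by
    rw [← htN]; exact Subgroup.mem_centralizer_singleton_iff
  let InC : G → G → Prop := fun w z => ∃ g : G, g * t * g⁻¹ = z ∧ g⁻¹ * w * g ∈ C
  -- (a)
  have ha : ∀ w z z', InC w z → InC w z' → w ≠ 1 → z = z' := by
    rintro w _ _ ⟨g, rfl, hg⟩ ⟨g', rfl, hg'⟩ hw
    have h := hTI (g'⁻¹ * g) _ hg
      (fun e => hw (by have := congrArg (fun r => g * r * g⁻¹) e; simpa [mul_assoc] using this))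
      (by simpa [mul_assoc] using hg')
    calc g * t * g⁻¹ = g' * ((g'⁻¹ * g) * t) * g⁻¹ := by group
      _ = g' * (t * (g'⁻¹ * g)) * g⁻¹ := by rw [(hmemN.1 h).eq]
      _ = _ := by group
  -- (b)
  have hb : ∀ x y z, orderOf x = 2 → orderOf y = 2 → orderOf z = 2 → Commute x z → Commute y z →
      x ≠ z → y ≠ z → InC (x * y) z := by
    intro x y z hx hy hz hxz hyz hxz' hyz'
    obtain ⟨g, rfl⟩ := hconj z hz
    refine ⟨g, rfl, ?_⟩
    have key : ∀ v, orderOf v = 2 → Commute v (g * t * g⁻¹) → v ≠ g * t * g⁻¹ →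
        g⁻¹ * v * g ∈ N ∧ g⁻¹ * v * g ∉ C := by
      intro v hv hvz hvne
      refine ⟨hmemN.2 ?_, fun hc => hvne ?_⟩
      · have := hvz.map (MulAut.conj g⁻¹)
        simpa [mul_assoc] using this
      · have := huniq _ hc (by
          have := (MulAut.conj g⁻¹).orderOf_eq v
          simp only [MulAut.conj_apply, inv_inv] at this
          rw [this, hv])
        rw [← this]; group
    obtain ⟨hxN, hxC⟩ := key x hx hxz hxz'
    obtain ⟨hyN, hyC⟩ := key y hy hyz hyz'
    rw [show g⁻¹ * (x * y) * g = (g⁻¹ * x * g) * (g⁻¹ * y * g) by group, hNN _ hxN _ hyN]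
    exact iff_of_false hxC hyC
  -- (c)
  have hc : ∀ x w z, orderOf x = 2 → InC w z → w ≠ 1 → x * w * x = w⁻¹ → Commute x z := by
    intro x w z hx hwz hw hxw
    obtain ⟨g, rfl, hg⟩ := hwz
    have h1 : InC w⁻¹ (g * t * g⁻¹) := ⟨g, rfl, by
      simpa [mul_assoc] using inv_mem hg⟩
    have h1' : InC w⁻¹ (x * (g * t * g⁻¹) * x⁻¹) := ⟨x * g, by group, by
      rw [← hxw]; simp only [mul_inv_rev, hinv hx]
      rw [show g⁻¹ * x * (x * w * x) * (x * g) = g⁻¹ * (x * x) * w * (x * x) * g by group, h2 hx]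
      simpa [mul_assoc] using hg⟩
    exact mul_inv_eq_iff_eq_mul.1 (ha _ _ _ h1' h1 (inv_ne_one.2 hw))
  have hd : ∀ w z, InC w z → Commute w z := by
    rintro w _ ⟨g, rfl, hg⟩
    have h := (show Commute (g⁻¹ * w * g) t from hCcomm _ hg t htC).map (MulAut.conj g)
    simpa [mul_assoc] using h
  -- the degree
  have houterInv : ∀ v ∈ N, v ∉ C → orderOf v = 2 := by
    obtain ⟨x, hx, hxN, hxC⟩ := houter
    have hfix : ∀ w ∈ C, Commute x w → w * w = 1 := by
      intro w hw hxw
      by_contra hw2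
      obtain ⟨g, hg⟩ := hconj x hx
      have hwN : g⁻¹ * w * g ∈ N := hmemN.2 (by
        have := (hg ▸ hxw.symm : Commute w (g * t * g⁻¹)).map (MulAut.conj g⁻¹)
        simpa [mul_assoc] using this)
      have h1 : InC (w * w) x := ⟨g, hg, by
        rw [show g⁻¹ * (w * w) * g = (g⁻¹ * w * g) * (g⁻¹ * w * g) by group, hNN _ hwN _ hwN]⟩
      have h2 : InC (w * w) t := ⟨1, by group, by simpa using mul_mem hw hw⟩
      exact hxC (ha _ _ _ h1 h2 hw2 ▸ htC)
    have hinvC : ∀ c ∈ C, x * c * x = c⁻¹ := by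
      have hP : ∀ c ∈ P, x * c * x = c⁻¹ := by
        intro c hc
        have hc' : x * c * x ∈ P := by simpa [hinv hx] using hPN c hc hxN
        set d := c * (x * c * x) with hddef
        have hcx : x * d * x = d := by
          calc x * d * x = (x * c * x) * (c * (x * x)) := by rw [hddef]; group
            _ = (x * c * x) * c := by rw [h2 hx, mul_one]
            _ = c * (x * c * x) := (hCcomm _ (hPC hc') _ (hPC hc))
        have hdx : Commute x d := by
          have := congrArg (fun r => r * x) hcx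
          simpa [mul_assoc, h2 hx, Commute, SemiconjBy] using this
        have hd2 := hfix d (mul_mem (hPC hc) (hPC hc')) hdx
        by_cases hd1 : d = 1
        · exact (mul_eq_one_iff_inv_eq.1 hd1).symm
        · exact absurd (hPodd d (mul_mem hc hc') hd2) hd1
      intro c hc
      rcases hsplit c hc with h | h
      · exact hP c h
      · have ht' : x * t * x = t⁻¹ := by
          rw [hinv ht, (hmemN.1 hxN).eq, mul_assoc, h2 hx, mul_one]
        calc x * c * x = (x * t * x) * (x * (t⁻¹ * c) * x) := by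
              rw [show (x * t * x) * (x * (t⁻¹ * c) * x) = x * t * (x * x) * t⁻¹ * c * x by group,
                h2 hx]; group
          _ = t⁻¹ * (t⁻¹ * c)⁻¹ := by rw [ht', hP _ h]
          _ = (t⁻¹ * c)⁻¹ * t⁻¹ := hCcomm _ (inv_mem htC) _ (inv_mem (hPC h))
          _ = c⁻¹ := by group
    intro v hv hvC
    have hc : x * v ∈ C := (hNN x hxN v hv).2 (iff_of_false hxC hvC)
    refine orderOf_eq_prime ?_ (fun e => hvC (e ▸ one_mem C))
    rw [sq]
    calc v * v = (x * x) * v * ((x * x) * v) := by rw [h2 hx, one_mul]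
      _ = (x * (x * v) * x) * (x * v) := by group
      _ = 1 := by rw [hinvC _ hc, inv_mul_cancel]
  have hdeg : ∀ x : G, orderOf x = 2 →
      Nat.card {y : G // orderOf y = 2 ∧ y ≠ x ∧ Commute x y} = 2 * P' := by
    intro x hx
    obtain ⟨g, rfl⟩ := hconj x hx
    let e : {y : G // orderOf y = 2 ∧ y ≠ t ∧ Commute t y} ≃
        {y : G // orderOf y = 2 ∧ y ≠ g * t * g⁻¹ ∧ Commute (g * t * g⁻¹) y} :=
      (MulAut.conj g).toEquiv.subtypeEquiv fun y => by
        show _ ↔ orderOf (MulAut.conj g y) = 2 ∧ MulAut.conj g y ≠ MulAut.conj g t ∧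
          Commute (MulAut.conj g t) (MulAut.conj g y)
        rw [MulEquiv.orderOf_eq, (MulAut.conj g).injective.ne_iff]
        refine and_congr_right' (and_congr_right' ⟨fun h => h.map _, fun h => ?_⟩)
        simpa [mul_assoc] using h.map (MulAut.conj g⁻¹)
    rw [← Nat.card_congr e]
    have e2 : Nat.card {y : G // orderOf y = 2 ∧ y ≠ t ∧ Commute t y} =
        Nat.card ((N : Set G) \ (C : Set G) : Set G) := by
      refine Nat.card_congr (Equiv.subtypeEquivRight fun y => ?_)
      constructor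
      · rintro ⟨hy, hyt, hty⟩
        exact ⟨hmemN.2 hty.symm, fun h => hyt (huniq y h hy)⟩
      · rintro ⟨hyN, hyC⟩
        exact ⟨houterInv y hyN hyC, fun e => hyC (e ▸ htC), (hmemN.1 hyN).symm⟩
    rw [e2, Nat.card_coe_set_eq, Set.ncard_sdiff (show (C : Set G) ⊆ N from hCle), ← Nat.card_coe_set_eq,
      ← Nat.card_coe_set_eq]
    show Nat.card N - Nat.card C = 2 * P'
    omega
  -- common neighbours
  have hcommon : ∀ x y : G, orderOf x = 2 → orderOf y = 2 → x ≠ y →
      Nat.card {z : G // orderOf z = 2 ∧ (z ≠ x ∧ Commute x z) ∧ (z ≠ y ∧ Commute y z)} = 1 := by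
    intro x y hx hy hxy
    have hw1 : x * y ≠ 1 := fun e => hxy (by rw [mul_eq_one_iff_eq_inv.1 e, hinv hy])
    have hxw : x * (x * y) * x = (x * y)⁻¹ := by
      rw [mul_inv_rev, hinv hx, hinv hy, ← mul_assoc x x y, h2 hx, one_mul]
    have hyw : y * (x * y) * y = (x * y)⁻¹ := by
      rw [mul_inv_rev, hinv hx, hinv hy, mul_assoc, mul_assoc x y y, h2 hy, mul_one]
    rw [Nat.card_eq_one_iff_unique]
    refine ⟨⟨fun z z' => Subtype.ext ?_⟩, ?_⟩
    · obtain ⟨z, hz, ⟨hzx, hxz⟩, hzy, hyz⟩ := z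
      obtain ⟨z', hz', ⟨hzx', hxz'⟩, hzy', hyz'⟩ := z'
      exact ha _ _ _ (hb x y z hx hy hz hxz hyz (Ne.symm hzx) (Ne.symm hzy))
        (hb x y z' hx hy hz' hxz' hyz' (Ne.symm hzx') (Ne.symm hzy')) hw1
    set w := x * y with hw
    by_cases hw2 : w * w = 1
    · have hwo : orderOf w = 2 := orderOf_eq_prime (by rw [sq, hw2]) hw1
      have hc1 : Commute x w := by
        have : x * w * x = w := by rw [hxw]; exact inv_eq_of_mul_eq_one_left hw2
        have := congrArg (fun r => r * x) this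
        simpa [mul_assoc, h2 hx, Commute, SemiconjBy] using this
      have hc2 : Commute y w := by
        have : y * w * y = w := by rw [hyw]; exact inv_eq_of_mul_eq_one_left hw2
        have := congrArg (fun r => r * y) this
        simpa [mul_assoc, h2 hy, Commute, SemiconjBy] using this
      exact ⟨⟨w, hwo, ⟨fun e => hne1 hy (mul_eq_left.1 e), hc1⟩,
        fun e => hne1 hx (mul_eq_right.1 e), hc2⟩⟩
    have hnotc : ∀ v, orderOf v = 2 → v * w * v = w⁻¹ → ¬ Commute v w := fun v hv hvw hc => hw2 (by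
      rw [hc.eq, mul_assoc, h2 hv, mul_one] at hvw
      nth_rw 2 [hvw]
      exact mul_inv_cancel w)
    suffices hz : ∃ z, orderOf z = 2 ∧ Commute x z ∧ Commute w z by
      obtain ⟨z, hz, hxz, hwz⟩ := hz
      have hyz : Commute y z := by
        rw [show y = x * w by rw [hw, ← mul_assoc, h2 hx, one_mul]]
        exact hxz.mul_left hwz
      exact ⟨⟨z, hz, ⟨fun e => hnotc x hx hxw (e ▸ hwz.symm), hxz⟩,
        fun e => hnotc y hy hyw (e ▸ hwz.symm), hyz⟩⟩
    have hconjw : x * w * x⁻¹ = w⁻¹ := by rw [hinv hx, hxw]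
    rcases Nat.even_or_odd (orderOf w) with ⟨m, hm⟩ | hodd
    · have hpos := orderOf_pos w
      have hzo : orderOf (w ^ m) = 2 := by
        rw [orderOf_pow, show (orderOf w).gcd m = m by rw [hm, ← two_mul, Nat.gcd_mul_left_left], hm,
          ← two_mul, Nat.mul_div_cancel _ (by omega)]
      refine ⟨w ^ m, hzo, ?_, (Commute.refl w).pow_right m⟩
      have h1 : x * w ^ m * x⁻¹ = w ^ m := by
        rw [← conj_pow, hconjw, inv_pow, hinv hzo]
      exact mul_inv_eq_iff_eq_mul.1 h1
    · set H := Subgroup.normalizer ((Subgroup.zpowers w : Subgroup G) : Set G) with hH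
      have hxH : x ∈ H := by
        refine Subgroup.mem_normalizer_iff_map_conj_eq.2 ?_
        rw [MonoidHom.map_zpowers]
        show Subgroup.zpowers (x * w * x⁻¹) = _
        rw [hconjw, Subgroup.zpowers_inv]
      have hHne : H ≠ ⊤ := by
        intro h
        rcases hbotop _ (Subgroup.normalizer_eq_top_iff.1 h) with h0 | h0
        · exact hw1 (Subgroup.zpowers_eq_bot.1 h0)
        · exact hnab fun a b => setLike_mul_comm (s := Subgroup.zpowers w)
            (h0 ▸ Subgroup.mem_top a) (h0 ▸ Subgroup.mem_top b)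
      have hdvd := heven H hHne (hx ▸ Subgroup.orderOf_dvd_natCard H hxH)
      have hwH : orderOf w ∣ 3 ^ kP := by
        have h1 : orderOf w ∣ 4 * P' := (Subgroup.orderOf_dvd_natCard H
          (Subgroup.le_normalizer (Subgroup.mem_zpowers w))).trans hdvd
        rw [← hkP]
        refine Nat.Coprime.dvd_of_dvd_mul_left ?_ h1
        exact Nat.Coprime.pow_right 2 (Nat.coprime_two_right.2 hodd)
      obtain ⟨k, -, hk⟩ := (Nat.dvd_prime_pow Nat.prime_three).1 hwH
      obtain ⟨g, hg⟩ := h3 w ⟨k, hk⟩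
      have hwz : InC w (g * t * g⁻¹) := ⟨g, rfl, hPC hg⟩
      have hzo : orderOf (g * t * g⁻¹) = 2 := by
        rw [← MulAut.conj_apply, MulEquiv.orderOf_eq, ht]
      exact ⟨_, hzo, hc x w _ hx hwz hw1 hxw, hd _ _ hwz⟩
  -- the friendship graph
  obtain ⟨p, hp, hpd⟩ := Nat.exists_prime_and_dvd (show 2 * P' - 1 ≠ 1 by omega)
  have : Fact p.Prime := ⟨hp⟩
  have hd1 : ((2 * P' : ℕ) : ZMod p) = 1 := by
    rw [show 2 * P' = (2 * P' - 1) + 1 by omega, Nat.cast_add, Nat.cast_one,
      (ZMod.natCast_eq_zero_iff _ _).2 hpd, zero_add]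
  let ι := {x : G // orderOf x = 2}
  have : Nonempty ι := ⟨⟨t, ht⟩⟩
  have := Fintype.ofFinite ι
  let R : ι → ι → Prop := fun x y => y.1 ≠ x.1 ∧ Commute x.1 y.1
  let A : Matrix ι ι (ZMod p) := Matrix.of fun x y => if R x y then 1 else 0
  have hR : ∀ x : ι, Nat.card {y : ι // R x y} = 2 * P' := fun x => by
    rw [← hdeg x.1 x.2]
    exact Nat.card_congr (Equiv.subtypeSubtypeEquivSubtypeInter (fun y : G => orderOf y = 2)
      (fun y => y ≠ x.1 ∧ Commute x.1 y))
  have hrow : ∀ x, ∑ y, A x y = 1 := fun x => by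
    simp only [A, Matrix.of_apply]
    rw [Finset.sum_boole, ← Fintype.card_subtype, ← Nat.card_eq_fintype_card, hR, hd1]
  refine friendship A (fun x => by simp [A, R]) hrow fun x y => ?_
  rw [Matrix.mul_apply]
  simp only [A, Matrix.of_apply, ite_zero_mul_ite_zero, mul_one]
  rw [Finset.sum_boole, ← Fintype.card_subtype, ← Nat.card_eq_fintype_card]
  rcases eq_or_ne x y with rfl | hxy
  · rw [← hd1, ← hR x]
    congr 1
    exact Nat.card_congr (Equiv.subtypeEquivRight fun z =>
      ⟨fun h => h.1, fun h => ⟨h, Ne.symm h.1, h.2.symm⟩⟩)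
  · rw [show Nat.card {z : ι // R x z ∧ R z y} = 1 by
      rw [← hcommon x.1 y.1 x.2 y.2 (fun e => hxy (Subtype.ext e))]
      refine Nat.card_congr ((Equiv.subtypeEquivRight fun z => ?_).trans
        (Equiv.subtypeSubtypeEquivSubtypeInter (fun z : G => orderOf z = 2)
          (fun z => (z ≠ x.1 ∧ Commute x.1 z) ∧ (z ≠ y.1 ∧ Commute y.1 z))))
      exact ⟨fun h => ⟨h.1, Ne.symm h.2.1, h.2.2.symm⟩, fun h => ⟨h.1, Ne.symm h.2.1, h.2.2.symm⟩⟩,
      Nat.cast_one]

/-- Let G be a finite group with an abelian Sylow 3-subgroup P such that the normalizer of P has order 4·#P, the centralizer C of P has order 2·#P, C meets each of its conjugates by elements outside its normalizer trivially, and every proper subgroup of G of even order has order dividing 4·#P. Then G is not simple. -/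
theorem result {G : Type*} [Group G] [Finite G]
    (P : Sylow 3 G) (hab : IsMulCommutative P)
    (hN : Nat.card (Subgroup.normalizer ((P : Subgroup G) : Set G)) = 4 * Nat.card P)
    (hC : Nat.card (Subgroup.centralizer (P : Set G)) = 2 * Nat.card P)
    (hTI : Cfsg.IsTISubset (Subgroup.centralizer (P : Set G) : Set G))
    (heven : ∀ H : Subgroup G, H ≠ ⊤ → 2 ∣ Nat.card H → Nat.card H ∣ 4 * Nat.card P) :
    ¬ IsSimpleGroup G := by
  classical
  intro hsimple
  have : Fact (Nat.Prime 2) := ⟨Nat.prime_two⟩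
  have : Fact (Nat.Prime 3) := ⟨Nat.prime_three⟩
  set C := Subgroup.centralizer (P : Set G) with hCdef
  set N := Subgroup.normalizer ((P : Subgroup G) : Set G) with hNdef
  set P' := Nat.card P with hP'
  obtain ⟨kP, hkP⟩ := P.isPGroup'.exists_card_eq
  have hkP' : P' = 3 ^ kP := hkP
  have hPodd : Odd P' := hkP' ▸ Odd.pow ⟨1, rfl⟩
  -- `G` is not commutative
  have hnab : ¬ ∀ a b : G, a * b = b * a := by
    intro h
    have h1 : C = ⊤ := eq_top_iff.2 fun g _ => Subgroup.mem_centralizer_iff.2 fun p _ => h p g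
    have h2 : N = ⊤ := eq_top_iff.2 (h1 ▸ Subgroup.centralizer_le_normalizer _)
    rw [h1] at hC; rw [h2] at hN
    have := Nat.card_pos (α := P)
    omega
  have hbotop : ∀ H : Subgroup G, H.Normal → H = ⊥ ∨ H = ⊤ := fun H h => h.eq_bot_or_eq_top
  have hcentre : ∀ g : G, g ∈ Subgroup.center G → g = 1 := by
    intro g hg
    rcases hbotop (Subgroup.center G) inferInstance with h | h
    · rwa [h, Subgroup.mem_bot] at hg
    · exact absurd (fun a b => Subgroup.mem_center_iff.1 (h ▸ Subgroup.mem_top b) a) hnab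
  -- the centraliser is abelian with a single involution
  have hPC : (P : Subgroup G) ≤ C := Subgroup.le_centralizer (P : Subgroup G)
  obtain ⟨⟨t, htC⟩, ht⟩ := exists_prime_orderOf_dvd_card' (G := C) 2 (by rw [hC]; exact dvd_mul_right _ _)
  rw [Subgroup.orderOf_mk] at ht
  have ht2 : t * t = 1 := by rw [← sq, ← ht, pow_orderOf_eq_one]
  have ht1 : t ≠ 1 := fun e => by rw [e, orderOf_one] at ht; omega
  have hPodd' : ∀ v ∈ (P : Subgroup G), v * v = 1 → v = 1 := by
    intro v hv h
    have h1 : orderOf v ∣ 2 := orderOf_dvd_of_pow_eq_one (by rw [sq]; exact h)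
    have h2 : orderOf v ∣ P' := Subgroup.orderOf_dvd_natCard _ hv
    exact orderOf_eq_one_iff.1 (Nat.eq_one_of_dvd_coprimes
      (Nat.coprime_two_left.2 hPodd) h1 h2)
  have htP : t ∉ (P : Subgroup G) := fun h => ht1 (hPodd' t h ht2)
  have hsplit : ∀ c ∈ C, c ∈ (P : Subgroup G) ∨ t⁻¹ * c ∈ (P : Subgroup G) := by
    intro c hc
    have hi : ((P : Subgroup G).subgroupOf C).index = 2 := by
      have h1 := ((P : Subgroup G).subgroupOf C).card_mul_index
      rw [Nat.card_congr (Subgroup.subgroupOfEquivOfLe hPC).toEquiv, hC, mul_comm 2] at h1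
      exact Nat.eq_of_mul_eq_mul_left Nat.card_pos h1
    by_cases h : c ∈ (P : Subgroup G)
    · exact Or.inl h
    · refine Or.inr ?_
      have := (Subgroup.mul_mem_iff_of_index_two hi (a := (⟨t, htC⟩ : C)⁻¹) (b := ⟨c, hc⟩)).2
        (by simp [Subgroup.mem_subgroupOf, h, htP])
      exact this
  have hPcomm : ∀ p ∈ (P : Subgroup G), ∀ c ∈ C, p * c = c * p := fun p hp c hc =>
    Subgroup.mem_centralizer_iff.1 hc p hp
  have hCcomm : ∀ a ∈ C, ∀ b ∈ C, a * b = b * a := by
    intro a ha b hb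
    have hta : t * a = a * t := by
      rcases hsplit a ha with h | h
      · exact (hPcomm a h t htC).symm
      · have := hPcomm _ h t htC
        calc t * a = t * (t * (t⁻¹ * a)) := by group
          _ = t * ((t⁻¹ * a) * t) := by rw [this]
          _ = a * t := by group
    rcases hsplit b hb with h | h
    · exact (hPcomm b h a ha).symm
    · calc a * b = a * t * (t⁻¹ * b) := by group
        _ = t * (a * (t⁻¹ * b)) := by rw [← hta]; group
        _ = t * ((t⁻¹ * b) * a) := by rw [hPcomm _ h a ha]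
        _ = b * a := by group
  have huniq : ∀ c ∈ C, orderOf c = 2 → c = t := by
    intro c hc hco
    have hcc : c * c = 1 := by rw [← sq, ← hco, pow_orderOf_eq_one]
    rcases hsplit c hc with h | h
    · rw [hPodd' c h hcc, orderOf_one] at hco; omega
    · have := hPodd' _ h (by
        calc t⁻¹ * c * (t⁻¹ * c) = t⁻¹ * (c * t⁻¹) * c := by group
          _ = t⁻¹ * (t⁻¹ * c) * c := by rw [hCcomm c hc t⁻¹ (inv_mem htC)]
          _ = (t * t)⁻¹ * (c * c) := by group
          _ = 1 := by rw [ht2, hcc, inv_one, one_mul])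
      exact (inv_mul_eq_one.1 this).symm
  have hNC : ∀ g ∈ N, ∀ c ∈ C, g * c * g⁻¹ ∈ C := by
    intro g hg c hc
    refine Subgroup.mem_centralizer_iff.2 fun p hp => ?_
    have hp' : g⁻¹ * p * g ∈ (P : Subgroup G) := (Subgroup.mem_normalizer_iff''.1 hg p).1 hp
    calc p * (g * c * g⁻¹) = g * ((g⁻¹ * p * g) * c) * g⁻¹ := by group
      _ = g * (c * (g⁻¹ * p * g)) * g⁻¹ := by rw [hPcomm _ hp' c hc]
      _ = _ := by group
  have hNnC : N ≤ Subgroup.normalizer (C : Set G) := by
    intro g hg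
    refine Subgroup.mem_normalizer_iff.2 fun c => ⟨hNC g hg c, fun h => ?_⟩
    simpa [mul_assoc] using hNC g⁻¹ (inv_mem hg) _ h
  have hnCt : Subgroup.normalizer (C : Set G) ≤ Subgroup.centralizer ({t} : Set G) := by
    intro g hg
    have h1 := huniq _ ((Subgroup.mem_normalizer_iff.1 hg t).1 htC)
      (by rw [← MulAut.conj_apply, MulEquiv.orderOf_eq, ht])
    exact Subgroup.mem_centralizer_singleton_iff.2 (mul_inv_eq_iff_eq_mul.1 h1)
  have hCle : C ≤ N := fun c hc => Subgroup.centralizer_le_normalizer _ hc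
  have htN : Subgroup.centralizer ({t} : Set G) = N := by
    refine (Subgroup.eq_of_le_of_card_ge (hNnC.trans hnCt) ?_).symm
    rw [hN]
    refine Nat.le_of_dvd (by have := Nat.card_pos (α := P); omega) (heven _ (fun h => ?_) ?_)
    · exact ht1 (hcentre t (Subgroup.mem_center_iff.2 fun g =>
        Subgroup.mem_centralizer_singleton_iff.1 (h ▸ Subgroup.mem_top g)))
    · rw [← ht]
      exact Subgroup.orderOf_dvd_natCard _ (Subgroup.mem_centralizer_singleton_iff.2 rfl)
  -- trivial intersections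
  have hTI' : ∀ g : G, ∀ w ∈ C, w ≠ 1 → g * w * g⁻¹ ∈ C → g ∈ N := by
    intro g w hw hw1 hgw
    by_contra hg
    exact hw1 (hTI g (fun h => hg (htN ▸ hnCt h)) w hw hgw)
  have hCi : (C.subgroupOf N).index = 2 := by
    have h1 := (C.subgroupOf N).card_mul_index
    rw [Nat.card_congr (Subgroup.subgroupOfEquivOfLe hCle).toEquiv, hC, hN] at h1
    have := Nat.card_pos (α := P)
    exact Nat.eq_of_mul_eq_mul_left (show 0 < 2 * Nat.card P by omega)
      (h1.trans (by ring))
  have hNN : ∀ a ∈ N, ∀ b ∈ N, (a * b ∈ C ↔ (a ∈ C ↔ b ∈ C)) := fun a ha b hb => by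
    simpa [Subgroup.mem_subgroupOf] using
      Subgroup.mul_mem_iff_of_index_two hCi (a := ⟨a, ha⟩) (b := ⟨b, hb⟩)
  -- all involutions are conjugate
  obtain ⟨S, hS⟩ : ∃ S : Sylow 2 G, t ∈ (S : Subgroup G) := by
    obtain ⟨S, hS⟩ := (IsPGroup.of_card (p := 2) (n := 1)
      (by rw [Nat.card_zpowers, ht, pow_one] : Nat.card (Subgroup.zpowers t) = 2 ^ 1)).exists_le_sylow
    exact ⟨S, hS (Subgroup.mem_zpowers t)⟩
  have hS4 : Nat.card (S : Subgroup G) = 4 := by
    obtain ⟨s, hs⟩ := S.isPGroup'.exists_card_eq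
    have hne : (S : Subgroup G) ≠ ⊤ := by
      intro h
      have h1 : Nat.card N ∣ 2 ^ s := by
        rw [← hs, h, Subgroup.card_top]; exact Subgroup.card_subgroup_dvd_card _
      obtain ⟨j, -, hj⟩ := (Nat.dvd_prime_pow Nat.prime_two).1 ((hN ▸ h1 : 4 * P' ∣ 2 ^ s))
      have h3 : P' ∣ 2 ^ j := ⟨4, hj.symm.trans (mul_comm 4 P')⟩
      have h4 : P' = 1 := Nat.eq_one_of_dvd_coprimes
        (Nat.Coprime.pow_left j (Nat.coprime_two_left.2 hPodd)) h3 dvd_rfl
      -- then the Sylow 3-subgroup is trivial and centralised by everything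
      have hbot : (P : Subgroup G) = ⊥ := Subgroup.card_eq_one.1 h4
      have : C = ⊤ := eq_top_iff.2 fun g _ => Subgroup.mem_centralizer_iff.2 fun p hp => by
        have hp1 : p = 1 := Subgroup.mem_bot.1 (hbot ▸ hp)
        simp [hp1]
      have hN' : N = ⊤ := eq_top_iff.2 (this ▸ hCle)
      rw [this] at hC; rw [hN'] at hN
      have := Nat.card_pos (α := P)
      omega
    have h2 : 2 ∣ Nat.card (S : Subgroup G) := by
      have := Subgroup.orderOf_dvd_natCard _ hS
      rwa [ht] at this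
    have h4 := heven _ hne h2
    rw [hs] at h4 h2
    have h4' : 2 ^ s ∣ 2 ^ 2 := (Nat.Coprime.dvd_of_dvd_mul_right
      (Nat.Coprime.pow_left s (Nat.coprime_two_left.2 hPodd)) h4)
    have hs2 := (Nat.pow_dvd_pow_iff_le_right (by norm_num : 1 < 2)).1 h4'
    have hge : 2 ^ 2 ∣ Nat.card (S : Subgroup G) := by
      rw [S.card_eq_multiplicity]
      refine pow_dvd_pow 2 ((Nat.prime_two.pow_dvd_iff_le_factorization Nat.card_pos.ne').1 ?_)
      exact (show 2 ^ 2 ∣ Nat.card N from Dvd.intro P' (by rw [hN]; norm_num)).trans (Subgroup.card_subgroup_dvd_card _)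
    rw [hs] at hge
    have := (Nat.pow_dvd_pow_iff_le_right (by norm_num : 1 < 2)).1 hge
    rw [hs, show s = 2 by omega]; norm_num
  have hnpc : ¬ ∃ K : Subgroup G, K.Normal ∧ K.IsComplement' (S : Subgroup G) := by
    rintro ⟨K, hK, hc⟩
    rcases hbotop K hK with rfl | rfl
    · have := hc.card_mul
      rw [Subgroup.card_bot, one_mul, hS4] at this
      have hd : 4 * P' ∣ 4 := hN ▸ this ▸ Subgroup.card_subgroup_dvd_card N
      have h4 : P' = 1 := Nat.dvd_one.1 ((Nat.mul_dvd_mul_iff_left (by norm_num : 0 < 4)).1 hd)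
      have h5 : Nat.card N = Nat.card G := by rw [hN, ← this, h4]
      have h6 := Subgroup.eq_top_of_card_eq _ h5
      exact ht1 (hcentre t (Subgroup.mem_center_iff.2 fun g =>
        Subgroup.mem_centralizer_singleton_iff.1 (htN ▸ h6 ▸ Subgroup.mem_top g)))
    · have := hc.card_mul
      rw [Subgroup.card_top, hS4] at this
      have := Nat.card_pos (α := G)
      omega
  have hSK : IsKleinFour (S : Subgroup G) := by
    by_contra hk
    have : IsCyclic (S : Subgroup G) := by
      by_contra hc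
      refine hk ⟨hS4, ?_⟩
      have h1 : Monoid.exponent (S : Subgroup G) ∣ 2 ^ 2 :=
        Group.exponent_dvd_nat_card.trans (by rw [hS4]; exact dvd_rfl)
      obtain ⟨i, hi, he⟩ := (Nat.dvd_prime_pow Nat.prime_two).1 h1
      interval_cases i
      · have := Monoid.exp_eq_one_iff.1 he
        rw [Nat.card_of_subsingleton (1 : (S : Subgroup G))] at hS4
        omega
      · simpa using he
      · have : Group.IsNilpotent (S : Subgroup G) := S.isPGroup'.isNilpotent
        have hcm : ∀ a b : (S : Subgroup G), a * b = b * a :=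
          IsPGroup.commutative_of_card_eq_prime_sq (p := 2) (by rw [hS4]; rfl)
        let _ : CommGroup (S : Subgroup G) :=
          { (inferInstance : Group (S : Subgroup G)) with mul_comm := hcm }
        exact absurd (IsCyclic.of_exponent_eq_card (he.trans hS4.symm)) hc
    obtain ⟨S', K, hK, hc⟩ := CfsgLib.LocalEvenB.HSubgroup.npc_of_cyclic (G := G) (p := 2)
      (fun q hq _ => hq.two_le) S
    obtain ⟨g, rfl⟩ := MulAction.exists_smul_eq G S S'
    refine hnpc ⟨K, hK, Subgroup.isComplement'_of_coprime ?_ ?_⟩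
    · rw [← hc.card_mul]; congr 1; exact Nat.card_congr (S.equiv (g • S)).toEquiv
    · rw [Nat.card_congr (S.equiv (g • S)).toEquiv]; exact hc_coprime (g • S) hc
  have hconj : ∀ x : G, orderOf x = 2 → ∃ g : G, g * t * g⁻¹ = x := by
    intro x hx
    rcases CfsgLib.Involution.KleinSylow.card_classes_dichotomy S hSK with ⟨-, h3⟩ | ⟨-, h1⟩
    · exact absurd ((CfsgLib.Involution.KleinSylow.three_iff_complement S hSK).1 h3) hnpc
    · have hsub := (Nat.card_eq_one_iff_unique.1 h1).1
      exact isConj_iff.1 (ConjClasses.mk_eq_mk_iff_isConj.1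
        (congrArg Subtype.val (hsub.elim ⟨_, t, ht, rfl⟩ ⟨_, x, hx, rfl⟩)))
  exact no_plane t P' ht (by
      rcases Nat.lt_or_ge 1 P' with h | h
      · exact h
      · exfalso
        have hbot : (P : Subgroup G) = ⊥ := Subgroup.card_eq_one.1
          (le_antisymm h Nat.card_pos)
        have : C = ⊤ := eq_top_iff.2 fun g _ => Subgroup.mem_centralizer_iff.2 fun p hp => by
          have hp1 : p = 1 := Subgroup.mem_bot.1 (hbot ▸ hp)
          simp [hp1]
        have hN' : N = ⊤ := eq_top_iff.2 (this ▸ hCle)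
        rw [this] at hC; rw [hN'] at hN
        have := Nat.card_pos (α := P)
        omega)
    C N (P : Subgroup G) htC hPC hsplit hCcomm huniq hNC hC hN htN hTI' hNN hCle
    (fun v hv {g} hg => (Subgroup.mem_normalizer_iff.1 hg v).1 hv) hPodd' hconj
    (by
      obtain ⟨a, b, ha, hb, ha1, hb1, hab⟩ := CfsgLib.Involution.KleinSylow.exists_pair S hSK
      have hcomm : ∀ v ∈ (S : Subgroup G), v ∈ N := fun v hv => by
        rw [← htN]; exact Subgroup.mem_centralizer_singleton_iff.2
          (CfsgLib.Involution.KleinSylow.comm S hSK hv hS)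
      rcases eq_or_ne a t with rfl | hat
      · exact ⟨b, CfsgLib.Involution.KleinSylow.order_two S hSK hb hb1, hcomm b hb,
          fun h => hab (huniq b h (CfsgLib.Involution.KleinSylow.order_two S hSK hb hb1)).symm⟩
      · exact ⟨a, CfsgLib.Involution.KleinSylow.order_two S hSK ha ha1, hcomm a ha,
          fun h => hat (huniq a h (CfsgLib.Involution.KleinSylow.order_two S hSK ha ha1))⟩)
    (fun w hw => by
      obtain ⟨Q, hQ⟩ := (IsPGroup.of_card (p := 3) (by rw [Nat.card_zpowers]; exact hw.choose_spec) :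
        IsPGroup 3 (Subgroup.zpowers w)).exists_le_sylow
      obtain ⟨g, rfl⟩ := MulAction.exists_smul_eq G P Q
      refine ⟨g, ?_⟩
      have := hQ (Subgroup.mem_zpowers w)
      rw [Sylow.coe_subgroup_smul, Subgroup.mem_pointwise_smul_iff_inv_smul_mem] at this
      simpa [MulAut.smul_def, mul_assoc] using this)
    hkP' heven hnab hcentre hbotop

end Cfsg.Agent.S4018
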