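import Cfsg.Statements.S4022
import Cfsg.Agent.Lib.Solvable.Basic
import Cfsg.Agent.Lib.KnownA.AbelianSylow
import Cfsg.Agent.Lib.Coprime.SchurZassenhaus
import Cfsg.Agent.Lib.Solvable.SupersolvableCriteria

set_option autoImplicit false
open Cfsg

namespace Cfsg.Agent.S4022

universe u

open Subgroup

/-- Subgroups of equal prime power order are conjugate. -/
def DProp (G : Type u) [Group G] : Prop :=
  ∀ p : ℕ, p.Prime → ∀ H K : Subgroup G, IsPGroup p H → IsPGroup p K → Nat.card H = Nat.card K →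
      ∃ g : G, K = H.map (MulAut.conj g).toMonoidHom

theorem map_conj_map {G Q : Type*} [Group G] [Group Q] (f : G →* Q) (g : G) (H : Subgroup G) :
    (H.map (MulAut.conj g).toMonoidHom).map f = (H.map f).map (MulAut.conj (f g)).toMonoidHom := by
  rw [Subgroup.map_map, Subgroup.map_map]
  congr 1
  ext x
  simp

theorem dprop_quotient {G : Type u} [Group G] [Finite G] (hD : DProp G) (M : Subgroup G) [M.Normal]
    {q : ℕ} (hq : q.Prime) (hMq : IsPGroup q M) : DProp (G ⧸ M) := by
  intro p hp U V hU hV hc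
  haveI := Fact.mk hp
  haveI := Fact.mk hq
  set f := QuotientGroup.mk' M
  have hf : Function.Surjective f := QuotientGroup.mk'_surjective M
  suffices h : ∃ g : G, ∃ S T : Subgroup G, S.map f = U ∧ T.map f = V ∧ T = S.map (MulAut.conj g).toMonoidHom by
    obtain ⟨g, S, T, hS, hT, hg⟩ := h
    exact ⟨f g, by rw [← hT, hg, map_conj_map, hS]⟩
  by_cases hpq : p = q
  · subst hpq
    obtain ⟨a, ha⟩ := IsPGroup.iff_card.mp hU
    obtain ⟨b, hb⟩ := IsPGroup.iff_card.mp hV
    obtain ⟨m, hm⟩ := IsPGroup.iff_card.mp hMq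
    obtain ⟨g, hg⟩ := hD p hp (U.comap f) (V.comap f)
      (IsPGroup.of_card (n := a + m) (by rw [CfsgLib.Solvable.Basic.card_comap_mk, ha, hm, pow_add]))
      (IsPGroup.of_card (n := b + m) (by rw [CfsgLib.Solvable.Basic.card_comap_mk, hb, hm, pow_add]))
      (by rw [CfsgLib.Solvable.Basic.card_comap_mk, CfsgLib.Solvable.Basic.card_comap_mk, hc])
    exact ⟨g, _, _, map_comap_eq_self_of_surjective hf U, map_comap_eq_self_of_surjective hf V, hg⟩
  · obtain ⟨S, hS, rfl⟩ := CfsgLib.KnownA.AbelianSylow.exists_pgroup_map_eq hf hU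
    obtain ⟨T, hT, rfl⟩ := CfsgLib.KnownA.AbelianSylow.exists_pgroup_map_eq hf hV
    have hd : ∀ S : Subgroup G, IsPGroup p S → M ⊓ S = ⊥ := fun S hS =>
      disjoint_iff.mp (hMq.disjoint_of_ne q p (Ne.symm hpq) _ _ hS)
    rw [CfsgLib.Solvable.Basic.card_map_mk_of_disjoint M S (hd S hS),
      CfsgLib.Solvable.Basic.card_map_mk_of_disjoint M T (hd T hT)] at hc
    obtain ⟨g, hg⟩ := hD p hp S T hS hT hc
    exact ⟨g, S, T, rfl, rfl, hg⟩

theorem cyclic_quotient {G : Type u} [Group G] [Finite G] (M : Subgroup G) [M.Normal] {r : ℕ}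
    (hcyc : ∀ p : ℕ, p.Prime → p ≠ r → ∀ U : Subgroup G, IsPGroup p U → IsCyclic U) :
    ∀ p : ℕ, p.Prime → p ≠ r → ∀ U : Subgroup (G ⧸ M), IsPGroup p U → IsCyclic U := by
  intro p hp hpr U hU
  haveI := Fact.mk hp
  obtain ⟨S, hS, rfl⟩ := CfsgLib.KnownA.AbelianSylow.exists_pgroup_map_eq
    (QuotientGroup.mk'_surjective M) hU
  haveI := hcyc p hp hpr S hS
  exact isCyclic_of_surjective _ ((QuotientGroup.mk' M).subgroupMap_surjective S)

/-- A group with all prime power subgroups cyclic has the property. -/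
theorem dprop_of_cyclic {G : Type u} [Group G] [Finite G]
    (hcyc : ∀ p : ℕ, p.Prime → ∀ U : Subgroup G, IsPGroup p U → IsCyclic U) : DProp G := by
  intro p hp H K hH hK hc
  haveI := Fact.mk hp
  obtain ⟨P, hHP⟩ := hH.exists_le_sylow
  obtain ⟨Q, hKQ⟩ := hK.exists_le_sylow
  obtain ⟨g, hg⟩ := MulAction.exists_smul_eq G P Q
  haveI := hcyc p hp (Q : Subgroup G) Q.isPGroup'
  refine ⟨g, CfsgLib.Solvable.SupersolvableCriteria.eq_of_card_eq_of_le_cyclic (A := (Q : Subgroup G))
    hKQ ?_ (by rw [card_map_of_injective (MulAut.conj g).injective, hc])⟩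
  rw [← hg]
  exact (map_mono hHP).trans_eq rfl

theorem aux : ∀ (n : ℕ) (G : Type u) [Group G] [Finite G] [Group.IsSolvable G], Nat.card G = n →
    DProp G → ∀ r : ℕ, (∀ p : ℕ, p.Prime → p ≠ r → ∀ U : Subgroup G, IsPGroup p U → IsCyclic U) →
    ∀ H K : Subgroup G, Nat.card H = Nat.card K → ∃ g : G, K = H.map (MulAut.conj g).toMonoidHom := by
  intro n
  induction n using Nat.strong_induction_on with
  | _ n ih =>
  intro G _ _ _ hn hD r hcyc H K hHK
  classical
  rcases eq_or_ne (⊤ : Subgroup G) ⊥ with htop | htop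
  · refine ⟨1, ?_⟩
    rw [le_bot_iff.mp (le_top.trans_eq htop : K ≤ ⊥), le_bot_iff.mp (le_top.trans_eq htop : H ≤ ⊥),
      Subgroup.map_bot]
  obtain ⟨M, hMn, hM0, -, hMmin⟩ := CfsgLib.Solvable.Basic.exists_minimal_normal_le htop
  obtain ⟨hMc, p, hp, hMexp, hMp⟩ := CfsgLib.Solvable.Basic.minimal_normal_solvable M hM0 hMmin
  haveI := Fact.mk hp
  set f := QuotientGroup.mk' M with hf
  have hlt : Nat.card (G ⧸ M) < n := hn ▸ CfsgLib.Solvable.Basic.card_quotient_lt M hM0
  have hquot := ih _ hlt (G ⧸ M) rfl (dprop_quotient hD M hp hMp) r (cyclic_quotient M hcyc)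
  -- subgroups of `p`-power order present in `M`
  have hinM : ∀ U V : Subgroup G, IsPGroup p U → V ≤ M → Nat.card U = Nat.card V → U ≤ M := by
    intro U V hU hV hc
    obtain ⟨g, hg⟩ := hD p hp V U (hMp.to_le hV) hU hc.symm
    rw [hg]
    rintro _ ⟨v, hv, rfl⟩
    exact hMn.conj_mem v (hV hv) g
  have hpM : p ∣ Nat.card M := by
    obtain ⟨a, ha⟩ := IsPGroup.iff_card.mp hMp
    exact ha ▸ dvd_pow_self p (fun h => hM0 (card_eq_one.mp (by rw [ha, h, pow_zero])))
  have hordp : ∀ x : G, orderOf x = p → x ∈ M := by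
    intro x hx
    obtain ⟨m, hm⟩ := exists_prime_orderOf_dvd_card' p hpM
    exact hinM (zpowers x) (zpowers (m : G)) (IsPGroup.of_card (n := 1) (by rw [Nat.card_zpowers, hx, pow_one]))
      (zpowers_le.mpr m.2) (by rw [Nat.card_zpowers, Nat.card_zpowers, hx, orderOf_coe, hm]) (mem_zpowers x)
  -- the intersections with `M` are conjugate
  obtain ⟨SH⟩ : Nonempty (Sylow p H) := inferInstance
  obtain ⟨SK⟩ : Nonempty (Sylow p K) := inferInstance
  obtain ⟨g₀, hg₀⟩ := hD p hp ((SH : Subgroup H).map H.subtype) ((SK : Subgroup K).map K.subtype)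
    (SH.isPGroup'.map _) (SK.isPGroup'.map _) (by
      rw [card_map_of_injective H.subtype_injective, card_map_of_injective K.subtype_injective,
        SH.card_eq_multiplicity, SK.card_eq_multiplicity, hHK])
  have hinf : ∀ (L : Subgroup G) (S : Sylow p L), L ⊓ M = (S : Subgroup L).map L.subtype ⊓ M := by
    intro L S
    refine le_antisymm (fun x hx => ⟨?_, hx.2⟩) (inf_le_inf_right M (map_subtype_le _))
    have hpL : IsPGroup p (M.subgroupOf L) :=
      hMp.comap_of_injective L.subtype L.subtype_injective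
    exact ⟨⟨x, hx.1⟩, hpL.le_sylow_of_normal S hx.2, rfl⟩
  have hMg : M.map (MulAut.conj g₀).toMonoidHom = M :=
    mem_normalizer_iff_map_conj_eq.mp (by rw [normalizer_eq_top_iff.mpr hMn]; exact mem_top g₀)
  set H' := H.map (MulAut.conj g₀).toMonoidHom with hH'
  have hHK' : Nat.card H' = Nat.card K := by rw [hH', card_map_of_injective (MulAut.conj g₀).injective, hHK]
  suffices h : ∃ g : G, K = H'.map (MulAut.conj g).toMonoidHom by
    obtain ⟨g, hg⟩ := h
    exact ⟨g * g₀, by rw [hg, hH', CfsgLib.Coprime.conj_map_map]⟩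
  set W := K ⊓ M with hW
  have hWH : H' ⊓ M = W := by
    rw [hW, hinf K SK, hg₀, hH', ← hMg, ← map_inf _ _ _ (MulAut.conj g₀).injective,
      ← map_inf _ _ _ (MulAut.conj g₀).injective, ← hinf H SH]
  clear_value H' W
  clear hH' hg₀ hMg SH SK hHK
  -- `M` inside both subgroups
  by_cases hWM : W = M
  · have hMK : M ≤ K := hWM ▸ hW ▸ inf_le_left
    have hMH : M ≤ H' := hWM ▸ hWH ▸ inf_le_left
    have hc : Nat.card (H'.map f) = Nat.card (K.map f) := by
      have a := CfsgLib.Solvable.Basic.card_map_mk_of_le M H' hMH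
      have b := CfsgLib.Solvable.Basic.card_map_mk_of_le M K hMK
      exact Nat.eq_of_mul_eq_mul_right Nat.card_pos (a.trans (hHK'.trans b.symm))
    obtain ⟨gb, hgb⟩ := hquot (H'.map f) (K.map f) hc
    obtain ⟨g, rfl⟩ := QuotientGroup.mk'_surjective M gb
    refine ⟨g, ?_⟩
    rw [← map_conj_map] at hgb
    have h1 := CfsgLib.Solvable.Basic.sup_eq_of_map_mk_eq hgb
    rwa [sup_eq_left.mpr hMK, sup_eq_left.mpr (show M ≤ H'.map (MulAut.conj g).toMonoidHom from
      fun x hx => ⟨g⁻¹ * x * g⁻¹⁻¹, hMH (hMn.conj_mem x hx g⁻¹), by simp [mul_assoc]⟩)] at h1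
  have hWp : IsPGroup p W := hMp.to_le (hW ▸ inf_le_right)
  have hnoP : W ≠ ⊥ → ∀ c : G ⧸ M, orderOf c ≠ p := by
    intro hW0 c hc
    have hp2 : p ^ 2 ∣ Nat.card M := by
      obtain ⟨a, ha⟩ := IsPGroup.iff_card.mp hMp
      obtain ⟨b, hb⟩ := IsPGroup.iff_card.mp hWp
      have hb1 : b ≠ 0 := fun h0 => hW0 (card_eq_one.mp (by rw [hb, h0, pow_zero]))
      have hlt : Nat.card W < Nat.card M := by
        have hle : W ≤ M := hW ▸ inf_le_right
        exact lt_of_le_of_ne (card_le_of_le hle) fun h => hWM (eq_of_le_of_card_ge hle h.ge)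
      rw [ha, hb] at hlt
      rw [ha]
      exact pow_dvd_pow p (by have := (Nat.pow_lt_pow_iff_right hp.one_lt).mp hlt; omega)
    obtain ⟨U, hU, hUL⟩ := CfsgLib.KnownA.AbelianSylow.exists_pgroup_map_eq
      (QuotientGroup.mk'_surjective M) (U := zpowers c)
      (IsPGroup.of_card (p := p) (n := 1) (by rw [Nat.card_zpowers, hc, pow_one]))
    have hUM : U ≤ M := by
      intro x hx
      by_contra hxM
      obtain ⟨j, hj⟩ := hU ⟨x, hx⟩
      have hj' : x ^ p ^ j = 1 := congrArg Subtype.val hj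
      have hex : ∃ i, x ^ p ^ i ∈ M := ⟨j, by rw [hj']; exact one_mem M⟩
      have hi := Nat.find_spec hex
      have hi0 : Nat.find hex ≠ 0 := fun h0 => by
        rw [h0, pow_zero, pow_one] at hi; exact hxM hi
      set y := x ^ p ^ (Nat.find hex - 1) with hy
      have hyM : y ∉ M := Nat.find_min hex (by omega)
      have hyp : y ^ p ∈ M := by
        rw [hy, ← pow_mul, ← pow_succ, Nat.sub_add_cancel (Nat.pos_of_ne_zero hi0)]; exact hi
      have hyp2 : y ^ (p ^ 2) = 1 := by rw [pow_two, pow_mul]; exact hMexp _ hyp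
      obtain ⟨e, he, he'⟩ := (Nat.dvd_prime_pow hp).mp (orderOf_dvd_of_pow_eq_one hyp2)
      interval_cases e
      · exact hyM (by rw [orderOf_eq_one_iff.mp (he'.trans (pow_zero p))]; exact one_mem M)
      · exact hyM (hordp y (he'.trans (pow_one p)))
      · obtain ⟨V, hV⟩ := Sylow.exists_subgroup_card_pow_prime p hp2
        exact hyM (hinM (zpowers y) (V.map M.subtype)
          (IsPGroup.of_card (n := 2) (by rw [Nat.card_zpowers, he']))
          (map_subtype_le V) (by rw [Nat.card_zpowers, he', card_map_of_injective M.subtype_injective, hV])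
          (mem_zpowers y))
    obtain ⟨x, hx, hxc⟩ : c ∈ U.map f := by rw [hUL]; exact mem_zpowers c
    have h1 : c = 1 := hxc ▸ (QuotientGroup.eq_one_iff x).mpr (hUM hx)
    rw [h1, orderOf_one] at hc
    exact hp.ne_one hc.symm
  -- `p` does not divide the images
  have hcopf : ∀ L : Subgroup G, L ⊓ M = W → (Nat.card (L.map f)).Coprime p := by
    intro L hL
    refine (hp.coprime_iff_not_dvd.mpr fun hd => ?_).symm
    by_cases hW0 : W = ⊥
    · rw [hW0] at hL
      rw [CfsgLib.Solvable.Basic.card_map_mk_of_disjoint M L (by rw [inf_comm]; exact hL)] at hd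
      obtain ⟨x, hx⟩ := exists_prime_orderOf_dvd_card' p hd
      have h1 : (x : G) ∈ L ⊓ M := ⟨x.2, hordp _ (by rw [orderOf_coe, hx])⟩
      rw [hL, mem_bot] at h1
      rw [← orderOf_coe, h1, orderOf_one] at hx
      exact hp.ne_one hx.symm
    · obtain ⟨c, hc⟩ := exists_prime_orderOf_dvd_card' p hd
      exact hnoP hW0 c (by rw [orderOf_coe, hc])
  -- conjugate the images inside the normaliser of `W`
  obtain ⟨g, hgW, hgK⟩ : ∃ g : G, g ∈ normalizer (W : Set G) ∧
      (H'.map f).map (MulAut.conj (f g)).toMonoidHom = K.map f := by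
    have hc : Nat.card (H'.map f) = Nat.card (K.map f) := by
      have a := CfsgLib.Solvable.Basic.card_map_mk_mul M H'
      have b := CfsgLib.Solvable.Basic.card_map_mk_mul M K
      rw [inf_comm, hWH] at a
      rw [inf_comm, ← hW] at b
      exact Nat.eq_of_mul_eq_mul_right Nat.card_pos (a.trans (hHK'.trans b.symm))
    by_cases hW0 : W = ⊥
    · obtain ⟨gb, hgb⟩ := hquot (H'.map f) (K.map f) hc
      obtain ⟨g, rfl⟩ := QuotientGroup.mk'_surjective M gb
      exact ⟨g, by rw [hW0, normalizer_eq_top_iff.mpr inferInstance]; exact mem_top g, hgb.symm⟩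
    set N := (normalizer (W : Set G)).map f
    have hpr : p = r := by
      by_contra hpr
      haveI := hcyc p hp hpr M hMp
      obtain ⟨c, hc'⟩ := IsCyclic.exists_generator (α := M)
      have hcard : orderOf (c : G) = Nat.card M := by
        rw [orderOf_coe]; exact orderOf_eq_card_of_forall_mem_zpowers hc'
      have hd : Nat.card M ∣ p := hcard ▸ orderOf_dvd_of_pow_eq_one (hMexp _ c.2)
      have hWd := card_dvd_of_le (show W ≤ M from hW ▸ inf_le_right)
      rcases (Nat.dvd_prime hp).mp (hWd.trans hd) with h | h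
      · exact hW0 (card_eq_one.mp h)
      · exact hWM (eq_of_le_of_card_ge (hW ▸ inf_le_right) (h.symm ▸ Nat.le_of_dvd hp.pos hd))
    have hNcyc : ∀ q : ℕ, q.Prime → ∀ U : Subgroup N, IsPGroup q U → IsCyclic U := by
      intro q hq U hU
      haveI := Fact.mk hq
      have hUG : IsPGroup q (U.map N.subtype) := hU.map _
      suffices IsCyclic (U.map N.subtype) from
        isCyclic_of_surjective _ (U.equivMapOfInjective N.subtype N.subtype_injective).symm.surjective
      by_cases hqr : q = r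
      · -- no `p`-elements in `G ⧸ M`
        have hq1 : U.map N.subtype = ⊥ := by
          by_contra h0
          obtain ⟨a, ha⟩ := IsPGroup.iff_card.mp hUG
          have hqd : q ∣ Nat.card (U.map N.subtype) := ha ▸ dvd_pow_self q
            (fun h => h0 (card_eq_one.mp (by rw [ha, h, pow_zero])))
          obtain ⟨x, hx⟩ := exists_prime_orderOf_dvd_card' q hqd
          exact hnoP hW0 x ((orderOf_coe x).trans (hx.trans (hqr.trans hpr.symm)))
        rw [hq1]; infer_instance
      · exact cyclic_quotient M hcyc q hq hqr _ hUG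
    have hle : ∀ L : Subgroup G, L ⊓ M = W → L.map f ≤ N := fun L hL => map_mono fun x hx =>
      CfsgLib.Coprime.mem_normalizer_of_conj_map_le fun w hw => by
        rw [← hL] at hw ⊢
        exact ⟨L.mul_mem (L.mul_mem hx hw.1) (L.inv_mem hx), hMn.conj_mem w hw.2 x⟩
    obtain ⟨⟨nb, hnb⟩, hn'⟩ := ih (Nat.card N) (lt_of_le_of_lt
        (Nat.le_of_dvd Nat.card_pos N.card_subgroup_dvd_card) hlt) N rfl (dprop_of_cyclic hNcyc) r
      (fun q hq _ => hNcyc q hq) ((H'.map f).subgroupOf N) ((K.map f).subgroupOf N) (by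
        rw [Nat.card_congr (subgroupOfEquivOfLe (hle H' hWH)).toEquiv,
          Nat.card_congr (subgroupOfEquivOfLe (hle K hW.symm)).toEquiv, hc])
    obtain ⟨g, hg, rfl⟩ := hnb
    refine ⟨g, hg, ?_⟩
    have h1 := congrArg (Subgroup.map N.subtype) hn'
    rw [subgroupOf_map_subtype, inf_eq_left.mpr (hle K hW.symm), map_conj_map, subgroupOf_map_subtype,
      inf_eq_left.mpr (hle H' hWH)] at h1
    exact h1.symm
  rw [← map_conj_map] at hgK
  set H'' := H'.map (MulAut.conj g).toMonoidHom with hH''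
  have hWH'' : H'' ⊓ M = W := by
    have hMg : M.map (MulAut.conj g).toMonoidHom = M :=
      mem_normalizer_iff_map_conj_eq.mp (by rw [normalizer_eq_top_iff.mpr hMn]; exact mem_top g)
    conv_lhs => rw [hH'', ← hMg, ← map_inf _ _ _ (MulAut.conj g).injective, hWH]
    exact mem_normalizer_iff_map_conj_eq.mp hgW
  suffices h : ∃ m : G, K = H''.map (MulAut.conj m).toMonoidHom by
    obtain ⟨m, hm⟩ := h
    exact ⟨m * g, by rw [hm, hH'', CfsgLib.Coprime.conj_map_map]⟩
  have hc2 : Nat.card H'' = Nat.card K := by rw [hH'', card_map_of_injective (MulAut.conj g).injective, hHK']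
  have hsup := CfsgLib.Solvable.Basic.sup_eq_of_map_mk_eq hgK
  have hcompl : ∀ L : Subgroup G, L ⊓ M = W → ∃ A : Subgroup G, A ≤ L ∧
      L ≤ W ⊔ A ∧ Nat.card A = Nat.card (L.map f) ∧ (Nat.card M).Coprime (Nat.card A) := by
    intro L hL
    have hn : (W.subgroupOf L).Normal := by
      rw [← hL]
      exact ⟨fun w hw x => mem_subgroupOf.mpr
        ⟨(x * w * x⁻¹).2, hMn.conj_mem _ (mem_subgroupOf.mp hw).2 x⟩⟩
    have hWL : W ≤ L := hL ▸ inf_le_left
    have hidx : (W.subgroupOf L).index = Nat.card (L.map f) := by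
      have h1 := (W.subgroupOf L).card_mul_index
      rw [Nat.card_congr (subgroupOfEquivOfLe hWL).toEquiv] at h1
      have h2 := CfsgLib.Solvable.Basic.card_map_mk_mul M L
      rw [inf_comm, hL, mul_comm] at h2
      exact Nat.eq_of_mul_eq_mul_left Nat.card_pos (h1.trans h2.symm)
    have hcp : (Nat.card (W.subgroupOf L)).Coprime (W.subgroupOf L).index := by
      rw [hidx, Nat.card_congr (subgroupOfEquivOfLe hWL).toEquiv]
      obtain ⟨b, hb⟩ := IsPGroup.iff_card.mp hWp
      rw [hb]
      exact (hcopf L hL).symm.pow_left b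
    obtain ⟨A, hA⟩ := exists_right_complement'_of_coprime (N := W.subgroupOf L) hcp
    refine ⟨A.map L.subtype, map_subtype_le A, ?_, ?_, ?_⟩
    · intro x hx
      have h3 : (⟨x, hx⟩ : L) ∈ W.subgroupOf L ⊔ A := hA.sup_eq_top ▸ mem_top _
      have h4 := mem_map_of_mem L.subtype h3
      rw [Subgroup.map_sup, subgroupOf_map_subtype, inf_eq_left.mpr hWL] at h4
      exact h4
    · rw [card_map_of_injective L.subtype_injective, ← hidx, hA.symm.index_eq_card]
    · rw [card_map_of_injective L.subtype_injective, ← hA.symm.index_eq_card, hidx]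
      obtain ⟨b, hb⟩ := IsPGroup.iff_card.mp hMp
      rw [hb]
      exact (hcopf L hL).symm.pow_left b
  obtain ⟨A, hAH, hHA, hAc, hAcop⟩ := hcompl H'' hWH''
  obtain ⟨B, hBK, hKB, hBc, -⟩ := hcompl K hW.symm
  have hWM' : W ≤ M := hW ▸ inf_le_right
  have htopn : ∀ L : Subgroup G, L ≤ normalizer (M : Set G) := fun L => by
    rw [normalizer_eq_top_iff.mpr hMn]; exact le_top
  obtain ⟨m, hm, hmAB⟩ := CfsgLib.Coprime.exists_conj_eq (N := M) (H := A) (K := B) (Or.inl inferInstance)
    (htopn A) (htopn B) (by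
      have h5 : A ≤ K ⊔ M := (hAH.trans le_sup_left).trans_eq hsup
      exact h5.trans (sup_le (hKB.trans (sup_le (hWM'.trans le_sup_left) le_sup_right)) le_sup_left))
    (by rw [hAc, hBc, hgK]) hAcop
  refine ⟨m, (eq_of_le_of_card_ge ?_ (by rw [card_map_of_injective (MulAut.conj m).injective, hc2])).symm⟩
  refine (map_mono hHA).trans ?_
  rw [Subgroup.map_sup, hmAB]
  refine sup_le ?_ hBK
  rintro _ ⟨w, hw, rfl⟩
  have hwm : m * w = w * m := CfsgLib.Solvable.Basic.isMulCommutative_subgroup_iff.mp hMc m hm w (hWM' hw)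
  have : (MulAut.conj m).toMonoidHom w = w := by
    show m * w * m⁻¹ = w
    rw [hwm, mul_inv_cancel_right]
  rw [this, hW] at *
  exact hw.1

/-- Let G be a finite solvable group in which, for every prime p, any two p-subgroups of the same order are conjugate, and suppose the Sylow p-subgroups of G are cyclic for all primes p with at most one exception. Then any two subgroups of G of the same order are conjugate. -/
theorem result {G : Type*} [Group G] [Finite G]
    [Group.IsSolvable G] (hD : ∀ p : ℕ, p.Prime → ∀ H K : Subgroup G, IsPGroup p H → IsPGroup p K → Nat.card H = Nat.card K →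
      ∃ g : G, K = H.map (MulAut.conj g).toMonoidHom)
    (r : ℕ) (hcyc : ∀ p : ℕ, p.Prime → p ≠ r → ∀ P : Sylow p G, IsCyclic P) :
    ∀ H K : Subgroup G, Nat.card H = Nat.card K → ∃ g : G, K = H.map (MulAut.conj g).toMonoidHom := by
  refine aux _ G rfl hD r fun p hp hpr U hU => ?_
  haveI := Fact.mk hp
  obtain ⟨P, hP⟩ := hU.exists_le_sylow
  haveI := hcyc p hp hpr P
  exact isCyclic_of_surjective _ (Subgroup.subgroupOfEquivOfLe hP).surjective

end Cfsg.Agent.S4022
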