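import Cfsg.Statements.S4023
import Cfsg.Agent.Lib.FrobRealize.Quaternion
import Cfsg.Agent.Lib.Coprime.SchurZassenhaus

set_option autoImplicit false
open Cfsg
open scoped Pointwise commutatorElement

namespace Cfsg.Agent.S4023

theorem quaternion_subgroups {k : ℕ} (hk : 2 ≤ k) :
    ∃ A B : Subgroup (QuaternionGroup (2 ^ k)), Nat.card A = Nat.card B ∧
      IsMulCommutative A ∧ ¬ IsMulCommutative B := by
  classical
  obtain ⟨j, rfl⟩ : ∃ j, k = j + 2 := ⟨k - 2, by omega⟩
  set N := 2 * 2 ^ (j + 2) with hN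
  set D := AddSubgroup.zmultiples ((2 ^ (j + 1) : ℕ) : ZMod N) with hD
  have hn : ((2 ^ (j + 2) : ℕ) : ZMod N) ∈ D := by
    refine AddSubgroup.mem_zmultiples_iff.2 ⟨2, ?_⟩
    rw [zsmul_eq_mul, pow_succ' 2 (j + 1), Nat.cast_mul]; norm_num
  let B : Subgroup (QuaternionGroup (2 ^ (j + 2))) :=
    { carrier := {g | match g with | .a i => i ∈ D | .xa i => i ∈ D}
      one_mem' := D.zero_mem
      mul_mem' := by
        rintro (a | a) (b | b) ha hb
        · exact D.add_mem ha hb
        · exact D.sub_mem hb ha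
        · exact D.add_mem ha hb
        · exact D.sub_mem (D.add_mem hn hb) ha
      inv_mem' := by
        rintro (a | a) ha
        · exact D.neg_mem ha
        · exact D.add_mem hn ha }
  have hDcard : Nat.card D = 4 := by
    rw [hD, Nat.card_zmultiples, ZMod.addOrderOf_coe _ (by positivity),
      Nat.gcd_eq_right (Dvd.dvd.mul_left (pow_dvd_pow 2 (by omega)) 2), hN,
      show 2 * 2 ^ (j + 2) = 2 ^ (j + 1) * 4 by ring, Nat.mul_div_cancel_left _ (by positivity)]
  have hBcard : Nat.card B = 8 := by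
    let f : D ⊕ D → B := Sum.elim (fun i => ⟨.a i, i.2⟩) (fun i => ⟨.xa i, i.2⟩)
    have hf : Function.Bijective f := by
      refine ⟨?_, ?_⟩
      · rintro (i | i) (i' | i') h
        · exact congrArg Sum.inl (Subtype.ext (QuaternionGroup.a.inj (congrArg Subtype.val h)))
        · cases congrArg Subtype.val h
        · cases congrArg Subtype.val h
        · exact congrArg Sum.inr (Subtype.ext (QuaternionGroup.xa.inj (congrArg Subtype.val h)))
      · rintro ⟨(i | i), hi⟩
        · exact ⟨.inl ⟨i, hi⟩, rfl⟩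
        · exact ⟨.inr ⟨i, hi⟩, rfl⟩
    rw [← Nat.card_congr (Equiv.ofBijective f hf), Nat.card_sum, hDcard]
  refine ⟨Subgroup.zpowers (QuaternionGroup.a 1 ^ 2 ^ j), B, ?_, inferInstance, fun hc => ?_⟩
  · rw [hBcard, Nat.card_zpowers, orderOf_pow, QuaternionGroup.orderOf_a_one,
      Nat.gcd_eq_right (Dvd.dvd.mul_left (pow_dvd_pow 2 (by omega)) 2),
      show 2 * 2 ^ (j + 2) = 2 ^ j * 8 by ring, Nat.mul_div_cancel_left _ (by positivity)]
  · have h := setLike_mul_comm (s := B)
      (show QuaternionGroup.a ((2 ^ (j + 1) : ℕ) : ZMod N) ∈ B from AddSubgroup.mem_zmultiples _)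
      (show QuaternionGroup.xa (0 : ZMod N) ∈ B from D.zero_mem)
    rw [QuaternionGroup.a_mul_xa, QuaternionGroup.xa_mul_a, QuaternionGroup.xa.injEq, zero_sub,
      zero_add, neg_eq_iff_add_eq_zero, ← Nat.cast_add, ZMod.natCast_eq_zero_iff] at h
    have := Nat.le_of_dvd (by positivity) h
    rw [pow_succ' 2 (j + 1)] at this
    have := Nat.one_le_two_pow (n := j + 1)
    omega

theorem cube_dichotomy {p : ℕ} [hp : Fact p.Prime] {P : Type*} [Group P] [Finite P]
    (hP : IsPGroup p P) (hexp : ∀ x : P, x ^ p = 1) (hab : ¬ IsMulCommutative P) :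
    (∃ A B : Subgroup P, Nat.card A = p ^ 3 ∧ IsMulCommutative A ∧ Nat.card B = p ^ 3 ∧
      ¬ IsMulCommutative B) ∨ Nat.card P = p ^ 3 := by
  classical
  have hord : ∀ x : P, x ≠ 1 → orderOf x = p := fun x hx => orderOf_eq_prime (hexp x) hx
  have hdisj : ∀ (H : Subgroup P) (x : P), x ∉ H → Disjoint H (Subgroup.zpowers x) := by
    intro H x hx
    rw [Subgroup.disjoint_def]
    intro w hwH hwx
    by_contra hw
    refine hx ?_
    have hle : Subgroup.zpowers w ≤ Subgroup.zpowers x := Subgroup.zpowers_le.2 hwx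
    have hx1 : x ≠ 1 := fun e => hx (e ▸ one_mem _)
    have := Subgroup.eq_of_le_of_card_ge hle
      (by rw [Nat.card_zpowers, Nat.card_zpowers, hord x hx1, hord w hw])
    exact Subgroup.zpowers_le.2 hwH (this ▸ Subgroup.mem_zpowers x)
  have := hP.isNilpotent
  have hZne : Subgroup.center P ≠ ⊤ := fun h =>
    hab ⟨⟨fun x y => (Subgroup.mem_center_iff.1 (h ▸ Subgroup.mem_top x) y).symm⟩⟩
  -- a non-commutative subgroup of order `p³`
  obtain ⟨x, hx2, hxZ⟩ : ∃ x ∈ Subgroup.upperCentralSeries P 2, x ∉ Subgroup.center P := by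
    by_contra h
    push Not at h
    have h21 : Subgroup.upperCentralSeries P 2 = Subgroup.upperCentralSeries P 1 :=
      le_antisymm (by rw [Subgroup.upperCentralSeries_one]; exact h)
        (Subgroup.upperCentralSeries_mono P one_le_two)
    have hst : ∀ m, Subgroup.upperCentralSeries P (m + 1) = Subgroup.upperCentralSeries P 1 := by
      intro m
      induction m with
      | zero => rfl
      | succ m ih =>
        ext g
        rw [Subgroup.mem_upperCentralSeries_succ_iff, ih, ← Subgroup.mem_upperCentralSeries_succ_iff]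
        exact SetLike.ext_iff.1 h21 g
    obtain ⟨m, hm⟩ := Group.IsNilpotent.nilpotent P
    refine hZne (eq_top_iff.2 ?_)
    rw [← hm, ← Subgroup.upperCentralSeries_one]
    exact (Subgroup.upperCentralSeries_mono P (Nat.le_succ m)).trans (hst m).le
  obtain ⟨y, hy⟩ : ∃ y : P, x * y ≠ y * x := by
    by_contra h
    push Not at h
    exact hxZ (Subgroup.mem_center_iff.2 fun y => (h y).symm)
  set c := ⁅y, x⁆ with hcdef
  have hcZ : c ∈ Subgroup.center P := by
    rw [← Subgroup.upperCentralSeries_one, hcdef, ← commutatorElement_inv]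
    exact inv_mem ((Subgroup.mem_upperCentralSeries_succ_iff).1 hx2 y)
  have hc1 : c ≠ 1 := fun e => hy (commutatorElement_eq_one_iff_mul_comm.1 e).symm
  have hx1 : x ≠ 1 := fun e => hy (by simp [e])
  have hy1 : y ≠ 1 := fun e => hy (by simp [e])
  set C := Subgroup.zpowers c with hC
  have hCc : C ≤ Subgroup.center P := Subgroup.zpowers_le.2 hcZ
  have hxC : x ∉ C := fun h => hxZ (hCc h)
  have hxN : Subgroup.zpowers x ≤ Subgroup.normalizer (C : Set P) := fun u _ =>
    Subgroup.centralizer_le_normalizer _ (Subgroup.mem_centralizer_iff.2 fun w hw =>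
      (Subgroup.mem_center_iff.1 (hCc hw) u).symm)
  set K := C ⊔ Subgroup.zpowers x with hK
  have hKc : Nat.card K = p ^ 2 := by
    rw [hK, CfsgLib.Coprime.card_sup_of_le_normalizer hxN (hdisj C x hxC), hC, Nat.card_zpowers,
      Nat.card_zpowers, hord c hc1, hord x hx1, sq]
  have hKx : K ≤ Subgroup.centralizer ({x} : Set P) := by
    refine sup_le (fun u hu => ?_) (Subgroup.zpowers_le.2 ?_)
    · exact Subgroup.mem_centralizer_singleton_iff.2 (Subgroup.mem_center_iff.1 (hCc hu) x).symm
    · exact Subgroup.mem_centralizer_singleton_iff.2 rfl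
  have hyK : y ∉ K := fun h => hy (Subgroup.mem_centralizer_singleton_iff.1 (hKx h)).symm
  have hyN : Subgroup.zpowers y ≤ Subgroup.normalizer (K : Set P) := by
    rw [Subgroup.zpowers_le]
    refine CfsgLib.Coprime.mem_normalizer_of_conj_map_le fun h hh => ?_
    have : K ≤ K.comap (MulAut.conj y).toMonoidHom := by
      refine sup_le (fun u hu => ?_) (Subgroup.zpowers_le.2 ?_)
      · show y * u * y⁻¹ ∈ K
        rw [Subgroup.mem_center_iff.1 (hCc hu) y, mul_inv_cancel_right]
        exact Subgroup.mem_sup_left hu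
      · show y * x * y⁻¹ ∈ K
        rw [show y * x * y⁻¹ = c * x by rw [hcdef, commutatorElement_def]; group]
        exact mul_mem (Subgroup.mem_sup_left (Subgroup.mem_zpowers c))
          (Subgroup.mem_sup_right (Subgroup.mem_zpowers x))
    exact this hh
  set B := K ⊔ Subgroup.zpowers y with hB
  have hBc : Nat.card B = p ^ 3 := by
    rw [hB, CfsgLib.Coprime.card_sup_of_le_normalizer hyN (hdisj K y hyK), hKc, Nat.card_zpowers,
      hord y hy1, ← pow_succ]
  have hBn : ¬ IsMulCommutative B := fun h => hy (setLike_mul_comm (s := B)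
    (Subgroup.mem_sup_left (Subgroup.mem_sup_right (Subgroup.mem_zpowers x)))
    (Subgroup.mem_sup_right (Subgroup.mem_zpowers y)))
  obtain ⟨n, hn⟩ := IsPGroup.iff_card.1 hP
  by_cases hn4 : n ≤ 3
  · right
    have h1 := Subgroup.card_le_card_group B
    rw [hBc, hn] at h1
    have h2 := (Nat.pow_le_pow_iff_right hp.out.one_lt).1 h1
    rw [hn, show n = 3 by omega]
  left
  -- a commutative subgroup of order `p³`
  obtain ⟨w, hw, hwC⟩ : ∃ w : P, (∀ g : P, ⁅w, g⁆ ∈ C) ∧ w ∉ C := by
    have : C.Normal := ⟨fun u hu g => by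
      rw [Subgroup.mem_center_iff.1 (hCc hu) g, mul_inv_cancel_right]; exact hu⟩
    have : Nontrivial (P ⧸ C) := by
      rw [← Finite.one_lt_card_iff_nontrivial]
      have h1 := C.card_eq_card_quotient_mul_card_subgroup
      rw [hn, hC, Nat.card_zpowers, hord c hc1] at h1
      rw [← hC] at h1
      by_contra hle
      have h2 : Nat.card (P ⧸ C) = 1 := le_antisymm (not_lt.1 hle) Nat.card_pos
      rw [h2, one_mul] at h1
      have h3 := Nat.pow_right_injective hp.out.two_le (h1.trans (pow_one p).symm)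
      omega
    have := (hP.to_quotient C).center_nontrivial
    obtain ⟨⟨u, hu⟩, hu1⟩ := exists_ne (1 : Subgroup.center (P ⧸ C))
    obtain ⟨w, rfl⟩ := QuotientGroup.mk'_surjective C u
    refine ⟨w, fun g => ?_, fun hwC => hu1 (Subtype.ext ((QuotientGroup.eq_one_iff w).2 hwC))⟩
    rw [← QuotientGroup.eq_one_iff (N := C), ← QuotientGroup.mk'_apply, map_commutatorElement,
      commutatorElement_eq_one_iff_mul_comm]
    exact (Subgroup.mem_center_iff.1 hu _).symm
  let ψ : P →* C :=
    { toFun := fun g => ⟨⁅w, g⁆, hw g⟩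
      map_one' := Subtype.ext (commutatorElement_one_right w)
      map_mul' := fun a b => Subtype.ext (by
        have hb := Subgroup.mem_center_iff.1 (hCc (hw b)) a
        show ⁅w, a * b⁆ = ⁅w, a⁆ * ⁅w, b⁆
        calc ⁅w, a * b⁆ = ⁅w, a⁆ * (a * ⁅w, b⁆ * a⁻¹) := by simp [commutatorElement_def, mul_assoc]
          _ = _ := by rw [hb, mul_inv_cancel_right]) }
  have hkercard : p ^ 3 ≤ Nat.card ψ.ker := by
    have h1 := ψ.ker.card_mul_index
    rw [Subgroup.index_ker, hn] at h1
    have h2 : Nat.card ψ.range ≤ p := (Subgroup.card_le_card_group _).trans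
      (by rw [hC, Nat.card_zpowers, hord c hc1])
    by_contra hlt
    have h3 : Nat.card ψ.ker * Nat.card ψ.range < p ^ 4 := by
      calc _ < p ^ 3 * Nat.card ψ.range := Nat.mul_lt_mul_of_pos_right (not_le.1 hlt) Nat.card_pos
        _ ≤ p ^ 3 * p := Nat.mul_le_mul_left _ h2
        _ = _ := by ring
    rw [h1] at h3
    exact absurd ((Nat.pow_lt_pow_iff_right hp.out.one_lt).1 h3) (by omega)
  have hwN : Subgroup.zpowers w ≤ Subgroup.normalizer (C : Set P) := fun u _ =>
    Subgroup.centralizer_le_normalizer _ (Subgroup.mem_centralizer_iff.2 fun z hz =>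
      (Subgroup.mem_center_iff.1 (hCc hz) u).symm)
  have hw1 : w ≠ 1 := fun e => hwC (e ▸ one_mem _)
  set L := C ⊔ Subgroup.zpowers w with hL
  have hLc : Nat.card L = p ^ 2 := by
    rw [hL, CfsgLib.Coprime.card_sup_of_le_normalizer hwN (hdisj C w hwC), hC, Nat.card_zpowers,
      Nat.card_zpowers, hord c hc1, hord w hw1, sq]
  obtain ⟨v, hv, hvL⟩ : ∃ v ∈ ψ.ker, v ∉ L := by
    by_contra h
    push Not at h
    have := (Subgroup.card_le_of_le (h : ψ.ker ≤ L))
    rw [hLc] at this
    have := (Nat.pow_le_pow_iff_right hp.out.one_lt).1 (hkercard.trans this)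
    omega
  have hwv : w * v = v * w :=
    commutatorElement_eq_one_iff_mul_comm.1 (congrArg Subtype.val (MonoidHom.mem_ker.1 hv))
  have hLv : L ≤ Subgroup.centralizer ({v} : Set P) := by
    refine sup_le (fun u hu => ?_) (Subgroup.zpowers_le.2 ?_)
    · exact Subgroup.mem_centralizer_singleton_iff.2 (Subgroup.mem_center_iff.1 (hCc hu) v).symm
    · exact Subgroup.mem_centralizer_singleton_iff.2 hwv
  have hLN : Subgroup.zpowers v ≤ Subgroup.normalizer (L : Set P) := by
    rw [Subgroup.zpowers_le]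
    exact Subgroup.centralizer_le_normalizer _ (Subgroup.mem_centralizer_iff.2 fun u hu =>
      Subgroup.mem_centralizer_singleton_iff.1 (hLv hu))
  have hv1 : v ≠ 1 := fun e => hvL (e ▸ one_mem _)
  refine ⟨L ⊔ Subgroup.zpowers v, B, ?_, ?_, hBc, hBn⟩
  · rw [CfsgLib.Coprime.card_sup_of_le_normalizer hLN (hdisj L v hvL), hLc, Nat.card_zpowers,
      hord v hv1, ← pow_succ]
  · rw [hL, sup_assoc, ← Subgroup.closure_eq C, Subgroup.zpowers_eq_closure,
      Subgroup.zpowers_eq_closure, ← Subgroup.closure_union, ← Subgroup.closure_union]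
    refine Subgroup.isMulCommutative_closure ?_
    rintro a (ha | (rfl | rfl)) b (hb | (rfl | rfl))
    all_goals first
      | rfl
      | exact (Subgroup.mem_center_iff.1 (hCc hb) _)
      | exact (Subgroup.mem_center_iff.1 (hCc ha) _).symm
      | exact hwv
      | exact hwv.symm

/-- Let p be a prime and G a finite group in which any two p-subgroups of the same order are conjugate, with Sylow p-subgroup P. Then P is cyclic, or elementary abelian, or p = 2 and P is a quaternion group of order 8, or p is odd and P is non-abelian of order p³ and exponent p. -/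
theorem result {G : Type*} [Group G] [Finite G]
    {p : ℕ} [Fact p.Prime] (hC : ∀ H K : Subgroup G, IsPGroup p H → IsPGroup p K → Nat.card H = Nat.card K →
      ∃ g : G, K = H.map (MulAut.conj g).toMonoidHom) (P : Sylow p G) :
    IsCyclic P ∨ Cfsg.IsElementaryAbelian p (P : Subgroup G) ∨
      (p = 2 ∧ Nonempty ((P : Subgroup G) ≃* QuaternionGroup 2)) ∨
      (p ≠ 2 ∧ ¬ IsMulCommutative P ∧ Nat.card P = p ^ 3 ∧ Monoid.exponent P = p) := by
  classical
  have key : ∀ (p : ℕ) [Fact p.Prime] (P : Sylow p G), (∀ H K : Subgroup G, IsPGroup p H → IsPGroup p K → Nat.card H = Nat.card K → ∃ g : G, K = H.map (MulAut.conj g).toMonoidHom) →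
      (∀ x ∈ (P : Subgroup G), x ^ p = 1) ∨ IsCyclic ↥(P : Subgroup G) ∨
        (p = 2 ∧ ∃ k : ℕ, Nonempty (↥(P : Subgroup G) ≃* QuaternionGroup (2 ^ k))) := by
    intro p hp P hB'
    by_cases hexp : ∀ x ∈ (P : Subgroup G), x ^ p = 1
    · exact Or.inl hexp
    right
    apply CfsgLib.FrobRealize.Quaternion.cyclic_or_quaternion P.isPGroup'
    push Not at hexp
    obtain ⟨x, hx, hxp⟩ := hexp
    -- a power of `x` has order `p²`
    obtain ⟨a, ha⟩ := IsPGroup.iff_orderOf.mp P.isPGroup' ⟨x, hx⟩
    rw [Subgroup.orderOf_mk] at ha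
    have ha2 : 2 ≤ a := by
      by_contra h
      refine hxp (orderOf_dvd_iff_pow_eq_one.mp ?_)
      rw [ha]
      exact (pow_dvd_pow p (by omega : a ≤ 1)).trans (pow_one p).dvd
    set y := x ^ p ^ (a - 2) with hy
    have hyo : orderOf y = p ^ 2 := by
      rw [hy, orderOf_pow, ha, Nat.gcd_eq_right (pow_dvd_pow p (Nat.sub_le a 2)),
        Nat.pow_div (Nat.sub_le a 2) hp.out.pos, show a - (a - 2) = 2 by omega]
    by_contra hlt
    rw [not_le] at hlt
    -- a central element of order `p` and another element of order `p`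
    haveI : Nontrivial ↥(P : Subgroup G) :=
      ⟨⟨⟨x, hx⟩, 1, fun e => hxp (by rw [show x = 1 from congrArg Subtype.val e, one_pow])⟩⟩
    haveI := IsPGroup.center_nontrivial P.isPGroup'
    obtain ⟨z, hz⟩ := exists_prime_orderOf_dvd_card' (G := Subgroup.center ↥(P : Subgroup G)) p (by
      obtain ⟨c, hc⟩ := IsPGroup.iff_card.mp (P.isPGroup'.to_subgroup (Subgroup.center _))
      have := Finite.one_lt_card (α := Subgroup.center ↥(P : Subgroup G))
      rw [hc]
      exact dvd_pow_self p fun c0 => by rw [hc, c0, pow_zero] at this; omega)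
    have hzP : orderOf (z : ↥(P : Subgroup G)) = p := by rw [Subgroup.orderOf_coe, hz]
    obtain ⟨w, hw, hwz⟩ : ∃ w : ↥(P : Subgroup G), w ^ p = 1 ∧
        w ∉ Subgroup.zpowers (z : ↥(P : Subgroup G)) := by
      by_contra hall
      push Not at hall
      have h1 := Nat.card_le_card_of_injective
        (fun w : {w : ↥(P : Subgroup G) // w ^ p = 1} =>
          (⟨w.1, hall w.1 w.2⟩ : Subgroup.zpowers (z : ↥(P : Subgroup G))))
        (fun u v h => Subtype.ext (congrArg Subtype.val h :))
      rw [Nat.card_zpowers, hzP] at h1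
      omega
    set Z := Subgroup.zpowers (z : ↥(P : Subgroup G))
    set W := Subgroup.zpowers w
    have hc : ∀ u ∈ W, ∀ v ∈ Z, Commute u v := by
      intro u hu v hv
      have h1 : Z ≤ Subgroup.center _ := Subgroup.zpowers_le.mpr z.2
      exact Subgroup.mem_center_iff.mp (h1 hv) u
    have hwo : orderOf w = p :=
      orderOf_eq_prime hw fun e => hwz (e ▸ one_mem _)
    have hWn : W ≤ Subgroup.normalizer (Z : Set ↥(P : Subgroup G)) := fun u hu =>
      Subgroup.centralizer_le_normalizer _ (Subgroup.mem_centralizer_iff.mpr fun v hv => (hc u hu v hv).eq.symm)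
    have hmem : ∀ e ∈ Z ⊔ W, ∃ u ∈ Z, ∃ v ∈ W, u * v = e := fun e he =>
      (CfsgLib.Coprime.mem_sup_of_le_normalizer hWn).mp he
    set E := (Z ⊔ W).map (P : Subgroup G).subtype with hE
    have hEexp : ∀ e ∈ E, e ^ p = 1 := by
      rintro _ ⟨e, he, rfl⟩
      obtain ⟨u, hu, v, hv, rfl⟩ := hmem e he
      have hu' : u ^ p = 1 := orderOf_dvd_iff_pow_eq_one.mp ((orderOf_dvd_of_mem_zpowers hu).trans hzP.dvd)
      have hv' : v ^ p = 1 := orderOf_dvd_iff_pow_eq_one.mp ((orderOf_dvd_of_mem_zpowers hv).trans hwo.dvd)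
      rw [← map_pow, (hc v hv u hu).symm.mul_pow, hu', hv', one_mul, map_one]
    have hEab : IsMulCommutative ↥E := by
      refine ⟨⟨fun e f => Subtype.ext ?_⟩⟩
      obtain ⟨_, e, he, rfl⟩ := e
      obtain ⟨_, f, hf, rfl⟩ := f
      obtain ⟨u, hu, v, hv, rfl⟩ := hmem e he
      obtain ⟨u', hu', v', hv', rfl⟩ := hmem f hf
      have hZZ : Commute u u' := by
        obtain ⟨i, rfl⟩ := hu; obtain ⟨j, rfl⟩ := hu'
        exact (Commute.refl _).zpow_zpow i j
      have hWW : Commute v v' := by
        obtain ⟨i, rfl⟩ := hv; obtain ⟨j, rfl⟩ := hv'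
        exact (Commute.refl _).zpow_zpow i j
      show (P : Subgroup G).subtype (u * v) * (P : Subgroup G).subtype (u' * v') =
        (P : Subgroup G).subtype (u' * v') * (P : Subgroup G).subtype (u * v)
      rw [← map_mul, ← map_mul]
      exact congrArg _ ((hZZ.mul_right (hc v' hv' u hu).symm).mul_left
        ((hc v hv u' hu').mul_right hWW)).eq
    have hEcard : Nat.card ↥E = p ^ 2 := by
      rw [hE, Subgroup.card_map_of_injective (Subgroup.subtype_injective _)]
      have hd : Disjoint Z W := by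
        rw [disjoint_iff, eq_bot_iff]
        intro u hu
        obtain ⟨huZ, huW⟩ := Subgroup.mem_inf.mp hu
        by_contra hu1
        apply hwz
        have hle : Subgroup.zpowers u ≤ W := Subgroup.zpowers_le.mpr huW
        have huo : orderOf u = p := orderOf_eq_prime
          (orderOf_dvd_iff_pow_eq_one.mp ((orderOf_dvd_of_mem_zpowers huW).trans hwo.dvd)) hu1
        have heq := Subgroup.eq_of_le_of_card_ge hle
          (by rw [Nat.card_zpowers, Nat.card_zpowers, huo, hwo])
        exact Subgroup.zpowers_le.mpr huZ (heq ▸ Subgroup.mem_zpowers w)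
      rw [CfsgLib.Coprime.card_sup_of_le_normalizer hWn hd, Nat.card_zpowers, Nat.card_zpowers,
        hzP, hwo, pow_two]
    obtain ⟨g, hg⟩ := hB' E (Subgroup.zpowers y) (IsPGroup.of_card hEcard)
      (IsPGroup.of_card (n := 2) (by rw [Nat.card_zpowers, hyo]))
      (by rw [hEcard, Nat.card_zpowers, hyo])
    obtain ⟨e, he, hey⟩ : y ∈ E.map (MulAut.conj g).toMonoidHom :=
      hg ▸ Subgroup.mem_zpowers y
    have hyp : y ^ p = 1 := by rw [← hey, ← map_pow, hEexp e he, map_one]
    have h2 := orderOf_dvd_of_pow_eq_one hyp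
    rw [hyo] at h2
    have h3 := Nat.le_of_dvd hp.out.pos h2
    have := hp.out.one_lt
    nlinarith
  have hP := P.isPGroup'
  -- conjugate subgroups are both commutative or both non-commutative
  have noIso : ∀ A B : Subgroup ↥(P : Subgroup G), Nat.card A = Nat.card B →
      IsMulCommutative A → ¬ IsMulCommutative B → False := by
    intro A B hcard hA hB
    have hc : ∀ C : Subgroup ↥(P : Subgroup G),
        Nat.card ↥(C.map (P : Subgroup G).subtype) = Nat.card C := fun C =>
      Subgroup.card_map_of_injective (Subgroup.subtype_injective _)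
    obtain ⟨g, hg⟩ := hC (A.map (P : Subgroup G).subtype) (B.map (P : Subgroup G).subtype)
      ((hP.to_subgroup A).map _) ((hP.to_subgroup B).map _) (by rw [hc, hc, hcard])
    refine hB ⟨⟨fun x y => ?_⟩⟩
    have hx : (P : Subgroup G).subtype x ∈ (A.map (P : Subgroup G).subtype).map
        (MulAut.conj g).toMonoidHom := hg ▸ Subgroup.mem_map_of_mem _ x.2
    have hy : (P : Subgroup G).subtype y ∈ (A.map (P : Subgroup G).subtype).map
        (MulAut.conj g).toMonoidHom := hg ▸ Subgroup.mem_map_of_mem _ y.2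
    obtain ⟨_, ⟨x', hx', rfl⟩, ex⟩ := hx
    obtain ⟨_, ⟨y', hy', rfl⟩, ey⟩ := hy
    refine Subtype.ext (Subgroup.subtype_injective _ ?_)
    rw [Subgroup.coe_mul, Subgroup.coe_mul, map_mul, map_mul, ← ex, ← ey, ← map_mul, ← map_mul,
      ← map_mul, ← map_mul, setLike_mul_comm hx' hy']
  rcases key p P hC with hexp | h | ⟨hp2, k, ⟨e⟩⟩
  · rcases eq_or_ne p 2 with rfl | hp2
    · refine Or.inr (Or.inl ⟨⟨⟨fun a b => ?_⟩⟩, hexp⟩)
      have hs : ∀ c : ↥(P : Subgroup G), c⁻¹ = c := fun c =>
        inv_eq_of_mul_eq_one_right (Subtype.ext (by rw [← pow_two]; exact hexp c c.2))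
      rw [← hs (a * b), mul_inv_rev, hs, hs]
    by_cases hab : IsMulCommutative ↥(P : Subgroup G)
    · exact Or.inr (Or.inl ⟨hab, hexp⟩)
    have hexp' : ∀ x : ↥(P : Subgroup G), x ^ p = 1 := fun x => Subtype.ext (hexp x x.2)
    have hcard : Nat.card ↥(P : Subgroup G) = p ^ 3 := by
      obtain ⟨A, B, hA3, hAc, hB3, hBc⟩ | h := cube_dichotomy hP hexp' hab
      · exact (noIso A B (hA3.trans hB3.symm) hAc hBc).elim
      · exact h
    refine Or.inr (Or.inr (Or.inr ⟨hp2, hab, hcard, ?_⟩))
    refine ((Nat.dvd_prime Fact.out).1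
      (Monoid.exponent_dvd_of_forall_pow_eq_one hexp')).resolve_left fun h1 => ?_
    have := Monoid.exp_eq_one_iff.1 h1
    exact hab ⟨⟨fun x y => Subsingleton.elim _ _⟩⟩
  · exact Or.inl h
  · subst hp2
    rcases (by omega : k = 0 ∨ k = 1 ∨ 2 ≤ k) with rfl | rfl | hk
    · refine Or.inl ((MulEquiv.isCyclic e).2 ?_)
      exact isCyclic_of_orderOf_eq_card (QuaternionGroup.xa 0)
        (by rw [QuaternionGroup.orderOf_xa, Nat.card_eq_fintype_card, QuaternionGroup.card]; rfl)
    · exact Or.inr (Or.inr (Or.inl ⟨rfl, ⟨e⟩⟩))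
    · exfalso
      obtain ⟨A, B, hAB, hA, hB⟩ := quaternion_subgroups hk
      refine noIso (A.map e.symm.toMonoidHom) (B.map e.symm.toMonoidHom) ?_ ?_ ?_
      · rw [Subgroup.card_map_of_injective e.symm.injective,
          Subgroup.card_map_of_injective e.symm.injective, hAB]
      · refine ⟨⟨fun x y => ?_⟩⟩
        obtain ⟨_, x, hx, rfl⟩ := x
        obtain ⟨_, y, hy, rfl⟩ := y
        exact Subtype.ext (by rw [Subgroup.coe_mul, Subgroup.coe_mul, ← map_mul, ← map_mul,
          setLike_mul_comm hx hy])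
      · refine fun hc => hB ⟨⟨fun x y => Subtype.ext (e.symm.injective ?_)⟩⟩
        rw [Subgroup.coe_mul, Subgroup.coe_mul, map_mul, map_mul]
        exact setLike_mul_comm (Subgroup.mem_map_of_mem e.symm.toMonoidHom x.2)
          (Subgroup.mem_map_of_mem e.symm.toMonoidHom y.2)

end Cfsg.Agent.S4023
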