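import Cfsg.Statements.S4025
import Cfsg.Agent.Lib.Solvable.SubspaceTransitive.Main
import Cfsg.Agent.Lib.Solvable.Cores
import Cfsg.Agent.Lib.Fusion.Transfer
-- import your own Cfsg.Agent.* helpers here

set_option autoImplicit false
set_option linter.style.haveILetI false
open Cfsg

namespace Cfsg.Agent.S4025

open Module

universe u

/-- An elementary abelian subgroup as a vector space with the action of its normalizer. -/
theorem exists_module_of_hom {G : Type u} [Group G] {p : ℕ} {Q : Type u} [CommGroup Q]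
    [Module (ZMod p) (Additive Q)] (i : Q →* G) (hi : Function.Injective i) (N : Subgroup G)
    (hN : ∀ g ∈ N, ∀ q : Q, g * i q * g⁻¹ ∈ i.range) :
    ∃ (V : Type u) (_ : AddCommGroup V) (_ : Module (ZMod p) V) (val : V → G)
      (act : ↥N →* Module.End (ZMod p) V), Function.Injective val ∧ (∀ v, val v ∈ i.range) ∧
      (∀ x ∈ i.range, ∃ v, val v = x) ∧ (∀ v w, val (v + w) = val v * val w) ∧
      ∀ (g : ↥N) v, val (act g v) = (g : G) * val v * (g : G)⁻¹ := by
  choose φ hφ using fun (g : ↥N) (q : Q) => MonoidHom.mem_range.1 (hN g g.2 q)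
  let conj : ↥N → (Q →* Q) := fun g => MonoidHom.mk' (φ g) fun a b => hi (by
    rw [map_mul, hφ, hφ, hφ, map_mul]; group)
  have hconj : ∀ g q, i (conj g q) = (g : G) * i q * (g : G)⁻¹ := hφ
  let val : Additive Q → G := fun v => i (Additive.toMul v)
  have hval : Function.Injective val := fun v w h => Additive.toMul.injective (hi h)
  let lin : ↥N → Module.End (ZMod p) (Additive Q) := fun g => (MonoidHom.toAdditive (conj g)).toZModLinearMap p
  have hlin : ∀ g v, val (lin g v) = (g : G) * val v * (g : G)⁻¹ := fun g v => hconj g (Additive.toMul v)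
  refine ⟨Additive Q, inferInstance, inferInstance, val, ⟨⟨lin, LinearMap.ext fun v => hval ?_⟩, fun a b =>
    LinearMap.ext fun v => hval ?_⟩, hval, fun v => ⟨_, rfl⟩, ?_, fun v w => map_mul i _ _, hlin⟩
  · rw [hlin, Module.End.one_apply, Subgroup.coe_one, one_mul, inv_one, mul_one]
  · rw [hlin, Module.End.mul_apply, hlin, hlin, Subgroup.coe_mul]; group
  · rintro _ ⟨q, rfl⟩; exact ⟨Additive.ofMul q, rfl⟩

theorem exists_module {G : Type u} [Group G] {p : ℕ} (P : Subgroup G) (hel : Cfsg.IsElementaryAbelian p P) :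
    ∃ (V : Type u) (_ : AddCommGroup V) (_ : Module (ZMod p) V) (val : V → G)
      (act : ↥(Subgroup.normalizer (P : Set G)) →* Module.End (ZMod p) V), Function.Injective val ∧ (∀ v, val v ∈ P) ∧
      (∀ x ∈ P, ∃ v, val v = x) ∧ (∀ v w, val (v + w) = val v * val w) ∧
      ∀ (g : ↥(Subgroup.normalizer (P : Set G))) v, val (act g v) = (g : G) * val v * (g : G)⁻¹ := by
  have h := @exists_module_of_hom G _ p ↥P
    { (inferInstance : Group ↥P) with mul_comm := hel.1.is_comm.comm }
    (@AddCommGroup.zmodModule p (Additive ↥P)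
      (@Additive.addCommGroup ↥P { (inferInstance : Group ↥P) with mul_comm := hel.1.is_comm.comm })
      fun x => Additive.toMul.injective (Subtype.ext (hel.2 _ (Additive.toMul x).2)))
    P.subtype P.subtype_injective (Subgroup.normalizer (P : Set G))
    (fun g hg q => ⟨⟨_, (Subgroup.mem_normalizer_iff.1 hg _).1 q.2⟩, rfl⟩)
  simpa only [Subgroup.range_subtype] using h

/-- The order of the semi-affine group is at most `q (q - 1) n`. -/
theorem card_semiaffine_le (p n : ℕ) [Fact p.Prime] (hn : n ≠ 0) :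
    Nat.card ↥(Cfsg.semiaffineGroup (GaloisField p n)) ≤ p ^ n * ((p ^ n - 1) * n) := by
  classical
  choose a b σ h using fun π : ↥(Cfsg.semiaffineGroup (GaloisField p n)) => π.2
  let f : ↥(Cfsg.semiaffineGroup (GaloisField p n)) →
      GaloisField p n × (GaloisField p n)ˣ × (GaloisField p n ≃ₐ[ZMod p] GaloisField p n) :=
    fun π => (b π, a π, AlgEquiv.ofRingEquiv (f := σ π) fun r => congrFun (congrArg
      (fun F : ZMod p →+* GaloisField p n => (F : ZMod p → GaloisField p n))
      (RingHom.ext_zmod ((σ π).toRingHom.comp (algebraMap (ZMod p) (GaloisField p n))) (algebraMap _ _))) r)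
  have hf : Function.Injective f := by
    intro π ρ e
    simp only [f, Prod.mk.injEq] at e
    refine Subtype.ext (Equiv.ext fun x => ?_)
    rw [h, h, e.1, e.2.1]
    congr 2
    exact DFunLike.congr_fun e.2.2 x
  have h1 := Nat.card_le_card_of_injective f hf
  rwa [Nat.card_prod, Nat.card_prod, Nat.card_units, IsGalois.card_aut_eq_finrank, GaloisField.finrank _ hn,
    GaloisField.card p n hn] at h1

/-- The order of the affine group is at most `q (q - 1)`. -/
theorem card_affine_le (p n : ℕ) [Fact p.Prime] (hn : n ≠ 0) :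
    Nat.card ↥(Cfsg.affineGroup (GaloisField p n)) ≤ p ^ n * (p ^ n - 1) := by
  classical
  choose a b h using fun π : ↥(Cfsg.affineGroup (GaloisField p n)) => π.2
  have hf : Function.Injective fun π => (b π, a π) := by
    intro π ρ e
    simp only [Prod.mk.injEq] at e
    refine Subtype.ext (Equiv.ext fun x => ?_)
    rw [h, h, e.1, e.2]
  have h1 := Nat.card_le_card_of_injective _ hf
  rwa [Nat.card_prod, Nat.card_units, GaloisField.card p n hn] at h1


/-- Let p be a prime and G a finite group in which any two p-subgroups of the same order are conjugate, and suppose a Sylow p-subgroup P of G is elementary abelian of order pⁿ with n ≥ 3. Let N be the normalizer of P and K the largest normal subgroup of N of order prime to p, and assume N/K is solvable. Then either n = 3 and N/K embeds in the one-dimensional semi-affine group over the field with p³ elements (and for p = 2 it is isomorphic to the affine or the semi-affine group over the field with 8 elements), or n = 5, p = 2 and N/K is isomorphic to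 the one-dimensional semi-affine group over the field with 32 elements. -/
theorem result {G : Type*} [Group G] [Finite G]
    {p : ℕ} [Fact p.Prime] (hC : ∀ H K : Subgroup G, IsPGroup p H → IsPGroup p K → Nat.card H = Nat.card K →
      ∃ g : G, K = H.map (MulAut.conj g).toMonoidHom) (P : Sylow p G) (n : ℕ) (hn : 3 ≤ n)
    (hel : Cfsg.IsElementaryAbelian p (P : Subgroup G)) (hcard : Nat.card P = p ^ n)
    (N : Subgroup G) (hN : N = Subgroup.normalizer ((P : Subgroup G) : Set G))
    (hsolv : Group.IsSolvable (↥N ⧸ Cfsg.pPrimeCore p ↥N)) :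
    (n = 3 ∧ (∃ f : ↥N ⧸ Cfsg.pPrimeCore p ↥N →* ↥(Cfsg.semiaffineGroup (GaloisField p 3)), Function.Injective f) ∧
      (p = 2 → Nonempty (↥N ⧸ Cfsg.pPrimeCore p ↥N ≃* Cfsg.semiaffineGroup (GaloisField 2 3)) ∨
               Nonempty (↥N ⧸ Cfsg.pPrimeCore p ↥N ≃* Cfsg.affineGroup (GaloisField 2 3)))) ∨
    (n = 5 ∧ p = 2 ∧ Nonempty (↥N ⧸ Cfsg.pPrimeCore p ↥N ≃* Cfsg.semiaffineGroup (GaloisField 2 5))) := by
  classical
  subst hN
  set N := Subgroup.normalizer ((P : Subgroup G) : Set G) with hN
  set O := Cfsg.pPrimeCore p ↥N with hO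
  have hp := (Fact.out : p.Prime)
  have hPN : (P : Subgroup G) ≤ N := Subgroup.le_normalizer
  obtain ⟨V, _, _, val, act, hval, hmemval, hsurval, hvadd, hact⟩ :=
    exists_module (p := p) (P : Subgroup G) hel
  haveI : Finite V := Finite.of_injective val hval
  have hVc : Nat.card V = p ^ n := by
    rw [← hcard]
    exact Nat.card_congr (Equiv.ofBijective (fun v => (⟨val v, hmemval v⟩ : ↥(P : Subgroup G)))
      ⟨fun v w h => hval (congrArg Subtype.val h), fun x => by
        obtain ⟨v, hv⟩ := hsurval x x.2; exact ⟨v, Subtype.ext hv⟩⟩)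
  haveI : Module.Finite (ZMod p) V := Module.Finite.of_finite
  have hdim : finrank (ZMod p) V = n := by
    have h1 : Nat.card V = p ^ finrank (ZMod p) V := by
      rw [Module.natCard_eq_pow_finrank (K := ZMod p) (V := V), Nat.card_zmod]
    exact Nat.pow_right_injective hp.two_le (h1.symm.trans hVc)
  have hv0 : val 0 = 1 := by
    have h1 := hvadd 0 0
    rw [add_zero] at h1
    exact left_eq_mul.1 h1
  have hvneg : ∀ v, val (-v) = (val v)⁻¹ := fun v => eq_inv_of_mul_eq_one_left (by rw [← hvadd, neg_add_cancel, hv0])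
  set Q : Subgroup N := (P : Subgroup G).subgroupOf N with hQ
  haveI hQn : Q.Normal := Subgroup.normal_subgroupOf_of_le_normalizer le_rfl
  have hQc : Nat.card Q = p ^ n := (Nat.card_congr (Subgroup.subgroupOfEquivOfLe hPN).toEquiv).trans hcard
  have hQidx : (Nat.card Q).Coprime Q.index := by
    rw [hQc]
    refine Nat.Coprime.pow_left _ (hp.coprime_iff_not_dvd.2 fun hd => P.not_dvd_index (hd.trans ?_))
    exact Subgroup.relIndex_dvd_index_of_le hPN
  haveI hOn : O.Normal := by
    haveI : O.Characteristic := CfsgLib.Solvable.Cores.pPrimeCore_characteristic p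
    infer_instance
  have hOc : (Nat.card O).Coprime p := CfsgLib.Solvable.Cores.coprime_card_pPrimeCore p
  have hQO : ∀ x ∈ Q, ∀ o ∈ O, x * o = o * x := by
    intro x hx o ho
    refine Subgroup.commute_of_normal_of_disjoint Q O hQn hOn ?_ x o hx ho
    rw [disjoint_iff]
    exact Subgroup.inf_eq_bot_of_coprime (by rw [hQc]; exact (hOc.symm).pow_left n)
  have hactO : ∀ o ∈ O, act o = 1 := fun o ho => LinearMap.ext fun v => hval (by
    have h1 := congrArg (fun x : N => (x : G)) (hQO ⟨val v, hPN (hmemval v)⟩ (hmemval v) o ho)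
    rw [hact, Module.End.one_apply, show (o : G) * val v = val v * (o : G) from h1.symm, mul_inv_cancel_right])
  -- fusion inside `N`
  let sub : Submodule (ZMod p) V → Subgroup G := fun A =>
    { carrier := val '' (A : Set V)
      one_mem' := ⟨0, A.zero_mem, hv0⟩
      mul_mem' := by rintro _ _ ⟨v, hv, rfl⟩ ⟨w, hw, rfl⟩; exact ⟨v + w, A.add_mem hv hw, hvadd v w⟩
      inv_mem' := by rintro _ ⟨v, hv, rfl⟩; exact ⟨-v, A.neg_mem hv, hvneg v⟩ }
  have hfus : ∀ A B : Submodule (ZMod p) V, finrank (ZMod p) A = finrank (ZMod p) B →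
      ∃ g : N, A.map (act g) = B := by
    intro A B hAB
    have hc : ∀ A : Submodule (ZMod p) V, Nat.card (sub A) = p ^ finrank (ZMod p) A := fun A => by
      rw [show Nat.card (sub A) = Nat.card ↥(val '' (A : Set V)) from rfl, Nat.card_image_of_injective hval]
      exact (Module.natCard_eq_pow_finrank (K := ZMod p) (V := A)).trans (by rw [Nat.card_zmod])
    obtain ⟨g, hg⟩ := hC (sub A) (sub B) (IsPGroup.of_card (hc A)) (IsPGroup.of_card (hc B)) (by rw [hc, hc, hAB])
    have hfix : ∀ A : Submodule (ZMod p) V, ∀ u ∈ (P : Subgroup G),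
        (fun y => u * y * u⁻¹) '' (val '' (A : Set V)) = val '' (A : Set V) := by
      intro A u hu
      rw [Set.image_image]
      refine Set.image_congr fun v _ => ?_
      have h1 := congrArg (fun x : ↥(P : Subgroup G) => (x : G))
        (hel.1.is_comm.comm (⟨u, hu⟩ : ↥(P : Subgroup G)) ⟨val v, hmemval v⟩)
      show u * val v * u⁻¹ = val v
      rw [show u * val v = val v * u from h1, mul_inv_cancel_right]
    obtain ⟨c, hcN, hc'⟩ := CfsgLib.Fusion.Transfer.burnside_sets P (hfix A) (hfix B) g (by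
      have h1 := congrArg (fun H : Subgroup G => (H : Set G)) hg
      exact h1.symm)
    refine ⟨⟨c, hcN⟩, SetLike.coe_injective ?_⟩
    rw [Submodule.map_coe]
    refine hval.image_injective ?_
    rw [← hc', Set.image_image, Set.image_image]
    exact Set.image_congr fun v _ => hact _ v
  -- the group with scalars
  let π : ↥N ⧸ O →* Module.End (ZMod p) V := QuotientGroup.lift O act fun o ho => MonoidHom.mem_ker.2 (hactO o ho)
  let Φ : (↥N ⧸ O) × (ZMod p)ˣ →* (Module.End (ZMod p) V)ˣ :=
    ({ toFun := fun x => ((x.2 : ZMod p) • π x.1 : Module.End (ZMod p) V)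
       map_one' := by rw [Prod.snd_one, Prod.fst_one, map_one, Units.val_one, one_smul]
       map_mul' := fun x y => by
         rw [Prod.snd_mul, Prod.fst_mul, map_mul, Units.val_mul, smul_mul_smul_comm] } :
      (↥N ⧸ O) × (ZMod p)ˣ →* Module.End (ZMod p) V).toHomUnits
  haveI : Group.IsSolvable ((↥N ⧸ O) × (ZMod p)ˣ) := inferInstance
  haveI : Group.IsSolvable Φ.range := Group.isSolvable_of_surjective Φ.rangeRestrict_surjective
  set G' := Φ.range with hG'
  haveI : Finite G' := Finite.of_surjective _ Φ.rangeRestrict_surjective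
  let ρ : G' →* Module.End (ZMod p) V := (Units.coeHom _).comp G'.subtype
  have hρ : Function.Injective ρ := fun x y h => Subtype.ext (Units.ext h)
  have hρΦ : ∀ (g : N) (c : (ZMod p)ˣ), ∃ x : G', ρ x = (c : ZMod p) • act g := fun g c =>
    ⟨⟨Φ (QuotientGroup.mk g, c), _, rfl⟩, rfl⟩
  have htr : ∀ v w : V, v ≠ 0 → w ≠ 0 → ∃ x, ρ x v = w := by
    intro v w hv hw
    obtain ⟨g, hg⟩ := hfus (Submodule.span (ZMod p) {v}) (Submodule.span (ZMod p) {w})
      (by rw [finrank_span_singleton hv, finrank_span_singleton hw])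
    have hmem : w ∈ (Submodule.span (ZMod p) {v}).map (act g) := hg.ge (Submodule.mem_span_singleton_self w)
    obtain ⟨u, hu, hue⟩ := Submodule.mem_map.1 hmem
    obtain ⟨c, rfl⟩ := Submodule.mem_span_singleton.1 hu
    have hc0 : c ≠ 0 := fun e => hw (by rw [← hue, e, zero_smul, map_zero])
    obtain ⟨x, hx⟩ := hρΦ g (Units.mk0 c hc0)
    exact ⟨x, by rw [hx, LinearMap.smul_apply, ← map_smul]; exact hue⟩
  obtain ⟨hcases, hpts, e, he⟩ := CfsgLib.Solvable.SubspaceTransitive.main p n ρ hρ hdim hn htr
    (fun c => (hρΦ 1 c).imp fun x hx => by rw [hx, map_one])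
    (fun A B hA hB => by
      obtain ⟨g, hg⟩ := hfus A B (hA.trans hB.symm)
      obtain ⟨x, hx⟩ := hρΦ g 1
      exact ⟨x, by rw [hx, Units.val_one, one_smul, hg]⟩)
  have hsl : ∀ g : N, ∃ (a : GaloisField p n) (σ : GaloisField p n ≃+* GaloisField p n),
      ∀ v, e (act g v) = a * σ (e v) := by
    intro g
    obtain ⟨x, hx⟩ := hρΦ g 1
    obtain ⟨a, σ, h⟩ := he x
    exact ⟨a, σ, fun v => by rw [← h, hx, Units.val_one, one_smul]⟩
  -- the permutation representation
  obtain ⟨H, hH⟩ := Subgroup.exists_right_complement'_of_coprime hQidx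
  have hQH : ∀ x ∈ Q, x ∈ H → x = 1 := fun x hx hx' => by
    have h1 := hH.disjoint
    rw [Subgroup.disjoint_def] at h1
    exact h1 hx hx'
  let inN : V → N := fun v => ⟨val v, hPN (hmemval v)⟩
  have hinQ : ∀ v, inN v ∈ Q := fun v => (hmemval v)
  let ψ : GaloisField p n → ↥N ⧸ H := fun x => QuotientGroup.mk (inN (e.symm x))
  have hψb : Function.Bijective ψ := by
    refine (Nat.bijective_iff_injective_and_card ψ).2 ⟨fun x y hxy => ?_, ?_⟩
    · have h1 := QuotientGroup.eq.1 hxy
      have h2 := hQH _ (Q.mul_mem (Q.inv_mem (hinQ _)) (hinQ _)) h1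
      have h3 : inN (e.symm x) = inN (e.symm y) := inv_mul_eq_one.1 h2
      exact e.symm.injective (hval (congrArg Subtype.val h3))
    · rw [GaloisField.card p n (by omega), ← Subgroup.index_eq_card, hH.index_eq_card, hQc]
  let Ψ : GaloisField p n ≃ ↥N ⧸ H := Equiv.ofBijective ψ hψb
  let θ : N →* Equiv.Perm (GaloisField p n) :=
    (Ψ.symm.permCongrHom.toMonoidHom).comp (MulAction.toPermHom N (↥N ⧸ H))
  have hθ : ∀ (g : N) x y, g • ψ x = ψ y → θ g x = y := fun g x y h => by
    show Ψ.symm (g • Ψ x) = y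
    rw [Equiv.symm_apply_eq]; exact h
  have hθ' : ∀ (g : N) x, g • ψ x = ψ (θ g x) := fun g x => by
    show g • Ψ x = Ψ (Ψ.symm (g • Ψ x))
    rw [Equiv.apply_symm_apply]
  have hθH : ∀ h ∈ H, ∀ x, θ h x = e (act h (e.symm x)) := by
    intro h hh x
    refine hθ h x _ ?_
    show (QuotientGroup.mk (h * inN (e.symm x)) : ↥N ⧸ H) = QuotientGroup.mk (inN (e.symm (e (act h (e.symm x)))))
    rw [e.symm_apply_apply, QuotientGroup.eq,
      show inN (act h (e.symm x)) = h * inN (e.symm x) * h⁻¹ from Subtype.ext (hact h _),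
      show (h * inN (e.symm x))⁻¹ * (h * inN (e.symm x) * h⁻¹) = h⁻¹ by group]
    exact H.inv_mem hh
  have hθQ : ∀ v x, θ (inN v) x = x + e v := by
    intro v x
    refine hθ _ x _ ?_
    show (QuotientGroup.mk (inN v * inN (e.symm x)) : ↥N ⧸ H) = _
    congr 1
    refine Subtype.ext ?_
    show val v * val (e.symm x) = val (e.symm (x + e v))
    rw [← hvadd, map_add, e.symm_apply_apply, add_comm]
  have hdec : ∀ g : N, ∃ v : V, ∃ h ∈ H, g = inN v * h := by
    intro g
    obtain ⟨⟨⟨u, hu⟩, ⟨h, hh⟩⟩, rfl⟩ := hH.2 g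
    obtain ⟨v, hv⟩ := hsurval (u : G) hu
    exact ⟨v, h, hh, congrArg (· * h) (Subtype.ext hv.symm : u = inN v)⟩
  have ha0 : ∀ (g : N) (a : GaloisField p n) (σ : GaloisField p n ≃+* GaloisField p n),
      (∀ v, e (act g v) = a * σ (e v)) → a ≠ 0 := by
    intro g a σ h ha
    have h1 : act g⁻¹ (act g (e.symm 1)) = e.symm 1 := by
      rw [← Module.End.mul_apply, ← map_mul, inv_mul_cancel, map_one]; rfl
    rw [show act g (e.symm 1) = 0 from e.injective (by rw [h, ha, zero_mul, map_zero]), map_zero] at h1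
    exact one_ne_zero (e.symm.injective (h1.symm.trans e.symm.map_zero.symm))
  have hθmem : ∀ g, θ g ∈ Cfsg.semiaffineGroup (GaloisField p n) := by
    intro g
    obtain ⟨v, h, hh, rfl⟩ := hdec g
    obtain ⟨a, σ, ha⟩ := hsl h
    refine ⟨Units.mk0 a (ha0 h a σ ha), e v, σ, fun x => ?_⟩
    rw [map_mul, Equiv.Perm.mul_apply, hθQ, hθH h hh, ha, e.apply_symm_apply, Units.val_mk0]
  have hOH : O ≤ H := by
    intro o ho
    obtain ⟨⟨⟨u, hu⟩, ⟨h, hh⟩⟩, huh⟩ := hH.2 o
    simp only at huh
    have hcm : Commute u o := hQO u hu o ho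
    have hh' : h = u⁻¹ * o := by rw [← huh, inv_mul_cancel_left]
    have h1 : h ^ Nat.card O = (u⁻¹) ^ Nat.card O := by
      rw [hh', hcm.inv_left.mul_pow,
        show o ^ Nat.card O = 1 from orderOf_dvd_iff_pow_eq_one.1 (Subgroup.orderOf_dvd_natCard _ ho), mul_one]
    have h2 : u⁻¹ ^ Nat.card O = 1 := hQH _ (Q.pow_mem (Q.inv_mem hu) _) (h1 ▸ H.pow_mem hh _)
    have h3 : u⁻¹ = 1 := by
      refine orderOf_eq_one_iff.1 (Nat.eq_one_of_dvd_coprimes (hOc.pow_right n) (orderOf_dvd_of_pow_eq_one h2) ?_)
      rw [← hQc]; exact Subgroup.orderOf_dvd_natCard _ (Q.inv_mem hu)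
    rw [h3, one_mul] at hh'
    exact hh' ▸ hh
  have hker : θ.ker = O := by
    refine le_antisymm ?_ fun o ho => MonoidHom.mem_ker.2 (Equiv.ext fun x => ?_)
    · have hkH : θ.ker ≤ H := by
        intro g hg
        have h1 := hθ' g 0
        rw [MonoidHom.mem_ker.1 hg, Equiv.Perm.one_apply] at h1
        have h2 : ψ 0 = QuotientGroup.mk 1 := by
          show QuotientGroup.mk (inN (e.symm 0)) = _
          rw [map_zero, show inN 0 = 1 from Subtype.ext hv0]
        rw [h2] at h1
        have h3 : (QuotientGroup.mk (g * 1) : ↥N ⧸ H) = QuotientGroup.mk 1 := h1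
        rw [mul_one, QuotientGroup.eq, mul_one] at h3
        exact inv_mem_iff.1 h3
      refine CfsgLib.Solvable.Cores.le_pPrimeCore (Nat.Coprime.coprime_dvd_left (Subgroup.card_dvd_of_le hkH) ?_)
      rw [← hH.symm.index_eq_card]
      exact (Nat.Coprime.coprime_dvd_left (hQc ▸ dvd_pow_self p (by omega : n ≠ 0)) hQidx).symm
    · rw [hθH o (hOH ho), hactO o ho, Equiv.Perm.one_apply]
      exact e.apply_symm_apply x
  let f : ↥N ⧸ O →* ↥(Cfsg.semiaffineGroup (GaloisField p n)) :=
    QuotientGroup.lift O (θ.codRestrict _ hθmem) fun o ho =>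
      MonoidHom.mem_ker.2 (Subtype.ext (MonoidHom.mem_ker.1 (hker.ge ho)))
  have hf : Function.Injective f := by
    rw [injective_iff_map_eq_one]
    intro x hx
    obtain ⟨g, rfl⟩ := QuotientGroup.mk_surjective x
    exact (QuotientGroup.eq_one_iff g).2 (hker.le (MonoidHom.mem_ker.2 (congrArg Subtype.val hx)))
  -- the order
  set πu := π.toHomUnits with hπu
  set au := act.toHomUnits with hau
  haveI : Finite πu.range := Finite.of_surjective _ πu.rangeRestrict_surjective
  have hG'card : p = 2 → Nat.card G' = Nat.card πu.range := by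
    intro hp2
    subst hp2
    have heq : ∀ x, Φ x = πu x.1 := fun x => Units.ext (by
      show ((x.2 : ZMod 2) • π x.1 : Module.End (ZMod 2) V) = π x.1
      rw [Subsingleton.elim x.2 1, Units.val_one, one_smul])
    have h1 : G' = πu.range := by
      ext y
      constructor
      · rintro ⟨x, rfl⟩; exact ⟨x.1, (heq x).symm⟩
      · rintro ⟨x, rfl⟩; exact ⟨(x, 1), heq (x, 1)⟩
    rw [h1]
  have hcardNO : Nat.card (↥N ⧸ O) = p ^ n * Nat.card πu.range := by
    have hπr : πu.range = au.range := by
      ext y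
      constructor
      · rintro ⟨x, rfl⟩
        obtain ⟨g, rfl⟩ := QuotientGroup.mk_surjective x
        exact ⟨g, Units.ext rfl⟩
      · rintro ⟨g, rfl⟩; exact ⟨QuotientGroup.mk g, Units.ext rfl⟩
    have hrange : (au.comp H.subtype).range = au.range := by
      refine le_antisymm (by rintro _ ⟨g, rfl⟩; exact ⟨_, rfl⟩) ?_
      rintro _ ⟨g, rfl⟩
      obtain ⟨v, h, hh, rfl⟩ := hdec g
      refine ⟨⟨h, hh⟩, Units.ext (LinearMap.ext fun w => ?_)⟩
      show act h w = act (inN v * h) w
      rw [map_mul, Module.End.mul_apply]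
      refine hval ?_
      rw [hact (inN v)]
      show val (act h w) = val v * val (act h w) * (val v)⁻¹
      rw [← hvadd, add_comm, hvadd, mul_inv_cancel_right]
    have hker' : (au.comp H.subtype).ker = O.subgroupOf H := by
      ext ⟨h, hh⟩
      rw [MonoidHom.mem_ker, Subgroup.mem_subgroupOf]
      refine ⟨fun h1 => hker.le (MonoidHom.mem_ker.2 (Equiv.ext fun x => ?_)), fun ho => Units.ext (hactO h ho)⟩
      rw [hθH h hh, show act h = 1 from congrArg Units.val h1, Equiv.Perm.one_apply]
      exact e.apply_symm_apply x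
    have h1 := Subgroup.card_eq_card_quotient_mul_card_subgroup O
    have h2 : Nat.card au.range * Nat.card O = Nat.card H := by
      rw [← hrange, ← Subgroup.index_ker, hker', ← Nat.card_congr (Subgroup.subgroupOfEquivOfLe hOH).toEquiv]
      rw [mul_comm]
      exact Subgroup.card_mul_index _
    refine Nat.eq_of_mul_eq_mul_right (Nat.card_pos (α := O)) ?_
    rw [← h1, mul_assoc, hπr, h2, ← hQc, hH.card_mul_card]
  rcases hcases with rfl | ⟨rfl, rfl, h155⟩
  · refine Or.inl ⟨rfl, ⟨f, hf⟩, fun hp2 => ?_⟩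
    subst hp2
    have hG := hG'card rfl
    have hdvd := CfsgLib.Solvable.SubspaceTransitive.card_dvd_of_semilinear 2 3 ρ (by norm_num) hρ e he
    set r := Nat.card πu.range with hr
    rw [hG] at hdvd hpts
    norm_num at hdvd hpts
    have hr' : r = 7 ∨ r = 21 := by
      obtain ⟨k, hk⟩ := hpts
      have hle : r ≤ 21 := Nat.le_of_dvd (by norm_num) hdvd
      have hpos : 0 < r := Nat.card_pos
      rcases (show k = 1 ∨ k = 2 ∨ k = 3 by omega) with rfl | rfl | rfl
      · left; omega
      · exfalso; rw [hk] at hdvd; norm_num at hdvd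
      · right; omega
    rcases hr' with h7 | h21
    · right
      have hmem : ∀ g, θ g ∈ Cfsg.affineGroup (GaloisField 2 3) := by
        intro g
        obtain ⟨v, h, hh, rfl⟩ := hdec g
        obtain ⟨a, σ, ha⟩ := hsl h
        refine ⟨Units.mk0 a (ha0 h a σ ha), e v, fun x => ?_⟩
        rw [map_mul, Equiv.Perm.mul_apply, hθQ, hθH h hh, ha, e.apply_symm_apply, Units.val_mk0]
        congr 2
        -- the field automorphism is trivial
        have hiter : ∀ k : ℕ, ∃ c : GaloisField 2 3, ∀ w, e ((act h ^ k) w) = c * (σ ^ k) (e w) := by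
          intro k
          induction k with
          | zero => exact ⟨1, fun w => by simp⟩
          | succ k ih =>
            obtain ⟨c, hc⟩ := ih
            refine ⟨a * σ c, fun w => ?_⟩
            rw [pow_succ', Module.End.mul_apply, ha, hc, map_mul, pow_succ', ← mul_assoc]
            rfl
        have h7' : act h ^ 7 = 1 := by
          have h1 : (⟨au h, ⟨QuotientGroup.mk h, Units.ext rfl⟩⟩ : πu.range) ^ 7 = 1 := by
            rw [← h7]; exact pow_card_eq_one'
          exact congrArg (fun x : πu.range => ((x : (Module.End (ZMod 2) V)ˣ) : Module.End (ZMod 2) V)) h1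
        obtain ⟨c, hc⟩ := hiter 7
        rw [h7'] at hc
        have hc1 : c = 1 := by simpa using (hc (e.symm 1)).symm
        have hσ7 : σ ^ 7 = 1 := RingEquiv.ext fun y => by
          have := hc (e.symm y)
          rw [hc1, Module.End.one_apply, e.apply_symm_apply, one_mul] at this
          exact this.symm
        let σ' : GaloisField 2 3 ≃ₐ[ZMod 2] GaloisField 2 3 := AlgEquiv.ofRingEquiv (f := σ) fun r => congrFun (congrArg
          (fun F : ZMod 2 →+* GaloisField 2 3 => (F : ZMod 2 → GaloisField 2 3))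
          (RingHom.ext_zmod (σ.toRingHom.comp (algebraMap (ZMod 2) (GaloisField 2 3))) (algebraMap _ _))) r
        have hpow : ∀ (k : ℕ) y, (σ' ^ k) y = (σ ^ k) y := by
          intro k
          induction k with
          | zero => intro y; rfl
          | succ k ih => intro y; rw [pow_succ', pow_succ', AlgEquiv.mul_apply, ih]; rfl
        have h3 : σ' ^ 3 = 1 := by
          have h1 := pow_card_eq_one' (G := GaloisField 2 3 ≃ₐ[ZMod 2] GaloisField 2 3) (x := σ')
          rwa [IsGalois.card_aut_eq_finrank, GaloisField.finrank _ (by norm_num : 3 ≠ 0)] at h1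
        have h7'' : σ' ^ 7 = 1 := AlgEquiv.ext fun y => by rw [hpow, hσ7]; rfl
        have h0 : σ' = 1 := by
          calc σ' = σ' ^ 7 * ((σ' ^ 3)⁻¹ * (σ' ^ 3)⁻¹) := by group
            _ = 1 := by rw [h7'', h3, inv_one, mul_one, mul_one]
        exact DFunLike.congr_fun h0 x
      let f₂ : ↥N ⧸ O →* ↥(Cfsg.affineGroup (GaloisField 2 3)) :=
        QuotientGroup.lift O (θ.codRestrict _ hmem) fun o ho =>
          MonoidHom.mem_ker.2 (Subtype.ext (MonoidHom.mem_ker.1 (hker.ge ho)))
      have hf₂ : Function.Injective f₂ := by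
        rw [injective_iff_map_eq_one]
        intro x hx
        obtain ⟨g, rfl⟩ := QuotientGroup.mk_surjective x
        exact (QuotientGroup.eq_one_iff g).2 (hker.le (MonoidHom.mem_ker.2 (congrArg Subtype.val hx)))
      refine ⟨MulEquiv.ofBijective f₂ (hf₂.bijective_of_nat_card_le ?_)⟩
      rw [hcardNO, h7]
      exact (card_affine_le 2 3 (by norm_num)).trans (by norm_num)
    · left
      refine ⟨MulEquiv.ofBijective f (hf.bijective_of_nat_card_le ?_)⟩
      rw [hcardNO, h21]
      exact (card_semiaffine_le 2 3 (by norm_num)).trans (by norm_num)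
  · refine Or.inr ⟨rfl, rfl, ⟨MulEquiv.ofBijective f (hf.bijective_of_nat_card_le ?_)⟩⟩
    rw [hG'card rfl] at h155
    rw [hcardNO]
    refine (card_semiaffine_le 2 5 (by norm_num)).trans ?_
    exact Nat.mul_le_mul (le_refl _) ((by norm_num : (2 ^ 5 - 1) * 5 ≤ 155).trans
      (Nat.le_of_dvd Nat.card_pos h155))

end Cfsg.Agent.S4025
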