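import Cfsg.Statements.S4028
import Cfsg.Agent.Lib.Frobenius.Elements

set_option autoImplicit false
open Cfsg
open scoped Pointwise

namespace Cfsg.Agent.S4028

/-- Let G be a finite group with Sylow 2-subgroup P. Then N_G(⟨x⟩) = C_G(x) holds for every 2-element x of G if and only if N_P(⟨y⟩) = C_P(y) holds for every y ∈ P (computed inside P). -/
theorem result {G : Type*} [Group G] [Finite G] (P : Sylow 2 G) :
    (∀ x : G, (∀ r : ℕ, r.Prime → r ∣ orderOf x → r = 2) →
      Subgroup.normalizer ((Subgroup.zpowers x : Subgroup G) : Set G) ≤ Subgroup.centralizer {x}) ↔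
    (∀ y : ↥(P : Subgroup G), Subgroup.normalizer ((Subgroup.zpowers y : Subgroup ↥(P : Subgroup G)) : Set ↥(P : Subgroup G)) ≤
        Subgroup.centralizer {y}) := by
  constructor
  · intro h y z hz
    have hy : ∀ r : ℕ, r.Prime → r ∣ orderOf (y : G) → r = 2 := by
      intro r hr hd
      obtain ⟨a, ha⟩ := IsPGroup.iff_orderOf.mp P.isPGroup' y
      rw [Subgroup.orderOf_coe, ha] at hd
      exact (Nat.prime_dvd_prime_iff_eq hr Nat.prime_two).mp (hr.dvd_of_dvd_pow hd)
    have hzn : (z : G) ∈ Subgroup.normalizer ((Subgroup.zpowers (y : G) : Subgroup G) : Set G) := by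
      rw [Subgroup.mem_normalizer_iff_map_conj_eq] at hz ⊢
      have e := congrArg (Subgroup.map (P : Subgroup G).subtype) hz
      rw [Subgroup.map_map, MonoidHom.map_zpowers, MonoidHom.map_zpowers] at e
      rw [MonoidHom.map_zpowers]
      simpa using e
    have hc := Subgroup.mem_centralizer_singleton_iff.mp (h y hy hzn)
    exact Subgroup.mem_centralizer_singleton_iff.mpr (Subtype.ext hc)
  · intro h x hx n hn
    obtain ⟨a, ha⟩ : ∃ a, orderOf x = 2 ^ a :=
      ⟨_, Nat.eq_prime_pow_of_unique_prime_dvd (orderOf_pos x).ne' fun {d} hd hdd => hx d hd hdd⟩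
    refine CfsgLib.Frobenius.Elements.mem_of_primary fun z hz ⟨q, b, hq, _, hzo⟩ => ?_
    have hzn : z ∈ Subgroup.normalizer ((Subgroup.zpowers x : Subgroup G) : Set G) :=
      Subgroup.zpowers_le.mpr hn hz
    by_cases hq2 : q = 2
    · subst hq2
      have hx2 : IsPGroup 2 ↥(Subgroup.zpowers x) :=
        IsPGroup.iff_card.mpr ⟨a, by rw [Nat.card_zpowers, ha]⟩
      have hz2 : IsPGroup 2 ↥(Subgroup.zpowers z) :=
        IsPGroup.iff_card.mpr ⟨b, by rw [Nat.card_zpowers, hzo]⟩
      obtain ⟨S, hS⟩ :=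
        (hx2.to_sup_of_normal_left' hz2 (Subgroup.zpowers_le.mpr hzn)).exists_le_sylow
      haveI : Fact (Nat.Prime 2) := ⟨Nat.prime_two⟩
      obtain ⟨g, hg⟩ := MulAction.exists_smul_eq G S P
      have hmem : ∀ w ∈ (S : Subgroup G), g * w * g⁻¹ ∈ (P : Subgroup G) := by
        intro w hw
        rw [← hg, Sylow.coe_subgroup_smul]
        exact ⟨w, hw, rfl⟩
      set x' : ↥(P : Subgroup G) :=
        ⟨g * x * g⁻¹, hmem x (hS (Subgroup.mem_sup_left (Subgroup.mem_zpowers x)))⟩ with hx'
      set z' : ↥(P : Subgroup G) :=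
        ⟨g * z * g⁻¹, hmem z (hS (Subgroup.mem_sup_right (Subgroup.mem_zpowers z)))⟩ with hz'
      have hn' : z' ∈ Subgroup.normalizer
          ((Subgroup.zpowers x' : Subgroup ↥(P : Subgroup G)) : Set ↥(P : Subgroup G)) := by
        rw [Subgroup.mem_normalizer_iff_map_conj_eq] at hzn ⊢
        apply Subgroup.map_injective (P : Subgroup G).subtype_injective
        have e := congrArg (Subgroup.map (MulAut.conj g).toMonoidHom) hzn
        rw [Subgroup.map_map, MonoidHom.map_zpowers, MonoidHom.map_zpowers] at e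
        rw [Subgroup.map_map, MonoidHom.map_zpowers, MonoidHom.map_zpowers]
        simpa [hx', hz', mul_assoc] using e
      have hc : g * z * g⁻¹ * (g * x * g⁻¹) = g * x * g⁻¹ * (g * z * g⁻¹) :=
        congrArg Subtype.val (Subgroup.mem_centralizer_singleton_iff.mp (h x' hn'))
      refine Subgroup.mem_centralizer_singleton_iff.mpr ?_
      rw [conj_mul, conj_mul] at hc
      exact mul_left_cancel (mul_right_cancel hc)
    · rw [Subgroup.mem_centralizer_singleton_iff]
      rcases Nat.eq_zero_or_pos a with ha0 | ha0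
      · rw [ha0, pow_zero, orderOf_eq_one_iff] at ha
        rw [ha, mul_one, one_mul]
      obtain ⟨k, hk⟩ : ∃ k : ℤ, x ^ k = z * x * z⁻¹ :=
        Subgroup.mem_zpowers_iff.mp
          ((Subgroup.mem_normalizer_iff.mp hzn x).mp (Subgroup.mem_zpowers x))
      have hiter : ∀ j : ℕ, z ^ j * x * (z ^ j)⁻¹ = x ^ (k ^ j) := by
        intro j
        induction j with
        | zero => simp
        | succ j ih =>
          rw [pow_succ' k, zpow_mul, hk, conj_zpow, ← ih, pow_succ' z]
          group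
      have hdvd : ∀ j : ℤ, x ^ j = x → (2 : ℤ) ^ a ∣ j - 1 := fun j hj => by
        have h2 : x ^ (j - 1) = 1 := by rw [zpow_sub, hj, zpow_one, mul_inv_cancel]
        have h3 := orderOf_dvd_iff_zpow_eq_one.mpr h2
        rw [ha] at h3; exact_mod_cast h3
      have hzb : z ^ q ^ b = 1 := hzo ▸ pow_orderOf_eq_one z
      have hodd : (2 : ℤ) ∣ k - 1 := by
        have h1 : (2 : ℤ) ∣ k ^ q ^ b - 1 :=
          (dvd_pow_self 2 ha0.ne').trans (hdvd _ (by rw [← hiter, hzb]; simp))
        have hk1 : Odd (k ^ q ^ b) := by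
          obtain ⟨c, hc⟩ := h1
          exact ⟨c, by omega⟩
        have hkodd : Odd k :=
          (Int.odd_pow' (pow_ne_zero _ hq.ne_zero)).mp hk1
        obtain ⟨c, hc⟩ := hkodd
        exact ⟨c, by omega⟩
      have hpk : x ^ (k ^ 2 ^ a) = x := by
        have h3 : (2 : ℤ) ^ (a + 1) ∣ k ^ 2 ^ a - 1 := by
          have := dvd_sub_pow_of_dvd_sub (p := 2) (a := k) (b := 1) (by simpa using hodd) a
          rw [one_pow] at this
          exact_mod_cast this
        have h4 : x ^ (k ^ 2 ^ a - 1) = 1 := orderOf_dvd_iff_zpow_eq_one.mp (by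
          rw [ha]; push_cast; exact (pow_dvd_pow _ (Nat.le_succ a)).trans h3)
        rwa [zpow_sub, zpow_one, mul_inv_eq_one] at h4
      have hcomm : Commute (z ^ 2 ^ a) x := mul_inv_eq_iff_eq_mul.mp ((hiter _).trans hpk)
      obtain ⟨j, hj⟩ := exists_pow_eq_self_of_coprime (x := z) (n := 2 ^ a) (by
        rw [hzo]; exact ((Nat.coprime_primes Nat.prime_two hq).mpr (Ne.symm hq2)).pow a b)
      exact (hj ▸ hcomm.pow_left j).eq

end Cfsg.Agent.S4028
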