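import Cfsg.Statements.S4029
import Cfsg.Agent.Lib.Char.Perm
import Cfsg.Agent.Lib.Char.Linear
import Cfsg.Agent.Lib.PGroup.Frattini

set_option autoImplicit false
open Cfsg

namespace Cfsg.Agent.S4029

theorem mem_normalizer_zpowers {G : Type*} [Group G] [Finite G] (c g : G)
    (h : c * g * c⁻¹ ∈ Subgroup.zpowers g) :
    c ∈ Subgroup.normalizer ((Subgroup.zpowers g : Subgroup G) : Set G) := by
  refine Subgroup.mem_normalizer_iff_map_conj_eq.2 (Subgroup.eq_of_le_of_card_ge ?_ ?_)
  · rintro _ ⟨x, ⟨i, rfl⟩, rfl⟩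
    show c * g ^ i * c⁻¹ ∈ _
    rw [← conj_zpow]
    exact zpow_mem h i
  · exact (Subgroup.card_map_of_injective (MulAut.conj c).injective).ge

/-- Let P be a finite 2-group in which N_P(⟨y⟩) = C_P(y) for every y ∈ P. If s is the number of conjugacy classes of involutions of P, then #(P/Φ(P)) ≤ s + 1; in particular the subgroup generated by the involutions of P has order at least #(P/Φ(P)). -/
theorem result {P : Type*} [Group P] [Finite P] (hP : IsPGroup 2 P)
    (hirr : ∀ y : P, Subgroup.normalizer ((Subgroup.zpowers y : Subgroup P) : Set P) ≤ Subgroup.centralizer {y}) :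
    Nat.card (P ⧸ frattini P) ≤ Nat.card {c : ConjClasses P // ∃ y : P, ConjClasses.mk y = c ∧ orderOf y = 2} + 1 ∧
    Nat.card (P ⧸ frattini P) ≤ Nat.card (Subgroup.closure {y : P | orderOf y = 2}) := by
  classical
  cases nonempty_fintype P
  have : Fact (Nat.Prime 2) := ⟨Nat.prime_two⟩
  set I := {c : ConjClasses P // ∃ y : P, ConjClasses.mk y = c ∧ orderOf y = 2}
  -- real classes consist of involutions
  have hreal : ∀ g : P, IsConj g g⁻¹ → g ^ 2 = 1 := by
    intro g hg
    obtain ⟨c, hc⟩ := isConj_iff.1 hg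
    have hn : c ∈ Subgroup.normalizer ((Subgroup.zpowers g : Subgroup P) : Set P) := by
      refine mem_normalizer_zpowers c g ?_
      exact ⟨-1, by simp [hc]⟩
    have h := Subgroup.mem_centralizer_singleton_iff.1 (hirr g hn)
    rw [h, mul_inv_cancel_right] at hc
    rw [sq]
    exact mul_eq_one_iff_eq_inv.2 hc
  have hord : ∀ g : P, g ^ 2 = 1 → g ≠ 1 → orderOf g = 2 := fun g h h1 => orderOf_eq_prime h h1
  set R := {C : ConjClasses P // ∀ g : P, ConjClasses.mk g = C → IsConj g g⁻¹}
  have hR : ∀ C : R, C.1 ≠ ConjClasses.mk 1 → ∃ y : P, ConjClasses.mk y = C.1 ∧ orderOf y = 2 := by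
    intro C hC
    obtain ⟨g, hg⟩ := ConjClasses.exists_rep C.1
    exact ⟨g, hg, hord g (hreal g (C.2 g hg)) (fun e => hC (by rw [← hg, e]))⟩
  have h1 : Nat.card (P ⧸ frattini P) ≤ Nat.card R := by
    rw [← CfsgLib.Char.card_real_irr (G := P)]
    let _ : CommGroup (P ⧸ frattini P) :=
      { (inferInstance : Group (P ⧸ frattini P)) with
        mul_comm := CfsgLib.PGroup.Frattini.quotient_mul_comm hP }
    have : NeZero (Monoid.exponent (P ⧸ frattini P) : ℂ) :=
      ⟨by exact_mod_cast Monoid.exponent_ne_zero_of_finite⟩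
    rw [← CommGroup.card_monoidHom_of_hasEnoughRootsOfUnity (P ⧸ frattini P) ℂ]
    refine Nat.card_le_card_of_injective (fun φ => ⟨⟨_, CfsgLib.Char.isIrrCharacter_hom
      (φ.comp (QuotientGroup.mk' (frattini P)))⟩, fun g => ?_⟩) (fun φ ψ h => ?_)
    · have h2 : ((φ (QuotientGroup.mk' (frattini P) g) : ℂˣ) : ℂ) *
          (φ (QuotientGroup.mk' (frattini P) g) : ℂˣ) = 1 := by
        rw [← Units.val_mul, ← map_mul, ← sq, CfsgLib.PGroup.Frattini.quotient_pow_eq_one hP,
          map_one, Units.val_one]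
      show (((φ (QuotientGroup.mk' (frattini P) g) : ℂˣ) : ℂ)).im = 0
      rcases mul_self_eq_one_iff.1 h2 with e | e <;> rw [e] <;> simp
    · have h' := CfsgLib.Char.coe_hom_injective
        (congrArg (fun x => ((x.1 : Cfsg.IrrCharacter P) : P → ℂ)) h)
      refine MonoidHom.ext fun x => ?_
      obtain ⟨x, rfl⟩ := QuotientGroup.mk'_surjective _ x
      exact DFunLike.congr_fun h' x
  have h2 : Nat.card R ≤ Nat.card (Option I) := by
    refine Nat.card_le_card_of_injective
      (fun C => if h : C.1 = ConjClasses.mk 1 then none else some ⟨C.1, hR C h⟩) (fun C D h => ?_)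
    refine Subtype.ext ?_
    dsimp only at h
    split_ifs at h with hC hD
    · rw [hC, hD]
    · exact Subtype.mk.inj (Option.some.inj h)
  have h3 : Nat.card R ≤ Nat.card I + 1 := by rwa [Finite.card_option] at h2
  refine ⟨h1.trans h3, h1.trans (h2.trans ?_)⟩
  refine Nat.card_le_card_of_injective
    (fun o => o.elim (1 : Subgroup.closure {y : P | orderOf y = 2})
      (fun c => ⟨c.2.choose, Subgroup.subset_closure c.2.choose_spec.2⟩)) ?_
  have hne : ∀ c : I, c.2.choose ≠ 1 := fun c e => by
    have := c.2.choose_spec.2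
    rw [e, orderOf_one] at this
    omega
  rintro (_ | c) (_ | d) h <;> simp only [Option.elim, Subtype.ext_iff, Subgroup.coe_one] at h
  · rfl
  · exact absurd h.symm (hne d)
  · exact absurd h (hne c)
  · exact congrArg some (Subtype.ext (c.2.choose_spec.1.symm.trans
      ((congrArg ConjClasses.mk h).trans d.2.choose_spec.1)))

end Cfsg.Agent.S4029
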