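import Cfsg.Statements.S4032
import Cfsg.Agent.Lib.Coprime.SchurZassenhaus
import Cfsg.Agent.Lib.Coprime.Action

set_option autoImplicit false
open Cfsg

namespace Cfsg.Agent.S4032

/-- Let π be a set of primes and G a finite group in which N_G(⟨x⟩) = C_G(x) for every π-element x. If N is a normal subgroup of G whose order is divisible by no prime of π, then G/N has the same property: N_{G/N}(⟨y⟩) = C_{G/N}(y) for every π-element y of G/N. -/
theorem result {G : Type*} [Group G] [Finite G] (π : Set ℕ)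
    (hirr : ∀ x : G, (∀ r : ℕ, r.Prime → r ∣ orderOf x → r ∈ π) →
      Subgroup.normalizer ((Subgroup.zpowers x : Subgroup G) : Set G) ≤ Subgroup.centralizer {x})
    (N : Subgroup G) [N.Normal] (hN : ∀ r : ℕ, r.Prime → r ∣ Nat.card N → r ∉ π) :
    ∀ y : G ⧸ N, (∀ r : ℕ, r.Prime → r ∣ orderOf y → r ∈ π) →
      Subgroup.normalizer ((Subgroup.zpowers y : Subgroup (G ⧸ N)) : Set (G ⧸ N)) ≤ Subgroup.centralizer {y} := by
  intro y hy m hm
  classical
  have hex : ∃ n : ℕ, ∃ x : G, (x : G ⧸ N) = y ∧ orderOf x = n := by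
    obtain ⟨x, hx⟩ := QuotientGroup.mk_surjective y
    exact ⟨_, x, hx, rfl⟩
  obtain ⟨x, hxy, hxn⟩ := Nat.find_spec hex
  have hxπ : ∀ r : ℕ, r.Prime → r ∣ orderOf x → r ∈ π := by
    intro r hr hd
    by_contra hrπ
    have hcop : r.Coprime (orderOf y) :=
      hr.coprime_iff_not_dvd.mpr fun hd' => hrπ (hy r hr hd')
    obtain ⟨k, hk⟩ := exists_pow_eq_self_of_coprime (x := y) hcop
    have hlt : orderOf (x ^ (r * k)) < orderOf x := by
      have h1 : (x ^ (r * k)) ^ (orderOf x / r) = 1 := by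
        rw [← pow_mul, show r * k * (orderOf x / r) = orderOf x * k by
          rw [mul_right_comm, Nat.mul_div_cancel' hd], pow_mul, pow_orderOf_eq_one, one_pow]
      have hpos : 0 < orderOf x / r :=
        Nat.div_pos (Nat.le_of_dvd (orderOf_pos x) hd) hr.pos
      exact (Nat.le_of_dvd hpos (orderOf_dvd_of_pow_eq_one h1)).trans_lt
        (Nat.div_lt_self (orderOf_pos x) hr.one_lt)
    exact (Nat.find_min' hex ⟨x ^ (r * k), by rw [QuotientGroup.mk_pow, hxy, pow_mul, hk], rfl⟩).not_gt
      (hxn ▸ hlt)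
  obtain ⟨g, rfl⟩ := QuotientGroup.mk_surjective m
  subst hxy
  set A := Subgroup.zpowers x
  set B := A.map (MulAut.conj g).toMonoidHom with hB
  have hcop : (Nat.card N).Coprime (Nat.card A) := by
    refine Nat.coprime_of_dvd fun r hr h1 h2 => hN r hr h1 (hxπ r hr ?_)
    rwa [Nat.card_zpowers] at h2
  have hcard : Nat.card B = Nat.card A := CfsgLib.Coprime.card_conj_map _ _
  have hle : B ≤ N ⊔ A := by
    have hxg : g * x * g⁻¹ ∈ N ⊔ A := by
      obtain ⟨i, hi⟩ := Subgroup.mem_zpowers_iff.mp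
        ((Subgroup.mem_normalizer_iff.mp hm _).mp (Subgroup.mem_zpowers (x : G ⧸ N)))
      have h1 : g * x * g⁻¹ * (x ^ i)⁻¹ ∈ N := by
        rw [← QuotientGroup.eq_one_iff, QuotientGroup.mk_mul, QuotientGroup.mk_mul,
          QuotientGroup.mk_mul, QuotientGroup.mk_inv, QuotientGroup.mk_inv, QuotientGroup.mk_zpow,
          hi, mul_inv_cancel]
      have h2 := Subgroup.mul_mem_sup (S := N) (T := A) h1 (zpow_mem (Subgroup.mem_zpowers x) i)
      rwa [inv_mul_cancel_right] at h2
    rw [hB, MonoidHom.map_zpowers, Subgroup.zpowers_le]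
    exact hxg
  obtain ⟨n, hn, he⟩ := CfsgLib.Coprime.exists_conj_eq (N := N) (H := B) (K := A)
    (Or.inr (by rw [hB, MonoidHom.map_zpowers]; exact CfsgLib.Coprime.isSolvable_zpowers _))
    (le_top.trans_eq (Subgroup.normalizer_eq_top_iff.mpr inferInstance).symm)
    (le_top.trans_eq (Subgroup.normalizer_eq_top_iff.mpr inferInstance).symm)
    hle hcard (hcard ▸ hcop)
  have hng : n * g ∈ Subgroup.normalizer (A : Set G) := by
    refine Subgroup.mem_normalizer_iff_map_conj_eq.mpr ?_
    rw [hB, Subgroup.map_map] at he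
    convert he using 2
    ext z; simp [mul_assoc]
  have hc := Subgroup.mem_centralizer_singleton_iff.mp (hirr x hxπ hng)
  have := congrArg (QuotientGroup.mk (s := N)) hc
  simp only [QuotientGroup.mk_mul, (QuotientGroup.eq_one_iff n).mpr hn, one_mul] at this
  exact Subgroup.mem_centralizer_singleton_iff.mpr this

end Cfsg.Agent.S4032
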