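import Cfsg.Statements.S4033
import Cfsg.Agent.Lib.ClassSize.TwoReg.One
import Cfsg.Agent.Lib.Char.Integral

set_option autoImplicit false
open Cfsg

namespace Cfsg.Agent.S4033

/-- Let G be a finite group and p a prime, and suppose the conjugacy classes of p-regular elements of G (elements of order prime to p) have exactly two distinct sizes. Then either G has an abelian p-complement (an abelian subgroup of order prime to p and p-power index), or there are a prime q ≠ p, a Sylow p-subgroup P, a Sylow q-subgroup Q and a central subgroup A such that PQ is a normal subgroup of order #P·#Q and G is the internal direct product PQ × A. -/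
theorem result {G : Type*} [Group G] [Finite G] {p : ℕ} (hp : p.Prime)
    (h2 : Set.ncard (Set.range fun x : {x : G // (orderOf x).Coprime p} => (ConjClasses.mk (x : G)).carrier.ncard) = 2) :
    (∃ H : Subgroup G, IsMulCommutative H ∧ ¬ p ∣ Nat.card H ∧ ∃ k : ℕ, H.index = p ^ k) ∨
    (∃ (q : ℕ) (_ : Fact q.Prime) (P : Sylow p G) (Q : Sylow q G) (A : Subgroup G), q ≠ p ∧
        A ≤ Subgroup.center G ∧ Nat.card ↥((P : Subgroup G) ⊔ (Q : Subgroup G)) = Nat.card P * Nat.card Q ∧
        ((P : Subgroup G) ⊔ (Q : Subgroup G)).Normal ∧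
        ((P : Subgroup G) ⊔ (Q : Subgroup G)) ⊓ A = ⊥ ∧ ((P : Subgroup G) ⊔ (Q : Subgroup G)) ⊔ A = ⊤) := by
  classical
  have hidx : ∀ x : G, (ConjClasses.mk x).carrier.ncard =
      (Subgroup.centralizer ({x} : Set G)).index := fun x => by
    rw [← CfsgLib.Char.card_isConj_eq_index, ← Nat.card_coe_set_eq]
    refine Nat.card_congr (Equiv.subtypeEquivRight fun y => ?_)
    exact ConjClasses.mem_carrier_iff_mk_eq.trans ConjClasses.mk_eq_mk_iff_isConj
  have hcen : ∀ x : G, (Subgroup.centralizer ({x} : Set G)).index = 1 ↔ x ∈ Subgroup.center G := by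
    intro x
    rw [Subgroup.index_eq_one, Subgroup.centralizer_eq_top_iff_subset, Set.singleton_subset_iff,
      SetLike.mem_coe]
  obtain ⟨a, b, hab, hr⟩ := Set.ncard_eq_two.mp h2
  let f := fun x : {x : G // (orderOf x).Coprime p} => (ConjClasses.mk (x : G)).carrier.ncard
  have hval : ∀ x : {x : G // (orderOf x).Coprime p}, f x = a ∨ f x = b := fun x => by
    have : f x ∈ ({a, b} : Set ℕ) := hr ▸ Set.mem_range_self x
    exact this
  have hone : 1 = a ∨ 1 = b := by
    rcases hval ⟨1, by rw [orderOf_one]; exact Nat.coprime_one_left p⟩ with e | e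
    · left; rw [← e]; exact ((hidx 1).trans ((hcen 1).mpr (one_mem _))).symm
    · right; rw [← e]; exact ((hidx 1).trans ((hcen 1).mpr (one_mem _))).symm
  have htwo : CfsgLib.ClassSize.TwoReg.Two G p := by
    refine ⟨hp, fun x y hx hy hx' hy' => ?_⟩
    have key : ∀ z : {x : G // (orderOf x).Coprime p}, (z : G) ∉ Subgroup.center G → f z ≠ 1 :=
      fun z hz e => hz ((hcen z).mp ((hidx z).symm.trans e))
    have he : f ⟨x, hx⟩ = f ⟨y, hy⟩ := by
      have k1 := key ⟨x, hx⟩ hx'
      have k2 := key ⟨y, hy⟩ hy'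
      rcases hval ⟨x, hx⟩ with e1 | e1 <;> rcases hval ⟨y, hy⟩ with e2 | e2 <;> omega
    simp only [f, hidx] at he
    have h3 := (Subgroup.centralizer ({x} : Set G)).card_mul_index
    rw [← (Subgroup.centralizer ({y} : Set G)).card_mul_index, he] at h3
    exact Nat.eq_of_mul_eq_mul_right (Nat.pos_of_ne_zero Subgroup.index_ne_zero_of_finite) h3
  obtain ⟨x, hx, hx'⟩ : ∃ x : G, (orderOf x).Coprime p ∧ x ∉ Subgroup.center G := by
    by_contra hcon
    push Not at hcon
    have h1 : ∀ c ∈ ({a, b} : Set ℕ), c = 1 := fun c hc => by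
      rw [← hr] at hc
      obtain ⟨z, rfl⟩ := hc
      exact (hidx z).trans ((hcen z).mpr (hcon z z.2))
    exact hab ((h1 a (Set.mem_insert _ _)).trans (h1 b (Set.mem_insert_of_mem _ rfl)).symm)
  obtain ⟨q, hq, hqp, n, hn, hn'⟩ := CfsgLib.ClassSize.TwoReg.exists_part hp hx hx'
  by_cases hone' : ∀ r, r.Prime → r ≠ p → r ≠ q → ∀ x : G, CfsgLib.ClassSize.TwoReg.IsQ r x →
      x ∈ Subgroup.center G
  · exact Or.inr (CfsgLib.ClassSize.TwoReg.single hp hq hqp hone')
  · push Not at hone'
    obtain ⟨r, hr1, hr2, hr3, y, hy, hy'⟩ := hone'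
    exact Or.inl (CfsgLib.ClassSize.TwoReg.Two2.complement
      { toTwo := htwo, two := ⟨q, r, ⟨hq, hqp, _, hn, hn'⟩, ⟨hr1, hr2, y, hy, hy'⟩, hr3.symm⟩ })

end Cfsg.Agent.S4033
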