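import Cfsg.Statements.S4034
import Cfsg.Agent.S0143
import Cfsg.Agent.Lib.Solvable.Schmidt
import Cfsg.Agent.Lib.Solvable.Hall
import Cfsg.Agent.Lib.Solvable.Cores
import Cfsg.Agent.Lib.Solvable.Basic
import Cfsg.Agent.Lib.Coprime.SchurZassenhaus
import Cfsg.Agent.Lib.Char.Orth

set_option autoImplicit false
open Cfsg
open scoped Pointwise commutatorElement

namespace Cfsg.Agent.S4034

universe u

theorem ncard_carrier {G : Type*} [Group G] [Finite G] (x : G) :
    (ConjClasses.mk x).carrier.ncard = (Subgroup.centralizer ({x} : Set G)).index := by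
  have h1 := CfsgLib.Char.card_conjugates_mul x
  have h2 := (Subgroup.centralizer ({x} : Set G)).index_mul_card
  have h3 : (ConjClasses.mk x).carrier.ncard = Nat.card {g : G // IsConj g x} := by
    rw [← Nat.card_coe_set_eq]
    exact Nat.card_congr (Equiv.subtypeEquivRight fun g => by
      rw [ConjClasses.mem_carrier_iff_mk_eq, ConjClasses.mk_eq_mk_iff_isConj])
  rw [h3]
  exact Nat.eq_of_mul_eq_mul_right Nat.card_pos (h1.trans h2.symm)

theorem relIndex_dvd_index {G : Type*} [Group G] [Finite G] (C N : Subgroup G) [N.Normal] :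
    C.relIndex N ∣ C.index := by
  refine Dvd.dvd.trans ?_ (Dvd.intro _ (Subgroup.relIndex_mul_index (le_sup_left : C ≤ C ⊔ N)))
  have h1 := CfsgLib.Coprime.card_mul_relIndex' (inf_le_right : C ⊓ N ≤ N)
  have h2 := CfsgLib.Coprime.card_mul_relIndex' (inf_le_left : C ⊓ N ≤ C)
  have h3 := CfsgLib.Coprime.card_mul_relIndex' (le_sup_left : C ≤ C ⊔ N)
  have h4 := CfsgLib.Coprime.card_mul_relIndex' (le_sup_right : N ≤ C ⊔ N)
  rw [Subgroup.inf_relIndex_right] at h1
  rw [Subgroup.inf_relIndex_left] at h2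
  rw [Subgroup.relIndex_sup_right, ← h1, mul_assoc] at h4
  rw [← h2, mul_assoc, ← h4] at h3
  have h5 := Nat.eq_of_mul_eq_mul_left Nat.card_pos h3
  rw [mul_comm (C.relIndex N)] at h5
  exact (Nat.eq_of_mul_eq_mul_left (Nat.pos_of_ne_zero Subgroup.index_ne_zero_of_finite) h5).symm.dvd

theorem descend_normal {G : Type*} [Group G] [Finite G] {p : ℕ} (hp : p.Prime)
    (h : ∀ x : G, (orderOf x).Coprime p → ∃ k, (Subgroup.centralizer ({x} : Set G)).index = p ^ k)
    (N : Subgroup G) [N.Normal] (x : N) (hx : (orderOf x).Coprime p) :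
    ∃ k, (Subgroup.centralizer ({x} : Set N)).index = p ^ k := by
  obtain ⟨k, hk⟩ := h x (by rwa [Subgroup.orderOf_coe])
  have e : Subgroup.centralizer ({x} : Set N) =
      (Subgroup.centralizer ({(x : G)} : Set G)).subgroupOf N := by
    ext y
    simp [Subgroup.mem_centralizer_singleton_iff, Subgroup.mem_subgroupOf, Subtype.ext_iff]
  have h1 := relIndex_dvd_index (Subgroup.centralizer ({(x : G)} : Set G)) N
  rw [Subgroup.relIndex, ← e, hk] at h1
  obtain ⟨j, -, hj⟩ := (Nat.dvd_prime_pow hp).1 h1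
  exact ⟨j, hj⟩

theorem descend_quotient {G : Type*} [Group G] [Finite G] {p : ℕ} (hp : p.Prime)
    (h : ∀ x : G, (orderOf x).Coprime p → ∃ k, (Subgroup.centralizer ({x} : Set G)).index = p ^ k)
    (N : Subgroup G) [N.Normal] (y : G ⧸ N) (hy : (orderOf y).Coprime p) :
    ∃ k, (Subgroup.centralizer ({y} : Set (G ⧸ N))).index = p ^ k := by
  obtain ⟨x, rfl⟩ := QuotientGroup.mk'_surjective N y
  set f := QuotientGroup.mk' N
  set o := orderOf x
  set a := o.factorization p
  have hpa : (p ^ a).Coprime (orderOf (f x)) := Nat.Coprime.pow_left a hy.symm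
  obtain ⟨b, hb⟩ := exists_pow_eq_self_of_coprime hpa
  have hord : (orderOf ((x ^ p ^ a) ^ b)).Coprime p := by
    refine Nat.Coprime.coprime_dvd_left (orderOf_pow_dvd b) ?_
    rw [orderOf_pow' x (pow_ne_zero a hp.ne_zero), Nat.gcd_eq_right (Nat.ordProj_dvd o p)]
    exact (hp.coprime_iff_not_dvd.2 (Nat.not_dvd_ordCompl hp (orderOf_pos x).ne')).symm
  obtain ⟨k, hk⟩ := h _ hord
  have hle : (Subgroup.centralizer ({(x ^ p ^ a) ^ b} : Set G)).map f ≤
      Subgroup.centralizer ({f x} : Set (G ⧸ N)) := by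
    rintro _ ⟨z, hz, rfl⟩
    rw [SetLike.mem_coe, Subgroup.mem_centralizer_singleton_iff] at hz
    have e := congrArg f hz
    rw [map_mul, map_mul, map_pow, map_pow, hb] at e
    exact Subgroup.mem_centralizer_singleton_iff.2 e
  have h1 := (Subgroup.index_dvd_of_le hle).trans
    (Subgroup.index_map_dvd _ (QuotientGroup.mk'_surjective N))
  rw [hk] at h1
  obtain ⟨j, -, hj⟩ := (Nat.dvd_prime_pow hp).1 h1
  exact ⟨j, hj⟩

theorem isSolvable (p : ℕ) (hp : p.Prime) : ∀ (n : ℕ) (G : Type u) [Group G] [Finite G],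
    Nat.card G = n →
    (∀ x : G, (orderOf x).Coprime p → ∃ k, (Subgroup.centralizer ({x} : Set G)).index = p ^ k) →
    Group.IsSolvable G := by
  intro n
  induction n using Nat.strong_induction_on with
  | _ n ih =>
    intro G _ _ hn h
    subst hn
    by_cases hs : IsSimpleGroup G
    · by_cases hpg : IsPGroup p G
      · have : Fact p.Prime := ⟨hp⟩
        have := hpg.isNilpotent
        infer_instance
      have hex : ∃ q, q.Prime ∧ q ∣ Nat.card G ∧ q ≠ p := by
        by_contra hno
        push Not at hno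
        exact hpg (IsPGroup.of_card (n := (Nat.card G).primeFactorsList.length)
          (Nat.eq_prime_pow_of_unique_prime_dvd Nat.card_pos.ne' fun {r} hr hd => hno r hr hd))
      obtain ⟨q, hq, hqd, hqp⟩ := hex
      have := Fact.mk hq
      obtain ⟨x, hx⟩ := exists_prime_orderOf_dvd_card' q hqd
      obtain ⟨k, hk⟩ := h x (by rw [hx]; exact (Nat.coprime_primes hq hp).2 hqp)
      have hprime := Cfsg.Agent.S0143.card_prime p k hp x
        (fun e => hq.ne_one (by rw [← hx, e, orderOf_one])) hk
      have := Fact.mk hprime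
      have := isCyclic_of_prime_card (α := G) rfl
      let _ : CommGroup G := IsCyclic.commGroup
      infer_instance
    · rcases subsingleton_or_nontrivial G with hG | hG
      · infer_instance
      obtain ⟨N, hN, hN0, hN1⟩ : ∃ N : Subgroup G, N.Normal ∧ N ≠ ⊥ ∧ N ≠ ⊤ := by
        by_contra hno
        push Not at hno
        exact hs ⟨fun N hN => or_iff_not_imp_left.mpr fun hb => hno N hN hb⟩
      have hlt : Nat.card N < Nat.card G := lt_of_le_of_ne (Subgroup.card_le_card_group N)
        fun e => hN1 (Subgroup.eq_top_of_card_eq N e)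
      have := ih _ hlt N rfl (descend_normal hp h N)
      have := ih _ (CfsgLib.Solvable.Basic.card_quotient_lt N hN0) (G ⧸ N) rfl (descend_quotient hp h N)
      exact Group.isSolvable_of_ker_le_range N.subtype (QuotientGroup.mk' N)
        (by rw [QuotientGroup.ker_mk', Subgroup.range_subtype])

theorem hall_commutative (p : ℕ) (hp : p.Prime) : ∀ (n : ℕ) (G : Type u) [Group G] [Finite G]
    [Group.IsSolvable G], Nat.card G = n →
    (∀ x : G, (orderOf x).Coprime p → ∃ k, (Subgroup.centralizer ({x} : Set G)).index = p ^ k) →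
    ∀ H : Subgroup G, ¬ p ∣ Nat.card H → (∃ k, H.index = p ^ k) → IsMulCommutative H := by
  intro n
  induction n using Nat.strong_induction_on with
  | _ n ih =>
    intro G _ _ _ hn h H hpH hHi
    subst hn
    have : Fact p.Prime := ⟨hp⟩
    rcases subsingleton_or_nontrivial G with hG | hG
    · exact ⟨⟨fun a b => Subsingleton.elim _ _⟩⟩
    have hHreg : ∀ x ∈ H, (orderOf x).Coprime p := fun x hx =>
      ((hp.coprime_iff_not_dvd.2 hpH).coprime_dvd_right (Subgroup.orderOf_dvd_natCard H hx)).symm
    -- commutators of `H` lie in every non-trivial normal subgroup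
    have hcomm : ∀ M : Subgroup G, M.Normal → M ≠ ⊥ → ∀ a ∈ H, ∀ b ∈ H, ⁅a, b⁆ ∈ M := by
      intro M hM hM0 a ha b hb
      have hab := ih _ (CfsgLib.Solvable.Basic.card_quotient_lt M hM0) (G ⧸ M) rfl
        (descend_quotient hp h M) (H.map (QuotientGroup.mk' M))
        (fun hd => hpH (hd.trans (Subgroup.card_map_dvd H _)))
        (by
          obtain ⟨k, hk⟩ := hHi
          have h1 := Subgroup.index_map_dvd H (QuotientGroup.mk'_surjective M)
          rw [hk] at h1
          obtain ⟨j, -, hj⟩ := (Nat.dvd_prime_pow hp).1 h1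
          exact ⟨j, hj⟩)
      rw [← QuotientGroup.eq_one_iff (N := M), ← QuotientGroup.mk'_apply, map_commutatorElement,
        commutatorElement_eq_one_iff_mul_comm]
      exact setLike_mul_comm (Subgroup.mem_map_of_mem _ ha) (Subgroup.mem_map_of_mem _ hb)
    have hdone : (∀ a ∈ H, ∀ b ∈ H, ⁅a, b⁆ = 1) → IsMulCommutative H := fun hh =>
      ⟨⟨fun a b => Subtype.ext (commutatorElement_eq_one_iff_mul_comm.1 (hh a a.2 b b.2))⟩⟩
    by_cases hpc : Cfsg.pCore p G = ⊥
    swap
    · refine hdone fun a ha b hb => ?_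
      have hz := hcomm _ inferInstance hpc a ha b hb
      have hzH : ⁅a, b⁆ ∈ H := mul_mem (mul_mem (mul_mem ha hb) (inv_mem ha)) (inv_mem hb)
      obtain ⟨k, hk⟩ := IsPGroup.iff_card.1 (CfsgLib.Solvable.Cores.isPGroup_pCore (G := G) p)
      have h1 := Subgroup.orderOf_dvd_natCard _ hz
      rw [hk] at h1
      exact orderOf_eq_one_iff.1 (Nat.eq_one_of_dvd_coprimes
        (Nat.Coprime.pow_left k (hp.coprime_iff_not_dvd.2 hpH)) h1
        (Subgroup.orderOf_dvd_natCard H hzH))
    obtain ⟨M, r, hr, hMn, hM0, -, -, hMr, -⟩ :=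
      CfsgLib.Solvable.Basic.exists_minimal_normal_pgroup (G := G) (H := ⊤) top_ne_bot
    have : Fact r.Prime := ⟨hr⟩
    have hrp : r ≠ p := by
      rintro rfl
      exact hM0 (le_bot_iff.1 (hpc ▸ CfsgLib.Solvable.Cores.le_pCore hMr))
    by_cases hq : ∃ q, q.Prime ∧ q ≠ r ∧ Cfsg.pCore q G ≠ ⊥
    · obtain ⟨q, hq, hqr, hqc⟩ := hq
      have : Fact q.Prime := ⟨hq⟩
      refine hdone fun a ha b hb => ?_
      obtain ⟨i, hi⟩ := IsPGroup.iff_card.1 (CfsgLib.Solvable.Cores.isPGroup_pCore (G := G) q)
      obtain ⟨j, hj⟩ := IsPGroup.iff_card.1 hMr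
      have h1 := Subgroup.orderOf_dvd_natCard _ (hcomm _ inferInstance hqc a ha b hb)
      have h2 := Subgroup.orderOf_dvd_natCard _ (hcomm M hMn hM0 a ha b hb)
      rw [hi] at h1
      rw [hj] at h2
      exact orderOf_eq_one_iff.1 (Nat.eq_one_of_dvd_coprimes
        (Nat.Coprime.pow i j ((Nat.coprime_primes hq hr).2 hqr)) h1 h2)
    push Not at hq
    -- the Fitting subgroup is an `r`-group
    set F := Cfsg.fittingSubgroup G with hFdef
    have hFr : IsPGroup r F := by
      have : F ≤ Cfsg.pCore r G := by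
        rw [hFdef, CfsgLib.Solvable.Cores.fittingSubgroup_eq_iSup_pCore]
        refine iSup_le fun q => ?_
        by_cases hqr : (q : ℕ) = r
        · rw [hqr]
        · rw [hq _ q.2 hqr]; exact bot_le
      exact (CfsgLib.Solvable.Cores.isPGroup_pCore (G := G) r).to_le this
    obtain ⟨i, hi⟩ := IsPGroup.iff_card.1 hFr
    have hcentF : ∀ x ∈ H, x ∈ F := by
      intro x hx
      refine CfsgLib.Solvable.Cores.centralizer_fittingSubgroup_le
        (Subgroup.mem_centralizer_iff.2 fun f hf => ?_)
      obtain ⟨k, hk⟩ := h x (hHreg x hx)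
      have h1 := relIndex_dvd_index (Subgroup.centralizer ({x} : Set G)) F
      rw [hk] at h1
      have h2 : (Subgroup.centralizer ({x} : Set G)).relIndex F ∣ r ^ i :=
        hi ▸ Subgroup.index_dvd_card _
      exact Subgroup.mem_centralizer_singleton_iff.1 (Subgroup.relIndex_eq_one.1
        (Nat.eq_one_of_dvd_coprimes (Nat.Coprime.pow i k ((Nat.coprime_primes hr hp).2 hrp)) h2 h1) hf)
    refine ⟨⟨fun a b => Subtype.ext ?_⟩⟩
    show (a : G) * b = b * a
    obtain ⟨k, hk⟩ := h a (hHreg a a.2)
    have h1 := relIndex_dvd_index (Subgroup.centralizer ({(a : G)} : Set G)) F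
    rw [hk] at h1
    have h2 : (Subgroup.centralizer ({(a : G)} : Set G)).relIndex F ∣ r ^ i :=
      hi ▸ Subgroup.index_dvd_card _
    exact (Subgroup.mem_centralizer_singleton_iff.1 (Subgroup.relIndex_eq_one.1
      (Nat.eq_one_of_dvd_coprimes (Nat.Coprime.pow i k ((Nat.coprime_primes hr hp).2 hrp)) h2 h1)
      (hcentF b b.2))).symm

/-- Let G be a finite group and p a prime. Every conjugacy class of p-regular elements of G (elements of order prime to p) has p-power size if and only if G has an abelian p-complement, i.e. an abelian subgroup of order prime to p and p-power index. -/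
theorem result {G : Type*} [Group G] [Finite G] {p : ℕ} (hp : p.Prime) :
    (∀ x : G, (orderOf x).Coprime p → ∃ k : ℕ, (ConjClasses.mk x).carrier.ncard = p ^ k) ↔
    (∃ H : Subgroup G, IsMulCommutative H ∧ ¬ p ∣ Nat.card H ∧ ∃ k : ℕ, H.index = p ^ k) := by
  classical
  have : Fact p.Prime := ⟨hp⟩
  constructor
  · intro h
    have h' : ∀ x : G, (orderOf x).Coprime p →
        ∃ k, (Subgroup.centralizer ({x} : Set G)).index = p ^ k := fun x hx => by
      obtain ⟨k, hk⟩ := h x hx
      exact ⟨k, (ncard_carrier x).symm.trans hk⟩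
    have := isSolvable p hp _ G rfl h'
    have hsplit : Nat.card G = (Nat.card G / p ^ (Nat.card G).factorization p) *
        p ^ (Nat.card G).factorization p := (Nat.div_mul_cancel (Nat.ordProj_dvd _ p)).symm
    have hndvd := Nat.not_dvd_ordCompl hp (Nat.card_pos (α := G)).ne'
    obtain ⟨H, hH⟩ := CfsgLib.Solvable.Hall.exists_card_eq hsplit
      (Nat.Coprime.pow_right _ (hp.coprime_iff_not_dvd.2 hndvd).symm)
    have hk : H.index = p ^ (Nat.card G).factorization p := by
      have h1 := H.card_mul_index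
      rw [hH] at h1
      exact Nat.eq_of_mul_eq_mul_left (Nat.pos_of_ne_zero fun h0 => hndvd (by rw [h0]; exact dvd_zero p))
        (h1.trans hsplit)
    exact ⟨H, hall_commutative p hp _ G rfl h' H (hH ▸ hndvd) ⟨_, hk⟩, hH ▸ hndvd, _, hk⟩
  · rintro ⟨H, hab, hpH, k, hk⟩ x hx
    rw [ncard_carrier]
    have : Group.IsNilpotent H := by
      let _ : CommGroup H :=
        { (inferInstance : Group H) with mul_comm := fun a b => hab.is_comm.comm a b }
      exact CommGroup.isNilpotent
    have hcop : (Nat.card H).Coprime H.index := by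
      rw [hk]; exact Nat.Coprime.pow_right k (hp.coprime_iff_not_dvd.2 hpH).symm
    obtain ⟨g, hg⟩ := CfsgLib.Solvable.Schmidt.nilpotent_hall (H := H) this hcop (Subgroup.zpowers x)
      (fun q hq hqd => by
        rw [Nat.card_zpowers] at hqd
        have h1 := hqd.trans (orderOf_dvd_natCard x)
        rw [← H.card_mul_index, hk] at h1
        refine (hq.dvd_mul.1 h1).resolve_right fun h2 => ?_
        have := (Nat.prime_dvd_prime_iff_eq hq hp).1 (hq.dvd_of_dvd_pow h2)
        subst this
        exact hq.not_dvd_one (hx ▸ Nat.dvd_gcd hqd dvd_rfl))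
    have hxg := hg (Subgroup.mem_zpowers x)
    have hle : MulAut.conj g • H ≤ Subgroup.centralizer ({x} : Set G) := fun y hy => by
      rw [Subgroup.mem_centralizer_singleton_iff]
      rw [Subgroup.mem_pointwise_smul_iff_inv_smul_mem] at hy hxg
      have h1 := setLike_mul_comm (s := H) hy hxg
      rw [← smul_mul', ← smul_mul'] at h1
      exact smul_left_cancel _ h1
    have h2 := Subgroup.index_dvd_of_le hle
    have h3 : (MulAut.conj g • H).index = H.index := Subgroup.index_map_equiv H (MulAut.conj g)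
    rw [h3, hk] at h2
    obtain ⟨j, -, hj⟩ := (Nat.dvd_prime_pow hp).1 h2
    exact ⟨j, hj⟩

end Cfsg.Agent.S4034
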