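import Cfsg.Statements.S4036


set_option autoImplicit false
open Cfsg

namespace Cfsg.Agent.S4036

/-- Let P be a finite abelian p-group and K a group of automorphisms of P (a subgroup of Aut P) whose order is divisible by p. If all non-identity elements of K have the same fixed-point subgroup on P, then K has no non-trivial normal subgroup of order prime to p. -/
theorem result {P : Type*} [CommGroup P] [Finite P] {p : ℕ}
    [Fact p.Prime] (hP : IsPGroup p P) (K : Subgroup (MulAut P)) (hK : p ∣ Nat.card K)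
    (hfix : ∀ x y : MulAut P, x ∈ K → y ∈ K → x ≠ 1 → y ≠ 1 → ∀ v : P, x v = v ↔ y v = v) :
    ∀ N : Subgroup ↥K, N.Normal → ¬ p ∣ Nat.card N → N = ⊥ := by
  classical
  intro N hN hpN
  by_contra hne
  haveI := hN
  haveI : Fintype ↥N := Fintype.ofFinite _
  obtain ⟨x, hx⟩ := exists_prime_orderOf_dvd_card' (G := ↥K) p hK
  have hxp : x ^ p = 1 := hx ▸ pow_orderOf_eq_one x
  have hx1 : x ≠ 1 := fun e => by
    rw [e, orderOf_one] at hx; exact (Fact.out : p.Prime).ne_one hx.symm
  let T : P →* P := MonoidHom.mk' (fun v => ∏ n : ↥N, ((n : ↥K) : MulAut P) v)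
    fun a b => by simp [Finset.prod_mul_distrib]
  -- only `1` is both fixed and in the kernel of the norm map
  have hfixT : ∀ v : P, ((x : MulAut P)) v = v → T v = 1 → v = 1 := by
    intro v hv hT
    have hall : ∀ n : ↥N, ((n : ↥K) : MulAut P) v = v := by
      intro n
      by_cases h1 : ((n : ↥K) : MulAut P) = 1
      · rw [h1]; rfl
      · exact (hfix _ _ x.2 (n : ↥K).2 (fun e => hx1 (Subtype.ext e)) h1 v).mp hv
    have h1 : v ^ Nat.card N = 1 := by
      rw [← hT]
      show _ = ∏ n : ↥N, ((n : ↥K) : MulAut P) v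
      rw [Finset.prod_congr rfl fun n _ => hall n, Finset.prod_const, Finset.card_univ,
        Nat.card_eq_fintype_card]
    obtain ⟨a, ha⟩ := IsPGroup.iff_orderOf.mp hP v
    obtain ⟨j, hj⟩ := exists_pow_eq_self_of_coprime (x := v) (n := Nat.card N) (by
      rw [ha]; exact (((Fact.out : p.Prime).coprime_iff_not_dvd.mpr hpN).pow_left a).symm)
    rw [← hj, h1, one_pow]
  obtain ⟨⟨n₀, hn₀⟩, hn1⟩ := Subgroup.ne_bot_iff_exists_ne_one.mp hne
  obtain ⟨v₀, hv₀⟩ : ∃ v, ((n₀ : MulAut P)) v ≠ v := by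
    by_contra hall
    push_neg at hall
    exact hn1 (Subtype.ext (Subtype.ext (MulEquiv.ext hall)))
  -- a non-trivial element of the kernel
  set w := ((n₀ : MulAut P)) v₀ / v₀ with hw
  have hwT : w ∈ T.ker := by
    rw [MonoidHom.mem_ker, hw, map_div, div_eq_one]
    show ∏ n : ↥N, ((n : ↥K) : MulAut P) ((n₀ : MulAut P) v₀) = ∏ n : ↥N, ((n : ↥K) : MulAut P) v₀
    exact Fintype.prod_equiv (Equiv.mulRight (⟨n₀, hn₀⟩ : ↥N)) _ _ fun n => rfl
  have hwne : w ≠ 1 := by rwa [hw, ne_eq, div_eq_one]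
  -- `x` permutes the kernel
  have hTx : ∀ v, T ((x : MulAut P) v) = (x : MulAut P) (T v) := by
    intro v
    show ∏ n : ↥N, ((n : ↥K) : MulAut P) ((x : MulAut P) v) =
      (x : MulAut P) (∏ n : ↥N, ((n : ↥K) : MulAut P) v)
    rw [map_prod]
    refine Fintype.prod_equiv (MulAut.conjNormal x⁻¹).toEquiv _ _ fun n => ?_
    simp [MulAut.conjNormal_apply]
  let σ : Equiv.Perm ↥T.ker := Equiv.subtypeEquiv (x : MulAut P).toEquiv fun v => by
    rw [MonoidHom.mem_ker, MonoidHom.mem_ker]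
    show T v = 1 ↔ T ((x : MulAut P) v) = 1
    rw [hTx, MulEquiv.map_eq_one_iff]
  have hσpow : ∀ (k : ℕ) (v : ↥T.ker), ((σ ^ k) v : P) = ((x ^ k : ↥K) : MulAut P) v := by
    intro k
    induction k with
    | zero => intro v; rfl
    | succ k ih =>
      intro v
      rw [pow_succ', pow_succ']
      show (x : MulAut P) ((σ ^ k) v : P) = _
      rw [ih]
      rfl
  haveI : Fintype ↥T.ker := Fintype.ofFinite _
  have hcard : p ∣ Fintype.card ↥T.ker := by
    obtain ⟨e, he⟩ := IsPGroup.iff_card.mp (hP.to_subgroup T.ker)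
    have h1 : 1 < Nat.card ↥T.ker :=
      Finite.one_lt_card_iff_nontrivial.mpr ⟨⟨⟨w, hwT⟩, 1, fun e => hwne (congrArg Subtype.val e)⟩⟩
    rw [← Nat.card_eq_fintype_card, he]
    exact dvd_pow_self p fun e0 => by rw [he, e0, pow_zero] at h1; omega
  obtain ⟨b, hb, hb1⟩ := Equiv.Perm.exists_fixed_point_of_prime' (p := p) (n := 1) hcard
    (σ := σ) (by
      refine Equiv.ext fun v => Subtype.ext ?_
      rw [hσpow, pow_one, hxp]
      rfl) (a := 1) (Subtype.ext (map_one (x : MulAut P)))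
  exact hb1 (Subtype.ext (hfixT b (congrArg Subtype.val hb) b.2))

end Cfsg.Agent.S4036
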