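import Cfsg.Statements.S4039
import Cfsg.Agent.Lib.Frobenius.NilpotentMaximal
import Cfsg.Agent.Lib.Fusion.Alperin
import Cfsg.Agent.Lib.Frobenius.Elements
import Cfsg.Agent.Lib.Coprime.SchurZassenhaus

set_option autoImplicit false
open Cfsg
open scoped commutatorElement Pointwise

namespace Cfsg.Agent.S4039

/-- Class at most two, and normalizers of normal subgroups act on the Sylow subgroup as `p`-groups. -/
def SylowHyp {G : Type*} [Group G] {p : ℕ} (S : Sylow p G) : Prop :=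
  (∀ a ∈ (S : Subgroup G), ∀ b ∈ (S : Subgroup G), ∀ c ∈ (S : Subgroup G), ⁅⁅a, b⁆, c⁆ = 1) ∧
  ∀ D : Subgroup G, D ≠ ⊥ → D ≤ (S : Subgroup G) → (S : Subgroup G) ≤ Subgroup.normalizer (D : Set G) →
    ∀ g ∈ Subgroup.normalizer (D : Set G), (orderOf g).Coprime p →
      g ∈ Subgroup.centralizer ((S : Subgroup G) : Set G)

theorem smul {G : Type*} [Group G] {p : ℕ} {S : Sylow p G} (h : SylowHyp S) (c : G) :
    SylowHyp (c • S) := by
  have hm : ∀ x : G, x ∈ ((c • S : Sylow p G) : Subgroup G) ↔ c⁻¹ * x * c ∈ (S : Subgroup G) := by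
    intro x
    rw [Sylow.coe_subgroup_smul, Subgroup.mem_pointwise_smul_iff_inv_smul_mem]
    simp [MulAut.smul_def, mul_assoc]
  have hc : ∀ a b : G, c⁻¹ * ⁅a, b⁆ * c = ⁅c⁻¹ * a * c, c⁻¹ * b * c⁆ := fun a b => by
    simp [commutatorElement_def, mul_assoc]
  refine ⟨fun a ha b hb d hd => ?_, fun D hD hDS hSD g hg ho => ?_⟩
  · have := h.1 _ ((hm a).1 ha) _ ((hm b).1 hb) _ ((hm d).1 hd)
    rw [← hc, ← hc] at this
    simpa [mul_assoc] using congrArg (fun t => c * t * c⁻¹) this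
  · set D' := D.comap (MulAut.conj c).toMonoidHom
    have hD' : ∀ x : G, x ∈ D' ↔ c * x * c⁻¹ ∈ D := fun x => Iff.rfl
    have hN : ∀ x : G, c * x * c⁻¹ ∈ Subgroup.normalizer (D : Set G) →
        x ∈ Subgroup.normalizer (D' : Set G) := fun x hx => Subgroup.mem_normalizer_iff.2 fun y => by
      rw [hD', hD', Subgroup.mem_normalizer_iff.1 hx (c * y * c⁻¹)]
      simp [mul_assoc]
    have h1 := h.2 D' (fun e => hD ((Subgroup.eq_bot_iff_forall _).2 fun x hx => by
        have h2 : c⁻¹ * x * c ∈ D' := by rw [hD']; simpa [mul_assoc] using hx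
        rw [e, Subgroup.mem_bot] at h2
        simpa [mul_assoc] using congrArg (fun t => c * t * c⁻¹) h2))
      (fun x hx => by
        have := (hm _).1 (hDS hx)
        simpa [mul_assoc] using this)
      (fun x hx => hN x (hSD ((hm _).2 (by simpa [mul_assoc] using hx))))
      (c⁻¹ * g * c) (hN _ (by simpa [mul_assoc] using hg))
      (by
        have := MulEquiv.orderOf_eq (MulAut.conj c⁻¹) g
        simp only [MulAut.conj_apply, inv_inv] at this
        rwa [this])
    refine Subgroup.mem_centralizer_iff.2 fun x hx => ?_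
    have h2 := Subgroup.mem_centralizer_iff.1 h1 _ ((hm x).1 hx)
    simpa [mul_assoc] using congrArg (fun t => c * t * c⁻¹) h2

theorem centralizes {G : Type*} [Group G] [Finite G] {p : ℕ} [Fact p.Prime] (S : Sylow p G)
    (hS : SylowHyp S) (Q : Subgroup G) (hQ : Q ≠ ⊥) (hQS : Q ≤ (S : Subgroup G))
    (hsyl : ¬ p ∣ ((S : Subgroup G) ⊓ Subgroup.normalizer (Q : Set G)).relIndex
      (Subgroup.normalizer (Q : Set G)))
    (g : G) (hg : g ∈ Subgroup.normalizer (Q : Set G)) (ho : (orderOf g).Coprime p) :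
    g ∈ Subgroup.centralizer (Q : Set G) := by
  classical
  set N := Subgroup.normalizer (Q : Set G)
  set T0 := (S : Subgroup G) ⊓ N
  let U : Sylow p N := CfsgLib.Fusion.Basic.sylowSubgroupOf (inf_le_right : T0 ≤ N)
    (S.2.to_le inf_le_left) hsyl
  let f := Q.normalizerMonoidHom
  have hker : ∀ x : N, x ∈ f.ker ↔ (x : G) ∈ Subgroup.centralizer (Q : Set G) := by
    intro x; rw [Subgroup.normalizerMonoidHom_ker]; rfl
  have hi : ¬ p ∣ ((U : Subgroup N) ⊓ f.ker).relIndex f.ker :=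
    CfsgLib.Fusion.Basic.not_dvd_relIndex_of_normal U f.ker
  let V : Sylow p f.ker := CfsgLib.Fusion.Basic.sylowSubgroupOf (inf_le_right : (U : Subgroup N) ⊓ f.ker ≤ f.ker)
    (U.2.to_le inf_le_left) hi
  have hfrat := Sylow.normalizer_sup_eq_top V
  rw [show (V : Subgroup f.ker).map f.ker.subtype = (U : Subgroup N) ⊓ f.ker from
    CfsgLib.Fusion.Basic.map_sylowSubgroupOf _ _ hi] at hfrat
  -- `D` is normal in `S`
  set T := T0 ⊓ Subgroup.centralizer (Q : Set G)
  set D := Q ⊔ T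
  have hDS : D ≤ (S : Subgroup G) := sup_le hQS (inf_le_left.trans inf_le_left)
  have hcomm : ∀ a ∈ (S : Subgroup G), ∀ b ∈ (S : Subgroup G), ⁅a, b⁆ ∈ T := by
    intro a ha b hb
    have hz : ⁅a, b⁆ ∈ (S : Subgroup G) :=
      mul_mem (mul_mem (mul_mem ha hb) (inv_mem ha)) (inv_mem hb)
    have hc : ⁅a, b⁆ ∈ Subgroup.centralizer (Q : Set G) :=
      Subgroup.mem_centralizer_iff.2 fun q hq =>
        (commutatorElement_eq_one_iff_mul_comm.1 (hS.1 a ha b hb q (hQS hq))).symm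
    exact ⟨⟨hz, Subgroup.centralizer_le_normalizer _ hc⟩, hc⟩
  have hSD : (S : Subgroup G) ≤ Subgroup.normalizer (D : Set G) := fun s hs =>
    CfsgLib.Coprime.mem_normalizer_of_conj_map_le fun d hd => by
      rw [show s * d * s⁻¹ = ⁅s, d⁆ * d by rw [commutatorElement_def]; group]
      exact mul_mem (Subgroup.mem_sup_right (hcomm s hs d (hDS hd))) hd
  have hD0 : D ≠ ⊥ := fun h => hQ (le_bot_iff.1 (h ▸ le_sup_left))
  -- elements normalizing the Sylow subgroup of the centralizer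
  have hpel : ∀ l : N, l ∈ Subgroup.normalizer (((U : Subgroup N) ⊓ f.ker : Subgroup N) : Set N) →
      ∃ k, f l ^ p ^ k = 1 := by
    intro l hl
    obtain ⟨k, hk⟩ := CfsgLib.Fusion.Basic.exists_pow_coprime (p := p) (l : G)
    refine ⟨k, ?_⟩
    rw [← map_pow, ← MonoidHom.mem_ker, hker, Subgroup.coe_pow]
    refine Subgroup.centralizer_le hQS (hS.2 D hD0 hDS hSD _ ?_ hk)
    refine pow_mem (CfsgLib.Coprime.mem_normalizer_of_conj_map_le fun d hd => ?_) _
    have hT : ∀ t ∈ T, (l : G) * t * (l : G)⁻¹ ∈ T := by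
      intro t ht
      have htN : t ∈ N := ht.1.2
      have h1 : (⟨t, htN⟩ : N) ∈ (U : Subgroup N) ⊓ f.ker := ⟨ht.1, (hker _).2 ht.2⟩
      have h2 := (Subgroup.mem_normalizer_iff.1 hl ⟨t, htN⟩).1 h1
      exact ⟨h2.1, (hker _).1 h2.2⟩
    have hle : D ≤ D.comap (MulAut.conj (l : G)).toMonoidHom := by
      refine sup_le (fun q hq => ?_) (fun t ht => ?_)
      · exact Subgroup.mem_sup_left ((Subgroup.mem_normalizer_iff.1 l.2 q).1 hq)
      · exact Subgroup.mem_sup_right (hT t ht)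
    exact hle hd
  -- the automorphisms induced on `Q` form a `p`-group
  obtain ⟨l, hl, c, hc, hlc⟩ : ∃ l ∈ Subgroup.normalizer (((U : Subgroup N) ⊓ f.ker : Subgroup N) : Set N),
      ∃ c ∈ f.ker, l * c = ⟨g, hg⟩ := by
    have h := hfrat.ge (Subgroup.mem_top (⟨g, hg⟩ : N))
    rw [← SetLike.mem_coe, Subgroup.mul_normal] at h
    exact Set.mem_mul.1 h
  obtain ⟨k, hk⟩ := hpel l hl
  have hfg : f ⟨g, hg⟩ = f l := by rw [← hlc, map_mul, MonoidHom.mem_ker.1 hc, mul_one]
  have h1 : orderOf (f ⟨g, hg⟩) ∣ orderOf g :=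
    (orderOf_map_dvd f _).trans (Subgroup.orderOf_coe (⟨g, hg⟩ : N)).symm.dvd
  have h2 : orderOf (f ⟨g, hg⟩) ∣ p ^ k := hfg ▸ orderOf_dvd_of_pow_eq_one hk
  exact (hker ⟨g, hg⟩).1 (MonoidHom.mem_ker.2 (orderOf_eq_one_iff.1
    (Nat.eq_one_of_dvd_coprimes (ho.pow_right k) h1 h2)))

theorem npc {G : Type*} [Group G] [Finite G] {p : ℕ} [Fact p.Prime] (P : Sylow p G) (hP : SylowHyp P) :
    Cfsg.HasNormalPComplement p G := by
  classical
  refine CfsgLib.Fusion.Alperin.npc_of_frobenius P fun Q hQP g hg ho => ?_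
  by_cases hQ : Q = ⊥
  · subst hQ
    refine Subgroup.mem_centralizer_iff.2 fun q hq => ?_
    rw [Subgroup.mem_bot.1 hq, one_mul, mul_one]
  set N := Subgroup.normalizer (Q : Set G)
  have hQN : Q ≤ N := Subgroup.le_normalizer
  obtain ⟨U⟩ : Nonempty (Sylow p N) := inferInstance
  obtain ⟨S, hS⟩ := (U.2.map N.subtype).exists_le_sylow
  obtain ⟨c, rfl⟩ := MulAction.exists_smul_eq G P S
  have hQU : Q.subgroupOf N ≤ (U : Subgroup N) :=
    ((P.2.to_le hQP).of_equiv (Subgroup.subgroupOfEquivOfLe hQN).symm).le_sylow_of_normal U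
  refine centralizes (c • P) (smul hP c) Q hQ (fun q hq => hS ⟨⟨q, hQN hq⟩, hQU hq, rfl⟩) ?_ g hg ho
  intro h
  refine U.not_dvd_index (h.trans (Subgroup.index_dvd_of_le fun u hu => ?_))
  exact ⟨hS ⟨u, hu, rfl⟩, u.2⟩

/-- A finite group possessing a maximal subgroup that is nilpotent of class at most 2 is solvable. -/
theorem result {G : Type*} [Group G] [Finite G]
    (M : Subgroup G) (hmax : IsCoatom M) (hnil : Group.IsNilpotent M) (hcl : Group.nilpotencyClass ↥M ≤ 2) :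
    Group.IsSolvable G := by
  classical
  refine CfsgLib.Frobenius.NilpotentMaximal.isSolvable_induction
    (fun G _ _ M => ∀ a ∈ M, ∀ b ∈ M, ∀ c ∈ M, ⁅⁅a, b⁆, c⁆ = 1) ?_ ?_ _ G rfl M hmax hnil ?_
  · intro G _ _ M N _ _ h
    rintro _ ⟨a, ha, rfl⟩ _ ⟨b, hb, rfl⟩ _ ⟨c, hc, rfl⟩
    rw [← map_commutatorElement, ← map_commutatorElement, h a ha b hb c hc, map_one]
  swap
  · intro a ha b hb c hc
    have := hnil
    have h2 : (⊤ : Subgroup M).lowerCentralSeries 2 = ⊥ :=
      Subgroup.lowerCentralSeries_eq_bot_iff_nilpotencyClass_le.2 hcl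
    have h : ⁅⁅(⟨a, ha⟩ : M), (⟨b, hb⟩ : M)⁆, (⟨c, hc⟩ : M)⁆ ∈ (⊤ : Subgroup M).lowerCentralSeries 2 :=
      Subgroup.commutator_mem_commutator
        (Subgroup.commutator_mem_commutator (Subgroup.mem_top _) (Subgroup.mem_top _))
        (Subgroup.mem_top _)
    rw [h2, Subgroup.mem_bot] at h
    exact congrArg Subtype.val h
  intro G _ _ M hmax hnil hcore hcl p _ hp
  obtain ⟨P, hPM, hP0, hMP⟩ :=
    CfsgLib.Frobenius.NilpotentMaximal.exists_sylow hmax hnil hcore p hp
  -- the hypothesis at `P`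
  have hP : SylowHyp P := by
    refine ⟨fun a ha b hb c hc => hcl a (hPM ha) b (hPM hb) c (hPM hc), fun D hD hDP hPD => ?_⟩
    have hMD : M ≤ Subgroup.normalizer (D : Set G) := by
      intro x hx
      refine CfsgLib.Frobenius.Elements.mem_of_primary fun z hz ⟨q, k, hq, _, hzo⟩ => ?_
      have hzM : z ∈ M := Subgroup.zpowers_le.2 hx hz
      rcases eq_or_ne q p with rfl | hqp
      · refine hPD ?_
        have hsup : IsPGroup q ↥((P : Subgroup G) ⊔ Subgroup.zpowers z) :=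
          P.isPGroup'.to_sup_of_normal_left' (IsPGroup.of_card (n := k) (by rw [Nat.card_zpowers, hzo]))
            (Subgroup.zpowers_le.2 (hMP hzM))
        exact P.is_maximal' hsup le_sup_left ▸ Subgroup.mem_sup_right (Subgroup.mem_zpowers z)
      · refine Subgroup.centralizer_le_normalizer _ (Subgroup.centralizer_le hDP
          (CfsgLib.Frobenius.NilpotentMaximal.commute_of_coprime hnil P.isPGroup' hPM hzM ?_))
        rw [hzo]
        exact Nat.Coprime.pow_left k ((Nat.coprime_primes hq Fact.out).2 hqp)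
    intro g hg ho
    rw [CfsgLib.Frobenius.NilpotentMaximal.normalizer_eq hmax hcore hD (hDP.trans hPM) hMD] at hg
    exact CfsgLib.Frobenius.NilpotentMaximal.commute_of_coprime hnil P.isPGroup' hPM hg ho
  exact npc P hP

end Cfsg.Agent.S4039
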