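import Cfsg.Statements.S4040
import Cfsg.Agent.Lib.Frobenius.NilpotentMaximal
import Cfsg.Agent.Lib.Solvable.ThompsonComplement
import Cfsg.Agent.Lib.Fusion.Thompson

set_option autoImplicit false
open Cfsg

namespace Cfsg.Agent.S4040

/-- A finite group possessing a maximal subgroup that is nilpotent of odd order is solvable. -/
theorem result {G : Type*} [Group G] [Finite G]
    (M : Subgroup G) (hmax : IsCoatom M) (hnil : Group.IsNilpotent M) (hodd : Odd (Nat.card M)) :
    Group.IsSolvable G := by
  classical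
  refine CfsgLib.Frobenius.NilpotentMaximal.isSolvable_induction
    (fun G _ _ M => Odd (Nat.card M)) ?_ ?_ _ G rfl M hmax hnil hodd
  · intro G _ _ M N _ _ h
    exact Odd.of_dvd_nat h (Subgroup.card_map_dvd M _)
  intro G _ _ M hmax hnil hcore hodd p _ hp
  have hp2 : p ≠ 2 := by
    rintro rfl
    exact Nat.not_even_iff_odd.2 hodd (even_iff_two_dvd.2 hp)
  obtain ⟨P, hPM, hP0, hMP⟩ :=
    CfsgLib.Frobenius.NilpotentMaximal.exists_sylow hmax hnil hcore p hp
  have hMn : Cfsg.HasNormalPComplement p M := by
    have := hnil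
    exact CfsgLib.Solvable.FPFNilpotent.npc_of_nilpotent p
  refine CfsgLib.Solvable.ThompsonComplement.npc_of_thompson hp2 P ?_ ?_
  · have hJ := CfsgLib.Solvable.ThompsonComplement.thompsonSubgroupOf_ne_bot P.isPGroup' hP0
    rw [CfsgLib.Frobenius.NilpotentMaximal.normalizer_eq hmax hcore hJ
      ((Subgroup.map_subtype_le _).trans hPM)
      (hMP.trans (CfsgLib.Fusion.Thompson.normalizer_le_normalizer_thompsonOf _))]
    exact hMn
  · set Z := (P : Subgroup G) ⊓ Subgroup.centralizer ((P : Subgroup G) : Set G)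
    have hZ : Z ≠ ⊥ := CfsgLib.Solvable.ThompsonComplement.centerOf_ne_bot P.isPGroup' hP0
    have hN : Subgroup.normalizer (Z : Set G) = M :=
      CfsgLib.Frobenius.NilpotentMaximal.normalizer_eq hmax hcore hZ (inf_le_left.trans hPM)
        (hMP.trans (CfsgLib.Solvable.ThompsonComplement.normalizer_le_centerOf _))
    exact CfsgLib.Fusion.Basic.npc_of_le
      ((Subgroup.centralizer_le_normalizer _).trans hN.le) hMn

end Cfsg.Agent.S4040
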