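import Cfsg.Statements.S4043
import Cfsg.Agent.Lib.Coprime.SchurZassenhaus
import Cfsg.Agent.Lib.Coprime.Action

set_option autoImplicit false
open Cfsg
open scoped Pointwise commutatorElement

namespace Cfsg.Agent.S4043

/-- Let G be a finite group that is the semidirect product of a normal p-subgroup N by a subgroup A, and also of N by a subgroup A₁, where p is a prime and A and A₁ both have normal p-complements. If C_N(A) = C_N(A₁) = 1, then A₁ is conjugate to A by an element of N. -/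
theorem result {G : Type*} [Group G] [Finite G] {p : ℕ}
    [Fact p.Prime] (N : Subgroup G) [N.Normal] (hN : IsPGroup p N) (A A₁ : Subgroup G)
    (hA : A.IsComplement' N) (hA₁ : A₁.IsComplement' N)
    (hAp : Cfsg.HasNormalPComplement p A) (hA₁p : Cfsg.HasNormalPComplement p A₁)
    (hC : ∀ n : G, n ∈ N → (∀ a : G, a ∈ A → a * n * a⁻¹ = n) → n = 1)
    (hC₁ : ∀ n : G, n ∈ N → (∀ a : G, a ∈ A₁ → a * n * a⁻¹ = n) → n = 1) :
    ∃ n : G, n ∈ N ∧ A₁ = A.map (MulAut.conj n).toMonoidHom := by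
  classical
  have hp := (Fact.out : p.Prime)
  -- the normal `p`-complement of a complement, as a subgroup of `G`
  have key : ∀ B : Subgroup G, B.IsComplement' N → Cfsg.HasNormalPComplement p B →
      (∀ n : G, n ∈ N → (∀ a : G, a ∈ B → a * n * a⁻¹ = n) → n = 1) →
      ∃ H : Subgroup G, H ≤ B ∧ B ≤ Subgroup.normalizer (H : Set G) ∧
        (∀ a ∈ B, (orderOf a).Coprime p → a ∈ H) ∧ (∀ a ∈ H, (orderOf a).Coprime p) ∧
        (Nat.card H).Coprime p ∧ (∀ n ∈ N, n ∈ Subgroup.centralizer (H : Set G) → n = 1) := by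
    rintro B hB ⟨P, M, hMn, hMP⟩ hCB
    set H := M.map B.subtype with hH
    have hMc : (Nat.card M).Coprime p := by
      refine (hp.coprime_iff_not_dvd.2 fun hd => P.not_dvd_index ?_).symm
      rwa [hMP.index_eq_card]
    have hHB : H ≤ B := Subgroup.map_subtype_le _
    have hBH : B ≤ Subgroup.normalizer (H : Set G) := by
      refine (Subgroup.normal_subgroupOf_iff_le_normalizer hHB).1 ?_
      rw [hH, Subgroup.subgroupOf, Subgroup.comap_map_eq_self_of_injective B.subtype_injective]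
      exact hMn
    refine ⟨H, hHB, hBH, fun a ha hao => ?_, fun a ha => ?_, ?_, ?_⟩
    · haveI := hMn
      obtain ⟨c, hc⟩ := IsPGroup.iff_card.1 P.isPGroup'
      have h1 : ((⟨a, ha⟩ : B) : B ⧸ M) = 1 := orderOf_eq_one_iff.1 (Nat.eq_one_of_dvd_coprimes
        (hao.pow_right c)
        ((orderOf_map_dvd (QuotientGroup.mk' M) (⟨a, ha⟩ : B)).trans (Subgroup.orderOf_mk a ha).dvd)
        (hc ▸ hMP.symm.index_eq_card ▸ orderOf_dvd_natCard _))
      exact ⟨⟨a, ha⟩, (QuotientGroup.eq_one_iff _).1 h1, rfl⟩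
    · refine hMc.coprime_dvd_left ?_
      rw [← Subgroup.card_map_of_injective B.subtype_injective (K := M)]
      exact Subgroup.orderOf_dvd_natCard _ ha
    · rw [hH, Subgroup.card_map_of_injective B.subtype_injective]; exact hMc
    · -- `P` acts on the fixed points of `H` in `N`
      intro n₀ hn₀ hn₀c
      by_contra hne
      set W := N ⊓ Subgroup.centralizer (H : Set G) with hW
      have hWb : W ≠ ⊥ := fun e => hne (by
        have : n₀ ∈ W := ⟨hn₀, hn₀c⟩
        rwa [e, Subgroup.mem_bot] at this)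
      set P' := (P : Subgroup B).map B.subtype
      have hP'W : P' ≤ Subgroup.normalizer (W : Set G) := by
        refine le_trans (le_inf ?_ ?_) Subgroup.inf_normalizer_le_normalizer_inf
        · exact le_top.trans_eq (Subgroup.normalizer_eq_top_iff.2 inferInstance).symm
        · intro x hx
          have hxH := hBH (Subgroup.map_subtype_le _ hx)
          refine CfsgLib.Coprime.mem_normalizer_of_conj_map_le fun c hc => ?_
          refine Subgroup.mem_centralizer_iff.2 fun a ha => ?_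
          have ha' : x⁻¹ * a * x ∈ H := by
            simpa using (Subgroup.mem_normalizer_iff.1 (inv_mem hxH) a).1 ha
          have := Subgroup.mem_centralizer_iff.1 hc _ ha'
          calc a * (x * c * x⁻¹) = x * (x⁻¹ * a * x * c) * x⁻¹ := by group
            _ = x * (c * (x⁻¹ * a * x)) * x⁻¹ := by rw [this]
            _ = _ := by group
      have hlt := CfsgLib.Coprime.commutator_lt_of_isPGroup (P.isPGroup'.map B.subtype)
        (hN.to_le inf_le_left) hP'W hWb
      -- a smallest non-trivial term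
      obtain ⟨V, hVle, hVn, hVP, hVb, hVmin⟩ : ∃ V : Subgroup G, V ≤ W ∧
          IsPGroup p V ∧ P' ≤ Subgroup.normalizer (V : Set G) ∧ V ≠ ⊥ ∧ ⁅V, P'⁆ = ⊥ := by
        obtain ⟨V, hV1, hV2⟩ := Finite.exists_le_minimal
          (p := fun V : Subgroup G => V ≤ W ∧ V ≠ ⊥ ∧ P' ≤ Subgroup.normalizer (V : Set G))
          (a := W) ⟨le_rfl, hWb, hP'W⟩
        obtain ⟨hVW, hVb, hVP⟩ := hV2.prop
        have hVp : IsPGroup p V := hN.to_le (hVW.trans inf_le_left)
        have h1 := CfsgLib.Coprime.commutator_lt_of_isPGroup (P.isPGroup'.map B.subtype) hVp hVP hVb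
        refine ⟨V, hVW, hVp, hVP, hVb, by_contra fun hb => h1.not_ge (hV2.le_of_le ?_ h1.le)⟩
        exact ⟨h1.le.trans hVW, hb, Subgroup.normalizer_commutator_ge_right _ _⟩
      obtain ⟨⟨v, hv⟩, hv1⟩ := Subgroup.ne_bot_iff_exists_ne_one.1 hVb
      refine hv1 (Subtype.ext (hCB v (hVle hv).1 fun a ha => ?_))
      obtain ⟨m, hm, q, hq, he⟩ : (⟨a, ha⟩ : B) ∈ (M : Set B) * ((P : Subgroup B) : Set B) := by
        haveI := hMn
        rw [← Subgroup.normal_mul, hMP.sup_eq_top]; exact Set.mem_univ _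
      have h1 : (m : G) * v = v * m := Subgroup.mem_centralizer_iff.1 (hVle hv).2 (m : G) ⟨m, hm, rfl⟩
      have h2 : v * (q : G) = q * v := by
        have h3 : ⁅v, (q : G)⁆ ∈ (⊥ : Subgroup G) :=
          hVmin ▸ Subgroup.commutator_mem_commutator hv ⟨q, hq, rfl⟩
        rwa [Subgroup.mem_bot, commutatorElement_eq_one_iff_mul_comm] at h3
      have he' : (m : G) * q = a := congrArg Subtype.val he
      rw [mul_inv_eq_iff_eq_mul, ← he', mul_assoc, ← h2, ← mul_assoc, h1, mul_assoc]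
  obtain ⟨H, hHA, hAH, hHmem, hHcop, hHc, hCH⟩ := key A hA hAp hC
  obtain ⟨H₁, hH₁A, hAH₁, hH₁mem, hH₁cop, hH₁c, hCH₁⟩ := key A₁ hA₁ hA₁p hC₁
  -- the two `p`-complements cover each other modulo `N`
  have hcover : ∀ (B B₁ K K₁ : Subgroup G), B₁.IsComplement' N →
      (∀ a ∈ K, (orderOf a).Coprime p) → (∀ a ∈ B₁, (orderOf a).Coprime p → a ∈ K₁) → K ≤ N ⊔ K₁ := by
    intro B B₁ K K₁ hB₁ hK hK₁ x hx
    obtain ⟨a, ha, m, hm, rfl⟩ : x ∈ (B₁ : Set G) * (N : Set G) := by
      rw [← Subgroup.mul_normal, hB₁.sup_eq_top]; exact Set.mem_univ _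
    refine mul_mem (Subgroup.mem_sup_right (hK₁ a ha ?_)) (Subgroup.mem_sup_left hm)
    refine (hK _ hx).coprime_dvd_left ?_
    have h1 : orderOf (a : G ⧸ N) = orderOf a := by
      refine Nat.dvd_antisymm (orderOf_map_dvd (QuotientGroup.mk' N) a) (orderOf_dvd_of_pow_eq_one ?_)
      have h2 : a ^ orderOf (a : G ⧸ N) ∈ B₁ ⊓ N := ⟨pow_mem ha _,
        (QuotientGroup.eq_one_iff _).1 (by rw [QuotientGroup.mk_pow]; exact pow_orderOf_eq_one _)⟩
      rwa [disjoint_iff.1 hB₁.disjoint, Subgroup.mem_bot] at h2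
    have h3 := orderOf_map_dvd (QuotientGroup.mk' N) (a * m)
    rwa [QuotientGroup.mk'_apply, QuotientGroup.mk_mul, (QuotientGroup.eq_one_iff m).2 hm, mul_one,
      h1] at h3
  have h01 := hcover A A₁ H H₁ hA₁ hHcop hH₁mem
  have h10 := hcover A₁ A H₁ H hA hH₁cop hHmem
  have hNtop : ∀ U : Subgroup G, U ≤ Subgroup.normalizer (N : Set G) := fun U =>
    le_top.trans_eq (Subgroup.normalizer_eq_top_iff.2 inferInstance).symm
  obtain ⟨c, hc⟩ := IsPGroup.iff_card.1 hN
  have hcop : ∀ U : Subgroup G, (Nat.card U).Coprime p → (Nat.card N).Coprime (Nat.card U) :=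
    fun U hU => hc ▸ (hU.symm.pow_left c)
  have hdis : ∀ U : Subgroup G, (Nat.card U).Coprime p → Disjoint N U := fun U hU =>
    disjoint_iff.2 (Subgroup.inf_eq_bot_of_coprime (hcop U hU))
  have hcard : Nat.card H = Nat.card H₁ := by
    refine Nat.eq_of_mul_eq_mul_left (n := Nat.card N) Nat.card_pos ?_
    rw [← CfsgLib.Coprime.card_sup_of_le_normalizer (hNtop H) (hdis H hHc),
      ← CfsgLib.Coprime.card_sup_of_le_normalizer (hNtop H₁) (hdis H₁ hH₁c),
      le_antisymm (sup_le le_sup_left h01) (sup_le le_sup_left h10)]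
  obtain ⟨n, hn, hconj⟩ := CfsgLib.Coprime.exists_conj_eq
    (Or.inl (haveI := hN.isNilpotent; inferInstance)) (hNtop H) (hNtop H₁) h01 hcard (hcop H hHc)
  refine ⟨n, hn, ?_⟩
  -- both complements are the normaliser of `H₁`
  have hD : N ⊓ Subgroup.normalizer (H₁ : Set G) = ⊥ := by
    rw [eq_bot_iff]
    rintro x ⟨hxN, hxH⟩
    refine Subgroup.mem_bot.2 (hCH₁ x hxN (Subgroup.mem_centralizer_iff.2 fun b hb => ?_))
    have h1 : x * b * x⁻¹ * b⁻¹ ∈ N ⊓ H₁ := by
      refine ⟨?_, Subgroup.mul_mem _ ((Subgroup.mem_normalizer_iff.1 hxH b).1 hb) (Subgroup.inv_mem _ hb)⟩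
      rw [show x * b * x⁻¹ * b⁻¹ = x * (b * x⁻¹ * b⁻¹) by group]
      exact mul_mem hxN ((inferInstance : N.Normal).conj_mem _ (inv_mem hxN) b)
    rw [disjoint_iff.1 (hdis H₁ hH₁c), Subgroup.mem_bot, mul_inv_eq_one, mul_inv_eq_iff_eq_mul] at h1
    exact h1.symm
  have hUcard : ∀ U : Subgroup G, U ≤ Subgroup.normalizer (H₁ : Set G) → Nat.card U = N.index →
      U = Subgroup.normalizer (H₁ : Set G) := by
    intro U hU hUc
    refine Subgroup.eq_of_le_of_card_ge hU (hUc ▸ ?_)
    refine Nat.card_le_card_of_injective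
      (fun x : Subgroup.normalizer (H₁ : Set G) => ((x : G) : G ⧸ N)) fun x y hxy => Subtype.ext ?_
    have h1 : (x : G)⁻¹ * y ∈ N ⊓ Subgroup.normalizer (H₁ : Set G) :=
      ⟨QuotientGroup.eq.1 hxy, Subgroup.mul_mem _ (Subgroup.inv_mem _ x.2) y.2⟩
    rw [hD, Subgroup.mem_bot, inv_mul_eq_one] at h1
    exact h1
  have h1 := hUcard A₁ hAH₁ hA₁.index_eq_card.symm
  have h2 := hUcard (A.map (MulAut.conj n).toMonoidHom) (by
    rw [← hconj]
    exact (Subgroup.map_mono hAH).trans (Subgroup.le_normalizer_map _))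
    (by rw [CfsgLib.Coprime.card_conj_map]; exact hA.index_eq_card.symm)
  exact h1.trans h2.symm

end Cfsg.Agent.S4043
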