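import Cfsg.Statements.S4049
import Cfsg.Agent.Lib.Frobenius.OddInverted

set_option autoImplicit false
open Cfsg

namespace Cfsg.Agent.S4049

/-- Let G be a finite group such that N_G(H)/C_G(H) has odd order for every nontrivial subgroup H of odd order. Then the Sylow 2-subgroups of G are normal. -/
theorem result {G : Type*} [Group G] [Finite G]
    (hhom : ∀ H : Subgroup G, H ≠ ⊥ → ¬ 2 ∣ Nat.card ↥H →
        ¬ 2 ∣ (Subgroup.centralizer (H : Set G)).relIndex (Subgroup.normalizer (H : Set G))) (P : Sylow 2 G) :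
    (P : Subgroup G).Normal := by
  refine CfsgLib.Frobenius.OddInverted.sylow_normal _ rfl (fun x g hx hg hconj => ?_) P
  rcases eq_or_ne x 1 with rfl | hx1
  · simp
  set N := Subgroup.normalizer ((Subgroup.zpowers x : Subgroup G) : Set G) with hNdef
  set C := Subgroup.centralizer ((Subgroup.zpowers x : Subgroup G) : Set G) with hCdef
  have hN : g ∈ N := by
    refine Subgroup.mem_normalizer_fintype (S := (Subgroup.zpowers x : Set G)) ?_
    rintro _ ⟨j, rfl⟩
    rw [← conj_zpow]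
    exact Subgroup.zpow_mem _ hconj j
  have hodd : ¬ 2 ∣ C.relIndex N := hhom (Subgroup.zpowers x)
    (Subgroup.zpowers_ne_bot.mpr hx1)
    (by rw [Nat.card_zpowers]; exact fun h => Nat.not_even_iff_odd.mpr hx (even_iff_two_dvd.mpr h))
  haveI hnorm : (C.subgroupOf N).Normal := by
    refine ⟨fun c hc n => ?_⟩
    rw [Subgroup.mem_subgroupOf, hCdef, Subgroup.mem_centralizer_iff] at hc ⊢
    intro y hy
    have h1 : (n : G)⁻¹ * y * n ∈ Subgroup.zpowers x := (Subgroup.mem_normalizer_iff''.mp n.2 y).mp hy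
    have h2 := hc _ h1
    simp only [Subgroup.coe_mul, Subgroup.coe_inv]
    calc y * ((n : G) * c * (n : G)⁻¹) = n * (((n : G)⁻¹ * y * n) * c) * (n : G)⁻¹ := by group
      _ = n * (c * ((n : G)⁻¹ * y * n)) * (n : G)⁻¹ := by rw [h2]
      _ = _ := by group
  obtain ⟨i, hi⟩ := hg
  let q := QuotientGroup.mk' (C.subgroupOf N) ⟨g, hN⟩
  have h1 : orderOf q ∣ 2 ^ i :=
    hi ▸ (orderOf_map_dvd _ _).trans (by rw [Subgroup.orderOf_mk])
  have h2 : orderOf q ∣ C.relIndex N := orderOf_dvd_natCard q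
  have h3 : orderOf q = 1 := Nat.dvd_one.mp
    (((Nat.Prime.coprime_iff_not_dvd Nat.prime_two).mpr hodd).pow_left i ▸ Nat.dvd_gcd h1 h2)
  rw [orderOf_eq_one_iff] at h3
  replace h3 := (QuotientGroup.eq_one_iff _).mp h3
  rw [
    Subgroup.mem_subgroupOf, hCdef, Subgroup.mem_centralizer_iff] at h3
  exact (h3 x (Subgroup.mem_zpowers x)).symm

end Cfsg.Agent.S4049
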