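import Cfsg.Statements.S4051
import Cfsg.Agent.Lib.Coprime.Sylow

set_option autoImplicit false
open Cfsg
open scoped Pointwise

namespace Cfsg.Agent.S4051

/-- Let π be a set of primes and G a finite group such that N_G(H)/C_G(H) is a π'-group for every nontrivial π'-subgroup H of G. If K is a normal subgroup of G such that the π-elements of K form a subgroup and the π-elements of G/K form a subgroup, then the π-elements of G form a subgroup. -/
theorem result {G : Type*} [Group G] [Finite G] (π : Set ℕ)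
    (hπ : ∀ p ∈ π, p.Prime) (hhom : (∀ H : Subgroup G, H ≠ ⊥ → (∀ p : ℕ, p.Prime → p ∣ Nat.card ↥H → p ∉ π) →
        ∀ p : ℕ, p.Prime → p ∣ (Subgroup.centralizer (H : Set G)).relIndex (Subgroup.normalizer (H : Set G)) → p ∉ π))
    (K : Subgroup G) [K.Normal]
    (hK : ∃ L : Subgroup ↥K, ∀ x : ↥K, x ∈ L ↔ ∀ p : ℕ, p.Prime → p ∣ orderOf x → p ∈ π)
    (hQ : ∃ L : Subgroup (G ⧸ K), ∀ x : G ⧸ K, x ∈ L ↔ ∀ p : ℕ, p.Prime → p ∣ orderOf x → p ∈ π) :
    (∃ K : Subgroup G, ∀ x : G, x ∈ K ↔ ∀ p : ℕ, p.Prime → p ∣ orderOf x → p ∈ π) := by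
  classical
  obtain ⟨L, hL⟩ := hK
  obtain ⟨LQ, hLQ⟩ := hQ
  set L' : Subgroup G := L.map K.subtype with hL'
  have hmemL' : ∀ x : G, x ∈ L' ↔ x ∈ K ∧ ∀ p : ℕ, p.Prime → p ∣ orderOf x → p ∈ π := by
    intro x
    constructor
    · rintro ⟨y, hy, rfl⟩
      exact ⟨y.2, by simpa [Subgroup.orderOf_coe] using (hL y).1 hy⟩
    · rintro ⟨hxK, hx⟩
      exact ⟨⟨x, hxK⟩, (hL ⟨x, hxK⟩).2 (by rwa [Subgroup.orderOf_mk]), rfl⟩
  haveI hL'n : L'.Normal := ⟨fun x hx g => by
    rw [hmemL'] at hx ⊢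
    refine ⟨(inferInstance : K.Normal).conj_mem x hx.1 g, ?_⟩
    rw [show g * x * g⁻¹ = MulAut.conj g x from rfl, MulEquiv.orderOf_eq]
    exact hx.2⟩
  have hL'π : ∀ p : ℕ, p.Prime → p ∣ Nat.card L' → p ∈ π := by
    intro p hp hd
    haveI := Fact.mk hp
    obtain ⟨z, hz⟩ := exists_prime_orderOf_dvd_card' (G := L') p hd
    exact ((hmemL' z).1 z.2).2 p hp (by rw [Subgroup.orderOf_coe, hz])
  have hL'K : L' ≤ K := fun x hx => ((hmemL' x).1 hx).1
  set φ := QuotientGroup.mk' L' with hφ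
  have hφs : Function.Surjective φ := QuotientGroup.mk'_surjective L'
  set Kb := K.map φ with hKb
  haveI hKbn : Kb.Normal := (inferInstance : K.Normal).map φ hφs
  -- a minimal lift of a `π`-element is a `π`-element
  have hKbπ : ∀ p : ℕ, p.Prime → p ∣ Nat.card Kb → p ∉ π := by
    intro p hp hd hpπ
    haveI := Fact.mk hp
    obtain ⟨w, hw⟩ := exists_prime_orderOf_dvd_card' (G := Kb) p hd
    obtain ⟨k, hk, hkw⟩ := w.2
    have hk' : orderOf (φ k) = p := by rw [hkw, Subgroup.orderOf_coe, hw]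
    obtain ⟨a, m, hm, hkm⟩ := Nat.exists_eq_pow_mul_and_not_dvd (orderOf_pos k).ne' p hp.ne_one
    have h1 : k ^ m ∈ L' := by
      refine (hmemL' _).2 ⟨pow_mem hk m, fun r hr hrd => ?_⟩
      have h2 : orderOf (k ^ m) ∣ p ^ a := orderOf_dvd_of_pow_eq_one (by
        rw [← pow_mul, mul_comm, ← hkm, pow_orderOf_eq_one])
      exact (Nat.prime_dvd_prime_iff_eq hr hp).1 (hr.dvd_of_dvd_pow (hrd.trans h2)) ▸ hpπ
    have h3 : φ k ^ m = 1 := by
      rw [← map_pow]; exact (QuotientGroup.eq_one_iff _).2 h1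
    exact hm (hk' ▸ orderOf_dvd_of_pow_eq_one h3)
  -- every `π`-element centralises `K / L'`
  have hcent : ∀ y : G, (∀ p : ℕ, p.Prime → p ∣ orderOf y → p ∈ π) →
      φ y ∈ Subgroup.centralizer (Kb : Set (G ⧸ L')) := by
    intro y hy
    have hyb : ∀ p : ℕ, p.Prime → p ∣ orderOf (φ y) → p ∈ π := fun p hp hd =>
      hy p hp (hd.trans (orderOf_map_dvd φ y))
    have hcop : (Nat.card (Subgroup.zpowers (φ y))).Coprime (Nat.card Kb) :=
      Nat.coprime_of_dvd fun r hr h1 h2 => hKbπ r hr h2 (hyb r hr (by rwa [Nat.card_zpowers] at h1))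
    set C := Subgroup.centralizer ({φ y} : Set (G ⧸ L')) ⊓ Kb with hC
    suffices hCK : C = Kb by
      refine Subgroup.mem_centralizer_iff.2 fun k hk => ?_
      exact Subgroup.mem_centralizer_singleton_iff.1 (Subgroup.mem_inf.1 (hCK.ge hk)).1
    refine Subgroup.eq_of_le_of_card_ge inf_le_right (Nat.le_of_dvd Nat.card_pos
      ((Nat.dvd_iff_prime_pow_dvd_dvd _ _).2 fun q k hq hqk => ?_))
    haveI := Fact.mk hq
    rcases Nat.eq_zero_or_pos k with rfl | hk0
    · simp
    have hqπ : q ∉ π := hKbπ q hq ((dvd_pow_self q hk0.ne').trans hqk)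
    obtain ⟨P, hP⟩ := CfsgLib.Coprime.exists_invariant_sylow
      (A := Subgroup.zpowers (φ y)) (K := Kb)
      (le_top.trans_eq (Subgroup.normalizer_eq_top_iff.2 hKbn).symm) hcop
      (Or.inl (CfsgLib.Coprime.isSolvable_zpowers _)) q
    set P' := (P : Subgroup Kb).map Kb.subtype with hP'
    refine (pow_dvd_pow q ((hq.pow_dvd_iff_le_factorization Nat.card_pos.ne').1 hqk)).trans ?_
    rw [← P.card_eq_multiplicity, ← Subgroup.card_map_of_injective Kb.subtype_injective]
    refine Subgroup.card_dvd_of_le (le_inf ?_ (Subgroup.map_subtype_le _))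
    rw [← hP']
    -- lift `P'` to a `q`-subgroup `Q` of `K` normalised by a `π`-element of `y L'`
    set U := P'.comap φ with hU
    have hUn : ∀ z : G, φ z ∈ Subgroup.normalizer (P' : Set (G ⧸ L')) → ∀ u ∈ U, z * u * z⁻¹ ∈ U := by
      intro z hz u hu
      show φ (z * u * z⁻¹) ∈ P'
      rw [map_mul, map_mul, map_inv]
      exact (Subgroup.mem_normalizer_iff.1 hz (φ u)).1 hu
    obtain ⟨S⟩ : Nonempty (Sylow q U) := inferInstance
    set Q := (S : Subgroup U).map U.subtype with hQdef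
    have hQU : Q ≤ U := Subgroup.map_subtype_le _
    have hQq : IsPGroup q Q := S.isPGroup'.map _
    have hLU : L' ≤ U := (QuotientGroup.ker_mk' L').ge.trans (MonoidHom.ker_le_comap _ _)
    have hUcard : Nat.card U = Nat.card L' * Nat.card P' := by
      have h1 := Subgroup.card_mul_index U
      rw [hU, Subgroup.index_comap_of_surjective _ hφs] at h1
      refine Nat.eq_of_mul_eq_mul_right (Nat.pos_of_ne_zero
        (Subgroup.index_ne_zero_of_finite (H := P'))) ?_
      rw [h1, mul_assoc, Subgroup.card_mul_index, ← Subgroup.card_mul_index L']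
      rfl
    have hnq : ¬ q ∣ Nat.card L' := fun hd => hqπ (hL'π q hq hd)
    have hQcard : Nat.card Q = Nat.card P' := by
      rw [hQdef, Subgroup.card_map_of_injective U.subtype_injective, S.card_eq_multiplicity, hUcard,
        Nat.factorization_mul Nat.card_pos.ne' Nat.card_pos.ne', Finsupp.add_apply,
        Nat.factorization_eq_zero_of_not_dvd hnq, zero_add]
      obtain ⟨c, hc⟩ := IsPGroup.iff_card.1 (P.isPGroup'.map Kb.subtype)
      rw [← hP'] at hc
      rw [hc, hq.factorization_pow]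
      simp
    have hdis : Disjoint L' Q := disjoint_iff.2 (Subgroup.inf_eq_bot_of_coprime (by
      obtain ⟨c, hc⟩ := IsPGroup.iff_card.1 hQq
      rw [hc]
      exact ((hq.coprime_iff_not_dvd.2 hnq).pow_left c).symm))
    have hQN : Q ≤ Subgroup.normalizer (L' : Set G) :=
      le_top.trans_eq (Subgroup.normalizer_eq_top_iff.2 hL'n).symm
    have hsup : L' ⊔ Q = U := Subgroup.eq_of_le_of_card_ge (sup_le hLU hQU)
      (by rw [CfsgLib.Coprime.card_sup_of_le_normalizer hQN hdis, hQcard, hUcard])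
    -- the conjugate of `S` by `y`
    have hyP : φ y ∈ Subgroup.normalizer (P' : Set (G ⧸ L')) := hP (Subgroup.mem_zpowers _)
    have hle : Q.map (MulAut.conj y).toMonoidHom ≤ U := by
      rintro _ ⟨u, hu, rfl⟩; exact hUn y hyP u (hQU hu)
    obtain ⟨T, hT⟩ := CfsgLib.Coprime.exists_sylow_map_eq (p := q) hle (by
      rw [CfsgLib.Coprime.card_conj_map, hQdef, Subgroup.card_map_of_injective U.subtype_injective,
        S.card_eq_multiplicity])
    obtain ⟨⟨u, hu⟩, hu'⟩ := MulAction.exists_smul_eq U S T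
    have hTu : Q.map (MulAut.conj u).toMonoidHom = Q.map (MulAut.conj y).toMonoidHom := by
      rw [← hT, ← hu', CfsgLib.Coprime.map_smul_sylow]
    obtain ⟨l, hl, s, hs, rfl⟩ : u ∈ (L' : Set G) * (Q : Set G) := by
      rw [← Subgroup.coe_mul_of_right_le_normalizer_left L' Q hQN, hsup]; exact hu
    have hnQ : l⁻¹ * y ∈ Subgroup.normalizer (Q : Set G) := by
      refine CfsgLib.Coprime.mem_normalizer_of_conj_map_le fun a ha => ?_
      have h1 : y * a * y⁻¹ ∈ Q.map (MulAut.conj (l * s)).toMonoidHom := hTu.ge ⟨a, ha, rfl⟩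
      obtain ⟨b, hb, hb'⟩ := h1
      have h2 : l⁻¹ * y * a * (l⁻¹ * y)⁻¹ = s * b * s⁻¹ := by
        calc l⁻¹ * y * a * (l⁻¹ * y)⁻¹ = l⁻¹ * (y * a * y⁻¹) * l := by group
          _ = l⁻¹ * (l * s * b * (l * s)⁻¹) * l := by rw [← hb']; rfl
          _ = _ := by group
      rw [h2]
      exact mul_mem (mul_mem hs hb) (inv_mem hs)
    set n := l⁻¹ * y with hn
    have hφn : φ n = φ y := by
      rw [hn, map_mul, show φ l⁻¹ = 1 from (QuotientGroup.eq_one_iff _).2 (inv_mem hl), one_mul]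
    have hnπ : ∀ r : ℕ, r.Prime → r ∣ orderOf n → r ∈ π := by
      intro r hr hd
      have h1 : n ^ orderOf (φ n) ∈ L' := (QuotientGroup.eq_one_iff _).1 (by
        rw [QuotientGroup.mk_pow]; exact pow_orderOf_eq_one (φ n))
      have h2 : orderOf n ∣ orderOf (φ n) * Nat.card L' := orderOf_dvd_of_pow_eq_one (by
        rw [pow_mul]
        exact orderOf_dvd_iff_pow_eq_one.1 (Subgroup.orderOf_dvd_natCard L' h1))
      rcases hr.dvd_mul.1 (hd.trans h2) with h3 | h3
      · exact hy r hr ((hφn ▸ h3).trans (orderOf_map_dvd φ y))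
      · exact hL'π r hr h3
    have hnC : n ∈ Subgroup.centralizer (Q : Set G) := by
      by_cases hQb : Q = ⊥
      · rw [hQb]
        exact Subgroup.mem_centralizer_iff.2 fun w hw => by
          rw [SetLike.mem_coe, Subgroup.mem_bot] at hw
          rw [hw, one_mul, mul_one]
      have hQπ : ∀ p : ℕ, p.Prime → p ∣ Nat.card Q → p ∉ π := fun p hp hd => by
        obtain ⟨c, hc⟩ := IsPGroup.iff_card.1 hQq
        rw [hc] at hd
        exact (Nat.prime_dvd_prime_iff_eq hp hq).1 (hp.dvd_of_dvd_pow hd) ▸ hqπ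
      set N := Subgroup.normalizer (Q : Set G)
      set CQ := Subgroup.centralizer (Q : Set G)
      have h1 : n ^ CQ.relIndex N ∈ CQ := by
        haveI : (CQ.subgroupOf N).Normal := by
          refine ⟨fun c hc g => ?_⟩
          refine Subgroup.mem_centralizer_iff.2 fun a ha => ?_
          have hc' : (c : G) ∈ CQ := hc
          have ha' : (g : G)⁻¹ * a * g ∈ Q := by
            simpa using (Subgroup.mem_normalizer_iff.1 (inv_mem g.2) a).1 ha
          have := Subgroup.mem_centralizer_iff.1 hc' _ ha'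
          calc a * ((g : G) * c * (g : G)⁻¹) = g * ((g : G)⁻¹ * a * g * c) * (g : G)⁻¹ := by group
            _ = g * (c * ((g : G)⁻¹ * a * g)) * (g : G)⁻¹ := by rw [this]
            _ = _ := by simp [mul_assoc]
        have := Subgroup.pow_index_mem (CQ.subgroupOf N) (⟨n, hnQ⟩ : N)
        simpa [Subgroup.mem_subgroupOf, Subgroup.relIndex] using this
      have hcop' : (CQ.relIndex N).Coprime (orderOf n) :=
        Nat.coprime_of_dvd fun r hr h3 h4 => hhom Q hQb hQπ r hr h3 (hnπ r hr h4)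
      obtain ⟨j, hj⟩ := exists_pow_eq_self_of_coprime hcop'
      exact hj ▸ pow_mem h1 j
    intro p hp
    have hpU : p ∈ U.map φ := by
      rw [hU, Subgroup.map_comap_eq_self_of_surjective hφs]; exact hp
    obtain ⟨w, hw, rfl⟩ := hpU
    obtain ⟨l₁, hl₁, s₁, hs₁, rfl⟩ : w ∈ (L' : Set G) * (Q : Set G) := by
      rw [← Subgroup.coe_mul_of_right_le_normalizer_left L' Q hQN, hsup]; exact hw
    rw [Subgroup.mem_centralizer_singleton_iff, map_mul,
      show φ l₁ = 1 from (QuotientGroup.eq_one_iff _).2 hl₁, one_mul, ← hφn, ← map_mul, ← map_mul,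
      Subgroup.mem_centralizer_iff.1 hnC s₁ hs₁]
  -- the subgroup of `π`-elements of `G / L'`
  let ψ : (G ⧸ L') →* G ⧸ K := QuotientGroup.map L' K (MonoidHom.id G) hL'K
  set T := LQ.comap ψ ⊓ Subgroup.centralizer (Kb : Set (G ⧸ L')) with hT
  set Z := Kb.subgroupOf T with hZ
  have hψker : ∀ w : G ⧸ L', ψ w = 1 → w ∈ Kb := by
    intro w hw
    obtain ⟨v, rfl⟩ := hφs w
    exact ⟨v, (QuotientGroup.eq_one_iff v).1 hw, rfl⟩
  have hTidx : ∀ p : ℕ, p.Prime → p ∣ Z.index → p ∈ π := by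
    intro p hp hd
    haveI := Fact.mk hp
    haveI : Z.Normal := inferInstance
    obtain ⟨z, hz⟩ := exists_prime_orderOf_dvd_card' (G := ↥T ⧸ Z) p hd
    obtain ⟨t, rfl⟩ := QuotientGroup.mk_surjective z
    have hmem : ψ (t : G ⧸ L') ∈ LQ := (Subgroup.mem_inf.1 t.2).1
    have h1 : (QuotientGroup.mk t : ↥T ⧸ Z) ^ orderOf (ψ (t : G ⧸ L')) = 1 := by
      rw [← QuotientGroup.mk_pow, QuotientGroup.eq_one_iff, hZ, Subgroup.mem_subgroupOf]
      refine hψker _ ?_
      rw [Subgroup.coe_pow, map_pow, pow_orderOf_eq_one]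
    exact (hLQ _).1 hmem p hp (hz ▸ orderOf_dvd_of_pow_eq_one h1)
  have hZπ : ∀ p : ℕ, p.Prime → p ∣ Nat.card Z → p ∉ π := fun p hp hd =>
    hKbπ p hp (hd.trans ((Nat.card_congr
      (MonoidHom.ofInjective (f := T.subtype.comp Z.subtype)
        (T.subtype_injective.comp Z.subtype_injective)).toEquiv).dvd.trans
      (Subgroup.card_dvd_of_le (by rintro _ ⟨w, rfl⟩; exact w.2))))
  obtain ⟨H, hH⟩ := Subgroup.exists_right_complement'_of_coprime (N := Z)
    (Nat.coprime_of_dvd fun r hr h1 h2 => hZπ r hr h1 (hTidx r hr h2))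
  have hZc : ∀ z ∈ Z, ∀ w : ↥T, z * w = w * z := fun z hz w => Subtype.ext
    (Subgroup.mem_centralizer_iff.1 (Subgroup.mem_inf.1 w.2).2 (z : G ⧸ L') hz)
  haveI hHn : H.Normal := by
    refine ⟨fun h hh w => ?_⟩
    obtain ⟨a, ha, b, hb, rfl⟩ : w ∈ (Z : Set ↥T) * (H : Set ↥T) := by
      rw [← Subgroup.normal_mul, hH.sup_eq_top]; exact Set.mem_univ w
    have h1 : a * b * h * (a * b)⁻¹ = b * h * b⁻¹ := by
      calc a * b * h * (a * b)⁻¹ = a * (b * h * b⁻¹) * a⁻¹ := by group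
        _ = _ := by rw [hZc a ha, mul_inv_cancel_right]
    show a * b * h * (a * b)⁻¹ ∈ H
    rw [h1]
    exact mul_mem (mul_mem hb hh) (inv_mem hb)
  refine ⟨(H.map T.subtype).comap φ, fun x => ⟨fun hx p hp hd => ?_, fun hx => ?_⟩⟩
  · have h1 : φ x ∈ H.map T.subtype := hx
    have h2 : orderOf x ∣ orderOf (φ x) * Nat.card L' := orderOf_dvd_of_pow_eq_one (by
      rw [pow_mul]
      exact orderOf_dvd_iff_pow_eq_one.1 (Subgroup.orderOf_dvd_natCard L'
        ((QuotientGroup.eq_one_iff _).1 (by rw [QuotientGroup.mk_pow]; exact pow_orderOf_eq_one (φ x)))))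
    rcases hp.dvd_mul.1 (hd.trans h2) with h3 | h3
    · have h4 := h3.trans (Subgroup.orderOf_dvd_natCard _ h1)
      rw [Subgroup.card_map_of_injective T.subtype_injective] at h4
      exact hTidx p hp (hH.symm.index_eq_card.symm ▸ h4)
    · exact hL'π p hp h3
  · have hxT : φ x ∈ T := Subgroup.mem_inf.2 ⟨(hLQ _).2 (fun p hp hd =>
      hx p hp ((hd.trans (orderOf_map_dvd ψ (φ x))).trans (orderOf_map_dvd φ x))), hcent x hx⟩
    refine ⟨⟨φ x, hxT⟩, (QuotientGroup.eq_one_iff _).1 (orderOf_eq_one_iff.1 ?_), rfl⟩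
    refine Nat.eq_one_of_dvd_coprimes (a := orderOf x) (b := Nat.card (↥T ⧸ H))
      (Nat.coprime_of_dvd fun r hr h1 h2 => ?_) ?_ (orderOf_dvd_natCard _)
    · have h3 : r ∣ Nat.card Z := by
        rw [← hH.index_eq_card]
        exact h2
      exact hZπ r hr h3 (hx r hr h1)
    · exact (orderOf_map_dvd (QuotientGroup.mk' H) _).trans
        ((Subgroup.orderOf_mk (φ x) hxT).dvd.trans (orderOf_map_dvd φ x))

end Cfsg.Agent.S4051
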