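import Cfsg.Statements.S4050
import Cfsg.Agent.S4051
import Cfsg.Agent.Lib.Fusion.Basic

set_option autoImplicit false
open Cfsg
open scoped commutatorElement

namespace Cfsg.Agent.S4050

def PiClosed {G : Type*} [Group G] (π : Set ℕ) (H : Subgroup G) : Prop :=
  ∃ L : Subgroup H, ∀ x : H, x ∈ L ↔ ∀ p : ℕ, p.Prime → p ∣ orderOf x → p ∈ π

theorem closed_step {G : Type*} [Group G] [Finite G] (π : Set ℕ) (hπ : ∀ p ∈ π, p.Prime)
    (hhom : ∀ H : Subgroup G, H ≠ ⊥ → (∀ p : ℕ, p.Prime → p ∣ Nat.card ↥H → p ∉ π) →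
      ∀ p : ℕ, p.Prime → p ∣ (Subgroup.centralizer (H : Set G)).relIndex (Subgroup.normalizer (H : Set G)) → p ∉ π)
    (A B : Subgroup G) (hA : A.Normal) (hAB : A ≤ B) (ih : PiClosed π A)
    (hstep : (∀ q : ℕ, q.Prime → q ∣ A.relIndex B → q ∈ π) ∨ (∀ q : ℕ, q.Prime → q ∣ A.relIndex B → q ∉ π)) :
    PiClosed π B := by
  classical
  have hKn : (A.subgroupOf B).Normal := hA.subgroupOf B
  refine Cfsg.Agent.S4051.result π hπ ?_ (A.subgroupOf B) ?_ ?_
  · intro H hH hHπ p hp hd
    set H' := H.map B.subtype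
    have hH' : H' ≠ ⊥ := by
      rwa [Ne, Subgroup.map_eq_bot_iff_of_injective _ B.subtype_injective]
    refine hhom H' hH' (fun q hq hqd => hHπ q hq ?_) p hp (hd.trans ?_)
    · rwa [Subgroup.card_map_of_injective B.subtype_injective] at hqd
    · have e2 : Subgroup.centralizer (H : Set B) =
          (Subgroup.centralizer (H' : Set G)).comap B.subtype := by
        ext x
        simp only [Subgroup.mem_centralizer_iff, Subgroup.mem_comap]
        constructor
        · rintro h _ ⟨y, hy, rfl⟩; exact congrArg Subtype.val (h y hy)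
        · intro h y hy; exact Subtype.ext (h y ⟨y, hy, rfl⟩)
      have e1 : (Subgroup.normalizer (H : Set B)).map B.subtype ≤ Subgroup.normalizer (H' : Set G) :=
        Subgroup.le_normalizer_map B.subtype
      rw [e2, Subgroup.relIndex_comap]
      -- the automorphisms induced by `B` form a subgroup of those induced by `G`
      set C := Subgroup.centralizer (H' : Set G)
      set N := Subgroup.normalizer (H' : Set G)
      set N' := (Subgroup.normalizer (H : Set B)).map B.subtype
      have hCn : (C.subgroupOf N).Normal := by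
        rw [← Subgroup.normalizerMonoidHom_ker]; infer_instance
      rw [← Subgroup.relIndex_subgroupOf e1]
      exact Subgroup.relIndex_dvd_index_of_normal _ _
  · obtain ⟨L, hL⟩ := ih
    let e := Subgroup.subgroupOfEquivOfLe hAB
    refine ⟨L.comap e.toMonoidHom, fun x => ?_⟩
    rw [Subgroup.mem_comap, hL]
    show (∀ p : ℕ, p.Prime → p ∣ orderOf (e x) → p ∈ π) ↔ _
    rw [MulEquiv.orderOf_eq]
  · have key : ∀ x : B ⧸ A.subgroupOf B, orderOf x ∣ A.relIndex B := fun x => by
      rw [Subgroup.relIndex, Subgroup.index_eq_card]; exact orderOf_dvd_natCard x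
    rcases hstep with h | h
    · exact ⟨⊤, fun x => ⟨fun _ p hp hd => h p hp (hd.trans (key x)), fun _ => trivial⟩⟩
    · refine ⟨⊥, fun x => ⟨fun hx p hp hd => ?_, fun hx => ?_⟩⟩
      · rw [Subgroup.mem_bot.1 hx, orderOf_one] at hd
        exact absurd hd hp.not_dvd_one
      · rw [Subgroup.mem_bot, ← orderOf_eq_one_iff]
        by_contra h1
        obtain ⟨r, hr, hrd⟩ := Nat.exists_prime_and_dvd h1
        exact h r hr (hrd.trans (key x)) (hx r hr hrd)

/-- Let π be a set of primes and G a finite group. The π-elements of G (elements whose order is divisible only by primes of π) form a subgroup if and only if G is π-separable (it has a chain of normal subgroups from 1 to G with each successive index divisible only by primes in π or only by primes outside π) and N_G(H)/C_G(H) is a π'-group for every nontrivial π'-subgroup H of G. -/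
theorem result {G : Type*} [Group G] [Finite G] (π : Set ℕ)
    (hπ : ∀ p ∈ π, p.Prime) :
    (∃ K : Subgroup G, ∀ x : G, x ∈ K ↔ ∀ p : ℕ, p.Prime → p ∣ orderOf x → p ∈ π) ↔
    ((∃ (n : ℕ) (H : Fin (n + 1) → Subgroup G), H 0 = ⊥ ∧ H (Fin.last n) = ⊤ ∧ Monotone H ∧ (∀ i, (H i).Normal) ∧
      ∀ i : Fin n, (∀ q : ℕ, q.Prime → q ∣ (H i.castSucc).relIndex (H i.succ) → q ∈ π) ∨
        (∀ q : ℕ, q.Prime → q ∣ (H i.castSucc).relIndex (H i.succ) → q ∉ π)) ∧
     (∀ H : Subgroup G, H ≠ ⊥ → (∀ p : ℕ, p.Prime → p ∣ Nat.card ↥H → p ∉ π) →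
        ∀ p : ℕ, p.Prime → p ∣ (Subgroup.centralizer (H : Set G)).relIndex (Subgroup.normalizer (H : Set G)) → p ∉ π)) := by
  classical
  constructor
  · rintro ⟨K, hK⟩
    have hKn : K.Normal := ⟨fun x hx g => by
      rw [hK] at hx ⊢
      rw [← MulAut.conj_apply, MulEquiv.orderOf_eq]; exact hx⟩
    have hKπ : ∀ p : ℕ, p.Prime → p ∣ Nat.card K → p ∈ π := fun p hp hd => by
      have := Fact.mk hp
      obtain ⟨z, hz⟩ := exists_prime_orderOf_dvd_card' (G := K) p hd
      exact (hK z).1 z.2 p hp (by rw [Subgroup.orderOf_coe, hz])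
    have hKi : ∀ p : ℕ, p.Prime → p ∣ K.index → p ∉ π := fun p hp hd hpπ => by
      have := Fact.mk hp
      obtain ⟨P⟩ : Nonempty (Sylow p G) := inferInstance
      have hPK : (P : Subgroup G) ≤ K := fun x hx => (hK x).2 fun r hr hrd => by
        obtain ⟨k, hk⟩ := IsPGroup.iff_orderOf.1 P.isPGroup' ⟨x, hx⟩
        rw [Subgroup.orderOf_mk] at hk
        rw [hk] at hrd
        exact (Nat.prime_dvd_prime_iff_eq hr hp).1 (hr.dvd_of_dvd_pow hrd) ▸ hpπ
      exact P.not_dvd_index (hd.trans (Subgroup.index_dvd_of_le hPK))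
    refine ⟨⟨2, ![⊥, K, ⊤], rfl, rfl, ?_, ?_, ?_⟩, ?_⟩
    · refine Fin.monotone_iff_le_succ.2 fun i => ?_
      fin_cases i
      · exact bot_le
      · exact le_top
    · intro i
      fin_cases i
      · show (⊥ : Subgroup G).Normal; infer_instance
      · exact hKn
      · show (⊤ : Subgroup G).Normal; infer_instance
    · intro i
      fin_cases i
      · refine Or.inl fun q hq hqd => hKπ q hq ?_
        simpa [Subgroup.relIndex_bot_left] using hqd
      · refine Or.inr fun q hq hqd => hKi q hq ?_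
        simpa [Subgroup.relIndex_top_right] using hqd
    · intro H _ hH p hp hd hpπ
      have := Fact.mk hp
      set N := Subgroup.normalizer (H : Set G)
      set C := Subgroup.centralizer (H : Set G)
      obtain ⟨P⟩ : Nonempty (Sylow p N) := inferInstance
      refine P.not_dvd_index ((hd.trans dvd_rfl).trans (Subgroup.index_dvd_of_le ?_))
      intro x hx
      obtain ⟨k, hk⟩ := IsPGroup.iff_orderOf.1 P.isPGroup' ⟨x, hx⟩
      rw [Subgroup.orderOf_mk, ← Subgroup.orderOf_coe] at hk
      have hxK : (x : G) ∈ K := (hK _).2 fun r hr hrd => by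
        rw [hk] at hrd
        exact (Nat.prime_dvd_prime_iff_eq hr hp).1 (hr.dvd_of_dvd_pow hrd) ▸ hpπ
      refine Subgroup.mem_centralizer_iff.2 fun h hh => ?_
      have h1 : ⁅h, (x : G)⁆ ∈ K := by
        rw [commutatorElement_def]; exact mul_mem (hKn.conj_mem _ hxK h) (inv_mem hxK)
      have h2 : ⁅h, (x : G)⁆ ∈ H := by
        rw [commutatorElement_def, mul_assoc, mul_assoc]
        refine mul_mem hh ?_
        rw [← mul_assoc]
        exact (Subgroup.mem_normalizer_iff.1 x.2 h⁻¹).1 (inv_mem hh)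
      refine commutatorElement_eq_one_iff_mul_comm.1 (orderOf_eq_one_iff.1 ?_)
      by_contra h3
      obtain ⟨r, hr, hrd⟩ := Nat.exists_prime_and_dvd h3
      exact hH r hr (hrd.trans (Subgroup.orderOf_dvd_natCard H h2))
        (hKπ r hr (hrd.trans (Subgroup.orderOf_dvd_natCard K h1)))
  · rintro ⟨⟨n, H, h0, hn, hmono, hnorm, hstep⟩, hhom⟩
    suffices ∀ i, PiClosed π (H i) by
      obtain ⟨L, hL⟩ := this (Fin.last n)
      refine ⟨L.map (H (Fin.last n)).subtype, fun x => ⟨?_, fun hx => ?_⟩⟩
      · rintro ⟨y, hy, rfl⟩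
        have := (hL y).1 hy
        rwa [← Subgroup.orderOf_coe] at this
      · have hxH : x ∈ H (Fin.last n) := by rw [hn]; trivial
        exact ⟨⟨x, hxH⟩, (hL _).2 (by rw [Subgroup.orderOf_mk]; exact hx), rfl⟩
    intro i
    induction i using Fin.induction with
    | zero =>
      refine ⟨⊤, fun x => ⟨fun _ p hp hd => ?_, fun _ => trivial⟩⟩
      have hx : x = 1 := Subtype.ext (Subgroup.mem_bot.1 (h0 ▸ x.2))
      rw [hx, orderOf_one] at hd
      exact absurd hd hp.not_dvd_one
    | succ i ih =>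
      exact closed_step π hπ hhom (H i.castSucc) (H i.succ) (hnorm _)
        (hmono (Fin.castSucc_le_succ i)) ih (hstep i)

end Cfsg.Agent.S4050
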