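import Cfsg.Statements.S4052
import Cfsg.Agent.Lib.Fusion.PiHomogeneous.Main
-- import your own Cfsg.Agent.* helpers here

set_option autoImplicit false
open Cfsg

namespace Cfsg.Agent.S4052

/-- Let π be a set of primes and G a finite group whose maximal π-subgroups are pairwise conjugate (so Hall π-subgroups exist, any two are conjugate, and every π-subgroup lies in one of them), and suppose N_G(H)/C_G(H) is a π-group for every nontrivial π-subgroup H. If either 3 does not divide the order of G, or the π'-elements of every proper subgroup of G form a subgroup, then the π'-elements of G form a subgroup. -/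
theorem result {G : Type*} [Group G] [Finite G] (π : Set ℕ)
    (hπ : ∀ p ∈ π, p.Prime) (hD : Cfsg.IsDPiGroup π G) (hhom : (∀ H : Subgroup G, H ≠ ⊥ → (∀ p : ℕ, p.Prime → p ∣ Nat.card ↥H → p ∈ π) →
        ∀ p : ℕ, p.Prime → p ∣ (Subgroup.centralizer (H : Set G)).relIndex (Subgroup.normalizer (H : Set G)) → p ∈ π))
    (hcase : ¬ 3 ∣ Nat.card G ∨ ∀ M : Subgroup G, M ≠ ⊤ →
      ∃ L : Subgroup ↥M, ∀ x : ↥M, x ∈ L ↔ ∀ p : ℕ, p.Prime → p ∣ orderOf x → p ∉ π) :
    (∃ K : Subgroup G, ∀ x : G, x ∈ K ↔ ∀ p : ℕ, p.Prime → p ∣ orderOf x → p ∉ π) := by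
  open CfsgLib.Fusion.PiHomogeneous in
  classical
  obtain ⟨H, -, hH⟩ := Finite.exists_le_maximal (p := fun K : Subgroup G => Cfsg.IsPiSubgroup π K) (a := ⊥)
    (fun q hq hd => absurd (Subgroup.card_bot (G := G) ▸ hd) hq.not_dvd_one)
  have hdom : ∀ U : Subgroup G, PiN π (Nat.card U) → ∃ g : G, U.map (MulAut.conj g).toMonoidHom ≤ H := by
    intro U hU
    obtain ⟨M, hUM, hM⟩ := Finite.exists_le_maximal (p := fun K : Subgroup G => Cfsg.IsPiSubgroup π K) hU
    obtain ⟨g, hg⟩ := hD M H hM hH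
    exact ⟨g, hg ▸ Subgroup.map_mono hUM⟩
  have hS : Setup π H := by
    refine ⟨hπ, hH.1, fun p hp => ?_, hdom, hhom⟩
    haveI : Fact p.Prime := ⟨hπ p hp⟩
    obtain ⟨P⟩ : Nonempty (Sylow p G) := inferInstance
    obtain ⟨g, hg⟩ := hdom P (by rw [P.card_eq_multiplicity]; exact piN_prime_pow (hπ p hp) hp _)
    exact fun hd => (g • P).not_dvd_index (hd.trans (Subgroup.index_dvd_of_le hg))
  obtain ⟨K, -, hK⟩ := exists_complement hS
  exact ⟨K, hK⟩

end Cfsg.Agent.S4052
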