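import Cfsg.Statements.S4056
import Cfsg.Agent.Lib.LocalEven.Residual

set_option autoImplicit false
open Cfsg
open scoped commutatorElement

namespace Cfsg.Agent.S4056

/-- In a finite 2-group of nilpotency class at most 2 and exponent dividing 4, the Frattini subgroup lies in the centre and is elementary abelian. -/
theorem result {P : Type*} [Group P] [Finite P] (hP : IsPGroup 2 P)
    (hcl : Group.nilpotencyClass P ≤ 2) (hexp : Monoid.exponent P ∣ 4) :
    frattini P ≤ Subgroup.center P ∧ Cfsg.IsElementaryAbelian 2 (frattini P) := by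
  haveI : Fact (Nat.Prime 2) := ⟨Nat.prime_two⟩
  haveI := hP.isNilpotent
  have hcen : ∀ a b : P, ⁅a, b⁆ ∈ Subgroup.center P := fun a b => by
    have h1 : (⊤ : Subgroup P).lowerCentralSeries 2 = ⊥ :=
      Subgroup.lowerCentralSeries_eq_bot_iff_nilpotencyClass_le.mpr hcl
    rw [Subgroup.mem_center_iff]
    intro g
    have h2 : ⁅a, b⁆ ∈ (⊤ : Subgroup P).lowerCentralSeries 1 :=
      Subgroup.commutator_mem_commutator (Subgroup.mem_top _) (Subgroup.mem_top _)
    have h3 : ⁅⁅a, b⁆, g⁆ ∈ (⊤ : Subgroup P).lowerCentralSeries 2 :=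
      Subgroup.commutator_mem_commutator h2 (Subgroup.mem_top g)
    rw [h1, Subgroup.mem_bot, commutatorElement_eq_one_iff_mul_comm] at h3
    exact h3.symm
  have h4 : ∀ a : P, a ^ 4 = 1 := fun a =>
    orderOf_dvd_iff_pow_eq_one.mp ((Monoid.order_dvd_exponent a).trans hexp)
  have hsq : ∀ a b : P, ⁅a, b⁆ ^ 2 = 1 := by
    intro a b
    set c := ⁅b, a⁆ with hc
    have hcc : ∀ g : P, Commute g c := fun g => Subgroup.mem_center_iff.mp (hcen b a) g
    have hba : b * a = a * b * c := by
      rw [(hcc (a * b)).eq, hc, commutatorElement_def]; group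
    have h2 : (a * b) ^ 2 = a ^ 2 * b ^ 2 * c := by
      calc (a * b) ^ 2 = a * (b * a) * b := by rw [pow_two]; group
        _ = a * (a * b * c) * b := by rw [hba]
        _ = a * a * b * (c * b) := by group
        _ = a * a * b * (b * c) := by rw [(hcc b).eq]
        _ = _ := by rw [pow_two, pow_two]; group
    have h22 : b ^ 2 * a ^ 2 = a ^ 2 * b ^ 2 * c ^ 4 := by
      have hba2 : b * a ^ 2 = a ^ 2 * b * c ^ 2 := by
        calc b * a ^ 2 = b * a * a := by rw [pow_two, mul_assoc]
          _ = a * b * c * a := by rw [hba]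
          _ = a * (b * a) * c := by rw [mul_assoc (a * b), ← (hcc a).eq]; group
          _ = a * (a * b * c) * c := by rw [hba]
          _ = _ := by rw [pow_two, pow_two]; group
      calc b ^ 2 * a ^ 2 = b * (b * a ^ 2) := by rw [pow_two, mul_assoc]
        _ = b * (a ^ 2 * b * c ^ 2) := by rw [hba2]
        _ = b * a ^ 2 * b * c ^ 2 := by group
        _ = a ^ 2 * b * c ^ 2 * b * c ^ 2 := by rw [hba2]
        _ = a ^ 2 * b * (c ^ 2 * b) * c ^ 2 := by group
        _ = a ^ 2 * b * (b * c ^ 2) * c ^ 2 := by rw [((hcc b).pow_right 2).eq]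
        _ = _ := by rw [pow_two b]; group
    rw [h4 c, mul_one] at h22
    have h6 : c ^ 2 = 1 := by
      have hc' : Commute (a ^ 2 * b ^ 2) c := hcc _
      have hab : Commute (a ^ 2) (b ^ 2) := h22.symm
      have e := h4 (a * b)
      rw [show (4 : ℕ) = 2 * 2 from rfl, pow_mul, h2, hc'.mul_pow, hab.mul_pow, ← pow_mul, ← pow_mul,
        h4, h4, one_mul, one_mul] at e
      exact e
    rw [← commutatorElement_inv, ← hc, inv_pow, h6, inv_one]
  have hsqc : ∀ a : P, a ^ 2 ∈ Subgroup.center P := fun a => Subgroup.mem_center_iff.mpr fun g => by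
    set c := ⁅g, a⁆ with hc
    have hcc : ∀ y : P, Commute y c := fun y => Subgroup.mem_center_iff.mp (hcen g a) y
    have hga : g * a = c * (a * g) := by rw [hc, commutatorElement_def]; group
    calc g * a ^ 2 = g * a * a := by rw [pow_two, mul_assoc]
      _ = c * (a * g) * a := by rw [hga]
      _ = c * a * (g * a) := by group
      _ = c * a * (c * (a * g)) := by rw [hga]
      _ = c * (a * c) * (a * g) := by group
      _ = c * (c * a) * (a * g) := by rw [(hcc a).eq]
      _ = c ^ 2 * (a ^ 2 * g) := by rw [pow_two, pow_two]; group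
      _ = _ := by rw [hc, hsq, one_mul]
  let S : Subgroup P :=
    { carrier := {a | a ∈ Subgroup.center P ∧ a ^ 2 = 1}
      one_mem' := ⟨one_mem _, one_pow _⟩
      mul_mem' := fun {a b} ha hb => ⟨mul_mem ha.1 hb.1, by
        rw [(show Commute a b from Subgroup.mem_center_iff.mp hb.1 a).mul_pow, ha.2, hb.2, one_mul]⟩
      inv_mem' := fun {a} ha => ⟨inv_mem ha.1, by rw [inv_pow, ha.2, inv_one]⟩ }
  have hle : frattini P ≤ S :=
    CfsgLib.LocalEven.Residual.frattini_le (p := 2) (fun a b => ⟨hcen a b, hsq a b⟩)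
      fun a => ⟨hsqc a, by rw [← pow_mul]; exact h4 a⟩
  refine ⟨fun a ha => (hle ha).1, ⟨⟨⟨fun a b => ?_⟩⟩, fun a ha => (hle ha).2⟩⟩
  exact Subtype.ext (Subgroup.mem_center_iff.mp (hle b.2).1 a)

end Cfsg.Agent.S4056
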