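import Cfsg.Statements.S4057
import Cfsg.Agent.S0130
import Cfsg.Agent.Lib.PGroup.RankBound

set_option autoImplicit false
set_option linter.style.haveILetI false
open Cfsg

namespace Cfsg.Agent.S4057

/-- Let p be an odd prime and P a finite p-group in which every normal abelian subgroup can be generated by k elements. Then every subgroup of P can be generated by at most ⌊k(k+4)/4⌋ elements. -/
theorem result {P : Type*} [Group P] [Finite P] {p : ℕ} [Fact p.Prime]
    (hp : p ≠ 2) (hP : IsPGroup p P) (k : ℕ)
    (hab : ∀ A : Subgroup P, A.Normal → IsMulCommutative A → ∃ S : Finset P, S.card ≤ k ∧ Subgroup.closure (S : Set P) = A) :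
    ∀ H : Subgroup P, ∃ S : Finset P, S.card ≤ k * (k + 4) / 4 ∧ Subgroup.closure (S : Set P) = H := by
  classical
  intro H
  have hpp : p.Prime := Fact.out
  -- a maximal normal elementary abelian subgroup
  obtain ⟨E, ⟨hEn, hEc, hEe⟩, hEmax⟩ := Set.Finite.exists_maximal
    (Set.toFinite {E : Subgroup P | E.Normal ∧ IsMulCommutative E ∧ ∀ a ∈ E, a ^ p = 1})
    ⟨⊥, inferInstance, ⟨⟨fun a b => Subsingleton.elim _ _⟩⟩, fun a ha => by rw [Subgroup.mem_bot.mp ha, one_pow]⟩
  haveI := hEn
  have hmem : ∀ x ∈ Subgroup.centralizer (E : Set P), x ^ p = 1 → x ∈ E := fun x hx hxp =>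
    Cfsg.Agent.S0130.result hP 1 (by rw [pow_one]; exact hp) E hEc (fun a ha => by rw [pow_one]; exact hEe a ha)
      (fun B hBn hBc hBe hle => le_antisymm (hEmax ⟨hBn, hBc, fun b hb => by
        have := hBe b hb; rwa [pow_one] at this⟩ hle) hle) x hx (by rw [pow_one]; exact hxp)
  letI : CommGroup E := { (inferInstance : Group E) with mul_comm := hEc.is_comm.comm }
  have hexp : ∀ a : E, a ^ p = 1 := fun a => Subtype.ext (by
    rw [SubmonoidClass.coe_pow, OneMemClass.coe_one]; exact hEe a a.2)
  have hEcard : Nat.card E ≤ p ^ k := by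
    obtain ⟨S, hS, hgen⟩ := hab E hEn hEc
    have hSE : ∀ s ∈ S, s ∈ E := fun s hs => hgen ▸ Subgroup.subset_closure hs
    set S' : Finset E := S.attach.image fun s => (⟨s.1, hSE _ s.2⟩ : E)
    have htop : Subgroup.closure (S' : Set E) = ⊤ := by
      refine Subgroup.map_injective E.subtype_injective ?_
      rw [MonoidHom.map_closure, ← MonoidHom.range_eq_map, Subgroup.range_subtype]
      refine Eq.trans ?_ hgen
      congr 1
      ext x
      simp only [S', Set.mem_image, Finset.mem_coe, Finset.mem_image, Finset.mem_attach, true_and,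
        Subtype.exists, Subgroup.coe_subtype]
      constructor
      · rintro ⟨a, ha, ⟨b, hb, h1⟩, rfl⟩
        have : b = a := congrArg Subtype.val h1
        rwa [← this]
      · exact fun hx => ⟨x, hSE x hx, ⟨x, hx, rfl⟩, rfl⟩
    have h := CfsgLib.PGroup.RankBound.card_closure_le hexp S'
    rw [htop, Subgroup.card_top] at h
    exact h.trans (Nat.pow_le_pow_right hpp.pos (Finset.card_image_le.trans (by
      rw [Finset.card_attach]; exact hS)))
  obtain ⟨e, M, hek, hM, hMker⟩ := CfsgLib.PGroup.RankBound.exists_matrix hexp hEcard (hP.to_subgroup H)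
    ((MulAut.conjNormal (H := E)).comp H.subtype)
  have hker : ∀ g : H, g ∈ M.ker → (g : P) ∈ Subgroup.centralizer (E : Set P) := by
    intro g hg
    rw [Subgroup.mem_centralizer_iff]
    intro a ha
    have h3 := congrArg Subtype.val (DFunLike.congr_fun (hMker hg) (⟨a, ha⟩ : E))
    simp only [MonoidHom.coe_comp, Function.comp_apply, Subgroup.coe_subtype, MulAut.conjNormal_apply,
      MulAut.one_apply] at h3
    exact (mul_inv_eq_iff_eq_mul.mp h3).symm
  set D : Subgroup P := M.ker.map H.subtype with hD
  have hDC : ∀ x ∈ D, x ∈ Subgroup.centralizer (E : Set P) := by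
    rintro _ ⟨g, hg, rfl⟩
    exact hker g hg
  obtain ⟨T, hT, hTgen⟩ := CfsgLib.PGroup.RankBound.gens_of_central hp hP (M := D) (A := E)
    (fun u hu hup m hm => ((Subgroup.mem_centralizer_iff.mp (hDC m hm)) u (hmem u (hDC u hu) hup)))
    (fun u hu hup => hmem u (hDC u hu) hup) hEcard
  obtain ⟨S, hS, hSgen⟩ := CfsgLib.PGroup.RankBound.gens_unitriangular M hM (hP.to_subgroup H)
  refine ⟨S.image H.subtype ∪ T.image D.subtype, ?_, ?_⟩
  · refine (Finset.card_union_le _ _).trans ((Nat.add_le_add Finset.card_image_le Finset.card_image_le).trans ?_)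
    have h1 : e * e / 4 ≤ k * k / 4 := Nat.div_le_div_right (Nat.mul_le_mul hek hek)
    have h2 : k * (k + 4) / 4 = k * k / 4 + k := by
      rw [mul_add, Nat.add_mul_div_right _ _ (by norm_num : 0 < 4)]
    omega
  · rw [Finset.coe_union, Finset.coe_image, Finset.coe_image, Subgroup.closure_union, ← MonoidHom.map_closure,
      ← MonoidHom.map_closure, hTgen, ← MonoidHom.range_eq_map, Subgroup.range_subtype, hD, ← Subgroup.map_sup,
      hSgen, ← MonoidHom.range_eq_map, Subgroup.range_subtype]

end Cfsg.Agent.S4057
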