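import Cfsg.Statements.S4058
import Cfsg.Agent.Lib.Frobenius.SquareRoots
import Cfsg.Agent.Lib.Char.Integral
import Cfsg.Agent.Lib.PGroup.Frattini

set_option autoImplicit false
open Cfsg
open scoped ComplexConjugate

namespace Cfsg.Agent.S4058

/-- Let G be a finite 2-group with #(G/Φ(G)) ≥ 2^(2k+1). Then the number of elements x of G with x² = 1 is divisible by 2^(k+1). -/
theorem result {G : Type*} [Group G] [Finite G] (hG : IsPGroup 2 G) (k : ℕ)
    (hgen : 2 ^ (2 * k + 1) ≤ Nat.card (G ⧸ frattini G)) :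
    2 ^ (k + 1) ∣ Nat.card {x : G // x ^ 2 = 1} := by
  classical
  haveI : Fact (Nat.Prime 2) := ⟨Nat.prime_two⟩
  haveI : Fintype G := Fintype.ofFinite G
  let Gb := G ⧸ frattini G
  letI : CommGroup Gb :=
    { (inferInstance : Group Gb) with mul_comm := CfsgLib.PGroup.Frattini.quotient_mul_comm hG }
  haveI : NeZero (Monoid.exponent Gb : ℂ) := ⟨by exact_mod_cast Monoid.exponent_ne_zero_of_finite⟩
  let V := Gb →* ℂˣ
  haveI : Finite V := Finite.of_equiv Gb
    (CommGroup.monoidHom_mulEquiv_of_hasEnoughRootsOfUnity Gb ℂ).some.symm.toEquiv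
  have hV : Nat.card V = Nat.card Gb :=
    CommGroup.card_monoidHom_of_hasEnoughRootsOfUnity Gb ℂ
  let lf : V → G → ℂ := fun v g => ((v (QuotientGroup.mk g) : ℂˣ) : ℂ)
  have hlf : ∀ v, Cfsg.IsIrrCharacter G (lf v) := fun v =>
    CfsgLib.Char.isIrrCharacter_hom (v.comp (QuotientGroup.mk' _))
  have hsq : ∀ (v : V) (g : G), lf v g * lf v g = 1 := fun v g => by
    rw [show lf v g * lf v g = ((v ((QuotientGroup.mk g : Gb) ^ 2) : ℂˣ) : ℂ) by
      simp [lf, sq], CfsgLib.PGroup.Frattini.quotient_pow_eq_one hG, map_one, Units.val_one]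
  have hreal : ∀ (v : V) (g : G), conj (lf v g) = lf v g := fun v g => by
    rcases mul_self_eq_one_iff.mp (hsq v g) with h | h <;> simp [h]
  have hlinj : Function.Injective lf := fun v w h => MonoidHom.ext fun x => by
    induction x using QuotientGroup.induction_on with
    | _ g => exact Units.ext (congrFun h g)
  -- twisting by a real linear character
  have htw : ∀ (v : V) (χ : G → ℂ), Cfsg.IsIrrCharacter G χ →
      Cfsg.IsIrrCharacter G (fun g => lf v g * χ g) := fun v χ hχ => by
    refine CfsgLib.Frobenius.SquareRoots.isIrrCharacter_of_norm_one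
      (CfsgLib.Char.IsCharacter.mul (CfsgLib.Char.IsIrrCharacter.isCharacter (hlf v))
        (CfsgLib.Char.IsIrrCharacter.isCharacter hχ)) ?_
    rw [← CfsgLib.Char.classInner_irr_self hχ, Cfsg.classInner, Cfsg.classInner]
    congr 1
    refine Finset.sum_congr rfl fun g _ => ?_
    rw [map_mul, hreal]
    linear_combination (χ g * conj (χ g)) * hsq v g
  letI : MulAction V (Cfsg.IrrCharacter G) :=
    { smul := fun v χ => ⟨fun g => lf v g * (χ : G → ℂ) g, htw v χ χ.2⟩
      one_smul := fun χ => Subtype.ext (funext fun g => by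
        show ((1 : ℂˣ) : ℂ) * (χ : G → ℂ) g = _
        rw [Units.val_one, one_mul])
      mul_smul := fun v w χ => Subtype.ext (funext fun g => by
        show ((v (QuotientGroup.mk g) * w (QuotientGroup.mk g) : ℂˣ) : ℂ) * (χ : G → ℂ) g
          = lf v g * (lf w g * (χ : G → ℂ) g)
        rw [Units.val_mul, mul_assoc]) }
  have hsmul : ∀ (v : V) (χ : Cfsg.IrrCharacter G) (g : G),
      ((v • χ : Cfsg.IrrCharacter G) : G → ℂ) g = lf v g * (χ : G → ℂ) g := fun _ _ _ => rfl
  choose ind hind using fun χ : Cfsg.IrrCharacter G =>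
    CfsgLib.Frobenius.SquareRoots.exists_int_indicator (CfsgLib.Char.isCharacter_irr χ)
  choose deg hdeg hdvd using fun χ : Cfsg.IrrCharacter G =>
    CfsgLib.Char.IsIrrCharacter.apply_one_dvd_card χ.2
  have hindeq : ∀ (v : V) χ, ind (v • χ) = ind χ := fun v χ => by
    have : ((ind (v • χ) : ℤ) : ℂ) = (ind χ : ℂ) := by
      rw [← hind, ← hind]
      congr 1
      refine Finset.sum_congr rfl fun g _ => ?_
      have h1 : lf v (g ^ 2) = 1 := by
        rw [← hsq v g]; simp [lf, sq]
      rw [hsmul, h1, one_mul]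
    exact_mod_cast this
  have hdegeq : ∀ (v : V) χ, deg (v • χ) = deg χ := fun v χ => by
    have : ((deg (v • χ) : ℕ) : ℂ) = (deg χ : ℂ) := by
      rw [← hdeg, ← hdeg, hsmul]; simp [lf]
    exact_mod_cast this
  -- the stabilizer of `χ` is no larger than `χ(1)²`
  have hstab : ∀ χ : Cfsg.IrrCharacter G,
      Nat.card (MulAction.stabilizer V χ) ≤ deg χ * deg χ := by
    intro χ
    haveI : Fintype (MulAction.stabilizer V χ) := Fintype.ofFinite _
    let ψ : G → ℂ := fun g => (χ : G → ℂ) g * conj ((χ : G → ℂ) g)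
    have hψ : Cfsg.IsCharacter G ψ := CfsgLib.Char.IsCharacter.mul
      (CfsgLib.Char.isCharacter_irr χ) (CfsgLib.Char.IsCharacter.conj' (CfsgLib.Char.isCharacter_irr χ))
    choose n hn using fun φ : Cfsg.IrrCharacter G =>
      CfsgLib.Char.IsCharacter.classInner_nat hψ (CfsgLib.Char.isCharacter_irr φ)
    let j : MulAction.stabilizer V χ → Cfsg.IrrCharacter G := fun v => ⟨lf v.1, hlf v.1⟩
    have hj : Function.Injective j := fun v w h =>
      Subtype.ext (hlinj (congrArg Subtype.val h))
    have hone : ∀ v, n (j v) = 1 := fun v => by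
      have h : ((n (j v) : ℕ) : ℂ) = 1 := by
        rw [← hn, ← CfsgLib.Char.classInner_irr_self χ.2, Cfsg.classInner, Cfsg.classInner]
        congr 1
        refine Finset.sum_congr rfl fun g _ => ?_
        have hfix : lf v.1 g * (χ : G → ℂ) g = (χ : G → ℂ) g := by
          rw [← hsmul, v.2]
        show (χ : G → ℂ) g * conj ((χ : G → ℂ) g) * conj (lf v.1 g) = _
        rw [hreal]
        linear_combination (conj ((χ : G → ℂ) g)) * hfix
      exact_mod_cast h
    have htot : deg χ * deg χ = ∑ φ, n φ * deg φ := by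
      have e : ((deg χ * deg χ : ℕ) : ℂ) = ((∑ φ, n φ * deg φ : ℕ) : ℂ) := by
        have := congrFun (CfsgLib.Char.IsClassFunction.eq_sum_irr
          (CfsgLib.Char.IsCharacter.isClassFunction hψ)) 1
        simp only [Finset.sum_apply, Pi.smul_apply, smul_eq_mul] at this
        rw [Nat.cast_sum]
        simp only [Nat.cast_mul, ← hn, ← hdeg]
        rw [← this]
        show _ = (χ : G → ℂ) 1 * conj ((χ : G → ℂ) 1)
        rw [hdeg, Complex.conj_natCast]
      exact_mod_cast e
    have hd1 : ∀ v, deg (j v) = 1 := fun v => by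
      have h : ((deg (j v) : ℕ) : ℂ) = 1 := by rw [← hdeg]; simp [j, lf]
      exact_mod_cast h
    rw [htot, Nat.card_eq_fintype_card, ← Finset.card_univ, Finset.card_eq_sum_ones,
      Finset.sum_congr rfl (fun v _ => show (1 : ℕ) = n (j v) * deg (j v) by rw [hone, hd1]),
      ← Finset.sum_image (s := Finset.univ) (g := j) (f := fun φ => n φ * deg φ) (fun a _ b _ h => hj h)]
    exact Finset.sum_le_sum_of_subset (Finset.subset_univ _)
  -- each orbit contributes a multiple of `2 ^ (k + 1)`
  have horb : ∀ χ : Cfsg.IrrCharacter G,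
      2 ^ (k + 1) ∣ Nat.card (MulAction.orbit V χ) * deg χ := by
    intro χ
    have h2 : IsPGroup 2 V := (hG.to_quotient _).of_equiv
      (CommGroup.monoidHom_mulEquiv_of_hasEnoughRootsOfUnity Gb ℂ).some.symm
    obtain ⟨a, ha⟩ := h2.card_orbit χ
    obtain ⟨N, hN⟩ := IsPGroup.iff_card.mp hG
    have hdvd' : deg χ ∣ 2 ^ N := hN ▸ hdvd χ
    obtain ⟨b, -, hb⟩ := (Nat.dvd_prime_pow Nat.prime_two).mp hdvd'
    have horbit : Nat.card (MulAction.orbit V χ) * Nat.card (MulAction.stabilizer V χ) = Nat.card V := by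
      rw [← Nat.card_prod, Nat.card_congr (MulAction.orbitProdStabilizerEquivGroup V χ)]
    have hle : 2 ^ (2 * k + 1) ≤ 2 ^ (a + (b + b)) := by
      calc 2 ^ (2 * k + 1) ≤ Nat.card V := hV ▸ hgen
        _ ≤ Nat.card (MulAction.orbit V χ) * (deg χ * deg χ) :=
          horbit ▸ Nat.mul_le_mul_left _ (hstab χ)
        _ = 2 ^ (a + (b + b)) := by rw [ha, hb, pow_add, pow_add]
    have := (Nat.pow_le_pow_iff_right (by norm_num)).mp hle
    rw [ha, hb, ← pow_add]
    exact pow_dvd_pow 2 (by omega)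
  -- the count
  have hcount : (Nat.card {x : G // x ^ 2 = 1} : ℤ) =
      ∑ χ : Cfsg.IrrCharacter G, ind χ * (deg χ : ℤ) := by
    have h := CfsgLib.Frobenius.SquareRoots.card_square_roots (G := G)
    have e : ((Nat.card {x : G // x ^ 2 = 1} : ℤ) : ℂ) =
        ((∑ χ : Cfsg.IrrCharacter G, ind χ * (deg χ : ℤ) : ℤ) : ℂ) := by
      push_cast
      rw [h]
      refine Finset.sum_congr rfl fun χ _ => ?_
      rw [hind, hdeg, map_intCast]
    exact_mod_cast e
  have hdiv : ((2 ^ (k + 1) : ℕ) : ℤ) ∣ ∑ χ : Cfsg.IrrCharacter G, ind χ * (deg χ : ℤ) := by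
    rw [← Finset.sum_fiberwise (Finset.univ) (fun χ => Quotient.mk (MulAction.orbitRel V (Cfsg.IrrCharacter G)) χ)
      (fun χ => ind χ * (deg χ : ℤ))]
    refine Finset.dvd_sum fun q _ => ?_
    induction q using Quotient.inductionOn with
    | h χ =>
      have hfib : ∀ φ ∈ Finset.univ.filter (fun φ => Quotient.mk (MulAction.orbitRel V (Cfsg.IrrCharacter G)) φ
          = Quotient.mk (MulAction.orbitRel V (Cfsg.IrrCharacter G)) χ),
          ind φ * (deg φ : ℤ) = ind χ * (deg χ : ℤ) := by
        intro φ hφ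
        obtain ⟨v, hv⟩ := MulAction.orbitRel_apply.mp (Quotient.exact (Finset.mem_filter.mp hφ).2)
        subst hv
        rw [hindeq, hdegeq]
      rw [Finset.sum_congr rfl hfib, Finset.sum_const, nsmul_eq_mul]
      have hcard : (Finset.univ.filter (fun φ => Quotient.mk (MulAction.orbitRel V (Cfsg.IrrCharacter G)) φ
          = Quotient.mk (MulAction.orbitRel V (Cfsg.IrrCharacter G)) χ)).card
          = Nat.card (MulAction.orbit V χ) := by
        rw [Nat.card_eq_card_finite_toFinset (Set.toFinite _)]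
        congr 1
        ext φ
        simp [MulAction.orbitRel_apply, Quotient.eq]
      rw [hcard, show (Nat.card (MulAction.orbit V χ) : ℤ) * (ind χ * (deg χ : ℤ))
        = ind χ * ((Nat.card (MulAction.orbit V χ) * deg χ : ℕ) : ℤ) by push_cast; ring]
      exact Dvd.dvd.mul_left (Int.natCast_dvd_natCast.mpr (horb χ)) _
  rw [← hcount] at hdiv
  exact Int.natCast_dvd_natCast.mp hdiv

end Cfsg.Agent.S4058
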