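import Cfsg.Statements.S4059


set_option autoImplicit false
open Cfsg
open scoped commutatorElement

namespace Cfsg.Agent.S4059

/-- Let G be a finite group in which every element is conjugate to its inverse. Then: every non-identity element commuting with all elements of some Sylow 2-subgroup is an involution; the centre of G is an elementary abelian 2-group; the commutator quotient G/G' is an elementary abelian 2-group; and G is generated by its 2-elements. -/
theorem result {G : Type*} [Group G] [Finite G] (hamb : ∀ x : G, IsConj x x⁻¹) :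
    (∀ (S : Sylow 2 G) (x : G), x ∈ Subgroup.centralizer ((S : Subgroup G) : Set G) → x ≠ 1 → orderOf x = 2) ∧
    (∀ z : G, z ∈ Subgroup.center G → z ^ 2 = 1) ∧
    (∀ x : G, x ^ 2 ∈ commutator G) ∧
    Subgroup.closure {x : G | ∃ k : ℕ, orderOf x = 2 ^ k} = ⊤ := by
  have hinv : ∀ x : G, ∃ g : G, g * x * g⁻¹ = x⁻¹ := fun x => isConj_iff.mp (hamb x)
  haveI : Fact (Nat.Prime 2) := ⟨Nat.prime_two⟩
  refine ⟨fun S x hx hx1 => ?_, fun z hz => ?_, fun x => ?_, ?_⟩
  · -- an element centralising a Sylow 2-subgroup is an involution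
    set C := Subgroup.centralizer ({x} : Set G) with hC
    obtain ⟨g, hg⟩ := hinv x
    have hgx : g * x⁻¹ * g⁻¹ = x := by rw [← conj_inv, hg, inv_inv]
    have hidx : ¬ 2 ∣ C.index := fun hd => S.not_dvd_index
      (hd.trans (Subgroup.index_dvd_of_le fun s hs =>
        Subgroup.mem_centralizer_singleton_iff.mpr (Subgroup.mem_centralizer_iff.mp hx s hs)))
    have hgC : g ∈ C := by
      have hgN : g ∈ Subgroup.normalizer (C : Set G) := Subgroup.mem_normalizer_iff.mpr fun c => by
        simp only [hC, Subgroup.mem_centralizer_singleton_iff]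
        have key : g * c * g⁻¹ * x = g * (c * x⁻¹) * g⁻¹ ∧ x * (g * c * g⁻¹) = g * (x⁻¹ * c) * g⁻¹ :=
          ⟨by conv_lhs => rw [← hgx]
              group,
           by conv_lhs => rw [← hgx]
              group⟩
        rw [key.1, key.2, mul_left_inj, mul_right_inj]
        exact ⟨fun h => (Commute.inv_right (show Commute c x from h)).eq,
          fun h => (Commute.inv_right_iff.mp (show Commute c x⁻¹ from h)).eq⟩
      have hg2 : g ^ 2 ∈ C := Subgroup.mem_centralizer_singleton_iff.mpr (by
        refine mul_inv_eq_iff_eq_mul.mp ?_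
        calc g ^ 2 * x * (g ^ 2)⁻¹ = g * (g * x * g⁻¹) * g⁻¹ := by rw [pow_two]; group
          _ = x := by rw [hg]; exact hgx)
      set N := Subgroup.normalizer (C : Set G)
      have h2 : g ^ C.relIndex N ∈ C := by
        have := Subgroup.pow_index_mem (C.subgroupOf N) (⟨g, hgN⟩ : N)
        simpa [Subgroup.mem_subgroupOf, Subgroup.relIndex] using this
      obtain ⟨j, hj⟩ : Odd (C.relIndex N) := by
        rw [← Nat.not_even_iff_odd, even_iff_two_dvd]
        exact fun hd => hidx (hd.trans (Subgroup.relIndex_dvd_index_of_le Subgroup.le_normalizer))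
      rw [hj, pow_succ, pow_mul] at h2
      simpa using mul_mem (inv_mem (pow_mem hg2 j)) h2
    refine orderOf_eq_prime ?_ hx1
    rw [pow_two]
    exact mul_eq_one_iff_eq_inv.mpr (by
      rw [← hg, Subgroup.mem_centralizer_singleton_iff.mp hgC, mul_inv_cancel_right])
  · obtain ⟨g, hg⟩ := hinv z
    rw [pow_two]
    exact mul_eq_one_iff_eq_inv.mpr (by
      rw [← hg, Subgroup.mem_center_iff.mp hz g, mul_inv_cancel_right])
  · obtain ⟨g, hg⟩ := hinv x
    have h : ⁅g, x⁆ = (x ^ 2)⁻¹ := by
      rw [commutatorElement_def, hg, pow_two, mul_inv_rev]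
    have hmem : ⁅g, x⁆ ∈ commutator G :=
      Subgroup.commutator_mem_commutator (Subgroup.mem_top _) (Subgroup.mem_top _)
    rw [h] at hmem
    exact inv_mem_iff.mp hmem
  · set M := Subgroup.closure {x : G | ∃ k : ℕ, orderOf x = 2 ^ k} with hM
    haveI : M.Normal := by
      refine ⟨fun m hm g => ?_⟩
      suffices h : M.map (MulAut.conj g).toMonoidHom ≤ M from h ⟨m, hm, rfl⟩
      rw [hM, MonoidHom.map_closure]
      refine Subgroup.closure_mono ?_
      rintro _ ⟨y, ⟨k, hk⟩, rfl⟩
      exact ⟨k, by rw [← hk]; exact orderOf_injective _ (MulAut.conj g).injective y⟩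
    rw [eq_top_iff]
    intro x _
    obtain ⟨g, hg⟩ := hinv x
    obtain ⟨a, n, hn, hgn⟩ :=
      Nat.exists_eq_pow_mul_and_not_dvd (orderOf_pos g).ne' 2 (by norm_num)
    have hgM : g ^ n ∈ M := Subgroup.subset_closure (by
      obtain ⟨b, -, hb⟩ := (Nat.dvd_prime_pow Nat.prime_two).mp
        (orderOf_dvd_of_pow_eq_one (show (g ^ n) ^ 2 ^ a = 1 by
          rw [← pow_mul, mul_comm, ← hgn, pow_orderOf_eq_one]))
      exact ⟨b, hb⟩)
    have hpar : ∀ j : ℕ, g ^ j * x * (g ^ j)⁻¹ = if Even j then x else x⁻¹ := by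
      intro j
      induction j with
      | zero => simp
      | succ j ih =>
        rw [pow_succ', show g * g ^ j * x * (g * g ^ j)⁻¹ = g * (g ^ j * x * (g ^ j)⁻¹) * g⁻¹ by group,
          ih]
        rcases Nat.even_or_odd j with he | he
        · simp [he, Nat.even_add_one, hg]
        · simp [Nat.not_even_iff_odd.mpr he, Nat.even_add_one, ← conj_inv, hg]
    have hinvn : g ^ n * x * (g ^ n)⁻¹ = x⁻¹ := by
      rw [hpar, if_neg (fun h => hn (even_iff_two_dvd.mp h))]
    have hsq : x ^ 2 ∈ M := by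
      have h1 : ⁅g ^ n, x⁆ ∈ M := by
        rw [commutatorElement_def, show g ^ n * x * (g ^ n)⁻¹ * x⁻¹ =
          g ^ n * (x * (g ^ n)⁻¹ * x⁻¹) by group]
        exact mul_mem hgM (Subgroup.Normal.conj_mem inferInstance _ (inv_mem hgM) x)
      rw [commutatorElement_def, hinvn, ← mul_inv_rev, ← pow_two] at h1
      exact inv_mem_iff.mp h1
    obtain ⟨S⟩ : Nonempty (Sylow 2 G) := inferInstance
    have hSM : (S : Subgroup G) ≤ M := fun s hs => by
      obtain ⟨b, hb⟩ := IsPGroup.iff_orderOf.mp S.isPGroup' ⟨s, hs⟩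
      exact Subgroup.subset_closure ⟨b, by rw [← hb, Subgroup.orderOf_mk]⟩
    obtain ⟨j, hj⟩ : Odd M.index := by
      rw [← Nat.not_even_iff_odd, even_iff_two_dvd]
      exact fun hd => S.not_dvd_index (hd.trans (Subgroup.index_dvd_of_le hSM))
    have h2 := Subgroup.pow_index_mem M x
    rw [hj, pow_succ, pow_mul] at h2
    simpa using mul_mem (inv_mem (pow_mem hsq j)) h2

end Cfsg.Agent.S4059
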