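import Cfsg.Statements.S4060
import Cfsg.Agent.Lib.Solvable.Basic

set_option autoImplicit false
open Cfsg

namespace Cfsg.Agent.S4060

universe u

theorem aux : ∀ (k : ℕ) (G : Type u) [Group G] [Finite G] [Group.IsSolvable G], Nat.card G = k →
    ∀ (S : Sylow 2 G) (x : G), x ≠ 1 → Odd (orderOf x) →
      x ∈ Subgroup.normalizer ((S : Subgroup G) : Set G) → ¬ IsConj x x⁻¹ := by
  intro k
  induction k using Nat.strong_induction_on with
  | _ k ih =>
  intro G _ _ _ hk S x hx hodd hnorm hconj
  haveI : Fact (Nat.Prime 2) := ⟨Nat.prime_two⟩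
  haveI : Nontrivial G := ⟨⟨x, 1, hx⟩⟩
  obtain ⟨N, r, hr, hNn, hNb, -, -, hNr, -⟩ :=
    CfsgLib.Solvable.Basic.exists_minimal_normal_pgroup (G := G) (H := ⊤) top_ne_bot
  haveI := hNn
  haveI := Fact.mk hr
  by_cases hxN : x ∈ N
  · obtain ⟨g, hg⟩ := isConj_iff.1 hconj
    have hodd' : Odd (Nat.card N) := by
      obtain ⟨a, ha⟩ := IsPGroup.iff_card.1 hNr
      rw [ha]
      rcases hr.eq_two_or_odd' with h2 | h2
      · exfalso
        subst h2
        obtain ⟨b, hb⟩ := IsPGroup.iff_orderOf.1 hNr ⟨x, hxN⟩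
        rw [Subgroup.orderOf_mk] at hb
        rcases Nat.eq_zero_or_pos b with h0 | h0
        · exact hx (orderOf_eq_one_iff.1 (by rw [hb, h0, pow_zero]))
        · rw [hb] at hodd
          exact (Nat.not_even_iff_odd.2 hodd) ((Nat.even_pow).2 ⟨even_two, h0.ne'⟩)
      · exact h2.pow
    -- `x` centralises `S`
    have hxS : ∀ s ∈ (S : Subgroup G), s * x = x * s := by
      intro s hs
      set c := x * s * x⁻¹ * s⁻¹ with hc
      have h1 : c ∈ N := by
        rw [hc, show x * s * x⁻¹ * s⁻¹ = x * (s * x⁻¹ * s⁻¹) by group]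
        exact mul_mem hxN (hNn.conj_mem _ (inv_mem hxN) s)
      have h2 : c ∈ (S : Subgroup G) :=
        mul_mem ((Subgroup.mem_normalizer_iff.1 hnorm s).1 hs) (inv_mem hs)
      obtain ⟨a, ha⟩ := IsPGroup.iff_card.1 S.isPGroup'
      have h3 : orderOf c = 1 := Nat.eq_one_of_dvd_coprimes
        ((Nat.coprime_two_left.2 hodd').pow_left a)
        (ha ▸ Subgroup.orderOf_dvd_natCard _ h2) (Subgroup.orderOf_dvd_natCard _ h1)
      rw [orderOf_eq_one_iff, hc, mul_inv_eq_one, mul_inv_eq_iff_eq_mul] at h3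
      exact h3.symm
    set C := Subgroup.centralizer ({x} : Set G) with hC
    have hgC : g ∈ C := by
      have hgx : g * x⁻¹ * g⁻¹ = x := by rw [← conj_inv, hg, inv_inv]
      have hgN : g ∈ Subgroup.normalizer (C : Set G) := Subgroup.mem_normalizer_iff.mpr fun c => by
        simp only [hC, Subgroup.mem_centralizer_singleton_iff]
        have key : g * c * g⁻¹ * x = g * (c * x⁻¹) * g⁻¹ ∧ x * (g * c * g⁻¹) = g * (x⁻¹ * c) * g⁻¹ :=
          ⟨by conv_lhs => rw [← hgx]
              group,
           by conv_lhs => rw [← hgx]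
              group⟩
        rw [key.1, key.2, mul_left_inj, mul_right_inj]
        exact ⟨fun h => (Commute.inv_right (show Commute c x from h)).eq,
          fun h => (Commute.inv_right_iff.mp (show Commute c x⁻¹ from h)).eq⟩
      have hg2 : g ^ 2 ∈ C := Subgroup.mem_centralizer_singleton_iff.mpr (by
        refine mul_inv_eq_iff_eq_mul.mp ?_
        calc g ^ 2 * x * (g ^ 2)⁻¹ = g * (g * x * g⁻¹) * g⁻¹ := by rw [pow_two]; group
          _ = x := by rw [hg]; exact hgx)
      set M := Subgroup.normalizer (C : Set G)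
      have h2 : g ^ C.relIndex M ∈ C := by
        have := Subgroup.pow_index_mem (C.subgroupOf M) (⟨g, hgN⟩ : M)
        simpa [Subgroup.mem_subgroupOf, Subgroup.relIndex] using this
      obtain ⟨j, hj⟩ : Odd (C.relIndex M) := by
        rw [← Nat.not_even_iff_odd, even_iff_two_dvd]
        exact fun hd => S.not_dvd_index ((hd.trans (Subgroup.relIndex_dvd_index_of_le Subgroup.le_normalizer)).trans
          (Subgroup.index_dvd_of_le fun s hs => Subgroup.mem_centralizer_singleton_iff.mpr (hxS s hs)))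
      rw [hj, pow_succ, pow_mul] at h2
      simpa using mul_mem (inv_mem (pow_mem hg2 j)) h2
    rw [Subgroup.mem_centralizer_singleton_iff.1 hgC, mul_inv_cancel_right] at hg
    have h2 : orderOf x ∣ 2 := orderOf_dvd_of_pow_eq_one (by
      rw [pow_two]; exact mul_eq_one_iff_eq_inv.2 hg)
    rcases (Nat.dvd_prime Nat.prime_two).1 h2 with h | h
    · exact hx (orderOf_eq_one_iff.1 h)
    · rw [h] at hodd; exact (Nat.not_even_iff_odd.2 hodd) even_two
  · set π := QuotientGroup.mk' N
    have hsurj : Function.Surjective π := QuotientGroup.mk'_surjective N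
    refine ih (Nat.card (G ⧸ N)) (hk ▸ CfsgLib.Solvable.Basic.card_quotient_lt N hNb) (G ⧸ N) rfl
      (S.mapSurjective hsurj) (π x) (fun h => hxN ((QuotientGroup.eq_one_iff x).1 h))
      (hodd.of_dvd_nat (orderOf_map_dvd π x)) ?_ ?_
    · rw [Sylow.coe_mapSurjective]
      exact Subgroup.le_normalizer_map π ⟨x, hnorm, rfl⟩
    · rw [← map_inv]
      exact π.map_isConj hconj

/-- Let G be a finite solvable group with Sylow 2-subgroup S, and let x ≠ 1 be an element of odd order normalizing S. Then x is not conjugate to its inverse in G. -/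
theorem result {G : Type*} [Group G] [Finite G] [Group.IsSolvable G]
    (S : Sylow 2 G) (x : G) (hx : x ≠ 1) (hodd : Odd (orderOf x))
    (hnorm : x ∈ Subgroup.normalizer ((S : Subgroup G) : Set G)) : ¬ IsConj x x⁻¹ := by
  exact aux _ G rfl S x hx hodd hnorm

end Cfsg.Agent.S4060
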