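import Cfsg.Statements.S4061
import Cfsg.Agent.Lib.Solvable.Basic
import Cfsg.Agent.Lib.Solvable.Cores
import Cfsg.Agent.Lib.Solvable.FrattiniFitting
import Cfsg.Agent.Lib.KnownA.AbelianSylow
import Cfsg.Agent.Lib.FrobRealize.Quaternion
import Cfsg.Agent.Lib.LocalEvenB.HSubgroup

set_option autoImplicit false
open Cfsg
open Subgroup
open scoped commutatorElement

namespace Cfsg.Agent.S4061

open Subgroup

theorem isConj_quotient {G : Type*} [Group G] {H : Type*} [Group H] (f : G →* H)
    (hf : Function.Surjective f) (hamb : ∀ x : G, IsConj x x⁻¹) : ∀ y : H, IsConj y y⁻¹ := fun y => by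
  obtain ⟨x, rfl⟩ := hf y
  simpa using MonoidHom.map_isConj f (hamb x)

/-- A real element is inverted by a `2`-element. -/
theorem exists_two_inverting {G : Type*} [Group G] [Finite G] {x : G} (h : IsConj x x⁻¹) :
    ∃ g : G, (∃ k, orderOf g = 2 ^ k) ∧ g * x * g⁻¹ = x⁻¹ := by
  obtain ⟨c, hc⟩ := isConj_iff.mp h
  have hpow : ∀ m : ℕ, c ^ (2 * m + 1) * x * (c ^ (2 * m + 1))⁻¹ = x⁻¹ := by
    intro m
    induction m with
    | zero => simpa using hc
    | succ m ih =>
      calc c ^ (2 * (m + 1) + 1) * x * (c ^ (2 * (m + 1) + 1))⁻¹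
          = c * (c * (c ^ (2 * m + 1) * x * (c ^ (2 * m + 1))⁻¹) * c⁻¹) * c⁻¹ := by
            rw [show 2 * (m + 1) + 1 = 2 * m + 1 + 1 + 1 by ring, pow_succ' c (2 * m + 1 + 1), pow_succ' c (2 * m + 1)]
            group
        _ = c * (c * x * c⁻¹)⁻¹ * c⁻¹ := by rw [ih]; group
        _ = x⁻¹ := by rw [hc, inv_inv, hc]
  have hr : Odd (ordCompl[2] (orderOf c)) := by
    rw [Nat.odd_iff]
    have := Nat.not_dvd_ordCompl Nat.prime_two (orderOf_pos c).ne'
    omega
  obtain ⟨m, hm⟩ := hr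
  refine ⟨c ^ (2 * m + 1), ⟨(orderOf c).factorization 2, ?_⟩, hpow m⟩
  rw [← hm, orderOf_pow' _ (by rw [hm]; omega), Nat.gcd_eq_right (Nat.ordCompl_dvd _ _)]
  exact Nat.div_eq_of_eq_mul_left (Nat.ordCompl_pos _ (orderOf_pos c).ne')
    (Nat.ordProj_mul_ordCompl_eq_self _ _).symm

/-- With one class of involutions and trivial odd core there is just one involution. -/
theorem unique_involution {G : Type*} [Group G] [Finite G] [Group.IsSolvable G]
    (hamb : ∀ x : G, IsConj x x⁻¹) (hone : ∀ s t : G, orderOf s = 2 → orderOf t = 2 → IsConj s t)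
    (hO : Cfsg.oddCore G = ⊥) (s t : G) (hs : orderOf s = 2) (ht : orderOf t = 2) : s = t := by
  classical
  haveI := Fact.mk Nat.prime_two
  have : Nontrivial G := ⟨⟨s, 1, fun h => by rw [h, orderOf_one] at hs; omega⟩⟩
  obtain ⟨V, p, hp, hVn, hV0, -, hVc, hVp, hVmin⟩ :=
    CfsgLib.Solvable.Basic.exists_minimal_normal_pgroup (G := G) (H := ⊤) top_ne_bot
  haveI := Fact.mk hp
  have hp2 : p = 2 := by
    by_contra hp2
    obtain ⟨k, hk⟩ := IsPGroup.iff_card.mp hVp
    refine hV0 (le_bot_iff.mp (hO ▸ CfsgLib.Solvable.Cores.le_pPrimeCore ?_))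
    rw [hk]
    exact Nat.Coprime.pow_left k ((Nat.coprime_primes hp Nat.prime_two).mpr hp2)
  subst hp2
  have hVc' := CfsgLib.Solvable.Basic.isMulCommutative_subgroup_iff.mp hVc
  have hinv : ∀ u : G, orderOf u = 2 → u ∈ V := by
    intro u hu
    obtain ⟨k, hk⟩ := IsPGroup.iff_card.mp hVp
    obtain ⟨w, hw⟩ := exists_prime_orderOf_dvd_card' 2 (show 2 ∣ Nat.card V from
      hk ▸ dvd_pow_self 2 (fun h => hV0 (card_eq_one.mp (by rw [hk, h, pow_zero]))))
    obtain ⟨c, hc⟩ := isConj_iff.mp (hone w u ((orderOf_coe w).trans hw) hu)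
    exact hc ▸ hVn.conj_mem _ w.2 c
  set C := centralizer (V : Set G) with hC
  have hCcomm : ∀ x ∈ C, ∀ v ∈ V, Commute x v := fun x hx v hv => (mem_centralizer_iff.mp hx v hv).symm
  by_cases hCtop : C = ⊤
  · obtain ⟨c, hc⟩ := isConj_iff.mp (hone s t hs ht)
    rw [← hc, (hCcomm c (hCtop ▸ mem_top c) s (hinv s hs)).eq, mul_inv_cancel_right]
  exfalso
  haveI : C.Normal := by rw [hC]; infer_instance
  set f := QuotientGroup.mk' C with hf
  have hfs : Function.Surjective f := QuotientGroup.mk'_surjective C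
  haveI : Nontrivial (G ⧸ C) := QuotientGroup.nontrivial_iff.mpr hCtop
  obtain ⟨F, r, hr, hFn, hF0, -, hFc, hFr, -⟩ :=
    CfsgLib.Solvable.Basic.exists_minimal_normal_pgroup (G := G ⧸ C) (H := ⊤) top_ne_bot
  haveI := Fact.mk hr
  set M := F.comap f with hM
  haveI hMn : M.Normal := hFn.comap f
  have hMC : ¬ M ≤ C := fun h => hF0 (le_bot_iff.mp fun y hy => by
    obtain ⟨x, rfl⟩ := hfs y
    exact mem_bot.mpr ((QuotientGroup.eq_one_iff x).mpr (h hy)))
  by_cases hr2 : r = 2
  · subst hr2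
    obtain ⟨T, hT, hTF⟩ := CfsgLib.KnownA.AbelianSylow.exists_pgroup_map_eq hfs hFr
    set P := V ⊔ T
    have hPp : IsPGroup 2 P := hVp.to_sup_of_normal_left hT
    haveI := hPp.isNilpotent
    have hne : V.subgroupOf P ≠ ⊥ := fun h => hV0 (by
      rw [subgroupOf_eq_bot, disjoint_iff, inf_eq_left.mpr le_sup_left] at h; exact h)
    haveI : (V.subgroupOf P).Normal := hVn.subgroupOf P
    obtain ⟨v, hv, hv1⟩ := ((V.subgroupOf P) ⊓ center P).bot_or_exists_ne_one.resolve_left
      (CfsgLib.Solvable.FrattiniFitting.inf_center_ne_bot _ hne)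
    have hMT : M ≤ T ⊔ C := by
      intro x hx
      obtain ⟨u, hu, hux⟩ : f x ∈ T.map f := hTF ▸ hx
      rw [show x = u * (u⁻¹ * x) by group]
      exact mul_mem_sup hu ((QuotientGroup.eq (s := C)).mp hux)
    have hU : V ⊓ centralizer (M : Set G) = V := by
      refine (hVmin _ inferInstance inf_le_left).resolve_left fun h0 => hv1 ?_
      have h1 : (v : G) ∈ V ⊓ centralizer (M : Set G) := by
        refine ⟨hv.1, mem_centralizer_iff.mpr fun x hx => ?_⟩
        have h2 : T ⊔ C ≤ centralizer {(v : G)} := sup_le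
          (fun u hu => mem_centralizer_singleton_iff.mpr
            (congrArg Subtype.val (mem_center_iff.mp hv.2 ⟨u, mem_sup_right hu⟩)))
          (fun u hu => mem_centralizer_singleton_iff.mpr (hCcomm u hu v hv.1).eq)
        exact mem_centralizer_singleton_iff.mp (h2 (hMT hx))
      rw [h0, mem_bot] at h1
      exact Subtype.ext h1
    exact hMC fun x hx => mem_centralizer_iff.mpr fun w hw =>
      (mem_centralizer_iff.mp (hU.ge hw).2 x hx).symm
  -- stabilisers in `M`
  have hCM : C ≤ M := QuotientGroup.le_comap_mk' C F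
  let St : G → Subgroup G := fun v => M ⊓ centralizer {v}
  have hcardSt : ∀ v w : G, v ∈ V → v ≠ 1 → w ∈ V → w ≠ 1 → Nat.card (St v) = Nat.card (St w) := by
    intro v w hv hv1 hw hw1
    have hord : ∀ u ∈ V, u ≠ 1 → orderOf u = 2 := by
      intro u hu hu1
      obtain ⟨hc, q, hq, hexp, -⟩ := CfsgLib.Solvable.Basic.minimal_normal_solvable V hV0 hVmin
      haveI := Fact.mk hq
      have h1 : orderOf u = q := orderOf_eq_prime (hexp u hu) hu1
      obtain ⟨j, hj⟩ := hVp ⟨u, hu⟩
      have h2 : q ∣ 2 ^ j := h1 ▸ orderOf_dvd_of_pow_eq_one (congrArg Subtype.val hj : u ^ 2 ^ j = 1)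
      rw [h1]
      exact (Nat.prime_dvd_prime_iff_eq hq Nat.prime_two).mp (hq.dvd_of_dvd_pow h2)
    obtain ⟨c, hc⟩ := isConj_iff.mp (hone v w (hord v hv hv1) (hord w hw hw1))
    have he : St w = (St v).map (MulAut.conj c).toMonoidHom := by
      ext x
      simp only [St, mem_map, mem_inf, mem_centralizer_singleton_iff]
      constructor
      · rintro ⟨hxM, hxw⟩
        refine ⟨c⁻¹ * x * c, ⟨by simpa using hMn.conj_mem x hxM c⁻¹, ?_⟩, by simp [mul_assoc]⟩
        calc c⁻¹ * x * c * v = c⁻¹ * (x * (c * v * c⁻¹)) * c := by group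
          _ = c⁻¹ * ((c * v * c⁻¹) * x) * c := by rw [hc, hxw]
          _ = v * (c⁻¹ * x * c) := by group
      · rintro ⟨y, ⟨hyM, hyv⟩, rfl⟩
        refine ⟨hMn.conj_mem y hyM c, ?_⟩
        show c * y * c⁻¹ * w = w * (c * y * c⁻¹)
        rw [← hc]
        calc c * y * c⁻¹ * (c * v * c⁻¹) = c * (y * v) * c⁻¹ := by group
          _ = c * (v * y) * c⁻¹ := by rw [hyv]
          _ = c * v * c⁻¹ * (c * y * c⁻¹) := by group
    rw [he, card_map_of_injective (MulAut.conj c).injective]
  -- `M` is abelian modulo `C`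
  have hcomm : ∀ x ∈ M, ∀ y ∈ M, x⁻¹ * y⁻¹ * x * y ∈ C := fun x hx y hy => by
    refine (QuotientGroup.eq_one_iff _).mp ?_
    show f (x⁻¹ * y⁻¹ * x * y) = 1
    have := CfsgLib.Solvable.Basic.isMulCommutative_subgroup_iff.mp hFc (f x) hx (f y) hy
    simp only [map_mul, map_inv]
    rw [mul_assoc _ (f x) (f y), this]; group
  have hinvar : ∀ v ∈ V, ∀ x ∈ M, ∀ y ∈ St v, Commute y (x * v * x⁻¹) := by
    intro v hv x hx y hy
    have h1 : Commute y v := mem_centralizer_singleton_iff.mp hy.2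
    have h2 : Commute (x⁻¹ * y⁻¹ * x * y) v := hCcomm _ (hcomm x hx y hy.1) v hv
    have h3 : Commute (x⁻¹ * y * x) v := by
      have e : x⁻¹ * y * x = y * (x⁻¹ * y⁻¹ * x * y)⁻¹ := by group
      rw [e]; exact h1.mul_left h2.inv_left
    calc y * (x * v * x⁻¹) = x * ((x⁻¹ * y * x) * v) * x⁻¹ := by group
      _ = x * (v * (x⁻¹ * y * x)) * x⁻¹ := by rw [h3.eq]
      _ = x * v * x⁻¹ * y := by group
  have hsame : ∀ v w : G, v ∈ V → v ≠ 1 → w ∈ V → w ≠ 1 → St v = St w := by
    intro v w hv hv1 hw hw1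
    by_contra hne
    have hvw : v * w ≠ 1 := fun h => hne (by
      have hwv : w = v⁻¹ := eq_inv_of_mul_eq_one_right h
      ext x
      simp only [St, mem_inf, mem_centralizer_singleton_iff, hwv]
      constructor
      · rintro ⟨a, b⟩; exact ⟨a, ((show Commute x v from b).inv_right).eq⟩
      · rintro ⟨a, b⟩; exact ⟨a, by simpa using ((show Commute x v⁻¹ from b).inv_right).eq⟩)
    have hvwV : v * w ∈ V := mul_mem hv hw
    have hsub : St (v * w) ≤ St v ⊓ St w := by
      intro x hx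
      have hxvw : x * (v * w) * x⁻¹ = v * w := by
        rw [mem_centralizer_singleton_iff.mp hx.2, mul_inv_cancel_right]
      set u := v⁻¹ * (x * v * x⁻¹) with hu
      have hu' : u = w * (x * w * x⁻¹)⁻¹ := by
        rw [hu]
        calc v⁻¹ * (x * v * x⁻¹) = v⁻¹ * (x * (v * w) * x⁻¹) * (x * w * x⁻¹)⁻¹ := by group
          _ = w * (x * w * x⁻¹)⁻¹ := by rw [hxvw]; group
      have huV : u ∈ V := mul_mem (inv_mem hv) (hVn.conj_mem v hv x)
      have hu1 : u = 1 := by
        by_contra hu1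
        refine hne ?_
        have h1 : St v = St u := eq_of_le_of_card_ge (fun y hy => ⟨hy.1, mem_centralizer_singleton_iff.mpr
            ((show Commute y v from mem_centralizer_singleton_iff.mp hy.2).inv_right.mul_right
              (hinvar v hv x hx.1 y hy)).eq⟩) (hcardSt u v huV hu1 hv hv1).le
        have h2 : St w = St u := eq_of_le_of_card_ge (fun y hy => ⟨hy.1, mem_centralizer_singleton_iff.mpr (by
            rw [hu']
            exact ((show Commute y w from mem_centralizer_singleton_iff.mp hy.2).mul_right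
              (hinvar w hw x hx.1 y hy).inv_right).eq)⟩) (hcardSt u w huV hu1 hw hw1).le
        exact h1.trans h2.symm
      refine ⟨⟨hx.1, mem_centralizer_singleton_iff.mpr ?_⟩, hx.1, mem_centralizer_singleton_iff.mpr ?_⟩
      · exact mul_inv_eq_iff_eq_mul.mp (inv_mul_eq_one.mp hu1).symm
      · rw [hu'] at hu1
        exact mul_inv_eq_iff_eq_mul.mp (mul_inv_eq_one.mp hu1).symm
    have h3 : St (v * w) = St v := eq_of_le_of_card_ge (hsub.trans inf_le_left)
      (hcardSt v (v * w) hv hv1 hvwV hvw).le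
    have h4 : St (v * w) = St w := eq_of_le_of_card_ge (hsub.trans inf_le_right)
      (hcardSt w (v * w) hw hw1 hvwV hvw).le
    exact hne (h3.symm.trans h4)
  have hfpf : ∀ x ∈ M, x ∉ C → ∀ v ∈ V, Commute x v → v = 1 := by
    intro x hx hxC v hv hxv
    by_contra hv1
    refine hxC (mem_centralizer_iff.mpr fun w hw => ?_)
    rcases eq_or_ne w 1 with rfl | hw1
    · simp
    · have : x ∈ St w := hsame v w hv hv1 hw hw1 ▸ ⟨hx, mem_centralizer_singleton_iff.mpr hxv.eq⟩
      exact (mem_centralizer_singleton_iff.mp this.2).symm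
  -- an element of odd order in `M` outside `C`
  obtain ⟨S₀, hS₀, hS₀F⟩ := CfsgLib.KnownA.AbelianSylow.exists_pgroup_map_eq hfs hFr
  obtain ⟨x, hxS, hxC⟩ : ∃ x ∈ S₀, x ∉ C := SetLike.not_le_iff_exists.mp fun h => hF0 (by
    rw [← hS₀F, eq_bot_iff]
    rintro _ ⟨x, hx, rfl⟩
    exact mem_bot.mpr ((QuotientGroup.eq_one_iff x).mpr (h hx)))
  have hxM : x ∈ M := by
    show f x ∈ F
    exact hS₀F ▸ mem_map_of_mem f hxS
  obtain ⟨j, hj⟩ := hS₀ ⟨x, hxS⟩
  have hxodd : (orderOf x).Coprime 2 :=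
    (Nat.Coprime.pow_left j ((Nat.coprime_primes hr Nat.prime_two).mpr hr2)).coprime_dvd_left
      (orderOf_dvd_of_pow_eq_one (congrArg Subtype.val hj : x ^ r ^ j = 1))
  obtain ⟨g, ⟨k, hk⟩, hgx⟩ := exists_two_inverting (hamb x)
  rcases k with _ | k
  · rw [pow_zero, orderOf_eq_one_iff] at hk
    subst hk
    rw [one_mul, inv_one, mul_one] at hgx
    refine hxC ?_
    rw [show x = 1 from orderOf_eq_one_iff.mp (Nat.eq_one_of_dvd_coprimes hxodd dvd_rfl
      (orderOf_dvd_of_pow_eq_one (by rw [pow_two]; nth_rewrite 2 [hgx]; exact mul_inv_cancel x)))]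
    exact one_mem C
  set w := g ^ 2 ^ k with hw
  have hwo : orderOf w = 2 := by
    rw [hw, orderOf_pow' _ (pow_ne_zero _ two_ne_zero), hk, Nat.gcd_eq_right (pow_dvd_pow 2 (Nat.le_succ k)),
      pow_succ, Nat.mul_div_cancel_left _ (pow_pos two_pos k)]
  have hw1 : w ≠ 1 := fun h => by rw [h, orderOf_one] at hwo; omega
  rcases k with _ | k
  · -- `g` itself is an involution, in `V`
    have hwg : w = g := by rw [hw]; simp
    have hgV : g ∈ V := hwg ▸ hinv w hwo
    have h2 : x * x ∈ V := by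
      have h : g * (x * g⁻¹ * x⁻¹) ∈ V := mul_mem hgV (hVn.conj_mem _ (inv_mem hgV) x)
      rw [show g * (x * g⁻¹ * x⁻¹) = g * x * g⁻¹ * x⁻¹ by group, hgx, ← mul_inv_rev] at h
      exact inv_mem_iff.mp h
    obtain ⟨i, hi⟩ := hVp ⟨x * x, h2⟩
    have h3 : orderOf (x * x) = 1 := Nat.eq_one_of_dvd_coprimes
      (hxodd.pow_right i) (by rw [← pow_two]; exact orderOf_pow_dvd 2)
      (orderOf_dvd_of_pow_eq_one (congrArg Subtype.val hi : (x * x) ^ 2 ^ i = 1))
    rw [orderOf_eq_one_iff, ← pow_two] at h3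
    refine hxC ?_
    rw [show x = 1 from orderOf_eq_one_iff.mp (Nat.eq_one_of_dvd_coprimes hxodd dvd_rfl
      (orderOf_dvd_of_pow_eq_one h3))]
    exact one_mem C
  · have hg2 : Commute (g ^ 2) x := by
      refine mul_inv_eq_iff_eq_mul.mp ?_
      calc g ^ 2 * x * (g ^ 2)⁻¹ = g * (g * x * g⁻¹) * g⁻¹ := by rw [pow_two]; group
        _ = (g * x * g⁻¹)⁻¹ := by (conv_lhs => rw [hgx]); group
        _ = x := by rw [hgx, inv_inv]
    refine hw1 (hfpf x hxM hxC w (hinv w hwo) ?_)
    rw [hw, pow_succ', pow_mul]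
    exact (hg2.pow_left _).symm

/-- Let G be a finite solvable group of even order in which every element is conjugate to its inverse and all involutions are conjugate. Then a Sylow 2-subgroup S of G has order 2 or is a generalized quaternion group (of order at least 8). Moreover, if S has order 2, then G is the semidirect product of its largest normal subgroup of odd order O(G) by S, O(G) equals the derived subgroup of G, and the involution of S inverts every element of O(G). -/
theorem result {G : Type*} [Group G] [Finite G] [Group.IsSolvable G]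
    (hamb : ∀ x : G, IsConj x x⁻¹) (heven : 2 ∣ Nat.card G) (hone : ∀ s t : G, orderOf s = 2 → orderOf t = 2 → IsConj s t) (S : Sylow 2 G) :
    (Nat.card S = 2 ∨ ∃ n : ℕ, Nonempty ((S : Subgroup G) ≃* QuaternionGroup (2 ^ (n + 1)))) ∧
    (Nat.card S = 2 → (S : Subgroup G).IsComplement' (Cfsg.oddCore G) ∧ Cfsg.oddCore G = commutator G ∧
        ∀ t : G, t ∈ S → t ≠ 1 → ∀ x : G, x ∈ Cfsg.oddCore G → t * x * t⁻¹ = x⁻¹) := by
  classical
  haveI := Fact.mk Nat.prime_two
  set O := Cfsg.oddCore G with hO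
  haveI : O.Normal := CfsgLib.Solvable.Cores.pPrimeCore_normal 2
  have hOodd : (Nat.card O).Coprime 2 := CfsgLib.Solvable.Cores.coprime_card_pPrimeCore 2
  set f := QuotientGroup.mk' O
  have hfs : Function.Surjective f := QuotientGroup.mk'_surjective O
  have hSO : ∀ x ∈ (S : Subgroup G), x ∈ O → x = 1 := by
    intro x hx hxO
    obtain ⟨j, hj⟩ := S.isPGroup' ⟨x, hx⟩
    exact orderOf_eq_one_iff.mp (Nat.eq_one_of_dvd_coprimes (hOodd.pow_right j)
      (Subgroup.orderOf_dvd_natCard O hxO) (orderOf_dvd_of_pow_eq_one (congrArg Subtype.val hj : x ^ 2 ^ j = 1)))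
  have hOq : Cfsg.oddCore (G ⧸ O) = ⊥ := by
    set O' := Cfsg.oddCore (G ⧸ O)
    haveI : O'.Normal := CfsgLib.Solvable.Cores.pPrimeCore_normal 2
    have h : O'.comap f ≤ O := CfsgLib.Solvable.Cores.le_pPrimeCore (by
      rw [CfsgLib.Solvable.Basic.card_comap_mk]
      exact Nat.Coprime.mul_left (CfsgLib.Solvable.Cores.coprime_card_pPrimeCore 2) hOodd)
    refine le_bot_iff.mp fun y hy => ?_
    obtain ⟨x, rfl⟩ := hfs y
    exact mem_bot.mpr ((QuotientGroup.eq_one_iff x).mpr (h hy))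
  have honeq : ∀ s t : G ⧸ O, orderOf s = 2 → orderOf t = 2 → IsConj s t := by
    intro s t hs ht
    have hlift : ∀ u : G ⧸ O, orderOf u = 2 → ∃ w : G, orderOf w = 2 ∧ f w = u := by
      intro u hu
      obtain ⟨U, hU, hUu⟩ := CfsgLib.KnownA.AbelianSylow.exists_pgroup_map_eq hfs
        (U := zpowers u) (IsPGroup.of_card (p := 2) (n := 1) (by rw [Nat.card_zpowers, hu, pow_one]))
      obtain ⟨w, hw, hwu⟩ : u ∈ U.map f := hUu.symm ▸ mem_zpowers u
      obtain ⟨j, hj⟩ := hU ⟨w, hw⟩
      have hj' : w ^ 2 ^ j = 1 := congrArg Subtype.val hj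
      have h2 : w ^ 2 ∈ O := (QuotientGroup.eq_one_iff _).mp (by
        show f (w ^ 2) = 1
        rw [map_pow, hwu, ← hu, pow_orderOf_eq_one])
      have h3 : orderOf (w ^ 2) = 1 := Nat.eq_one_of_dvd_coprimes (hOodd.pow_right j)
        (Subgroup.orderOf_dvd_natCard O h2) (orderOf_dvd_of_pow_eq_one (by
          rw [← pow_mul, mul_comm, pow_mul, hj', one_pow]))
      refine ⟨w, orderOf_eq_prime (orderOf_eq_one_iff.mp h3) fun h => ?_, hwu⟩
      rw [← hwu, h, map_one, orderOf_one] at hu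
      omega
    obtain ⟨a, ha, rfl⟩ := hlift s hs
    obtain ⟨b, hb, rfl⟩ := hlift t ht
    exact MonoidHom.map_isConj f (hone a b ha hb)
  have huniq := unique_involution (isConj_quotient f hfs hamb) honeq hOq
  have hSinj : ∀ a ∈ (S : Subgroup G), ∀ b ∈ (S : Subgroup G), f a = f b → a = b := fun a ha b hb h =>
    inv_mul_eq_one.mp (hSO _ (mul_mem (inv_mem ha) hb) (QuotientGroup.eq.mp h))
  have hS2 : 2 ∣ Nat.card (S : Subgroup G) := S.dvd_card_of_dvd_card heven
  have hfew : Nat.card {x : (S : Subgroup G) // x ^ 2 = 1} ≤ 2 := by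
    calc _ ≤ Nat.card (Fin 2) := Nat.card_le_card_of_injective (fun x : {x : (S : Subgroup G) // x ^ 2 = 1} => if x.1 = 1 then (0 : Fin 2) else 1) (by
          intro a b hab
          apply Subtype.ext
          by_cases ha : a.1 = 1 <;> by_cases hb : b.1 = 1 <;> simp [ha, hb] at hab ⊢
          have hord : ∀ c : {x : (S : Subgroup G) // x ^ 2 = 1}, c.1 ≠ 1 → orderOf (f c.1) = 2 := fun c hc =>
            orderOf_eq_prime (by rw [← map_pow, show ((c.1 : G)) ^ 2 = 1 from congrArg Subtype.val c.2, map_one])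
              fun h => hc (Subtype.ext (hSinj _ c.1.2 _ (one_mem _) (h.trans (map_one f).symm)))
          exact Subtype.ext (hSinj _ a.1.2 _ b.1.2 (huniq _ _ (hord a ha) (hord b hb))))
      _ = 2 := by simp
  have hcyc : IsCyclic (S : Subgroup G) → Nat.card (S : Subgroup G) = 2 := by
    intro hc
    obtain ⟨P, K, hKn, hK⟩ := CfsgLib.LocalEvenB.HSubgroup.npc_of_cyclic (p := 2)
      (fun q hq _ => hq.two_le) S
    have hsur : Function.Surjective ((QuotientGroup.mk' K).comp (P : Subgroup G).subtype) := by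
      intro y
      obtain ⟨g, rfl⟩ := QuotientGroup.mk'_surjective K y
      have hg : g ∈ K ⊔ (P : Subgroup G) := hK.sup_eq_top ▸ mem_top g
      obtain ⟨k, hk, x, hx, rfl⟩ := mem_sup_of_normal_left.mp hg
      exact ⟨⟨x, hx⟩, by
        show QuotientGroup.mk' K x = QuotientGroup.mk' K (k * x)
        rw [map_mul, show QuotientGroup.mk' K k = 1 from (QuotientGroup.eq_one_iff k).mpr hk, one_mul]⟩
    have hPS : Nat.card (P : Subgroup G) = Nat.card (S : Subgroup G) := by
      rw [P.card_eq_multiplicity, S.card_eq_multiplicity]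
    haveI : IsCyclic (P : Subgroup G) := isCyclic_of_surjective _ (Sylow.equiv S P).surjective
    haveI : IsCyclic (G ⧸ K) := isCyclic_of_surjective _ hsur
    obtain ⟨g, hg⟩ := IsCyclic.exists_ofOrder_eq_natCard (α := G ⧸ K)
    letI : CommGroup (G ⧸ K) := IsCyclic.commGroup
    obtain ⟨c, hc'⟩ := isConj_iff.mp (isConj_quotient _ (QuotientGroup.mk'_surjective K) hamb g)
    have h2 : g ^ 2 = 1 := by
      have : g = g⁻¹ := by rw [← hc']; simp [mul_comm c g]
      rw [pow_two]; nth_rewrite 2 [this]; exact mul_inv_cancel g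
    have hidx : Nat.card (G ⧸ K) = Nat.card (S : Subgroup G) := hK.symm.index_eq_card.trans hPS
    have h3 := orderOf_dvd_of_pow_eq_one h2
    rw [hg, hidx] at h3
    exact le_antisymm (Nat.le_of_dvd two_pos h3) (Nat.le_of_dvd Nat.card_pos hS2)
  refine ⟨?_, fun hcard => ?_⟩
  · rcases CfsgLib.FrobRealize.Quaternion.cyclic_or_quaternion S.isPGroup' hfew with h | ⟨-, n, ⟨e⟩⟩
    · exact Or.inl (hcyc h)
    · rcases n with _ | n
      · refine Or.inl (hcyc ?_)
        have h4 : orderOf (QuaternionGroup.xa 0 : QuaternionGroup 1) = 4 := QuaternionGroup.orderOf_xa 0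
        refine isCyclic_of_orderOf_eq_card (e.symm (QuaternionGroup.xa 0)) ?_
        rw [MulEquiv.orderOf_eq, Nat.card_congr e.toEquiv, Nat.card_eq_fintype_card]
        exact h4
      · exact Or.inr ⟨n, ⟨e⟩⟩
  · haveI : IsCyclic (S : Subgroup G) := isCyclic_of_prime_card (p := 2) hcard
    obtain ⟨P, K, hKn, hK⟩ := CfsgLib.LocalEvenB.HSubgroup.npc_of_cyclic (p := 2)
      (fun q hq _ => hq.two_le) S
    have hP2 : Nat.card (P : Subgroup G) = 2 := by
      rw [P.card_eq_multiplicity, ← S.card_eq_multiplicity, hcard]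
    have hKO : K = O := by
      have hle : K ≤ O := CfsgLib.Solvable.Cores.le_pPrimeCore (by
        rw [Nat.coprime_comm, Nat.prime_two.coprime_iff_not_dvd, ← hK.index_eq_card]
        exact P.not_dvd_index)
      refine eq_of_le_of_card_ge hle ?_
      have h1 : Nat.card O ∣ Nat.card K * 2 := by
        rw [← hP2, hK.card_mul]; exact O.card_subgroup_dvd_card
      exact Nat.le_of_dvd Nat.card_pos (hOodd.dvd_of_dvd_mul_right h1)
    subst hKO
    have hOc : Nat.card O * 2 = Nat.card G := by rw [← hP2]; exact hK.card_mul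
    have hcompl : (S : Subgroup G).IsComplement' O := by
      refine isComplement'_of_card_mul_and_disjoint (by rw [hcard, mul_comm, hOc]) ?_
      rw [disjoint_iff, eq_bot_iff_forall]
      exact fun x hx => hSO x hx.1 hx.2
    have hidx : O.index = 2 := hcompl.index_eq_card.trans hcard
    have hinv : ∀ t : G, t ∈ S → t ≠ 1 → ∀ x : G, x ∈ O → t * x * t⁻¹ = x⁻¹ := by
      intro t ht ht1
      have hto : orderOf t = 2 := by
        refine ((Nat.dvd_prime Nat.prime_two).mp ?_).resolve_left (fun h => ht1 (orderOf_eq_one_iff.mp h))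
        rw [← hcard]; exact Subgroup.orderOf_dvd_natCard _ ht
      have htt : t * t = 1 := by rw [← pow_two, ← hto, pow_orderOf_eq_one]
      have htO : t ∉ O := fun h => ht1 (hSO t ht h)
      have hOord : ∀ x ∈ O, (orderOf x).Coprime 2 := fun x hx =>
        hOodd.coprime_dvd_left (Subgroup.orderOf_dvd_natCard O hx)
      have hone' : ∀ x ∈ O, x * x = 1 → x = 1 := fun x hx h => orderOf_eq_one_iff.mp
        (Nat.eq_one_of_dvd_coprimes (hOord x hx) dvd_rfl (orderOf_dvd_of_pow_eq_one (by rw [pow_two, h])))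
      have hfix : ∀ x ∈ O, Commute t x → x = 1 := by
        intro x hx hc
        obtain ⟨g, hg⟩ := isConj_iff.mp (hamb (x * t))
        rw [mul_inv_rev, inv_eq_of_mul_eq_one_right htt] at hg
        -- the `2`-parts agree
        have hodd : Odd (orderOf x) := by
          rw [Nat.odd_iff]
          have := (Nat.prime_two.coprime_iff_not_dvd).mp (hOord x hx).symm
          omega
        obtain ⟨m, hm⟩ := hodd
        have hpx : x ^ (2 * m + 1) = 1 := hm ▸ pow_orderOf_eq_one x
        have ht' : t ^ (2 * m + 1) = t := by rw [pow_add, pow_mul, pow_two, htt, one_pow, one_mul, pow_one]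
        have hgt : g * t * g⁻¹ = t := by
          have h1 := congrArg (· ^ (2 * m + 1)) hg
          simp only [conj_pow] at h1
          rwa [hc.symm.mul_pow, hpx, one_mul, ht', hc.inv_right.mul_pow, inv_pow, hpx, inv_one, mul_one,
            ht'] at h1
        have hgx : g * x * g⁻¹ = x⁻¹ := by
          have e : g * (x * t) * g⁻¹ = (g * x * g⁻¹) * (g * t * g⁻¹) := by group
          rw [e, hgt, hc.inv_right.eq] at hg
          exact mul_right_cancel hg
        -- replace `g` by an element of `O`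
        obtain ⟨k, hkO, hkx⟩ : ∃ k ∈ O, k * x * k⁻¹ = x⁻¹ := by
          by_cases hgO : g ∈ O
          · exact ⟨g, hgO, hgx⟩
          · refine ⟨g * t, (mul_mem_iff_of_index_two hidx).mpr (iff_of_false hgO htO), ?_⟩
            calc g * t * x * (g * t)⁻¹ = g * (t * x * t⁻¹) * g⁻¹ := by group
              _ = x⁻¹ := by rw [hc.eq, mul_inv_cancel_right, hgx]
        have hk2 : Commute (k ^ 2) x := mul_inv_eq_iff_eq_mul.mp (by
          calc k ^ 2 * x * (k ^ 2)⁻¹ = k * (k * x * k⁻¹) * k⁻¹ := by rw [pow_two]; group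
            _ = (k * x * k⁻¹)⁻¹ := by (conv_lhs => rw [hkx]); group
            _ = x := by rw [hkx, inv_inv])
        obtain ⟨i, hi⟩ := exists_pow_eq_self_of_coprime (x := k) (n := 2) (hOord k hkO).symm
        have hkc : Commute k x := hi ▸ hk2.pow_left i
        rw [hkc.eq, mul_inv_cancel_right] at hkx
        exact hone' x hx (by nth_rewrite 2 [hkx]; exact mul_inv_cancel x)
      intro x hx
      let φ : O → O := fun y => ⟨(y : G)⁻¹ * (t * y * t⁻¹),
        mul_mem (inv_mem y.2) ((inferInstance : O.Normal).conj_mem y y.2 t)⟩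
      have hφ : Function.Injective φ := by
        intro a b hab
        have h1 : (a : G)⁻¹ * (t * a * t⁻¹) = (b : G)⁻¹ * (t * b * t⁻¹) := congrArg Subtype.val hab
        have h2 : t * ((b : G) * (a : G)⁻¹) * t⁻¹ = (b : G) * (a : G)⁻¹ := by
          calc t * ((b : G) * (a : G)⁻¹) * t⁻¹ = (t * b * t⁻¹) * (t * a * t⁻¹)⁻¹ := by group
            _ = b * ((b : G)⁻¹ * (t * b * t⁻¹)) * ((a : G)⁻¹ * (t * a * t⁻¹))⁻¹ * (a : G)⁻¹ := by group
            _ = (b : G) * (a : G)⁻¹ := by rw [h1]; group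
        exact Subtype.ext (mul_inv_eq_one.mp (hfix _ (mul_mem b.2 (inv_mem a.2))
          (mul_inv_eq_iff_eq_mul.mp h2))).symm
      obtain ⟨y, hy⟩ := Finite.injective_iff_surjective.mp hφ ⟨x, hx⟩
      have hy' : (y : G)⁻¹ * (t * y * t⁻¹) = x := congrArg Subtype.val hy
      have hti : t⁻¹ = t := inv_eq_of_mul_eq_one_right htt
      rw [← hy']
      calc t * ((y : G)⁻¹ * (t * y * t⁻¹)) * t⁻¹ = t * (y : G)⁻¹ * (t * y * (t⁻¹ * t⁻¹)) := by group
        _ = t * (y : G)⁻¹ * t⁻¹ * y := by rw [← mul_inv_rev t t, htt, inv_one, mul_one, hti]; group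
        _ = ((y : G)⁻¹ * (t * y * t⁻¹))⁻¹ := by group
    refine ⟨hcompl, le_antisymm ?_ ?_, hinv⟩
    · -- `O ≤ G'`
      obtain ⟨t, ht, ht1⟩ := ((S : Subgroup G).bot_or_exists_ne_one).resolve_left fun h => by
        rw [h, Subgroup.card_bot] at hcard; omega
      intro x hx
      obtain ⟨i, hi⟩ := exists_pow_eq_self_of_coprime (x := x) (n := 2)
        (hOodd.coprime_dvd_left (Subgroup.orderOf_dvd_natCard O hx)).symm
      rw [← hi]
      refine pow_mem ?_ i
      rw [← inv_mem_iff, pow_two, mul_inv_rev]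
      nth_rewrite 1 [← hinv t ht ht1 x hx]
      exact commutator_mem_commutator (mem_top t) (mem_top x)
    · letI : CommGroup (G ⧸ O) := by
        haveI : IsCyclic (G ⧸ O) := isCyclic_of_prime_card (p := 2) hidx
        exact IsCyclic.commGroup
      rw [_root_.commutator_def, commutator_le]
      intro a _ b _
      refine (QuotientGroup.eq_one_iff _).mp ?_
      show f ⁅a, b⁆ = 1
      rw [map_commutatorElement, commutatorElement_eq_one_iff_mul_comm, mul_comm]

end Cfsg.Agent.S4061
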