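import Cfsg.Statements.S4062
import Cfsg.Agent.Lib.Solvable.Basic
import Cfsg.Agent.Lib.PGroup.Basic

set_option autoImplicit false
open Cfsg

namespace Cfsg.Agent.S4062

universe u

section

variable {G : Type u} [Group G] [Finite G]

/-- In such a group the elements are determined by their order if the group is commutative. -/
theorem card_le_two_of_comm (h : ∀ x y : G, orderOf x = orderOf y → IsConj x y)
    (hc : ∀ a b : G, a * b = b * a) : Nat.card G ≤ 2 := by
  classical
  have heq : ∀ a b : G, orderOf a = orderOf b → a = b := fun a b hab => by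
    obtain ⟨g, hg⟩ := isConj_iff.1 (h a b hab)
    rw [← hg, hc g a, mul_inv_cancel_right]
  have h2 : ∀ a : G, orderOf a ∣ 2 := fun a => orderOf_dvd_of_pow_eq_one (by
    rw [pow_two]; exact mul_eq_one_iff_eq_inv.2 (heq a a⁻¹ (orderOf_inv a).symm))
  have h3 := Nat.card_le_card_of_injective (fun a : G => decide (orderOf a = 1)) (fun a b hab => by
    refine heq a b ?_
    have hab' := of_decide_eq_true (show decide (decide (orderOf a = 1) = decide (orderOf b = 1)) = true
      from by simpa using hab)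
    rw [decide_eq_decide] at hab'
    rcases (Nat.dvd_prime Nat.prime_two).1 (h2 a) with ha | ha <;>
      rcases (Nat.dvd_prime Nat.prime_two).1 (h2 b) with hb | hb <;> omega)
  rwa [Nat.card_eq_fintype_card (α := Bool), Fintype.card_bool] at h3

/-- A non-commutative group of order six is the symmetric group of degree three. -/
theorem equiv_perm_three (hG : Nat.card G = 6) (hna : ¬ ∀ a b : G, a * b = b * a) :
    Nonempty (G ≃* Equiv.Perm (Fin 3)) := by
  classical
  haveI : Fintype G := Fintype.ofFinite G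
  haveI : Fact (Nat.Prime 2) := ⟨Nat.prime_two⟩
  obtain ⟨t, ht⟩ := exists_prime_orderOf_dvd_card' (G := G) 2 (hG ▸ (by norm_num : 2 ∣ 6))
  set H := Subgroup.zpowers t with hH
  have hHc : Nat.card H = 2 := by rw [hH, Nat.card_zpowers, ht]
  have hidx : Nat.card (G ⧸ H) = 3 := by
    have h1 := Subgroup.card_mul_index H
    rw [hHc, hG, Subgroup.index] at h1
    omega
  have hcore : H.normalCore = ⊥ := by
    by_contra hne
    have hle := Subgroup.normalCore_le H
    have heq : H.normalCore = H := Subgroup.eq_of_le_of_card_ge hle (by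
      rw [hHc]
      exact (Subgroup.one_lt_card_iff_ne_bot _).2 hne)
    haveI hHn : H.Normal := heq ▸ Subgroup.normalCore_normal H
    haveI : Fact (Nat.Prime 3) := ⟨Nat.prime_three⟩
    haveI : IsCyclic (G ⧸ H) := isCyclic_of_prime_card (p := 3) hidx
    refine hna (commutative_of_cyclic_center_quotient (QuotientGroup.mk' H) ?_)
    rw [QuotientGroup.ker_mk']
    intro z hz
    rw [Subgroup.mem_center_iff]
    intro g
    by_cases hz1 : z = 1
    · simp [hz1]
    have hzc : g * z * g⁻¹ ∈ H := hHn.conj_mem z hz g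
    obtain ⟨w, hw, hu⟩ := (Nat.card_eq_two_iff' (⟨1, one_mem H⟩ : H)).1 hHc
    have e1 := hu ⟨z, hz⟩ (fun e => hz1 (congrArg Subtype.val e))
    have e2 := hu ⟨g * z * g⁻¹, hzc⟩ (fun e => hz1 (by simpa using congrArg Subtype.val e))
    have e3 : g * z * g⁻¹ = z := congrArg Subtype.val (e2.trans e1.symm)
    exact mul_inv_eq_iff_eq_mul.1 e3
  let f : G →* Equiv.Perm (G ⧸ H) := MulAction.toPermHom G (G ⧸ H)
  have hf : Function.Injective f := by
    rw [← MonoidHom.ker_eq_bot_iff, ← hcore, Subgroup.normalCore_eq_ker]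
  let e : G ⧸ H ≃ Fin 3 := (Finite.equivFinOfCardEq hidx)
  let φ : G →* Equiv.Perm (Fin 3) := (Equiv.permCongrHom e).toMonoidHom.comp f
  have hφ : Function.Bijective φ := by
    refine (Fintype.bijective_iff_injective_and_card φ).2
      ⟨(Equiv.permCongrHom e).injective.comp hf, ?_⟩
    rw [← Nat.card_eq_fintype_card, hG, Fintype.card_perm, Fintype.card_fin]
    rfl
  exact ⟨MulEquiv.ofBijective φ hφ⟩

end

theorem aux : ∀ (k : ℕ) (G : Type u) [Group G] [Finite G] [Group.IsSolvable G], Nat.card G = k →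
    (∀ x y : G, orderOf x = orderOf y → IsConj x y) →
    Nat.card G = 1 ∨ Nat.card G = 2 ∨ Nonempty (G ≃* Equiv.Perm (Fin 3)) := by
  intro k
  induction k using Nat.strong_induction_on with
  | _ k ih =>
  intro G _ _ _ hk h
  classical
  haveI : Fintype G := Fintype.ofFinite G
  by_cases hc : ∀ a b : G, a * b = b * a
  · have h1 := card_le_two_of_comm h hc
    have h2 : 0 < Nat.card G := Nat.card_pos
    omega
  haveI : Nontrivial G := by
    by_contra hn
    rw [not_nontrivial_iff_subsingleton] at hn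
    exact hc fun a b => Subsingleton.elim _ _
  obtain ⟨N, p, hp, hNn, hNb, -, hNab, hNp, hmin⟩ :=
    CfsgLib.Solvable.Basic.exists_minimal_normal_pgroup (G := G) (H := ⊤) top_ne_bot
  haveI := hNn
  haveI := Fact.mk hp
  -- `N` has exponent `p`
  have hNexp : ∀ n ∈ N, n ^ p = 1 := by
    let W : Subgroup G :=
      { carrier := {n | n ∈ N ∧ n ^ p = 1}
        one_mem' := ⟨one_mem _, one_pow _⟩
        mul_mem' := fun {a b} ha hb => ⟨mul_mem ha.1 hb.1, by
          rw [(show Commute a b from congrArg Subtype.val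
            (hNab.is_comm.comm (⟨a, ha.1⟩ : N) ⟨b, hb.1⟩)).mul_pow, ha.2, hb.2, one_mul]⟩
        inv_mem' := fun {a} ha => ⟨inv_mem ha.1, by rw [inv_pow, ha.2, inv_one]⟩ }
    have hWn : W.Normal := ⟨fun n hn g => ⟨hNn.conj_mem n hn.1 g, by
      rw [conj_pow, hn.2, mul_one, mul_inv_cancel]⟩⟩
    rcases hmin W hWn (fun n hn => hn.1) with hW | hW
    · exfalso
      haveI : Nontrivial N := (Subgroup.nontrivial_iff_ne_bot N).2 hNb
      obtain ⟨c, hc⟩ := IsPGroup.iff_card.1 hNp
      obtain ⟨n, hn⟩ := exists_prime_orderOf_dvd_card' (G := N) p (by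
        rw [hc]; exact dvd_pow_self p fun h0 => by
          have := Finite.one_lt_card (α := N); rw [hc, h0, pow_zero] at this; omega)
      have hmem : (n : G) ∈ W := ⟨n.2, orderOf_dvd_iff_pow_eq_one.1 (by rw [Subgroup.orderOf_coe, hn])⟩
      rw [hW, Subgroup.mem_bot, OneMemClass.coe_eq_one] at hmem
      rw [hmem, orderOf_one] at hn
      exact hp.ne_one hn.symm
    · intro n hn; exact (hW.ge hn).2
  obtain ⟨n₀, hn₀, hn₀o⟩ : ∃ n₀ ∈ N, orderOf n₀ = p := by
    obtain ⟨⟨n, hn⟩, hn1⟩ := Subgroup.ne_bot_iff_exists_ne_one.1 hNb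
    exact ⟨n, hn, orderOf_eq_prime (hNexp n hn) fun e => hn1 (Subtype.ext e)⟩
  have hord : ∀ a : G, orderOf a = p → a ∈ N := fun a ha => by
    obtain ⟨g, hg⟩ := isConj_iff.1 (h n₀ a (hn₀o.trans ha.symm))
    exact hg ▸ hNn.conj_mem n₀ hn₀ g
  -- lifts of elements
  have hlift1 : ∀ a : G, p ∣ orderOf (a : G ⧸ N) → orderOf a = orderOf (a : G ⧸ N) * p := by
    intro a hpa
    set n := orderOf (a : G ⧸ N) with hn
    have hnpos : 0 < n := orderOf_pos _
    have h1 : a ^ n ∈ N := (QuotientGroup.eq_one_iff _).1 (by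
      rw [QuotientGroup.mk_pow]; exact pow_orderOf_eq_one _)
    have h2 : orderOf a ∣ n * p := orderOf_dvd_of_pow_eq_one (by rw [pow_mul]; exact hNexp _ h1)
    obtain ⟨c, hcd⟩ : n ∣ orderOf a := orderOf_map_dvd (QuotientGroup.mk' N) a
    rw [hcd] at h2 ⊢
    rcases (Nat.dvd_prime hp).1 (Nat.dvd_of_mul_dvd_mul_left hnpos h2) with hc1 | hc1
    · exfalso
      subst hc1
      rw [mul_one] at hcd
      have h3 := (QuotientGroup.eq_one_iff _).2 (hord (a ^ (orderOf a / p))
        (orderOf_pow_orderOf_div (orderOf_pos a).ne' (hcd ▸ hpa)))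
      rw [QuotientGroup.mk_pow] at h3
      have h4 := orderOf_dvd_of_pow_eq_one h3
      rw [← hn, hcd] at h4
      exact absurd (Nat.le_of_dvd (Nat.div_pos (Nat.le_of_dvd hnpos hpa) hp.pos) h4)
        (not_le.2 (Nat.div_lt_self hnpos hp.one_lt))
    · rw [hc1]
  have hlift2 : ∀ a : G, ¬ p ∣ orderOf (a : G ⧸ N) →
      ∃ b : G, (b : G ⧸ N) = (a : G ⧸ N) ∧ orderOf b = orderOf (a : G ⧸ N) := by
    intro a hpa
    obtain ⟨j, hj⟩ := exists_pow_eq_self_of_coprime (x := (a : G ⧸ N)) (hp.coprime_iff_not_dvd.2 hpa)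
    refine ⟨a ^ (p * j), by rw [QuotientGroup.mk_pow, pow_mul, hj], Nat.dvd_antisymm ?_ ?_⟩
    · apply orderOf_dvd_of_pow_eq_one
      have h1 : a ^ orderOf (a : G ⧸ N) ∈ N := (QuotientGroup.eq_one_iff _).1 (by
        rw [QuotientGroup.mk_pow]; exact pow_orderOf_eq_one _)
      rw [← pow_mul, show p * j * orderOf (a : G ⧸ N) = orderOf (a : G ⧸ N) * p * j by ring,
        pow_mul, pow_mul, hNexp _ h1, one_pow]
    · have h5 := orderOf_map_dvd (QuotientGroup.mk' N) (a ^ (p * j))
      rwa [QuotientGroup.mk'_apply, QuotientGroup.mk_pow, pow_mul, hj] at h5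
  -- the quotient has the same property
  have hq : ∀ x y : G ⧸ N, orderOf x = orderOf y → IsConj x y := by
    intro x y hxy
    obtain ⟨a, rfl⟩ := QuotientGroup.mk_surjective x
    obtain ⟨b, rfl⟩ := QuotientGroup.mk_surjective y
    by_cases hpa : p ∣ orderOf (a : G ⧸ N)
    · exact (QuotientGroup.mk' N).map_isConj
        (h a b (by rw [hlift1 a hpa, hlift1 b (hxy ▸ hpa), hxy]))
    · obtain ⟨a', ha', ha'o⟩ := hlift2 a hpa
      obtain ⟨b', hb', hb'o⟩ := hlift2 b (hxy ▸ hpa)
      rw [← ha', ← hb']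
      exact (QuotientGroup.mk' N).map_isConj (h a' b' (by rw [ha'o, hb'o, hxy]))
  have hNN : ∀ a ∈ N, ∀ b ∈ N, a * b = b * a := fun a ha b hb =>
    congrArg Subtype.val (hNab.is_comm.comm (⟨a, ha⟩ : N) ⟨b, hb⟩)
  -- the class of `n₀` is `N \ 1`
  have hclass : (Subgroup.centralizer ({n₀} : Set G)).index + 1 = Nat.card N := by
    have h1 : ((Finset.univ : Finset G).filter fun y => IsConj n₀ y) =
        ((Finset.univ : Finset G).filter fun y => y ∈ N).erase 1 := by
      ext y
      simp only [Finset.mem_filter, Finset.mem_univ, true_and, Finset.mem_erase]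
      refine ⟨fun hy => ?_, fun hy => h n₀ y
        (hn₀o.trans (orderOf_eq_prime (hNexp y hy.2) hy.1).symm)⟩
      obtain ⟨g, rfl⟩ := isConj_iff.1 hy
      refine ⟨fun e => ?_, hNn.conj_mem n₀ hn₀ g⟩
      rw [conj_eq_one_iff] at e
      rw [e, orderOf_one] at hn₀o
      exact hp.ne_one hn₀o.symm
    rw [← CfsgLib.PGroup.Basic.conj_card_eq_index, Nat.card_eq_fintype_card, Fintype.card_subtype,
      h1, Finset.card_erase_add_one (by simp), ← Fintype.card_subtype, ← Nat.card_eq_fintype_card]
  have hNle : N ≤ Subgroup.centralizer ({n₀} : Set G) := fun a ha =>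
    Subgroup.mem_centralizer_singleton_iff.2 (hNN a ha n₀ hn₀)
  have hGN := Subgroup.card_mul_index N
  rcases ih (Nat.card (G ⧸ N)) (hk ▸ CfsgLib.Solvable.Basic.card_quotient_lt N hNb) (G ⧸ N) rfl hq
    with h1 | h2 | hne
  · exfalso
    refine hc fun a b => hNN a ?_ b ?_ <;>
      rw [show N = ⊤ from Subgroup.index_eq_one.1 h1] <;> exact Subgroup.mem_top _
  · have hi : N.index = 2 := h2
    have h3 : (Subgroup.centralizer ({n₀} : Set G)).index ≤ 2 :=
      Nat.le_of_dvd two_pos (hi ▸ Subgroup.index_dvd_of_le hNle)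
    have h4 : 1 < Nat.card N := (Subgroup.one_lt_card_iff_ne_bot N).2 hNb
    rw [hi] at hGN
    rcases (by omega : Nat.card N = 2 ∨ Nat.card N = 3) with hN2 | hN3
    · exfalso
      haveI : Fact (Nat.Prime 2) := ⟨Nat.prime_two⟩
      exact hc (IsPGroup.commGroupOfCardEqPrimeSq (p := 2) (G := G) (by rw [← hGN, hN2]; norm_num)).mul_comm
    · exact Or.inr (Or.inr (equiv_perm_three (by rw [← hGN, hN3]) hc))
  · obtain ⟨e⟩ := hne
    exfalso
    have hi : N.index = 6 := by
      show Nat.card (G ⧸ N) = 6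
      rw [Nat.card_congr e.toEquiv, Nat.card_eq_fintype_card, Fintype.card_perm, Fintype.card_fin]
      rfl
    rw [hi] at hGN
    -- `p` is neither 2 nor 3
    have hp23 : ∀ (c : ℕ), 2 ≤ c → 6 ≤ c * p * (Finset.univ.filter
        fun σ : Equiv.Perm (Fin 3) => orderOf σ = c).card - 1 →
        p ∣ c → False := by
      intro c hc2 hbig hpc
      set S : Set (G ⧸ N) := {q | orderOf q = c} with hS
      have hSc : Nat.card S = (Finset.univ.filter fun σ : Equiv.Perm (Fin 3) => orderOf σ = c).card := by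
        rw [← Fintype.card_subtype, ← Nat.card_eq_fintype_card]
        exact Nat.card_congr (e.toEquiv.subtypeEquiv fun q => by
          show orderOf q = c ↔ orderOf (e q) = c
          rw [MulEquiv.orderOf_eq])
      have hpre : Nat.card (QuotientGroup.mk ⁻¹' S : Set G) = Nat.card N * Nat.card S := by
        rw [Nat.card_congr (QuotientGroup.preimageMkEquivSubgroupProdSet N S), Nat.card_prod]
      obtain ⟨y, hy⟩ : ∃ y : G, (y : G ⧸ N) ∈ S := by
        have hne : (Finset.univ.filter fun σ : Equiv.Perm (Fin 3) => orderOf σ = c).Nonempty := by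
          rw [← Finset.card_pos]
          by_contra h0
          rw [Nat.le_zero.1 (not_lt.1 h0), mul_zero] at hbig
          omega
        obtain ⟨σ, hσ⟩ := hne
        obtain ⟨y, hy⟩ := QuotientGroup.mk_surjective (e.symm σ)
        exact ⟨y, by rw [hy]; simpa [hS] using (Finset.mem_filter.1 hσ).2⟩
      have hyo : orderOf y = c * p := by
        rw [hlift1 y (by rw [show orderOf (y : G ⧸ N) = c from hy]; exact hpc),
          show orderOf (y : G ⧸ N) = c from hy]
      have hsub : Nat.card (QuotientGroup.mk ⁻¹' S : Set G) ≤ Nat.card {z : G // IsConj y z} :=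
        Nat.card_le_card_of_injective
          (fun z => (⟨z.1, h y z.1 (by
            have hz : orderOf (z.1 : G ⧸ N) = c := z.2
            rw [hyo, hlift1 z.1 (by rw [hz]; exact hpc), hz])⟩ : {z : G // IsConj y z}))
          fun a b hab => Subtype.ext (congrArg (fun z => z.1) hab :)
      rw [CfsgLib.PGroup.Basic.conj_card_eq_index, hpre, hSc] at hsub
      have hCy : c * p ≤ Nat.card (Subgroup.centralizer ({y} : Set G)) := by
        rw [← hyo, ← Nat.card_zpowers]
        exact Subgroup.card_le_of_le (Subgroup.zpowers_le.2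
          (Subgroup.mem_centralizer_singleton_iff.2 rfl))
      have h5 := Nat.mul_le_mul hCy hsub
      rw [Subgroup.card_mul_index, ← hGN] at h5
      have h6 : 0 < Nat.card N := Nat.card_pos
      have h7 : c * p * (Finset.univ.filter fun σ : Equiv.Perm (Fin 3) => orderOf σ = c).card ≤ 6 :=
        Nat.le_of_mul_le_mul_left (show Nat.card N * (c * p * (Finset.univ.filter fun σ : Equiv.Perm (Fin 3) => orderOf σ = c).card) ≤ Nat.card N * 6 by nlinarith) h6
      omega
    have h2inv : (Finset.univ.filter fun σ : Equiv.Perm (Fin 3) => orderOf σ = 2).card = 3 := by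
      rw [show (Finset.univ.filter fun σ : Equiv.Perm (Fin 3) => orderOf σ = 2) =
        Finset.univ.filter fun σ => σ ^ 2 = 1 ∧ σ ≠ 1 from Finset.filter_congr fun σ _ =>
          orderOf_eq_prime_iff (p := 2)]
      decide
    haveI : Fact (Nat.Prime 3) := ⟨Nat.prime_three⟩
    have h3inv : (Finset.univ.filter fun σ : Equiv.Perm (Fin 3) => orderOf σ = 3).card = 2 := by
      rw [show (Finset.univ.filter fun σ : Equiv.Perm (Fin 3) => orderOf σ = 3) =
        Finset.univ.filter fun σ => σ ^ 3 = 1 ∧ σ ≠ 1 from Finset.filter_congr fun σ _ =>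
          orderOf_eq_prime_iff (p := 3)]
      decide
    have hp2 : p ≠ 2 := fun e2 => hp23 2 le_rfl (by rw [h2inv, e2]; norm_num) (e2 ▸ dvd_rfl)
    have hp3 : p ≠ 3 := fun e3 => hp23 3 (by norm_num) (by rw [h3inv, e3]; norm_num) (e3 ▸ dvd_rfl)
    -- `N` has order seven and is self-centralising
    have hidx : (Subgroup.centralizer ({n₀} : Set G)).index ∣ 6 := hi ▸ Subgroup.index_dvd_of_le hNle
    have hNp' : p ∣ Nat.card N := by
      rw [← hn₀o]; exact Subgroup.orderOf_dvd_natCard N hn₀
    have hN7 : Nat.card N = 7 ∧ p = 7 ∧ (Subgroup.centralizer ({n₀} : Set G)).index = 6 := by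
      have h8 := Nat.le_of_dvd (by norm_num) hidx
      have h9 := Nat.le_of_dvd Nat.card_pos hNp'
      have hp5 : 5 ≤ p := by
        have := hp.two_le
        rcases (by omega : p = 4 ∨ 5 ≤ p) with h4 | h4
        · subst h4; norm_num at hp
        · exact h4
      set i := (Subgroup.centralizer ({n₀} : Set G)).index
      rw [← hclass] at hNp' h9 ⊢
      obtain ⟨q, hqp⟩ := hNp'
      interval_cases i <;> (try norm_num at hidx) <;>
        (interval_cases p <;> (try norm_num at hp) <;> omega)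
    obtain ⟨hN7, hp7, hi6⟩ := hN7
    haveI : Fact (Nat.Prime 7) := ⟨by norm_num⟩
    have hCN : Subgroup.centralizer ({n₀} : Set G) = N := by
      refine (Subgroup.eq_of_le_of_card_ge hNle ?_).symm
      have h10 := Subgroup.card_mul_index (Subgroup.centralizer ({n₀} : Set G))
      rw [hi6, ← hGN] at h10
      omega
    have hconj : ∀ g : G, ∃ i : ℤ, g * n₀ * g⁻¹ = n₀ ^ i := by
      intro g
      have heq : Subgroup.zpowers n₀ = N := Subgroup.eq_of_le_of_card_ge
        (Subgroup.zpowers_le.2 hn₀) (by rw [Nat.card_zpowers, hn₀o, hp7, hN7])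
      obtain ⟨i, hi'⟩ := Subgroup.mem_zpowers_iff.1 (heq.ge (hNn.conj_mem n₀ hn₀ g))
      exact ⟨i, hi'.symm⟩
    have hqab : ∀ a b : G ⧸ N, a * b = b * a := by
      intro a b
      obtain ⟨a, rfl⟩ := QuotientGroup.mk_surjective a
      obtain ⟨b, rfl⟩ := QuotientGroup.mk_surjective b
      rw [← QuotientGroup.mk_mul, ← QuotientGroup.mk_mul, QuotientGroup.eq, ← hCN,
        Subgroup.mem_centralizer_singleton_iff]
      obtain ⟨i, hi'⟩ := hconj a
      obtain ⟨j, hj'⟩ := hconj b
      have e1 : (b * a) * n₀ * (b * a)⁻¹ = (a * b) * n₀ * (a * b)⁻¹ := by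
        calc (b * a) * n₀ * (b * a)⁻¹ = b * (a * n₀ * a⁻¹) * b⁻¹ := by group
          _ = n₀ ^ (j * i) := by rw [hi', ← conj_zpow, hj', zpow_mul]
          _ = n₀ ^ (i * j) := by rw [mul_comm]
          _ = a * (b * n₀ * b⁻¹) * a⁻¹ := by rw [hj', ← conj_zpow, hi', zpow_mul]
          _ = _ := by group
      calc (a * b)⁻¹ * (b * a) * n₀ = (a * b)⁻¹ * ((b * a) * n₀ * (b * a)⁻¹) * (b * a) := by group
        _ = (a * b)⁻¹ * ((a * b) * n₀ * (a * b)⁻¹) * (b * a) := by rw [e1]
        _ = _ := by group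
    have := card_le_two_of_comm hq hqab
    rw [show Nat.card (G ⧸ N) = 6 from hi] at this
    omega

/-- A finite solvable group in which any two elements of the same order are conjugate has order 1 or 2 or is isomorphic to the symmetric group of degree 3. -/
theorem result {G : Type*} [Group G] [Finite G] [Group.IsSolvable G]
    (h : ∀ x y : G, orderOf x = orderOf y → IsConj x y) :
    Nat.card G = 1 ∨ Nat.card G = 2 ∨ Nonempty (G ≃* Equiv.Perm (Fin 3)) := by
  exact aux _ G rfl h

end Cfsg.Agent.S4062
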