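import Cfsg.Statements.S4065


set_option autoImplicit false
open Cfsg

namespace Cfsg.Agent.S4065

theorem exists_affine {F : Type*} [Field F] (A B : Matrix (Fin 2) (Fin 2) F)
    (hA : ¬ (A 0 1 = 0 ∧ A 1 0 = 0 ∧ A 0 0 = A 1 1)) (h : A * B = B * A) :
    ∃ a b : F, B = a • (1 : Matrix (Fin 2) (Fin 2) F) + b • A := by
  have e00 := congrFun (congrFun h 0) 0
  have e01 := congrFun (congrFun h 0) 1
  have e10 := congrFun (congrFun h 1) 0
  simp [Matrix.mul_apply, Fin.sum_univ_two] at e00 e01 e10
  by_cases hq : A 0 1 = 0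
  · by_cases hr : A 1 0 = 0
    · have hd : A 0 0 - A 1 1 ≠ 0 := sub_ne_zero.2 fun e => hA ⟨hq, hr, e⟩
      refine ⟨B 0 0 - (B 0 0 - B 1 1) / (A 0 0 - A 1 1) * A 0 0,
        (B 0 0 - B 1 1) / (A 0 0 - A 1 1), ?_⟩
      have hx : B 0 1 = 0 := (mul_eq_zero.1 (show (A 0 0 - A 1 1) * B 0 1 = 0 by
        rw [hq] at e01; linear_combination e01)).resolve_left hd
      have hy : B 1 0 = 0 := (mul_eq_zero.1 (show (A 0 0 - A 1 1) * B 1 0 = 0 by
        rw [hr] at e10; linear_combination -e10)).resolve_left hd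
      ext i j
      fin_cases i <;> fin_cases j <;> simp [hq, hr, hx, hy]
      field_simp
      ring
    · refine ⟨B 0 0 - B 1 0 / A 1 0 * A 0 0, B 1 0 / A 1 0, ?_⟩
      have hx : B 0 1 = 0 := by
        rw [hq] at e00
        exact (mul_eq_zero.1 (show A 1 0 * B 0 1 = 0 by linear_combination -e00)).resolve_left hr
      ext i j
      fin_cases i <;> fin_cases j <;> simp [hq, hx, hr]
      field_simp
      linear_combination -e10
  · refine ⟨B 0 0 - B 0 1 / A 0 1 * A 0 0, B 0 1 / A 0 1, ?_⟩
    ext i j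
    fin_cases i <;> fin_cases j <;> simp [hq] <;> field_simp
    · linear_combination e00
    · linear_combination e01

theorem ct_sl {F : Type*} [Field F] [CharP F 2]
    (a b c : Matrix.SpecialLinearGroup (Fin 2) F) (hb : b ≠ 1) (hab : Commute a b)
    (hbc : Commute b c) : Commute a c := by
  have hA : ¬ (b.1 0 1 = 0 ∧ b.1 1 0 = 0 ∧ b.1 0 0 = b.1 1 1) := by
    rintro ⟨h1, h2, h3⟩
    have hd := b.2
    rw [Matrix.det_fin_two, h1, zero_mul, sub_zero, ← h3] at hd
    have h0 : b.1 0 0 = 1 := by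
      rcases mul_self_eq_one_iff.1 hd with h | h
      · exact h
      · exact h.trans (CharTwo.neg_eq 1)
    refine hb (Subtype.ext ?_)
    ext i j
    fin_cases i <;> fin_cases j <;> simp [h1, h2, h0, ← h3]
  obtain ⟨u, v, ha⟩ := exists_affine b.1 a.1 hA (congrArg Subtype.val hab.eq.symm)
  obtain ⟨u', v', hc⟩ := exists_affine b.1 c.1 hA (congrArg Subtype.val hbc.eq)
  refine Subtype.ext ?_
  show a.1 * c.1 = c.1 * a.1
  rw [ha, hc]
  simp [add_mul, mul_add, smul_smul, mul_comm]
  abel

theorem ct_psl (n : ℕ) (a b c : Matrix.ProjectiveSpecialLinearGroup (Fin 2) (GaloisField 2 n))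
    (hb : b ≠ 1) (hab : Commute a b) (hbc : Commute b c) : Commute a c := by
  set f := QuotientGroup.mk' (Subgroup.center (Matrix.SpecialLinearGroup (Fin 2) (GaloisField 2 n)))
  have hf : Function.Injective f := by
    rw [injective_iff_map_eq_one]
    intro z hz
    have hz' : z ∈ Subgroup.center _ := (QuotientGroup.eq_one_iff z).1 hz
    obtain ⟨r, hr, e⟩ := Matrix.SpecialLinearGroup.mem_center_iff.1 hz'
    have h1 : r = 1 := by
      rw [Fintype.card_fin, sq] at hr
      rcases mul_self_eq_one_iff.1 hr with h | h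
      · exact h
      · exact h.trans (CharTwo.neg_eq 1)
    refine Subtype.ext ?_
    rw [← e, h1]
    simp
  obtain ⟨a, rfl⟩ := QuotientGroup.mk'_surjective _ a
  obtain ⟨b, rfl⟩ := QuotientGroup.mk'_surjective _ b
  obtain ⟨c, rfl⟩ := QuotientGroup.mk'_surjective _ c
  refine (ct_sl a b c (fun h => hb (by rw [h, map_one])) ?_ ?_).map f
  · exact hf (by rw [map_mul, map_mul]; exact hab)
  · exact hf (by rw [map_mul, map_mul]; exact hbc)

/-- Let F be a finite field with 2ⁿ elements, n ≥ 2. In PSL₂(F) the centralizer of every element meets each of its conjugates by elements outside its normalizer trivially. -/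
theorem result (n : ℕ) (hn : 2 ≤ n)
    (x : Matrix.ProjectiveSpecialLinearGroup (Fin 2) (GaloisField 2 n)) :
    Cfsg.IsTISubset (Subgroup.centralizer ({x} : Set (Matrix.ProjectiveSpecialLinearGroup (Fin 2) (GaloisField 2 n))) :
      Set (Matrix.ProjectiveSpecialLinearGroup (Fin 2) (GaloisField 2 n))) := by
  classical
  have ct := ct_psl n
  intro g hg y hy hgy
  by_contra hy1
  rw [SetLike.mem_coe, Subgroup.mem_centralizer_singleton_iff] at hy hgy
  replace hy : Commute y x := hy
  replace hgy : Commute (g * y * g⁻¹) x := hgy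
  rcases eq_or_ne x 1 with hx | hx
  · exact hg (Subgroup.mem_normalizer_iff.2 fun h => by
      simp [hx, Subgroup.mem_centralizer_singleton_iff])
  have hgy1 : g * y * g⁻¹ ≠ 1 := fun h => hy1 (by simpa [mul_assoc] using congrArg (fun t => g⁻¹ * t * g) h)
  refine hg (Subgroup.mem_normalizer_iff.2 fun h => ?_)
  rw [Subgroup.mem_centralizer_singleton_iff, Subgroup.mem_centralizer_singleton_iff]
  refine ⟨fun hh => ?_, fun hh => ?_⟩
  · have h1 : Commute h y := ct h x y hx (show Commute h x from hh) (Commute.symm hy)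
    have h2 : Commute (g * h * g⁻¹) (g * y * g⁻¹) := h1.map (MulAut.conj g)
    exact ct _ _ _ hgy1 h2 hgy
  · have h2 : Commute (g * h * g⁻¹) (g * y * g⁻¹) := ct _ x _ hx (show Commute (g * h * g⁻¹) x from hh) (Commute.symm hgy)
    have h1 : Commute h y := by
      have := h2.map (MulAut.conj g⁻¹)
      simpa [mul_assoc] using this
    exact ct h y x hy1 h1 hy

end Cfsg.Agent.S4065
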