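import Cfsg.Statements.S4066


set_option autoImplicit false
open Cfsg
open scoped Pointwise

namespace Cfsg.Agent.S4066

/-- Let G be a finite group in which the centralizer of every element meets each of its conjugates by elements outside its normalizer trivially. Then any two distinct Sylow p-subgroups of G, for any prime p, intersect trivially. -/
theorem result {G : Type*} [Group G] [Finite G] (hTI : ∀ x : G, Cfsg.IsTISubset (Subgroup.centralizer ({x} : Set G) : Set G))
    {p : ℕ} [Fact p.Prime] (P Q : Sylow p G) (hPQ : P ≠ Q) : (P : Subgroup G) ⊓ (Q : Subgroup G) = ⊥ := by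
  by_contra hne
  apply hPQ
  have hnorm : ∀ a b : G, Commute a b → a ≠ 1 →
      Subgroup.normalizer ((Subgroup.centralizer ({a} : Set G) : Subgroup G) : Set G) ≤
        Subgroup.normalizer ((Subgroup.centralizer ({b} : Set G) : Subgroup G) : Set G) := by
    intro a b hab ha g hg
    by_contra hgn
    refine ha (hTI b g hgn a (Subgroup.mem_centralizer_singleton_iff.mpr hab.eq) ?_)
    have h1 : g⁻¹ * b * g ∈ Subgroup.centralizer ({a} : Set G) := by
      simpa using (Subgroup.mem_normalizer_iff.mp (inv_mem hg) b).mp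
        (Subgroup.mem_centralizer_singleton_iff.mpr hab.eq.symm)
    have h2 := Subgroup.mem_centralizer_singleton_iff.mp h1
    refine Subgroup.mem_centralizer_singleton_iff.mpr ?_
    calc g * a * g⁻¹ * b = g * (a * (g⁻¹ * b * g)) * g⁻¹ := by group
      _ = g * (g⁻¹ * b * g * a) * g⁻¹ := by rw [h2]
      _ = _ := by group
  obtain ⟨⟨z, hz⟩, hz1'⟩ := Subgroup.ne_bot_iff_exists_ne_one.mp hne
  have hz1 : z ≠ 1 := fun h => hz1' (Subtype.ext h)
  obtain ⟨hzP, hzQ⟩ := Subgroup.mem_inf.mp hz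
  have hcen : ∀ S : Sylow p G, z ∈ (S : Subgroup G) →
      ∃ u : G, u ∈ (S : Subgroup G) ∧ u ≠ 1 ∧ ∀ s ∈ (S : Subgroup G), Commute s u := by
    intro S hzS
    haveI : Nontrivial ↥(S : Subgroup G) := ⟨⟨⟨z, hzS⟩, 1, fun e => hz1 (congrArg Subtype.val e)⟩⟩
    haveI := IsPGroup.center_nontrivial S.isPGroup'
    obtain ⟨⟨u, hu⟩, hu1⟩ := exists_ne (1 : Subgroup.center ↥(S : Subgroup G))
    exact ⟨u, u.2, fun h => hu1 (Subtype.ext (Subtype.ext h)),
      fun s hs => congrArg Subtype.val (Subgroup.mem_center_iff.mp hu ⟨s, hs⟩)⟩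
  obtain ⟨u, huP, hu1, hu⟩ := hcen P hzP
  obtain ⟨v, hvQ, hv1, hv⟩ := hcen Q hzQ
  set M := Subgroup.normalizer ((Subgroup.centralizer ({u} : Set G) : Subgroup G) : Set G) with hM
  have hQM : (Q : Subgroup G) ≤ M := fun s hs =>
    hnorm z u (hu z hzP) hz1 (hnorm v z (hv z hzQ).symm hv1
      (Subgroup.le_normalizer (Subgroup.mem_centralizer_singleton_iff.mpr (hv s hs).eq)))
  refine (Sylow.ext (P.is_maximal' Q.isPGroup' fun w hw => ?_)).symm
  by_cases hw1 : w = 1
  · exact hw1 ▸ one_mem _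
  have hwM : M ≤ Subgroup.normalizer ((Subgroup.centralizer ({w} : Set G) : Subgroup G) : Set G) :=
    hnorm u w (hu w hw).symm hu1
  set S : Set G := {x | ∃ m ∈ M, x = m * w * m⁻¹} with hS
  have hSc : Subgroup.closure S ≤ Subgroup.centralizer S := by
    rw [Subgroup.closure_le]
    rintro _ ⟨m, hm, rfl⟩
    refine Subgroup.mem_centralizer_iff.mpr ?_
    rintro _ ⟨n, hn, rfl⟩
    have h1 : n⁻¹ * m * w * (n⁻¹ * m)⁻¹ ∈ Subgroup.centralizer ({w} : Set G) :=
      (Subgroup.mem_normalizer_iff.mp (hwM (mul_mem (inv_mem hn) hm)) w).mp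
        (Subgroup.mem_centralizer_singleton_iff.mpr rfl)
    have h2 := Subgroup.mem_centralizer_singleton_iff.mp h1
    calc n * w * n⁻¹ * (m * w * m⁻¹)
        = n * (w * (n⁻¹ * m * w * (n⁻¹ * m)⁻¹)) * n⁻¹ := by group
      _ = n * (n⁻¹ * m * w * (n⁻¹ * m)⁻¹ * w) * n⁻¹ := by rw [h2]
      _ = _ := by group
  have hcc : Subgroup.closure S ≤ Subgroup.centralizer (Subgroup.closure S : Set G) := by
    rw [Subgroup.centralizer_closure]; exact hSc
  have hp : IsPGroup p ↥(Subgroup.closure S) := by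
    rintro ⟨x, hx⟩
    suffices ∃ k, x ^ p ^ k = 1 from this.imp fun k hk => Subtype.ext hk
    induction hx using Subgroup.closure_induction with
    | mem x hx =>
      obtain ⟨m, -, rfl⟩ := hx
      obtain ⟨k, hk⟩ := P.isPGroup' ⟨w, hw⟩
      exact ⟨k, by rw [conj_pow, show w ^ p ^ k = 1 by simpa using congrArg Subtype.val hk,
        mul_one, mul_inv_cancel]⟩
    | one => exact ⟨0, one_pow _⟩
    | mul x y hx hy ihx ihy =>
      obtain ⟨a, ha⟩ := ihx
      obtain ⟨b, hb⟩ := ihy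
      refine ⟨a + b, ?_⟩
      rw [(show Commute x y from Subgroup.mem_centralizer_iff.mp (hcc hy) x hx).mul_pow,
        pow_add, pow_mul, ha, one_pow, one_mul, mul_comm, pow_mul, hb, one_pow]
    | inv x _ ihx =>
      obtain ⟨a, ha⟩ := ihx
      exact ⟨a, by rw [inv_pow, ha, inv_one]⟩
  have hle : (Q : Subgroup G) ≤ Subgroup.normalizer ((Subgroup.closure S : Subgroup G) : Set G) := by
    intro s hs
    refine Subgroup.mem_normalizer_iff_map_conj_eq.mpr ?_
    rw [MonoidHom.map_closure]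
    refine congrArg Subgroup.closure (Set.ext fun x => ⟨?_, ?_⟩)
    · rintro ⟨_, ⟨m, hm, rfl⟩, rfl⟩
      exact ⟨s * m, mul_mem (hQM hs) hm, by simp [mul_assoc]⟩
    · rintro ⟨m, hm, rfl⟩
      exact ⟨s⁻¹ * m * w * (s⁻¹ * m)⁻¹, ⟨s⁻¹ * m, mul_mem (inv_mem (hQM hs)) hm, rfl⟩,
        by simp [mul_assoc]⟩
  have hjoin := Q.is_maximal' (hp.to_sup_of_normal_left' Q.isPGroup' hle) le_sup_right
  exact hjoin ▸ Subgroup.mem_sup_left (Subgroup.subset_closure ⟨1, one_mem _, by simp⟩)

end Cfsg.Agent.S4066
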