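import Cfsg.Statements.S4068
import Cfsg.Agent.S0144
import Cfsg.Agent.S0183
import Cfsg.Agent.S0494
import Cfsg.Agent.S1230
import Cfsg.Agent.Lib.Perm.SharpThreeOdd
import Cfsg.Agent.Lib.Classical.SL2Sylow

set_option autoImplicit false
open Cfsg

namespace Cfsg.Agent.S4068

open Subgroup

section Sl

open Matrix Polynomial
open scoped MatrixGroups

variable {F : Type*} [Field F] [Fintype F]

private def diagHom : Fˣ →* SL(2, F) where
  toFun u := ⟨!![(u : F), 0; 0, ((u⁻¹ : Fˣ) : F)], by simp [Matrix.det_fin_two]⟩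
  map_one' := by
    refine Subtype.ext ?_
    ext i j
    fin_cases i <;> fin_cases j <;> simp
  map_mul' a b := by
    refine Subtype.ext ?_
    ext i j
    change (!![((a * b : Fˣ) : F), 0; 0, (((a * b)⁻¹ : Fˣ) : F)]) i j =
      ((!![(a : F), 0; 0, ((a⁻¹ : Fˣ) : F)] : Matrix (Fin 2) (Fin 2) F) * !![(b : F), 0; 0, ((b⁻¹ : Fˣ) : F)]) i j
    fin_cases i <;> fin_cases j <;> simp [Matrix.mul_apply, Fin.sum_univ_two, mul_comm]

private theorem diagHom_injective : Function.Injective (diagHom (F := F)) := fun a b h =>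
  Units.ext (by
    exact congrFun (congrFun (congrArg Subtype.val h) 0) 0)

omit [Fintype F] in
private theorem tor_det [CharP F 2] (a : F) : (!![a, 1; 1, 0] : Matrix (Fin 2) (Fin 2) F).det = 1 := by
  rw [Matrix.det_fin_two]
  simp [CharTwo.neg_eq]

/-- The companion matrix of `X² + aX + 1`. -/
private def tor [CharP F 2] (a : F) : SL(2, F) := ⟨!![a, 1; 1, 0], tor_det a⟩

private theorem trace_split [CharP F 2] {a : F} (ha : a ≠ 0) (h : tor a ^ (Fintype.card F - 1) = 1) :
    ∃ u : F, u ≠ 0 ∧ u + u⁻¹ = a := by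
  classical
  set A : Matrix (Fin 2) (Fin 2) F := !![a, 1; 1, 0] with hA
  have hq : 1 ≤ Fintype.card F := Fintype.card_pos
  have hAq : A ^ (Fintype.card F) = A := by
    have h1 : A ^ (Fintype.card F - 1) = 1 := congrArg Subtype.val h
    conv_lhs => rw [← Nat.sub_add_cancel hq, pow_succ, h1, one_mul]
  have hmon : (X ^ Fintype.card F - X : F[X]).Monic := by
    refine monic_X_pow_sub ?_
    rw [degree_X]
    exact_mod_cast Fintype.one_lt_card
  have hprod : (∏ u : F, (X - C u)) = (X ^ Fintype.card F - X : F[X]) := by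
    have h1 := prod_multiset_X_sub_C_of_monic_of_roots_card_eq hmon (by
      rw [FiniteField.roots_X_pow_card_sub_X, FiniteField.X_pow_card_sub_X_natDegree_eq F Fintype.one_lt_card]
      rfl)
    rw [FiniteField.roots_X_pow_card_sub_X] at h1
    exact h1
  let D : F[X] →* F := Matrix.detMonoidHom.comp (aeval (R := F) A).toRingHom.toMonoidHom
  have h0 : ∏ u : F, D (X - C u) = 0 := by
    rw [← map_prod, hprod]
    show Matrix.det (aeval A (X ^ Fintype.card F - X : F[X])) = 0
    rw [map_sub, map_pow, aeval_X, hAq, sub_self]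
    exact Matrix.det_zero
  obtain ⟨u, -, hu⟩ := Finset.prod_eq_zero_iff.1 h0
  have hu' : u * u + a * u + 1 = 0 := by
    have h2 : D (X - C u) = (A - algebraMap F _ u).det := by
      show Matrix.det (aeval A (X - C u)) = _
      rw [map_sub, aeval_X, aeval_C]
    rw [h2, Matrix.det_fin_two] at hu
    simp [hA, Matrix.algebraMap_matrix_apply] at hu
    have h3 : (2 : F) = 0 := CharTwo.two_eq_zero
    linear_combination hu + (a * u + 1) * h3
  have hu0 : u ≠ 0 := by
    rintro rfl
    simp at hu'
  refine ⟨u, hu0, ?_⟩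
  have h3 : (2 : F) = 0 := CharTwo.two_eq_zero
  field_simp
  linear_combination hu' - (a * u) * h3

/-- In `SL₂(2^f)`, `f ≥ 3`, element orders are not confined to `1, 2, 3, q - 1`. -/
private theorem orders_absurd [CharP F 2] (h4 : 4 < Fintype.card F)
    (h : ∀ A : SL(2, F), orderOf A ∈ ({1, 2, 3, Fintype.card F - 1} : Finset ℕ)) : False := by
  classical
  have h2 : (2 : F) = 0 := CharTwo.two_eq_zero
  have key : ∀ a : F, a ≠ 0 → a ≠ 1 → ∃ u : F, (u ≠ 0 ∧ u ≠ 1) ∧ u + u⁻¹ = a := by
    intro a ha ha1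
    have ho := h (tor a)
    simp only [Finset.mem_insert, Finset.mem_singleton] at ho
    have e1 : tor a ≠ 1 := fun e => by
      have := congrFun (congrFun (congrArg Subtype.val e) 0) 1
      simp [tor] at this
    have e2 : tor a ^ 2 ≠ 1 := fun e => by
      rw [pow_two] at e
      have : ((!![a, 1; 1, 0] : Matrix (Fin 2) (Fin 2) F) * !![a, 1; 1, 0]) 0 1 = (1 : Matrix (Fin 2) (Fin 2) F) 0 1 :=
        congrFun (congrFun (congrArg Subtype.val e) 0) 1
      simp [Matrix.mul_apply, Fin.sum_univ_two] at this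
      exact ha this
    have e3 : tor a ^ 3 ≠ 1 := fun e => by
      rw [pow_succ, pow_two] at e
      have : ((!![a, 1; 1, 0] : Matrix (Fin 2) (Fin 2) F) * !![a, 1; 1, 0] * !![a, 1; 1, 0]) 0 1 =
          (1 : Matrix (Fin 2) (Fin 2) F) 0 1 :=
        congrFun (congrFun (congrArg Subtype.val e) 0) 1
      simp [Matrix.mul_apply, Fin.sum_univ_two] at this
      exact ha1 (sub_eq_zero.1 (mul_self_eq_zero.1 (by linear_combination this - a * h2)))
    rcases ho with ho | ho | ho | ho
    · exact absurd (orderOf_eq_one_iff.1 ho) e1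
    · exact absurd (orderOf_dvd_iff_pow_eq_one.1 ho.dvd) e2
    · exact absurd (orderOf_dvd_iff_pow_eq_one.1 ho.dvd) e3
    · obtain ⟨u, hu, e⟩ := trace_split ha (orderOf_dvd_iff_pow_eq_one.1 ho.dvd)
      refine ⟨u, ⟨hu, ?_⟩, e⟩
      rintro rfl
      exact ha (by rw [← e, inv_one]; linear_combination h2)
  let E := {u : F // u ≠ 0 ∧ u ≠ 1}
  choose r hr hre using fun a : E => key a.1 a.2.1 a.2.2
  let r' : E → E := fun a => ⟨r a, hr a⟩
  have hinj : Function.Injective r' := fun a b e => by
    apply Subtype.ext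
    rw [← hre a, ← hre b]
    have : r a = r b := congrArg Subtype.val e
    rw [this]
  have hsurj := Finite.injective_iff_surjective.1 hinj
  have hne : ∃ u : F, u ≠ 0 ∧ u ≠ 1 := by
    by_contra hcon
    have hsub : (Finset.univ : Finset F) ⊆ {0, 1} := fun u _ => by
      simp only [Finset.mem_insert, Finset.mem_singleton]
      by_contra h'
      exact hcon ⟨u, not_or.1 h'⟩
    have := (Finset.card_le_card hsub).trans Finset.card_le_two
    rw [Finset.card_univ] at this
    omega
  obtain ⟨u, hu0, hu1⟩ := hne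
  obtain ⟨a, ha⟩ := hsurj ⟨u, hu0, hu1⟩
  obtain ⟨b, hb⟩ := hsurj ⟨u⁻¹, inv_ne_zero hu0, fun e => hu1 (inv_eq_one.1 e)⟩
  have hra : r a = u := congrArg Subtype.val ha
  have hrb : r b = u⁻¹ := congrArg Subtype.val hb
  have hab : a = b := Subtype.ext (by rw [← hre a, ← hre b, hra, hrb, inv_inv, add_comm])
  subst hab
  have h3 : u = u⁻¹ := hra.symm.trans hrb
  have h4' : u * u = 1 := by
    nth_rw 2 [h3]
    exact mul_inv_cancel₀ hu0
  exact hu1 (sub_eq_zero.1 (mul_self_eq_zero.1 (by linear_combination h4' + (1 - u) * h2)))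

end Sl

section Orbits

variable {G : Type*} [Group G] [Finite G]

private theorem isSolvable_of_card_primeFactors (h : (Nat.card G).primeFactors.card ≤ 2) : Group.IsSolvable G := by
  classical
  have hn : Nat.card G ≠ 0 := Nat.card_pos.ne'
  have he := Nat.factorization_prod_pow_eq_self hn
  rw [Finsupp.prod, Nat.support_factorization] at he
  rcases Nat.lt_or_ge (Nat.card G).primeFactors.card 1 with h0 | h0
  · have : (Nat.card G).primeFactors = ∅ := Finset.card_eq_zero.1 (by omega)
    rw [this, Finset.prod_empty] at he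
    exact Cfsg.Agent.S0144.result 2 2 0 0 Nat.prime_two Nat.prime_two (by simp [← he])
  rcases Nat.lt_or_ge (Nat.card G).primeFactors.card 2 with h1 | h1
  · obtain ⟨p, hp⟩ := Finset.card_eq_one.1 (show (Nat.card G).primeFactors.card = 1 by omega)
    have hpp : p.Prime := Nat.prime_of_mem_primeFactors (n := Nat.card G) (by rw [hp]; simp)
    rw [hp, Finset.prod_singleton] at he
    exact Cfsg.Agent.S0144.result p 2 ((Nat.card G).factorization p) 0 hpp Nat.prime_two (by simp [he])
  · obtain ⟨p, r, hpr, hp⟩ := Finset.card_eq_two.1 (show (Nat.card G).primeFactors.card = 2 by omega)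
    have hpp : p.Prime := Nat.prime_of_mem_primeFactors (n := Nat.card G) (by rw [hp]; simp)
    have hrp : r.Prime := Nat.prime_of_mem_primeFactors (n := Nat.card G) (by rw [hp]; simp)
    rw [hp, Finset.prod_pair hpr] at he
    exact Cfsg.Agent.S0144.result p r _ _ hpp hrp he.symm

variable (hns : ¬ Group.IsSolvable G)
  (h4 : Nat.card (MulAction.orbitRel.Quotient (MulAut G) G) = 4)

include hns h4

/-- Every element is trivial or of prime order, there are three primes, and each order is one orbit. -/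
private theorem orbits :
    (∀ x : G, orderOf x ∈ insert 1 (Nat.card G).primeFactors) ∧ (Nat.card G).primeFactors.card = 3 ∧
      ∀ x y : G, orderOf x = orderOf y → ∃ φ : MulAut G, φ x = y := by
  classical
  let φ : MulAction.orbitRel.Quotient (MulAut G) G → ℕ := fun c => Quotient.liftOn' c (fun x => orderOf x)
    (fun x y hxy => by
      obtain ⟨f, hf⟩ := hxy
      show orderOf x = orderOf y
      rw [← hf]
      exact MulEquiv.orderOf_eq f y)
  haveI : Finite (MulAction.orbitRel.Quotient (MulAut G) G) := Nat.finite_of_card_ne_zero (by omega)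
  letI := Fintype.ofFinite (MulAction.orbitRel.Quotient (MulAut G) G)
  have hsub : insert 1 (Nat.card G).primeFactors ⊆ Finset.univ.image φ := by
    intro m hm
    rw [Finset.mem_image]
    rw [Finset.mem_insert] at hm
    rcases hm with rfl | hm
    · exact ⟨Quotient.mk'' 1, Finset.mem_univ _, orderOf_one⟩
    · haveI : Fact m.Prime := ⟨Nat.prime_of_mem_primeFactors hm⟩
      obtain ⟨x, hx⟩ := exists_prime_orderOf_dvd_card' (G := G) m (Nat.dvd_of_mem_primeFactors hm)
      exact ⟨Quotient.mk'' x, Finset.mem_univ _, hx⟩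
  have h1 : (1 : ℕ) ∉ (Nat.card G).primeFactors := fun hm => Nat.not_prime_one (Nat.prime_of_mem_primeFactors hm)
  have hc : (Finset.univ : Finset (MulAction.orbitRel.Quotient (MulAut G) G)).card = 4 := by
    rw [Finset.card_univ, ← Nat.card_eq_fintype_card, h4]
  have hle := Finset.card_image_le (s := (Finset.univ : Finset (MulAction.orbitRel.Quotient (MulAut G) G))) (f := φ)
  have h3 : 3 ≤ (Nat.card G).primeFactors.card := by
    by_contra hcon
    exact hns (isSolvable_of_card_primeFactors (by omega))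
  have hci := Finset.card_le_card hsub
  rw [Finset.card_insert_of_notMem h1] at hci
  have heq : insert 1 (Nat.card G).primeFactors = Finset.univ.image φ :=
    Finset.eq_of_subset_of_card_le hsub (by rw [Finset.card_insert_of_notMem h1]; omega)
  have hinj : Set.InjOn φ (Finset.univ : Finset (MulAction.orbitRel.Quotient (MulAut G) G)) := by
    apply Finset.card_image_iff.1
    omega
  refine ⟨fun x => heq ▸ Finset.mem_image.2 ⟨Quotient.mk'' x, Finset.mem_univ _, rfl⟩, by omega, fun x y hxy => ?_⟩
  have := hinj (Finset.mem_univ (Quotient.mk'' x)) (Finset.mem_univ (Quotient.mk'' y)) hxy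
  obtain ⟨f, hf⟩ := Quotient.exact' this.symm
  exact ⟨f, hf⟩

private theorem prime_order {x : G} (hx : x ≠ 1) : (orderOf x).Prime := by
  rcases Finset.mem_insert.1 ((orbits hns h4).1 x) with h | h
  · exact absurd (orderOf_eq_one_iff.1 h) hx
  · exact Nat.prime_of_mem_primeFactors h

/-- Commuting non-trivial elements have the same order. -/
private theorem order_eq_of_commute {x y : G} (hx : x ≠ 1) (hy : y ≠ 1) (h : Commute x y) :
    orderOf x = orderOf y := by
  have hp := prime_order hns h4 hx
  have hq := prime_order hns h4 hy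
  by_contra hne
  have hco : (orderOf x).Coprime (orderOf y) := (Nat.coprime_primes hp hq).2 hne
  have hm := h.orderOf_mul_eq_mul_orderOf_of_coprime hco
  by_cases h1 : x * y = 1
  · rw [orderOf_eq_one_iff.2 h1] at hm
    exact hp.ne_one (Nat.eq_one_of_mul_eq_one_right hm.symm)
  · have := prime_order hns h4 h1
    rw [hm] at this
    exact Nat.not_prime_mul hp.ne_one hq.ne_one this

private theorem char_eq_top {K : Subgroup G} [K.Characteristic] (hK : K ≠ ⊥) : K = ⊤ := by
  classical
  by_contra htop
  have hdisj : ∀ p : ℕ, p.Prime → p ∣ Nat.card K → ¬ p ∣ K.index := by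
    intro p hp hpK
    haveI : Fact p.Prime := ⟨hp⟩
    obtain ⟨x, hx⟩ := exists_prime_orderOf_dvd_card' (G := K) p hpK
    rw [← Subgroup.orderOf_coe] at hx
    obtain ⟨P⟩ : Nonempty (Sylow p G) := Sylow.nonempty
    have hPK : (P : Subgroup G) ≤ K := by
      intro y hy
      by_cases hy1 : y = 1
      · rw [hy1]; exact K.one_mem
      obtain ⟨k, hk⟩ := IsPGroup.iff_orderOf.1 P.isPGroup' ⟨y, hy⟩
      rw [Subgroup.orderOf_mk] at hk
      have hyp := prime_order hns h4 hy1
      rw [hk] at hyp
      have hk1 : k = 1 := hyp.eq_one_of_pow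
      rw [hk1, pow_one] at hk
      obtain ⟨f, rfl⟩ := (orbits hns h4).2.2 (x : G) y (hx.trans hk.symm)
      have h2 := SetLike.ext_iff.1 ((‹K.Characteristic›).fixed f) (x : G)
      exact h2.2 x.2
    exact fun h' => P.not_dvd_index (h'.trans (Subgroup.index_dvd_of_le hPK))
  have hd : Disjoint (Nat.card K).primeFactors K.index.primeFactors := Finset.disjoint_left.2 fun p hp hp' =>
    hdisj p (Nat.prime_of_mem_primeFactors hp) (Nat.dvd_of_mem_primeFactors hp) (Nat.dvd_of_mem_primeFactors hp')
  have hu : (Nat.card G).primeFactors = (Nat.card K).primeFactors ∪ K.index.primeFactors := by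
    rw [← K.card_mul_index, Nat.primeFactors_mul Nat.card_pos.ne' Subgroup.index_ne_zero_of_finite]
  have h3 := (orbits hns h4).2.1
  rw [hu, Finset.card_union_of_disjoint hd] at h3
  have hK1 : 1 ≤ (Nat.card K).primeFactors.card := Finset.card_pos.2
    (Nat.nonempty_primeFactors.2 (K.one_lt_card_iff_ne_bot.2 hK))
  have hK2 : 1 ≤ K.index.primeFactors.card := Finset.card_pos.2
    (Nat.nonempty_primeFactors.2 (by
      have := Subgroup.index_ne_zero_of_finite (H := K)
      have h1 : K.index ≠ 1 := fun e => htop (Subgroup.index_eq_one.1 e)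
      omega))
  haveI : Group.IsSolvable K := isSolvable_of_card_primeFactors (by omega)
  haveI : Group.IsSolvable (G ⧸ K) := isSolvable_of_card_primeFactors (by rw [← Subgroup.index_eq_card]; omega)
  exact hns (solvable_of_ker_le_range K.subtype (QuotientGroup.mk' K) (by simp))

omit hns h4 in
private theorem isPGroup_iSup {p : ℕ} [Fact p.Prime] {N : Subgroup G} [N.Normal] (hN : IsPGroup p N) :
    IsPGroup p (⨆ f : MulAut G, N.map f.toMonoidHom : Subgroup G) := by
  obtain ⟨P⟩ : Nonempty (Sylow p G) := Sylow.nonempty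
  refine P.isPGroup'.to_le (iSup_le fun f => ?_)
  have hn : (N.map f.toMonoidHom).Normal := Subgroup.Normal.map inferInstance _ f.surjective
  obtain ⟨Q, hQ⟩ := (hN.map f.toMonoidHom).exists_le_sylow
  obtain ⟨g, rfl⟩ := MulAction.exists_smul_eq G Q P
  intro x hx
  have hx' : g⁻¹ * x * g ∈ (Q : Subgroup G) := hQ (by simpa using hn.conj_mem x hx g⁻¹)
  rw [Sylow.coe_subgroup_smul]
  refine ⟨g⁻¹ * x * g, hx', ?_⟩
  simp [mul_assoc]

private theorem isSimpleGroup : IsSimpleGroup G := by
  classical
  haveI : Nontrivial G := by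
    by_contra hnt
    rw [not_nontrivial_iff_subsingleton] at hnt
    exact hns (isSolvable_of_card_primeFactors (by rw [Nat.card_unique]; simp))
  refine ⟨fun M hM => ?_⟩
  by_contra hcon
  rw [not_or] at hcon
  obtain ⟨N, ⟨hNn, hN0, hNle⟩, hmin⟩ := Set.Finite.exists_minimal
    (s := {K : Subgroup G | K.Normal ∧ K ≠ ⊥ ∧ K ≤ M}) (Set.toFinite _) ⟨M, hM, hcon.1, le_rfl⟩
  haveI := hNn
  have hNtop : N ≠ ⊤ := fun e => hcon.2 (top_le_iff.1 (e ▸ hNle))
  have hchar : ∀ f : MulAut G, N.map f.toMonoidHom = N := by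
    intro f
    set L := N.map f.toMonoidHom with hL
    haveI hLn : L.Normal := Subgroup.Normal.map inferInstance _ f.surjective
    have hcard : Nat.card L = Nat.card N :=
      Nat.card_congr (N.equivMapOfInjective f.toMonoidHom f.injective).toEquiv.symm
    by_cases h0 : N ⊓ L = ⊥
    · exfalso
      obtain ⟨p, hp, hpN⟩ := Nat.exists_prime_and_dvd (show Nat.card N ≠ 1 from fun e => hN0 (Subgroup.card_eq_one.1 e))
      haveI : Fact p.Prime := ⟨hp⟩
      by_cases hpg : IsPGroup p N
      · set K : Subgroup G := ⨆ g : MulAut G, N.map g.toMonoidHom with hK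
        haveI : K.Characteristic := by
          rw [Subgroup.characteristic_iff_map_le]
          intro g
          rw [hK, Subgroup.map_iSup]
          refine iSup_le fun g' => ?_
          rw [Subgroup.map_map]
          exact le_iSup (fun g : MulAut G => N.map g.toMonoidHom) (g * g')
        have hKp : IsPGroup p K := isPGroup_iSup hpg
        have hKb : K ≠ ⊥ := fun e => hN0 (le_bot_iff.1 (e ▸ (le_trans (fun z hz => (⟨z, hz, rfl⟩ : z ∈ N.map (1 : MulAut G).toMonoidHom)) (le_iSup (fun g : MulAut G => N.map g.toMonoidHom) 1))))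
        have hKt := char_eq_top hns h4 hKb
        rw [hKt] at hKp
        obtain ⟨k, hk⟩ := hKp.exists_card_eq
        rw [Subgroup.card_top] at hk
        exact hns (Cfsg.Agent.S0144.result p 2 k 0 hp Nat.prime_two (by simp [hk]))
      · rw [IsPGroup.iff_orderOf] at hpg
        obtain ⟨y, hy⟩ := not_forall.1 hpg
        obtain ⟨x, hx⟩ := exists_prime_orderOf_dvd_card' (G := N) p hpN
        rw [← Subgroup.orderOf_coe] at hx
        have hy1 : (y : G) ≠ 1 := fun e => hy ⟨0, by rw [← Subgroup.orderOf_coe, e]; simp⟩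
        have hx1 : (x : G) ≠ 1 := fun e => by rw [e, orderOf_one] at hx; exact hp.ne_one hx.symm
        have hcomm : Commute (x : G) (f (y : G)) :=
          Subgroup.commute_of_normal_of_disjoint N L hNn hLn (disjoint_iff.2 h0) _ _ x.2 ⟨y, y.2, rfl⟩
        have hoe := order_eq_of_commute hns h4 hx1 (fun e => hy1 (f.injective (by rw [e, map_one]))) hcomm
        rw [MulEquiv.orderOf_eq, hx] at hoe
        exact hy ⟨1, by rw [pow_one, hoe, Subgroup.orderOf_coe]⟩
    · have hle : N ≤ N ⊓ L := hmin ⟨Subgroup.normal_inf_normal N L, h0, inf_le_left.trans hNle⟩ inf_le_left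
      exact (Subgroup.eq_of_le_of_card_ge (hle.trans inf_le_right) hcard.le).symm
  haveI : N.Characteristic := Subgroup.characteristic_iff_map_eq.2 hchar
  exact hNtop (char_eq_top hns h4 hN0)

end Orbits

/-- A finite non-solvable group on which its automorphism group has exactly four orbits is isomorphic to the alternating group of degree 5. -/
theorem result {G : Type*} [Group G] [Finite G] (hns : ¬ Group.IsSolvable G)
    (h4 : Nat.card (MulAction.orbitRel.Quotient (MulAut G) G) = 4) : Nonempty (G ≃* alternatingGroup (Fin 5)) := by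
  classical
  haveI : IsSimpleGroup G := isSimpleGroup hns h4
  obtain ⟨hord, h3, -⟩ := orbits hns h4
  have hcomm : ∀ x c : G, x ≠ 1 → c ≠ 1 → Commute c x → orderOf c = orderOf x :=
    fun x c hx hc h => order_eq_of_commute hns h4 hc hx h
  have hCN : Cfsg.IsCNGroup G := by
    intro x hx
    haveI : Fact (orderOf x).Prime := ⟨prime_order hns h4 hx⟩
    refine IsPGroup.isNilpotent (p := orderOf x) (IsPGroup.iff_orderOf.2 fun c => ?_)
    by_cases hc : (c : G) = 1
    · exact ⟨0, by rw [← Subgroup.orderOf_coe, hc]; simp⟩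
    · exact ⟨1, by rw [pow_one, ← Subgroup.orderOf_coe,
        hcomm x c hx hc (Subgroup.mem_centralizer_singleton_iff.1 c.2)]⟩
  have heven : Even (Nat.card G) := by
    by_contra hodd
    exact hns (Cfsg.Agent.S0183.result (Nat.not_even_iff_odd.1 hodd) hCN)
  haveI : Fact (Nat.Prime 2) := ⟨Nat.prime_two⟩
  obtain ⟨T⟩ : Nonempty (Sylow 2 G) := Sylow.nonempty
  have hT0 : (T : Subgroup G) ≠ ⊥ := T.ne_bot_of_dvd_card heven.two_dvd
  have hnn : ¬ (T : Subgroup G).Normal := by
    intro hn
    rcases hn.eq_bot_or_eq_top with h | h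
    · exact hT0 h
    · obtain ⟨k, hk⟩ := T.isPGroup'.exists_card_eq
      rw [h, Subgroup.card_top] at hk
      exact hns (Cfsg.Agent.S0144.result 2 2 k 0 Nat.prime_two Nat.prime_two (by simp [hk]))
  have hmin : (Nat.card G).minFac = 2 := (Nat.minFac_eq_two_iff _).2 heven.two_dvd
  have hnc : ¬ IsCyclic (T : Subgroup G) := by
    intro hcyc
    have hPle := IsCyclic.normalizer_le_centralizer hmin hcyc
    have hcompl := MonoidHom.ker_transferSylow_isComplement' T hPle
    rcases (MonoidHom.normal_ker (MonoidHom.transferSylow T hPle)).eq_bot_or_eq_top with h | h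
    · rw [h] at hcompl
      exact hnn (by rw [Subgroup.isComplement'_bot_left.1 hcompl]; infer_instance)
    · rw [h] at hcompl
      exact hT0 (Subgroup.isComplement'_top_left.1 hcompl)
  have hC : ∀ t : G, orderOf t = 2 → IsMulCommutative (Subgroup.centralizer ({t} : Set G)) ∧
      ∀ c ∈ Subgroup.centralizer ({t} : Set G), c ^ 2 = 1 := by
    intro t ht
    have hsq : ∀ c ∈ Subgroup.centralizer ({t} : Set G), c ^ 2 = 1 := by
      intro c hc
      by_cases hc1 : c = 1
      · simp [hc1]
      have := hcomm t c (fun e => by rw [e, orderOf_one] at ht; omega) hc1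
        (Subgroup.mem_centralizer_singleton_iff.1 hc)
      rw [← ht, ← this, pow_orderOf_eq_one]
    refine ⟨⟨⟨fun a b => Subtype.ext ?_⟩⟩, hsq⟩
    have e : ∀ c ∈ Subgroup.centralizer ({t} : Set G), c⁻¹ = c := fun c hc =>
      inv_eq_of_mul_eq_one_right (by rw [← pow_two]; exact hsq c hc)
    have := e _ (a * b).2
    rw [Subgroup.coe_mul, mul_inv_rev, e _ a.2, e _ b.2] at this
    exact this.symm
  obtain ⟨F, hF, hFin, hcardF, ⟨e₀⟩⟩ := Cfsg.Agent.S1230.result T hnc hnn hC
  obtain ⟨f, hf⟩ := T.isPGroup'.exists_card_eq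
  have hFf : Fintype.card F = 2 ^ f := hcardF.trans hf
  haveI : CharP F 2 := charP_of_card_eq_prime_pow (f := f) hFf
  obtain ⟨e₁⟩ := CfsgLib.Perm.SharpThreeOdd.psl_equiv_sl (F := F)
  let ε := e₀.trans e₁
  have hcard : Nat.card G = Fintype.card F * (Fintype.card F ^ 2 - 1) := by
    rw [Nat.card_congr ε.toEquiv]
    exact CfsgLib.Classical.card_sl2 rfl
  set q := Fintype.card F with hq
  have hq4 : 4 ≤ q := by
    rcases Nat.lt_or_ge f 2 with hf2 | hf2
    · exfalso
      interval_cases f
      · exact hT0 (Subgroup.card_eq_one.1 (by rw [hf]; rfl))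
      · exact hnc (isCyclic_of_prime_card (p := 2) (by rw [hf]; rfl))
    · rw [hFf]
      calc 4 = 2 ^ 2 := rfl
        _ ≤ 2 ^ f := Nat.pow_le_pow_right (by norm_num) hf2
  rcases Nat.lt_or_ge 4 q with hlt | hge
  swap
  · have hq' : q = 4 := by omega
    exact Cfsg.Agent.S0494.result (by rw [hcard, hq']; rfl)
  exfalso
  have hordSL : ∀ A : Matrix.SpecialLinearGroup (Fin 2) F, orderOf A ∈ insert 1 (Nat.card G).primeFactors := by
    intro A
    rw [← MulEquiv.orderOf_eq ε.symm A]
    exact hord _
  obtain ⟨g, hg⟩ := IsCyclic.exists_ofOrder_eq_natCard (α := Fˣ)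
  have hq1 : (q - 1) ∈ (Nat.card G).primeFactors := by
    have h := hordSL (diagHom g)
    rw [orderOf_injective _ diagHom_injective, hg, Nat.card_units, Nat.card_eq_fintype_card (α := F), ← hq] at h
    exact (Finset.mem_insert.1 h).resolve_left (by omega)
  have h2 : 2 ∈ (Nat.card G).primeFactors := Nat.mem_primeFactors.2 ⟨Nat.prime_two, heven.two_dvd, Nat.card_pos.ne'⟩
  have hq2 : q % 2 = 0 := by
    have : f ≠ 0 := by rintro rfl; simp at hFf; omega
    rw [hFf]
    exact Nat.mod_eq_zero_of_dvd (dvd_pow_self 2 this)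
  have h33 : 3 ∈ (Nat.card G).primeFactors := by
    refine Nat.mem_primeFactors.2 ⟨Nat.prime_three, ?_, Nat.card_pos.ne'⟩
    rw [hcard]
    apply dvd_mul_of_dvd_right
    have hq3 : q % 3 ≠ 0 := by
      intro h0
      have h' : 3 ∣ q := Nat.dvd_of_mod_eq_zero h0
      rw [hFf] at h'
      have := (Nat.prime_dvd_prime_iff_eq Nat.prime_three Nat.prime_two).1 (Nat.prime_three.dvd_of_dvd_pow h')
      omega
    have hq9 : q ^ 2 % 3 = 1 := by
      rw [Nat.pow_mod]
      rcases (show q % 3 = 1 ∨ q % 3 = 2 by omega) with h | h <;> simp [h]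
    omega
  have hPF : (Nat.card G).primeFactors = {2, 3, q - 1} := by
    refine (Finset.eq_of_subset_of_card_le ?_ ?_).symm
    · intro x hx
      simp only [Finset.mem_insert, Finset.mem_singleton] at hx
      rcases hx with rfl | rfl | rfl
      exacts [h2, h33, hq1]
    · rw [h3, Finset.card_eq_three.2 ⟨2, 3, q - 1, by omega, by omega, by omega, rfl⟩]
  refine orders_absurd (F := F) (by omega) fun A => ?_
  have h := hordSL A
  rw [hPF] at h
  exact h

end Cfsg.Agent.S4068
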