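import Cfsg.Statements.S4071
import Mathlib.GroupTheory.Sylow
import Mathlib.GroupTheory.Solvable
import Mathlib.GroupTheory.Complement
import Mathlib.GroupTheory.Nilpotent
import Cfsg.Agent.Lib.Solvable.Basic
import Cfsg.Agent.Lib.Coprime.SchurZassenhaus

set_option autoImplicit false
open Cfsg
open Subgroup
open scoped commutatorElement

namespace Cfsg.Agent.S4071

/-- Let G be a finite solvable non-nilpotent group. Every non-abelian subgroup of G is self-normalizing if and only if G is a semidirect product ⟨x⟩ ⋉ A in which ⟨x⟩ is a p-group for some prime p, A is a normal abelian subgroup of order prime to p, x^p is central in G, and x acts fixed-point-freely on A (no non-identity element of A commutes with x). -/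
theorem result {G : Type*} [Group G] [Finite G]
    [Group.IsSolvable G] (hnn : ¬ Group.IsNilpotent G) :
    (∀ H : Subgroup G, ¬ IsMulCommutative H → Subgroup.normalizer (H : Set G) = H) ↔
    ∃ (x : G) (A : Subgroup G) (p : ℕ), p.Prime ∧ A.Normal ∧ IsMulCommutative A ∧ (∃ k : ℕ, orderOf x = p ^ k) ∧
      ¬ p ∣ Nat.card A ∧ (Subgroup.zpowers x).IsComplement' A ∧ x ^ p ∈ Subgroup.center G ∧
      ∀ a : G, a ∈ A → a ≠ 1 → x * a * x⁻¹ ≠ a := by
  classical
  have hna : ¬ ∀ a b : G, a * b = b * a := fun h => hnn (by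
    letI : CommGroup G := { (inferInstance : Group G) with mul_comm := h }
    exact CommGroup.isNilpotent)
  constructor
  · intro hN
    have habel : ∀ L : Subgroup G, L.Normal → L ≠ ⊤ → ∀ a ∈ L, ∀ b ∈ L, a * b = b * a := by
      intro L hL hLt
      by_contra h
      refine hLt ?_
      have h1 := hN L (fun hc => h (CfsgLib.Solvable.Basic.isMulCommutative_subgroup_iff.mp hc))
      rwa [normalizer_eq_top_iff.mpr hL, eq_comm] at h1
    have : Nontrivial G := by
      rw [nontrivial_iff]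
      by_contra h; push Not at h
      exact hna fun a b => h _ _
    have hder : commutator G ≠ ⊤ := (Group.IsSolvable.commutator_lt_top_of_nontrivial (G := G)).ne
    obtain ⟨M, hMm, hMd⟩ := (eq_top_or_exists_le_coatom (commutator G)).resolve_left hder
    have hnorm : ∀ L : Subgroup G, commutator G ≤ L → L.Normal := fun L hL => ⟨fun a ha g => by
      have h1 : g * a * g⁻¹ = ⁅g, a⁆ * a := by simp [commutatorElement_def, mul_assoc]
      rw [h1]
      exact mul_mem (hL (commutator_mem_commutator (mem_top g) (mem_top a))) ha⟩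
    haveI hMn := hnorm M hMd
    have hMab := habel M hMn hMm.1
    haveI : IsSimpleOrder (Subgroup (G ⧸ M)) := by
      haveI : Nontrivial (G ⧸ M) := QuotientGroup.nontrivial_iff.mpr hMm.1
      refine ⟨fun L => ?_⟩
      rcases eq_or_lt_of_le (QuotientGroup.le_comap_mk' M L) with h | h
      · left
        rw [← map_comap_eq_self_of_surjective (QuotientGroup.mk'_surjective M) L, ← h,
          Subgroup.map_eq_bot_iff, QuotientGroup.ker_mk']
      · right
        rw [← map_comap_eq_self_of_surjective (QuotientGroup.mk'_surjective M) L, hMm.2 _ h,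
          Subgroup.map_top_of_surjective _ (QuotientGroup.mk'_surjective M)]
    obtain ⟨p, hp, hidx⟩ : ∃ p, p.Prime ∧ M.index = p := by
      obtain ⟨q, hq, hqd⟩ := Nat.exists_prime_and_dvd (n := M.index) (fun h => hMm.1 (index_eq_one.mp h))
      haveI := Fact.mk hq
      obtain ⟨y, hy⟩ := exists_prime_orderOf_dvd_card' (G := G ⧸ M) q hqd
      refine ⟨q, hq, ?_⟩
      rcases IsSimpleOrder.eq_bot_or_eq_top (zpowers y) with h | h
      · rw [zpowers_eq_bot.mp h, orderOf_one] at hy
        exact absurd hy.symm hq.ne_one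
      · show Nat.card (G ⧸ M) = q
        rw [← hy, ← Nat.card_zpowers, h, card_top]
    haveI := Fact.mk hp
    obtain ⟨P⟩ : Nonempty (Sylow p G) := inferInstance
    -- the complement of `P ⊓ M` in `M`
    let Mc : CommGroup M := { (inferInstance : Group M) with mul_comm := fun a b => Subtype.ext (hMab a a.2 b b.2) }
    let A : Subgroup G :=
      { carrier := {a | a ∈ M ∧ (orderOf a).Coprime p}
        one_mem' := ⟨one_mem M, by simp⟩
        mul_mem' := fun {a b} ha hb => ⟨mul_mem ha.1 hb.1, by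
          have hc : Commute a b := hMab a ha.1 b hb.1
          exact (Nat.Coprime.mul_left ha.2 hb.2).coprime_dvd_left hc.orderOf_mul_dvd_mul_orderOf⟩
        inv_mem' := fun {a} ha => ⟨inv_mem ha.1, by rw [orderOf_inv]; exact ha.2⟩ }
    have hAn : A.Normal := ⟨fun a ha g => ⟨hMn.conj_mem a ha.1 g, by
      show (orderOf (MulAut.conj g a)).Coprime p
      rw [MulEquiv.orderOf_eq]; exact ha.2⟩⟩
    have hAp : ¬ p ∣ Nat.card A := by
      intro h
      obtain ⟨a, ha⟩ := exists_prime_orderOf_dvd_card' p h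
      have h1 := a.2.2
      rw [orderOf_coe, ha] at h1
      exact hp.ne_one ((Nat.coprime_self p).mp h1)
    have hcompl : A ⊔ (P : Subgroup G) = ⊤ := by
      refine index_eq_one.mp (Nat.eq_one_iff_not_exists_prime_dvd.mpr fun q hq hqd => ?_)
      haveI := Fact.mk hq
      rcases eq_or_ne q p with rfl | hqp
      · exact P.not_dvd_index (hqd.trans (index_dvd_of_le le_sup_right))
      · obtain ⟨Q⟩ : Nonempty (Sylow q G) := inferInstance
        refine Q.not_dvd_index (hqd.trans (index_dvd_of_le ?_))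
        intro x hx
        obtain ⟨j, hj⟩ := Q.isPGroup' ⟨x, hx⟩
        have hj' : x ^ q ^ j = 1 := congrArg Subtype.val hj
        have hco : (orderOf x).Coprime p :=
          (Nat.Coprime.pow_left j ((Nat.coprime_primes hq hp).mpr hqp)).coprime_dvd_left
            (orderOf_dvd_of_pow_eq_one hj')
        refine mem_sup_left ⟨(QuotientGroup.eq_one_iff x).mp ?_, hco⟩
        refine orderOf_eq_one_iff.mp (Nat.eq_one_of_dvd_coprimes hco (orderOf_map_dvd (QuotientGroup.mk' M) x) ?_)
        rw [← hidx]; exact orderOf_dvd_natCard _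
    have hPA : ∀ y ∈ (P : Subgroup G), y ∈ A → y = 1 := by
      intro y hy hyA
      obtain ⟨j, hj⟩ := P.isPGroup' ⟨y, hy⟩
      exact orderOf_eq_one_iff.mp (Nat.eq_one_of_dvd_coprimes (hyA.2.pow_right j) dvd_rfl
        (orderOf_dvd_of_pow_eq_one (congrArg Subtype.val hj : y ^ p ^ j = 1)))
    have hPM : ¬ (P : Subgroup G) ≤ M := fun h => hMm.1 (eq_top_iff.mpr (hcompl ▸ sup_le (fun a ha => ha.1) h))
    obtain ⟨x, hxP, hxM⟩ := SetLike.not_le_iff_exists.mp hPM
    have hxA : ¬ ∀ a ∈ A, x * a = a * x := by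
      intro hcom
      have hMx : M ⊔ zpowers x = ⊤ := hMm.2 _ (lt_of_le_of_ne le_sup_left fun h =>
        hxM (h.symm ▸ mem_sup_right (mem_zpowers x)))
      -- then `A` is central and `G` is nilpotent
      have hAc : A ≤ center G := by
        intro a ha
        refine mem_center_iff.mpr fun g => ?_
        have hg : g ∈ M ⊔ zpowers x := hMx ▸ mem_top g
        obtain ⟨m, hm, y, hy, rfl⟩ := mem_sup_of_normal_left.mp hg
        obtain ⟨i, rfl⟩ := mem_zpowers_iff.mp hy
        have h2 : Commute m a := hMab m hm a ha.1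
        exact (h2.mul_left ((show Commute x a from hcom a ha).zpow_left i)).eq
      refine hnn ?_
      haveI : Group.IsNilpotent (G ⧸ center G) := by
        have hle : (P : Subgroup G) ⊔ center G = ⊤ := eq_top_iff.mpr (hcompl ▸ sup_le (hAc.trans le_sup_right) le_sup_left)
        haveI := P.isPGroup'.isNilpotent
        refine Group.nilpotent_of_surjective ((QuotientGroup.mk' (center G)).comp (P : Subgroup G).subtype) ?_
        intro y
        obtain ⟨g, rfl⟩ := QuotientGroup.mk'_surjective _ y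
        have hg : g ∈ (P : Subgroup G) ⊔ center G := hle ▸ mem_top g
        obtain ⟨u, hu, c, hc, rfl⟩ := mem_sup_of_normal_right.mp hg
        exact ⟨⟨u, hu⟩, by
          show QuotientGroup.mk' _ u = QuotientGroup.mk' _ (u * c)
          rw [map_mul, show QuotientGroup.mk' (center G) c = 1 from (QuotientGroup.eq_one_iff c).mpr hc, mul_one]⟩
      exact Group.of_quotient_center_nilpotent (inferInstance : Group.IsNilpotent (G ⧸ center G))
    have hxtop : A ⊔ zpowers x = ⊤ := by
      by_contra hne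
      -- a maximal subgroup over `A ⊔ ⟨x⟩`
      haveI := P.isPGroup'.isNilpotent
      set f := QuotientGroup.mk' A
      haveI : Group.IsNilpotent (G ⧸ A) := by
        refine Group.nilpotent_of_surjective (f.comp (P : Subgroup G).subtype) ?_
        intro y
        obtain ⟨g, rfl⟩ := QuotientGroup.mk'_surjective _ y
        have hg : g ∈ A ⊔ (P : Subgroup G) := hcompl ▸ mem_top g
        obtain ⟨c, hc, u, hu, rfl⟩ := mem_sup_of_normal_left.mp hg
        exact ⟨⟨u, hu⟩, by
          show f u = f (c * u)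
          rw [map_mul, show f c = 1 from (QuotientGroup.eq_one_iff c).mpr hc, one_mul]⟩
      obtain ⟨L, hLm, hLle⟩ := (eq_top_or_exists_le_coatom (A ⊔ zpowers x)).resolve_left hne
      have hLn : L.Normal := by
        have hLc : IsCoatom (L.map f) := by
          refine ⟨fun h => hLm.1 ?_, fun T hT => ?_⟩
          · rw [← comap_map_eq_self (f := f) (H := L) (by rw [QuotientGroup.ker_mk']; exact le_sup_left.trans hLle),
              h, comap_top]
          · have h1 : L < T.comap f := by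
              refine lt_of_le_of_ne (fun y hy => hT.le (mem_map_of_mem f hy)) fun h => hT.ne ?_
              rw [h, map_comap_eq_self_of_surjective (QuotientGroup.mk'_surjective A)]
            rw [← map_comap_eq_self_of_surjective (QuotientGroup.mk'_surjective A) T, hLm.2 _ h1,
              map_top_of_surjective _ (QuotientGroup.mk'_surjective A)]
        have := (Group.normalizerCondition_of_isNilpotent.normal_of_coatom _ hLc).comap f
        rwa [comap_map_eq_self (by rw [QuotientGroup.ker_mk']; exact le_sup_left.trans hLle)] at this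
      exact hxA fun a ha => habel L hLn hLm.1 x (hLle (mem_sup_right (mem_zpowers x))) a (hLle (mem_sup_left ha))
    have hPx : zpowers x = (P : Subgroup G) := by
      refine le_antisymm (zpowers_le.mpr hxP) fun y hy => ?_
      have : y ∈ A ⊔ zpowers x := hxtop ▸ mem_top y
      obtain ⟨a, ha, b, hb, rfl⟩ := mem_sup_of_normal_left.mp this
      have haP : a ∈ (P : Subgroup G) := by
        have := mul_mem hy (inv_mem (zpowers_le.mpr hxP hb))
        rwa [mul_inv_cancel_right] at this
      rw [hPA a haP ha, one_mul]; exact hb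
    have hcompl' : (zpowers x).IsComplement' A := by
      refine isComplement'_of_disjoint_and_mul_eq_univ ?_ ?_
      · rw [disjoint_iff, eq_bot_iff_forall]
        exact fun y hy => hPA y (hPx ▸ hy.1) hy.2
      · rw [← coe_mul_of_left_le_normalizer_right _ _ (by rw [normalizer_eq_top_iff.mpr hAn]; exact le_top), sup_comm, hxtop, coe_top]
    have hxp : x ^ p ∈ center G := by
      refine mem_center_iff.mpr fun g => ?_
      have hg : g ∈ A ⊔ zpowers x := hxtop ▸ mem_top g
      obtain ⟨a, ha, b, hb, rfl⟩ := mem_sup_of_normal_left.mp hg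
      obtain ⟨i, rfl⟩ := mem_zpowers_iff.mp hb
      have hxpM : x ^ p ∈ M := by
        rw [← hidx]; exact M.pow_index_mem x
      exact (Commute.mul_left (show Commute a (x ^ p) from hMab a ha.1 _ hxpM) (((Commute.refl x).pow_right p).zpow_left i)).eq
    refine ⟨x, A, p, hp, hAn, CfsgLib.Solvable.Basic.isMulCommutative_subgroup_iff.mpr
      (fun a ha b hb => hMab a ha.1 b hb.1), ?_, hAp, hcompl', hxp, ?_⟩
    · obtain ⟨j, hj⟩ := P.isPGroup' ⟨x, hxP⟩
      obtain ⟨i, -, hi⟩ := (Nat.dvd_prime_pow hp).mp (orderOf_dvd_of_pow_eq_one (congrArg Subtype.val hj : x ^ p ^ j = 1))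
      exact ⟨i, hi⟩
    -- the commutator map on `A`
    intro c hc hc1 hfix
    obtain ⟨a, ha, hxa⟩ : ∃ a ∈ A, x * a ≠ a * x := by
      by_contra h; push Not at h; exact hxA h
    let φ : A →* A := MonoidHom.mk' (fun b => ⟨x * b * x⁻¹ * (b : G)⁻¹,
      mul_mem (hAn.conj_mem b b.2 x) (inv_mem b.2)⟩) fun b d => Subtype.ext (by
        have h1 : x * (d : G) * x⁻¹ * (b : G)⁻¹ = (b : G)⁻¹ * (x * d * x⁻¹) :=
          hMab _ (hAn.conj_mem d d.2 x).1 _ (inv_mem b.2.1)
        calc x * ((b : G) * d) * x⁻¹ * ((b : G) * d)⁻¹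
            = x * b * x⁻¹ * (x * d * x⁻¹ * (d : G)⁻¹ * (b : G)⁻¹) := by group
          _ = x * b * x⁻¹ * ((b : G)⁻¹ * (x * d * x⁻¹ * (d : G)⁻¹)) := by
              rw [hMab _ (mul_mem (hAn.conj_mem d d.2 x).1 (inv_mem d.2.1)) _ (inv_mem b.2.1)]
          _ = x * b * x⁻¹ * (b : G)⁻¹ * (x * d * x⁻¹ * (d : G)⁻¹) := by group)
    have hkey : ∀ b : A, x * (φ b : G) * x⁻¹ = φ b → φ b = 1 := by
      intro b hb
      have hk : ∀ m : ℕ, x ^ m * b * (x ^ m)⁻¹ = (φ b : G) ^ m * b := by
        intro m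
        induction m with
        | zero => simp
        | succ m ih =>
          have e1 : x * (b : G) * x⁻¹ = (φ b : G) * b := by
            show _ = x * b * x⁻¹ * (b : G)⁻¹ * b; group
          calc x ^ (m + 1) * b * (x ^ (m + 1))⁻¹ = x * (x ^ m * b * (x ^ m)⁻¹) * x⁻¹ := by
                rw [pow_succ']; group
            _ = (x * (φ b : G) * x⁻¹) ^ m * (x * b * x⁻¹) := by rw [ih, conj_pow]; group
            _ = (φ b : G) ^ (m + 1) * b := by rw [hb, e1, pow_succ, mul_assoc]
      have h := hk (orderOf x)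
      rw [pow_orderOf_eq_one, one_mul, inv_one, mul_one] at h
      have h2 : (φ b : G) ^ orderOf x = 1 := by
        have := congrArg (· * (b : G)⁻¹) h
        simpa using this.symm
      obtain ⟨j, hj⟩ := P.isPGroup' ⟨x, hxP⟩
      refine Subtype.ext (orderOf_eq_one_iff.mp (Nat.eq_one_of_dvd_coprimes ((φ b).2.2.pow_right j) dvd_rfl
        ((orderOf_dvd_of_pow_eq_one h2).trans ?_)))
      exact orderOf_dvd_of_pow_eq_one (congrArg Subtype.val hj : x ^ p ^ j = 1)
    set B := φ.range.map A.subtype with hB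
    have hBA : B ≤ A := map_subtype_le _
    have hBx : ∀ b ∈ B, x * b * x⁻¹ ∈ B := by
      rintro _ ⟨_, ⟨d, rfl⟩, rfl⟩
      refine ⟨φ ⟨x * d * x⁻¹, hAn.conj_mem d d.2 x⟩, ⟨_, rfl⟩, ?_⟩
      show x * (x * d * x⁻¹) * x⁻¹ * (x * d * x⁻¹)⁻¹ = x * (x * d * x⁻¹ * (d : G)⁻¹) * x⁻¹
      group
    have hxB : zpowers x ≤ normalizer (B : Set G) :=
      zpowers_le.mpr (CfsgLib.Coprime.mem_normalizer_of_conj_map_le hBx)
    set H := B ⊔ zpowers x with hH
    have hHna : ¬ IsMulCommutative H := by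
      intro hc
      have hall := CfsgLib.Solvable.Basic.isMulCommutative_subgroup_iff.mp hc x
        (mem_sup_right (mem_zpowers x)) (φ ⟨a, ha⟩) (mem_sup_left ⟨_, ⟨_, rfl⟩, rfl⟩)
      have := congrArg Subtype.val (hkey ⟨a, ha⟩ (mul_inv_eq_iff_eq_mul.mpr hall))
      exact hxa (mul_inv_eq_iff_eq_mul.mp (mul_inv_eq_one.mp this))
    have hcH : c ∈ normalizer (H : Set G) := CfsgLib.Coprime.mem_normalizer_of_conj_map_le fun h hh => by
      obtain ⟨b, hb, y, hy, rfl⟩ := (CfsgLib.Coprime.mem_sup_of_le_normalizer hxB).mp hh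
      obtain ⟨i, rfl⟩ := mem_zpowers_iff.mp hy
      have h1 : Commute c b := hMab c hc.1 b (hBA hb).1
      have h2 : Commute c (x ^ i) := (show Commute c x from (mul_inv_eq_iff_eq_mul.mp hfix).symm).zpow_right i
      rw [(h1.mul_right h2).eq, mul_inv_cancel_right]
      exact hh
    rw [hN H hHna] at hcH
    obtain ⟨b, hb, y, hy, hbc⟩ := (CfsgLib.Coprime.mem_sup_of_le_normalizer hxB).mp hcH
    have hy1 : y = 1 := hPA y (hPx ▸ hy) (by
      have : y = b⁻¹ * c := by rw [← hbc]; group
      rw [this]; exact mul_mem (inv_mem (hBA hb)) hc)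
    subst hy1
    rw [mul_one] at hbc
    subst hbc
    obtain ⟨_, ⟨d, rfl⟩, rfl⟩ := hb
    exact hc1 (congrArg Subtype.val (hkey d hfix))
  · rintro ⟨x, A, p, hp, hAn, hAc, ⟨k, hk⟩, hpA, hcompl, hxp, hfpf⟩ H hH
    haveI := Fact.mk hp
    have hAcomm := CfsgLib.Solvable.Basic.isMulCommutative_subgroup_iff.mp hAc
    have htop : A ⊔ zpowers x = ⊤ := by rw [sup_comm]; exact hcompl.sup_eq_top
    have hdec : ∀ g : G, ∃ a ∈ A, ∃ i : ℕ, g = a * x ^ i := by
      intro g
      have hg : g ∈ A ⊔ zpowers x := htop ▸ mem_top g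
      obtain ⟨a, ha, y, hy, rfl⟩ := mem_sup_of_normal_left.mp hg
      obtain ⟨i, rfl⟩ := mem_powers_iff_mem_zpowers.mpr hy
      exact ⟨a, ha, i, rfl⟩
    obtain ⟨h, hh, a, ha, i, hi, rfl⟩ : ∃ h ∈ H, ∃ a ∈ A, ∃ i : ℕ, ¬ p ∣ i ∧ h = a * x ^ i := by
      by_contra hcon
      push Not at hcon
      refine hH (CfsgLib.Solvable.Basic.isMulCommutative_subgroup_iff.mpr fun u hu v hv => ?_)
      obtain ⟨a, ha, i, rfl⟩ := hdec u
      obtain ⟨b, hb, j, rfl⟩ := hdec v
      obtain ⟨i', rfl⟩ : p ∣ i := by by_contra h; exact hcon _ hu a ha i h rfl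
      obtain ⟨j', rfl⟩ : p ∣ j := by by_contra h; exact hcon _ hv b hb j h rfl
      have hc1 : x ^ (p * i') ∈ center G := by rw [pow_mul]; exact pow_mem hxp i'
      have hc2 : x ^ (p * j') ∈ center G := by rw [pow_mul]; exact pow_mem hxp j'
      have c1 : ∀ g : G, Commute (x ^ (p * i')) g := fun g => (mem_center_iff.mp hc1 g).symm
      have c2 : ∀ g : G, Commute (x ^ (p * j')) g := fun g => (mem_center_iff.mp hc2 g).symm
      exact (((Commute.mul_right (show Commute a b from hAcomm a ha b hb) (c2 a).symm)).mul_left (c1 _)).eq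
    -- `x` is a power of `x ^ i`
    obtain ⟨m, hm⟩ : ∃ m : ℕ, x ^ (i * m) = x := by
      obtain ⟨m, hm⟩ := exists_pow_eq_self_of_coprime (x := x) (n := i)
        (by rw [hk]; exact ((hp.coprime_iff_not_dvd.mpr hi).symm).pow_right k)
      exact ⟨m, by rw [pow_mul]; exact hm⟩
    have hconj : ∀ b ∈ A, (a * x ^ i) * b * (a * x ^ i)⁻¹ = x ^ i * b * (x ^ i)⁻¹ := by
      intro b hb
      calc (a * x ^ i) * b * (a * x ^ i)⁻¹ = a * (x ^ i * b * (x ^ i)⁻¹) * a⁻¹ := by group
        _ = x ^ i * b * (x ^ i)⁻¹ := by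
          rw [hAcomm a ha _ (hAn.conj_mem b hb _), mul_inv_cancel_right]
    have hfix : ∀ b ∈ A, (a * x ^ i) * b * (a * x ^ i)⁻¹ = b → b = 1 := by
      intro b hb hfix
      rw [hconj b hb] at hfix
      by_contra hb1
      refine hfpf b hb hb1 ?_
      have h2 : Commute (x ^ i) b := mul_inv_eq_iff_eq_mul.mp hfix
      have h3 := h2.pow_left m
      rw [← pow_mul, hm] at h3
      exact mul_inv_eq_iff_eq_mul.mpr h3.eq
    refine le_antisymm (fun g hg => ?_) le_normalizer
    -- write `g = b * h ^ n` with `b ∈ A`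
    obtain ⟨b₀, hb₀, j, rfl⟩ := hdec g
    have hq : ∀ n : ℕ, (a * x ^ i) ^ n * (x ^ (i * n))⁻¹ ∈ A := by
      intro n
      refine (QuotientGroup.eq_one_iff _).mp ?_
      show QuotientGroup.mk' A ((a * x ^ i) ^ n * (x ^ (i * n))⁻¹) = 1
      rw [map_mul, map_inv, map_pow, map_mul, show QuotientGroup.mk' A a = 1 from
        (QuotientGroup.eq_one_iff a).mpr ha, one_mul, ← map_pow, pow_mul, mul_inv_cancel]
    set n := m * j
    obtain ⟨b, hbA, hgb⟩ : ∃ b ∈ A, b₀ * x ^ j = b * (a * x ^ i) ^ n := by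
      refine ⟨b₀ * ((a * x ^ i) ^ n * (x ^ (i * n))⁻¹)⁻¹, mul_mem hb₀ (inv_mem (hq n)), ?_⟩
      rw [show x ^ (i * n) = x ^ j by rw [show i * n = (i * m) * j by simp [n]; ring, pow_mul, hm]]
      group
    have hbN : b ∈ normalizer (H : Set G) := by
      have h1 : b = b₀ * x ^ j * ((a * x ^ i) ^ n)⁻¹ := by rw [hgb]; group
      rw [h1]
      exact mul_mem hg (inv_mem (le_normalizer (pow_mem hh n)))
    -- the commutator map of `h` on `H ⊓ A` is bijective
    set h := a * x ^ i
    set B := H ⊓ A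
    let ψ : B → B := fun c => ⟨h * c * h⁻¹ * (c : G)⁻¹,
      H.mul_mem (H.mul_mem (H.mul_mem hh c.2.1) (H.inv_mem hh)) (H.inv_mem c.2.1),
      A.mul_mem (hAn.conj_mem _ c.2.2 h) (A.inv_mem c.2.2)⟩
    have hψ : Function.Injective ψ := by
      intro c d hcd
      have he : h * (c : G) * h⁻¹ * (c : G)⁻¹ = h * d * h⁻¹ * (d : G)⁻¹ := congrArg Subtype.val hcd
      have h3 : h * ((d : G)⁻¹ * c) * h⁻¹ = (d : G)⁻¹ * c := by
        calc h * ((d : G)⁻¹ * c) * h⁻¹ = (h * d * h⁻¹)⁻¹ * (h * c * h⁻¹ * (c : G)⁻¹) * c := by group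
          _ = (d : G)⁻¹ * c := by rw [he]; group
      exact (Subtype.ext (inv_mul_eq_one.mp (hfix _ (A.mul_mem (A.inv_mem d.2.2) c.2.2) h3))).symm
    have hbh : h * b * h⁻¹ * b⁻¹ ∈ B := by
      refine ⟨?_, A.mul_mem (hAn.conj_mem _ hbA h) (A.inv_mem hbA)⟩
      rw [show h * b * h⁻¹ * b⁻¹ = h * (b * h⁻¹ * b⁻¹) by group]
      exact mul_mem hh ((mem_normalizer_iff.mp hbN _).mp (inv_mem hh))
    obtain ⟨c, hc⟩ := (Finite.injective_iff_surjective.mp hψ) ⟨_, hbh⟩
    have he : h * (c : G) * h⁻¹ * (c : G)⁻¹ = h * b * h⁻¹ * b⁻¹ := congrArg Subtype.val hc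
    have h3 : h * (b⁻¹ * c) * h⁻¹ = b⁻¹ * c := by
      calc h * (b⁻¹ * c) * h⁻¹ = (h * b * h⁻¹)⁻¹ * (h * c * h⁻¹ * (c : G)⁻¹) * c := by group
        _ = b⁻¹ * c := by rw [he]; group
    have hbc : b = c := inv_mul_eq_one.mp (hfix _ (mul_mem (inv_mem hbA) c.2.2) h3)
    rw [hgb]
    exact mul_mem (hbc ▸ c.2.1) (pow_mem hh n)

end Cfsg.Agent.S4071
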