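import Cfsg.Statements.S4072
import Cfsg.Agent.Lib.Fusion.Abelian
import Cfsg.Agent.Lib.Fusion.Alperin
import Cfsg.Agent.Lib.Frobenius.Elements

set_option autoImplicit false
open Cfsg
open scoped Pointwise

namespace Cfsg.Agent.S4072

/-- A finite group in which every non-abelian subgroup is self-normalizing is solvable or simple. -/
theorem result {G : Type*} [Group G] [Finite G] (hS : ∀ H : Subgroup G, ¬ IsMulCommutative H → Subgroup.normalizer (H : Set G) = H) :
    Group.IsSolvable G ∨ IsSimpleGroup G := by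
  classical
  by_cases hsol : Group.IsSolvable G
  · exact Or.inl hsol
  right
  haveI : Nontrivial G := by
    by_contra hn
    rw [not_nontrivial_iff_subsingleton] at hn
    exact hsol inferInstance
  have hab : ∀ N : Subgroup G, N.Normal → N ≠ ⊤ → IsMulCommutative N := by
    intro N hN hNtop
    by_contra hna
    have h1 := hS N hna
    rw [Subgroup.normalizer_eq_top_iff.2 hN] at h1
    exact hNtop h1.symm
  have hperf : commutator G = ⊤ := by
    by_contra hne
    haveI := hab _ inferInstance hne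
    haveI : Group.IsSolvable (commutator G) :=
      isSolvable_of_comm fun a b => mul_comm' a b
    haveI : Group.IsSolvable (G ⧸ commutator G) :=
      inferInstanceAs (Group.IsSolvable (Abelianization G))
    exact hsol (Group.isSolvable_iff_subgroup_quotient (commutator G) |>.2 ⟨inferInstance, inferInstance⟩)
  -- no prime dividing the order allows a normal complement
  have hnpc : ∀ (H : Type _) [Group H] [Finite H] (f : G →* H), Function.Surjective f →
      ∀ p : ℕ, p.Prime → p ∣ Nat.card H → ¬ Cfsg.HasNormalPComplement p H := by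
    intro H _ _ f hf p hp hd hh
    haveI := Fact.mk hp
    have hH : commutator H = ⊤ := by
      rw [commutator_def, ← Subgroup.map_top_of_surjective f hf, ← Subgroup.map_commutator,
        ← commutator_def, hperf]
    have htop : Cfsg.pResidual p H = ⊤ := by
      by_contra hne
      haveI : Nontrivial (H ⧸ Cfsg.pResidual p H) := by
        rw [← Finite.one_lt_card_iff_nontrivial]
        exact Subgroup.one_lt_index_of_ne_top hne
      haveI : Group.IsNilpotent (H ⧸ Cfsg.pResidual p H) :=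
        (CfsgLib.Fusion.Basic.isPGroup_quotient_pResidual (p := p) (G := H)).isNilpotent
      refine (IsSolvable.commutator_lt_top_of_nontrivial (G := H ⧸ Cfsg.pResidual p H)).ne ?_
      rw [commutator_def,
        ← Subgroup.map_top_of_surjective (QuotientGroup.mk' (Cfsg.pResidual p H))
          (QuotientGroup.mk'_surjective _), ← Subgroup.map_commutator, ← commutator_def, hH]
    have hc := CfsgLib.Fusion.Basic.npc_iff_coprime.1 hh
    rw [htop, Subgroup.card_top] at hc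
    exact hp.not_dvd_one (hc ▸ Nat.dvd_gcd hd dvd_rfl)
  by_contra hsimp
  obtain ⟨N, hNn, hNb, hNt⟩ : ∃ N : Subgroup G, N.Normal ∧ N ≠ ⊥ ∧ N ≠ ⊤ := by
    by_contra hall
    push Not at hall
    exact hsimp ⟨fun N hN => by
      by_cases h1 : N = ⊥
      · exact Or.inl h1
      · exact Or.inr (hall N hN h1)⟩
  haveI := hNn
  have hNab := hab N hNn hNt
  obtain ⟨p, hp, hpN⟩ := Nat.exists_prime_and_dvd
    (ne_of_gt ((Subgroup.one_lt_card_iff_ne_bot N).2 hNb))
  haveI := Fact.mk hp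
  have hpG : p ∣ Nat.card G := hpN.trans (Subgroup.card_subgroup_dvd_card N)
  -- `R` is the primary part of `N`
  let R : Subgroup G :=
    { carrier := {n | n ∈ N ∧ ∃ k : ℕ, n ^ p ^ k = 1}
      one_mem' := ⟨one_mem _, 0, one_pow _⟩
      mul_mem' := fun {a b} ha hb => ⟨mul_mem ha.1 hb.1, by
        obtain ⟨i, hi⟩ := ha.2
        obtain ⟨j, hj⟩ := hb.2
        refine ⟨i + j, ?_⟩
        rw [(show Commute a b from congrArg Subtype.val
          (hNab.is_comm.comm (⟨a, ha.1⟩ : N) ⟨b, hb.1⟩)).mul_pow, pow_add, pow_mul, hi, one_pow,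
          one_mul, mul_comm, pow_mul, hj, one_pow]⟩
      inv_mem' := fun {a} ha => ⟨inv_mem ha.1, by
        obtain ⟨i, hi⟩ := ha.2; exact ⟨i, by rw [inv_pow, hi, inv_one]⟩⟩ }
  haveI hRn : R.Normal := ⟨fun n hn g => ⟨hNn.conj_mem n hn.1 g, by
    obtain ⟨k, hk⟩ := hn.2
    exact ⟨k, by rw [conj_pow, hk, mul_one, mul_inv_cancel]⟩⟩⟩
  have hRp : IsPGroup p R := fun x => x.2.2.imp fun k hk => Subtype.ext hk
  have hRab : ∀ a ∈ R, ∀ b ∈ R, a * b = b * a := fun a ha b hb =>
    congrArg Subtype.val (hNab.is_comm.comm (⟨a, ha.1⟩ : N) ⟨b, hb.1⟩)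
  obtain ⟨r₀, hr₀, hr₀1⟩ : ∃ r ∈ R, r ≠ 1 := by
    obtain ⟨n, hn⟩ := exists_prime_orderOf_dvd_card' (G := N) p hpN
    refine ⟨n, ⟨n.2, 1, ?_⟩, fun e => ?_⟩
    · rw [pow_one]; exact orderOf_dvd_iff_pow_eq_one.1 ((Subgroup.orderOf_coe n).dvd.trans hn.dvd)
    · rw [← Subgroup.orderOf_coe, e, orderOf_one] at hn
      exact hp.ne_one hn.symm
  set C := Subgroup.centralizer (R : Set G) with hC
  haveI hCn : C.Normal := inferInstance
  -- `R` is central
  have hCtop : C = ⊤ := by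
    by_contra hne
    obtain ⟨q, g, hq, hqp, ⟨b, hb⟩, hgC⟩ : ∃ q g, q.Prime ∧ q ≠ p ∧ (∃ b, orderOf g = q ^ b) ∧
        g ∉ C := by
      by_contra hall
      push Not at hall
      refine hnpc (G ⧸ C) (QuotientGroup.mk' C) (QuotientGroup.mk'_surjective C) p hp ?_ ?_
      · have hle : Cfsg.pResidual p G ≤ C := by
          rw [Cfsg.pResidual, Subgroup.closure_le]
          intro y hy
          exact CfsgLib.Frobenius.Elements.mem_of_primary fun z _ ⟨q, b, hq, hqy, hz⟩ =>
            hall q z hq (fun e => hp.ne_one (Nat.eq_one_of_dvd_coprimes hy (e ▸ hqy) dvd_rfl)) ⟨b, hz⟩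
        obtain ⟨k, hk⟩ := CfsgLib.Fusion.Basic.exists_index_pResidual (p := p) (G := G)
        obtain ⟨j, -, hj⟩ := (Nat.dvd_prime_pow hp).1 (hk ▸ Subgroup.index_dvd_of_le hle)
        show p ∣ C.index
        rw [hj]
        exact dvd_pow_self p fun j0 => hne (Subgroup.index_eq_one.1 (by rw [hj, j0, pow_zero]))
      · refine CfsgLib.Fusion.Basic.npc_of_isPGroup ?_
        have hle : Cfsg.pResidual p G ≤ C := by
          rw [Cfsg.pResidual, Subgroup.closure_le]
          intro y hy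
          exact CfsgLib.Frobenius.Elements.mem_of_primary fun z _ ⟨q, b, hq, hqy, hz⟩ =>
            hall q z hq (fun e => hp.ne_one (Nat.eq_one_of_dvd_coprimes hy (e ▸ hqy) dvd_rfl)) ⟨b, hz⟩
        obtain ⟨k, hk⟩ := CfsgLib.Fusion.Basic.exists_index_pResidual (p := p) (G := G)
        obtain ⟨j, -, hj⟩ := (Nat.dvd_prime_pow hp).1 (hk ▸ Subgroup.index_dvd_of_le hle)
        exact IsPGroup.of_card hj
    haveI := Fact.mk hq
    set H := R ⊔ Subgroup.zpowers g with hH
    have hna : ¬ IsMulCommutative H := fun hc => hgC (Subgroup.mem_centralizer_iff.2 fun r hr =>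
      congrArg Subtype.val (hc.is_comm.comm
        (⟨r, Subgroup.mem_sup_left hr⟩ : H) ⟨g, Subgroup.mem_sup_right (Subgroup.mem_zpowers g)⟩))
    set π := QuotientGroup.mk' R
    have hπ : Function.Surjective π := QuotientGroup.mk'_surjective R
    set Z := Subgroup.zpowers (π g) with hZ
    have hcomap : Z.comap π = H := by
      rw [hZ, ← MonoidHom.map_zpowers, Subgroup.comap_map_eq, QuotientGroup.ker_mk', hH, sup_comm]
    have hnormZ : Subgroup.normalizer (Z : Set (G ⧸ R)) = Z := by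
      apply Subgroup.comap_injective hπ
      rw [Subgroup.comap_normalizer_eq_of_surjective Z hπ, hcomap, hS H hna]
    have hZq : IsPGroup q Z := by
      obtain ⟨j, -, hj⟩ := (Nat.dvd_prime_pow hq).1 (hb ▸ orderOf_map_dvd π g)
      exact IsPGroup.iff_card.2 ⟨j, by rw [hZ, Nat.card_zpowers, hj]⟩
    obtain ⟨S, hSle⟩ := hZq.exists_le_sylow
    have hSZ : (S : Subgroup (G ⧸ R)) = Z := by
      refine (eq_of_le_of_not_lt hSle fun hlt => ?_).symm
      haveI := S.isPGroup'.isNilpotent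
      have h1 : Z.subgroupOf (S : Subgroup (G ⧸ R)) < ⊤ :=
        lt_top_iff_ne_top.2 fun e => hlt.not_ge (Subgroup.subgroupOf_eq_top.1 e)
      have h2 := Group.normalizerCondition_of_isNilpotent (G := ↥(S : Subgroup (G ⧸ R))) _ h1
      rw [← Subgroup.subgroupOf_normalizer_eq hSle, hnormZ] at h2
      exact lt_irrefl _ h2
    refine hnpc (G ⧸ R) π hπ q hq ?_
      (CfsgLib.Fusion.Abelian.npc_of_normalizer_le_centralizer S ?_)
    · have hd : orderOf (π g) ∣ Nat.card (G ⧸ R) := orderOf_dvd_natCard _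
      obtain ⟨j, -, hj⟩ := (Nat.dvd_prime_pow hq).1 (hb ▸ orderOf_map_dvd π g)
      refine dvd_trans ?_ (hj ▸ hd)
      refine dvd_pow_self q fun j0 => hgC ?_
      rw [j0, pow_zero, orderOf_eq_one_iff] at hj
      have hgR : g ∈ R := (QuotientGroup.eq_one_iff g).1 hj
      exact Subgroup.mem_centralizer_iff.2 fun r hr => hRab r hr g hgR
    · show Subgroup.normalizer ((S : Subgroup (G ⧸ R)) : Set (G ⧸ R)) ≤
        Subgroup.centralizer ((S : Subgroup (G ⧸ R)) : Set (G ⧸ R))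
      rw [hSZ, hnormZ]
      intro z hz
      refine Subgroup.mem_centralizer_iff.2 fun w hw => ?_
      obtain ⟨i, rfl⟩ := Subgroup.mem_zpowers_iff.1 hz
      obtain ⟨j, rfl⟩ := Subgroup.mem_zpowers_iff.1 hw
      exact ((Commute.refl (π g)).zpow_zpow j i).eq
  have hRc : ∀ r ∈ R, ∀ x : G, r * x = x * r := fun r hr x =>
    Subgroup.mem_centralizer_iff.1 (hCtop ▸ Subgroup.mem_top x : x ∈ C) r hr
  -- Frobenius' criterion holds
  obtain ⟨P⟩ : Nonempty (Sylow p G) := inferInstance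
  refine hnpc G (MonoidHom.id G) Function.surjective_id p hp hpG
    (CfsgLib.Fusion.Alperin.npc_of_frobenius P fun Q hQ g hg hgo => ?_)
  have hQp : IsPGroup p Q := P.isPGroup'.to_le hQ
  by_cases hQab : IsMulCommutative Q
  swap
  · rw [hS Q hQab] at hg
    obtain ⟨k, hk⟩ := IsPGroup.iff_orderOf.1 hQp ⟨g, hg⟩
    rw [Subgroup.orderOf_mk] at hk
    have : g = 1 := orderOf_eq_one_iff.1 (Nat.eq_one_of_dvd_coprimes
      (hgo.pow_right k) dvd_rfl hk.dvd)
    exact this ▸ one_mem _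
  have hQc : ∀ a ∈ Q, ∀ b ∈ Q, Commute a b := fun a ha b hb =>
    congrArg Subtype.val (hQab.is_comm.comm (⟨a, ha⟩ : Q) ⟨b, hb⟩)
  have hconjQ : ∀ a ∈ Q, g * a * g⁻¹ ∈ Q := fun a ha => (Subgroup.mem_normalizer_iff.1 hg a).1 ha
  -- a fixed element of the shape `g a g⁻¹ a⁻¹` is trivial
  have hfix : ∀ a ∈ Q, Commute g (g * a * g⁻¹ * a⁻¹) → g * a * g⁻¹ * a⁻¹ = 1 := by
    intro a ha hc
    set d := g * a * g⁻¹ * a⁻¹ with hd
    have hdQ : d ∈ Q := mul_mem (hconjQ a ha) (inv_mem ha)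
    have hiter : ∀ i : ℕ, g ^ i * a * (g ^ i)⁻¹ = d ^ i * a := by
      intro i
      induction i with
      | zero => simp
      | succ i ih =>
        have hgd : g * d ^ i * g⁻¹ = d ^ i := by
          rw [(hc.pow_right i).eq, mul_inv_cancel_right]
        calc g ^ (i + 1) * a * (g ^ (i + 1))⁻¹ = g * (g ^ i * a * (g ^ i)⁻¹) * g⁻¹ := by
              rw [pow_succ']; group
          _ = (g * d ^ i * g⁻¹) * (g * a * g⁻¹) := by rw [ih]; group
          _ = d ^ i * (d * a) := by rw [hgd, show d * a = g * a * g⁻¹ by simp [hd]]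
          _ = _ := by rw [pow_succ]; exact (mul_assoc _ _ _).symm
    have h1 := hiter (orderOf g)
    rw [pow_orderOf_eq_one] at h1
    simp only [one_mul, inv_one, mul_one] at h1
    have h2 : d ^ orderOf g = 1 := by
      have := congrArg (· * a⁻¹) h1
      simpa using this.symm
    obtain ⟨k, hk⟩ := IsPGroup.iff_orderOf.1 hQp ⟨d, hdQ⟩
    rw [Subgroup.orderOf_mk] at hk
    exact orderOf_eq_one_iff.1 (Nat.eq_one_of_dvd_coprimes (hgo.pow_right k)
      (orderOf_dvd_of_pow_eq_one h2) hk.dvd)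
  let D : Subgroup G :=
    { carrier := {x | ∃ a ∈ Q, x = g * a * g⁻¹ * a⁻¹}
      one_mem' := ⟨1, one_mem _, by simp⟩
      mul_mem' := by
        rintro _ _ ⟨a, ha, rfl⟩ ⟨b, hb, rfl⟩
        refine ⟨a * b, mul_mem ha hb, ?_⟩
        have h1 : Commute a⁻¹ (g * b * g⁻¹ * b⁻¹) :=
          hQc _ (inv_mem ha) _ (mul_mem (hconjQ b hb) (inv_mem hb))
        calc g * a * g⁻¹ * a⁻¹ * (g * b * g⁻¹ * b⁻¹)
            = g * a * g⁻¹ * (g * b * g⁻¹ * b⁻¹ * a⁻¹) := by rw [mul_assoc (g * a * g⁻¹), h1.eq]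
          _ = _ := by group
      inv_mem' := by
        rintro _ ⟨a, ha, rfl⟩
        refine ⟨a⁻¹, inv_mem ha, ?_⟩
        have h1 : Commute a (g * a⁻¹ * g⁻¹) := hQc _ ha _ (hconjQ _ (inv_mem ha))
        calc (g * a * g⁻¹ * a⁻¹)⁻¹ = a * (g * a⁻¹ * g⁻¹) := by group
          _ = g * a⁻¹ * g⁻¹ * a := h1.eq
          _ = _ := by rw [inv_inv] }
  have hgD : Subgroup.zpowers g ≤ Subgroup.normalizer (D : Set G) := by
    rw [Subgroup.zpowers_le]
    refine Subgroup.mem_normalizer_iff_map_conj_eq.2 (Subgroup.eq_of_le_of_card_ge ?_ ?_)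
    · rintro _ ⟨_, ⟨a, ha, rfl⟩, rfl⟩
      exact ⟨g * a * g⁻¹, hconjQ a ha, by simp [mul_assoc]⟩
    · exact (Nat.card_congr (Subgroup.equivMapOfInjective _ _ (MulAut.conj g).injective).toEquiv).le
  by_contra hgQ
  obtain ⟨a₀, ha₀, hne₀⟩ : ∃ a ∈ Q, g * a * g⁻¹ * a⁻¹ ≠ 1 := by
    by_contra hall
    push Not at hall
    exact hgQ (Subgroup.mem_centralizer_iff.2 fun a ha => (mul_inv_eq_iff_eq_mul.1 (mul_inv_eq_one.1 (hall a ha))).symm)
  set H := D ⊔ Subgroup.zpowers g with hH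
  have hna : ¬ IsMulCommutative H := fun hc => hne₀ (hfix a₀ ha₀ (congrArg Subtype.val (hc.is_comm.comm
    (⟨g, Subgroup.mem_sup_right (Subgroup.mem_zpowers g)⟩ : H)
    ⟨_, Subgroup.mem_sup_left ⟨a₀, ha₀, rfl⟩⟩)))
  have hrH : r₀ ∈ Subgroup.normalizer (H : Set G) :=
    Subgroup.centralizer_le_normalizer _ (Subgroup.mem_centralizer_iff.2 fun x _ => (hRc r₀ hr₀ x).symm)
  rw [hS H hna] at hrH
  have hmem : r₀ ∈ (D : Set G) * (Subgroup.zpowers g : Set G) := by
    rw [← Subgroup.coe_mul_of_right_le_normalizer_left D (Subgroup.zpowers g) hgD]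
    exact hrH
  obtain ⟨d, ⟨a, ha, rfl⟩, w, hw, hdw⟩ := hmem
  change g * a * g⁻¹ * a⁻¹ * w = r₀ at hdw
  set d := g * a * g⁻¹ * a⁻¹
  have hdQ : d ∈ Q := mul_mem (hconjQ a ha) (inv_mem ha)
  -- `w` is a product of commuting elements of `p`-power order
  have hw1 : w = 1 := by
    have hwe : w = d⁻¹ * r₀ := by rw [← hdw, inv_mul_cancel_left]
    obtain ⟨i, hi⟩ := hQp ⟨d, hdQ⟩
    obtain ⟨j, hj⟩ := hr₀.2
    have hi' : d ^ p ^ i = 1 := congrArg Subtype.val hi
    have h1 : w ^ p ^ (i + j) = 1 := by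
      rw [hwe, (show Commute d⁻¹ r₀ from (hRc r₀ hr₀ d⁻¹).symm).mul_pow, inv_pow, pow_add, pow_mul, hi',
        one_pow, inv_one, one_mul, mul_comm, pow_mul, hj, one_pow]
    refine orderOf_eq_one_iff.1 (Nat.eq_one_of_dvd_coprimes (hgo.pow_right (i + j))
      (orderOf_dvd_of_mem_zpowers hw) (orderOf_dvd_of_pow_eq_one h1))
  rw [hw1, mul_one] at hdw
  exact hr₀1 (hdw ▸ hfix a ha (show Commute g d from hdw.symm ▸ (hRc r₀ hr₀ g).symm))

end Cfsg.Agent.S4072
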