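import Cfsg.Statements.S4074


set_option autoImplicit false
open Cfsg

namespace Cfsg.Agent.S4074

/-- For n > 2, every non-abelian subgroup of the dihedral group of order 2n is self-normalizing if and only if n = 4 or n is odd. -/
theorem result (n : ℕ) (hn : 2 < n) :
    (∀ H : Subgroup (DihedralGroup n), ¬ IsMulCommutative H → Subgroup.normalizer (H : Set (DihedralGroup n)) = H) ↔
    (n = 4 ∨ Odd n) := by
  constructor
  · intro h
    by_contra hne
    rw [not_or, Nat.not_odd_iff_even] at hne
    obtain ⟨hn4, hev⟩ := hne
    set c := ZMod.castHom (even_iff_two_dvd.mp hev) (ZMod 2) with hc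
    let f : DihedralGroup n →* Multiplicative (ZMod 2) := MonoidHom.mk'
      (fun g => match g with
        | DihedralGroup.r i => Multiplicative.ofAdd (c i)
        | DihedralGroup.sr i => Multiplicative.ofAdd (c i))
      (by
        have hneg : ∀ u : ZMod 2, -u = u := by decide
        rintro (i | i) (j | j) <;>
          simp [← ofAdd_add, sub_eq_add_neg, hneg, add_comm])
    have hH : ¬ IsMulCommutative f.ker := by
      intro hc2
      have h1 : DihedralGroup.r (2 : ZMod n) ∈ f.ker := by
        rw [MonoidHom.mem_ker]
        show Multiplicative.ofAdd (c 2) = 1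
        rw [map_ofNat]
        rfl
      have h2 : DihedralGroup.sr (0 : ZMod n) ∈ f.ker := by
        rw [MonoidHom.mem_ker]
        show Multiplicative.ofAdd (c 0) = 1
        rw [map_zero]; rfl
      have h3 := congrArg Subtype.val (hc2.is_comm.comm (⟨_, h1⟩ : f.ker) ⟨_, h2⟩)
      simp only [Subgroup.coe_mul, DihedralGroup.r_mul_sr, DihedralGroup.sr_mul_r, zero_sub,
        zero_add, DihedralGroup.sr.injEq] at h3
      have h4 : ((4 : ℕ) : ZMod n) = 0 := by
        push_cast
        linear_combination -h3
      have h5 := Nat.le_of_dvd (by norm_num) ((ZMod.natCast_eq_zero_iff 4 n).mp h4)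
      obtain ⟨k, hk⟩ := hev
      omega
    have h1 : DihedralGroup.r (1 : ZMod n) ∈ Subgroup.normalizer ((f.ker : Subgroup _) : Set (DihedralGroup n)) := by
      rw [Subgroup.normalizer_eq_top_iff.mpr inferInstance]
      exact Subgroup.mem_top _
    rw [h f.ker hH, MonoidHom.mem_ker] at h1
    have h2 : c 1 = 0 := Multiplicative.ofAdd.injective h1
    rw [map_one] at h2
    exact one_ne_zero h2
  · intro hn' H hH
    haveI : NeZero n := ⟨by omega⟩
    rcases hn' with rfl | hodd
    · by_contra hne
      apply hH
      have hlt : H ≠ ⊤ := fun e => hne (top_le_iff.mp ((e ▸ Subgroup.le_normalizer :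
        (⊤ : Subgroup (DihedralGroup 4)) ≤ _)) |>.trans e.symm)
      have hdvd : Nat.card H ∣ 2 ^ 3 := by
        have := Subgroup.card_subgroup_dvd_card H
        rwa [DihedralGroup.nat_card] at this
      have hne8 : Nat.card H ≠ 2 ^ 3 := fun e => hlt (Subgroup.eq_top_of_card_eq _ (by
        rw [e, DihedralGroup.nat_card]; norm_num))
      obtain ⟨k, hk, hHk⟩ := (Nat.dvd_prime_pow Nat.prime_two).mp hdvd
      have hk2 : k ≤ 2 := by
        by_contra hk2
        exact hne8 (by rw [hHk, show k = 3 by omega])
      haveI : Fact (Nat.Prime 2) := ⟨Nat.prime_two⟩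
      interval_cases k
      · haveI : Subsingleton H := (Nat.card_eq_one_iff_unique.mp (by rw [hHk]; norm_num)).1
        exact ⟨⟨fun a b => Subsingleton.elim _ _⟩⟩
      · haveI : IsCyclic H := isCyclic_of_prime_card (p := 2) (by rw [hHk]; norm_num)
        exact IsCyclic.isMulCommutative
      · exact ⟨⟨(IsPGroup.commGroupOfCardEqPrimeSq (p := 2) hHk).mul_comm⟩⟩
    · obtain ⟨m, hm⟩ := hodd
      obtain ⟨i, hi⟩ : ∃ i, DihedralGroup.sr i ∈ H := by
        by_contra hall
        push_neg at hall
        refine hH ⟨⟨fun a b => ?_⟩⟩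
        obtain ⟨(a | a), ha⟩ := a
        · obtain ⟨(b | b), hb⟩ := b
          · exact Subtype.ext (by simp [DihedralGroup.r_mul_r, add_comm])
          · exact absurd hb (hall b)
        · exact absurd ha (hall a)
      have hrot : ∀ k, DihedralGroup.r k ∈ Subgroup.normalizer (H : Set (DihedralGroup n)) →
          DihedralGroup.r k ∈ H := by
        intro k hk
        have h1 := mul_mem hi ((Subgroup.mem_normalizer_iff.mp hk _).mp hi)
        simp only [DihedralGroup.inv_r, DihedralGroup.r_mul_sr, DihedralGroup.sr_mul_r,
          DihedralGroup.sr_mul_sr] at h1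
        have h2 := pow_mem h1 m
        rw [DihedralGroup.r_pow] at h2
        have h3 : ((2 * m + 1 : ℕ) : ZMod n) = 0 := by rw [← hm]; exact ZMod.natCast_self n
        push_cast at h3
        convert h2 using 2
        linear_combination k * h3
      refine le_antisymm (fun g hg => ?_) Subgroup.le_normalizer
      obtain k | k := g
      · exact hrot k hg
      · have h1 := hrot _ (by
          have := mul_mem (Subgroup.le_normalizer hi) hg
          rwa [DihedralGroup.sr_mul_sr] at this)
        have h2 := mul_mem hi h1
        rwa [DihedralGroup.sr_mul_r, add_sub_cancel] at h2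

end Cfsg.Agent.S4074
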