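import Cfsg.Statements.S4075
import Cfsg.Agent.Lib.Frobenius.Elements

set_option autoImplicit false
open Cfsg

namespace Cfsg.Agent.S4075

/-- Let G be a finite nilpotent group. Every non-abelian subgroup of G is self-normalizing if and only if G is abelian or G is a minimal non-abelian p-group for some prime p (non-abelian of prime-power order with every proper subgroup abelian). -/
theorem result {G : Type*} [Group G] [Finite G]
    [Group.IsNilpotent G] :
    (∀ H : Subgroup G, ¬ IsMulCommutative H → Subgroup.normalizer (H : Set G) = H) ↔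
    (IsMulCommutative G ∨ (IsPrimePow (Nat.card G) ∧ ¬ IsMulCommutative G ∧ ∀ H : Subgroup G, H ≠ ⊤ → IsMulCommutative H)) := by
  constructor
  · intro h
    by_cases hab : IsMulCommutative G
    · exact Or.inl hab
    have hprop : ∀ H : Subgroup G, H ≠ ⊤ → IsMulCommutative H := by
      intro H hH
      by_contra hna
      exact (Group.normalizerCondition_of_isNilpotent H (lt_top_iff_ne_top.mpr hH)).ne (h H hna).symm
    refine Or.inr ⟨?_, hab, hprop⟩
    by_contra hpp
    apply hab
    have hnorm := ((Group.isNilpotent_of_finite_tfae (G := G)).out 0 3).mp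
      (inferInstance : Group.IsNilpotent G)
    have hsyl : ∀ (q : ℕ) (_ : Fact q.Prime) (P : Sylow q G), (P : Subgroup G) ≠ ⊤ := by
      intro q hq P hP
      obtain ⟨k, hk⟩ := IsPGroup.iff_card.mp P.isPGroup'
      rw [hP, Subgroup.card_top] at hk
      rcases Nat.eq_zero_or_pos k with hk0 | hk0
      · haveI : Subsingleton G :=
          (Nat.card_eq_one_iff_unique.mp (by rw [hk, hk0, pow_zero])).1
        exact hab ⟨⟨fun a b => Subsingleton.elim _ _⟩⟩
      · exact hpp (hk ▸ hq.out.isPrimePow.pow hk0.ne')
    have hsy : ∀ (q : ℕ) (_ : Fact q.Prime) (x : G) (_ : ∃ a, orderOf x = q ^ a),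
        ∀ P : Sylow q G, x ∈ (P : Subgroup G) := by
      intro q hq x ⟨a, ha⟩ P
      obtain ⟨S, hS⟩ := (IsPGroup.iff_card.mpr ⟨a, by rw [Nat.card_zpowers, ha]⟩ :
        IsPGroup q ↥(Subgroup.zpowers x)).exists_le_sylow
      haveI := Sylow.unique_of_normal P (hnorm q hq P)
      exact Subsingleton.elim S P ▸ hS (Subgroup.mem_zpowers x)
    have hpc : ∀ (q r : ℕ) (x y : G), q.Prime → r.Prime → (∃ a, orderOf x = q ^ a) →
        (∃ a, orderOf y = r ^ a) → x ∈ Subgroup.centralizer ({y} : Set G) := by
      intro q r x y hq hr hx hy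
      haveI := Fact.mk hq
      haveI := Fact.mk hr
      obtain ⟨P⟩ : Nonempty (Sylow q G) := inferInstance
      obtain ⟨R⟩ : Nonempty (Sylow r G) := inferInstance
      rw [Subgroup.mem_centralizer_singleton_iff]
      by_cases hqr : q = r
      · subst hqr
        exact congrArg Subtype.val ((hprop _ (hsyl q inferInstance P)).is_comm.comm
          ⟨x, hsy q inferInstance x hx P⟩ ⟨y, hsy q inferInstance y hy P⟩)
      · exact (Subgroup.commute_of_normal_of_disjoint _ _ (hnorm q inferInstance P)
          (hnorm r inferInstance R) (IsPGroup.disjoint_of_ne q r hqr _ _ P.isPGroup' R.isPGroup') x y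
          (hsy q inferInstance x hx P) (hsy r inferInstance y hy R)).eq
    refine ⟨⟨fun x y => Subgroup.mem_centralizer_singleton_iff.mp
      (CfsgLib.Frobenius.Elements.mem_of_primary fun z _ ⟨q, a, hq, _, hz⟩ =>
        Subgroup.mem_centralizer_singleton_iff.mpr
          (Subgroup.mem_centralizer_singleton_iff.mp
            (CfsgLib.Frobenius.Elements.mem_of_primary fun w _ ⟨r, b, hr, _, hw⟩ =>
              hpc r q w z hr hq ⟨b, hw⟩ ⟨a, hz⟩ : y ∈ Subgroup.centralizer ({z} : Set G))).symm)⟩⟩
  · rintro (hab | ⟨-, -, hprop⟩) H hH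
    · exact absurd ⟨⟨fun a b => Subtype.ext (hab.is_comm.comm (a : G) b)⟩⟩ hH
    · have : H = ⊤ := by_contra fun hne => hH (hprop H hne)
      subst this
      exact top_le_iff.mp Subgroup.le_normalizer

end Cfsg.Agent.S4075
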