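import Cfsg.Statements.S4079
import Cfsg.Agent.Lib.MetacyclicOdd.OmegaTwo
import Cfsg.Agent.Lib.PGroup.SmallCentralizerRank
import Cfsg.Agent.Lib.FusionSystem.MaxClassEssential

set_option autoImplicit false
open Cfsg

namespace Cfsg.Agent.S4079

open scoped commutatorElement
open CfsgLib.MetacyclicOdd.OmegaTwo

section Aut

variable {L : Type*} [Group L] [Finite L] {p : ℕ} [hp : Fact p.Prime]

/-- Consequences of `a` moving an element of order `p`. -/
theorem moved (hp2 : p ≠ 2) (hpL : IsPGroup p L) (D : Layers L p) (a : MulAut L) (hap : a ^ p = 1) {e : L} (he : e ∈ D.E)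
    (hne : a e ≠ e) :
    p = 3 ∧ Nat.card (a.toMonoidHom.eqLocus (MonoidHom.id L)) = p := by
  classical
  set F := a.toMonoidHom.eqLocus (MonoidHom.id L) with hF
  have memF : ∀ x, x ∈ F ↔ a x = x := fun x => Iff.rfl
  have hEK : D.E ≤ D.K := fun x hx => (D.memK x).mpr (by rw [pow_mul, (D.memE x).mp hx, one_pow])
  have haE : ∀ x ∈ D.E, a x ∈ D.E := fun x hx => (D.memE _).mpr (by
    rw [← map_pow, (D.memE x).mp hx, map_one])
  have haK : ∀ x ∈ D.K, a x ∈ D.K := fun x hx => (D.memK _).mpr (by
    rw [← map_pow, (D.memK x).mp hx, map_one])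
  have hE : ∀ u ∈ D.E, ∀ v ∈ D.E, u * v = v * u := fun u hu v hv => D.comm u hu v (hEK hv)
  -- displacements
  set δ : L → L := fun u => u⁻¹ * a u with hδ
  have hδE : ∀ u ∈ D.E, δ u ∈ D.E := fun u hu => mul_mem (inv_mem hu) (haE u hu)
  have hδmul : ∀ u ∈ D.E, ∀ v ∈ D.E, δ (u * v) = δ u * δ v := by
    intro u hu v hv
    show (u * v)⁻¹ * a (u * v) = u⁻¹ * a u * (v⁻¹ * a v)
    rw [map_mul, mul_inv_rev]
    calc v⁻¹ * u⁻¹ * (a u * a v) = v⁻¹ * (u⁻¹ * a u) * a v := by simp [mul_assoc]
      _ = u⁻¹ * a u * v⁻¹ * a v := by rw [hE _ (inv_mem hv) _ (hδE u hu)]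
      _ = _ := by simp [mul_assoc]
  -- fixed points
  have hpg : IsPGroup p (Subgroup.zpowers a) := by
    intro g
    obtain ⟨i, hi⟩ := Subgroup.mem_zpowers_iff.mp g.2
    exact ⟨1, Subtype.ext (by
      show (g : MulAut L) ^ p ^ 1 = 1
      rw [pow_one, ← hi, ← zpow_natCast, ← zpow_mul, mul_comm, zpow_mul, zpow_natCast, hap,
        one_zpow])⟩
  have fixsub : ∀ H : Subgroup L, p ∣ Nat.card H → (∀ x ∈ H, a x ∈ H) →
      ∃ x ∈ H, x ≠ 1 ∧ a x = x := by
    intro H hdvd hHa
    have hi : ∀ g : Subgroup.zpowers a, ∀ x ∈ H, (g : MulAut L) x ∈ H := by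
      intro g
      obtain ⟨i, hi⟩ := (mem_powers_iff_mem_zpowers (x := a)).mpr g.2
      intro x hx
      rw [← hi]
      clear hi
      induction i generalizing x with
      | zero => simpa using hx
      | succ i ih =>
        show (a ^ (i + 1)) x ∈ H
        rw [pow_succ', MulAut.mul_apply]
        exact hHa _ (ih x hx)
    let _ : MulAction (Subgroup.zpowers a) H :=
      { smul := fun g x => ⟨(g : MulAut L) x, hi g x x.2⟩
        one_smul := fun x => rfl
        mul_smul := fun g h x => rfl }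
    obtain ⟨x, hx, hx1⟩ := hpg.exists_fixed_point_of_prime_dvd_card_of_fixed_point (α := H) hdvd
      (a := 1) (fun g => Subtype.ext (map_one (g : MulAut L)))
    exact ⟨x, x.2, fun e => hx1 (Subtype.ext e.symm),
      congrArg Subtype.val (hx ⟨a, Subgroup.mem_zpowers a⟩)⟩
  let I : Subgroup L :=
    { carrier := {d | ∃ u ∈ D.E, δ u = d}
      one_mem' := ⟨1, one_mem _, by simp [δ]⟩
      mul_mem' := by
        rintro _ _ ⟨u, hu, rfl⟩ ⟨v, hv, rfl⟩
        exact ⟨u * v, mul_mem hu hv, hδmul u hu v hv⟩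
      inv_mem' := by
        rintro _ ⟨u, hu, rfl⟩
        refine ⟨u⁻¹, inv_mem hu, eq_inv_of_mul_eq_one_left ?_⟩
        rw [← hδmul _ (inv_mem hu) u hu, inv_mul_cancel]
        simp [δ] }
  have hIE : I ≤ D.E := by
    rintro _ ⟨u, hu, rfl⟩
    exact hδE u hu
  have hFE : Nat.card (F ⊓ D.E : Subgroup L) = p := by
    obtain ⟨i, hi, hi'⟩ := (Nat.dvd_prime_pow hp.out).mp
      (show Nat.card (F ⊓ D.E : Subgroup L) ∣ p ^ 2 from D.cardE ▸ Subgroup.card_dvd_of_le inf_le_right)
    have h2 : i ≠ 2 := fun h2 => by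
      have := Subgroup.eq_of_le_of_card_ge (inf_le_right : F ⊓ D.E ≤ D.E) (by rw [D.cardE, hi', h2])
      exact hne ((memF e).mp ((this.ge he).1))
    obtain ⟨x, hx, hx1, hax⟩ := fixsub D.E (by rw [D.cardE]; exact dvd_pow_self p two_ne_zero) haE
    have h0 : i ≠ 0 := fun h0 => by
      rw [h0, pow_zero] at hi'
      exact hx1 (Subgroup.mem_bot.mp (Subgroup.card_eq_one.mp hi' ▸ ⟨(memF x).mpr hax, hx⟩))
    rw [hi', show i = 1 by omega, pow_one]
  have hI : Nat.card I ≤ p := by
    obtain ⟨i, hi, hi'⟩ := (Nat.dvd_prime_pow hp.out).mp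
      (show Nat.card I ∣ p ^ 2 from D.cardE ▸ Subgroup.card_dvd_of_le hIE)
    by_contra hlt
    have h2 : i = 2 := by
      by_contra h2
      apply hlt
      rw [hi']
      calc p ^ i ≤ p ^ 1 := Nat.pow_le_pow_right hp.out.pos (by omega)
        _ = p := pow_one p
    -- `δ` would be injective
    let f : D.E → D.E := fun u => ⟨δ u, hδE u u.2⟩
    have hsur : Function.Surjective f := fun v => by
      obtain ⟨u, hu, huv⟩ := (Subgroup.eq_of_le_of_card_ge hIE (by rw [D.cardE, hi', h2])).ge v.2
      exact ⟨⟨u, hu⟩, Subtype.ext huv⟩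
    obtain ⟨x, hx, hx1, hax⟩ := fixsub D.E (by rw [D.cardE]; exact dvd_pow_self p two_ne_zero) haE
    have := (Finite.injective_iff_surjective.mpr hsur) (a₁ := ⟨x, hx⟩) (a₂ := 1)
      (Subtype.ext (by show x⁻¹ * a x = (1 : L)⁻¹ * a 1; rw [hax]; simp))
    exact hx1 (congrArg Subtype.val this)
  have hδδ : ∀ u ∈ D.E, δ (δ u) = 1 := by
    intro u hu
    by_cases h1 : δ u = 1
    · rw [h1]; simp [δ]
    have hIa : ∀ d ∈ I, a d ∈ I := by
      rintro _ ⟨u, hu, rfl⟩
      exact ⟨a u, haE u hu, by simp [δ]⟩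
    have hnt : p ∣ Nat.card I := by
      obtain ⟨i, hi, hi'⟩ := (Nat.dvd_prime_pow hp.out).mp
        (show Nat.card I ∣ p ^ 2 from D.cardE ▸ Subgroup.card_dvd_of_le hIE)
      have : i ≠ 0 := fun h0 => by
        rw [h0, pow_zero] at hi'
        exact h1 (Subgroup.mem_bot.mp (Subgroup.card_eq_one.mp hi' ▸ ⟨u, hu, rfl⟩))
      rw [hi']; exact dvd_pow_self p this
    obtain ⟨x, hx, hx1, hax⟩ := fixsub I hnt hIa
    have hz : Subgroup.zpowers x = I := Subgroup.eq_of_le_of_card_ge (Subgroup.zpowers_le.mpr hx) (by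
      rw [Nat.card_zpowers, orderOf_eq_prime ((D.memE x).mp (hIE hx)) hx1]; exact hI)
    obtain ⟨i, hi⟩ := Subgroup.mem_zpowers_iff.mp (hz.ge ⟨u, hu, rfl⟩)
    show (δ u)⁻¹ * a (δ u) = 1
    rw [← hi, map_zpow, hax, inv_mul_cancel]
  -- the chain
  obtain ⟨x, hxK, rfl⟩ := D.powE e he
  set y := δ x with hy
  have hyK : y ∈ D.K := mul_mem (inv_mem hxK) (haK x hxK)
  have hyp : y ^ p = δ (x ^ p) := by
    show (x⁻¹ * a x) ^ p = (x ^ p)⁻¹ * a (x ^ p)
    rw [D.mul_pow _ (inv_mem hxK) _ (haK x hxK), inv_pow, map_pow]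
  have hyp1 : y ^ p ≠ 1 := fun h => by
    rw [hyp] at h
    exact hne (inv_mul_eq_one.mp h).symm
  set z := δ y with hz
  have hzp : z ^ p = 1 := by
    show (y⁻¹ * a y) ^ p = 1
    rw [D.mul_pow _ (inv_mem hyK) _ (haK y hyK), inv_pow, ← map_pow, hyp]
    exact hδδ _ he
  have hzE : z ∈ D.E := (D.memE z).mpr hzp
  set w := δ z with hw
  have hwE : w ∈ D.E := hδE z hzE
  have haw : a w = w := (inv_mul_eq_one.mp (hδδ z hzE)).symm
  have hax : a x = x * y := by rw [hy, hδ]; simp
  have hay : a y = y * z := by rw [hz, hδ]; simp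
  have haz : a z = z * w := by rw [hw, hδ]; simp
  have iter : ∀ j : ℕ, (a ^ j) x = x * y ^ j * z ^ j.choose 2 * w ^ j.choose 3 := by
    intro j
    induction j with
    | zero => simp
    | succ j ih =>
      have hyz : Commute y z := (D.comm z hzE y hyK).symm
      have hzw : Commute z w := hE z hzE w hwE
      have hyj : y * y ^ j = y ^ (j + 1) := (pow_succ' y j).symm
      rw [pow_succ' a, MulAut.mul_apply, ih, map_mul, map_mul, map_mul, map_pow, map_pow, map_pow,
        hax, hay, haz, haw, hyz.mul_pow, hzw.mul_pow,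
        Nat.choose_succ_succ' j 1, Nat.choose_succ_succ' j 2, Nat.choose_one_right]
      rw [show x * y * (y ^ j * z ^ j) * (z ^ j.choose 2 * w ^ j.choose 2) * w ^ j.choose 3 =
        x * (y * y ^ j) * (z ^ j * z ^ j.choose 2) * (w ^ j.choose 2 * w ^ j.choose 3) by
          simp [mul_assoc], hyj, ← pow_add, ← pow_add]
  have hfin := iter p
  rw [hap, MulAut.one_apply] at hfin
  have hz2 : z ^ p.choose 2 = 1 := by
    obtain ⟨t, ht⟩ := hp.out.dvd_choose_self two_ne_zero
      (lt_of_le_of_ne hp.out.two_le (Ne.symm hp2))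
    rw [ht, pow_mul, hzp, one_pow]
  rw [hz2, mul_one, mul_assoc, left_eq_mul] at hfin
  have hp3 : p = 3 := by
    by_contra h3
    obtain ⟨t, ht⟩ := hp.out.dvd_choose_self (k := 3) (by norm_num) (by
      have := hp.out.two_le
      omega)
    rw [ht, pow_mul, (D.memE w).mp hwE, one_pow, mul_one] at hfin
    exact hyp1 hfin
  refine ⟨hp3, ?_⟩
  subst hp3
  rw [show (3 : ℕ).choose 3 = 1 from rfl, pow_one] at hfin
  have hw1 : w ≠ 1 := fun h => hyp1 (by rw [h, mul_one] at hfin; exact hfin)
  have hFw : Subgroup.zpowers w = F ⊓ D.E := Subgroup.eq_of_le_of_card_ge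
    (Subgroup.zpowers_le.mpr ⟨(memF w).mpr haw, hwE⟩) (by
      rw [hFE, Nat.card_zpowers, orderOf_eq_prime ((D.memE w).mp hwE) hw1])
  have hle : F ≤ D.E := by
    -- no fixed element of exponent `p ^ 2` outside `E`
    have key : ∀ c ∈ F, c ∈ D.K → c ∈ D.E := by
      intro c hc hcK
      by_contra hcE
      have hc3 : c ^ 3 ∈ F ⊓ D.E := ⟨pow_mem hc 3, (D.memE _).mpr (by
        rw [← pow_mul]; exact (D.memK c).mp hcK)⟩
      obtain ⟨i, hi⟩ := Subgroup.mem_zpowers_iff.mp (hFw.ge hc3)
      -- `c = y ^ (-i) * u`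
      have hyi : y ^ (-i) ∈ D.K := zpow_mem hyK _
      set u := (y ^ (-i))⁻¹ * c with hu
      have huE : u ∈ D.E := (D.memE u).mpr (by
        rw [hu, D.mul_pow _ (inv_mem hyi) _ hcK, inv_pow, ← hi, ← zpow_natCast (y ^ (-i)),
          ← zpow_mul, mul_comm, zpow_mul, zpow_natCast, eq_inv_of_mul_eq_one_left hfin,
          inv_zpow', neg_neg, inv_mul_cancel])
      have hcu : c = y ^ (-i) * u := by rw [hu, mul_inv_cancel_left]
      have h1 : z ^ (-i) * a u = u := by
        have := (memF c).mp hc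
        rw [hcu, map_mul, map_zpow, hay,
          (show Commute y z from (D.comm z hzE y hyK).symm).mul_zpow, mul_assoc] at this
        exact mul_left_cancel this
      have h2 : z ^ i ∈ F ⊓ D.E := by
        refine ⟨?_, zpow_mem hzE i⟩
        have hzi : z ^ i = δ u := by
          have e2 : a u = z ^ i * u := by
            calc a u = z ^ i * (z ^ (-i) * a u) := by rw [← mul_assoc, ← zpow_add]; simp
              _ = z ^ i * u := by rw [h1]
          show z ^ i = u⁻¹ * a u
          rw [e2, hE _ (zpow_mem hzE i) _ huE, inv_mul_cancel_left]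
        show a (z ^ i) = z ^ i
        rw [hzi]
        exact (inv_mul_eq_one.mp (hδδ u huE)).symm
      by_cases h3i : (3 : ℤ) ∣ i
      · obtain ⟨t, ht⟩ := h3i
        apply hcE
        rw [D.memE, ← hi, ht, zpow_mul, zpow_ofNat, (D.memE w).mp hwE, one_zpow]
      · obtain ⟨s, t, hst⟩ := (Int.prime_three.coprime_iff_not_dvd.mpr h3i).symm
        have hzF : z ∈ F ⊓ D.E := by
          have e3 : z = (z ^ i) ^ s := by
            calc z = z ^ (s * i + t * 3) := by rw [hst, zpow_one]
              _ = (z ^ i) ^ s := by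
                rw [zpow_add, mul_comm t 3, zpow_mul z 3 t, zpow_ofNat, hzp, one_zpow, mul_one,
                  mul_comm, zpow_mul]
          rw [e3]; exact zpow_mem h2 s
        exact hw1 (by show z⁻¹ * a z = 1; rw [(memF z).mp hzF.1, inv_mul_cancel])
    suffices hh : ∀ n : ℕ, ∀ c ∈ F, c ^ 3 ^ n = 1 → c ∈ D.E by
      intro c hc
      obtain ⟨n, hn⟩ := hpL c
      exact hh n c hc hn
    intro n
    induction n with
    | zero => intro c _ h; rw [pow_zero, pow_one] at h; rw [h]; exact one_mem _
    | succ n ih =>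
      intro c hc h
      rw [pow_succ', pow_mul] at h
      exact key c hc ((D.memK c).mpr (by
        rw [pow_mul]; exact (D.memE _).mp (ih _ (pow_mem hc 3) h)))
  rw [← inf_eq_left.mpr hle]
  exact hFE

end Aut

/-- The semidirect product with the cyclic group of an automorphism. -/
abbrev Sd {L : Type*} [Group L] (a : MulAut L) :=
  SemidirectProduct L ↥(Subgroup.zpowers a) (Subgroup.zpowers a).subtype

theorem card_sdp {L : Type*} [Group L] [Finite L] {p : ℕ} (a : MulAut L) (ha : orderOf a = p) :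
    Finite (Sd a) ∧
      Nat.card (Sd a) =
        Nat.card L * p := by
  refine ⟨Finite.of_equiv _ SemidirectProduct.equivProd.symm, ?_⟩
  rw [SemidirectProduct.card, Nat.card_zpowers, ha]

/-- A normal subgroup of order `p ^ 2` lies in the second centre. -/
theorem le_upperTwo {S : Type*} [Group S] [Finite S] {p : ℕ} [hp : Fact p.Prime] (hS : IsPGroup p S)
    (hz : Nat.card (Subgroup.center S) = p) (N : Subgroup S) [hN : N.Normal]
    (hc : Nat.card N = p ^ 2) : N ≤ Subgroup.upperCentralSeries S 2 := by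
  set Z := Subgroup.center S
  set π := QuotientGroup.mk' Z
  haveI : (N.map π).Normal := Subgroup.Normal.map hN _ (QuotientGroup.mk'_surjective Z)
  have hsmall : Nat.card (N.map π) ≤ p := by
    have h1 := Subgroup.relIndex_ker (K := N) π
    rw [QuotientGroup.ker_mk'] at h1
    rw [← h1]
    obtain ⟨d, hd, hd1, -, hdc⟩ := CfsgLib.OddOrder.RankTwoStable.exists_central (R := (⊤ : Subgroup S))
      (N := N) (hS.to_subgroup ⊤) le_top (by rw [Subgroup.normalizer_eq_top_iff.mpr hN])
      (fun e => by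
        rw [e, Subgroup.card_bot] at hc
        exact (Nat.one_lt_pow two_ne_zero hp.out.one_lt).ne hc)
    have hdZ : d ∈ Z := Subgroup.mem_center_iff.mpr fun g =>
      Subgroup.mem_centralizer_iff.mp hdc g (Subgroup.mem_top g)
    have h2 := Subgroup.card_mul_index ((Z ⊓ N).subgroupOf N)
    rw [Nat.card_congr (Subgroup.subgroupOfEquivOfLe inf_le_right).toEquiv, hc] at h2
    change _ * (Z ⊓ N).relIndex N = _ at h2
    rw [Subgroup.inf_relIndex_right] at h2
    have h3 : p ≤ Nat.card (Z ⊓ N : Subgroup S) := by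
      have hdvd : Nat.card (Z ⊓ N : Subgroup S) ∣ p := hz ▸ Subgroup.card_dvd_of_le inf_le_left
      rcases (Nat.dvd_prime hp.out).mp hdvd with h | h
      · exact absurd (Subgroup.mem_bot.mp (Subgroup.card_eq_one.mp h ▸ ⟨hdZ, hd⟩)) hd1
      · exact h.ge
    have h4 := (Nat.mul_le_mul_right (Z.relIndex N) h3).trans h2.le
    rw [pow_two] at h4
    exact Nat.le_of_mul_le_mul_left h4 hp.out.pos
  have hcen := central_of_small (hS.to_quotient Z) _ hsmall
  intro x hx
  rw [Subgroup.mem_upperCentralSeries_succ_iff]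
  intro g
  rw [Subgroup.upperCentralSeries_one]
  have h1 := Subgroup.mem_center_iff.mp (hcen ⟨x, hx, rfl⟩) (π g)
  rw [eq_comm, ← commutatorElement_eq_one_iff_mul_comm, ← map_commutatorElement,
    QuotientGroup.mk'_apply, QuotientGroup.eq_one_iff] at h1
  exact h1


/-- Let p be an odd prime and L a finite metacyclic p-group with no cyclic subgroup of index p, and let a be an automorphism of L of order p. Then a moves some element of order p of L if and only if p = 3 and the semidirect product L ⋊ ⟨a⟩ (of order 3·#L) has maximal class, i.e. nilpotency class m where #L = 3^m. -/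
theorem result {L : Type*} [Group L] [Finite L] {p : ℕ} [Fact p.Prime]
    (hp : p ≠ 2) (hL : IsPGroup p L) (hmc : Cfsg.IsMetacyclic L) (hnc : ∀ C : Subgroup L, IsCyclic C → C.index ≠ p)
    (a : MulAut L) (ha : orderOf a = p) (m : ℕ) (hm : Nat.card L = p ^ m) :
    (∃ x : L, orderOf x = p ∧ a x ≠ x) ↔
    (p = 3 ∧ Group.nilpotencyClass (SemidirectProduct L ↥(Subgroup.zpowers a) (Subgroup.zpowers a).subtype) = m) := by
  classical
  have hpp : p.Prime := Fact.out
  haveI hnt : Nontrivial L := by
    by_contra hn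
    rw [not_nontrivial_iff_subsingleton] at hn
    have : a = 1 := MulEquiv.ext fun x => Subsingleton.elim _ _
    rw [this, orderOf_one] at ha
    exact hpp.ne_one ha.symm
  obtain ⟨D⟩ := exists_layers hp hL hmc hnc hnt
  have hap : a ^ p = 1 := by rw [← ha, pow_orderOf_eq_one]
  obtain ⟨hfin, hcard⟩ := card_sdp a ha
  haveI := hfin
  rw [hm, ← pow_succ] at hcard
  have hm4 : 4 ≤ m := by
    have := Subgroup.card_le_card_group D.K
    rw [D.cardK, hm] at this
    exact (Nat.pow_le_pow_iff_right hpp.one_lt).mp this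
  constructor
  · rintro ⟨e, he, hne⟩
    obtain ⟨hp3, hF⟩ := moved hp hL D a hap ((D.memE e).mpr (he ▸ pow_orderOf_eq_one e)) hne
    refine ⟨hp3, ?_⟩
    set a' : Subgroup.zpowers a := ⟨a, Subgroup.mem_zpowers a⟩
    have hC : Nat.card (Subgroup.centralizer ({(SemidirectProduct.inr a' : (Sd a))} : Set (Sd a))) = p ^ 2 := by
      set F := a.toMonoidHom.eqLocus (MonoidHom.id L)
      have hza : ∀ g : Subgroup.zpowers a, g * a' = a' * g := fun g => by
        obtain ⟨i, hi⟩ := Subgroup.mem_zpowers_iff.mp g.2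
        apply Subtype.ext
        show (g : MulAut L) * a = a * g
        rw [← hi, ← zpow_add_one, ← zpow_one_add, add_comm]
      have hiff : ∀ s : (Sd a), s ∈ Subgroup.centralizer ({(SemidirectProduct.inr a' : (Sd a))} : Set (Sd a)) ↔
          s.left ∈ F := by
        intro s
        rw [Subgroup.mem_centralizer_singleton_iff]
        constructor
        · intro h
          have := congrArg SemidirectProduct.left h
          simp at this
          exact this.symm
        · intro h
          refine SemidirectProduct.ext ?_ ?_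
          · simp
            exact (show a s.left = s.left from h).symm
          · simpa using hza s.right
      let e : Subgroup.centralizer ({(SemidirectProduct.inr a' : (Sd a))} : Set (Sd a)) ≃
          F × Subgroup.zpowers a :=
        { toFun := fun s => (⟨(s : (Sd a)).left, (hiff s).mp s.2⟩, (s : (Sd a)).right)
          invFun := fun q => ⟨⟨q.1, q.2⟩, (hiff _).mpr q.1.2⟩
          left_inv := fun s => Subtype.ext (SemidirectProduct.ext rfl rfl)
          right_inv := fun q => rfl }
      rw [Nat.card_congr e, Nat.card_prod, hF, Nat.card_zpowers, ha, pow_two]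
    have := CfsgLib.PGroup.SmallCentralizer.class_eq hcard hC
    simpa using this
  · rintro ⟨hp3, hcl⟩
    by_contra hcon
    push Not at hcon
    have hfix : ∀ e ∈ D.E, a e = e := by
      intro e he
      by_cases he1 : e = 1
      · rw [he1, map_one]
      · exact hcon e (orderOf_eq_prime ((D.memE e).mp he) he1)
    have hS : IsPGroup p (Sd a) := IsPGroup.of_card hcard
    haveI := hS.isNilpotent
    have hlcs : (⊤ : Subgroup (Sd a)).lowerCentralSeries (m + 1 - 2) ≠ ⊥ := fun hb => by
      have := Subgroup.lowerCentralSeries_eq_bot_iff_nilpotencyClass_le.mp hb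
      rw [hcl] at this
      omega
    obtain ⟨hZ, hZ2⟩ := CfsgLib.Fsys.card_upperCentral_maxClass hS hcard (by omega) hlcs
    -- push into the semidirect product
    have hconj : ∀ (s : (Sd a)) (l : L), s * SemidirectProduct.inl l * s⁻¹ =
        SemidirectProduct.inl (s.left * ((s.right : MulAut L) l) * s.left⁻¹) := by
      intro s l
      apply SemidirectProduct.ext <;> simp [mul_assoc]
    have hchar : ∀ H : Subgroup L, (∀ f : MulAut L, ∀ x ∈ H, f x ∈ H) →
        (H.map (SemidirectProduct.inl : L →* (Sd a))).Normal := by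
      intro H hH
      refine ⟨fun x hx s => ?_⟩
      obtain ⟨l, hl, rfl⟩ := hx
      exact ⟨_, hH (MulAut.conj s.left) _ (hH (s.right : MulAut L) l hl), (hconj s l).symm⟩
    have hcmap : ∀ H : Subgroup L, Nat.card (H.map (SemidirectProduct.inl : L →* (Sd a))) = Nat.card H :=
      fun H => (Nat.card_congr (Subgroup.equivMapOfInjective H _
        SemidirectProduct.inl_injective).toEquiv).symm
    haveI hEn := hchar D.E fun f x hx => (D.memE _).mpr (by
      rw [← map_pow, (D.memE x).mp hx, map_one])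
    have hE2 : D.E.map (SemidirectProduct.inl : L →* (Sd a)) = Subgroup.upperCentralSeries (Sd a) 2 := by
      refine Subgroup.eq_of_le_of_card_ge (le_upperTwo hS hZ _ (by rw [hcmap, D.cardE])) ?_
      rw [hcmap, D.cardE, hZ2]
    -- the derived subgroup is small
    haveI hcy := commutator_cyclic hmc
    obtain ⟨d, hd⟩ := (Subgroup.isCyclic_iff_exists_zpowers_eq_top (commutator L)).mp hcy
    have hdinv : ∀ f : MulAut L, ∀ x ∈ commutator L, f x ∈ commutator L := fun f x hx => by
      have h := Subgroup.characteristic_iff_map_eq.mp (inferInstance : (commutator L).Characteristic) f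
      exact h ▸ Subgroup.mem_map_of_mem _ hx
    have hdp : d ^ p = 1 := by
      by_contra hdp
      obtain ⟨k, hk⟩ := IsPGroup.iff_orderOf.mp hL d
      have hk2 : 2 ≤ k := by
        by_contra hk2
        apply hdp
        rw [← orderOf_dvd_iff_pow_eq_one, hk]
        calc p ^ k ∣ p ^ 1 := pow_dvd_pow p (by omega)
          _ = p := pow_one p
      set q := p ^ (k - 2)
      have hoq : orderOf (d ^ q) = p ^ 2 := by
        rw [orderOf_pow, hk, Nat.gcd_eq_right (pow_dvd_pow p (by omega : k - 2 ≤ k)),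
          Nat.pow_div (by omega) hpp.pos, show k - (k - 2) = 2 by omega]
      haveI hNn := hchar (Subgroup.zpowers (d ^ q)) fun f x hx => by
        obtain ⟨i, rfl⟩ := Subgroup.mem_zpowers_iff.mp hx
        obtain ⟨j, hj⟩ := Subgroup.mem_zpowers_iff.mp
          (hd.ge (hdinv f d (hd.le (Subgroup.mem_zpowers d))))
        refine ⟨j * i, ?_⟩
        show (d ^ q) ^ (j * i) = _
        rw [map_zpow, map_pow, ← hj, ← zpow_natCast, ← zpow_natCast, ← zpow_mul, ← zpow_mul,
          ← zpow_mul]
        ring_nf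
      have hle := le_upperTwo hS hZ _ (by rw [hcmap, Nat.card_zpowers, hoq])
      rw [← hE2, Subgroup.map_le_map_iff_of_injective SemidirectProduct.inl_injective,
        Subgroup.zpowers_le, D.memE] at hle
      have := orderOf_dvd_iff_pow_eq_one.mpr hle
      rw [hoq] at this
      have h1 := Nat.le_of_dvd hpp.pos this
      have : 2 ≤ p := hpp.two_le
      nlinarith
    have hcomm : ∀ x y : L, ⁅x, y⁆ ^ p = 1 := by
      intro x y
      obtain ⟨i, hi⟩ := Subgroup.mem_zpowers_iff.mp (hd.ge
        (Subgroup.commutator_mem_commutator (Subgroup.mem_top x) (Subgroup.mem_top y)))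
      rw [← hi, ← zpow_natCast, ← zpow_mul, mul_comm, zpow_mul, zpow_natCast, hdp, one_zpow]
    have hcen : D.E.map (SemidirectProduct.inl : L →* (Sd a)) ≤ Subgroup.center (Sd a) := by
      rintro _ ⟨e, he, rfl⟩
      rw [Subgroup.mem_center_iff]
      intro s
      have hr : (s.right : MulAut L) e = e := by
        obtain ⟨i, hi⟩ := Subgroup.mem_zpowers_iff.mp s.right.2
        have hfix' : a ∈ MulAction.stabilizer (MulAut L) e := hfix e he
        have := zpow_mem hfix' i
        rw [hi] at this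
        exact this
      have hl : s.left * e * s.left⁻¹ = e := by
        obtain ⟨x, -, rfl⟩ := D.powE e he
        rw [← D.pow_comm x s.left (hcomm x s.left), mul_inv_cancel_right]
      have := hconj s e
      rw [hr, hl] at this
      exact mul_inv_eq_iff_eq_mul.mp this
    have := Subgroup.card_le_of_le hcen
    rw [hcmap, D.cardE, hZ] at this
    have h2 : 2 ≤ p := hpp.two_le
    nlinarith

end Cfsg.Agent.S4079
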