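import Cfsg.Statements.S4080
import Mathlib

set_option autoImplicit false
open Cfsg

namespace Cfsg.Agent.S4080

/-- Let p > 3 be a prime and L the direct product of two cyclic groups of order p². Every automorphism of L of order p fixes every element of order p of L. -/
theorem result {p : ℕ} [Fact p.Prime] (hp : 3 < p)
    (a : MulAut (Multiplicative (ZMod (p ^ 2) × ZMod (p ^ 2)))) (ha : orderOf a = p)
    (x : Multiplicative (ZMod (p ^ 2) × ZMod (p ^ 2))) (hx : orderOf x = p) : a x = x := by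
  classical
  have hpp : p.Prime := Fact.out
  have : NeZero (p ^ 2) := ⟨pow_ne_zero _ hpp.pos.ne'⟩
  obtain ⟨x, rfl⟩ := Multiplicative.ofAdd.surjective x
  let f : ZMod (p ^ 2) × ZMod (p ^ 2) →+ ZMod (p ^ 2) × ZMod (p ^ 2) :=
    { toFun := fun v => (a (Multiplicative.ofAdd v)).toAdd
      map_zero' := by simp
      map_add' := fun v w => by simp [ofAdd_add] }
  let L : Module.End (ZMod (p ^ 2)) (ZMod (p ^ 2) × ZMod (p ^ 2)) := f.toZModLinearMap (p ^ 2)
  have hL : ∀ v, L v = (a (Multiplicative.ofAdd v)).toAdd := fun v => rfl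
  have hpow : ∀ n v, (L ^ n) v = ((a ^ n) (Multiplicative.ofAdd v)).toAdd := by
    intro n
    induction n with
    | zero => intro v; simp
    | succ n ih =>
      intro v
      rw [pow_succ' L n, Module.End.mul_apply, ih, hL, pow_succ' a n]
      simp
  have hLp : L ^ p = 1 := by
    refine LinearMap.ext fun v => ?_
    have hap := pow_orderOf_eq_one a
    rw [ha] at hap
    rw [hpow, hap]
    simp
  -- pass to matrices
  let φ := LinearMap.toMatrixAlgEquiv (Module.Basis.finTwoProd (ZMod (p ^ 2)))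
  set N := φ L - 1 with hN
  have hNp : (1 + N) ^ p = 1 := by
    rw [hN, add_sub_cancel, ← map_pow, hLp, map_one]
  let π : ZMod (p ^ 2) →+* ZMod p := ZMod.castHom (dvd_pow_self p two_ne_zero) _
  have hker : ∀ r, π r = 0 → ∃ s, r = (p : ZMod (p ^ 2)) * s := by
    intro r hr
    rw [← ZMod.natCast_zmod_val r, map_natCast, ZMod.natCast_eq_zero_iff] at hr
    obtain ⟨s, hs⟩ := hr
    exact ⟨(s : ZMod (p ^ 2)), by rw [← Nat.cast_mul, ← hs, ZMod.natCast_zmod_val]⟩
  set Nb := π.mapMatrix N with hNb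
  have hNbp : Nb ^ p = 0 := by
    have h1 : (1 + Nb) ^ p = 1 := by
      rw [hNb, ← map_one (π.mapMatrix (m := Fin 2)), ← map_add, ← map_pow, hNp, map_one]
    rw [add_pow_char_of_commute _ (Commute.one_left _), one_pow] at h1
    simpa using h1
  have hnil : IsNilpotent Nb := ⟨p, hNbp⟩
  have hNb2 : Nb ^ 2 = 0 := by
    have htr : Nb.trace = 0 := (Matrix.isNilpotent_trace_of_isNilpotent hnil).eq_zero
    have hdet : Nb.det = 0 := by
      have h : Nb.det ^ p = 0 := by
        rw [← Matrix.det_pow, hNbp, Matrix.det_zero]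
      exact pow_eq_zero_iff hpp.pos.ne' |>.1 h
    rw [Matrix.trace_fin_two] at htr
    rw [Matrix.det_fin_two] at hdet
    ext i j
    fin_cases i <;> fin_cases j <;>
      simp only [pow_two, Matrix.mul_apply, Fin.sum_univ_two, Matrix.zero_apply, Fin.zero_eta,
        Fin.mk_one]
    · linear_combination (Nb 0 0) * htr - hdet
    · linear_combination (Nb 0 1) * htr
    · linear_combination (Nb 1 0) * htr
    · linear_combination (Nb 1 1) * htr - hdet
  obtain ⟨M, hM⟩ : ∃ M, N ^ 2 = (p : Matrix (Fin 2) (Fin 2) (ZMod (p ^ 2))) * M := by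
    have : ∀ i j, ∃ s, (N ^ 2) i j = (p : ZMod (p ^ 2)) * s := by
      intro i j
      refine hker _ ?_
      have := congrFun (congrFun hNb2 i) j
      rw [hNb, ← map_pow] at this
      simpa using this
    choose M hM using this
    refine ⟨Matrix.of M, ?_⟩
    ext i j
    rw [hM, ← Matrix.diagonal_natCast, Matrix.diagonal_mul, Matrix.of_apply]
  have hpp0 : (p : Matrix (Fin 2) (Fin 2) (ZMod (p ^ 2))) * (p : Matrix (Fin 2) (Fin 2) (ZMod (p ^ 2))) = 0 := by
    rw [← pow_two, ← Nat.cast_pow, ← map_natCast (algebraMap (ZMod (p ^ 2)) _), ZMod.natCast_self,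
      map_zero]
  have hN4 : N ^ 4 = 0 := by
    rw [show (4 : ℕ) = 2 + 2 from rfl, pow_add, hM,
      show (p : Matrix (Fin 2) (Fin 2) (ZMod (p ^ 2))) * M * ((p : Matrix (Fin 2) (Fin 2) (ZMod (p ^ 2))) * M) =
        (p : Matrix (Fin 2) (Fin 2) (ZMod (p ^ 2))) * (p : Matrix (Fin 2) (Fin 2) (ZMod (p ^ 2))) * (M * M) by
        rw [mul_assoc, ← mul_assoc M, ← (Nat.cast_commute p M).eq]; simp only [mul_assoc]]
    rw [hpp0, zero_mul]
  have hpN : (p : Matrix (Fin 2) (Fin 2) (ZMod (p ^ 2))) * N = 0 := by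
    rw [add_comm, (Commute.one_right N).add_pow, Finset.sum_eq_add_of_mem 0 1
      (Finset.mem_range.2 (by omega)) (Finset.mem_range.2 (by omega)) zero_ne_one] at hNp
    · simpa [Nat.choose_one_right, ← (Nat.cast_commute p N).eq] using hNp
    · rintro j hj ⟨h0, h1⟩
      rw [one_pow, mul_one]
      by_cases h4 : 4 ≤ j
      · rw [pow_eq_zero_of_le h4 hN4, zero_mul]
      · obtain ⟨c, hc⟩ := hpp.dvd_choose_self h0 (show j < p by omega)
        rw [hc, Nat.cast_mul, ← Nat.add_sub_cancel' (show 2 ≤ j by omega), pow_add, hM, ← mul_assoc,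
          ← (Nat.cast_commute p _).eq]
        simp only [← mul_assoc]
        rw [hpp0, zero_mul, zero_mul, zero_mul]
  have hpL : (p : Module.End (ZMod (p ^ 2)) (ZMod (p ^ 2) × ZMod (p ^ 2))) * (L - 1) = 0 := by
    apply φ.injective
    rw [map_mul, map_natCast, map_sub, map_one, map_zero]
    exact hpN
  have hx1 : p • x = 0 := by
    have := pow_orderOf_eq_one (Multiplicative.ofAdd x)
    rw [hx, ← ofAdd_nsmul] at this
    simpa using this
  have hdiv : ∀ u : ZMod (p ^ 2), (p : ZMod (p ^ 2)) * u = 0 → ∃ w, u = (p : ZMod (p ^ 2)) * w := by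
    intro u hu
    refine hker u ?_
    rw [← ZMod.natCast_zmod_val u, map_natCast, ZMod.natCast_eq_zero_iff]
    rw [← ZMod.natCast_zmod_val u, ← Nat.cast_mul, ZMod.natCast_eq_zero_iff] at hu
    replace hu : p * p ∣ p * u.val := pow_two p ▸ hu
    exact Nat.dvd_of_mul_dvd_mul_left hpp.pos hu
  obtain ⟨w₁, hw₁⟩ := hdiv x.1 (by simpa [nsmul_eq_mul] using congrArg Prod.fst hx1)
  obtain ⟨w₂, hw₂⟩ := hdiv x.2 (by simpa [nsmul_eq_mul] using congrArg Prod.snd hx1)
  have hxy : x = p • (w₁, w₂) := by ext <;> simp [hw₁, hw₂]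
  have h0 : (L - 1) x = 0 := by
    rw [hxy, map_nsmul]
    have := LinearMap.congr_fun hpL (w₁, w₂)
    simpa [← nsmul_eq_mul] using this
  rw [LinearMap.sub_apply, Module.End.one_apply, sub_eq_zero, hL] at h0
  exact congrArg Multiplicative.ofAdd h0

end Cfsg.Agent.S4080
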