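import Cfsg.Statements.S4081
import Cfsg.Agent.S0144
import Mathlib

set_option autoImplicit false
open Cfsg

namespace Cfsg.Agent.S4081

theorem zero_notMem_Ico {k q : ℕ} (hk : k ∈ Finset.Ico 1 q) : ¬ q ∣ k := fun h => by
  obtain ⟨h1, h2⟩ := Finset.mem_Ico.1 hk
  exact absurd (Nat.le_of_dvd h1 h) (by omega)

/-- A copy of `V` carrying the module structure given by a homomorphism into its endomorphisms. -/
def Tw {K V : Type*} [Semiring K] [AddCommGroup V] (_φ : K →+* AddMonoid.End V) : Type _ := V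

noncomputable instance instAddCommGroupTw {K V : Type*} [Semiring K] [inst : AddCommGroup V]
    (φ : K →+* AddMonoid.End V) : AddCommGroup (Tw φ) := inst

noncomputable instance instModuleTw {K V : Type*} [Semiring K] [AddCommGroup V]
    (φ : K →+* AddMonoid.End V) : Module K (Tw φ) := Module.compHom V φ

theorem exists_linearEquiv_map {K W₁ W₂ : Type*} [Field K] [Finite K] [AddCommGroup W₁]
    [Module K W₁] [Finite W₁] [AddCommGroup W₂] [Module K W₂] [Finite W₂]
    (hcard : Nat.card W₁ = Nat.card W₂) {y : W₁} (hy : y ≠ 0) {y' : W₂} (hy' : y' ≠ 0) :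
    ∃ L : W₁ ≃ₗ[K] W₂, L y = y' := by
  classical
  have h1 := LinearIndepOn.singleton (R := K) (v := (id : W₁ → W₁)) (i := y) hy
  have h2 := LinearIndepOn.singleton (R := K) (v := (id : W₂ → W₂)) (i := y') hy'
  let b₁ := Module.Basis.extend h1
  let b₂ := Module.Basis.extend h2
  have := Fintype.ofFinite K
  have := Fintype.ofFinite W₁
  have := Fintype.ofFinite W₂
  have := Module.Finite.of_finite (R := K) (M := W₁)
  have := Module.Finite.of_finite (R := K) (M := W₂)
  have := Fintype.ofFinite (h1.extend (Set.subset_univ _))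
  have := Fintype.ofFinite (h2.extend (Set.subset_univ _))
  have hfr : Module.finrank K W₁ = Module.finrank K W₂ := by
    have e1 := Module.card_eq_pow_finrank (K := K) (V := W₁)
    have e2 := Module.card_eq_pow_finrank (K := K) (V := W₂)
    rw [← Nat.card_eq_fintype_card] at e1 e2
    rw [hcard, e2] at e1
    exact (Nat.pow_right_injective Fintype.one_lt_card e1).symm
  have hc : Fintype.card (h1.extend (Set.subset_univ _)) = Fintype.card (h2.extend (Set.subset_univ _)) := by
    rw [← Module.finrank_eq_card_basis b₁, ← Module.finrank_eq_card_basis b₂, hfr]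
  let i₁ : h1.extend (Set.subset_univ _) := ⟨y, h1.subset_extend _ rfl⟩
  let i₂ : h2.extend (Set.subset_univ _) := ⟨y', h2.subset_extend _ rfl⟩
  let e := (Fintype.equivOfCardEq hc).trans (Equiv.swap (Fintype.equivOfCardEq hc i₁) i₂)
  refine ⟨b₁.equiv b₂ e, ?_⟩
  have e1 : b₁ i₁ = y := by rw [Module.Basis.extend_apply_self]
  have e2 : b₂ i₂ = y' := by rw [Module.Basis.extend_apply_self]
  have ee : e i₁ = i₂ := Equiv.swap_apply_left _ _
  calc b₁.equiv b₂ e y = b₁.equiv b₂ e (b₁ i₁) := by rw [e1]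
    _ = y' := by rw [Module.Basis.equiv_apply, ee, e2]

/-- Intertwiner between two actions of a finite field on the same additive group. -/
theorem exists_intertwine {K V : Type*} [Field K] [Finite K] [AddCommGroup V] [Finite V]
    (φ ψ : K →+* AddMonoid.End V) {y y' : V} (hy : y ≠ 0) (hy' : y' ≠ 0) :
    ∃ L : V ≃+ V, (∀ (a : K) (v : V), L (φ a v) = ψ a (L v)) ∧ L y = y' := by
  have : Finite (Tw φ) := ‹Finite V›
  have : Finite (Tw ψ) := ‹Finite V›
  obtain ⟨L, hL⟩ := exists_linearEquiv_map (K := K) (W₁ := Tw φ) (W₂ := Tw ψ) rfl hy hy'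
  exact ⟨L.toAddEquiv, fun a v => L.map_smul a v, hL⟩

/-- The data shared by both directions: a normal elementary abelian subgroup `P`, complemented by
the powers of `x` of order `q`, on which the elements of order `q` act without fixed points. -/
structure Setup (G : Type*) [Group G] (p q : ℕ) (P : Subgroup G) (x : G) : Prop where
  hp : p.Prime
  hq : q.Prime
  hne : p ≠ q
  normal : P.Normal
  comm : IsMulCommutative P
  exp : ∀ y ∈ P, y ^ p = 1
  ord : orderOf x = q
  compl : Subgroup.IsComplement' P (Subgroup.zpowers x)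
  fpf : ∀ g : G, orderOf g = q → ∀ y ∈ P, g * y * g⁻¹ = y → y = 1

namespace Setup

variable {G : Type*} [Group G] [Finite G] {p q : ℕ} {P : Subgroup G} {x : G}

theorem orderOf_pow (S : Setup G p q P x) {k : ℕ} (hk : ¬ q ∣ k) : orderOf (x ^ k) = q := by
  rw [Nat.Coprime.orderOf_pow, S.ord]
  rw [S.ord]
  exact S.hq.coprime_iff_not_dvd.2 hk

/-- Every element outside `P` is conjugate, by an element of `P`, to a power of `x`. -/
theorem exists_conj (S : Setup G p q P x) {g : G} (hg : g ∉ P) :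
    ∃ w ∈ P, ∃ k : ℕ, ¬ q ∣ k ∧ w * x ^ k * w⁻¹ = g := by
  obtain ⟨⟨⟨v, hv⟩, ⟨h, hh⟩⟩, hvh⟩ := S.compl.surjective g
  obtain ⟨k, rfl⟩ : ∃ k : ℕ, x ^ k = h := mem_powers_iff_mem_zpowers.2 hh
  change v * x ^ k = g at hvh
  have hk : ¬ q ∣ k := by
    intro hd
    apply hg
    rw [← hvh, show x ^ k = 1 from orderOf_dvd_iff_pow_eq_one.1 (S.ord ▸ hd), mul_one]
    exact hv
  have := S.normal
  have hmem : ∀ w ∈ P, w * x ^ k * w⁻¹ * (x ^ k)⁻¹ ∈ P := fun w hw => by
    rw [show w * x ^ k * w⁻¹ * (x ^ k)⁻¹ = w * (x ^ k * w⁻¹ * (x ^ k)⁻¹) by group]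
    exact P.mul_mem hw (S.normal.conj_mem _ (P.inv_mem hw) _)
  let f : P → P := fun w => ⟨w * x ^ k * (w : G)⁻¹ * (x ^ k)⁻¹, hmem w w.2⟩
  have hf : Function.Injective f := by
    intro a b hab
    have e : (a : G) * x ^ k * (a : G)⁻¹ = b * x ^ k * (b : G)⁻¹ := mul_right_cancel (congrArg Subtype.val hab)
    have h1 : (x ^ k) * ((b : G)⁻¹ * a) * (x ^ k)⁻¹ = (b : G)⁻¹ * a := by
      calc (x ^ k) * ((b : G)⁻¹ * a) * (x ^ k)⁻¹
          = (b : G)⁻¹ * ((b : G) * x ^ k * (b : G)⁻¹) * a * (x ^ k)⁻¹ := by group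
        _ = (b : G)⁻¹ * a := by rw [← e]; group
    have h2 := S.fpf _ (S.orderOf_pow hk) _ (P.mul_mem (P.inv_mem b.2) a.2) h1
    exact (Subtype.ext (inv_mul_eq_one.1 h2) : b = a).symm
  obtain ⟨⟨w, hw⟩, hfw⟩ := (Finite.injective_iff_surjective.1 hf) ⟨v, hv⟩
  refine ⟨w, hw, k, hk, ?_⟩
  have e : w * x ^ k * w⁻¹ * (x ^ k)⁻¹ = v := congrArg Subtype.val hfw
  rw [← hvh, ← e]; group

theorem orderOf_eq_p (S : Setup G p q P x) {g : G} (hg : g ∈ P) (h1 : g ≠ 1) : orderOf g = p :=
  have := Fact.mk S.hp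
  orderOf_eq_prime (S.exp g hg) h1

theorem orderOf_eq_q (S : Setup G p q P x) {g : G} (hg : g ∉ P) : orderOf g = q := by
  obtain ⟨w, -, k, hk, rfl⟩ := S.exists_conj hg
  rw [show w * x ^ k * w⁻¹ = MulAut.conj w (x ^ k) from rfl, MulEquiv.orderOf_eq, S.orderOf_pow hk]

theorem mem_of_orderOf_eq_p (S : Setup G p q P x) {g : G} (hg : orderOf g = p) : g ∈ P := by
  by_contra h
  exact S.hne (hg.symm.trans (S.orderOf_eq_q h))

theorem x_notMem (S : Setup G p q P x) : x ∉ P := by
  intro h
  rcases eq_or_ne x 1 with h1 | h1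
  · exact S.hq.one_lt.ne (by rw [← S.ord, h1, orderOf_one])
  · exact S.hne ((S.orderOf_eq_p h h1).symm.trans S.ord)

/-- Build an automorphism from a compatible automorphism of `P`. -/
theorem exists_aut (S : Setup G p q P x) {k : ℕ} (hk : ¬ q ∣ k) (L : P ≃* P)
    (hL : ∀ (y z : P), x * y * x⁻¹ = z → x ^ k * (L y : G) * (x ^ k)⁻¹ = L z) :
    ∃ α : MulAut G, (∀ y : P, α y = L y) ∧ α x = x ^ k := by
  have := S.normal
  set H := Subgroup.zpowers x
  have hcomm : ∀ a b : H, a * b = b * a := fun a b => by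
    obtain ⟨i, hi⟩ := a.2
    obtain ⟨j, hj⟩ := b.2
    exact Subtype.ext (by rw [Subgroup.coe_mul, Subgroup.coe_mul, ← hi, ← hj]; exact zpow_mul_comm x i j)
  let fk : H →* H := MonoidHom.mk' (fun h => h ^ k) (fun a b => Commute.mul_pow (hcomm a b) k)
  have hfk : Function.Bijective fk := by
    have hcard : Nat.card H = q := by rw [Nat.card_zpowers, S.ord]
    exact (powCoprime (G := H) (n := k) (by rw [hcard]; exact S.hq.coprime_iff_not_dvd.2 hk)).bijective
  let fg : H ≃* H := MulEquiv.ofBijective fk hfk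
  let e := SemidirectProduct.mulEquivSubgroup S.compl
  have hconj : ∀ (i : ℕ) (y z : P), x ^ i * y * (x ^ i)⁻¹ = z →
      (x ^ k) ^ i * (L y : G) * ((x ^ k) ^ i)⁻¹ = L z := by
    intro i
    induction i with
    | zero =>
      intro y z h
      have : y = z := Subtype.ext (by simpa using h)
      simp [this]
    | succ i ih =>
      intro y z h
      let w : P := ⟨x * y * x⁻¹, S.normal.conj_mem _ y.2 x⟩
      have h1 := hL y w rfl
      have h2 : x ^ i * w * (x ^ i)⁻¹ = z := by
        rw [← h, pow_succ]; show x ^ i * (x * y * x⁻¹) * (x ^ i)⁻¹ = _; group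
      rw [← ih w z h2, ← h1, pow_succ]; group
  have hcompat : ∀ g : H, ((P.normalizerMonoidHom.comp (Subgroup.inclusion (P.normalizer_eq_top ▸ le_top))) g).trans L =
      L.trans ((P.normalizerMonoidHom.comp (Subgroup.inclusion (P.normalizer_eq_top ▸ le_top))) (fg g)) := by
    intro g
    obtain ⟨i, hi⟩ : ∃ i : ℕ, x ^ i = (g : G) := mem_powers_iff_mem_zpowers.2 g.2
    refine MulEquiv.ext fun y => Subtype.ext ?_
    let z : P := ⟨(g : G) * y * (g : G)⁻¹, S.normal.conj_mem _ y.2 _⟩
    show (L z : G) = ((g ^ k : H) : G) * (L y : G) * ((g ^ k : H) : G)⁻¹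
    rw [← hconj i y z (by rw [hi]), SubmonoidClass.coe_pow, ← hi, ← pow_mul, ← pow_mul, mul_comm i k]
  refine ⟨e.symm.trans ((SemidirectProduct.congr L fg hcompat).trans e), ?_, ?_⟩
  · intro y
    have h1 : e ⟨y, 1⟩ = (y : G) := by
      show (y : G) * ((1 : H) : G) = y
      simp
    rw [MulEquiv.trans_apply, MulEquiv.trans_apply, ← h1, MulEquiv.symm_apply_apply]
    show (L y : G) * ((fg 1 : H) : G) = L y
    simp
  · have h1 : e ⟨1, ⟨x, Subgroup.mem_zpowers x⟩⟩ = x := one_mul x
    have key : (e.symm.trans ((SemidirectProduct.congr L fg hcompat).trans e))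
        (e ⟨1, ⟨x, Subgroup.mem_zpowers x⟩⟩) = x ^ k := by
      rw [MulEquiv.trans_apply, MulEquiv.trans_apply, MulEquiv.symm_apply_apply]
      show ((L 1 : P) : G) * x ^ k = x ^ k
      simp
    rw [h1] at key
    exact key

open scoped IsMulCommutative

variable [P.Normal] [IsMulCommutative P]

/-- Conjugation as endomorphisms of the additive group of `P`. -/
noncomputable def act (P : Subgroup G) [P.Normal] [IsMulCommutative P] : G →* AddMonoid.End (Additive P) where
  toFun g :=
    { toFun := fun v => Additive.ofMul ((MulAut.conjNormal g : MulAut P) v.toMul)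
      map_zero' := by simp
      map_add' := fun v w => by simp [map_mul] }
  map_one' := AddMonoidHom.ext fun v => by
    show Additive.ofMul ((MulAut.conjNormal (1 : G) : MulAut P) v.toMul) = v
    rw [map_one]; rfl
  map_mul' g h := AddMonoidHom.ext fun v => by
    show Additive.ofMul ((MulAut.conjNormal (g * h) : MulAut P) v.toMul) =
      Additive.ofMul ((MulAut.conjNormal g : MulAut P) ((MulAut.conjNormal h : MulAut P) v.toMul))
    rw [map_mul]; rfl

theorem act_apply (g : G) (v : Additive P) :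
    ((act P g v).toMul : G) = g * (v.toMul : G) * g⁻¹ := rfl

theorem sum_pow_eq_zero (S : Setup G p q P x) {g : G} (hg : orderOf g = q) :
    ∑ i ∈ Finset.range q, act P g ^ i = 0 := by
  set w := ∑ i ∈ Finset.range q, act P g ^ i
  have h1 : act P g * w = w := by
    have h2 := mul_geom_sum (act P g) q
    rw [← map_pow, show g ^ q = 1 by rw [← hg]; exact pow_orderOf_eq_one g, map_one, sub_self, sub_mul,
      one_mul, sub_eq_zero] at h2
    exact h2
  refine DFunLike.ext _ _ fun v => ?_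
  have h3 : act P g (w v) = w v := DFunLike.congr_fun h1 v
  have h4 := S.fpf g hg ((w v).toMul : G) (w v).toMul.2
    (by rw [← act_apply, h3])
  show w v = 0
  rw [← toMul_eq_one]
  exact Subtype.ext h4

theorem exp_zero (S : Setup G p q P x) : (p : AddMonoid.End (Additive P)) = 0 := by
  refine DFunLike.ext _ _ fun v => ?_
  rw [← nsmul_one]
  show p • v = 0
  rw [← toMul_eq_one, toMul_nsmul]
  exact Subtype.ext (S.exp _ v.toMul.2)

end Setup

open scoped IsMulCommutative

theorem geom_sum_act_eq_zero {G : Type*} [Group G] [Finite G] {P : Subgroup G} [P.Normal]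
    [IsMulCommutative P] {q : ℕ} {g : G} (hg : g ^ q = 1)
    (hfix : ∀ y ∈ P, g * y * g⁻¹ = y → y = 1) :
    ∑ i ∈ Finset.range q, Setup.act P g ^ i = 0 := by
  set w := ∑ i ∈ Finset.range q, Setup.act P g ^ i
  have h1 : Setup.act P g * w = w := by
    have h2 := mul_geom_sum (Setup.act P g) q
    rw [← map_pow, hg, map_one, sub_self, sub_mul, one_mul, sub_eq_zero] at h2
    exact h2
  refine DFunLike.ext _ _ fun v => ?_
  have h3 : Setup.act P g (w v) = w v := DFunLike.congr_fun h1 v
  have h4 := hfix ((w v).toMul : G) (w v).toMul.2 (by rw [← Setup.act_apply, h3])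
  show w v = 0
  rw [← toMul_eq_one]
  exact Subtype.ext h4

/-- An elementary abelian group of order `q²` cannot act without fixed points. -/
theorem not_fpf_of_two_gens {G : Type*} [Group G] [Finite G] {P : Subgroup G} [P.Normal]
    [IsMulCommutative P] {q : ℕ} (hq : q.Prime) {z w : G} (hzw : Commute z w) (hz : z ^ q = 1)
    (hw : w ^ q = 1) (hfz : ∀ y ∈ P, z * y * z⁻¹ = y → y = 1)
    (hfw : ∀ j : ℕ, ∀ y ∈ P, (z ^ j * w) * y * (z ^ j * w)⁻¹ = y → y = 1)
    {y : G} (hy : y ∈ P) : y ^ q = 1 := by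
  let X := Setup.act P z
  let Y := Setup.act P w
  have hX : ∑ i ∈ Finset.range q, X ^ i = 0 := geom_sum_act_eq_zero hz hfz
  have hXY : ∀ j, ∑ i ∈ Finset.range q, X ^ (j * i) * Y ^ i = 0 := by
    intro j
    have hzw' : Commute (z ^ j) w := hzw.pow_left j
    have h := geom_sum_act_eq_zero (P := P) (q := q) (g := z ^ j * w)
      (by rw [hzw'.mul_pow, ← pow_mul, mul_comm j, pow_mul, hz, hw, one_pow, one_mul]) (hfw j)
    rw [← h]
    refine Finset.sum_congr rfl fun i _ => ?_
    rw [map_mul, map_pow, (show Commute (X ^ j) Y from ((hzw.map (Setup.act P)).pow_left j)).mul_pow,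
      ← pow_mul]
  have h0 : ∑ j ∈ Finset.range q, ∑ i ∈ Finset.range q, X ^ (j * i) * Y ^ i = 0 :=
    Finset.sum_eq_zero fun j _ => hXY j
  rw [Finset.sum_comm, Finset.sum_eq_single_of_mem 0 (Finset.mem_range.2 hq.pos)] at h0
  · simp only [mul_zero, pow_zero, mul_one, Finset.sum_const, Finset.card_range] at h0
    have h1 := DFunLike.congr_fun h0 (Additive.ofMul (⟨y, hy⟩ : P))
    change q • Additive.ofMul (⟨y, hy⟩ : P) = 0 at h1
    rw [← ofMul_pow, ofMul_eq_zero] at h1
    exact congrArg Subtype.val h1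
  · intro i hi hi0
    rw [← Finset.sum_mul]
    convert zero_mul (Y ^ i) using 2
    rw [← hX]
    have hco : Nat.Coprime q i := hq.coprime_iff_not_dvd.2 fun hd =>
      absurd (Nat.le_of_dvd (Nat.pos_of_ne_zero hi0) hd) (not_le.2 (Finset.mem_range.1 hi))
    have hXq : X ^ q = 1 := by rw [← map_pow, hz, map_one]
    have hmod : ∀ j, X ^ (j * i) = X ^ ((j * i) % q) := fun j => by
      conv_lhs => rw [← Nat.div_add_mod (j * i) q, pow_add, pow_mul, hXq, one_pow, one_mul]
    simp only [hmod]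
    refine Finset.sum_nbij (fun j => (j * i) % q) (fun j _ => Finset.mem_range.2 (Nat.mod_lt _ hq.pos))
      ?_ ?_ (fun j _ => rfl)
    · intro a ha b hb hab
      have h2 : a ≡ b [MOD q] := Nat.ModEq.cancel_right_of_coprime (c := i) (by simpa using hco) hab
      exact h2.eq_of_lt_of_lt (Finset.mem_range.1 ha) (Finset.mem_range.1 hb)
    · exact Finset.surjOn_of_injOn_of_card_le _ (fun j _ => Finset.mem_range.2 (Nat.mod_lt _ hq.pos))
        (fun a ha b hb hab => (Nat.ModEq.cancel_right_of_coprime (c := i) (by simpa using hco) hab).eq_of_lt_of_lt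
          (Finset.mem_range.1 ha) (Finset.mem_range.1 hb)) le_rfl

theorem orders_three {G : Type*} [Group G] [Finite G] {a b : ℕ} (hab : a ≠ b) (ha1 : a ≠ 1) (hb1 : b ≠ 1)
    {ga gb : G} (hga : orderOf ga = a) (hgb : orderOf gb = b)
    (h3 : Nat.card (MulAction.orbitRel.Quotient (MulAut G) G) = 3) :
    (∀ g : G, orderOf g = 1 ∨ orderOf g = a ∨ orderOf g = b) ∧
    ∀ g g' : G, orderOf g = orderOf g' → ∃ α : MulAut G, α g = g' := by
  let m : G → MulAction.orbitRel.Quotient (MulAut G) G := Quotient.mk''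
  have hord : ∀ g g', m g = m g' → orderOf g = orderOf g' := by
    intro g g' h
    obtain ⟨α, hα⟩ := MulAction.orbitRel_apply.1 (Quotient.exact' h)
    rw [← hα]
    exact MulEquiv.orderOf_eq α g'
  let pick : Fin 3 → G := ![1, ga, gb]
  have hinj : Function.Injective (m ∘ pick) := by
    intro i j h
    have h' := hord _ _ h
    fin_cases i <;> fin_cases j <;> simp_all [pick, eq_comm]
  have hb := (Nat.bijective_iff_injective_and_card (m ∘ pick)).2 ⟨hinj, by simp [h3]⟩
  have hex : ∀ g, ∃ i, m (pick i) = m g := fun g => hb.2 (m g)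
  refine ⟨fun g => ?_, fun g g' he => ?_⟩
  · obtain ⟨i, hi⟩ := hex g
    have := hord _ _ hi
    fin_cases i <;> simp_all [pick]
  · obtain ⟨i, hi⟩ := hex g
    obtain ⟨j, hj⟩ := hex g'
    have h' : orderOf (pick i) = orderOf (pick j) := by rw [hord _ _ hi, hord _ _ hj, he]
    have : i = j := by
      fin_cases i <;> fin_cases j <;> simp_all [pick, eq_comm]
    subst this
    obtain ⟨α, hα⟩ := MulAction.orbitRel_apply.1 (Quotient.exact' (hj.symm.trans hi))
    exact ⟨α, hα⟩

open scoped IsMulCommutative in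
/-- Transitivity of automorphisms on both kinds of elements forces `p` to be a primitive root. -/
theorem primitive_root {G : Type*} [Group G] [Finite G] {p q : ℕ} {P : Subgroup G} {x : G}
    (S : Setup G p q P x) [P.Normal] [IsMulCommutative P] (hne : P ≠ ⊥)
    (htrans : ∀ g g' : G, orderOf g = orderOf g' → ∃ α : MulAut G, α g = g') :
    orderOf (p : ZMod q) = q - 1 := by
  classical
  have := Fact.mk S.hp
  have := Fact.mk S.hq
  set V := Additive P
  set R := AddMonoid.End V
  set X : R := Setup.act P x with hXdef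
  let A : Subring R := Subring.closure {X}
  have hXA : X ∈ A := Subring.subset_closure rfl
  have hpow : ∀ k, Setup.act P (x ^ k) ∈ A := fun k => by rw [map_pow]; exact A.pow_mem hXA k
  -- every automorphism induces a semilinear map
  have hsemi : ∀ α : MulAut G, ∃ (k : ℕ) (L : V ≃+ V), (∀ v, L (X v) = Setup.act P (x ^ k) (L v)) ∧
      (∀ v, ((L v).toMul : G) = α (v.toMul : G)) ∧ (∀ j, α x = x ^ j → Setup.act P (x ^ k) = Setup.act P (x ^ j)) := by
    intro α
    have hmaps : ∀ β : MulAut G, ∀ y ∈ P, β y ∈ P := by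
      intro β y hy
      rcases eq_or_ne y 1 with rfl | h1
      · rw [map_one]; exact P.one_mem
      · exact S.mem_of_orderOf_eq_p (by rw [MulEquiv.orderOf_eq, S.orderOf_eq_p hy h1])
    let L : V ≃+ V :=
      { toFun := fun v => Additive.ofMul ⟨α (v.toMul : G), hmaps α _ v.toMul.2⟩
        invFun := fun v => Additive.ofMul ⟨α⁻¹ (v.toMul : G), hmaps α⁻¹ _ v.toMul.2⟩
        left_inv := fun v => by apply Additive.toMul.injective; apply Subtype.ext; exact α.symm_apply_apply _
        right_inv := fun v => by apply Additive.toMul.injective; apply Subtype.ext; exact α.apply_symm_apply _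
        map_add' := fun v w => by apply Additive.toMul.injective; apply Subtype.ext; exact map_mul α _ _ }
    have hαx : α x ∉ P := by
      intro h
      have := hmaps α⁻¹ _ h
      rw [MulAut.inv_apply, MulEquiv.symm_apply_apply] at this
      exact S.x_notMem this
    obtain ⟨w, hw, k, -, hwk⟩ := S.exists_conj hαx
    have hact : ∀ c : G, c ∈ P → Setup.act P c = 1 := by
      intro c hc
      refine AddMonoidHom.ext fun v => ?_
      apply Additive.toMul.injective
      apply Subtype.ext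
      show c * (v.toMul : G) * c⁻¹ = v.toMul
      rw [show c * (v.toMul : G) = v.toMul * c from congrArg Subtype.val
        (mul_comm (⟨c, hc⟩ : P) v.toMul), mul_inv_cancel_right]
    have he : Setup.act P (α x) = Setup.act P (x ^ k) := by
      rw [← hwk, map_mul, map_mul, hact w hw, hact _ (P.inv_mem hw), one_mul, mul_one]
    refine ⟨k, L, fun v => ?_, fun v => rfl, fun j hj => by rw [← he, hj]⟩
    rw [← he]
    apply Additive.toMul.injective
    apply Subtype.ext
    show α (x * (v.toMul : G) * x⁻¹) = α x * α (v.toMul : G) * (α x)⁻¹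
    rw [map_mul, map_mul, map_inv]
  -- conjugation by such a map preserves `A`
  have hconj : ∀ (k : ℕ) (L : V ≃+ V), (∀ v, L (X v) = Setup.act P (x ^ k) (L v)) →
      ∃ c : A →+* A, (∀ (a : A) v, L ((a : R) v) = (c a : R) (L v)) ∧ (c ⟨X, hXA⟩ : R) = Setup.act P (x ^ k) := by
    intro k L hL
    let c : R →+* R :=
      { toFun := fun a => (L.toAddMonoidHom.comp a).comp L.symm.toAddMonoidHom
        map_one' := AddMonoidHom.ext fun v => L.apply_symm_apply v
        map_mul' := fun a b => AddMonoidHom.ext fun v => by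
          show L (a (b (L.symm v))) = L (a (L.symm (L (b (L.symm v)))))
          rw [L.symm_apply_apply]
        map_zero' := AddMonoidHom.ext fun v => map_zero L
        map_add' := fun a b => AddMonoidHom.ext fun v => map_add L (a (L.symm v)) (b (L.symm v)) }
    have hcX : c X = Setup.act P (x ^ k) := AddMonoidHom.ext fun v => by
      show L (X (L.symm v)) = Setup.act P (x ^ k) v
      rw [hL, L.apply_symm_apply]
    have hle : A ≤ A.comap c := Subring.closure_le.2 (by
      rintro _ rfl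
      show c X ∈ A
      rw [hcX]; exact hpow k)
    refine ⟨c.restrict A A hle, fun a v => ?_, hcX⟩
    show L ((a : R) v) = L ((a : R) (L.symm (L v)))
    rw [L.symm_apply_apply]
  -- all cyclic submodules have the same size, so there are no zero divisors
  let C : V → Set V := fun v => Set.range fun a : A => (a : R) v
  have hmem : ∀ v, v ∈ C v := fun v => ⟨1, rfl⟩
  have hCeq : ∀ v z, v ≠ 0 → z ≠ 0 → z ∈ C v → C z = C v := by
    intro v z hv hz hzv
    have hle : ∀ u u' : V, u ≠ 0 → u' ≠ 0 → (C u).ncard ≤ (C u').ncard := by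
      intro u u' hu hu'
      have ho : ∀ u : V, u ≠ 0 → orderOf (u.toMul : G) = p := fun u hu =>
        S.orderOf_eq_p u.toMul.2 fun e => hu (toMul_eq_one.1 (Subtype.ext e))
      obtain ⟨α, hα⟩ := htrans (u.toMul : G) (u'.toMul : G) (by rw [ho u hu, ho u' hu'])
      obtain ⟨k, L, hL, hLα, -⟩ := hsemi α
      have hLu : L u = u' := Additive.toMul.injective (Subtype.ext ((hLα u).trans hα))
      obtain ⟨c, hc, -⟩ := hconj k L hL
      refine Set.ncard_le_ncard_of_injOn L ?_ L.injective.injOn (Set.toFinite _)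
      rintro _ ⟨a, rfl⟩
      exact ⟨c a, by rw [hc, hLu]⟩
    refine Set.eq_of_subset_of_ncard_le ?_ (hle v z hv hz) (Set.toFinite _)
    obtain ⟨b, rfl⟩ := hzv
    rintro _ ⟨a, rfl⟩
    exact ⟨a * b, rfl⟩
  let icr : CommRing A := Subring.closureCommRingOfComm (by rintro _ rfl _ rfl; rfl)
  have hann : ∀ (a : A) (v : V), v ≠ 0 → (a : R) v = 0 → a = 0 := by
    intro a v hv hav
    apply Subtype.ext
    refine AddMonoidHom.ext fun w => ?_
    show (a : R) w = 0
    by_contra hw
    have hw0 : w ≠ 0 := fun e => hw (by rw [e, map_zero])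
    by_cases hwv : w ∈ C v
    · obtain ⟨b, rfl⟩ := hwv
      apply hw
      show ((a * b : A) : R) v = 0
      rw [mul_comm a b]
      show (b : R) ((a : R) v) = 0
      rw [hav, map_zero]
    · have h3 : v + w ≠ 0 := by
        intro e
        apply hwv
        refine ⟨-1, ?_⟩
        show ((-1 : A) : R) v = w
        rw [eq_neg_of_add_eq_zero_right e]
        rfl
      have e1 : (a : R) (v + w) = (a : R) w := by rw [map_add, hav, zero_add]
      have hin : (a : R) w ∈ C (v + w) := ⟨a, e1⟩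
      have hin' : (a : R) w ∈ C w := ⟨a, rfl⟩
      have hC : C (v + w) = C w := (hCeq _ _ h3 hw hin).symm.trans (hCeq _ _ hw0 hw hin')
      have hv2 : v ∈ C w := by
        obtain ⟨b, hb⟩ : v + w ∈ C w := hC ▸ hmem (v + w)
        refine ⟨b - 1, ?_⟩
        show (b : R) w - w = v
        rw [show (b : R) w = v + w from hb, add_sub_cancel_right]
      exact hwv (hCeq _ _ hw0 hv hv2 ▸ hmem w)
  obtain ⟨⟨y0, hy0⟩, hy01⟩ := P.ne_bot_iff_exists_ne_one.1 hne
  have hv0 : (Additive.ofMul (⟨y0, hy0⟩ : P) : V) ≠ 0 := fun e => hy01 (ofMul_eq_zero.1 e)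
  have : Nontrivial A := ⟨⟨1, 0, fun e => hv0 (DFunLike.congr_fun (congrArg Subtype.val e) _)⟩⟩
  have : NoZeroDivisors A := ⟨fun {a b} hab => by
    by_contra h
    push Not at h
    obtain ⟨v, hv⟩ : ∃ v, (b : R) v ≠ 0 := by
      by_contra hb
      push Not at hb
      exact h.2 (Subtype.ext (AddMonoidHom.ext hb))
    exact h.1 (hann a _ hv (DFunLike.congr_fun (congrArg Subtype.val hab) v))⟩
  have : IsDomain A := NoZeroDivisors.to_isDomain A
  have : Finite R := Finite.of_injective (fun f : R => (f : V → V)) DFunLike.coe_injective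
  have := Fintype.ofFinite A
  let ifld : Field A := Fintype.fieldOfDomain A
  have hpA : (p : A) = 0 := Subtype.ext (S.exp_zero)
  have : CharP A p := (CharP.charP_iff_prime_eq_zero S.hp).2 hpA
  let ialg : Algebra (ZMod p) A := ZMod.algebra A p
  have : Module.Finite (ZMod p) A := Module.Finite.of_finite
  set ξ : A := ⟨X, hXA⟩
  set e := orderOf (p : ZMod q) with he
  have hp0 : (p : ZMod q) ≠ 0 := by
    rw [ne_eq, ZMod.natCast_eq_zero_iff, Nat.prime_dvd_prime_iff_eq S.hq S.hp]
    exact fun h => S.hne h.symm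
  have hpq1 : (p : ZMod q) ^ (q - 1) = 1 := ZMod.pow_card_sub_one_eq_one hp0
  have heq1 : e ∣ q - 1 := orderOf_dvd_of_pow_eq_one hpq1
  have hq1 : 0 < q - 1 := by have := S.hq.two_le; omega
  have he0 : 0 < e := Nat.pos_of_dvd_of_pos heq1 hq1
  have hξq : ξ ^ q = 1 := Subtype.ext (by
    show X ^ q = 1
    rw [hXdef, ← map_pow, ← S.ord, pow_orderOf_eq_one, map_one])
  have hξ1 : ξ ≠ 1 := by
    intro h
    have h2 : Setup.act P x (Additive.ofMul (⟨y0, hy0⟩ : P)) = Additive.ofMul (⟨y0, hy0⟩ : P) :=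
      DFunLike.congr_fun (congrArg Subtype.val h) _
    exact hy01 (Subtype.ext (S.fpf x S.ord y0 hy0 (congrArg (fun v : V => (v.toMul : G)) h2)))
  have hξord : orderOf ξ = q := orderOf_eq_prime hξq hξ1
  have hξfin : IsOfFinOrder ξ := orderOf_pos_iff.1 (by rw [hξord]; exact S.hq.pos)
  -- the `e`-th power of Frobenius is trivial on `A`
  have hfrob : ∀ a : A, a ^ p ^ e = a := by
    rintro ⟨a, ha⟩
    induction ha using Subring.closure_induction with
    | mem z hz =>
      obtain rfl : z = X := hz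
      have h2 : ((p ^ e : ℕ) : ZMod q) = ((1 : ℕ) : ZMod q) := by push_cast; rw [he, pow_orderOf_eq_one]
      rw [ZMod.natCast_eq_natCast_iff] at h2
      show ξ ^ p ^ e = ξ
      conv_rhs => rw [← pow_one ξ]
      rw [hξfin.pow_eq_pow_iff_modEq, hξord]
      exact h2
    | zero => exact zero_pow (pow_pos S.hp.pos e).ne'
    | one => exact one_pow _
    | add u v hu hv h1 h2 =>
      show ((⟨u, hu⟩ : A) + ⟨v, hv⟩) ^ p ^ e = ⟨u, hu⟩ + ⟨v, hv⟩
      rw [add_pow_char_pow, h1, h2]
    | neg u hu h1 =>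
      show (-(⟨u, hu⟩ : A)) ^ p ^ e = -⟨u, hu⟩
      have h3 := add_pow_char_pow (R := A) (p := p) (n := e) (-(⟨u, hu⟩ : A)) ⟨u, hu⟩
      rw [neg_add_cancel, zero_pow (pow_pos S.hp.pos e).ne', h1] at h3
      exact (neg_eq_of_add_eq_zero_left h3.symm).symm
    | mul u v hu hv h1 h2 =>
      show ((⟨u, hu⟩ : A) * ⟨v, hv⟩) ^ p ^ e = ⟨u, hu⟩ * ⟨v, hv⟩
      rw [mul_pow, h1, h2]
  have hcardA : Fintype.card A ≤ p ^ e := by
    rw [← FiniteField.X_pow_card_pow_sub_X_natDegree_eq A he0.ne' S.hp.one_lt]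
    refine Polynomial.card_le_degree_of_subset_roots (Z := Finset.univ) fun a _ => ?_
    rw [Polynomial.mem_roots (FiniteField.X_pow_card_pow_sub_X_ne_zero A he0.ne' S.hp.one_lt)]
    simp [hfrob a, sub_eq_zero]
  have hd : Module.finrank (ZMod p) A ≤ e := by
    rw [Module.card_eq_pow_finrank (K := ZMod p) (V := A), ZMod.card] at hcardA
    exact (Nat.pow_le_pow_iff_right S.hp.one_lt).1 hcardA
  have hσ : ∀ k : {k // k ∈ Finset.Ico 1 q}, ∃ σ : A →ₐ[ZMod p] A, σ ξ = ξ ^ k.1 := by
    rintro ⟨k, hk⟩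
    obtain ⟨α, hα⟩ := htrans x (x ^ k) (by rw [S.orderOf_pow (zero_notMem_Ico hk), S.ord])
    obtain ⟨k', L, hL, -, hact⟩ := hsemi α
    obtain ⟨c, -, hc⟩ := hconj k' L hL
    have hcomm : ∀ r, c (algebraMap (ZMod p) A r) = algebraMap (ZMod p) A r :=
      RingHom.congr_fun (Subsingleton.elim (c.comp (algebraMap (ZMod p) A)) (algebraMap (ZMod p) A))
    refine ⟨{ toRingHom := c, commutes' := hcomm }, Subtype.ext ?_⟩
    show (c ξ : R) = X ^ k
    rw [hc, hact k hα, map_pow]
  choose σ hσξ using hσ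
  have hinj : Function.Injective σ := by
    rintro ⟨k, hk⟩ ⟨k', hk'⟩ h
    have h2 := hσξ ⟨k, hk⟩
    rw [h, hσξ ⟨k', hk'⟩, hξfin.pow_eq_pow_iff_modEq, hξord] at h2
    exact Subtype.ext (h2.eq_of_lt_of_lt (Finset.mem_Ico.1 hk').2 (Finset.mem_Ico.1 hk).2).symm
  have hcard := (Fintype.card_le_of_injective σ hinj).trans AlgHom.card_le
  rw [Fintype.card_coe, Nat.card_Ico] at hcard
  exact le_antisymm (Nat.le_of_dvd hq1 heq1) (hcard.trans hd)

theorem forward {G : Type*} [Group G] [Finite G] (hnpp : ¬ IsPrimePow (Nat.card G)) (hnt : Nat.card G ≠ 1)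
    (h3 : Nat.card (MulAction.orbitRel.Quotient (MulAut G) G) = 3) :
    ∃ (p q n : ℕ) (_ : Fact p.Prime) (_ : Fact q.Prime), p ≠ q ∧ 1 ≤ n ∧ Nat.card G = p ^ n * q ∧
      (∀ P : Sylow p G, (P : Subgroup G).Normal ∧ Cfsg.IsElementaryAbelian p (P : Subgroup G)) ∧
      orderOf (p : ZMod q) = q - 1 ∧
      ∀ x y : G, orderOf x = q → orderOf y = p → x * y * x⁻¹ ≠ y := by
  classical
  obtain ⟨a, ha, had⟩ := Nat.exists_prime_and_dvd hnt
  obtain ⟨b, hb, hbd, hab⟩ : ∃ b, b.Prime ∧ b ∣ Nat.card G ∧ a ≠ b := by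
    by_contra h
    push Not at h
    exact hnpp (isPrimePow_iff_unique_prime_dvd.2 ⟨a, ⟨ha, had⟩, fun b hb => (h b hb.1 hb.2).symm⟩)
  have := Fact.mk ha
  have := Fact.mk hb
  obtain ⟨ga, hga⟩ := exists_prime_orderOf_dvd_card' a had
  obtain ⟨gb, hgb⟩ := exists_prime_orderOf_dvd_card' b hbd
  obtain ⟨hord, htrans⟩ := orders_three hab ha.one_lt.ne' hb.one_lt.ne' hga hgb h3
  have hG0 : Nat.card G ≠ 0 := Nat.card_pos.ne'
  have hfac : (Nat.card G).primeFactors = {a, b} := by
    ext r
    rw [Nat.mem_primeFactors, Finset.mem_insert, Finset.mem_singleton]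
    refine ⟨fun ⟨hr, hrd, _⟩ => ?_, ?_⟩
    · have := Fact.mk hr
      obtain ⟨g, hg⟩ := exists_prime_orderOf_dvd_card' r hrd
      rcases hord g with h | h | h
      · exact absurd (hg.symm.trans h) hr.one_lt.ne'
      · exact Or.inl (hg.symm.trans h)
      · exact Or.inr (hg.symm.trans h)
    · rintro (rfl | rfl)
      exacts [⟨ha, had, hG0⟩, ⟨hb, hbd, hG0⟩]
  have hcardab : Nat.card G = a ^ (Nat.card G).factorization a * b ^ (Nat.card G).factorization b := by
    conv_lhs => rw [← Nat.prod_factorization_pow_eq_self hG0]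
    rw [Finsupp.prod, Nat.support_factorization, hfac, Finset.prod_pair hab]
  have hsol := S0144.isSolvable a b ha hb _ G rfl _ _ hcardab
  obtain ⟨m, hm⟩ := (Group.isSolvable_def G).1 hsol
  let k := Nat.find (⟨m, hm⟩ : ∃ m, derivedSeries G m = ⊥)
  have hk : derivedSeries G k = ⊥ := Nat.find_spec (⟨m, hm⟩ : ∃ m, derivedSeries G m = ⊥)
  have hk0 : k ≠ 0 := by
    intro h
    rw [h, derivedSeries_zero] at hk
    exact hnt (by rw [← Subgroup.card_top (G := G), hk, Subgroup.card_bot])
  obtain ⟨k', hk'⟩ := Nat.exists_eq_succ_of_ne_zero hk0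
  set D := derivedSeries G k' with hD
  have hDne : D ≠ ⊥ := fun h => (Nat.find_min (⟨m, hm⟩ : ∃ m, derivedSeries G m = ⊥) (by omega : k' < k)) h
  have hDc : D.Characteristic := derivedSeries_characteristic G k'
  have hDn : D.Normal := inferInstance
  have hDab : IsMulCommutative D := ⟨⟨fun u v => Subtype.ext (commutatorElement_eq_one_iff_mul_comm.1 (by
    rw [← Subgroup.mem_bot, ← hk, hk', derivedSeries_succ]
    exact Subgroup.commutator_mem_commutator u.2 v.2))⟩⟩
  obtain ⟨⟨d, hd⟩, hd1⟩ := D.ne_bot_iff_exists_ne_one.1 hDne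
  -- name `p` the order of the elements of `D`
  obtain ⟨p, q, hp, hq, hpq, hpd, hqd, hfac, hdp, hord⟩ :
      ∃ p q : ℕ, p.Prime ∧ q.Prime ∧ p ≠ q ∧ p ∣ Nat.card G ∧ q ∣ Nat.card G ∧
        (Nat.card G).primeFactors = {p, q} ∧ orderOf d = p ∧
        ∀ g : G, orderOf g = 1 ∨ orderOf g = p ∨ orderOf g = q := by
    rcases hord d with h | h | h
    · exact absurd (Subtype.ext (orderOf_eq_one_iff.1 h)) hd1
    · exact ⟨a, b, ha, hb, hab, had, hbd, hfac, h, hord⟩
    · exact ⟨b, a, hb, ha, hab.symm, hbd, had, by rw [hfac, Finset.pair_comm], h,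
        fun g => (hord g).imp id Or.symm⟩
  have := Fact.mk hp
  have := Fact.mk hq
  have hDmem : ∀ g : G, orderOf g = p → g ∈ D := by
    intro g hg
    obtain ⟨α, hα⟩ := htrans d g (hdp.trans hg.symm)
    have := Subgroup.characteristic_iff_le_comap.1 hDc α hd
    rw [Subgroup.mem_comap] at this
    exact hα ▸ this
  have hnocomm : ∀ g y : G, orderOf g = q → orderOf y = p → g * y ≠ y * g := by
    intro g y hg hy hc
    have h := Commute.orderOf_mul_eq_mul_orderOf_of_coprime hc
      (by rw [hg, hy]; exact (Nat.coprime_primes hq hp).2 hpq.symm)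
    rw [hg, hy] at h
    have := hp.two_le
    have := hq.two_le
    rcases hord (g * y) with h' | h' | h' <;> rw [h'] at h <;> nlinarith
  have hDexp : ∀ y ∈ D, y ≠ 1 → orderOf y = p := by
    intro y hy hy1
    rcases hord y with h | h | h
    · exact absurd (orderOf_eq_one_iff.1 h) hy1
    · exact h
    · exact absurd (congrArg Subtype.val (hDab.is_comm.comm (⟨y, hy⟩ : D) ⟨d, hd⟩)) (hnocomm y d h hdp)
  have hDp : IsPGroup p D := IsPGroup.iff_orderOf.2 fun y => by
    rcases eq_or_ne (y : G) 1 with h | h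
    · exact ⟨0, by rw [← Subgroup.orderOf_coe, h, orderOf_one, pow_zero]⟩
    · exact ⟨1, by rw [← Subgroup.orderOf_coe, hDexp y y.2 h, pow_one]⟩
  have hsyl : ∀ P : Sylow p G, (P : Subgroup G) = D := by
    intro P
    have hle : (P : Subgroup G) ≤ D := by
      intro g hg
      obtain ⟨j, hj⟩ := IsPGroup.iff_orderOf.1 P.isPGroup' ⟨g, hg⟩
      rw [Subgroup.orderOf_mk] at hj
      rcases hord g with h | h | h
      · rw [orderOf_eq_one_iff.1 h]; exact D.one_mem
      · exact hDmem g h
      · rw [h] at hj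
        exact absurd ((Nat.prime_dvd_prime_iff_eq hq hp).1 (hq.dvd_of_dvd_pow hj.dvd)).symm hpq
    exact (P.is_maximal' hDp hle).symm
  have hfix : ∀ g, orderOf g = q → ∀ y ∈ D, g * y * g⁻¹ = y → y = 1 := by
    intro g hg y hy h
    by_contra hy1
    exact hnocomm g y hg (hDexp y hy hy1) (mul_inv_eq_iff_eq_mul.1 h)
  -- a Sylow `q`-subgroup has order `q`
  obtain ⟨Q⟩ := (inferInstance : Nonempty (Sylow q G))
  have hQexp : ∀ g ∈ (Q : Subgroup G), g ≠ 1 → orderOf g = q := by
    intro g hg hg1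
    obtain ⟨j, hj⟩ := IsPGroup.iff_orderOf.1 Q.isPGroup' ⟨g, hg⟩
    rw [Subgroup.orderOf_mk] at hj
    rcases hord g with h | h | h
    · exact absurd (orderOf_eq_one_iff.1 h) hg1
    · rw [h] at hj
      exact absurd ((Nat.prime_dvd_prime_iff_eq hp hq).1 (hp.dvd_of_dvd_pow hj.dvd)) hpq
    · exact h
  have hQne : (Q : Subgroup G) ≠ ⊥ := Q.ne_bot_of_dvd_card hqd
  have : Nontrivial (Q : Subgroup G) := (Subgroup.nontrivial_iff_ne_bot _).2 hQne
  have := Q.isPGroup'.center_nontrivial
  obtain ⟨⟨⟨z, hzQ⟩, hzc⟩, hz1⟩ := exists_ne (1 : Subgroup.center (Q : Subgroup G))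
  have hz1' : z ≠ 1 := fun h => hz1 (Subtype.ext (Subtype.ext h))
  have hzq := hQexp z hzQ hz1'
  have hQeq : (Q : Subgroup G) = Subgroup.zpowers z := by
    refine le_antisymm (fun w hw => ?_) (Subgroup.zpowers_le.2 hzQ)
    by_contra hwz
    have hw1 : w ≠ 1 := fun h => hwz (h ▸ one_mem _)
    have hzw : Commute z w := (congrArg Subtype.val (Subgroup.mem_center_iff.1 hzc ⟨w, hw⟩)).symm
    have hmem : ∀ j : ℕ, z ^ j * w ∈ (Q : Subgroup G) ∧ z ^ j * w ≠ 1 := fun j =>
      ⟨mul_mem (pow_mem hzQ j) hw, fun h => hwz (by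
        rw [eq_inv_of_mul_eq_one_right h]; exact inv_mem (pow_mem (Subgroup.mem_zpowers z) j))⟩
    have h := not_fpf_of_two_gens (P := D) hq hzw (by rw [← hzq, pow_orderOf_eq_one])
      (by rw [← hQexp w hw hw1, pow_orderOf_eq_one]) (hfix z hzq)
      (fun j => hfix _ (hQexp _ (hmem j).1 (hmem j).2)) hd
    have h2 := orderOf_dvd_of_pow_eq_one h
    rw [hdp, Nat.prime_dvd_prime_iff_eq hp hq] at h2
    exact hpq h2
  have hcardD : Nat.card D = p ^ (Nat.card G).factorization p := by
    obtain ⟨P⟩ := (inferInstance : Nonempty (Sylow p G))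
    rw [← hsyl P, P.card_eq_multiplicity]
  have hqfac : q ^ (Nat.card G).factorization q = q := by
    rw [← Q.card_eq_multiplicity, hQeq, Nat.card_zpowers, hzq]
  have hcard : Nat.card G = p ^ (Nat.card G).factorization p * q := by
    conv_lhs => rw [← Nat.prod_factorization_pow_eq_self hG0]
    rw [Finsupp.prod, Nat.support_factorization, hfac, Finset.prod_pair hpq, hqfac]
  have hn : 1 ≤ (Nat.card G).factorization p := Nat.Prime.factorization_pos_of_dvd hp hG0 hpd
  have S : Setup G p q D z := ⟨hp, hq, hpq, hDn, hDab, fun y hy => by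
    rcases eq_or_ne y 1 with rfl | h
    · exact one_pow p
    · rw [← hDexp y hy h, pow_orderOf_eq_one], hzq,
    Subgroup.isComplement'_of_coprime (by rw [hcardD, Nat.card_zpowers, hzq, ← hcard])
      (by rw [hcardD, Nat.card_zpowers, hzq]; exact Nat.Coprime.pow_left _ ((Nat.coprime_primes hp hq).2 hpq)),
    hfix⟩
  exact ⟨p, q, _, ⟨hp⟩, ⟨hq⟩, hpq, hn, hcard, fun P => by
    refine ⟨?_, ?_, ?_⟩
    · rw [hsyl P]; exact hDn
    · rw [hsyl P]; exact hDab
    · rw [hsyl P]; exact S.exp, primitive_root S hDne htrans,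
    fun g y hg hy h => hnocomm g y hg hy (mul_inv_eq_iff_eq_mul.1 h)⟩

open scoped IsMulCommutative in
theorem backward {G : Type*} [Group G] [Finite G] {p q n : ℕ} (hp : p.Prime) (hq : q.Prime) (hne : p ≠ q)
    (hn : 1 ≤ n) (hcard : Nat.card G = p ^ n * q)
    (hP : ∀ P : Sylow p G, (P : Subgroup G).Normal ∧ Cfsg.IsElementaryAbelian p (P : Subgroup G))
    (hprim : orderOf (p : ZMod q) = q - 1)
    (hfix : ∀ x y : G, orderOf x = q → orderOf y = p → x * y * x⁻¹ ≠ y) :
    Nat.card (MulAction.orbitRel.Quotient (MulAut G) G) = 3 := by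
  classical
  have := Fact.mk hp
  have := Fact.mk hq
  obtain ⟨P0⟩ := (inferInstance : Nonempty (Sylow p G))
  obtain ⟨hPn, hPab, hPexp⟩ := hP P0
  set P : Subgroup G := ↑P0 with hPdef
  have hcop : Nat.Coprime (p ^ n) q := Nat.Coprime.pow_left _ ((Nat.coprime_primes hp hq).2 hne)
  have hcardP : Nat.card P = p ^ n := by
    rw [hPdef, P0.card_eq_multiplicity, hcard, Nat.factorization_mul (pow_ne_zero n hp.pos.ne') hq.pos.ne',
      Finsupp.add_apply, hp.factorization_pow, Finsupp.single_eq_same,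
      Nat.factorization_eq_zero_of_not_dvd (fun h => hne ((Nat.prime_dvd_prime_iff_eq hp hq).1 h)), add_zero]
  obtain ⟨x, hx⟩ := exists_prime_orderOf_dvd_card' (G := G) q (hcard ▸ dvd_mul_left q _)
  have S : Setup G p q P x := ⟨hp, hq, hne, hPn, hPab, hPexp, hx,
    Subgroup.isComplement'_of_coprime (by rw [hcardP, Nat.card_zpowers, hx, hcard])
      (by rw [hcardP, Nat.card_zpowers, hx]; exact hcop),
    fun g hg y hy h => by
      by_contra hy1
      exact hfix g y hg (orderOf_eq_prime (hPexp y hy) hy1) h⟩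
  set Φ := Polynomial.cyclotomic q (ZMod p) with hΦ
  have hirr : Irreducible Φ := by
    refine ZMod.irreducible_of_dvd_cyclotomic_of_natDegree
      (fun h => hne ((Nat.prime_dvd_prime_iff_eq hp hq).1 h)) dvd_rfl ?_
    rw [hΦ, Polynomial.natDegree_cyclotomic, Nat.totient_prime hq, ← orderOf_units, ZMod.coe_unitOfCoprime,
      hprim]
  have := Fact.mk hirr
  let K := AdjoinRoot Φ
  have : Module.Finite (ZMod p) K := (AdjoinRoot.powerBasis hirr.ne_zero).finite
  have : Finite K := Module.finite_of_finite (ZMod p)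
  let V := Additive P
  let R := AddMonoid.End V
  have hPne : ∀ y ∈ P, y ≠ 1 → orderOf y = p := fun y hy h => S.orderOf_eq_p hy h
  obtain ⟨y₁, hy₁, hy₁1⟩ : ∃ y, y ∈ P ∧ y ≠ 1 := by
    have : P ≠ ⊥ := fun h => by
      rw [h, Subgroup.card_bot] at hcardP
      exact (Nat.one_lt_pow (by omega) hp.one_lt).ne hcardP
    obtain ⟨⟨y, hy⟩, hy1⟩ := P.ne_bot_iff_exists_ne_one.1 this
    exact ⟨y, hy, fun e => hy1 (Subtype.ext e)⟩
  have hv₁ : (Additive.ofMul (⟨y₁, hy₁⟩ : P) : V) ≠ 0 := fun e => hy₁1 (congrArg Subtype.val (ofMul_eq_zero.1 e))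
  have : Nontrivial R := ⟨⟨1, 0, fun e => hv₁ (DFunLike.congr_fun e _)⟩⟩
  have : CharP R p := (CharP.charP_iff_prime_eq_zero hp).2 S.exp_zero
  let ι : ZMod p →+* R := ZMod.castHom dvd_rfl R
  have hι : ∀ (c : ZMod p) (r : R), Commute (ι c) r := fun c r => by
    rw [← ZMod.natCast_zmod_val c, map_natCast]
    exact Nat.cast_commute _ r
  have hφ : ∀ k : ℕ, ¬ q ∣ k → ∃ φ : K →+* R, φ (AdjoinRoot.root Φ) = Setup.act P (x ^ k) := by
    intro k hk
    let f := Polynomial.eval₂RingHom' ι (Setup.act P (x ^ k)) (fun c => hι c _)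
    have hfΦ : f Φ = 0 := by
      rw [hΦ, Polynomial.cyclotomic_prime, map_sum, ← S.sum_pow_eq_zero (S.orderOf_pow hk)]
      exact Finset.sum_congr rfl fun i _ => by rw [map_pow]; congr 1; exact Polynomial.eval₂_X _ _
    let φ : K →+* R := Ideal.Quotient.lift (Ideal.span {Φ}) f (fun a ha => by
      obtain ⟨c, rfl⟩ := Ideal.mem_span_singleton'.1 ha
      rw [map_mul, hfΦ, mul_zero])
    exact ⟨φ, Polynomial.eval₂_X _ _⟩
  have haut : ∀ k : ℕ, ¬ q ∣ k → ∀ y ∈ P, ∀ y' ∈ P, y ≠ 1 → y' ≠ 1 →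
      ∃ α : MulAut G, α y = y' ∧ α x = x ^ k := by
    intro k hk y hy y' hy' hy1 hy'1
    obtain ⟨φ, hφ'⟩ := hφ 1 hq.not_dvd_one
    obtain ⟨ψ, hψ⟩ := hφ k hk
    rw [pow_one] at hφ'
    obtain ⟨L, hL, hLy⟩ := exists_intertwine φ ψ
      (y := (Additive.ofMul (⟨y, hy⟩ : P) : V)) (y' := (Additive.ofMul (⟨y', hy'⟩ : P) : V))
      (fun e => hy1 (congrArg Subtype.val (ofMul_eq_zero.1 e)))
      (fun e => hy'1 (congrArg Subtype.val (ofMul_eq_zero.1 e)))
    let L' : P ≃* P :=
      { toFun := fun z => (L (Additive.ofMul z)).toMul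
        invFun := fun z => (L.symm (Additive.ofMul z)).toMul
        left_inv := fun z => by simp
        right_inv := fun z => by simp
        map_mul' := fun a b => by rw [ofMul_mul, map_add]; rfl }
    obtain ⟨α, hα, hαx⟩ := S.exists_aut hk L' (by
      intro u z huz
      have e : Additive.ofMul z = Setup.act P x (Additive.ofMul u) := by
        apply Additive.toMul.injective
        apply Subtype.ext
        exact huz.symm
      show _ = (((L (Additive.ofMul z)).toMul : P) : G)
      rw [e, ← hφ', hL, hψ]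
      rfl)
    refine ⟨α, ?_, hαx⟩
    rw [hα ⟨y, hy⟩]
    exact congrArg (fun v : V => (v.toMul : G)) hLy
  -- the orbits are determined by the element orders
  let f : MulAction.orbitRel.Quotient (MulAut G) G → ℕ := fun c => Quotient.liftOn' c orderOf fun a b hab => by
    obtain ⟨α, rfl⟩ := MulAction.orbitRel_apply.1 hab
    exact MulEquiv.orderOf_eq α b
  have hrel : ∀ g g', orderOf g = orderOf g' → ∃ α : MulAut G, α g = g' := by
    intro g g' h
    by_cases hg : g ∈ P <;> by_cases hg' : g' ∈ P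
    · rcases eq_or_ne g 1 with rfl | h1
      · exact ⟨1, by rw [orderOf_one] at h; simp [orderOf_eq_one_iff.1 h.symm]⟩
      · have h2 : g' ≠ 1 := fun e => h1 (orderOf_eq_one_iff.1 (by rw [h, e, orderOf_one]))
        obtain ⟨α, hα, -⟩ := haut 1 hq.not_dvd_one g hg g' hg' h1 h2
        exact ⟨α, hα⟩
    · rw [S.orderOf_eq_q hg'] at h
      rcases eq_or_ne g 1 with rfl | h1
      · exact absurd (orderOf_one.symm.trans h) hq.one_lt.ne
      · exact absurd ((hPne g hg h1).symm.trans h) hne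
    · rw [S.orderOf_eq_q hg] at h
      rcases eq_or_ne g' 1 with rfl | h1
      · exact absurd (orderOf_one.symm.trans h.symm) hq.one_lt.ne
      · exact absurd ((hPne g' hg' h1).symm.trans h.symm) hne
    · have key : ∀ g ∉ P, ∃ α : MulAut G, α x = g := by
        intro g hg
        obtain ⟨w, -, k, hk, rfl⟩ := S.exists_conj hg
        obtain ⟨α, -, hαx⟩ := haut k hk y₁ hy₁ y₁ hy₁ hy₁1 hy₁1
        exact ⟨MulAut.conj w * α, by rw [MulAut.mul_apply, hαx]; rfl⟩
      obtain ⟨α, rfl⟩ := key g hg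
      obtain ⟨β, rfl⟩ := key g' hg'
      exact ⟨β * α⁻¹, by rw [MulAut.mul_apply, MulAut.inv_apply, MulEquiv.symm_apply_apply]⟩
  have hfinj : Function.Injective f := by
    rintro ⟨g⟩ ⟨g'⟩ h
    obtain ⟨α, hα⟩ := hrel g' g h.symm
    exact Quotient.sound' (MulAction.orbitRel_apply.2 ⟨α, hα⟩)
  have hrange : Set.range f = ({1, p, q} : Set ℕ) := by
    ext c
    constructor
    · rintro ⟨⟨g⟩, rfl⟩
      show orderOf g ∈ ({1, p, q} : Set ℕ)
      rcases eq_or_ne g 1 with rfl | h1
      · simp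
      · by_cases hg : g ∈ P
        · simp [hPne g hg h1]
        · simp [S.orderOf_eq_q hg]
    · rintro (rfl | rfl | rfl)
      · exact ⟨Quotient.mk'' 1, orderOf_one⟩
      · exact ⟨Quotient.mk'' y₁, hPne y₁ hy₁ hy₁1⟩
      · exact ⟨Quotient.mk'' x, hx⟩
  rw [← Nat.card_range_of_injective hfinj, hrange, Nat.card_coe_set_eq]
  exact Set.ncard_eq_three.2 ⟨1, p, q, hp.one_lt.ne, hq.one_lt.ne, hne, rfl⟩

/-- Let G be a finite group whose order is not a prime power. Then the automorphism group of G has exactly three orbits on G if and only if there are distinct primes p, q with #G = pⁿ·q (n ≥ 1) such that G has a normal elementary abelian Sylow p-subgroup P, p is a primitive root modulo q (the multiplicative order of p mod q is q − 1), and every element of order q of G acts on P without non-identity fixed points. -/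
theorem result {G : Type*} [Group G] [Finite G] (hnpp : ¬ IsPrimePow (Nat.card G)) (hnt : Nat.card G ≠ 1) :
    Nat.card (MulAction.orbitRel.Quotient (MulAut G) G) = 3 ↔
    ∃ (p q n : ℕ) (_ : Fact p.Prime) (_ : Fact q.Prime), p ≠ q ∧ 1 ≤ n ∧ Nat.card G = p ^ n * q ∧
      (∀ P : Sylow p G, (P : Subgroup G).Normal ∧ Cfsg.IsElementaryAbelian p (P : Subgroup G)) ∧
      orderOf (p : ZMod q) = q - 1 ∧
      ∀ x y : G, orderOf x = q → orderOf y = p → x * y * x⁻¹ ≠ y := by
  classical
  constructor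
  · intro h3
    exact forward hnpp hnt h3
  · rintro ⟨p, q, n, hp, hq, hne, hn, hcard, hP, hprim, hfix⟩
    exact backward hp.out hq.out hne hn hcard hP hprim hfix

end Cfsg.Agent.S4081
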