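import Cfsg.Statements.S4084
import Mathlib


set_option autoImplicit false
open Cfsg

namespace Cfsg.Agent.S4084

theorem prime_graph_iff {G : Type*} [Group G] [Finite G] {p q : ℕ} (hp : p.Prime) (hq : q.Prime)
    (hpq : p ≠ q) :
    (∃ g : G, orderOf g = p * q) ↔ ∃ S : Set G, (∀ x ∈ S, ∀ y ∈ S, Commute x y) ∧
      (∀ z : G, (∀ y ∈ S, Commute z y) → z ∈ S) ∧ p * q ∣ S.ncard := by
  constructor
  · rintro ⟨g, hg⟩
    have h0 : ∀ x ∈ (Subgroup.zpowers g : Set G), ∀ y ∈ (Subgroup.zpowers g : Set G), Commute x y := by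
      rintro _ ⟨i, rfl⟩ _ ⟨j, rfl⟩
      exact Commute.zpow_zpow (Commute.refl g) i j
    obtain ⟨S, hgS, hS⟩ :=
      (Set.toFinite {T : Set G | ∀ x ∈ T, ∀ y ∈ T, Commute x y}).exists_le_maximal h0
    have hmem : ∀ z : G, (∀ y ∈ S, Commute z y) → z ∈ S := by
      intro z hz
      refine hS.2 (y := insert z S) ?_ (Set.subset_insert z S) (Set.mem_insert z S)
      rintro x (rfl | hx) y (rfl | hy)
      · exact Commute.refl _
      · exact hz y hy
      · exact (hz x hx).symm
      · exact hS.1 x hx y hy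
    refine ⟨S, hS.1, hmem, ?_⟩
    let A : Subgroup G :=
      { carrier := S
        one_mem' := hmem 1 fun y _ => Commute.one_left y
        mul_mem' := fun {a b} ha hb => hmem _ fun y hy => (hS.1 a ha y hy).mul_left (hS.1 b hb y hy)
        inv_mem' := fun {a} ha => hmem _ fun y hy => (hS.1 a ha y hy).inv_left }
    have hA : g ∈ A := hgS (Subgroup.mem_zpowers g)
    rw [← hg, show S = (A : Set G) from rfl, ← Nat.card_coe_set_eq, ← Subgroup.orderOf_mk g hA]
    exact orderOf_dvd_natCard _
  · rintro ⟨S, hS, hmem, hd⟩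
    let A : Subgroup G :=
      { carrier := S
        one_mem' := hmem 1 fun y _ => Commute.one_left y
        mul_mem' := fun {a b} ha hb => hmem _ fun y hy => (hS a ha y hy).mul_left (hS b hb y hy)
        inv_mem' := fun {a} ha => hmem _ fun y hy => (hS a ha y hy).inv_left }
    have : Fact p.Prime := ⟨hp⟩
    have : Fact q.Prime := ⟨hq⟩
    have hd' : p * q ∣ Nat.card A := by
      rwa [← SetLike.coe_sort_coe, Nat.card_coe_set_eq]
    obtain ⟨x, hx⟩ := exists_prime_orderOf_dvd_card' (G := A) p ((dvd_mul_right p q).trans hd')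
    obtain ⟨y, hy⟩ := exists_prime_orderOf_dvd_card' (G := A) q ((dvd_mul_left q p).trans hd')
    refine ⟨x.1 * y.1, ?_⟩
    rw [Commute.orderOf_mul_eq_mul_orderOf_of_coprime (hS _ x.2 _ y.2), Subgroup.orderOf_coe,
      Subgroup.orderOf_coe, hx, hy]
    rw [Subgroup.orderOf_coe, Subgroup.orderOf_coe, hx, hy]
    exact (Nat.coprime_primes hp hq).2 hpq

/-- Let G and H be finite groups whose commuting graphs are isomorphic: there is a bijection e : G → H with x, y commuting exactly when e(x), e(y) commute. Then G and H have the same prime graph: for distinct primes p, q, G has an element of order pq if and only if H does (and #G = #H, so the prime divisors agree). -/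
theorem result {G H : Type*} [Group G] [Finite G] [Group H] [Finite H] (e : G ≃ H)
    (he : ∀ x y : G, Commute x y ↔ Commute (e x) (e y))
    {p q : ℕ} (hp : p.Prime) (hq : q.Prime) (hpq : p ≠ q) :
    (∃ g : G, orderOf g = p * q) ↔ (∃ h : H, orderOf h = p * q) := by
  have hb : ∀ (S : Set G), (∀ x ∈ S, ∀ y ∈ S, Commute x y) ↔ ∀ x ∈ e '' S, ∀ y ∈ e '' S, Commute x y := by
    intro S
    simp only [Set.forall_mem_image]
    exact forall₂_congr fun x _ => forall₂_congr fun y _ => he x y
  rw [prime_graph_iff hp hq hpq, prime_graph_iff hp hq hpq]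
  constructor
  · rintro ⟨S, hS, hmax, hd⟩
    refine ⟨e '' S, (hb S).1 hS, fun z hz => ?_, by rwa [Set.ncard_image_of_injective _ e.injective]⟩
    refine ⟨e.symm z, hmax _ fun y hy => (he _ _).2 ?_, e.apply_symm_apply z⟩
    rw [e.apply_symm_apply]
    exact hz _ ⟨y, hy, rfl⟩
  · rintro ⟨S, hS, hmax, hd⟩
    have himg : e '' (e ⁻¹' S) = S := e.image_preimage S
    refine ⟨e ⁻¹' S, (hb _).2 (by rwa [himg]), fun z hz => hmax _ fun y hy => ?_, ?_⟩
    · have := (he z (e.symm y)).1 (hz _ (by simpa using hy))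
      rwa [e.apply_symm_apply] at this
    · rwa [← Set.ncard_image_of_injective _ e.injective, himg]

end Cfsg.Agent.S4084
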