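import Cfsg.Statements.S4085
import Mathlib

set_option autoImplicit false
open Cfsg

namespace Cfsg.Agent.S4085

open Subgroup

section Basics

variable {G : Type*} [Group G]

def Adj (x y : G) : Prop := x ∈ zpowers y ∨ y ∈ zpowers x

def nb (x : G) : Set G := {y | Adj x y}

def dom (S : Set G) : Set G := {y | y ∈ S ∧ ∀ w ∈ S, Adj y w}

def NPP (k : ℕ) : Prop := ∃ r s : ℕ, r.Prime ∧ s.Prime ∧ r ≠ s ∧ r ∣ k ∧ s ∣ k

theorem adj_refl (x : G) : Adj x x := Or.inl (mem_zpowers x)

theorem adj_symm {x y : G} (h : Adj x y) : Adj y x := Or.symm h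

theorem adj_congr {x x' : G} (h : zpowers x = zpowers x') (y : G) : Adj x y ↔ Adj x' y := by
  simp only [Adj, ← zpowers_le, h]

theorem adj_one (y : G) : Adj 1 y := Or.inl (one_mem _)

theorem dvd_of_mem {x y : G} (h : x ∈ zpowers y) : orderOf x ∣ orderOf y := by
  obtain ⟨i, rfl⟩ := mem_zpowers_iff.mp h
  exact orderOf_dvd_of_mem_zpowers h

theorem eq_zpowers [Finite G] {x y : G} (h : x ∈ zpowers y) (hc : orderOf y ≤ orderOf x) :
    zpowers x = zpowers y :=
  eq_of_le_of_card_ge (zpowers_le.mpr h) (by rwa [Nat.card_zpowers, Nat.card_zpowers])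

theorem mem_iff_dvd [Finite G] {m a b : G} (ha : a ∈ zpowers m) (hb : b ∈ zpowers m) :
    a ∈ zpowers b ↔ orderOf a ∣ orderOf b := by
  classical
  refine ⟨dvd_of_mem, fun h => ?_⟩
  haveI : Fintype (zpowers m) := Fintype.ofFinite _
  set A : Finset (zpowers m) := {y | y ^ orderOf b = 1} with hA
  set B : Finset (zpowers m) := {y | y ∈ zpowers (⟨b, hb⟩ : zpowers m)} with hB
  have hle : B ⊆ A := by
    intro y hy
    simp only [hA, hB, Finset.mem_filter, Finset.mem_univ, true_and] at hy ⊢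
    rw [← orderOf_dvd_iff_pow_eq_one, ← orderOf_mk b hb]
    exact dvd_of_mem hy
  have hcard : B.card = orderOf b := by
    rw [hB, ← orderOf_mk b hb, ← Nat.card_zpowers, Nat.card_eq_fintype_card, Fintype.card_subtype]
  have hAB : B = A := Finset.eq_of_subset_of_card_le hle
    (hcard ▸ IsCyclic.card_pow_eq_one_le (orderOf_pos b))
  have : (⟨a, ha⟩ : zpowers m) ∈ B := by
    rw [hAB, hA, Finset.mem_filter]
    refine ⟨Finset.mem_univ _, Subtype.ext ?_⟩
    rw [Subgroup.coe_pow, Subgroup.coe_one, ← orderOf_dvd_iff_pow_eq_one]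
    exact h
  simp only [hB, Finset.mem_filter, Finset.mem_univ, true_and] at this
  obtain ⟨i, hi⟩ := mem_zpowers_iff.mp this
  exact mem_zpowers_iff.mpr ⟨i, by simpa using congrArg Subtype.val hi⟩

theorem adj_iff_dvd [Finite G] {m a b : G} (ha : a ∈ zpowers m) (hb : b ∈ zpowers m) :
    Adj a b ↔ orderOf a ∣ orderOf b ∨ orderOf b ∣ orderOf a :=
  or_congr (mem_iff_dvd ha hb) (mem_iff_dvd hb ha)

theorem exists_of_dvd [Finite G] (m : G) {d : ℕ} (hd : d ∣ orderOf m) :
    ∃ a ∈ zpowers m, orderOf a = d :=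
  ⟨m ^ (orderOf m / d), pow_mem (mem_zpowers m) _, orderOf_pow_orderOf_div (orderOf_pos m).ne' hd⟩

theorem eq_pow_of_not_npp {k : ℕ} (hk : 1 < k) (h : ¬ NPP k) :
    ∃ P s : ℕ, P.Prime ∧ 0 < s ∧ k = P ^ s := by
  obtain ⟨P, hP, hPk⟩ := Nat.exists_prime_and_dvd hk.ne'
  have he := Nat.eq_prime_pow_of_unique_prime_dvd (n := k) (by omega) fun {d} hd hdk => by
    by_contra hne
    exact h ⟨d, P, hd, hP, hne, hdk, hPk⟩
  refine ⟨P, _, hP, Nat.pos_of_ne_zero fun h0 => ?_, he⟩
  rw [h0, pow_zero] at he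
  omega

theorem pp_of_dvd {k r j : ℕ} (hr : r.Prime) (h : k ∣ r ^ j) : ¬ NPP k := by
  rintro ⟨a, b, ha, hb, hab, hak, hbk⟩
  exact hab (((Nat.prime_dvd_prime_iff_eq ha hr).mp (ha.dvd_of_dvd_pow (hak.trans h))).trans
    ((Nat.prime_dvd_prime_iff_eq hb hr).mp (hb.dvd_of_dvd_pow (hbk.trans h))).symm)

/-- the element of full `r`-power order of a cyclic group is incomparable to smaller elements -/
theorem exists_incomp [Finite G] {m y : G} (hm : NPP (orderOf m)) (hy : y ∈ zpowers m)
    (hy1 : y ≠ 1) (hyn : orderOf y ≠ orderOf m) :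
    ∃ r, r.Prime ∧ r ∣ orderOf m ∧ ∀ f ∈ zpowers m,
      orderOf f = r ^ (orderOf m).factorization r → ¬ Adj y f := by
  have hn0 : orderOf m ≠ 0 := (orderOf_pos m).ne'
  have hyd : orderOf y ∣ orderOf m := dvd_of_mem hy
  obtain ⟨r, hr, hrn, hr'⟩ : ∃ r, r.Prime ∧ r ∣ orderOf m ∧
      ¬ r ^ (orderOf m).factorization r ∣ orderOf y := by
    by_contra! hcon
    refine hyn (Nat.dvd_antisymm hyd ((Nat.dvd_iff_prime_pow_dvd_dvd _ _).mpr fun r k hr hrk => ?_))
    rcases Nat.eq_zero_or_pos k with rfl | hk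
    · simp
    · exact (pow_dvd_pow r ((hr.pow_dvd_iff_le_factorization hn0).mp hrk)).trans
        (hcon r hr ((dvd_pow_self r hk.ne').trans hrk))
  by_cases hc : orderOf y ∣ r ^ (orderOf m).factorization r
  · obtain ⟨a, b, ha, hb, hab, han, hbn⟩ := hm
    obtain ⟨s, hs, hsr, hsn⟩ : ∃ s, s.Prime ∧ s ≠ r ∧ s ∣ orderOf m := by
      by_cases h : a = r
      · exact ⟨b, hb, fun h' => hab (h.trans h'.symm), hbn⟩
      · exact ⟨a, ha, h, han⟩
    refine ⟨s, hs, hsn, fun f hf hof hadj => ?_⟩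
    have hs1 := hs.factorization_pos_of_dvd hn0 hsn
    rw [adj_iff_dvd hy hf, hof] at hadj
    have hcop : (r ^ (orderOf m).factorization r).Coprime (s ^ (orderOf m).factorization s) :=
      ((Nat.coprime_primes hr hs).mpr hsr.symm).pow _ _
    rcases hadj with h | h
    · exact hy1 (orderOf_eq_one_iff.mp (Nat.eq_one_of_dvd_coprimes hcop hc h))
    · have := Nat.eq_one_of_dvd_coprimes hcop (h.trans hc) dvd_rfl
      rw [Nat.pow_eq_one] at this
      rcases this with h1 | h1
      · exact hs.ne_one h1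
      · omega
  · refine ⟨r, hr, hrn, fun f hf hof hadj => ?_⟩
    rw [adj_iff_dvd hy hf, hof] at hadj
    exact hadj.elim hc hr'

theorem pp_dvd {a k : ℕ} (hk : ¬ NPP k) (h : a ∣ k) : ¬ NPP a :=
  fun ⟨r, s, hr, hs, hrs, hra, hsa⟩ => hk ⟨r, s, hr, hs, hrs, hra.trans h, hsa.trans h⟩

theorem exists_max [Finite G] (g : G) :
    ∃ m : G, g ∈ zpowers m ∧ nb m = (zpowers m : Set G) := by
  obtain ⟨m, hm, hmax⟩ := ({y : G | g ∈ zpowers y}).toFinite.exists_maximalFor orderOf _
    ⟨g, mem_zpowers g⟩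
  refine ⟨m, hm, Set.ext fun y => ⟨fun h => ?_, fun h => Or.inr h⟩⟩
  rcases h with h | h
  · have h' : g ∈ zpowers y := zpowers_le.mpr h hm
    have := hmax h' (Nat.le_of_dvd (orderOf_pos y) (dvd_of_mem h))
    rw [SetLike.mem_coe, eq_zpowers h this]
    exact mem_zpowers y
  · exact h

theorem zpowers_eq_univ_of_dominating [Finite G] {z : G} (hz : NPP (orderOf z))
    (h : ∀ g : G, Adj z g) (g : G) : g ∈ zpowers z := by
  rcases h g with h' | h'
  · suffices orderOf g ∣ orderOf z by
      rw [eq_zpowers h' (Nat.le_of_dvd (orderOf_pos z) this)]; exact mem_zpowers g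
    refine (Nat.dvd_iff_prime_pow_dvd_dvd _ _).mpr fun r k hr hrk => ?_
    obtain ⟨a, -, ha⟩ := exists_of_dvd g hrk
    rcases h a with h'' | h''
    · exact absurd (pp_of_dvd (j := k) hr (ha ▸ dvd_of_mem h'')) (not_not.mpr hz)
    · exact ha ▸ dvd_of_mem h''
  · exact h'

theorem ncard_gens [Finite G] (u : G) :
    {y : G | zpowers y = zpowers u}.ncard = (orderOf u).totient := by
  classical
  haveI : Fintype (zpowers u) := Fintype.ofFinite _
  have h1 : {y : G | zpowers y = zpowers u} =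
      (↑) '' (↑({a | orderOf a = orderOf u} : Finset (zpowers u)) : Set (zpowers u)) := by
    ext y
    simp only [Set.mem_setOf_eq, Set.mem_image, Finset.coe_filter, Finset.mem_univ, true_and]
    constructor
    · intro h
      refine ⟨⟨y, h ▸ mem_zpowers y⟩, ?_, rfl⟩
      rw [orderOf_mk, ← Nat.card_zpowers, h, Nat.card_zpowers]
    · rintro ⟨a, ha, rfl⟩
      rw [← orderOf_coe] at ha
      exact eq_zpowers a.2 ha.ge
  rw [h1, Set.ncard_image_of_injective _ Subtype.val_injective, Set.ncard_coe_finset,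
    IsCyclic.card_orderOf_eq_totient (by rw [← Nat.card_eq_fintype_card, Nat.card_zpowers])]

theorem totient_dvd_ncard [Finite G] (A : Set G) (K : ℕ)
    (hA : ∀ y ∈ A, ∀ y' : G, zpowers y' = zpowers y → y' ∈ A) (hK : ∀ y ∈ A, K ∣ orderOf y) :
    K.totient ∣ A.ncard := by
  classical
  haveI : Fintype G := Fintype.ofFinite G
  rw [Set.ncard_eq_toFinset_card', Finset.card_eq_sum_card_image (fun y => zpowers y) A.toFinset]
  refine Finset.dvd_sum fun H hH => ?_
  obtain ⟨u, hu, rfl⟩ := Finset.mem_image.mp hH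
  rw [Set.mem_toFinset] at hu
  have : ({y ∈ A.toFinset | zpowers y = zpowers u} : Finset G).card = (orderOf u).totient := by
    rw [← ncard_gens u, ← Set.ncard_coe_finset]
    congr 1
    ext y
    simp only [Finset.coe_filter, Set.mem_toFinset, Set.mem_setOf_eq, and_iff_right_iff_imp]
    exact fun h => hA u hu y h
  rw [this]
  exact Nat.totient_dvd_of_dvd (hK u hu)

theorem twin_eq_gens [Finite G] {m a : G} {r : ℕ} (hm : NPP (orderOf m)) (ha : a ∈ zpowers m)
    (hr : r.Prime) (har : orderOf a = r) :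
    {y ∈ (zpowers m : Set G) | ∀ w ∈ (zpowers m : Set G), Adj y w ↔ Adj a w} =
      {y : G | zpowers y = zpowers a} := by
  ext y
  refine ⟨fun ⟨hy, hyw⟩ => ?_, fun h => ⟨?_, fun w _ => adj_congr h w⟩⟩
  · obtain ⟨c, d, hc, hd, hcd, hcn, hdn⟩ := hm
    obtain ⟨q, hq, hqr, hqn⟩ : ∃ q, q.Prime ∧ q ≠ r ∧ q ∣ orderOf m := by
      by_cases h : c = r
      · exact ⟨d, hd, fun h' => hcd (h.trans h'.symm), hdn⟩
      · exact ⟨c, hc, h, hcn⟩
    have hrn : r ∣ orderOf m := har ▸ dvd_of_mem ha
    have hnot : ∀ b ∈ zpowers m, ∀ s : ℕ, s.Prime → s ≠ r → orderOf b = s → ¬ Adj a b := by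
      intro b hb s hs hsr hbs hab
      rw [adj_iff_dvd ha hb, har, hbs, Nat.prime_dvd_prime_iff_eq hr hs,
        Nat.prime_dvd_prime_iff_eq hs hr] at hab
      exact hsr (hab.elim Eq.symm id)
    have hy1 : y ≠ 1 := by
      rintro rfl
      obtain ⟨b, hb, hbq⟩ := exists_of_dvd m hqn
      exact hnot b hb q hq hqr hbq ((hyw b hb).mp (adj_one b))
    have hya := (hyw a ha).mpr (adj_refl a)
    rw [adj_iff_dvd hy ha, har] at hya
    show zpowers y = zpowers a
    rcases hya with h | h
    · rcases hr.eq_one_or_self_of_dvd _ h with h1 | h1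
      · exact absurd (orderOf_eq_one_iff.mp h1) hy1
      · exact eq_zpowers ((mem_iff_dvd hy ha).mpr (by rw [h1, har])) (by rw [h1, har])
    · have hyt : ∀ s, s.Prime → s ∣ orderOf y → s = r := by
        intro s hs hsy
        by_contra hne
        obtain ⟨b, hb, hbs⟩ := exists_of_dvd m (hsy.trans (dvd_of_mem hy))
        exact hnot b hb s hs hne hbs ((hyw b hb).mp
          ((adj_iff_dvd hy hb).mpr (Or.inr (hbs ▸ hsy))))
      have hyr := Nat.eq_prime_pow_of_unique_prime_dvd (orderOf_pos y).ne' (fun {d} hd hdy => hyt d hd hdy)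
      obtain ⟨b, hb, hbo⟩ := exists_of_dvd m
        (((Nat.coprime_primes hr hq).mpr hqr.symm).mul_dvd_of_dvd_of_dvd hrn hqn)
      have hyb := (hyw b hb).mpr ((adj_iff_dvd ha hb).mpr (Or.inl (by rw [har, hbo]; exact dvd_mul_right r q)))
      rw [adj_iff_dvd hy hb, hbo] at hyb
      have hlen : (orderOf y).primeFactorsList.length ≤ 1 := by
        rcases hyb with h' | h'
        · rw [hyr] at h'
          by_contra! h2
          have h3 : r * r ∣ r * q := by
            refine (Dvd.dvd.trans ?_ h')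
            rw [← pow_two]
            exact pow_dvd_pow r h2
          exact hqr ((Nat.prime_dvd_prime_iff_eq hr hq).mp (Nat.dvd_of_mul_dvd_mul_left hr.pos h3)).symm
        · exact absurd (hyt q hq ((dvd_mul_left q r).trans h')) hqr
      have hyo : orderOf y ∣ r := by
        rw [hyr]; exact (pow_dvd_pow r hlen).trans (pow_one r).dvd
      exact eq_zpowers ((mem_iff_dvd hy ha).mpr (by rw [har]; exact hyo))
        (by rw [har]; exact Nat.le_of_dvd (orderOf_pos y) h)
  · exact (zpowers_le.mpr ha : zpowers a ≤ zpowers m) (h ▸ mem_zpowers y)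

end Basics

section Transfer

variable {G H : Type*} [Group G] [Finite G] [Group H] [Finite H]

theorem dvd_of_dominating {z : H} (e : G ≃ H) (hz : NPP (orderOf z)) (h : ∀ g : H, Adj z g)
    (m : G) : orderOf m ∣ orderOf z := by
  have htop : zpowers z = ⊤ := eq_top_iff.mpr fun g _ => zpowers_eq_univ_of_dominating hz h g
  have : Nat.card G = orderOf z := by
    rw [← Nat.card_zpowers, htop, card_top, Nat.card_congr e]
  exact this ▸ orderOf_dvd_natCard m

theorem main {p q : ℕ} (e : G ≃ H)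
    (he : ∀ x y : G, (x ∈ zpowers y ∨ y ∈ zpowers x) ↔
      (e x ∈ zpowers (e y) ∨ e y ∈ zpowers (e x)))
    (hp : p.Prime) (hq : q.Prime) (hpq : p ≠ q) {g : G} (hg : orderOf g = p * q) :
    ∃ h : H, orderOf h = p * q := by
  classical
  suffices ∃ h : H, p * q ∣ orderOf h by
    obtain ⟨h, hh⟩ := this
    obtain ⟨a, -, ha⟩ := exists_of_dvd h hh
    exact ⟨a, ha⟩
  obtain ⟨m, hgm, hnb⟩ := exists_max g
  have hpqn : p * q ∣ orderOf m := hg ▸ dvd_of_mem hgm
  have hm : NPP (orderOf m) :=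
    ⟨p, q, hp, hq, hpq, (dvd_mul_right p q).trans hpqn, (dvd_mul_left q p).trans hpqn⟩
  set n := orderOf m with hn
  set S : Set G := (zpowers m : Set G) with hSdef
  set x := e m with hxdef
  set T : Set H := e '' S with hTdef
  have hadj : ∀ a b : G, Adj (e a) (e b) ↔ Adj a b := fun a b => (he a b).symm
  have hT : T = nb x := by
    rw [hTdef, ← hnb]
    ext y
    obtain ⟨a, rfl⟩ := e.surjective y
    simp only [Equiv.image_eq_preimage_symm, Set.mem_preimage, Equiv.symm_apply_apply, nb,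
      Set.mem_setOf_eq]
    exact (hadj m a).symm
  have hcardS : S.ncard = n := by
    rw [hSdef, ← Nat.card_coe_set_eq]; exact Nat.card_zpowers m
  have hcardT : T.ncard = n := by rw [hTdef, Set.ncard_image_of_injective _ e.injective, hcardS]
  have hxT : x ∈ T := ⟨m, mem_zpowers m, rfl⟩
  have hsymm : ∀ w, w ∈ T → e.symm w ∈ S := by
    rintro w ⟨a, ha, rfl⟩; rwa [Equiv.symm_apply_apply]
  have hone : ∀ h : H, Adj (e 1) h := fun h => by
    obtain ⟨a, rfl⟩ := e.surjective h; exact (hadj 1 a).mpr (adj_one a)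
  have hdomS : dom S = insert 1 {y : G | zpowers y = zpowers m} := by
    ext y
    constructor
    · rintro ⟨hy, hyw⟩
      by_contra hcon
      simp only [Set.mem_insert_iff, Set.mem_setOf_eq, not_or] at hcon
      obtain ⟨r, hr, hrn, hf⟩ := exists_incomp hm hy hcon.1 fun h => hcon.2 (eq_zpowers hy h.ge)
      obtain ⟨f, hfm, hfo⟩ := exists_of_dvd m (Nat.ordProj_dvd n r)
      exact hf f hfm hfo (hyw f hfm)
    · rintro (rfl | h)
      · exact ⟨one_mem _, fun w _ => adj_one w⟩
      · exact ⟨show y ∈ zpowers m from h ▸ mem_zpowers y, fun w hw => (adj_congr h w).mpr (Or.inr hw)⟩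
  have hdomT : dom T = e '' dom S := by
    ext y
    obtain ⟨a, rfl⟩ := e.surjective y
    simp only [dom, hTdef, Set.mem_setOf_eq, e.injective.mem_set_image, Set.forall_mem_image, hadj]
  by_cases hmax : ∀ y ∈ T, y ∈ zpowers x
  · refine ⟨x, hpqn.trans ?_⟩
    have : T = (zpowers x : Set H) := Set.Subset.antisymm hmax fun y hy => hT ▸ Or.inr hy
    rw [← hcardT, this, ← Nat.card_coe_set_eq]
    exact (Nat.card_zpowers x).dvd
  push Not at hmax
  obtain ⟨u, huT, hux⟩ := hmax
  have hup : ∀ y ∈ T, y ∉ zpowers x → x ∈ zpowers y := fun y hy hyx =>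
    ((hT ▸ hy : y ∈ nb x)).resolve_right hyx
  by_cases hk : NPP (orderOf x)
  · -- x is not of prime power order
    obtain ⟨w, hw, hnw⟩ := exists_max u
    have hxw : x ∈ zpowers w := zpowers_le.mpr hw (hup u huT hux)
    have hwT : w ∈ T := hT ▸ Or.inl hxw
    have hwx : w ∉ zpowers x := fun h => hux (zpowers_le.mpr h hw)
    have hwdom : w ∈ dom T := by
      by_contra hnd
      obtain ⟨w', hw', hww'⟩ := id hwT
      have hw'1 : w' ≠ 1 := fun h1 => hnd (hdomT ▸ ⟨w', hdomS ▸ Or.inl h1, hww'⟩)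
      obtain ⟨r, hr, hrn, hf⟩ := exists_incomp hm hw' hw'1
        fun h => hnd (hdomT ▸ ⟨w', hdomS ▸ Or.inr (eq_zpowers hw' h.ge), hww'⟩)
      obtain ⟨f, hfm, hfo⟩ := exists_of_dvd m (Nat.ordProj_dvd n r)
      have hfx : x ∈ zpowers (e f) := hup _ ⟨f, hfm, rfl⟩ fun h => hf f hfm hfo
        ((hadj w' f).mp (hww' ▸ Or.inr (zpowers_le.mpr hxw h)))
      obtain ⟨a, b, ha, hb, hab, hax, hbx⟩ := id hk
      obtain ⟨l, hlx, hlo⟩ := exists_of_dvd x hax
      obtain ⟨l2, hl2x, hl2o⟩ := exists_of_dvd x hbx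
      have hlT : l ∈ T := hT ▸ Or.inr hlx
      have hlnd : l ∉ dom T := fun h => by
        have := h.2 l2 (hT ▸ Or.inr hl2x)
        rw [adj_iff_dvd hlx hl2x, hlo, hl2o, Nat.prime_dvd_prime_iff_eq ha hb,
          Nat.prime_dvd_prime_iff_eq hb ha] at this
        exact hab (this.elim id Eq.symm)
      obtain ⟨l', hl', hll'⟩ := id hlT
      obtain ⟨s, hs, hsn, hsf⟩ := exists_incomp hm hl'
        (fun h1 => hlnd (hdomT ▸ ⟨l', hdomS ▸ Or.inl h1, hll'⟩))
        fun h => hlnd (hdomT ▸ ⟨l', hdomS ▸ Or.inr (eq_zpowers hl' h.ge), hll'⟩)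
      obtain ⟨fs, hfsm, hfso⟩ := exists_of_dvd m (Nat.ordProj_dvd n s)
      refine hsf fs hfsm hfso ((hadj l' fs).mp (hll' ▸ ?_))
      by_cases hfsx : e fs ∈ zpowers x
      · by_cases hrs : s = r
        · subst hrs
          have := eq_zpowers ((mem_iff_dvd hfsm hfm).mpr (by rw [hfso, hfo])) (by rw [hfso, hfo])
          exact absurd (adj_symm ((adj_congr this w').mp (adj_symm ((hadj w' fs).mp
            (hww' ▸ Or.inr (zpowers_le.mpr hxw hfsx)))))) (hf f hfm hfo)
        · exfalso
          have h3 : Adj fs f := (hadj fs f).mp (Or.inl (zpowers_le.mpr hfx hfsx))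
          rw [adj_iff_dvd hfsm hfm, hfso, hfo] at h3
          have hcop : (s ^ n.factorization s).Coprime (r ^ n.factorization r) :=
            ((Nat.coprime_primes hs hr).mpr hrs).pow _ _
          rcases h3 with h4 | h4
          · have := Nat.eq_one_of_dvd_coprimes hcop dvd_rfl h4
            exact hs.ne_one ((Nat.pow_eq_one.mp this).resolve_right
              (hs.factorization_pos_of_dvd (orderOf_pos m).ne' hsn).ne')
          · have := Nat.eq_one_of_dvd_coprimes hcop h4 dvd_rfl
            exact hr.ne_one ((Nat.pow_eq_one.mp this).resolve_right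
              (hr.factorization_pos_of_dvd (orderOf_pos m).ne' hrn).ne')
      · exact Or.inl (zpowers_le.mpr (hup _ ⟨fs, hfsm, rfl⟩ hfsx) hlx)
    obtain ⟨a, b, ha, hb, hab, hax, hbx⟩ := id hk
    have hwNPP : NPP (orderOf w) :=
      ⟨a, b, ha, hb, hab, hax.trans (dvd_of_mem hxw), hbx.trans (dvd_of_mem hxw)⟩
    rw [hdomT] at hwdom
    obtain ⟨w', hw', hww'⟩ := hwdom
    rw [hdomS] at hw'
    rcases hw' with rfl | hw'
    · exact ⟨w, hpqn.trans (dvd_of_dominating e hwNPP (fun g => hww' ▸ hone g) m)⟩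
    · exfalso
      have hNw : nb w = nb x := Set.ext fun y => by
        obtain ⟨c, rfl⟩ := e.surjective y
        show Adj w (e c) ↔ Adj x (e c)
        rw [← hww', hxdef, hadj, hadj]
        exact adj_congr hw' c
      have hxne : x ≠ 1 := fun h1 => ha.ne_one (Nat.dvd_one.mp (by rwa [h1, orderOf_one] at hax))
      obtain ⟨r, hr, hrn, hf⟩ := exists_incomp hwNPP hxw hxne
        fun h => hwx (by rw [eq_zpowers hxw h.ge]; exact mem_zpowers w)
      obtain ⟨f, hfm, hfo⟩ := exists_of_dvd w (Nat.ordProj_dvd (orderOf w) r)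
      exact hf f hfm hfo (hNw ▸ (Or.inr hfm : f ∈ nb w) : f ∈ nb x)
  · -- x is of prime power order
    have hxD : x ∈ dom T := hdomT ▸ ⟨m, hdomS ▸ Or.inr rfl, rfl⟩
    obtain ⟨z, hzD, hzmax⟩ := (dom T).toFinite.exists_maximalFor orderOf _ ⟨x, hxD⟩
    by_cases hz : NPP (orderOf z)
    · rw [hdomT] at hzD
      obtain ⟨z', hz', hzz'⟩ := hzD
      rw [hdomS] at hz'
      rcases hz' with rfl | hz'
      · exact ⟨z, hpqn.trans (dvd_of_dominating e hz (fun g => hzz' ▸ hone g) m)⟩
      · have hNz : nb z = nb x := Set.ext fun y => by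
          obtain ⟨c, rfl⟩ := e.surjective y
          show Adj z (e c) ↔ Adj x (e c)
          rw [← hzz', hxdef, hadj, hadj]
          exact adj_congr hz' c
        by_cases hx1 : x = 1
        · refine ⟨z, hpqn.trans (dvd_of_dominating e hz (fun g => ?_) m)⟩
          have : g ∈ nb x := hx1 ▸ adj_one g
          rwa [← hNz] at this
        · exfalso
          have hxz : x ∈ zpowers z := by
            have : z ∈ nb x := hNz ▸ (adj_refl z : z ∈ nb z)
            rcases this with h | h
            · exact h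
            · exact absurd (pp_dvd hk (dvd_of_mem h)) (not_not.mpr hz)
          obtain ⟨r, hr, hrn, hf⟩ := exists_incomp hz hxz hx1 fun h => hk (h ▸ hz)
          obtain ⟨f, hfm, hfo⟩ := exists_of_dvd z (Nat.ordProj_dvd (orderOf z) r)
          exact hf f hfm hfo (hNz ▸ (Or.inr hfm : f ∈ nb z) : f ∈ nb x)
    exfalso
    have hle : ∀ y ∈ dom T, y ∈ zpowers z := fun y hy => by
      rcases hy.2 z hzD.1 with h | h
      · exact h
      · have := hzmax hy (Nat.le_of_dvd (orderOf_pos y) (dvd_of_mem h))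
        rw [eq_zpowers h this]; exact mem_zpowers y
    have hcD : (dom T).ncard = n.totient + 1 := by
      rw [hdomT, Set.ncard_image_of_injective _ e.injective, hdomS,
        Set.ncard_insert_of_notMem _ (Set.toFinite _), ncard_gens]
      intro h1
      have : zpowers (1 : G) = zpowers m := h1
      have h2 := congrArg (fun K : Subgroup G => Nat.card K) this
      simp only [Nat.card_zpowers, orderOf_one] at h2
      exact hp.ne_one (Nat.dvd_one.mp ((dvd_mul_right p q).trans (h2 ▸ hpqn)))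
    have hk1 : 1 < orderOf z := by
      by_contra! hz1
      have hsub : dom T ⊆ {1} := fun y hy => by
        have h1 : orderOf z = 1 := le_antisymm hz1 (orderOf_pos z)
        exact orderOf_eq_one_iff.mp (Nat.dvd_one.mp (h1 ▸ dvd_of_mem (hle y hy)))
      have := (Set.ncard_le_ncard hsub (Set.toFinite _)).trans_eq (Set.ncard_singleton 1)
      have h0 : 0 < n.totient := Nat.totient_pos.mpr (orderOf_pos m)
      omega
    obtain ⟨P, s, hP, hs, hzo⟩ := eq_pow_of_not_npp hk1 hz
    have hadjz : ∀ a ∈ zpowers z, ∀ b ∈ zpowers z, Adj a b := fun a ha b hb => by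
      obtain ⟨i, -, hi⟩ := (Nat.dvd_prime_pow hP).mp (hzo ▸ dvd_of_mem ha)
      obtain ⟨j, -, hj⟩ := (Nat.dvd_prime_pow hP).mp (hzo ▸ dvd_of_mem hb)
      rw [adj_iff_dvd ha hb, hi, hj]
      exact (le_total i j).imp (pow_dvd_pow P) (pow_dvd_pow P)
    have hxz : x ∈ zpowers z := hle x hxD
    have hD : dom T = (zpowers z : Set H) := Set.Subset.antisymm hle fun y hy => by
      refine ⟨hT ▸ hadjz x hxz y hy, fun w hw => ?_⟩
      rcases hzD.2 w hw with h | h
      · exact Or.inl (zpowers_le.mpr h hy)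
      · exact hadjz y hy w h
    have hzc : P ^ s = n.totient + 1 := by
      rw [← hcD, hD, ← hzo, ← Nat.card_coe_set_eq]; exact (Nat.card_zpowers z).symm
    have hUz : ∀ w ∈ T \ dom T, P ^ s ∣ orderOf w := fun w hw => by
      rcases hzD.2 w hw.1 with h | h
      · exact hzo ▸ dvd_of_mem h
      · exact absurd (hD ▸ h : w ∈ dom T) hw.2
    have hclosed : ∀ (b : H) (y : H), zpowers b = zpowers y →
        (b ∈ T ↔ y ∈ T) ∧ (b ∈ dom T ↔ y ∈ dom T) := fun b y h => by
      have h1 : b ∈ T ↔ y ∈ T := by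
        rw [hT]
        exact ⟨fun hb => adj_symm ((adj_congr h x).mp (adj_symm hb)),
          fun hb => adj_symm ((adj_congr h x).mpr (adj_symm hb))⟩
      refine ⟨h1, ?_⟩
      simp only [dom, Set.mem_setOf_eq, h1, adj_congr h]
    have hrest : (P ^ s).totient ∣ n - P ^ s := by
      have := totient_dvd_ncard (T \ dom T) (P ^ s) (fun y hy y' h => ⟨(hclosed y' y h).1.mpr hy.1,
        fun h' => hy.2 ((hclosed y' y h).2.mp h')⟩) hUz
      rwa [Set.ncard_diff (fun _ h => h.1) (Set.toFinite _), hcardT, hcD, ← hzc] at this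
    have hprime : ∀ r, r.Prime → r ∣ n → (P ^ s).totient ∣ r - 1 := by
      intro r hr hrn
      obtain ⟨a, ha, hao⟩ := exists_of_dvd m hrn
      have hA := twin_eq_gens hm ha hr hao
      have hnd : a ∉ dom S := by
        rw [hdomS]
        rintro (rfl | h)
        · exact hr.ne_one (hao.symm.trans orderOf_one)
        · have hrn' : n = r := by
            rw [hn, ← Nat.card_zpowers, ← h, Nat.card_zpowers, hao]
          exact pp_of_dvd (j := 1) hr (by rw [pow_one, hrn']) hm
      have hc : (e '' {y ∈ S | ∀ w ∈ S, Adj y w ↔ Adj a w}).ncard = r - 1 := by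
        rw [Set.ncard_image_of_injective _ e.injective, hA, ncard_gens, hao, Nat.totient_prime hr]
      rw [← hc]
      refine totient_dvd_ncard _ _ ?_ ?_
      · rintro _ ⟨y, hy, rfl⟩ y' h
        obtain ⟨y'', hy'', rfl⟩ := ((hclosed y' (e y) h).1.mpr ⟨y, hy.1, rfl⟩)
        refine ⟨y'', ⟨hy'', fun w hw => ?_⟩, rfl⟩
        rw [← hy.2 w hw, ← hadj, ← hadj]
        exact adj_congr h (e w)
      · rintro _ ⟨y, hy, rfl⟩
        refine hUz _ ⟨⟨y, hy.1, rfl⟩, ?_⟩
        rw [hdomT, e.injective.mem_set_image]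
        exact fun hd => hnd ⟨ha, fun w hw => (hy.2 w hw).mp (hd.2 w hw)⟩
    rw [Nat.totient_prime_pow hP hs] at hrest hprime
    obtain ⟨a, b, ha, hb, hab, han, hbn⟩ := hm
    rcases Nat.lt_or_ge 1 s with hs2 | hs2
    · have hPd : P ∣ P ^ (s - 1) * (P - 1) :=
        Dvd.dvd.mul_right (dvd_pow_self P (by omega)) _
      have hns : P ^ s ≤ n := by
        rw [← hcardT, hzc, ← hcD]; exact Set.ncard_le_ncard (fun _ h => h.1) (Set.toFinite _)
      have hPn : P ∣ n := by
        have := (hPd.trans hrest).add (dvd_pow_self P hs.ne')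
        rwa [Nat.sub_add_cancel hns] at this
      have h2 : P ≤ P - 1 := Nat.le_of_dvd (by have := hP.two_le; omega) (hPd.trans (hprime P hP hPn))
      have := hP.two_le
      omega
    · have hs1 : s = 1 := by omega
      subst hs1
      simp only [Nat.sub_self, pow_zero, one_mul] at hprime
      rw [pow_one] at hzc
      have hall : ∀ r, r.Prime → r ∣ n → r = P := fun r hr hrn => by
        have h1 := Nat.le_of_dvd (by have := hr.two_le; omega) (hprime r hr hrn)
        have h2 : r - 1 ∣ n.totient := Nat.totient_prime hr ▸ Nat.totient_dvd_of_dvd hrn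
        have h3 : r - 1 ≤ n.totient := Nat.le_of_dvd (Nat.totient_pos.mpr (orderOf_pos m)) h2
        have := hr.two_le; have := hP.two_le
        omega
      exact hab ((hall a ha han).trans (hall b hb hbn).symm)

end Transfer

/-- Let G and H be finite groups whose power graphs are isomorphic: there is a bijection e : G → H such that, for all x, y, one of x, y is a power of the other exactly when one of e(x), e(y) is a power of the other. Then G and H have the same prime graph: for distinct primes p, q, G has an element of order pq if and only if H does. -/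
theorem result {G H : Type*} [Group G] [Finite G] [Group H] [Finite H] (e : G ≃ H)
    (he : ∀ x y : G, (x ∈ Subgroup.zpowers y ∨ y ∈ Subgroup.zpowers x) ↔
      (e x ∈ Subgroup.zpowers (e y) ∨ e y ∈ Subgroup.zpowers (e x)))
    {p q : ℕ} (hp : p.Prime) (hq : q.Prime) (hpq : p ≠ q) :
    (∃ g : G, orderOf g = p * q) ↔ (∃ h : H, orderOf h = p * q) := by
  constructor
  · rintro ⟨g, hg⟩; exact main e he hp hq hpq hg
  · rintro ⟨g, hg⟩
    refine main e.symm (fun x y => ?_) hp hq hpq hg
    have := (he (e.symm x) (e.symm y)).symm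
    simpa only [Equiv.apply_symm_apply] using this

end Cfsg.Agent.S4085
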