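import Cfsg.Statements.S4086
import Mathlib


set_option autoImplicit false
open Cfsg

namespace Cfsg.Agent.S4086

/-- For a finite group G the following are equivalent: every non-identity element has prime-power order; whenever two elements generate a cyclic subgroup, one of them is a power of the other (the enhanced power graph of G coincides with its power graph). -/
theorem result {G : Type*} [Group G] [Finite G] :
    (∀ g : G, g ≠ 1 → IsPrimePow (orderOf g)) ↔
    (∀ x y : G, IsCyclic ↥(Subgroup.closure ({x, y} : Set G)) → (x ∈ Subgroup.zpowers y ∨ y ∈ Subgroup.zpowers x)) := by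
  constructor
  · intro h x y hc
    set K := Subgroup.closure ({x, y} : Set G) with hK
    obtain ⟨c, hcgen⟩ := hc.exists_generator
    have hx : x ∈ K := Subgroup.subset_closure (by simp)
    have hy : y ∈ K := Subgroup.subset_closure (by simp)
    -- in a cyclic group a divisibility of orders gives membership
    have key : ∀ a b : K, orderOf a ∣ orderOf b → a ∈ Subgroup.zpowers b := by
      intro a b hab
      classical
      have := Fintype.ofFinite K
      have h1 := hc.card_pow_eq_one_le (orderOf_pos b)
      have h2 : (Finset.univ.filter fun z : K => z ∈ Subgroup.zpowers b) ⊆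
          Finset.univ.filter fun z : K => z ^ orderOf b = 1 := by
        intro z hz
        obtain ⟨i, rfl⟩ := (Finset.mem_filter.1 hz).2
        refine Finset.mem_filter.2 ⟨Finset.mem_univ _, ?_⟩
        show (b ^ i) ^ orderOf b = 1
        rw [← zpow_natCast, ← zpow_mul, mul_comm, zpow_mul, zpow_natCast, pow_orderOf_eq_one, one_zpow]
      have h3 : (Finset.univ.filter fun z : K => z ∈ Subgroup.zpowers b).card = orderOf b := by
        rw [← Fintype.card_subtype, ← Nat.card_eq_fintype_card, Nat.card_zpowers]
      have heq := Finset.eq_of_subset_of_card_le h2 (by rw [h3]; exact h1)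
      have ha : a ∈ Finset.univ.filter fun z : K => z ^ orderOf b = 1 := by
        simp [orderOf_dvd_iff_pow_eq_one.1 hab]
      rw [← heq] at ha
      exact (Finset.mem_filter.1 ha).2
    have hcase : orderOf (⟨x, hx⟩ : K) ∣ orderOf (⟨y, hy⟩ : K) ∨
        orderOf (⟨y, hy⟩ : K) ∣ orderOf (⟨x, hx⟩ : K) := by
      have hdx := orderOf_dvd_of_mem_zpowers (hcgen ⟨x, hx⟩)
      have hdy := orderOf_dvd_of_mem_zpowers (hcgen ⟨y, hy⟩)
      rcases eq_or_ne (c : G) 1 with hc1 | hc1
      · left
        have : orderOf c = 1 := orderOf_eq_one_iff.2 (Subtype.ext hc1)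
        rw [this, Nat.dvd_one] at hdx
        rw [hdx]; exact one_dvd _
      · obtain ⟨p, k, hp, -, hpk⟩ := h _ hc1
        rw [← Nat.prime_iff] at hp
        rw [show orderOf c = p ^ k from (Subgroup.orderOf_coe c).symm.trans hpk.symm] at hdx hdy
        obtain ⟨i, -, hi⟩ := (Nat.dvd_prime_pow hp).1 hdx
        obtain ⟨j, -, hj⟩ := (Nat.dvd_prime_pow hp).1 hdy
        rw [hi, hj]
        rcases le_total i j with hij | hij
        · exact Or.inl (pow_dvd_pow p hij)
        · exact Or.inr (pow_dvd_pow p hij)
    rcases hcase with hd | hd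
    · left
      obtain ⟨i, hi⟩ := key _ _ hd
      exact ⟨i, congrArg Subtype.val hi⟩
    · right
      obtain ⟨i, hi⟩ := key _ _ hd
      exact ⟨i, congrArg Subtype.val hi⟩
  · intro h g hg
    rw [isPrimePow_iff_unique_prime_dvd]
    obtain ⟨p, hp, hpd⟩ := Nat.exists_prime_and_dvd (fun e => hg (orderOf_eq_one_iff.1 e))
    refine ⟨p, ⟨hp, hpd⟩, ?_⟩
    rintro q ⟨hq, hqd⟩
    have hg0 := (orderOf_pos g).ne'
    set x := g ^ (orderOf g / p)
    set y := g ^ (orderOf g / q)
    have hxo : orderOf x = p := orderOf_pow_orderOf_div hg0 hpd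
    have hyo : orderOf y = q := orderOf_pow_orderOf_div hg0 hqd
    have hle : Subgroup.closure ({x, y} : Set G) ≤ Subgroup.zpowers g := by
      rw [Subgroup.closure_le]
      rintro z (rfl | rfl) <;> exact (Subgroup.zpowers g).pow_mem (Subgroup.mem_zpowers g) _
    have hcyc : IsCyclic ↥(Subgroup.closure ({x, y} : Set G)) :=
      isCyclic_of_injective (Subgroup.inclusion hle) (Subgroup.inclusion_injective hle)
    rcases h x y hcyc with hm | hm
    · have := orderOf_dvd_of_mem_zpowers hm
      rw [hxo, hyo, Nat.prime_dvd_prime_iff_eq hp hq] at this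
      exact this.symm
    · have := orderOf_dvd_of_mem_zpowers hm
      rw [hxo, hyo, Nat.prime_dvd_prime_iff_eq hq hp] at this
      exact this

end Cfsg.Agent.S4086
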