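import Cfsg.Statements.S4089
import Mathlib
import Cfsg.Agent.Lib.PGroup.Subnormalizer

set_option autoImplicit false
open Cfsg

namespace Cfsg.Agent.S4089

/-- Let G be a finite group, p a prime and H a p-subgroup of G. Then the set of elements g of G such that H is subnormal in the subgroup generated by H and g is the union of the normalizers N_G(R) over the subgroups R of G containing H with R = O_p(N_G(R)); and this set does not change when H is replaced by the intersection of all Sylow p-subgroups of G containing H. -/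
theorem result {G : Type*} [Group G] [Finite G] (p : ℕ) [Fact p.Prime]
    (H : Subgroup G) (hH : IsPGroup p H) :
    {g : G | ((H).subgroupOf (H ⊔ Subgroup.zpowers g)).IsSubnormal} =
      {g : G | ∃ R : Subgroup G, H ≤ R ∧ (Cfsg.pCore p (Subgroup.normalizer (R : Set G))).map (Subgroup.normalizer (R : Set G)).subtype = R ∧ g ∈ Subgroup.normalizer (R : Set G)} ∧
    ∀ g : G, (((H).subgroupOf (H ⊔ Subgroup.zpowers g)).IsSubnormal ↔
      (((sInf {K : Subgroup G | ∃ Q : Sylow p G, H ≤ (Q : Subgroup G) ∧ K = (Q : Subgroup G)})).subgroupOf ((sInf {K : Subgroup G | ∃ Q : Sylow p G, H ≤ (Q : Subgroup G) ∧ K = (Q : Subgroup G)}) ⊔ Subgroup.zpowers g)).IsSubnormal) := by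
  open CfsgLib.PGroup.Subnormalizer in
  refine ⟨?_, fun g => ?_⟩
  · ext g
    simp only [Set.mem_setOf_eq, sub_iff_isSubnormal hH g]
    constructor
    · intro h
      obtain ⟨R, hHR, hrad, -, -, hg⟩ := exists_radical h
      exact ⟨R, hHR, hrad, hg⟩
    · rintro ⟨R, hHR, hrad, hg⟩
      refine ⟨R, ?_, hHR, hg⟩
      rw [← hrad]
      exact (CfsgLib.Solvable.Cores.isPGroup_pCore p).map _
  · open CfsgLib.PGroup.Subnormalizer in
    show _ ↔ ((sylowHull p H).subgroupOf (sylowHull p H ⊔ Subgroup.zpowers g)).IsSubnormal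
    obtain ⟨Q0, hQ0⟩ := hH.exists_le_sylow
    open CfsgLib.PGroup.Subnormalizer in
    have hhp : IsPGroup p (sylowHull p H) := Q0.isPGroup'.to_le (sInf_le ⟨Q0, hQ0, rfl⟩)
    open CfsgLib.PGroup.Subnormalizer in
    rw [sub_iff_isSubnormal hH, sub_iff_isSubnormal hhp]
    constructor
    · intro h
      obtain ⟨R, -, -, hRp, hhull, hg⟩ := CfsgLib.PGroup.Subnormalizer.exists_radical h
      exact ⟨R, hRp, hhull, hg⟩
    · exact CfsgLib.PGroup.Subnormalizer.Sub.mono (K := CfsgLib.PGroup.Subnormalizer.sylowHull p H) (le_sInf fun K ⟨Q, hQ, hK⟩ => hK ▸ hQ)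

end Cfsg.Agent.S4089
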