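import Cfsg.Statements.S4090
import Mathlib
import Cfsg.Agent.Lib.PGroup.Subnormalizer

set_option autoImplicit false
open scoped BigOperators
open Cfsg

namespace Cfsg.Agent.S4090

theorem telescope : ∀ (n : ℕ) (T : Fin (n + 1) → ℕ) (a c : Fin n → ℕ),
    (∀ i, T i.castSucc * a i = c i * T i.succ) → T 0 * ∏ i, a i = (∏ i, c i) * T (Fin.last n) := by
  intro n
  induction n with
  | zero => intro T a c _; simp
  | succ n ih =>
    intro T a c h
    have h0 : T 0 * a 0 = c 0 * T (Fin.succ 0) := h 0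
    have h1 := ih (fun j => T j.succ) (fun i => a i.succ) (fun i => c i.succ) (fun i => by
      have := h i.succ
      rwa [← Fin.succ_castSucc] at this)
    rw [Fin.prod_univ_succ, Fin.prod_univ_succ, ← Fin.succ_last, ← mul_assoc, h0, mul_assoc,
      mul_assoc, h1]

open Subgroup in
theorem sup_eq_of_pow {G : Type*} [Group G] [Finite G] {p : ℕ} [Fact p.Prime] (P : Sylow p G)
    (A B : Subgroup G) [A.Normal] [B.Normal] (hle : A ≤ B) {m : ℕ} (hm : A.relIndex B = p ^ m) :
    (P : Subgroup G) ⊔ A = (P : Subgroup G) ⊔ B := by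
  refine le_antisymm (sup_le le_sup_left (hle.trans le_sup_right)) (sup_le le_sup_left fun b hb => ?_)
  -- the image of `b` is a `p`-element, hence lies in the image of a conjugate of `P`
  set q := QuotientGroup.mk' A
  have hqs : Function.Surjective q := QuotientGroup.mk'_surjective A
  have hBp : IsPGroup p (B.map q) := IsPGroup.of_card (n := m) (by
    rw [← hm, ← relIndex_ker, QuotientGroup.ker_mk'])
  haveI : (B.map q).Normal := Normal.map inferInstance q hqs
  have h1 := (CfsgLib.Solvable.Cores.le_pCore hBp).trans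
    (CfsgLib.Solvable.Cores.pCore_le_sylow (P.mapSurjective hqs))
  rw [Sylow.coe_mapSurjective] at h1
  have h2 := comap_mono (f := q) h1
  rw [comap_map_eq, comap_map_eq, QuotientGroup.ker_mk'] at h2
  exact h2 (mem_sup_left hb)

open Subgroup in
open scoped Classical in
theorem step_coprime {G : Type*} [Group G] [Finite G] {p : ℕ} [Fact p.Prime] (P : Sylow p G)
    (H : Subgroup G) (hH : IsPGroup p H) (A B : Subgroup G) [A.Normal] [B.Normal] (hle : A ≤ B)
    (hc : (A.relIndex B).Coprime p) :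
    Nat.card {x : G // ∀ y ∈ H, x * y * x⁻¹ ∈ (P : Subgroup G) ⊔ A} * A.relIndex B =
      Nat.card {u : G // u ∈ B ∧ ∀ h ∈ H, h * u * h⁻¹ * u⁻¹ ∈ A} / Nat.card A *
        Nat.card {x : G // ∀ y ∈ H, x * y * x⁻¹ ∈ (P : Subgroup G) ⊔ B} := by
  cases nonempty_fintype G
  set q := QuotientGroup.mk' A with hq
  let C : Subgroup G := B ⊓ (centralizer ((H.map q : Subgroup (G ⧸ A)) : Set (G ⧸ A))).comap q
  have hC : ∀ u, u ∈ C ↔ u ∈ B ∧ ∀ h ∈ H, h * u * h⁻¹ * u⁻¹ ∈ A := fun u => by
    simp only [C, mem_inf, mem_comap, mem_centralizer_iff, coe_map, Set.forall_mem_image,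
      SetLike.mem_coe]
    refine and_congr_right fun _ => forall₂_congr fun h _ => ?_
    rw [← QuotientGroup.eq_one_iff, ← QuotientGroup.mk'_apply, map_mul, map_mul, map_mul, map_inv,
      map_inv, mul_inv_eq_one, mul_inv_eq_iff_eq_mul]
  have hAC : A ≤ C := fun x hx => (hC x).mpr ⟨hle hx, fun h _ =>
    mul_mem ((inferInstance : A.Normal).conj_mem x hx h) (inv_mem hx)⟩
  obtain ⟨k, hk⟩ := card_dvd_of_le hAC
  rw [Nat.card_congr (Equiv.subtypeEquivRight fun u => (hC u).symm),
    show Nat.card {u // u ∈ C} = Nat.card A * k from hk, Nat.mul_div_cancel_left _ Nat.card_pos]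
  set XA : Finset G := Finset.univ.filter fun x : G => ∀ y ∈ H, x * y * x⁻¹ ∈ (P : Subgroup G) ⊔ A
  set XB : Finset G := Finset.univ.filter fun x : G => ∀ y ∈ H, x * y * x⁻¹ ∈ (P : Subgroup G) ⊔ B
  have hA' : Nat.card {x : G // ∀ y ∈ H, x * y * x⁻¹ ∈ (P : Subgroup G) ⊔ A} = XA.card := by
    rw [Nat.card_eq_fintype_card, Fintype.card_subtype]
  have hB' : Nat.card {x : G // ∀ y ∈ H, x * y * x⁻¹ ∈ (P : Subgroup G) ⊔ B} = XB.card := by
    rw [Nat.card_eq_fintype_card, Fintype.card_subtype]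
  have hinter : ∀ y, y ∈ (P : Subgroup G) ⊔ A → y ∈ B → y ∈ A := by
    intro y hy hyB
    have h1 : ∃ j, orderOf (q y) ∣ p ^ j := by
      obtain ⟨j, hj⟩ := (P.isPGroup'.map q).exists_card_eq
      refine ⟨j, hj ▸ orderOf_dvd_natCard _ ?_⟩
      have h2 : q y ∈ ((P : Subgroup G) ⊔ A).map q := mem_map_of_mem q hy
      rwa [Subgroup.map_sup, (map_eq_bot_iff A).mpr (le_of_eq (QuotientGroup.ker_mk' A).symm),
        sup_bot_eq] at h2
    obtain ⟨j, hj⟩ := h1
    have h2 : orderOf (q y) ∣ A.relIndex B := by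
      rw [show A.relIndex B = Nat.card (B.map q) by rw [← relIndex_ker, QuotientGroup.ker_mk']]
      exact orderOf_dvd_natCard _ (mem_map_of_mem q hyB)
    exact (QuotientGroup.eq_one_iff y).mp (orderOf_eq_one_iff.mp
      (Nat.eq_one_of_dvd_coprimes (hc.symm.pow_left j) hj h2))
  have hfib : ∀ y ∈ XB, ((XA ×ˢ Finset.univ.filter (fun u : G => u ∈ B)).filter
      fun t => t.2 * t.1 = y).card = Nat.card C := by
    intro y hy
    have hy' := (Finset.mem_filter.mp hy).2
    -- a representative in `XA`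
    obtain ⟨x0, hx0, hx0B⟩ : ∃ x0, x0 ∈ XA ∧ x0 * y⁻¹ ∈ B := by
      set L := (P : Subgroup G) ⊔ B
      have hH' : H.map (MulAut.conj y).toMonoidHom ≤ L := by
        rintro _ ⟨h, hh, rfl⟩; exact hy' h hh
      have hPL : (P : Subgroup G) ≤ L := le_sup_left
      obtain ⟨S, hS⟩ := ((hH.map (MulAut.conj y).toMonoidHom).comap_of_injective L.subtype
        L.subtype_injective).exists_le_sylow
      obtain ⟨l, hl⟩ := MulAction.exists_smul_eq L S (P.subtype hPL)
      have hl' : ((l : G)) ∈ (((P : Subgroup G) ⊔ B : Subgroup G) : Set G) := l.2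
      rw [mul_normal] at hl'
      obtain ⟨a0, ha0, b0, hb0, hab⟩ := Set.mem_mul.mp hl'
      refine ⟨b0 * y, Finset.mem_filter.mpr ⟨Finset.mem_univ _, fun h hh => mem_sup_left ?_⟩,
        by rw [mul_inv_cancel_right]; exact hb0⟩
      have h3 : (l * ⟨y * h * y⁻¹, hH' ⟨h, hh, rfl⟩⟩ * l⁻¹ : L) ∈ ((l • S : Sylow p L) : Subgroup L) :=
        ⟨_, hS (show (⟨y * h * y⁻¹, hH' ⟨h, hh, rfl⟩⟩ : L) ∈ _ from ⟨h, hh, rfl⟩), rfl⟩
      rw [hl] at h3
      have h4 : (l : G) * (y * h * y⁻¹) * (l : G)⁻¹ ∈ (P : Subgroup G) := h3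
      have h5 := mul_mem (mul_mem (inv_mem ha0) h4) ha0
      rw [← hab] at h5
      simpa [mul_assoc] using h5
    have hx0' := (Finset.mem_filter.mp hx0).2
    rw [Nat.card_eq_fintype_card (α := C), Fintype.card_subtype]
    refine Finset.card_bij' (fun t _ => x0⁻¹ * t.1) (fun c _ => (x0 * c, y * (x0 * c)⁻¹)) ?_ ?_ ?_ ?_
    · intro t ht
      simp only [Finset.mem_filter, Finset.mem_product, Finset.mem_univ, true_and, XA] at ht ⊢
      obtain ⟨⟨htA, htB⟩, hty⟩ := ht
      have hw : t.1 * x0⁻¹ ∈ B := by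
        have h1 : t.1 * y⁻¹ ∈ B := by
          rw [← hty, mul_inv_rev, mul_inv_cancel_left]; exact inv_mem htB
        have := mul_mem h1 (inv_mem hx0B)
        simpa [mul_assoc] using this
      refine (hC _).mpr ⟨?_, fun h hh => ?_⟩
      · have := (inferInstance : B.Normal).conj_mem _ hw x0⁻¹
        simpa [mul_assoc] using this
      · -- the commutator lies in `(P A) ∩ B = A`
        set u := t.1 * x0⁻¹
        have h1 : x0 * h * x0⁻¹ * u * (x0 * h * x0⁻¹)⁻¹ * u⁻¹ ∈ A := by
          refine hinter _ ?_ (mul_mem ((inferInstance : B.Normal).conj_mem u hw _) (inv_mem hw))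
          have e1 : u * (x0 * h * x0⁻¹)⁻¹ * u⁻¹ = (t.1 * h * t.1⁻¹)⁻¹ := by
            simp only [u]; group
          have := mul_mem (hx0' h hh) (inv_mem (htA h hh))
          rw [← e1] at this
          simpa [mul_assoc] using this
        have h2 := (inferInstance : A.Normal).conj_mem _ h1 x0⁻¹
        have e2 : h * (x0⁻¹ * t.1) * h⁻¹ * (x0⁻¹ * t.1)⁻¹ =
            x0⁻¹ * (x0 * h * x0⁻¹ * u * (x0 * h * x0⁻¹)⁻¹ * u⁻¹) * x0⁻¹⁻¹ := by
          simp only [u]; group
        rw [e2]; exact h2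
    · intro c hc'
      simp only [Finset.mem_filter, Finset.mem_product, Finset.mem_univ, true_and, XA] at hc' ⊢
      obtain ⟨hcB, hcA⟩ := (hC c).mp hc'
      refine ⟨⟨fun h hh => ?_, ?_⟩, inv_mul_cancel_right _ _⟩
      · have e : x0 * c * h * (x0 * c)⁻¹ =
            (x0 * (h * c * h⁻¹ * c⁻¹)⁻¹ * x0⁻¹) * (x0 * h * x0⁻¹) := by group
        rw [e]
        exact mul_mem (mem_sup_right ((inferInstance : A.Normal).conj_mem _ (inv_mem (hcA h hh)) x0))
          (hx0' h hh)
      · have h1 := mul_mem ((inferInstance : B.Normal).conj_mem c hcB x0) hx0B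
        rw [show y * (x0 * c)⁻¹ = ((x0 * c * x0⁻¹) * (x0 * y⁻¹))⁻¹ by group]
        exact inv_mem h1
    · intro t ht
      simp only [Finset.mem_filter, Finset.mem_product] at ht
      refine Prod.ext (mul_inv_cancel_left x0 t.1) ?_
      show y * (x0 * (x0⁻¹ * t.1))⁻¹ = t.2
      rw [mul_inv_cancel_left, ← ht.2, mul_inv_cancel_right]
    · intro c _; exact inv_mul_cancel_left x0 c
  have hsum : (XA ×ˢ Finset.univ.filter (fun u : G => u ∈ B)).card = XB.card * Nat.card C := by
    rw [Finset.card_eq_sum_card_fiberwise (f := fun t => t.2 * t.1) (t := XB),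
      Finset.sum_congr rfl hfib, Finset.sum_const, smul_eq_mul]
    intro t ht
    simp only [Finset.coe_product, Set.mem_prod, Finset.mem_coe, Finset.mem_filter, Finset.mem_univ,
      true_and, XA] at ht
    refine Finset.mem_filter.mpr ⟨Finset.mem_univ _, fun y hy => ?_⟩
    have h1 : t.1 * y * t.1⁻¹ ∈ (P : Subgroup G) ⊔ B := (sup_le_sup_left hle _) (ht.1 y hy)
    rw [show t.2 * t.1 * y * (t.2 * t.1)⁻¹ = t.2 * (t.1 * y * t.1⁻¹) * t.2⁻¹ by group]
    exact mul_mem (mul_mem (mem_sup_right ht.2) h1) (inv_mem (mem_sup_right ht.2))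
  have hBc : (Finset.univ.filter fun u : G => u ∈ B).card = Nat.card A * A.relIndex B := by
    rw [← Fintype.card_subtype, ← Nat.card_eq_fintype_card,
      ← Nat.card_congr (subgroupOfEquivOfLe hle).toEquiv, relIndex, card_mul_index]
  rw [Finset.card_product, hBc, hk] at hsum
  rw [hA', hB']
  refine Nat.eq_of_mul_eq_mul_left (Nat.card_pos (α := A)) ?_
  linarith

/-- Let G be a finite p-solvable group, H a p-subgroup of G and P a Sylow p-subgroup, and fix a chain of normal subgroups 1 = M₀ ≤ M₁ ≤ ⋯ ≤ Mₙ = G of G each of whose factors is a p-group or a p'-group. Then the number of elements g of G such that H is subnormal in the subgroup generated by H and g equals the order of P times the product, over the factors Mᵢ₊₁/Mᵢ of order prime to p, of the order of the centralizer of H in Mᵢ₊₁/Mᵢ (counted as the number of u ∈ Mᵢ₊₁ with [h, u] ∈ Mᵢ for all h ∈ H, divided by the order of Mᵢ). -/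
theorem result {G : Type*} [Group G] [Finite G] (p : ℕ) [Fact p.Prime]
    (hG : Cfsg.IsPSolvable p G) (H : Subgroup G) (hH : IsPGroup p H) (P : Sylow p G)
    (n : ℕ) (M : Fin (n + 1) → Subgroup G) (h0 : M 0 = ⊥) (hn : M (Fin.last n) = ⊤) (hmono : Monotone M)
    (hnormal : ∀ i, (M i).Normal)
    (hfac : ∀ i : Fin n, (∃ m : ℕ, (M i.castSucc).relIndex (M i.succ) = p ^ m) ∨ ((M i.castSucc).relIndex (M i.succ)).Coprime p) :
    Nat.card {g : G // ((H).subgroupOf (H ⊔ Subgroup.zpowers g)).IsSubnormal} =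
      Nat.card (P : Subgroup G) *
        ∏ i : Fin n, (if ((M i.castSucc).relIndex (M i.succ)).Coprime p then
          Nat.card {u : G // u ∈ M i.succ ∧ ∀ h ∈ H, h * u * h⁻¹ * u⁻¹ ∈ M i.castSucc} / Nat.card (M i.castSucc)
          else 1) := by
  classical
  have hpp : p.Prime := Fact.out
  let T : Fin (n + 1) → ℕ := fun j =>
    Nat.card {x : G // ∀ y ∈ H, x * y * x⁻¹ ∈ (P : Subgroup G) ⊔ M j}
  let a : Fin n → ℕ := fun i =>
    if ((M i.castSucc).relIndex (M i.succ)).Coprime p then (M i.castSucc).relIndex (M i.succ) else 1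
  let c : Fin n → ℕ := fun i =>
    if ((M i.castSucc).relIndex (M i.succ)).Coprime p then
      Nat.card {u : G // u ∈ M i.succ ∧ ∀ h ∈ H, h * u * h⁻¹ * u⁻¹ ∈ M i.castSucc} /
        Nat.card (M i.castSucc)
      else 1
  have hstep : ∀ i : Fin n, T i.castSucc * a i = c i * T i.succ := by
    intro i
    have := hnormal i.castSucc
    have := hnormal i.succ
    have hle : M i.castSucc ≤ M i.succ := hmono (Fin.castSucc_le_succ i)
    simp only [a, c]
    split_ifs with hcp
    · exact step_coprime P H hH (M i.castSucc) (M i.succ) hle hcp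
    · obtain ⟨m, hm⟩ := (hfac i).resolve_right hcp
      rw [mul_one, one_mul]
      show Nat.card _ = Nat.card _
      rw [sup_eq_of_pow P (M i.castSucc) (M i.succ) hle hm]
  have h1 := telescope n T a c hstep
  -- the index product
  let A : Fin (n + 1) → ℕ := fun j => Nat.card (M j)
  have h2 := telescope n A (fun i => (M i.castSucc).relIndex (M i.succ)) (fun _ => 1) fun i => by
    show Nat.card (M i.castSucc) * _ = 1 * Nat.card (M i.succ)
    rw [one_mul, ← Nat.card_congr (Subgroup.subgroupOfEquivOfLe (hmono (Fin.castSucc_le_succ i))).toEquiv]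
    exact Subgroup.card_mul_index _
  have hA0 : A 0 = 1 := by
    show Nat.card (M 0) = 1
    rw [h0, Subgroup.card_bot]
  have hAn : A (Fin.last n) = Nat.card G := by
    show Nat.card (M (Fin.last n)) = _
    rw [hn, Subgroup.card_top]
  rw [hA0, hAn, one_mul, Finset.prod_const_one, one_mul] at h2
  have hsplit : Nat.card G =
      (∏ i, a i) * ∏ i : Fin n, (if ((M i.castSucc).relIndex (M i.succ)).Coprime p then 1
        else (M i.castSucc).relIndex (M i.succ)) := by
    rw [← h2, ← Finset.prod_mul_distrib]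
    refine Finset.prod_congr rfl fun i _ => ?_
    simp only [a]
    split_ifs <;> simp
  have hco : (∏ i, a i).Coprime p := Nat.Coprime.prod_left fun i _ => by
    simp only [a]
    split_ifs with h
    · exact h
    · exact Nat.coprime_one_left p
  have hP : Nat.card (P : Subgroup G) * ∏ i, a i = Nat.card G := by
    have hpow : ∃ m, (∏ i : Fin n, (if ((M i.castSucc).relIndex (M i.succ)).Coprime p then 1
        else (M i.castSucc).relIndex (M i.succ))) = p ^ m := by
      refine Finset.prod_induction _ (fun x => ∃ m, x = p ^ m)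
        (fun x y ⟨u, hu⟩ ⟨v, hv⟩ => ⟨u + v, by rw [hu, hv, pow_add]⟩) ⟨0, rfl⟩ fun i _ => ?_
      split_ifs with h
      · exact ⟨0, rfl⟩
      · exact (hfac i).resolve_right h
    obtain ⟨m, hm⟩ := hpow
    rw [hm] at hsplit
    rw [P.card_eq_multiplicity]
    have hv : (Nat.card G).factorization p = m := by
      rw [hsplit, Nat.factorization_mul_of_coprime (Nat.Coprime.pow_right m hco)]
      rw [Finsupp.add_apply, Nat.factorization_eq_zero_of_not_dvd, hpp.factorization_pow,
        Finsupp.single_eq_same, zero_add]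
      exact fun hd => hpp.coprime_iff_not_dvd.mp hco.symm hd
    rw [hv, hsplit, mul_comm]
  have hT0 : T 0 = Nat.card {g : G // ((H).subgroupOf (H ⊔ Subgroup.zpowers g)).IsSubnormal} := by
    rw [Nat.card_congr (Equiv.subtypeEquivRight fun g =>
      CfsgLib.PGroup.Subnormalizer.sub_iff_isSubnormal hH g)]
    have h3 : (Nat.card {g : G // CfsgLib.PGroup.Subnormalizer.Sub p H g} : ℤ) = _ :=
      CfsgLib.PGroup.Subnormalizer.card_sub _ G P H hH rfl
    have h4 := CfsgLib.PGroup.Subnormalizer.card_conj_into P H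
    rw [← Nat.cast_mul, ← h4] at h3
    show Nat.card _ = _
    rw [h0, sup_bot_eq]
    exact_mod_cast h3.symm
  have hTn : T (Fin.last n) = Nat.card G := by
    show Nat.card _ = _
    rw [hn, sup_top_eq]
    exact Nat.card_congr (Equiv.subtypeUnivEquiv fun x y _ => Subgroup.mem_top _)
  rw [hT0, hTn, ← hP, ← mul_assoc, mul_comm (∏ i, c i)] at h1
  exact Nat.eq_of_mul_eq_mul_right (Nat.pos_of_ne_zero fun e => by
    rw [e, mul_zero] at hP; exact Nat.card_pos.ne hP) h1

end Cfsg.Agent.S4090
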