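import Cfsg.Statements.S4092
import Cfsg.Agent.Lib.PGroup.CountPElements

set_option autoImplicit false
open Cfsg

namespace Cfsg.Agent.S4092

/-- Let G be a finite group, p a prime and P a Sylow p-subgroup of G that is not normal in G. Then G has at least p·#P elements of p-power order (the identity included). -/
theorem result {G : Type*} [Group G] [Finite G] (p : ℕ) [Fact p.Prime]
    (P : Sylow p G) (hP : ¬ (P : Subgroup G).Normal) :
    p * Nat.card (P : Subgroup G) ≤ Nat.card {g : G // ∃ k : ℕ, orderOf g = p ^ k} := by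
  have hp : p.Prime := Fact.out
  obtain ⟨n, hn⟩ := IsPGroup.iff_card.1 P.isPGroup'
  set u := Nat.card {g : G // ∃ k : ℕ, orderOf g = p ^ k} with hu
  have hd : Nat.card (P : Subgroup G) ∣ u := hn ▸
    CfsgLib.PGroup.CountPElements.pow_dvd_card (hn ▸ Subgroup.card_subgroup_dvd_card (P : Subgroup G))
  obtain ⟨k, hk⟩ := hd
  have hle : ∀ Q : Sylow p G, ∀ x ∈ (Q : Subgroup G), ∃ j : ℕ, orderOf x = p ^ j := fun Q x hx =>
    CfsgLib.PGroup.Basic.exists_orderOf_eq_pow_of_mem Q.isPGroup' hx
  have hk1 : 2 ≤ k := by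
    by_contra hlt
    apply hP
    let f : ↥(P : Subgroup G) → {g : G // ∃ k : ℕ, orderOf g = p ^ k} := fun x => ⟨x, hle P x x.2⟩
    have hinj : Function.Injective f := fun x y h => Subtype.ext (congrArg Subtype.val h :)
    have hle' : u ≤ Nat.card (P : Subgroup G) :=
      hk ▸ (Nat.mul_le_mul_left _ (by omega)).trans (mul_one _).le
    have hb := (Nat.bijective_iff_injective_and_card f).2
      ⟨hinj, le_antisymm (Nat.card_le_card_of_injective f hinj) hle'⟩
    refine ⟨fun x hx g => ?_⟩
    obtain ⟨j, hj⟩ := hle P x hx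
    obtain ⟨z, hz⟩ := hb.2 ⟨g * x * g⁻¹, j, by
      rw [show g * x * g⁻¹ = MulAut.conj g x from rfl, MulEquiv.orderOf_eq, hj]⟩
    rw [← show (z : G) = g * x * g⁻¹ from congrArg Subtype.val hz]
    exact z.2
  have hmod : k ≡ 1 [MOD p - 1] := by
    have h := CfsgLib.PGroup.CountPElements.card_modEq_one (p := p) (G := G)
    rw [← hu, hk, hn] at h
    have h2 : p ^ n * k ≡ 1 * k [MOD p - 1] := by
      refine Nat.ModEq.mul_right k ?_
      conv_rhs => rw [← one_pow n]
      refine Nat.ModEq.pow n ?_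
      conv_lhs => rw [← Nat.sub_add_cancel hp.one_le]
      exact Nat.add_modEq_left
    rw [one_mul] at h2
    exact h2.symm.trans h
  have hpk : p ≤ k := by
    have := Nat.le_of_dvd (by omega) ((Nat.modEq_iff_dvd' (by omega)).1 hmod.symm)
    omega
  rw [hk, mul_comm]
  exact Nat.mul_le_mul_left _ hpk

end Cfsg.Agent.S4092
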