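import Cfsg.Statements.S4093
import Cfsg.Agent.Lib.PGroup.Basic

set_option autoImplicit false
open scoped BigOperators
open Cfsg

namespace Cfsg.Agent.S4093

/-- Let G be a finite group with a normal subgroup N complementing a Sylow p-subgroup P (a normal p-complement). Then the number of elements of G of p-power order equals the sum over x ∈ P of the index of C_N(x) in N. -/
theorem result {G : Type*} [Group G] [Finite G] (p : ℕ) [Fact p.Prime]
    (P : Sylow p G) (N : Subgroup G) [N.Normal] (hNP : N.IsComplement' (P : Subgroup G)) :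
    Nat.card {g : G // ∃ k : ℕ, orderOf g = p ^ k} =
      ∑ᶠ x : (P : Subgroup G), Nat.card N / Nat.card ↥(N ⊓ Subgroup.centralizer ({(x : G)} : Set G)) := by
  classical
  have := Fintype.ofFinite (P : Subgroup G)
  have hcls : ∀ x : (P : Subgroup G), Nat.card {y : G // ∃ n ∈ N, n * x * n⁻¹ = y} =
      Nat.card N / Nat.card ↥(N ⊓ Subgroup.centralizer ({(x : G)} : Set G)) := by
    intro x
    letI : MulAction N G := MulAction.compHom G ((MulAut.conj (G := G)).comp N.subtype)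
    have hsmul : ∀ (n : N) (z : G), n • z = n * z * (n : G)⁻¹ := fun n z => rfl
    have horb : {y : G | ∃ n ∈ N, n * x * n⁻¹ = y} = MulAction.orbit N (x : G) := by
      ext y
      exact ⟨fun ⟨n, hn, h⟩ => ⟨⟨n, hn⟩, h⟩, fun ⟨n, h⟩ => ⟨n, n.2, h⟩⟩
    have hstab : MulAction.stabilizer N (x : G) =
        (Subgroup.centralizer ({(x : G)} : Set G)).subgroupOf N := by
      ext n
      rw [MulAction.mem_stabilizer_iff, hsmul, Subgroup.mem_subgroupOf,
        Subgroup.mem_centralizer_singleton_iff, mul_inv_eq_iff_eq_mul]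
    have hc : Nat.card ↥(N ⊓ Subgroup.centralizer ({(x : G)} : Set G)) =
        Nat.card ((Subgroup.centralizer ({(x : G)} : Set G)).subgroupOf N) := by
      rw [← Subgroup.inf_subgroupOf_left]
      exact (Nat.card_congr (Subgroup.subgroupOfEquivOfLe inf_le_left).toEquiv).symm
    rw [hc, ← hstab]
    refine (Nat.div_eq_of_eq_mul_left Nat.card_pos ?_).symm
    rw [← (MulAction.stabilizer N (x : G)).index_mul_card, MulAction.index_stabilizer, ← horb,
      ← Nat.card_coe_set_eq]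
    rfl
  rw [finsum_eq_sum_of_fintype, ← Finset.sum_congr rfl (fun x _ => hcls x), ← Nat.card_sigma]
  symm
  refine Nat.card_congr (Equiv.ofBijective (fun z => ⟨z.2.1, ?_⟩) ⟨?_, ?_⟩)
  · obtain ⟨n, -, hn⟩ := z.2.2
    obtain ⟨k, hk⟩ := CfsgLib.PGroup.Basic.exists_orderOf_eq_pow_of_mem P.isPGroup' z.1.2
    refine ⟨k, ?_⟩
    rw [← hn, show n * (z.1 : G) * n⁻¹ = MulAut.conj n (z.1 : G) from rfl, MulEquiv.orderOf_eq, hk]
  · rintro ⟨x, y, n, hn, hy⟩ ⟨x', y', n', hn', hy'⟩ h
    obtain rfl : y = y' := congrArg Subtype.val h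
    suffices hxx : x = x' by subst hxx; rfl
    have h1 : ((x : G) : G ⧸ N) = (x' : G) := by
      have e1 : ((n * x * n⁻¹ : G) : G ⧸ N) = (x : G) := by
        simp [(QuotientGroup.eq_one_iff n).2 hn]
      have e2 : ((n' * x' * n'⁻¹ : G) : G ⧸ N) = (x' : G) := by
        simp [(QuotientGroup.eq_one_iff n').2 hn']
      rw [← e1, ← e2, hy, hy']
    rw [QuotientGroup.eq] at h1
    exact inv_mul_eq_one.1 (Subtype.ext ((Subgroup.disjoint_def.1 hNP.disjoint) h1
      ((P : Subgroup G).mul_mem ((P : Subgroup G).inv_mem x.2) x'.2)))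
  · rintro ⟨g, hg⟩
    obtain ⟨Q, hQ⟩ := CfsgLib.PGroup.Basic.mem_sylow_of_orderOf hg
    obtain ⟨c, hc⟩ := MulAction.exists_smul_eq G P Q
    rw [← hc, Sylow.coe_subgroup_smul, Subgroup.mem_smul_pointwise_iff_exists] at hQ
    obtain ⟨z, hz, hzg⟩ := hQ
    obtain ⟨⟨⟨n, hn⟩, ⟨π, hπ⟩⟩, hnπ⟩ := hNP.surjective c
    have hnπ' : n * π = c := hnπ
    refine ⟨⟨⟨π * z * π⁻¹, (P : Subgroup G).mul_mem ((P : Subgroup G).mul_mem hπ hz)
      ((P : Subgroup G).inv_mem hπ)⟩, ⟨g, n, hn, ?_⟩⟩, rfl⟩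
    rw [← hzg, ← hnπ']
    simp [MulAut.conj_apply, mul_assoc]

end Cfsg.Agent.S4093
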