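import Cfsg.Statements.S4104
import Cfsg.Agent.Lib.PGroup.PiClassHall

set_option autoImplicit false
open Cfsg

namespace Cfsg.Agent.S4104

/-- Let G be a finite group, π a set of primes with least member p, m the π-part of the order of G and k the number of conjugacy classes of G consisting of π-elements (elements whose order is divisible only by primes in π). If k > m/p, then G has a nilpotent Hall π-subgroup (a nilpotent subgroup of order m) whose derived subgroup has order at most p. -/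
theorem result {G : Type*} [Group G] [Finite G]
    (π : Set ℕ) (hπ : ∀ q ∈ π, q.Prime) (p : ℕ) (hp : p ∈ π) (hmin : ∀ q ∈ π, p ≤ q)
    (m : ℕ) (hm : m ∣ Nat.card G) (hmπ : ∀ q : ℕ, q.Prime → q ∣ m → q ∈ π)
    (hm' : ∀ q ∈ π, ¬ q ∣ Nat.card G / m)
    (k : ℕ) (hk : k = Nat.card {C : ConjClasses G // ∀ q : ℕ, q.Prime → (∃ g : G, ConjClasses.mk g = C ∧ q ∣ orderOf g) → q ∈ π})
    (hmany : m < p * k) :
    ∃ H : Subgroup G, Nat.card H = m ∧ Group.IsNilpotent H ∧ Nat.card (commutator H) ≤ p := by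
  obtain ⟨H, hH, hHm, hd⟩ := CfsgLib.PGroup.PiClassHall.main hπ hp hmin hm hmπ hm' hk hmany
  refine ⟨H, hHm, hH, ?_⟩
  have hd0 : 0 < Nat.card (commutator H) := Nat.card_pos
  have hm0 : 0 < m := hHm ▸ Nat.card_pos
  have hp2 := (hπ p hp).two_le
  generalize Nat.card (commutator H) = d at hd hd0
  by_contra hlt
  obtain ⟨p', rfl⟩ : ∃ p', p = p' + 2 := ⟨p - 2, by omega⟩
  obtain ⟨d', rfl⟩ : ∃ d', d = p' + 3 + d' := ⟨d - (p' + 3), by omega⟩
  have e : (p' + 2) ^ 2 - 1 = (p' + 1) * (p' + 3) := by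
    rw [Nat.sub_eq_iff_eq_add (Nat.one_le_pow _ _ (by omega))]; ring
  rw [e] at hd
  have h1 : m * ((p' + 1) * (p' + 3) + (p' + 3 + d')) ≤ m * ((p' + 2) * (p' + 3 + d')) := by
    refine Nat.mul_le_mul_left _ ?_; nlinarith
  have h2 := Nat.mul_lt_mul_of_pos_left hmany (Nat.mul_pos (by omega : 0 < p' + 2) hd0)
  nlinarith

end Cfsg.Agent.S4104
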