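import Cfsg.Statements.S4105
import Cfsg.Agent.Lib.PGroup.PiClassHall

set_option autoImplicit false
open Cfsg

namespace Cfsg.Agent.S4105

/-- Let G be a finite group, π a set of primes with least member p, m the π-part of the order of G and k the number of conjugacy classes of G consisting of π-elements. If k > m·(p² + p − 1)/p³, then G has an abelian Hall π-subgroup (an abelian subgroup of order m). -/
theorem result {G : Type*} [Group G] [Finite G]
    (π : Set ℕ) (hπ : ∀ q ∈ π, q.Prime) (p : ℕ) (hp : p ∈ π) (hmin : ∀ q ∈ π, p ≤ q)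
    (m : ℕ) (hm : m ∣ Nat.card G) (hmπ : ∀ q : ℕ, q.Prime → q ∣ m → q ∈ π)
    (hm' : ∀ q ∈ π, ¬ q ∣ Nat.card G / m)
    (k : ℕ) (hk : k = Nat.card {C : ConjClasses G // ∀ q : ℕ, q.Prime → (∃ g : G, ConjClasses.mk g = C ∧ q ∣ orderOf g) → q ∈ π})
    (hmany : m * (p ^ 2 + p - 1) < p ^ 3 * k) :
    ∃ H : Subgroup G, Nat.card H = m ∧ IsMulCommutative H := by
  have hp2 := (hπ p hp).two_le
  have hmk : m < p * k := by
    have h1 : p ^ 2 * m < p ^ 2 * (p * k) :=
      calc p ^ 2 * m ≤ m * (p ^ 2 + p - 1) := by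
            rw [mul_comm]; exact Nat.mul_le_mul_left _ (by omega)
        _ < p ^ 3 * k := hmany
        _ = _ := by ring
    exact Nat.lt_of_mul_lt_mul_left h1
  obtain ⟨H, -, hHm, hd⟩ := CfsgLib.PGroup.PiClassHall.main hπ hp hmin hm hmπ hm' hk hmk
  refine ⟨H, hHm, ?_⟩
  have hone : Nat.card (commutator H) = 1 := by
    by_contra hne
    have hpd : p ≤ Nat.card (commutator H) := by
      refine (hmin _ (hmπ _ (Nat.minFac_prime hne) ?_)).trans (Nat.minFac_le Nat.card_pos)
      exact hHm ▸ (Nat.minFac_dvd _).trans (Subgroup.card_subgroup_dvd_card _)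
    have hd0 : 0 < Nat.card (commutator H) := Nat.card_pos
    generalize Nat.card (commutator H) = d at hd hpd hd0
    obtain ⟨p', rfl⟩ : ∃ p', p = p' + 2 := ⟨p - 2, by omega⟩
    obtain ⟨d', rfl⟩ : ∃ d', d = p' + 2 + d' := ⟨d - (p' + 2), by omega⟩
    have e : (p' + 2) ^ 2 - 1 = (p' + 1) * (p' + 3) := by
      rw [Nat.sub_eq_iff_eq_add (Nat.one_le_pow _ _ (by omega))]; ring
    have e2 : (p' + 2) ^ 2 + (p' + 2) - 1 = (p' + 1) * (p' + 3) + (p' + 2) := by
      rw [← e]; have := Nat.one_le_pow 2 (p' + 2) (by omega); omega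
    rw [e] at hd
    rw [e2] at hmany
    have h1 : (p' + 2) * ((p' + 1) * (p' + 3) + (p' + 2 + d')) ≤
        ((p' + 1) * (p' + 3) + (p' + 2)) * (p' + 2 + d') := by nlinarith
    have h2 := Nat.mul_lt_mul_of_pos_right hmany hd0
    nlinarith [Nat.mul_le_mul_left m h1]
  rw [Subgroup.card_eq_one] at hone
  refine ⟨⟨fun a b => ?_⟩⟩
  have h : a * b * a⁻¹ * b⁻¹ ∈ commutator H := Subgroup.commutator_mem_commutator (Subgroup.mem_top a) (Subgroup.mem_top b)
  rw [hone, Subgroup.mem_bot] at h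
  calc a * b = a * b * a⁻¹ * b⁻¹ * (b * a) := by group
    _ = b * a := by rw [h, one_mul]

end Cfsg.Agent.S4105
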