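import Cfsg.Statements.S4106
import Cfsg.Agent.Lib.PGroup.Basic

set_option autoImplicit false
open Cfsg

namespace Cfsg.Agent.S4106

/-- Every element all of whose order's prime divisors lie in `s` is conjugate in `K` into a set
of at most `∏ q ∈ s, #G_q` representatives. -/
theorem aux {G : Type*} [Group G] [Finite G] (s : Finset ℕ) (hs : ∀ q ∈ s, q.Prime) :
    ∀ K : Subgroup G, ∃ T : Finset G, T.card ≤ ∏ q ∈ s, q ^ (Nat.card G).factorization q ∧
      ∀ x ∈ K, (∀ q : ℕ, q.Prime → q ∣ orderOf x → q ∈ s) → ∃ k ∈ K, k * x * k⁻¹ ∈ T := by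
  classical
  induction s using Finset.induction_on with
  | empty =>
    intro K
    refine ⟨{1}, by simp, fun x hx h => ⟨1, K.one_mem, ?_⟩⟩
    rcases eq_or_ne (orderOf x) 1 with h1 | h1
    · simp [orderOf_eq_one_iff.1 h1]
    · obtain ⟨q, hq, hqd⟩ := Nat.exists_prime_and_dvd h1
      exact absurd (h q hq hqd) (Finset.notMem_empty q)
  | insert p s hps ih =>
    intro K
    have hp : p.Prime := hs p (Finset.mem_insert_self _ _)
    have : Fact p.Prime := ⟨hp⟩
    obtain ⟨P⟩ := (inferInstance : Nonempty (Sylow p K))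
    choose T hTc hT using fun K' : Subgroup G =>
      ih (fun q hq => hs q (Finset.mem_insert_of_mem hq)) K'
    have := Fintype.ofFinite (P : Subgroup K)
    refine ⟨Finset.univ.biUnion fun u : (P : Subgroup K) =>
      (T (K ⊓ Subgroup.centralizer {((u : K) : G)})).image (fun t => ((u : K) : G) * t), ?_, ?_⟩
    · refine Finset.card_biUnion_le.trans ((Finset.sum_le_card_nsmul _ _ _
        fun u _ => Finset.card_image_le.trans (hTc _)).trans ?_)
      rw [smul_eq_mul, Finset.prod_insert hps, Finset.card_univ]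
      refine Nat.mul_le_mul_right _ (Nat.le_of_dvd (pow_pos hp.pos _) ?_)
      rw [← Nat.card_eq_fintype_card]
      obtain ⟨n, hn⟩ := IsPGroup.iff_card.1 P.isPGroup'
      rw [hn, Nat.pow_dvd_pow_iff_le_right hp.one_lt,
        ← hp.pow_dvd_iff_le_factorization Nat.card_pos.ne', ← hn]
      exact (Subgroup.card_subgroup_dvd_card _).trans (Subgroup.card_subgroup_dvd_card K)
    · intro x hx hord
      obtain ⟨a, b, hb, hab⟩ := Nat.exists_eq_pow_mul_and_not_dvd (orderOf_pos x).ne' p hp.one_lt.ne'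
      have hcop : Nat.Coprime (p ^ a) b := Nat.Coprime.pow_left a (hp.coprime_iff_not_dvd.2 hb)
      -- the p-part and the p'-part of x
      set i := Nat.gcdA (p ^ a) b
      set j := Nat.gcdB (p ^ a) b
      have hbez : ((p ^ a : ℕ) : ℤ) * i + (b : ℤ) * j = 1 := by
        rw [← Nat.gcd_eq_gcd_ab, hcop.gcd_eq_one]; norm_num
      set u := x ^ ((b : ℤ) * j) with hu
      set v := x ^ (((p ^ a : ℕ) : ℤ) * i) with hv
      have huv : u * v = x := by rw [hu, hv, ← zpow_add, add_comm, hbez, zpow_one]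
      have huo : u ^ (p ^ a) = 1 := by
        rw [hu, ← zpow_natCast, ← zpow_mul,
          show (b : ℤ) * j * ((p ^ a : ℕ) : ℤ) = ((orderOf x : ℕ) : ℤ) * j by rw [hab]; push_cast; ring,
          zpow_mul, zpow_natCast, pow_orderOf_eq_one, one_zpow]
      have hvo : v ^ b = 1 := by
        rw [hv, ← zpow_natCast, ← zpow_mul,
          show ((p ^ a : ℕ) : ℤ) * i * (b : ℤ) = ((orderOf x : ℕ) : ℤ) * i by rw [hab]; push_cast; ring,
          zpow_mul, zpow_natCast, pow_orderOf_eq_one, one_zpow]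
      have huK : u ∈ K := K.zpow_mem hx _
      have hvK : v ∈ K := K.zpow_mem hx _
      -- move the p-part into P
      obtain ⟨k₁, hk₁⟩ : ∃ k : K, k * ⟨u, huK⟩ * k⁻¹ ∈ (P : Subgroup K) := by
        obtain ⟨Q, hQ⟩ := CfsgLib.PGroup.Basic.mem_sylow_of_orderOf (p := p) (x := (⟨u, huK⟩ : K))
          (CfsgLib.PGroup.Basic.exists_orderOf_eq_pow_of_pow_eq_one (k := a) (Subtype.ext huo))
        obtain ⟨c, hc⟩ := MulAction.exists_smul_eq K Q P
        refine ⟨c, ?_⟩
        rw [← hc, Sylow.coe_subgroup_smul]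
        exact Subgroup.smul_mem_pointwise_smul _ (MulAut.conj c) _ hQ
      set u' : (P : Subgroup K) := ⟨_, hk₁⟩ with hu'
      set v' := (k₁ : G) * v * (k₁ : G)⁻¹ with hv'
      have hu'v : ((u' : K) : G) = (k₁ : G) * u * (k₁ : G)⁻¹ := by simp [hu']
      have hmem : v' ∈ K ⊓ Subgroup.centralizer {((u' : K) : G)} := by
        refine Subgroup.mem_inf.2 ⟨K.mul_mem (K.mul_mem k₁.2 hvK) (K.inv_mem k₁.2), ?_⟩
        rw [Subgroup.mem_centralizer_singleton_iff, hu'v, hv']
        have : v * u = u * v := by rw [hu, hv, ← zpow_add, ← zpow_add, add_comm]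
        calc (k₁ : G) * v * (k₁ : G)⁻¹ * ((k₁ : G) * u * (k₁ : G)⁻¹)
            = (k₁ : G) * (v * u) * (k₁ : G)⁻¹ := by group
          _ = (k₁ : G) * (u * v) * (k₁ : G)⁻¹ := by rw [this]
          _ = (k₁ : G) * u * (k₁ : G)⁻¹ * ((k₁ : G) * v * (k₁ : G)⁻¹) := by group
      obtain ⟨k₂, hk₂, hk₂T⟩ := hT _ v' hmem (by
        intro q hq hqd
        have h1 : q ∣ orderOf v := by
          rwa [hv', show (k₁ : G) * v * (k₁ : G)⁻¹ = MulAut.conj (k₁ : G) v from rfl,
            MulEquiv.orderOf_eq] at hqd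
        have h2 : q ∣ b := h1.trans (orderOf_dvd_of_pow_eq_one hvo)
        rcases Finset.mem_insert.1 (hord q hq (hab ▸ h2.trans (dvd_mul_left b _))) with rfl | h
        · exact absurd h2 hb
        · exact h)
      obtain ⟨hk₂K, hk₂C⟩ := Subgroup.mem_inf.1 hk₂
      rw [Subgroup.mem_centralizer_singleton_iff] at hk₂C
      refine ⟨k₂ * k₁, K.mul_mem hk₂K k₁.2, Finset.mem_biUnion.2 ⟨u', Finset.mem_univ _,
        Finset.mem_image.2 ⟨_, hk₂T, ?_⟩⟩⟩
      calc ((u' : K) : G) * (k₂ * v' * k₂⁻¹)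
          = (k₂ * ((u' : K) : G) * k₂⁻¹) * (k₂ * v' * k₂⁻¹) := by
            rw [hk₂C, mul_inv_cancel_right]
        _ = k₂ * k₁ * (u * v) * (k₂ * k₁)⁻¹ := by rw [hu'v, hv']; group
        _ = k₂ * k₁ * x * (k₂ * k₁)⁻¹ := by rw [huv]

/-- Let G be a finite group, π a set of primes and m the π-part of the order of G. Then the number of conjugacy classes of G consisting of π-elements (elements whose order is divisible only by primes in π) is at most m. -/
theorem result {G : Type*} [Group G] [Finite G]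
    (π : Set ℕ) (hπ : ∀ q ∈ π, q.Prime)
    (m : ℕ) (hm : m ∣ Nat.card G) (hmπ : ∀ q : ℕ, q.Prime → q ∣ m → q ∈ π)
    (hm' : ∀ q ∈ π, ¬ q ∣ Nat.card G / m) :
    Nat.card {C : ConjClasses G // ∀ q : ℕ, q.Prime → (∃ g : G, ConjClasses.mk g = C ∧ q ∣ orderOf g) → q ∈ π} ≤ m := by
  classical
  have hG0 : Nat.card G ≠ 0 := Nat.card_pos.ne'
  have hm0 : m ≠ 0 := fun h => hG0 (Nat.eq_zero_of_zero_dvd (h ▸ hm))
  obtain ⟨T, hT, hTall⟩ := aux m.primeFactors (fun q hq => Nat.prime_of_mem_primeFactors hq)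
    (⊤ : Subgroup G)
  have hprod : ∏ q ∈ m.primeFactors, q ^ (Nat.card G).factorization q = m := by
    conv_rhs => rw [← Nat.prod_factorization_pow_eq_self hm0, Finsupp.prod, Nat.support_factorization]
    refine Finset.prod_congr rfl fun q hq => ?_
    have hqp := Nat.prime_of_mem_primeFactors hq
    have hnd := hm' q (hmπ q hqp (Nat.dvd_of_mem_primeFactors hq))
    congr 1
    have hd0 : Nat.card G / m ≠ 0 := (Nat.div_pos (Nat.le_of_dvd Nat.card_pos hm) (Nat.pos_of_ne_zero hm0)).ne'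
    conv_lhs => rw [← Nat.mul_div_cancel' hm, Nat.factorization_mul hm0 hd0]
    rw [Finsupp.add_apply, Nat.factorization_eq_zero_of_not_dvd hnd, add_zero]
  rw [hprod] at hT
  refine le_trans ?_ hT
  rw [← Nat.card_eq_finsetCard T]
  have hsel : ∀ C : {C : ConjClasses G // ∀ q : ℕ, q.Prime → (∃ g : G, ConjClasses.mk g = C ∧ q ∣ orderOf g) → q ∈ π},
      ∃ t : T, ConjClasses.mk (t : G) = C.1 := by
    rintro ⟨C, hC⟩
    obtain ⟨x, rfl⟩ := ConjClasses.mk_surjective C
    obtain ⟨k, -, hk⟩ := hTall x (Subgroup.mem_top x) (by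
      intro q hq hqd
      refine Nat.mem_primeFactors.2 ⟨hq, ?_, hm0⟩
      by_contra hnd
      have hqG : q ∣ m * (Nat.card G / m) := by
        rw [Nat.mul_div_cancel' hm]; exact hqd.trans (orderOf_dvd_natCard x)
      exact hm' q (hC q hq ⟨x, rfl, hqd⟩) ((hq.dvd_mul.1 hqG).resolve_left hnd))
    exact ⟨⟨_, hk⟩, ConjClasses.mk_eq_mk_iff_isConj.2 (isConj_iff.2 ⟨k⁻¹, by group⟩)⟩
  choose f hf using hsel
  refine Nat.card_le_card_of_injective f fun C D h => Subtype.ext ?_
  rw [← hf C, ← hf D, h]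

end Cfsg.Agent.S4106
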