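import Cfsg.Statements.S4108
import Mathlib

set_option autoImplicit false
open Pointwise
open Cfsg

namespace Cfsg.Agent.S4108

/-- Let G be a finite group, p a prime and N a proper non-trivial normal p-subgroup such that for every x outside N all elements of the coset xN have the same order as x. Then every non-trivial subgroup H of G of order prime to p acts fixed-point-freely on N: NH is a Frobenius group with complement H and kernel N. -/
theorem result {G : Type*} [Group G] [Finite G] (N : Subgroup G) [N.Normal] (hN1 : N ≠ ⊥) (hN2 : N ≠ ⊤)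
    (heq : ∀ x : G, x ∉ N → ∀ n ∈ N, orderOf (x * n) = orderOf x)
    (p : ℕ) [Fact p.Prime] (hNp : IsPGroup p N) :
    ∀ H : Subgroup G, H ≠ ⊥ → (Nat.card H).Coprime p →
      Cfsg.IsFrobeniusComplement (H.subgroupOf (N ⊔ H)) ∧ Cfsg.frobeniusKernel (H.subgroupOf (N ⊔ H)) = (N.subgroupOf (N ⊔ H) : Set ↥(N ⊔ H)) := by
  classical
  intro H hH hHp
  set K := N ⊔ H with hK
  have hNK : N ≤ K := le_sup_left
  have hHK : H ≤ K := le_sup_right
  have hdis : ∀ x, x ∈ H → x ∈ N → x = 1 := by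
    intro x hxH hxN
    obtain ⟨k, hk⟩ := IsPGroup.iff_orderOf.1 hNp ⟨x, hxN⟩
    rw [Subgroup.orderOf_mk] at hk
    rw [← orderOf_eq_one_iff]
    refine Nat.eq_one_of_dvd_coprimes (Nat.Coprime.pow_right k hHp) ?_ hk.dvd
    rw [← Subgroup.orderOf_mk x hxH]
    exact orderOf_dvd_natCard _
  have hfpf : ∀ h ∈ H, h ≠ 1 → ∀ n ∈ N, h * n = n * h → n = 1 := by
    intro h hh h1 n hn hc
    have e := heq h (fun hN => h1 (hdis h hh hN)) n hn
    obtain ⟨k, hk⟩ := IsPGroup.iff_orderOf.1 hNp ⟨n, hn⟩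
    rw [Subgroup.orderOf_mk] at hk
    have hcop : (orderOf h).Coprime (orderOf n) := by
      rw [hk]
      refine Nat.Coprime.pow_right k (Nat.Coprime.coprime_dvd_left ?_ hHp)
      rw [← Subgroup.orderOf_mk h hh]
      exact orderOf_dvd_natCard _
    rw [Commute.orderOf_mul_eq_mul_orderOf_of_coprime hc hcop] at e
    exact orderOf_eq_one_iff.1 ((Nat.mul_eq_left (orderOf_pos h).ne').1 e)
  have huniq : ∀ n ∈ N, ∀ n' ∈ N, ∀ h ∈ H, ∀ h' ∈ H, h ≠ 1 →
      n * h * n⁻¹ = n' * h' * n'⁻¹ → n = n' ∧ h = h' := by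
    intro n hn n' hn' h hh h' hh' h1 e
    set w := n'⁻¹ * n with hw
    have hwN : w ∈ N := N.mul_mem (N.inv_mem hn') hn
    have e' : w * h * w⁻¹ = h' := by
      calc w * h * w⁻¹ = n'⁻¹ * (n * h * n⁻¹) * n' := by rw [hw]; group
        _ = h' := by rw [e]; group
    have hh'eq : h = h' := by
      refine inv_mul_eq_one.1 (hdis _ (H.mul_mem (H.inv_mem hh) hh') ?_)
      rw [← e', show h⁻¹ * (w * h * w⁻¹) = (h⁻¹ * w * h⁻¹⁻¹) * w⁻¹ by group]
      exact N.mul_mem (‹N.Normal›.conj_mem w hwN _) (N.inv_mem hwN)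
    refine ⟨?_, hh'eq⟩
    have := hfpf h hh h1 w hwN (by rw [← hh'eq, mul_inv_eq_iff_eq_mul] at e'; exact e'.symm)
    exact (inv_mul_eq_one.1 this).symm
  have hmem : ∀ g ∈ K, ∃ n ∈ N, ∃ h ∈ H, n * h = g := by
    intro g hg
    have hg' : g ∈ ((N : Set G) * (H : Set G)) := by rw [← Subgroup.normal_mul]; exact hg
    exact Set.mem_mul.1 hg'
  have hconjmem : ∀ (g x : K), x ∈ MulAut.conj g • H.subgroupOf K ↔ (g : G)⁻¹ * x * g ∈ H := by
    intro g x
    rw [Subgroup.mem_pointwise_smul_iff_inv_smul_mem, Subgroup.mem_subgroupOf]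
    simp [mul_assoc]
  obtain ⟨⟨n₀, hn₀⟩, hn₀1⟩ := N.ne_bot_iff_exists_ne_one.1 hN1
  refine ⟨⟨?_, ?_, ?_⟩, ?_⟩
  · rw [Ne, Subgroup.subgroupOf_eq_bot]
    exact fun h => hH (by simpa [disjoint_iff, inf_eq_left.2 hHK] using h)
  · rw [Ne, Subgroup.subgroupOf_eq_top]
    exact fun h => hn₀1 (Subtype.ext (hdis _ (h (hNK hn₀)) hn₀))
  · intro g hg
    rw [eq_bot_iff]
    intro a ha
    obtain ⟨haH, haC⟩ := Subgroup.mem_inf.1 ha
    rw [hconjmem] at haC
    rw [Subgroup.mem_subgroupOf] at haH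
    obtain ⟨n, hn, h, hh, hnh⟩ := hmem g g.2
    rw [Subgroup.mem_bot]
    by_contra ha1
    apply hg
    rw [Subgroup.mem_subgroupOf, ← hnh]
    set b := h * ((g : G)⁻¹ * a * g) * h⁻¹ with hb
    have hbH : b ∈ H := H.mul_mem (H.mul_mem hh haC) (H.inv_mem hh)
    have := huniq 1 N.one_mem n hn a haH b hbH (fun e => ha1 (Subtype.ext e))
      (by rw [hb, ← hnh]; group)
    rw [← this.1, one_mul]
    exact hh
  · let T := {x : G // x ∈ K ∧ x ∉ N}
    let f : N × {h : H // h ≠ 1} → T := fun z => ⟨z.1 * z.2.1 * (z.1 : G)⁻¹,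
      K.mul_mem (K.mul_mem (hNK z.1.2) (hHK z.2.1.2)) (K.inv_mem (hNK z.1.2)), fun hx => z.2.2 (Subtype.ext (hdis _ z.2.1.2 (by
        simpa [mul_assoc] using ‹N.Normal›.conj_mem _ hx (z.1 : G)⁻¹)))⟩
    let g : N × {h : H // h ≠ 1} → T := fun z => ⟨z.1 * z.2.1,
      K.mul_mem (hNK z.1.2) (hHK z.2.1.2), fun hx => z.2.2 (Subtype.ext (hdis _ z.2.1.2
        (by simpa using N.mul_mem (N.inv_mem z.1.2) hx)))⟩
    have hg : Function.Surjective g := by
      rintro ⟨x, hxK, hxN⟩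
      obtain ⟨n, hn, h, hh, rfl⟩ := hmem x hxK
      exact ⟨⟨⟨n, hn⟩, ⟨⟨h, hh⟩, fun e => hxN (by rw [show h = 1 from congrArg Subtype.val e, mul_one]; exact hn)⟩⟩, rfl⟩
    have hf : Function.Injective f := by
      rintro ⟨⟨n, hn⟩, ⟨⟨h, hh⟩, h1⟩⟩ ⟨⟨n', hn'⟩, ⟨⟨h', hh'⟩, h1'⟩⟩ e
      obtain ⟨rfl, rfl⟩ := huniq n hn n' hn' h hh h' hh' (fun e => h1 (Subtype.ext e)) (congrArg Subtype.val e)
      rfl
    have hfs := ((Nat.bijective_iff_injective_and_card f).2 ⟨hf, le_antisymm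
      (Nat.card_le_card_of_injective f hf) (Nat.card_le_card_of_surjective g hg)⟩).2
    ext x
    simp only [Cfsg.frobeniusKernel, Set.mem_setOf_eq, SetLike.mem_coe, Subgroup.mem_subgroupOf, hconjmem]
    constructor
    · rintro (rfl | hx)
      · exact N.one_mem
      · by_contra hxN
        obtain ⟨⟨⟨n, hn⟩, ⟨⟨h, hh⟩, h1⟩⟩, e⟩ := hfs ⟨x, x.2, hxN⟩
        apply hx ⟨n, hNK hn⟩
        have e' : n * h * n⁻¹ = (x : G) := congrArg Subtype.val e
        show n⁻¹ * (x : G) * n ∈ H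
        rw [← e']
        simpa [mul_assoc] using hh
    · intro hxN
      by_cases hx1 : x = 1
      · exact Or.inl hx1
      · refine Or.inr fun c hc => hx1 (Subtype.ext ?_)
        have h2 := hdis _ hc (by simpa using ‹N.Normal›.conj_mem _ hxN (c : G)⁻¹)
        have h3 := (conj_eq_one_iff (a := (c : G)⁻¹) (b := (x : G))).1 (by rwa [inv_inv])
        simpa using h3

end Cfsg.Agent.S4108
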