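import Cfsg.Statements.S4112
import Cfsg.Agent.Lib.PGroup.Basic

set_option autoImplicit false
open Cfsg

namespace Cfsg.Agent.S4112

/-- Let G be a finite group and M ≤ N non-trivial proper normal subgroups such that for every g outside N the conjugacy class of g is a union of cosets of M (equivalently gm is conjugate to g for every m ∈ M). Then (1) and (2) below are equivalent, and they imply (3): (1) every g outside N acts fixed-point-freely on M, that is C_G(x) ≤ N for every x ∈ M, x ≠ 1; (2) the index of N in G is coprime to the order of M; (3) there is a subgroup H of G with HN = G and H ∩ M = 1. -/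
theorem result {G : Type*} [Group G] [Finite G] (N M : Subgroup G) [N.Normal] [M.Normal] (hMN : M ≤ N) (hM1 : M ≠ ⊥) (hN2 : N ≠ ⊤)
    (hcam : ∀ g : G, g ∉ N → ∀ m ∈ M, ∃ x : G, x * g * x⁻¹ = g * m) :
    ((∀ x ∈ M, x ≠ 1 → Subgroup.centralizer ({x} : Set G) ≤ N) ↔ N.index.Coprime (Nat.card M)) ∧
    ((∀ x ∈ M, x ≠ 1 → Subgroup.centralizer ({x} : Set G) ≤ N) → ∃ H : Subgroup G, H ⊔ N = ⊤ ∧ H ⊓ M = ⊥) := by
  classical
  have hfwd : (∀ x ∈ M, x ≠ 1 → Subgroup.centralizer ({x} : Set G) ≤ N) → N.index.Coprime (Nat.card M) := by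
    intro h
    rw [Nat.coprime_comm]
    by_contra hnc
    obtain ⟨p, hp, hpM, hpN⟩ := Nat.Prime.not_coprime_iff_dvd.1 hnc
    have : Fact p.Prime := ⟨hp⟩
    obtain ⟨P⟩ := (inferInstance : Nonempty (Sylow p G))
    have hpg : IsPGroup p ↥((P : Subgroup G).map (ConjAct.toConjAct (G := G)).toMonoidHom : Subgroup (ConjAct G)) := P.isPGroup'.map _
    obtain ⟨m, hm, hm1⟩ := hpg.exists_fixed_point_of_prime_dvd_card_of_fixed_point M hpM
      (a := (1 : M)) (fun c => by rw [Subgroup.smul_def]; exact smul_one _)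
    apply CfsgLib.PGroup.Basic.not_dvd_index_of_sylow_le (P := P) (H := N) ?_ hpN
    refine le_trans ?_ (h m.1 m.2 fun e => hm1 (Subtype.ext e.symm))
    intro y hy
    have : ((ConjAct.toConjAct y • m : M) : G) = m :=
      congrArg Subtype.val (hm ⟨ConjAct.toConjAct y, y, hy, rfl⟩)
    rw [ConjAct.Subgroup.val_conj_smul, ConjAct.toConjAct_smul] at this
    exact Subgroup.mem_centralizer_singleton_iff.2 (mul_inv_eq_iff_eq_mul.1 this)
  refine ⟨⟨hfwd, ?_⟩, fun h => ?_⟩
  · intro hcop x hx hx1 g hg
    rw [Subgroup.mem_centralizer_singleton_iff] at hg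
    by_contra hgN
    have hne : orderOf (g : G ⧸ N) ≠ 1 := by
      rw [ne_eq, orderOf_eq_one_iff, QuotientGroup.eq_one_iff]; exact hgN
    obtain ⟨p, hp, hpd⟩ := Nat.exists_prime_and_dvd hne
    obtain ⟨a, b, hb, hab⟩ := Nat.exists_eq_pow_mul_and_not_dvd (orderOf_pos g).ne' p hp.one_lt.ne'
    set u := g ^ b with hu
    have huN : u ∉ N := by
      intro hmem
      rw [hu, ← QuotientGroup.eq_one_iff, QuotientGroup.mk_pow, ← orderOf_dvd_iff_pow_eq_one] at hmem
      exact hb (hpd.trans hmem)
    have hux : Commute u x := Commute.pow_left hg b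
    have hco : (orderOf u).Coprime (orderOf x) := by
      have h1 : orderOf u ∣ p ^ a := orderOf_dvd_of_pow_eq_one (by
        rw [hu, ← pow_mul, mul_comm, ← hab, pow_orderOf_eq_one])
      have h2 : orderOf x ∣ Nat.card M := by
        rw [← Subgroup.orderOf_mk x hx]; exact orderOf_dvd_natCard _
      exact Nat.Coprime.coprime_dvd_left h1 (Nat.Coprime.coprime_dvd_right h2
        (Nat.Coprime.pow_left a (Nat.Coprime.coprime_dvd_left (hpd.trans (orderOf_dvd_natCard _)) hcop)))
    obtain ⟨y, hy⟩ := hcam u huN x hx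
    have e : orderOf (u * x) = orderOf u := by
      rw [← hy, show y * u * y⁻¹ = MulAut.conj y u from rfl, MulEquiv.orderOf_eq]
    rw [hux.orderOf_mul_eq_mul_orderOf_of_coprime hco] at e
    exact hx1 (orderOf_eq_one_iff.1 ((Nat.mul_eq_left (orderOf_pos u).ne').1 e))
  · have hcop := hfwd h
    obtain ⟨H, hH⟩ := (Set.toFinite {H : Subgroup G | H ⊔ N = ⊤}).exists_minimal ⟨⊤, top_sup_eq N⟩
    refine ⟨H, hH.1, ?_⟩
    -- the intersection of a minimal supplement with `N` is in its Frattini subgroup
    set R := N.subgroupOf H with hR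
    have hΦ : R ≤ frattini H := by
      rw [frattini, Order.radical]
      refine le_iInf₂ fun X hX => ?_
      by_contra hle
      have hsup : X ⊔ R = ⊤ := hX.2 _ (lt_of_le_of_ne le_sup_left (fun e => hle (e ▸ le_sup_right)))
      have h1 : H ≤ X.map H.subtype ⊔ N := by
        calc H = (⊤ : Subgroup H).map H.subtype := by rw [← MonoidHom.range_eq_map, Subgroup.range_subtype]
          _ = X.map H.subtype ⊔ R.map H.subtype := by rw [← hsup, Subgroup.map_sup]
          _ ≤ X.map H.subtype ⊔ N := sup_le_sup_left (Subgroup.map_comap_le _ _) _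
      have h2 : X.map H.subtype ⊔ N = ⊤ := eq_top_iff.2 (hH.1 ▸ sup_le h1 le_sup_right)
      have h3 : H ≤ X.map H.subtype := hH.2 h2 (Subgroup.map_subtype_le X)
      apply hX.1
      rw [eq_top_iff]
      intro y _
      obtain ⟨z, hz, e⟩ := h3 y.2
      exact (Subtype.ext e : z = y) ▸ hz
    have hidx : R.index = N.index := by
      rw [hR, ← Subgroup.relIndex, ← Subgroup.relIndex_sup_right, hH.1, Subgroup.relIndex_top_right]
    have hcopH : (Nat.card H).Coprime (Nat.card M) := by
      by_contra hnc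
      obtain ⟨p, hp, hpH, hpM⟩ := Nat.Prime.not_coprime_iff_dvd.1 hnc
      have : Fact p.Prime := ⟨hp⟩
      have hnd : ¬ p ∣ R.index := by
        rw [hidx]
        exact fun hd => hp.not_dvd_one (hcop ▸ Nat.dvd_gcd hd hpM)
      obtain ⟨Q⟩ := (inferInstance : Nonempty (Sylow p R))
      set P := (Q : Subgroup R).map R.subtype with hP
      have hNP : Subgroup.normalizer (P : Set H) ⊔ R = ⊤ := Sylow.normalizer_sup_eq_top Q
      have hPn : P.Normal := Subgroup.normalizer_eq_top_iff.1
        (frattini_nongenerating (eq_top_iff.2 (hNP ▸ sup_le_sup_left hΦ _)))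
      have hndP : ¬ p ∣ P.index := by
        rw [hP, Subgroup.index_map_subtype, hp.dvd_mul]
        exact not_or.2 ⟨Q.not_dvd_index, hnd⟩
      have hcopP : (Nat.card P).Coprime P.index := by
        obtain ⟨n, hn⟩ := IsPGroup.iff_card.1 (Q.isPGroup'.map R.subtype)
        rw [hP, hn]
        exact Nat.Coprime.pow_left n (hp.coprime_iff_not_dvd.2 hndP)
      obtain ⟨C, hC⟩ := Subgroup.exists_right_complement'_of_coprime hcopP
      have hC' : C = ⊤ := frattini_nongenerating (eq_top_iff.2 (le_trans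
        (le_of_eq (hC.sup_eq_top.symm.trans (sup_comm P C)))
        (sup_le_sup_left ((Subgroup.map_subtype_le _).trans hΦ) C)))
      subst hC'
      have hbot : P = ⊥ := Subgroup.isComplement'_top_right.1 hC
      apply hndP
      rw [hbot, Subgroup.index_bot]
      exact hpH
    rw [eq_bot_iff]
    intro z hz
    rw [Subgroup.mem_bot, ← orderOf_eq_one_iff]
    exact Nat.eq_one_of_dvd_coprimes hcopH
      ((Subgroup.orderOf_mk z hz.1).symm.dvd.trans (orderOf_dvd_natCard _))
      ((Subgroup.orderOf_mk z hz.2).symm.dvd.trans (orderOf_dvd_natCard _))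

end Cfsg.Agent.S4112
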