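import Cfsg.Statements.S4113


set_option autoImplicit false
open Pointwise
open Cfsg

namespace Cfsg.Agent.S4113

/-- Let G be a finite group, M ≤ N non-trivial proper normal subgroups, and H a subgroup with HM = G and H ∩ M = 1. Then every element of G outside N acts fixed-point-freely on M (C_G(x) ≤ N for every x ∈ M, x ≠ 1) if and only if H ∩ gHg⁻¹ ≤ H ∩ N for every g outside H, with H proper and non-trivial and H ∩ N proper in H. -/
theorem result {G : Type*} [Group G] [Finite G] (N M : Subgroup G) [N.Normal] [M.Normal] (hMN : M ≤ N) (hM1 : M ≠ ⊥) (hN2 : N ≠ ⊤)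
    (H : Subgroup G) (hHM : H ⊔ M = ⊤) (hHM' : H ⊓ M = ⊥) :
    (∀ x ∈ M, x ≠ 1 → Subgroup.centralizer ({x} : Set G) ≤ N) ↔
      (H ≠ ⊥ ∧ H ≠ ⊤ ∧ H ⊓ N < H ∧ ∀ g : G, g ∉ H → H ⊓ H.map (MulAut.conj g).toMonoidHom ≤ N) := by
  constructor
  · intro h
    have hM_not : ∀ m ∈ M, m ≠ 1 → ∀ g : G, g * m = m * g → g ∈ N := fun m hm hm1 g hg =>
      h m hm hm1 (Subgroup.mem_centralizer_singleton_iff.2 hg)
    obtain ⟨m₀, hm₀, hm₀1⟩ := M.ne_bot_iff_exists_ne_one.1 hM1 |> fun ⟨⟨a, ha⟩, hb⟩ =>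
      (⟨a, ha, fun e => hb (Subtype.ext e)⟩ : ∃ a, a ∈ M ∧ a ≠ 1)
    have hHN : ¬ H ≤ N := fun hle => hN2 (eq_top_iff.2 (hHM ▸ sup_le hle hMN))
    refine ⟨fun e => hHN (e ▸ bot_le), fun e => hM1 (by simpa [e] using hHM'),
      lt_of_le_of_ne inf_le_left fun e => hHN (inf_eq_left.1 e), ?_⟩
    intro g hg a ha
    obtain ⟨ha1, ha2⟩ := Subgroup.mem_inf.1 ha
    obtain ⟨b, hb, hba⟩ := Subgroup.mem_map.1 ha2
    have hgmem : g ∈ ((M : Set G) * (H : Set G) : Set G) := by
      rw [← Subgroup.normal_mul, sup_comm, hHM]; trivial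
    obtain ⟨m, hm, k, hk, rfl⟩ := Set.mem_mul.1 hgmem
    have hm1 : m ≠ 1 := fun e => hg (by simpa [e] using hk)
    have hc : k * b * k⁻¹ ∈ H := H.mul_mem (H.mul_mem hk hb) (H.inv_mem hk)
    have hac : a = m * (k * b * k⁻¹) * m⁻¹ := by
      rw [← hba]; simp [MulAut.conj_apply, mul_assoc]
    have hd : (k * b * k⁻¹)⁻¹ * a ∈ H ⊓ M := by
      refine Subgroup.mem_inf.2 ⟨H.mul_mem (H.inv_mem hc) ha1, ?_⟩
      rw [hac, show (k * b * k⁻¹)⁻¹ * (m * (k * b * k⁻¹) * m⁻¹) =
        ((k * b * k⁻¹)⁻¹ * m * (k * b * k⁻¹)⁻¹⁻¹) * m⁻¹ by group]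
      exact M.mul_mem (‹M.Normal›.conj_mem m hm _) (M.inv_mem hm)
    rw [hHM', Subgroup.mem_bot, inv_mul_eq_one] at hd
    rw [hd] at hac
    exact hM_not m hm hm1 a (mul_inv_eq_iff_eq_mul.1 hac.symm).symm
  · rintro ⟨-, -, hlt, h⟩ x hx hx1 g hg
    rw [Subgroup.mem_centralizer_singleton_iff] at hg
    -- elements of `H` commuting with a nontrivial element of `M` lie in `N`
    have key : ∀ h' ∈ H, ∀ m ∈ M, m ≠ 1 → h' * m = m * h' → h' ∈ N := by
      intro h' hh' m hm hm1 hcomm
      refine h m (fun e => hm1 ?_) ⟨hh', h', hh', ?_⟩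
      · exact Subgroup.mem_bot.1 (hHM' ▸ Subgroup.mem_inf.2 ⟨e, hm⟩)
      · simp [MulAut.conj_apply, ← hcomm]
    by_contra hgN
    -- pass to a prime power part of `g` outside `N`
    have hne : orderOf (g : G ⧸ N) ≠ 1 := by
      rw [ne_eq, orderOf_eq_one_iff, QuotientGroup.eq_one_iff]; exact hgN
    obtain ⟨p, hp, hpd⟩ := Nat.exists_prime_and_dvd hne
    have : Fact p.Prime := ⟨hp⟩
    obtain ⟨a, b, hb, hab⟩ := Nat.exists_eq_pow_mul_and_not_dvd (orderOf_pos g).ne' p hp.one_lt.ne'
    set u := g ^ b with hu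
    have huo : u ^ p ^ a = 1 := by
      rw [hu, ← pow_mul, mul_comm, ← hab, pow_orderOf_eq_one]
    have huN : u ∉ N := by
      intro hmem
      rw [hu, ← QuotientGroup.eq_one_iff, QuotientGroup.mk_pow, ← orderOf_dvd_iff_pow_eq_one] at hmem
      exact hb (hpd.trans hmem)
    have hux : u * x = x * u := Commute.pow_left hg b
    by_cases hpM : p ∣ Nat.card M
    · -- some nontrivial element of a Sylow subgroup of `H` outside `N` fixes a point of `M`
      obtain ⟨PH⟩ := (inferInstance : Nonempty (Sylow p H))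
      have hnotle : ¬ ((PH : Subgroup H).map H.subtype ≤ N) := by
        intro hle
        have hd1 : (N.subgroupOf H).index ∣ (PH : Subgroup H).index :=
          Subgroup.index_dvd_of_le fun y hy => hle ⟨y, hy, rfl⟩
        have hd2 : orderOf (g : G ⧸ N) ∣ (N.subgroupOf H).index := by
          have hcard : (N.subgroupOf H).index = N.index := by
            rw [← Subgroup.relIndex, ← Subgroup.relIndex_sup_right, ← Subgroup.relIndex_top_right]
            congr 1
            exact eq_top_iff.2 (hHM.ge.trans (sup_le_sup_left hMN H))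
          rw [hcard]
          exact orderOf_dvd_natCard _
        exact PH.not_dvd_index (hpd.trans (hd2.trans hd1))
      obtain ⟨h', hh', hh'N⟩ := SetLike.not_le_iff_exists.1 hnotle
      have hpg : IsPGroup p ((PH : Subgroup H).map H.subtype) := PH.isPGroup'.map _
      obtain ⟨k, hk⟩ := hpg ⟨h', hh'⟩
      have hpg' : IsPGroup p (Subgroup.zpowers (ConjAct.toConjAct h')) :=
        IsPGroup.of_card_dvd_pow (n := k) (by
          rw [Nat.card_zpowers, orderOf_dvd_iff_pow_eq_one]
          exact congrArg Subtype.val hk)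
      obtain ⟨m, hm, hm1⟩ := hpg'.exists_fixed_point_of_prime_dvd_card_of_fixed_point M hpM
        (a := (1 : M)) (fun c => Subtype.ext (by simp))
      refine hh'N (key h' (Subgroup.map_subtype_le _ hh') m.1 m.2 ?_ ?_)
      · exact fun e => hm1 (Subtype.ext e.symm)
      · have : ((ConjAct.toConjAct h' • m : M) : G) = m :=
          congrArg Subtype.val (hm ⟨_, Subgroup.mem_zpowers _⟩)
        rw [ConjAct.Subgroup.val_conj_smul, ConjAct.toConjAct_smul] at this
        exact mul_inv_eq_iff_eq_mul.1 this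
    · -- `u` lies in a conjugate of `H`
      obtain ⟨PH⟩ := (inferInstance : Nonempty (Sylow p H))
      have hidx : H.index = Nat.card M :=
        ((Subgroup.isComplement'_of_disjoint_and_mul_eq_univ (disjoint_iff.2 (inf_comm H M ▸ hHM'))
          (by rw [← Subgroup.normal_mul, sup_comm, hHM]; rfl)) : Subgroup.IsComplement' M H).index_eq_card
      have hnd : ¬ p ∣ ((PH : Subgroup H).map H.subtype).index := by
        rw [Subgroup.index_map_subtype, hidx, hp.dvd_mul]
        exact not_or.2 ⟨PH.not_dvd_index, hpM⟩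
      have hpg : IsPGroup p ((PH : Subgroup H).map H.subtype) := PH.isPGroup'.map _
      let P₁ : Sylow p G := hpg.toSylow hnd
      have hU : IsPGroup p (Subgroup.zpowers u) := IsPGroup.of_card_dvd_pow (n := a) (by
        rw [Nat.card_zpowers]; exact orderOf_dvd_of_pow_eq_one huo)
      obtain ⟨Q, hQ⟩ := hU.exists_le_sylow
      obtain ⟨c, hc⟩ := MulAction.exists_smul_eq G P₁ Q
      have huQ : c⁻¹ * u * c ∈ H := by
        have h1 : u ∈ (Q : Subgroup G) := hQ (Subgroup.mem_zpowers u)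
        rw [← hc, Sylow.coe_subgroup_smul, Subgroup.mem_smul_pointwise_iff_exists] at h1
        obtain ⟨z, hz, hzu⟩ := h1
        rw [← hzu]
        simpa [MulAut.conj_apply, mul_assoc] using Subgroup.map_subtype_le _ hz
      have h2 := key _ huQ (c⁻¹ * x * c)
        (by simpa using ‹M.Normal›.conj_mem x hx c⁻¹)
        (fun e => hx1 (by simpa [mul_assoc] using congrArg (fun z => c * z * c⁻¹) e))
        (by simp only [mul_assoc, mul_inv_cancel_left]; rw [← mul_assoc u, hux, mul_assoc])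
      apply huN
      simpa [mul_assoc] using ‹N.Normal›.conj_mem _ h2 c

end Cfsg.Agent.S4113
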