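import Cfsg.Statements.S4115
import Cfsg.Agent.Lib.PGroup.TIHall

set_option autoImplicit false
universe u
open Cfsg

namespace Cfsg.Agent.S4115

/-- Let G be a finite group and H a subgroup that meets each of its conjugates by elements outside N_G(H) trivially and whose order is coprime to its index in N_G(H). Then H has a normal complement in N_G(H) if and only if H has a normal complement in G. Moreover, if H is not normal in G and has a normal complement in N_G(H), then H is isomorphic to a Frobenius complement of some finite Frobenius group. -/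
theorem result {G : Type u} [Group G] [Finite G] (H : Subgroup G)
    (hTI : Cfsg.IsTISubset (H : Set G)) (hHall : (Nat.card H).Coprime (H.subgroupOf (Subgroup.normalizer (H : Set G))).index) :
    ((∃ K : Subgroup (Subgroup.normalizer (H : Set G)), K.Normal ∧ K.IsComplement' (H.subgroupOf (Subgroup.normalizer (H : Set G)))) ↔
      (∃ N : Subgroup G, N.Normal ∧ N.IsComplement' H)) ∧
    (¬ H.Normal → (∃ K : Subgroup (Subgroup.normalizer (H : Set G)), K.Normal ∧ K.IsComplement' (H.subgroupOf (Subgroup.normalizer (H : Set G)))) →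
      ∃ (F : Type u) (_ : Group F) (_ : Finite F) (C : Subgroup F), Cfsg.IsFrobeniusComplement C ∧ Nonempty (H ≃* C)) := by
  classical
  have hle : H ≤ Subgroup.normalizer (H : Set G) := Subgroup.le_normalizer
  have hHall' := CfsgLib.PGroup.TIHall.coprime_index hTI hHall
  have fwd : ∀ (K : Subgroup (Subgroup.normalizer (H : Set G))), K.Normal →
      K.IsComplement' (H.subgroupOf (Subgroup.normalizer (H : Set G))) →
      ∃ N : Subgroup G, N.Normal ∧ N.IsComplement' H ∧ Nat.card N = H.index := by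
    intro K hK hKc
    obtain ⟨f, hf⟩ := CfsgLib.PGroup.TIHall.exists_retraction hle hK hKc
    obtain ⟨M, h1, h2, h3, -⟩ := CfsgLib.PGroup.TIHall.exists_complement H hTI hHall' f hf
    exact ⟨M, h1, h2, h3⟩
  refine ⟨⟨fun ⟨K, hK, hKc⟩ => ?_, fun ⟨N, hN, hNc⟩ => ?_⟩, fun hnn ⟨K, hK, hKc⟩ => ?_⟩
  · obtain ⟨M, h1, h2, -⟩ := fwd K hK hKc
    exact ⟨M, h1, h2⟩
  · refine ⟨N.subgroupOf _, hN.subgroupOf _, Subgroup.isComplement'_of_disjoint_and_mul_eq_univ ?_ ?_⟩
    · rw [disjoint_iff, Subgroup.eq_bot_iff_forall]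
      rintro x ⟨hx1, hx2⟩
      exact Subtype.ext (Subgroup.mem_bot.1 ((disjoint_iff.1 hNc.disjoint) ▸
        Subgroup.mem_inf.2 ⟨hx1, hx2⟩))
    · refine Set.eq_univ_of_forall fun y => ?_
      obtain ⟨⟨n, h⟩, e⟩ := hNc.2 (y : G)
      simp only at e
      have hn : (n : G) ∈ Subgroup.normalizer (H : Set G) := by
        rw [show (n : G) = y * (h : G)⁻¹ by rw [← e, mul_inv_cancel_right]]
        exact mul_mem y.2 (hle (inv_mem h.2))
      exact ⟨⟨n, hn⟩, Subgroup.mem_subgroupOf.2 n.2, ⟨h, hle h.2⟩, Subgroup.mem_subgroupOf.2 h.2,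
        Subtype.ext e⟩
  · obtain ⟨M, h1, h2, h3⟩ := fwd K hK hKc
    exact CfsgLib.PGroup.TIHall.isFrobeniusComplement_of_complement hTI hHall' h1 h2 h3 hnn

end Cfsg.Agent.S4115
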