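import Cfsg.Statements.S4116
import Cfsg.Agent.Lib.PGroup.Basic

set_option autoImplicit false
open Cfsg

namespace Cfsg.Agent.S4116

/-- Let G be a finite group with a subgroup H whose order is coprime to its index (a Hall subgroup) and which meets each of its conjugates by elements outside N_G(H) trivially. Then every subgroup of G whose order is divisible only by primes dividing the order of H lies in a conjugate of H. -/
theorem result {G : Type*} [Group G] [Finite G] (H : Subgroup G)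
    (hHall : (Nat.card H).Coprime H.index) (hTI : Cfsg.IsTISubset (H : Set G))
    (K : Subgroup G) (hK : ∀ q : ℕ, q.Prime → q ∣ Nat.card K → q ∣ Nat.card H) :
    ∃ g : G, K ≤ H.map (MulAut.conj g).toMonoidHom := by
  classical
  rcases eq_or_ne K ⊥ with rfl | hKb
  · exact ⟨1, bot_le⟩
  -- lifting of the hypotheses to every conjugate of `H`
  let C : G → Subgroup G := fun g => H.map (MulAut.conj g).toMonoidHom
  have hC : ∀ g x, x ∈ C g ↔ g⁻¹ * x * g ∈ H := by
    intro g x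
    refine ⟨?_, fun h => ⟨_, h, by simp [MulAut.conj_apply, mul_assoc]⟩⟩
    rintro ⟨y, hy, rfl⟩
    simpa [MulAut.conj_apply, mul_assoc] using hy
  have hN : ∀ n : G, n ∈ Subgroup.normalizer (H : Set G) →
      (∀ q : ℕ, q.Prime → q ∣ orderOf n → q ∣ Nat.card H) → n ∈ H := by
    intro n hn hq
    let n' : Subgroup.normalizer (H : Set G) := ⟨n, hn⟩
    have h1 : orderOf (n' : Subgroup.normalizer (H : Set G) ⧸ H.subgroupOf _) = 1 := by
      by_contra hne
      obtain ⟨q, hqp, hqd⟩ := Nat.exists_prime_and_dvd hne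
      have hq1 : q ∣ Nat.card H := hq q hqp (hqd.trans ((orderOf_map_dvd (QuotientGroup.mk' _) n').trans
        (Subgroup.orderOf_coe n').symm.dvd))
      have hq2 : q ∣ H.index := by
        refine hqd.trans ((orderOf_dvd_natCard _).trans ?_)
        exact Subgroup.relIndex_dvd_index_of_le Subgroup.le_normalizer
      exact hqp.not_dvd_one (hHall ▸ Nat.dvd_gcd hq1 hq2)
    rw [orderOf_eq_one_iff, QuotientGroup.eq_one_iff] at h1
    exact h1
  have hord : ∀ a x : G, orderOf (a * x * a⁻¹) = orderOf x := fun a x =>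
    MulEquiv.orderOf_eq (MulAut.conj a) x
  have hstab : ∀ g x k : G, x ∈ C g → x ≠ 1 → k * x * k⁻¹ ∈ C g →
      (∀ q : ℕ, q.Prime → q ∣ orderOf k → q ∣ Nat.card H) → k ∈ C g := by
    intro g x k hx hx1 hkx hk
    rw [hC] at hx hkx ⊢
    apply hN
    · by_contra hn
      refine hx1 ((conj_eq_one_iff (a := g⁻¹)).1 ?_)
      rw [inv_inv]
      refine hTI _ hn _ hx ?_
      simpa [mul_assoc] using hkx
    · intro q hq hqd
      refine hk q hq ?_
      rwa [show g⁻¹ * k * g = g⁻¹ * k * g⁻¹⁻¹ by rw [inv_inv], hord] at hqd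
  have hKord : ∀ k ∈ K, ∀ q : ℕ, q.Prime → q ∣ orderOf k → q ∣ Nat.card H := fun k hk q hq hqd =>
    hK q hq (hqd.trans ((Subgroup.orderOf_mk k hk).symm.dvd.trans (orderOf_dvd_natCard _)))
  have hcover : ∀ x ∈ K, x ≠ 1 → ∃ g, x ∈ C g := by
    intro x hx hx1
    obtain ⟨p, hp, hpd⟩ := Nat.exists_prime_and_dvd (fun h => hx1 (orderOf_eq_one_iff.1 h))
    have : Fact p.Prime := ⟨hp⟩
    have hpH := hKord x hx p hp hpd
    obtain ⟨c, hc⟩ := hpd
    set y := x ^ c with hy
    have hyo : orderOf y = p := by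
      rw [hy, orderOf_pow' _ (by rintro rfl; exact (orderOf_pos x).ne' (by simpa using hc)), hc,
        Nat.gcd_mul_left_left, Nat.mul_div_cancel]
      exact Nat.pos_of_ne_zero (by rintro rfl; exact (orderOf_pos x).ne' (by simpa using hc))
    obtain ⟨PH⟩ := (inferInstance : Nonempty (Sylow p H))
    have hnd : ¬ p ∣ ((PH : Subgroup H).map H.subtype).index := by
      rw [Subgroup.index_map_subtype, hp.dvd_mul]
      exact not_or.2 ⟨PH.not_dvd_index, fun h => hp.not_dvd_one (hHall ▸ Nat.dvd_gcd hpH h)⟩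
    have hpg : IsPGroup p ((PH : Subgroup H).map H.subtype) := PH.isPGroup'.map _
    let P₁ : Sylow p G := hpg.toSylow hnd
    obtain ⟨Q, hQ⟩ := CfsgLib.PGroup.Basic.mem_sylow_of_orderOf (p := p) (x := y) ⟨1, by simpa using hyo⟩
    obtain ⟨g, hg⟩ := MulAction.exists_smul_eq G P₁ Q
    rw [← hg, Sylow.coe_subgroup_smul, Subgroup.mem_smul_pointwise_iff_exists] at hQ
    obtain ⟨z, hz, hzy⟩ := hQ
    have hyC : y ∈ C g := ⟨z, Subgroup.map_subtype_le _ hz, hzy⟩
    refine ⟨g, hstab g y x hyC ?_ ?_ (hKord x hx)⟩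
    · intro h; rw [h, orderOf_one] at hyo; exact hp.one_lt.ne hyo
    · rwa [hy, ((Commute.refl x).pow_right c).eq, mul_inv_cancel_right]
  obtain ⟨x₀, hx₀, hx₀1⟩ : ∃ a, a ∈ K ∧ a ≠ 1 := by
    obtain ⟨⟨a, ha⟩, hb⟩ := K.ne_bot_iff_exists_ne_one.1 hKb
    exact ⟨a, ha, fun e => hb (Subtype.ext e)⟩
  obtain ⟨g₀, hg₀⟩ := hcover x₀ hx₀ hx₀1
  by_contra hcon
  push Not at hcon
  -- the `K`-conjugates of the nontrivial elements of `K ⊓ C g`
  let J : G → Subgroup K := fun g => (C g).subgroupOf K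
  let F : ∀ g, (K ⧸ J g) × {u : J g // u ≠ 1} → {k : K // k ≠ 1} := fun g z =>
    ⟨z.1.out * (z.2.1 : K) * z.1.out⁻¹, fun h => z.2.2 (Subtype.ext (conj_eq_one_iff.1 h))⟩
  have hFinj : ∀ g, Function.Injective (F g) := by
    rintro g ⟨c, ⟨⟨u, hu⟩, hu1⟩⟩ ⟨d, ⟨⟨w, hw⟩, hw1⟩⟩ h
    have h' : c.out * u * c.out⁻¹ = d.out * w * d.out⁻¹ := congrArg Subtype.val h
    have hcd : c = d := by
      rw [← QuotientGroup.out_eq' c, ← QuotientGroup.out_eq' d, QuotientGroup.eq]
      refine hstab g (w : G) _ hw (fun e => hw1 (Subtype.ext (Subtype.ext e))) ?_ ?_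
      · have : (c.out⁻¹ * d.out) * w * (c.out⁻¹ * d.out)⁻¹ = u := by
          calc c.out⁻¹ * d.out * w * (c.out⁻¹ * d.out)⁻¹
              = c.out⁻¹ * (d.out * w * d.out⁻¹) * c.out := by group
            _ = u := by rw [← h']; group
        have h2 := congrArg Subtype.val this
        show (((c.out⁻¹ * d.out) * w * (c.out⁻¹ * d.out)⁻¹ : K) : G) ∈ C g
        rw [h2]; exact hu
      · exact hKord _ (c.out⁻¹ * d.out).2
    subst hcd
    have huw : u = w := mul_left_cancel (mul_right_cancel h')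
    subst huw; rfl
  have hcard : ∀ g, Nat.card ((K ⧸ J g) × {u : J g // u ≠ 1}) + (J g).index = Nat.card K := by
    intro g
    have h1 : Nat.card {u : J g // u ≠ 1} + 1 = Nat.card (J g) := by
      have := Nat.card_congr (Equiv.optionSubtypeNe (1 : J g))
      rwa [Finite.card_option] at this
    rw [Nat.card_prod, ← Subgroup.index, ← (J g).index_mul_card, ← h1]
    ring
  have hidx : ∀ g, 2 ≤ (J g).index := by
    intro g
    by_contra h
    have h1 : (J g).index = 1 := by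
      have := (J g).index_ne_zero_of_finite
      omega
    obtain ⟨a, ha, ha'⟩ := SetLike.not_le_iff_exists.1 (hcon g)
    exact ha' (Subgroup.subgroupOf_eq_top.1 (Subgroup.index_eq_one.1 h1) ha)
  have hne1 : Nat.card {k : K // k ≠ 1} + 1 = Nat.card K := by
    have := Nat.card_congr (Equiv.optionSubtypeNe (1 : K))
    rwa [Finite.card_option] at this
  obtain ⟨y, hy⟩ : ∃ y, y ∉ Set.range (F g₀) := by
    by_contra h
    push Not at h
    have := Nat.card_le_card_of_surjective (F g₀) h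
    have := hcard g₀; have := hidx g₀; omega
  obtain ⟨g₁, hg₁⟩ := hcover y.1 y.1.2 (fun e => y.2 (Subtype.ext e))
  have hdisj : ∀ z w, F g₀ z ≠ F g₁ w := by
    rintro ⟨c, ⟨⟨u, hu⟩, hu1⟩⟩ ⟨d, ⟨⟨w, hw⟩, hw1⟩⟩ h
    have h' : c.out * u * c.out⁻¹ = d.out * w * d.out⁻¹ := congrArg Subtype.val h
    set j : K := d.out⁻¹ * c.out with hj
    have hju : j * u * j⁻¹ = w := by
      calc j * u * j⁻¹ = d.out⁻¹ * (c.out * u * c.out⁻¹) * d.out := by rw [hj]; group
        _ = w := by rw [h']; group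
    -- `C g₁` is the conjugate of `C g₀` by `j`
    have heq : ∀ z : G, z ∈ C g₁ ↔ (j : G)⁻¹ * z * j ∈ C g₀ := by
      have hm : g₁⁻¹ * j * g₀ ∈ Subgroup.normalizer (H : Set G) := by
        by_contra hn
        have hu' := (hC g₀ (u : G)).1 hu
        have hw' := (hC g₁ (w : G)).1 hw
        refine hu1 (Subtype.ext (Subtype.ext ((conj_eq_one_iff (a := g₀⁻¹)).1 ?_)))
        rw [inv_inv]
        refine hTI _ hn _ hu' ?_
        have := congrArg Subtype.val hju
        simp only [Subgroup.coe_mul, Subgroup.coe_inv] at this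
        rw [← this] at hw'
        simpa [mul_assoc] using hw'
      intro z
      rw [hC, hC, Subgroup.mem_normalizer_iff''.1 hm (g₁⁻¹ * z * g₁)]
      simp [mul_assoc]
    have hyj := (heq _).1 hg₁
    let k : K := j⁻¹
    obtain ⟨e, he⟩ : ∃ e : J g₀, (k⁻¹ : K) = (QuotientGroup.mk (k⁻¹) : K ⧸ J g₀).out * e := by
      refine ⟨⟨_, QuotientGroup.eq.1 (QuotientGroup.out_eq' (QuotientGroup.mk (k⁻¹) : K ⧸ J g₀))⟩, ?_⟩
      simp
    have hmemJ : (e : K) * (k * y.1 * k⁻¹) * (e : K)⁻¹ ∈ J g₀ :=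
      (J g₀).mul_mem ((J g₀).mul_mem e.2 (by simpa [J, k, Subgroup.mem_subgroupOf] using hyj))
        ((J g₀).inv_mem e.2)
    refine hy ⟨⟨QuotientGroup.mk (k⁻¹), ⟨⟨_, hmemJ⟩, fun h0 => y.2 ?_⟩⟩, Subtype.ext ?_⟩
    · have := congrArg Subtype.val h0
      simpa [conj_eq_one_iff] using this
    · simp only [F]
      calc _ = ((QuotientGroup.mk (k⁻¹) : K ⧸ J g₀).out * e) * (k * y.1 * k⁻¹) *
            ((QuotientGroup.mk (k⁻¹) : K ⧸ J g₀).out * e)⁻¹ := by group
        _ = y.1 := by rw [← he]; group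
  have hle : Nat.card ((K ⧸ J g₀) × {u : J g₀ // u ≠ 1}) + Nat.card ((K ⧸ J g₁) × {u : J g₁ // u ≠ 1})
      ≤ Nat.card {k : K // k ≠ 1} := by
    rw [← Nat.card_sum]
    exact Nat.card_le_card_of_injective _ (Function.Injective.sumElim (hFinj g₀) (hFinj g₁) hdisj)
  have hhalf : ∀ g, (∃ u ∈ J g, u ≠ 1) →
      (J g).index ≤ Nat.card ((K ⧸ J g) × {u : J g // u ≠ 1}) := by
    rintro g ⟨u, hu, hu1⟩
    rw [Nat.card_prod, ← Subgroup.index]
    refine Nat.le_mul_of_pos_right _ (Nat.card_pos_iff.2 ⟨⟨⟨⟨u, hu⟩, fun e => hu1 (congrArg Subtype.val e)⟩⟩, inferInstance⟩)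
  have := hhalf g₀ ⟨⟨x₀, hx₀⟩, hg₀, fun e => hx₀1 (congrArg Subtype.val e)⟩
  have := hhalf g₁ ⟨y.1, hg₁, y.2⟩
  have := hcard g₀
  have := hcard g₁
  omega

end Cfsg.Agent.S4116
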