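import Cfsg.Statements.S4117
import Mathlib
import Cfsg.Agent.Lib.Coprime.Action
import Cfsg.Agent.Lib.PGroup.Kulakoff

set_option autoImplicit false
open Cfsg

namespace Cfsg.Agent.S4117

open scoped commutatorElement

/-- Let A be a finite group acting on the finite group G by automorphisms with the orders of A and G coprime, and suppose every Sylow subgroup of G is cyclic. Then the fixed-point subgroup C_G(A) is a Hall subgroup of G (its order is coprime to its index), the subgroup [G, A] generated by the elements g⁻¹·a(g) is cyclic and normal with [G, A] ∩ C_G(A) = 1 and [G, A]·C_G(A) = G. -/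
theorem result {G A : Type*} [Group G] [Finite G] [Group A] [Finite A]
    [MulDistribMulAction A G] (hcop : (Nat.card A).Coprime (Nat.card G))
    (hcyc : ∀ (p : ℕ) [Fact p.Prime] (P : Sylow p G), IsCyclic (P : Subgroup G)) :
    (Nat.card (MulAction.fixedPoints A G : Set G)).Coprime (Nat.card G / Nat.card (MulAction.fixedPoints A G : Set G)) ∧
    IsCyclic (Subgroup.closure {y : G | ∃ (a : A) (g : G), y = g⁻¹ * a • g}) ∧
    (Subgroup.closure {y : G | ∃ (a : A) (g : G), y = g⁻¹ * a • g}).Normal ∧
    (Subgroup.closure {y : G | ∃ (a : A) (g : G), y = g⁻¹ * a • g} : Set G) ∩ MulAction.fixedPoints A G = {1} ∧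
    Subgroup.closure {y : G | ∃ (a : A) (g : G), y = g⁻¹ * a • g} ⊔ Subgroup.closure (MulAction.fixedPoints A G) = ⊤ := by
  classical
  haveI hZ : IsZGroup G := ⟨fun p hp P => @hcyc p ⟨hp⟩ P⟩
  set D := Subgroup.closure {y : G | ∃ (a : A) (g : G), y = g⁻¹ * a • g} with hD
  have hgen : ∀ (a : A) (g : G), g⁻¹ * a • g ∈ D := fun a g => Subgroup.subset_closure ⟨a, g, rfl⟩
  have hDn : D.Normal := by
    refine ⟨fun x hx h => ?_⟩
    induction hx using Subgroup.closure_induction with
    | mem y hy =>
      obtain ⟨a, g, rfl⟩ := hy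
      have : h * (g⁻¹ * a • g) * h⁻¹ =
          ((g * h⁻¹)⁻¹ * a • (g * h⁻¹)) * ((h⁻¹)⁻¹ * a • h⁻¹)⁻¹ := by
        rw [smul_mul']; group
      rw [this]
      exact mul_mem (hgen a _) (inv_mem (hgen a _))
    | one => simp
    | mul u v _ _ hu hv =>
      rw [show h * (u * v) * h⁻¹ = (h * u * h⁻¹) * (h * v * h⁻¹) by group]
      exact mul_mem hu hv
    | inv u _ hu =>
      rw [show h * u⁻¹ * h⁻¹ = (h * u * h⁻¹)⁻¹ by group]
      exact inv_mem hu
  have hsmulD : ∀ (a : A), ∀ x ∈ D, a • x ∈ D := by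
    intro a x hx
    have : a • x = x * (x⁻¹ * a • x) := by group
    rw [this]
    exact mul_mem hx (hgen a x)
  -- `D` centralizes the derived subgroup
  obtain ⟨c0, hc0⟩ := (IsZGroup.isCyclic_commutator G).exists_generator
  have hcc : ∀ z ∈ commutator G, ∃ k : ℤ, (c0 : G) ^ k = z := fun z hz => by
    obtain ⟨k, hk⟩ := Subgroup.mem_zpowers_iff.mp (hc0 ⟨z, hz⟩)
    exact ⟨k, by simpa using congrArg Subtype.val hk⟩
  have hact : ∀ a : A, ∃ j : ℤ, a • (c0 : G) = (c0 : G) ^ j := fun a => by
    obtain ⟨j, hj⟩ := hcc (a • (c0 : G)) (by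
      have h1 : (commutator G).Characteristic := inferInstance
      exact Subgroup.characteristic_iff_map_le.mp h1 (MulDistribMulAction.toMulAut A G a)
        ⟨c0, c0.2, rfl⟩)
    exact ⟨j, hj.symm⟩
  have hDF : D ≤ Subgroup.centralizer (commutator G : Set G) := by
    rw [hD, Subgroup.closure_le]
    rintro _ ⟨a, g, rfl⟩ z hz
    obtain ⟨k, rfl⟩ := hcc z hz
    obtain ⟨i, hi⟩ := hcc (g * (c0 : G) * g⁻¹) ((inferInstance : (commutator G).Normal).conj_mem _ c0.2 g)
    obtain ⟨j, hj⟩ := hact a⁻¹
    have h1 : (a • g) * (c0 : G) ^ k * (a • g)⁻¹ = g * (c0 : G) ^ k * g⁻¹ := by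
      have e : (c0 : G) ^ k = a • (a⁻¹ • (c0 : G) ^ k) := (smul_inv_smul a _).symm
      have hzp : ∀ (b : A) (x : G) (t : ℤ), b • x ^ t = (b • x) ^ t := fun b x t =>
        map_zpow (MulDistribMulAction.toMulAut A G b) x t
      calc (a • g) * (c0 : G) ^ k * (a • g)⁻¹ = a • (g * (a⁻¹ • (c0 : G) ^ k) * g⁻¹) := by
            rw [smul_mul', smul_mul', smul_inv', ← e]
        _ = a • (((c0 : G) ^ i) ^ (j * k)) := by
            rw [hzp, hj, ← zpow_mul, hi, conj_zpow]
        _ = a • (a⁻¹ • (((c0 : G) ^ i) ^ k)) := by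
            rw [hzp a⁻¹, hzp a⁻¹, hj, ← zpow_mul, ← zpow_mul, ← zpow_mul]
            congr 2; ring
        _ = g * (c0 : G) ^ k * g⁻¹ := by rw [smul_inv_smul, hi, conj_zpow]
    calc (c0 : G) ^ k * (g⁻¹ * a • g) = g⁻¹ * (g * (c0 : G) ^ k * g⁻¹) * a • g := by group
      _ = g⁻¹ * ((a • g) * (c0 : G) ^ k * (a • g)⁻¹) * a • g := by rw [h1]
      _ = g⁻¹ * a • g * (c0 : G) ^ k := by group
  -- the centralizer of the derived subgroup is cyclic
  haveI hFc : IsCyclic (Subgroup.centralizer (commutator G : Set G)) := by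
    set F := Subgroup.centralizer (commutator G : Set G)
    let f : F →* Abelianization G := Abelianization.of.comp F.subtype
    have hker : f.ker ≤ Subgroup.center F := by
      intro x hx
      have hx' : (x : G) ∈ commutator G := by
        rw [← Abelianization.ker_of G]; exact hx
      exact Subgroup.mem_center_iff.mpr fun y => Subtype.ext (y.2 x hx').symm
    haveI := f.isMulCommutative_of_isCyclic_of_ker_le_center hker
    haveI : Group.IsNilpotent F := by
      open scoped IsMulCommutative in exact CommGroup.isNilpotent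
    infer_instance
  haveI hDc : IsCyclic D := isCyclic_of_injective (Subgroup.inclusion hDF)
    (Subgroup.inclusion_injective hDF)
  have hsolv : Group.IsSolvable G := inferInstance
  -- `G = D C`
  have hdc : ∀ g : G, ∃ d ∈ D, d * g ∈ MulAction.fixedPoints A G := by
    intro g
    let φ := MulDistribMulAction.toMulAut A G
    let X := SemidirectProduct G A φ
    haveI : Finite X := Finite.of_equiv _ SemidirectProduct.equivProd.symm
    set N : Subgroup X := D.map SemidirectProduct.inl with hN
    set A' : Subgroup X := (SemidirectProduct.inr : A →* X).range with hA'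
    have hnorm : A' ≤ Subgroup.normalizer (N : Set X) := by
      refine Subgroup.le_normalizer_iff.2 ?_
      rintro _ ⟨a, rfl⟩ _ ⟨x, hx, rfl⟩
      refine ⟨a • x, hsmulD a x hx, ?_⟩
      rw [← map_inv]
      exact SemidirectProduct.inl_aut a x
    have hA'c : Nat.card A' = Nat.card A := Nat.card_congr (MonoidHom.ofInjective
      (SemidirectProduct.inr_injective (φ := φ))).toEquiv.symm
    have hNc : Nat.card N = Nat.card D := (Nat.card_congr
      (D.equivMapOfInjective _ (SemidirectProduct.inl_injective (φ := φ))).toEquiv).symm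
    have hNsol : Group.IsSolvable N := Group.isSolvable_of_surjective
      (f := (D.equivMapOfInjective (SemidirectProduct.inl : G →* X)
        (SemidirectProduct.inl_injective (φ := φ))).toMonoidHom) (MulEquiv.surjective _)
    obtain ⟨n, ⟨d, hd, rfl⟩, hn⟩ := CfsgLib.Coprime.exists_mul_mem_centralizer hnorm
      (by rw [hA'c, hNc]; exact hcop.coprime_dvd_right D.card_subgroup_dvd_card) (Or.inr hNsol)
      (k := SemidirectProduct.inl g) (by
        rintro _ ⟨a, rfl⟩
        refine ⟨a • g * g⁻¹, ?_, ?_⟩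
        · have := hDn.conj_mem _ (hgen a g) g
          simpa [mul_assoc] using this
        · rw [map_mul, commutatorElement_def, map_inv,
            show a • g = φ a g from rfl, SemidirectProduct.inl_aut, map_inv])
    refine ⟨d, hd, fun a => ?_⟩
    have h1 := hn (SemidirectProduct.inr a) ⟨a, rfl⟩
    rw [← map_mul] at h1
    apply SemidirectProduct.inl_injective (φ := φ)
    rw [show a • (d * g) = φ a (d * g) from rfl, SemidirectProduct.inl_aut, map_inv,
      h1, mul_inv_cancel_right]
  set C : Subgroup G :=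
    { carrier := MulAction.fixedPoints A G
      one_mem' := fun a => smul_one a
      mul_mem' := fun {x y} hx hy a => by rw [smul_mul', hx a, hy a]
      inv_mem' := fun {x} hx a => by rw [smul_inv', hx a] } with hC
  -- trivial intersection, by the norm map
  have hinter : ∀ x ∈ D, x ∈ MulAction.fixedPoints A G → x = 1 := by
    have hcd : ∀ u ∈ D, ∀ v ∈ D, u * v = v * u := fun u hu v hv => congrArg Subtype.val
      ((IsCyclic.isMulCommutative (α := D)).is_comm.comm ⟨u, hu⟩ ⟨v, hv⟩)
    letI : CommGroup D :=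
      { (inferInstance : Group D) with mul_comm := fun u v => Subtype.ext (hcd u u.2 v v.2) }
    cases nonempty_fintype A
    let T : D →* D :=
      { toFun := fun x => ∏ a : A, ⟨a • (x : G), hsmulD a x x.2⟩
        map_one' := Finset.prod_eq_one fun a _ => Subtype.ext (smul_one a)
        map_mul' := fun x y => by
          rw [← Finset.prod_mul_distrib]
          exact Finset.prod_congr rfl fun a _ => Subtype.ext (smul_mul' a _ _) }
    have hTinv : ∀ (b : A) (x : D), T ⟨b • (x : G), hsmulD b x x.2⟩ = T x := by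
      intro b x
      refine Fintype.prod_equiv (Equiv.mulRight b) _ _ fun a => Subtype.ext ?_
      exact smul_smul a b _
    have hTker : D ≤ T.ker.map D.subtype := by
      refine hD.le.trans ((Subgroup.closure_le _).mpr ?_)
      rintro _ ⟨b, g, rfl⟩
      obtain ⟨d, hd, hdg⟩ := hdc g
      have he : g⁻¹ * b • g = (d * g)⁻¹ * (d * (b • d)⁻¹) * (d * g) := by
        have h1 : b • g = (b • d)⁻¹ * (d * g) := by
          rw [← hdg b, smul_mul', inv_mul_cancel_left]
        rw [h1]; group
      refine ⟨⟨g⁻¹ * b • g, hgen b g⟩, ?_, rfl⟩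
      have hmem : ∀ y : D, (d * g)⁻¹ * (y : G) * (d * g) ∈ D := fun y => by
        have := hDn.conj_mem y y.2 (d * g)⁻¹; simpa using this
      let ι : D →* D :=
        { toFun := fun y => ⟨(d * g)⁻¹ * (y : G) * (d * g), hmem y⟩
          map_one' := Subtype.ext (by simp)
          map_mul' := fun u v => Subtype.ext (by simp only [Subgroup.coe_mul]; group) }
      have hTι : ∀ y, T (ι y) = ι (T y) := fun y => by
        show (∏ a : A, (⟨a • ((ι y : D) : G), _⟩ : D)) = ι (∏ a : A, (⟨a • (y : G), _⟩ : D))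
        rw [map_prod]
        refine Finset.prod_congr rfl fun a _ => Subtype.ext ?_
        show a • ((d * g)⁻¹ * (y : G) * (d * g)) = (d * g)⁻¹ * (a • (y : G)) * (d * g)
        rw [smul_mul', smul_mul', smul_inv', hdg a]
      show T _ = 1
      rw [show (⟨g⁻¹ * b • g, hgen b g⟩ : D) =
        ι (⟨d, hd⟩ * (⟨b • d, hsmulD b d hd⟩ : D)⁻¹) from Subtype.ext he, hTι, map_mul T, map_inv T,
        hTinv b ⟨d, hd⟩, mul_inv_cancel, map_one]
    intro x hx hfix
    obtain ⟨y, hy, rfl⟩ := hTker hx
    have h1 : y ^ Nat.card A = 1 := by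
      rw [← MonoidHom.mem_ker.mp hy, Nat.card_eq_fintype_card, ← Finset.card_univ]
      exact (Finset.prod_eq_pow_card fun a _ => Subtype.ext (hfix a)).symm
    have h2 := pow_gcd_eq_one.mpr ⟨h1, pow_card_eq_one' (x := y)⟩
    rw [hcop.coprime_dvd_right D.card_subgroup_dvd_card, pow_one] at h2
    rw [h2]; rfl
  have hCcl : Subgroup.closure (MulAction.fixedPoints A G) = C := Subgroup.closure_eq C
  have hsup : D ⊔ C = ⊤ := by
    rw [eq_top_iff]
    intro g _
    obtain ⟨d, hd, hdg⟩ := hdc g
    rw [show g = d⁻¹ * (d * g) by group]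
    exact Subgroup.mul_mem_sup (inv_mem hd) hdg
  have hcompl : D.IsComplement' C := Subgroup.isComplement'_of_disjoint_and_mul_eq_univ
    (Subgroup.disjoint_def.mpr fun {x} hx hxC => hinter x hx hxC)
    (by rw [← Subgroup.normal_mul, hsup, Subgroup.coe_top])
  refine ⟨?_, hDc, hDn, ?_, by rw [hCcl]; exact hsup⟩
  · show (Nat.card C).Coprime (Nat.card G / Nat.card C)
    rw [← hcompl.card_mul, Nat.mul_div_cancel _ Nat.card_pos]
    refine Nat.coprime_of_dvd fun p hp hpC hpD => ?_
    have := Fact.mk hp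
    obtain ⟨c, hc⟩ := exists_prime_orderOf_dvd_card' (G := C) p hpC
    obtain ⟨d, hd⟩ := exists_prime_orderOf_dvd_card' (G := D) p hpD
    have hcG : orderOf (c : G) = p := by rw [Subgroup.orderOf_coe, hc]
    have hdG : orderOf (d : G) = p := by rw [Subgroup.orderOf_coe, hd]
    have hcp : IsPGroup p (Subgroup.zpowers (c : G)) :=
      IsPGroup.of_card (n := 1) (by rw [Nat.card_zpowers, hcG, pow_one])
    have hdp : IsPGroup p (Subgroup.zpowers (d : G)) :=
      IsPGroup.of_card (n := 1) (by rw [Nat.card_zpowers, hdG, pow_one])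
    obtain ⟨P, hP⟩ := hcp.exists_le_sylow
    obtain ⟨Q, hQ⟩ := hdp.exists_le_sylow
    obtain ⟨h, hh⟩ := MulAction.exists_smul_eq G P Q
    have hdQ : (d : G) ∈ ((h • P : Sylow p G) : Subgroup G) := hh.symm ▸ hQ (Subgroup.mem_zpowers _)
    obtain ⟨d', hd', hdd⟩ := hdQ
    have hd'D : d' ∈ D := by
      have h1 := hDn.conj_mem d d.2 h⁻¹
      rw [← hdd] at h1
      simpa [mul_assoc] using h1
    have hd'o : orderOf d' = p := by
      rw [← hdG, ← hdd]; exact ((MulAut.conj h).orderOf_eq d').symm
    haveI : IsCyclic (P : Subgroup G) := hcyc p P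
    have h2 := CfsgLib.PGroup.Kulakoff.isCyclic_card_eq_one hp.pos
      (Subgroup.zpowers (⟨c, hP (Subgroup.mem_zpowers _)⟩ : (P : Subgroup G)))
      (Subgroup.zpowers (⟨d', hd'⟩ : (P : Subgroup G)))
      (by rw [Nat.card_zpowers, Subgroup.orderOf_mk, hcG])
      (by rw [Nat.card_zpowers, Subgroup.orderOf_mk, hd'o])
    obtain ⟨k, hk⟩ := Subgroup.mem_zpowers_iff.mp (h2 ▸ Subgroup.mem_zpowers _ :
      (⟨c, hP (Subgroup.mem_zpowers _)⟩ : (P : Subgroup G)) ∈ Subgroup.zpowers _)
    have hk' : d' ^ k = (c : G) := by simpa using congrArg Subtype.val hk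
    have h3 := hinter _ (hk' ▸ zpow_mem hd'D k) c.2
    rw [h3, orderOf_one] at hcG
    exact hp.ne_one hcG.symm
  · refine Set.eq_singleton_iff_unique_mem.mpr ⟨⟨one_mem D, fun a => smul_one a⟩, ?_⟩
    exact fun x hx => hinter x hx.1 hx.2

end Cfsg.Agent.S4117
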