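import Cfsg.Statements.S4126
import Mathlib
import Cfsg.Agent.Lib.PGroup.CoprimeFix
import Cfsg.Agent.Lib.PGroup.IndexPow
import Cfsg.Agent.Lib.Fusion.Alperin
import Cfsg.Agent.Lib.Fusion.NormalRankTwo

set_option autoImplicit false
open Cfsg

namespace Cfsg.Agent.S4126

open CfsgLib.PGroup.CoprimeFix
open scoped commutatorElement

/-- Let G be a finite group and p a prime. Suppose every element of order p, and when p = 2 also every element of order 4, has a conjugacy class of p-power size. Then G has a normal p-complement. -/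
theorem result {G : Type*} [Group G] [Finite G] (p : ℕ) [Fact p.Prime]
    (h : ∀ x : G, (orderOf x = p ∨ (p = 2 ∧ orderOf x = 4)) → ∃ a : ℕ, (Subgroup.centralizer ({x} : Set G)).index = p ^ a) :
    Cfsg.HasNormalPComplement p G := by
  classical
  have hp : p.Prime := Fact.out
  have hidx : ∀ x : G, x ^ qq p = 1 → ∃ a, (Subgroup.centralizer ({x} : Set G)).index = p ^ a := by
    intro x hx
    by_cases hx1 : x = 1
    · exact ⟨0, by rw [hx1, pow_zero, Subgroup.index_eq_one, Subgroup.centralizer_eq_top_iff_subset]; simp⟩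
    refine h x ?_
    have hd := orderOf_dvd_of_pow_eq_one hx
    unfold qq at hd
    split_ifs at hd with h2
    · subst h2
      obtain ⟨i, hi, he⟩ := (Nat.dvd_prime_pow Nat.prime_two).mp
        (show orderOf x ∣ 2 ^ 2 by simpa using hd)
      interval_cases i
      · exact absurd (orderOf_eq_one_iff.mp (by simpa using he)) hx1
      · left; simpa using he
      · right; exact ⟨rfl, by simpa using he⟩
    · exact Or.inl (((hp.eq_one_or_self_of_dvd _ hd)).resolve_left fun h1 => hx1 (orderOf_eq_one_iff.mp h1))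
  have hppow : ∀ x : G, x ^ qq p = 1 → ∃ k, orderOf x = p ^ k := by
    intro x hx
    refine CfsgLib.PGroup.Basic.exists_orderOf_eq_pow_of_pow_eq_one (k := if p = 2 then 2 else 1) ?_
    split_ifs with h2
    · simpa [qq, h2] using hx
    · simpa [qq, h2] using hx
  set R := Cfsg.pCore p G with hRdef
  have hR : IsPGroup p R := CfsgLib.Solvable.Cores.isPGroup_pCore p
  have hmemR : ∀ x : G, x ^ qq p = 1 → x ∈ R := fun x hx => by
    obtain ⟨a, ha⟩ := hidx x hx
    exact CfsgLib.PGroup.IndexPow.mem_pCore_of_index_pow (hppow x hx) ha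
  haveI : R.Normal := CfsgLib.Solvable.Cores.pCore_normal p
  obtain ⟨C, hCc, hC, hcrit⟩ := exists_critical hR
  haveI := hCc
  set H := C.map R.subtype with hHdef
  haveI : H.Normal := ConjAct.normal_of_characteristic_of_normal
  let S : Set G := {g | (orderOf g).Coprime p}
  haveI hD : (Subgroup.centralizer S).Normal := ⟨fun z hz g => by
    intro k hk
    have h1 := hz (g⁻¹ * k * g) (by
      show (orderOf (g⁻¹ * k * g)).Coprime p
      have : g⁻¹ * k * g = MulAut.conj g⁻¹ k := by simp
      rw [this, MulEquiv.orderOf_eq]; exact hk)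
    calc k * (g * z * g⁻¹) = g * (g⁻¹ * k * g * z) * g⁻¹ := by group
      _ = g * (z * (g⁻¹ * k * g)) * g⁻¹ := by rw [h1]
      _ = _ := by group⟩
  -- the small elements of the critical subgroup are centralized by all p'-elements
  set W := hC.small.map R.subtype with hWdef
  haveI hW : W.Normal := ⟨by
    rintro _ ⟨w, hw, rfl⟩ g
    obtain ⟨w', hw', he⟩ := (inferInstance : H.Normal).conj_mem _ ⟨w, hw.1, rfl⟩ g
    refine ⟨w', ⟨hw', ?_⟩, he⟩
    have hwG : (w : G) ^ qq p = 1 := by rw [← Subgroup.coe_pow, hw.2, Subgroup.coe_one]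
    apply Subtype.ext
    have he' : (w' : G) = g * w * g⁻¹ := he
    rw [Subgroup.coe_pow, he', conj_pow, hwG, mul_one, mul_inv_cancel, Subgroup.coe_one]⟩
  have hWD : W ≤ Subgroup.centralizer S := by
    by_contra hcon
    obtain ⟨P⟩ : Nonempty (Sylow p G) := inferInstance
    have hWR : W ≤ R := Subgroup.map_subtype_le _
    have hRP : R ≤ (P : Subgroup G) := CfsgLib.Solvable.Cores.pCore_le_sylow P
    set T := W ⊓ Subgroup.centralizer S with hT
    have hnle : ¬ W.subgroupOf (P : Subgroup G) ≤ T.subgroupOf (P : Subgroup G) := fun hle =>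
      hcon fun w hw => ((hle (show (⟨w, hRP (hWR hw)⟩ : (P : Subgroup G)) ∈ W.subgroupOf _ from hw)) :
        w ∈ T).2
    obtain ⟨⟨v, hvP⟩, hvW, hvT, -, hvc⟩ :=
      CfsgLib.Fusion.NormalRankTwo.exists_central_of_lt P.2 hnle
    rw [Subgroup.mem_subgroupOf] at hvW hvT
    obtain ⟨v', hv', hve⟩ := id hvW
    have hvq : v ^ qq p = 1 := by
      have hve' : (v' : G) = v := hve
      rw [← hve', ← Subgroup.coe_pow, hv'.2, Subgroup.coe_one]
    obtain ⟨a, ha⟩ := hidx v hvq
    refine hvT ⟨hvW, fun k hk => ?_⟩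
    obtain ⟨u, hu, c, hc, hk'⟩ := CfsgLib.PGroup.IndexPow.exists_mul_of_index_pow ha P k
    have hc' := Subgroup.mem_centralizer_singleton_iff.mp hc
    have ht : ⁅u, v⁆ ∈ T := hvc ⟨u, hu⟩
    have hkv : k * v * k⁻¹ = v * (v⁻¹ * ⁅u, v⁆ * v) := by
      rw [hk', commutatorElement_def, show u * c * v * (u * c)⁻¹ = u * (c * v * c⁻¹) * u⁻¹ by group,
        hc', mul_inv_cancel_right]
      group
    have htT : v⁻¹ * ⁅u, v⁆ * v ∈ T := by
      simpa using (inferInstance : T.Normal).conj_mem _ ht v⁻¹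
    have h1 := CfsgLib.OddOrder.Stabilize.eq_one_of_conj_eq_mul hkv (htT.2 k hk) ?_
    · rw [h1, mul_one] at hkv
      exact mul_inv_eq_iff_eq_mul.mp hkv
    · obtain ⟨j, hj⟩ := CfsgLib.PGroup.Basic.exists_orderOf_eq_pow_of_mem hR (hWR htT.1)
      rw [hj]; exact Nat.Coprime.pow_right _ hk
  -- hence the p'-elements centralize the critical subgroup, so all of R
  have hkR : ∀ k : G, (orderOf k).Coprime p → k ∈ Subgroup.centralizer (R : Set G) := by
    intro k hk
    have hH : IsPGroup p H := hR.to_le (Subgroup.map_subtype_le _)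
    have hkH : k ∈ Subgroup.centralizer (H : Set G) := by
      refine centralizes_of_fix hH (by rw [Subgroup.normalizer_eq_top]; trivial) hk fun x hx hxq => ?_
      obtain ⟨c, hc, rfl⟩ := hx
      exact (hWD (⟨c, ⟨hc, Subtype.ext (by simpa using hxq)⟩, rfl⟩ : (c : G) ∈ W)) k hk
    have hkN : k ∈ Subgroup.normalizer (R : Set G) := by rw [Subgroup.normalizer_eq_top]; trivial
    let f := R.normalizerMonoidHom
    have hd : (orderOf (f ⟨k, hkN⟩)).Coprime p :=
      hk.coprime_dvd_left ((orderOf_map_dvd f _).trans (by rw [Subgroup.orderOf_mk]))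
    have ha := hcrit (f ⟨k, hkN⟩) hd fun x hx => Subtype.ext (by
      show k * (x : G) * k⁻¹ = x
      rw [← hkH (x : G) ⟨x, hx, rfl⟩, mul_inv_cancel_right])
    intro x hx
    have h' : k * x * k⁻¹ = x := congrArg Subtype.val (DFunLike.congr_fun ha (⟨x, hx⟩ : R))
    exact (mul_inv_eq_iff_eq_mul.mp h').symm
  obtain ⟨P⟩ : Nonempty (Sylow p G) := inferInstance
  exact CfsgLib.Fusion.Alperin.npc_of_frobenius P fun Q hQ g hg ho =>
    centralizes_of_fix (P.2.to_le hQ) hg ho fun x _ hxq => (hkR g ho x (hmemR x hxq)).symm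

end Cfsg.Agent.S4126
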