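import Cfsg.Statements.S4127
import Mathlib
import Cfsg.Agent.Lib.PGroup.IndexPow
import Cfsg.Agent.Lib.PGroup.CountPElements
import Cfsg.Agent.Lib.Fusion.Alperin
import Cfsg.Agent.Lib.OddOrder.Stabilize

set_option autoImplicit false
open Cfsg

namespace Cfsg.Agent.S4127

/-- Let G be a finite group, p a prime and p^a the largest power of p dividing the size of any conjugacy class of G. If some element of p-power order has a conjugacy class of size exactly p^a, then G has a normal p-complement. -/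
theorem result {G : Type*} [Group G] [Finite G] (p : ℕ) [Fact p.Prime]
    (a : ℕ) (hmax : ∀ y : G, ¬ p ^ (a + 1) ∣ (Subgroup.centralizer ({y} : Set G)).index)
    (hx : ∃ x : G, (∃ k : ℕ, orderOf x = p ^ k) ∧ (Subgroup.centralizer ({x} : Set G)).index = p ^ a) :
    Cfsg.HasNormalPComplement p G := by
  classical
  have hp : p.Prime := Fact.out
  obtain ⟨x, ⟨k, hk⟩, hxa⟩ := hx
  set C := Subgroup.centralizer ({x} : Set G) with hCdef
  have hxC : x ∈ C := Subgroup.mem_centralizer_singleton_iff.mpr rfl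
  have hxR : x ∈ Cfsg.pCore p G := CfsgLib.PGroup.IndexPow.mem_pCore_of_index_pow ⟨k, hk⟩ hxa
  -- a p'-element of C centralizes a Sylow subgroup of C
  have hD : ∀ y : C, (orderOf y).Coprime p →
      ¬ p ∣ (Subgroup.centralizer ({y} : Set C)).index := by
    intro y hy hd
    obtain ⟨n, hn1, hn2⟩ := Nat.chineseRemainder
      (show (p ^ k).Coprime (orderOf (y : G)) by
        rw [Subgroup.orderOf_coe]; exact Nat.Coprime.pow_left k hy.symm) 1 0
    have hxy : Commute x (y : G) := (Subgroup.mem_centralizer_singleton_iff.mp y.2).symm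
    have hpow : (x * (y : G)) ^ n = x := by
      rw [hxy.mul_pow]
      have h1 : x ^ n = x ^ 1 := pow_eq_pow_iff_modEq.mpr (hk ▸ hn1)
      have h2 : (y : G) ^ n = 1 :=
        orderOf_dvd_iff_pow_eq_one.mp (Nat.modEq_zero_iff_dvd.mp hn2)
      rw [h1, h2, pow_one, mul_one]
    have hle : Subgroup.centralizer ({x * (y : G)} : Set G) ≤
        C ⊓ Subgroup.centralizer ({(y : G)} : Set G) := by
      intro g hg
      have hgc : Commute g (x * (y : G)) := Subgroup.mem_centralizer_singleton_iff.mp hg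
      have hgx : Commute g x := hpow ▸ hgc.pow_right n
      refine ⟨Subgroup.mem_centralizer_singleton_iff.mpr hgx, Subgroup.mem_centralizer_singleton_iff.mpr ?_⟩
      have := hgx.inv_right.mul_right hgc
      rwa [inv_mul_cancel_left] at this
    refine hmax (x * (y : G)) (dvd_trans ?_ (Subgroup.index_dvd_of_le hle))
    have h3 := Subgroup.relIndex_mul_index (inf_le_left : C ⊓ Subgroup.centralizer ({(y : G)} : Set G) ≤ C)
    rw [← h3, Subgroup.inf_relIndex_left, hxa, pow_succ']
    refine mul_dvd_mul_right ?_ _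
    have he : (Subgroup.centralizer ({(y : G)} : Set G)).subgroupOf C =
        Subgroup.centralizer ({y} : Set C) := by
      ext c
      simp only [Subgroup.mem_subgroupOf, Subgroup.mem_centralizer_singleton_iff, Subtype.ext_iff,
        Subgroup.coe_mul]
    rwa [Subgroup.relIndex, he]
  have hsyl : ∀ y : C, (orderOf y).Coprime p → ∀ u : C, (∃ j, orderOf u = p ^ j) → u * y = y * u →
      ∃ Q : Sylow p C, u ∈ (Q : Subgroup C) ∧ ∀ q ∈ (Q : Subgroup C), q * y = y * q := by
    intro y hy u hu huy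
    set D := Subgroup.centralizer ({y} : Set C) with hDdef
    have huD : u ∈ D := Subgroup.mem_centralizer_singleton_iff.mpr huy
    obtain ⟨Q0, hQ0⟩ := CfsgLib.PGroup.Basic.mem_sylow_of_orderOf (p := p) (x := (⟨u, huD⟩ : D))
      (by simpa [Subgroup.orderOf_mk] using hu)
    have hQp : IsPGroup p ((Q0 : Subgroup D).map D.subtype) := Q0.2.map _
    refine ⟨hQp.toSylow ?_, ?_, ?_⟩
    · rw [Subgroup.index_map_subtype, hp.dvd_mul]
      exact not_or.mpr ⟨Q0.not_dvd_index, hD y hy⟩
    · exact ⟨⟨u, huD⟩, hQ0, rfl⟩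
    · rintro q ⟨q', -, rfl⟩
      exact Subgroup.mem_centralizer_singleton_iff.mp q'.2
  obtain ⟨S⟩ : Nonempty (Sylow p C) := inferInstance
  have hSn : (S : Subgroup C).Normal := by
    rw [← Subgroup.normalizer_eq_top_iff]
    refine CfsgLib.PGroup.IndexPow.eq_top_of_conj_cover fun z => ?_
    obtain ⟨u, y, hz, huy, hu, hy⟩ := CfsgLib.PGroup.CountPElements.exists_decomp (p := p) z
    obtain ⟨Q, huQ, hyQ⟩ := hsyl y (hp.coprime_iff_not_dvd.mpr hy).symm u hu huy
    obtain ⟨a, haS⟩ := MulAction.exists_smul_eq C Q S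
    refine ⟨a⁻¹, ?_⟩
    rw [inv_inv]
    refine Sylow.smul_eq_iff_mem_normalizer.mp ?_
    have hzQ : z • Q = Q := by
      rw [Sylow.smul_eq_iff_mem_normalizer, ← hz]
      exact mul_mem (Subgroup.le_normalizer huQ)
        (Subgroup.centralizer_le_normalizer _ (Subgroup.mem_centralizer_iff.mpr hyQ))
    rw [mul_smul, mul_smul, ← haS, inv_smul_smul, hzQ]
  haveI := hSn
  haveI hsub : Subsingleton (Sylow p C) :=
    (Sylow.unique_of_normal S hSn).instSubsingleton
  have hyS : ∀ y : C, (orderOf y).Coprime p → ∀ u ∈ (S : Subgroup C), u * y = y * u := by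
    intro y hy u hu
    obtain ⟨Q, -, hQ⟩ := hsyl y hy 1 ⟨0, by simp⟩ (by simp)
    exact hQ u (by rwa [Subsingleton.elim Q S])
  have hnpc : Cfsg.HasNormalPComplement p C :=
    CfsgLib.Fusion.Alperin.npc_of_frobenius S fun Q hQ g _ ho =>
      Subgroup.mem_centralizer_iff.mpr fun q hq => hyS g ho q (hQ hq)
  -- the p'-elements of C centralize O_p(G)
  set R := Cfsg.pCore p G with hRdef
  have hR : IsPGroup p R := CfsgLib.Solvable.Cores.isPGroup_pCore p
  haveI : R.Normal := CfsgLib.Solvable.Cores.pCore_normal p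
  haveI := hR.isNilpotent
  have hyR : ∀ y : G, y ∈ C → (orderOf y).Coprime p → y ∈ Subgroup.centralizer (R : Set G) := by
    intro y hyC hy
    have := CfsgLib.OddOrder.Stabilize.le_centralizer_of_selfcentralizing (H := R)
      (A := Subgroup.zpowers y) (C := R ⊓ C) ?_ ?_ inf_le_left ?_ ?_
    · exact this (Subgroup.mem_zpowers y)
    · rw [Subgroup.normalizer_eq_top]; exact le_top
    · obtain ⟨n, hn⟩ := hR.exists_card_eq
      rw [Nat.card_zpowers, hn]; exact Nat.Coprime.pow_right n hy
    · rw [Subgroup.zpowers_le, Subgroup.mem_centralizer_iff]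
      intro r hr
      obtain ⟨Q, hQ⟩ := CfsgLib.PGroup.Basic.mem_sylow_of_orderOf (p := p) (x := (⟨r, hr.2⟩ : C))
        (by simpa [Subgroup.orderOf_mk] using CfsgLib.PGroup.Basic.exists_orderOf_eq_pow_of_mem hR hr.1)
      exact congrArg Subtype.val (hyS ⟨y, hyC⟩ (by rwa [Subgroup.orderOf_mk]) _
        (by rw [Subsingleton.elim S Q]; exact hQ))
    · intro g hg
      exact ⟨hg.1, Subgroup.mem_centralizer_singleton_iff.mpr (hg.2 x ⟨hxR, hxC⟩).symm⟩
  set K := (Cfsg.pResidual p C).map C.subtype with hKdef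
  have hK : ∀ g : G, g ∈ K ↔ g ∈ C ∧ (orderOf g).Coprime p := by
    intro g
    constructor
    · rintro ⟨c, hc, rfl⟩
      exact ⟨c.2, by
        rw [Subgroup.coe_subtype, Subgroup.orderOf_coe]
        exact (CfsgLib.Fusion.Basic.mem_pResidual_iff hnpc).mp hc⟩
    · exact fun h => CfsgLib.Fusion.Basic.mem_map_pResidual_of_coprime h.1 h.2
  haveI : K.Normal := ⟨fun n hn g => by
    obtain ⟨hnC, hno⟩ := (hK n).mp hn
    refine (hK _).mpr ⟨?_, ?_⟩
    · have h1 := (inferInstance : (Subgroup.centralizer (R : Set G)).Normal).conj_mem n (hyR n hnC hno) g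
      exact Subgroup.mem_centralizer_singleton_iff.mpr (h1 x hxR).symm
    · rw [show g * n * g⁻¹ = MulAut.conj g n from rfl, MulEquiv.orderOf_eq]; exact hno⟩
  obtain ⟨m, hm⟩ := CfsgLib.Fusion.Basic.exists_index_pResidual (p := p) (G := C)
  refine CfsgLib.Fusion.Basic.npc_of_normal K ?_ (k := m + a) ?_
  · rw [hKdef, Subgroup.card_map_of_injective C.subtype_injective]
    exact CfsgLib.Fusion.Basic.npc_iff_coprime.mp hnpc
  · rw [hKdef, Subgroup.index_map_subtype, hm, hxa, pow_add]

end Cfsg.Agent.S4127
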