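import Cfsg.Statements.S4130
import Cfsg.Agent.Lib.SquarefreeClass.CyclicDerived
-- import your own Cfsg.Agent.* helpers here

set_option autoImplicit false
open Cfsg 

namespace Cfsg.Agent.S4130

/-- Let G be a finite group all of whose conjugacy class sizes are square-free. Then G is supersolvable, G/F(G) and the derived subgroup G′ are cyclic of square-free order (F(G) the Fitting subgroup, which is normal), F(G) has nilpotency class at most 2, and G is metabelian. -/
theorem result {G : Type*} [Group G] [Finite G]
    (h : ∀ x : G, Squarefree (Subgroup.centralizer ({x} : Set G)).index) :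
    Cfsg.IsSupersolvable G ∧ (Cfsg.fittingSubgroup G).Normal ∧
    (∀ _h : (Cfsg.fittingSubgroup G).Normal, IsCyclic (G ⧸ Cfsg.fittingSubgroup G) ∧ Squarefree (Cfsg.fittingSubgroup G).index) ∧
    IsCyclic (commutator G) ∧ Squarefree (Nat.card (commutator G)) ∧
    Subgroup.upperCentralSeries ↥(Cfsg.fittingSubgroup G) 2 = ⊤ ∧ commutator ↥(commutator G) = ⊥ := by
  have hsol : Group.IsSolvable G := CfsgLib.SquarefreeClass.isSolvable (Nat.card G) G le_rfl h
  have hpp := CfsgLib.SquarefreeClass.PPSquarefree.of_all h
  have hsup := CfsgLib.SquarefreeClass.isSupersolvable hpp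
  have hG := CfsgLib.SquarefreeClass.commutator_le_fitting hsup
  have hnil : Group.IsNilpotent (commutator G) :=
    CfsgLib.Solvable.Supersolvable.commutator_isNilpotent_aux _ G rfl hsup
  have hsq := CfsgLib.SquarefreeClass.squarefree_commutator h hG
  have hcyc := CfsgLib.SquarefreeClass.isCyclic_of_squarefree hsq
  refine ⟨hsup, inferInstance, fun _ => ⟨CfsgLib.SquarefreeClass.isCyclic_quotient_fitting h hG,
    CfsgLib.SquarefreeClass.squarefree_index_fitting h hG⟩, hcyc, hsq,
    CfsgLib.SquarefreeClass.class_two hpp, ?_⟩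
  rw [eq_bot_iff]
  refine Subgroup.commutator_le.2 ?_
  intro a _ b _
  rw [Subgroup.mem_bot, commutatorElement_eq_one_iff_mul_comm]
  exact (IsCyclic.commGroup).mul_comm a b


end Cfsg.Agent.S4130
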