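import Cfsg.Statements.S4133
import Cfsg.Agent.S0205
import Cfsg.Agent.Lib.FTApps.AbelianSylowIndex

set_option autoImplicit false
open Cfsg

namespace Cfsg.Agent.S4133

open Subgroup CfsgLib.FTApps.AbelianSylowIndex

/-- Let G be a finite group all of whose Sylow subgroups are abelian, and let 2^a be the largest power of 2 dividing the size of any conjugacy class of G. If some element has a conjugacy class of size exactly 2^a, then G is solvable. -/
theorem result {G : Type*} [Group G] [Finite G]
    (hA : ∀ (p : ℕ) [Fact p.Prime] (P : Sylow p G), IsMulCommutative (P : Subgroup G))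
    (a : ℕ) (hmax : ∀ y : G, ¬ 2 ^ (a + 1) ∣ (Subgroup.centralizer ({y} : Set G)).index) (hx : ∃ x : G, (Subgroup.centralizer ({x} : Set G)).index = 2 ^ a) :
    Group.IsSolvable G := by
  classical
  haveI : Fact (Nat.Prime 2) := ⟨Nat.prime_two⟩
  have hFT : CfsgLib.FTApps.OddSolvable := fun X _ _ hX => Cfsg.Agent.S0205.result hX
  by_contra hns
  obtain ⟨x, hx⟩ := hx
  have hAb : AbSyl G := absyl_of_sylow fun p _ P => hA p P
  obtain ⟨L, hLn, hL1, hLp⟩ := exists_perfect_normal hns
  haveI := hLn
  set C := centralizer ({x} : Set G) with hC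
  -- the perfect normal subgroup centralizes `x`
  obtain ⟨j, hj⟩ := relIndex_pow hx L
  have htop := eq_top_of_index_pow hFT (absyl_subgroup hAb L) hLp (K := C.subgroupOf L) hj
  have hLC : L ≤ C := fun z hz => by
    have h1 : (⟨z, hz⟩ : ↥L) ∈ C.subgroupOf L := by rw [htop]; exact mem_top _
    exact h1
  have hLx : ∀ l ∈ L, l * x = x * l := fun l hl => mem_centralizer_singleton_iff.1 (hLC hl)
  have hZ : center ↥L = ⊥ := center_eq_bot (absyl_subgroup hAb L) hLp
  -- hence every element of it centralizes one of its Sylow 2-subgroups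
  have hodd : ∀ y : ↥L, ¬ 2 ∣ (centralizer ({y} : Set ↥L)).index := by
    intro y
    set D := centralizer ({(y : G)} : Set G) with hD
    have hle : centralizer ({x * (y : G)} : Set G) ≤ C ⊓ D := by
      intro g hg
      have hg' : g * (x * (y : G)) = x * (y : G) * g := mem_centralizer_singleton_iff.1 hg
      set z := g * (y : G) * g⁻¹ * (y : G)⁻¹ with hz
      have hzL : z ∈ L := mul_mem (hLn.conj_mem _ y.2 g) (inv_mem y.2)
      have hxy : x * (y : G) = g * x * g⁻¹ * (g * (y : G) * g⁻¹) := by
        calc x * (y : G) = g * (x * (y : G)) * g⁻¹ := by rw [hg', mul_inv_cancel_right]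
          _ = _ := by group
      have hzx : z = (g * x * g⁻¹)⁻¹ * x := by
        rw [hz, eq_inv_mul_iff_mul_eq, ← mul_assoc, ← hxy, mul_inv_cancel_right]
      have hzc : (⟨z, hzL⟩ : ↥L) ∈ center ↥L := mem_center_iff.2 fun l => Subtype.ext (by
        show (l : G) * z = z * (l : G)
        have h1 : Commute (l : G) x := hLx l l.2
        have h2 : Commute (l : G) (g * x * g⁻¹) := by
          have h3 := hLx _ (hLn.conj_mem _ l.2 g⁻¹)
          rw [inv_inv] at h3
          calc (l : G) * (g * x * g⁻¹) = g * (g⁻¹ * (l : G) * g * x) * g⁻¹ := by group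
            _ = g * (x * (g⁻¹ * (l : G) * g)) * g⁻¹ := by rw [h3]
            _ = g * x * g⁻¹ * (l : G) := by group
        rw [hzx]
        exact (h2.inv_right.mul_right h1).eq)
      rw [hZ, mem_bot] at hzc
      have hz1 : z = 1 := congrArg Subtype.val hzc
      have hgy : g * (y : G) = (y : G) * g := by
        rw [hz, mul_inv_eq_one, mul_inv_eq_iff_eq_mul] at hz1
        exact hz1
      refine ⟨mem_centralizer_singleton_iff.2 ?_, mem_centralizer_singleton_iff.2 hgy⟩
      rw [← mul_left_inj (y : G)]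
      calc g * x * (y : G) = g * (x * (y : G)) := mul_assoc _ _ _
        _ = x * (y : G) * g := hg'
        _ = x * (g * (y : G)) := by rw [hgy, mul_assoc]
        _ = x * g * (y : G) := by rw [mul_assoc]
    have h1 : D.relIndex C * 2 ^ a ∣ (centralizer ({x * (y : G)} : Set G)).index := by
      have h3 := relIndex_mul_index (inf_le_left : C ⊓ D ≤ C)
      rw [inf_relIndex_left, hx] at h3
      rw [h3]
      exact index_dvd_of_le hle
    have h2 : ¬ 2 ∣ D.relIndex C := fun h => hmax (x * (y : G)) (dvd_trans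
      (by rw [pow_succ']; exact Nat.mul_dvd_mul_right h _) h1)
    haveI : (L.subgroupOf C).Normal := inferInstance
    have h3 : D.relIndex L ∣ D.relIndex C := by
      have h4 := CfsgLib.Coprime.PrimePowerOrbits.relIndex_dvd_index (D.subgroupOf C) (L.subgroupOf C)
      rwa [relIndex_subgroupOf hLC] at h4
    have e : centralizer ({y} : Set ↥L) = D.subgroupOf L := by
      ext z
      rw [mem_subgroupOf, mem_centralizer_singleton_iff, mem_centralizer_singleton_iff, Subtype.ext_iff]
      rfl
    rw [e]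
    exact fun h => h2 (h.trans h3)
  obtain ⟨S⟩ : Nonempty (Sylow 2 ↥L) := inferInstance
  have hStop : centralizer ((S : Subgroup ↥L) : Set ↥L) = ⊤ := by
    refine CfsgLib.PGroup.IndexPow.eq_top_of_conj_cover fun y => ?_
    obtain ⟨S'⟩ : Nonempty (Sylow 2 ↥(centralizer ({y} : Set ↥L))) := inferInstance
    set S₁ := (S' : Subgroup ↥(centralizer ({y} : Set ↥L))).map (centralizer ({y} : Set ↥L)).subtype
      with hS₁
    have hS₁i : ¬ 2 ∣ S₁.index := by
      rw [hS₁, index_map_subtype]
      exact fun h => (Nat.prime_two.dvd_mul.1 h).elim S'.not_dvd_index (hodd y)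
    obtain ⟨g, hg⟩ := MulAction.exists_smul_eq ↥L ((S'.isPGroup'.map _).toSylow hS₁i) S
    refine ⟨g⁻¹, mem_centralizer_iff.2 fun s hs => ?_⟩
    have h1 : g⁻¹ * s * g ∈ S₁ := by
      have h2 : s ∈ g • (S'.isPGroup'.map (centralizer ({y} : Set ↥L)).subtype).toSylow hS₁i := by
        rw [hg]; exact hs
      exact (mem_smul_sylow g s _).1 h2
    obtain ⟨c, -, hc⟩ := h1
    have h3 : g⁻¹ * s * g * y = y * (g⁻¹ * s * g) := by
      rw [← hc]; exact mem_centralizer_singleton_iff.1 c.2
    rw [inv_inv]
    calc s * (g * y * g⁻¹) = g * (g⁻¹ * s * g * y) * g⁻¹ := by group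
      _ = g * (y * (g⁻¹ * s * g)) * g⁻¹ := by rw [h3]
      _ = g * y * g⁻¹ * s := by group
  have hSbot : (S : Subgroup ↥L) = ⊥ := by
    rw [eq_bot_iff, ← hZ]
    intro s hs
    exact mem_center_iff.2 fun l =>
      (mem_centralizer_iff.1 (hStop ▸ mem_top l : l ∈ centralizer ((S : Subgroup ↥L) : Set ↥L)) s hs).symm
  haveI : Nontrivial ↥L := (nontrivial_iff_ne_bot L).2 hL1
  refine not_solvable_of_perfect hLp (hFT _ (Nat.odd_iff.2 ?_))
  by_contra hev
  have h1 := S.dvd_card_of_dvd_card (show 2 ∣ Nat.card ↥L by omega)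
  rw [hSbot, card_bot] at h1
  omega

end Cfsg.Agent.S4133
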