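import Cfsg.Statements.S4135
import Cfsg.Agent.Lib.Solvable.ClassSizeNilpotent

set_option autoImplicit false
open Cfsg
open Subgroup CfsgLib CfsgLib.Solvable.ClassSizeRigid
open scoped commutatorElement

namespace Cfsg.Agent.S4135

/-- Let G be a finite group, r a prime and R a Sylow r-subgroup of G that is not central, N a normal subgroup of G containing R, and m a natural number such that every element of N has a conjugacy class in G of size 1 or m. Then N is nilpotent. -/
theorem result {G : Type*} [Group G] [Finite G] (r : ℕ) [Fact r.Prime]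
    (R : Sylow r G) (hR : ¬ (R : Subgroup G) ≤ Subgroup.center G) (N : Subgroup G) [N.Normal] (hRN : (R : Subgroup G) ≤ N)
    (m : ℕ) (h : ∀ x ∈ N, (Subgroup.centralizer ({x} : Set G)).index = 1 ∨ (Subgroup.centralizer ({x} : Set G)).index = m) : Group.IsNilpotent N := by
  classical
  have hrig : Rigid N m := fun x hx hxc => (h x hx).resolve_left fun h1 => hxc (by
    rw [index_eq_one, centralizer_eq_top_iff_subset, Set.singleton_subset_iff] at h1
    exact h1)
  obtain ⟨x, hxR, hxc⟩ := SetLike.not_le_iff_exists.1 hR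
  have hxr : IsPElt r x := isPElt_of_mem R.isPGroup' hxR
  have hxN0 : ∀ a : G, IsPElt r a → a ∈ N := by
    intro a ha
    obtain ⟨S, hS⟩ := ha.isPGroup.exists_le_sylow
    obtain ⟨g, rfl⟩ := MulAction.exists_smul_eq G R S
    have h1 := hS (mem_zpowers a)
    rw [Sylow.coe_subgroup_smul, mem_pointwise_smul_iff_inv_smul_mem] at h1
    have h2 := hRN h1
    simpa [MulAut.smul_def, mul_assoc] using (inferInstance : N.Normal).conj_mem _ h2 g
  set N₀ := closure {a : G | IsPElt r a} with hN₀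
  haveI hN₀n : N₀.Normal := normalizer_eq_top_iff.1 (eq_top_iff.2 fun g _ => by
    refine (mem_normalizer_iff).2 fun a => ?_
    have key : ∀ g a : G, a ∈ N₀ → g * a * g⁻¹ ∈ N₀ := by
      intro g a ha
      have : N₀ ≤ N₀.comap (MulAut.conj g).toMonoidHom := (closure_le _).2 fun b hb =>
        subset_closure (hb.conj g)
      exact this ha
    exact ⟨key g a, fun ha => by simpa [mul_assoc] using key g⁻¹ _ ha⟩)
  have hRN₀ : (R : Subgroup G) ≤ N₀ := fun a ha => subset_closure (isPElt_of_mem R.isPGroup' ha)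
  have hN₀N : N₀ ≤ N := (closure_le N).2 hxN0
  have hx₀ : r ∣ (center G).relIndex N₀ :=
    (dvd_relIndex_center_iff N₀).2 ⟨x, hRN₀ hxR, hxc, hxr⟩
  have hnil : Group.IsNilpotent N₀ := Rigid.isNilpotent_of_generated (m := m)
    (fun a ha hac => hrig a (hN₀N ha) hac) (fun hd => R.not_dvd_index (hd.trans (index_dvd_of_le hRN₀)))
    hx₀ ((closure_mono fun a ha => ⟨subset_closure ha, ha⟩))
  -- the Sylow subgroup is normal
  haveI hRn : (R : Subgroup G).Normal := by
    let R₀ : Sylow r N₀ := R.subtype hRN₀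
    haveI hR₀ : (R₀ : Subgroup N₀).Normal :=
      ((Group.isNilpotent_of_finite_tfae (G := N₀)).out 0 3 rfl rfl).mp hnil r ‹Fact r.Prime› R₀
    haveI : (R₀ : Subgroup N₀).Characteristic := R₀.characteristic_of_normal hR₀
    have e : (R₀ : Subgroup N₀).map N₀.subtype = R := by
      rw [Sylow.coe_subtype, map_subgroupOf_eq_of_le hRN₀]
    exact e ▸ ConjAct.normal_of_characteristic_of_normal
  have hRall : ∀ a : G, IsPElt r a → a ∈ (R : Subgroup G) := fun a ha => by
    have h1 : IsPGroup r ((R : Subgroup G) ⊔ zpowers a : Subgroup G) :=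
      R.isPGroup'.to_sup_of_normal_left ha.isPGroup
    exact (R.is_maximal' h1 le_sup_left).le (le_sup_right (a := (R : Subgroup G)) (mem_zpowers a))
  have hNr : ¬ r ∣ N.index := fun hd => R.not_dvd_index (hd.trans (index_dvd_of_le hRN))
  have hxN : r ∣ (center G).relIndex N := (dvd_relIndex_center_iff N).2 ⟨x, hRN hxR, hxc, hxr⟩
  by_cases hq0 : ∀ q : ℕ, q.Prime → q ≠ r → ¬ q ∣ (center G).relIndex N
  · exact isNilpotent_of_central_coprime hq0
  -- a noncentral `r'`-element centralises the Sylow subgroup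
  have hcen : ∀ y ∈ N, y ∉ center G → ∀ q : ℕ, q.Prime → q ≠ r → IsPElt q y →
      ∀ u ∈ (R : Subgroup G), u * y = y * u := by
    intro y hy hyc q hq hqr hyq
    obtain ⟨b, hb, hbc, hbr⟩ := (dvd_relIndex_center_iff _).1 (hrig.dvd_of_sylow hNr hxN hy hyc)
    have hby : centralizer ({b} : Set G) = centralizer ({y} : Set G) :=
      hrig.eq_of_coprime hb.1 hbc hy hyc (mem_centralizer_singleton_iff.1 hb.2)
        (hbr.coprime (Fact.out : r.Prime) hq hqr.symm hyq)
    set T := (R : Subgroup G) ⊓ centralizer ({y} : Set G) with hT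
    suffices hRT : (R : Subgroup G) ≤ T from fun u hu => mem_centralizer_singleton_iff.1 (hRT hu).2
    by_contra hne
    haveI := R.isPGroup'.isNilpotent
    have hlt : T.subgroupOf (R : Subgroup G) < ⊤ :=
      lt_top_iff_ne_top.2 fun he => hne (subgroupOf_eq_top.1 he)
    obtain ⟨n, hn, hnT⟩ := SetLike.exists_of_lt (normalizerCondition_of_isNilpotent (G := (R : Subgroup G)) _ hlt)
    refine hnT ⟨n.2, mem_centralizer_singleton_iff.2 ?_⟩
    have hbT : b ∈ T := ⟨hRall b hbr, hb.2⟩
    have hnT' : ∀ t ∈ T, (n : G) * t * (n : G)⁻¹ ∈ T := fun t ht =>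
      (mem_normalizer_iff.1 hn ⟨t, ht.1⟩).1 ht
    have hy' : ∀ t ∈ T, y * t * y⁻¹ = t := fun t ht => by
      rw [← mem_centralizer_singleton_iff.1 ht.2, mul_inv_cancel_right]
    have h1 := KGroups.OmegaFaithful.fix_of_coset (C := T) (R.isPGroup'.to_le inf_le_left)
      (x := (n : G)) (hyq.coprime_prime hq (Fact.out : r.Prime) hqr) hy' ?_
    · exact (mul_inv_eq_iff_eq_mul.1 h1).symm
    have hmemR : (n : G)⁻¹ * (y * n * y⁻¹) ∈ (R : Subgroup G) :=
      (R : Subgroup G).mul_mem ((R : Subgroup G).inv_mem n.2) (hRn.conj_mem _ n.2 y)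
    refine ⟨hmemR, ?_⟩
    show _ ∈ centralizer ({y} : Set G)
    rw [← hby, mem_centralizer_singleton_iff]
    have e1 : y * n * y⁻¹ * b * (y * n * y⁻¹)⁻¹ = (n : G) * b * (n : G)⁻¹ := by
      have h2 := hy' b hbT
      calc y * n * y⁻¹ * b * (y * n * y⁻¹)⁻¹ = y * (n * (y⁻¹ * b * y) * (n : G)⁻¹) * y⁻¹ := by group
        _ = y * (n * b * (n : G)⁻¹) * y⁻¹ := by
          rw [show y⁻¹ * b * y = b by
            rw [mul_assoc, mem_centralizer_singleton_iff.1 hb.2, inv_mul_cancel_left]]
        _ = _ := hy' _ (hnT' b hbT)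
    calc (n : G)⁻¹ * (y * n * y⁻¹) * b
        = (n : G)⁻¹ * (y * n * y⁻¹ * b * (y * n * y⁻¹)⁻¹) * (y * n * y⁻¹) := by group
      _ = b * ((n : G)⁻¹ * (y * n * y⁻¹)) := by rw [e1]; group
  push Not at hq0
  obtain ⟨q0, hq0p, hq0r, hq0N⟩ := hq0
  haveI := Fact.mk hq0p
  obtain ⟨y0, hy0N, hy0c, hy0q⟩ := (dvd_relIndex_center_iff N).1 hq0N
  have hpp : ∀ a ∈ N, a ∉ center G → ∀ p : ℕ, p.Prime → IsPElt p a →
      centralizer ({a} : Set G) = centralizer ({x} : Set G) := by
    intro a ha hac p hp hap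
    by_cases hpr : p = r
    · subst hpr
      rw [hrig.eq_of_coprime ha hac hy0N hy0c (hcen y0 hy0N hy0c q0 hq0p hq0r hy0q a (hRall a hap))
          (hap.coprime hp hq0p hq0r.symm hy0q),
        hrig.eq_of_coprime (hRN hxR) hxc hy0N hy0c (hcen y0 hy0N hy0c q0 hq0p hq0r hy0q x hxR)
          (hxr.coprime hp hq0p hq0r.symm hy0q)]
    · exact hrig.eq_of_coprime ha hac (hRN hxR) hxc (hcen a ha hac p hp hpr hap x hxR).symm
        (hap.coprime hp (Fact.out : r.Prime) hpr hxr)
  have hC : ∀ a ∈ N, a ∉ center G → centralizer ({a} : Set G) = centralizer ({x} : Set G) := by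
    intro a ha hac
    obtain ⟨b, hb, hbc, p, hp, hbp⟩ := exists_primePower hac
    have hbN : b ∈ N := zpowers_le.2 ha hb
    rw [hrig.eq_of_le ha hac hbN hbc (centralizer_le_of_mem_zpowers hb), hpp b hbN hbc p hp hbp]
  haveI : IsMulCommutative N := isMulCommutative_iff.2 fun a b => Subtype.ext (by
    show (a : G) * b = b * a
    by_cases hb : (b : G) ∈ center G
    · exact mem_center_iff.1 hb _
    by_cases ha : (a : G) ∈ center G
    · exact (mem_center_iff.1 ha _).symm
    refine mem_centralizer_singleton_iff.1 ?_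
    rw [hC _ b.2 hb, ← hC _ a.2 ha]
    exact mem_centralizer_singleton_iff.2 rfl)
  letI : CommGroup N := { (inferInstance : Group N) with mul_comm := mul_comm' }
  infer_instance

end Cfsg.Agent.S4135
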