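import Cfsg.Statements.S4138
import Cfsg.Agent.Lib.KGroups.CoprimeTopClasses

set_option autoImplicit false
open Cfsg

namespace Cfsg.Agent.S4138

open scoped Pointwise

lemma frobenius_of_card {Q : Type*} [Group Q] [Finite Q] (M C : Subgroup Q) [M.Normal]
    (hcop : (Nat.card M).Coprime (Nat.card C)) (hcard : Nat.card M * Nat.card C = Nat.card Q)
    (hC1 : 1 < Nat.card C) (hM1 : 1 < Nat.card M)
    (hTI : ∀ g : Q, ∀ c ∈ C, c ≠ 1 → g * c * g⁻¹ ∈ C → g ∈ C) :
    Cfsg.IsFrobeniusComplement C ∧ Cfsg.frobeniusKernel C = (M : Set Q) := by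
  classical
  have hsmul : ∀ (g z : Q), z ∈ MulAut.conj g • C ↔ g⁻¹ * z * g ∈ C := by
    intro g z
    rw [Subgroup.mem_pointwise_smul_iff_inv_smul_mem, MulAut.smul_def]
    simp
  have hdisj : ∀ g : Q, ∀ z ∈ M, g⁻¹ * z * g ∈ C → z = 1 := by
    intro g z hz hc
    have h1 : orderOf (g⁻¹ * z * g) ∣ Nat.card C := Subgroup.orderOf_dvd_natCard C hc
    have h2 : orderOf (g⁻¹ * z * g) ∣ Nat.card M :=
      Subgroup.orderOf_dvd_natCard M (by simpa using ‹M.Normal›.conj_mem z hz g⁻¹)
    have h3 := orderOf_eq_one_iff.1 (Nat.dvd_one.1 (hcop ▸ Nat.dvd_gcd h2 h1))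
    calc z = g * (g⁻¹ * z * g) * g⁻¹ := by group
      _ = 1 := by rw [h3]; group
  refine ⟨⟨fun h => ?_, fun h => ?_, fun g hg => ?_⟩, ?_⟩
  · rw [h, Subgroup.card_bot] at hC1; exact lt_irrefl _ hC1
  · rw [h, Subgroup.card_top] at hcard
    have := Nat.eq_of_mul_eq_mul_right Nat.card_pos (hcard.trans (one_mul _).symm)
    omega
  · refine (Subgroup.eq_bot_iff_forall _).2 fun z hz => ?_
    by_contra hz1
    obtain ⟨hzC, hzg⟩ := Subgroup.mem_inf.1 hz
    rw [hsmul] at hzg
    exact hg (inv_mem_iff.1 (hTI g⁻¹ z hzC hz1 (by rwa [inv_inv])))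
  · have hsurj : ∀ z, z ∉ M → ∃ g : Q, g⁻¹ * z * g ∈ C := by
      let f : M × {c : C // c ≠ 1} → {z : Q // z ∉ M} := fun p =>
        ⟨(p.1 : Q) * p.2.1 * (p.1 : Q)⁻¹, fun h => p.2.2 (Subtype.ext (by
          have := hdisj p.1 _ h (by simp [mul_assoc])
          rw [mul_inv_eq_one, mul_eq_left] at this
          exact this))⟩
      have hinj : Function.Injective f := by
        rintro ⟨a, c⟩ ⟨a', c'⟩ e
        have e' : (a : Q) * c.1 * (a : Q)⁻¹ = (a' : Q) * c'.1 * (a' : Q)⁻¹ := congrArg Subtype.val e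
        have hmem : (a' : Q)⁻¹ * a ∈ C := by
          refine hTI _ c.1 c.1.2 (fun h => c.2 (Subtype.ext h)) ?_
          rw [show (a' : Q)⁻¹ * a * c.1 * ((a' : Q)⁻¹ * a)⁻¹ =
            (a' : Q)⁻¹ * ((a : Q) * c.1 * (a : Q)⁻¹) * a' by group, e']
          simp [mul_assoc]
        have h1 : (a' : Q)⁻¹ * a = 1 := hdisj 1 _ (mul_mem (inv_mem a'.2) a.2) (by simpa using hmem)
        obtain rfl : a' = a := Subtype.ext (inv_mul_eq_one.1 h1)
        exact Prod.ext rfl (Subtype.ext (Subtype.ext (mul_left_cancel (mul_right_cancel e'))))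
      have hcards : Nat.card (M × {c : C // c ≠ 1}) = Nat.card {z : Q // z ∉ M} := by
        haveI := Fintype.ofFinite Q
        have e1 : Nat.card {c : C // c ≠ 1} = Nat.card C - 1 := by
          rw [Nat.card_eq_fintype_card, Nat.card_eq_fintype_card, Fintype.card_subtype_compl,
            Fintype.card_subtype_eq]
        have e2 : Nat.card {z : Q // z ∉ M} = Nat.card Q - Nat.card M := by
          rw [Nat.card_eq_fintype_card, Nat.card_eq_fintype_card, Fintype.card_subtype_compl,
            Nat.card_eq_fintype_card]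
        rw [Nat.card_prod, e1, e2, ← hcard, Nat.mul_sub, mul_one]
      intro z hz
      obtain ⟨⟨a, c⟩, e⟩ := ((Nat.bijective_iff_injective_and_card f).2 ⟨hinj, hcards⟩).2 ⟨z, hz⟩
      refine ⟨a, ?_⟩
      rw [← show (a : Q) * c.1 * (a : Q)⁻¹ = z from congrArg Subtype.val e]
      simp [mul_assoc]
    ext z
    simp only [Cfsg.frobeniusKernel, Set.mem_setOf_eq, SetLike.mem_coe, hsmul]
    refine ⟨fun h => ?_, fun hz => ?_⟩
    · rcases h with rfl | h
      · exact one_mem M
      · by_contra hz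
        obtain ⟨g, hg⟩ := hsurj z hz
        exact h g hg
    · by_cases h1 : z = 1
      · exact Or.inl h1
      · exact Or.inr fun g hg => h1 (hdisj g z hz hg)

/-- Let G be a finite group whose two largest conjugacy class sizes m > n > 1 are coprime, and let x, y ∈ G have classes of sizes n and m respectively. Then C_G(x) and C_G(y) are abelian, and G/Z(G) is a Frobenius group with kernel C_G(x)/Z(G) and complement C_G(y)/Z(G). -/
theorem result {G : Type*} [Group G] [Finite G] (m n : ℕ) (hmn : n < m) (hn : 1 < n)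
    (hcop : m.Coprime n) (htop : ∀ z : G, (Subgroup.centralizer ({z} : Set G)).index ≤ m) (hsecond : ∀ z : G, (Subgroup.centralizer ({z} : Set G)).index < m → (Subgroup.centralizer ({z} : Set G)).index ≤ n)
    (x y : G) (hx : (Subgroup.centralizer ({x} : Set G)).index = n) (hy : (Subgroup.centralizer ({y} : Set G)).index = m) :
    IsMulCommutative (Subgroup.centralizer ({x} : Set G)) ∧ IsMulCommutative (Subgroup.centralizer ({y} : Set G)) ∧
    Cfsg.IsFrobeniusComplement ((Subgroup.centralizer ({y} : Set G)).map (QuotientGroup.mk' (Subgroup.center G))) ∧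
    Cfsg.frobeniusKernel ((Subgroup.centralizer ({y} : Set G)).map (QuotientGroup.mk' (Subgroup.center G))) =
      ((Subgroup.centralizer ({x} : Set G)).map (QuotientGroup.mk' (Subgroup.center G)) : Set (G ⧸ Subgroup.center G)) := by
  have H : CoprimeTopClasses.Hyp G m n := ⟨hmn, hn, hcop, htop, hsecond⟩
  haveI := CoprimeTopClasses.normal_Cx H hx hy
  have hcard : ∀ a : G, Nat.card ((Subgroup.centralizer ({a} : Set G)).map
      (QuotientGroup.mk' (Subgroup.center G))) =
      (Subgroup.center G).relIndex (Subgroup.centralizer ({a} : Set G)) := by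
    intro a
    have h := Subgroup.relIndex_ker (f := QuotientGroup.mk' (Subgroup.center G))
      (Subgroup.centralizer ({a} : Set G))
    rw [QuotientGroup.ker_mk'] at h
    exact h.symm
  refine ⟨⟨⟨fun u v => Subtype.ext (CoprimeTopClasses.comm_Cx H hx hy u.2 v.2)⟩⟩,
    ⟨⟨fun u v => Subtype.ext (CoprimeTopClasses.comm_Cy H hx hy u.2 v.2)⟩⟩, ?_⟩
  refine frobenius_of_card ((Subgroup.centralizer ({x} : Set G)).map
    (QuotientGroup.mk' (Subgroup.center G))) _ ?_ ?_ ?_ ?_ ?_
  · rw [hcard, hcard, CoprimeTopClasses.relIndex_Cx H hx hy, CoprimeTopClasses.relIndex_Cy H hx hy]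
    exact hcop
  · rw [hcard, hcard, CoprimeTopClasses.relIndex_Cx H hx hy, CoprimeTopClasses.relIndex_Cy H hx hy,
      ← Subgroup.index_eq_card, ← CoprimeTopClasses.relIndex_mul_cl x,
      CoprimeTopClasses.relIndex_Cx H hx hy]
    exact congrArg (m * ·) hx.symm
  · rw [hcard, CoprimeTopClasses.relIndex_Cy H hx hy]; exact hn
  · rw [hcard, CoprimeTopClasses.relIndex_Cx H hx hy]; omega
  · intro g c hc hc1 hgc
    obtain ⟨v, hv, rfl⟩ := hc
    induction g using QuotientGroup.induction_on with | _ g =>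
    obtain ⟨u, hu, e⟩ := hgc
    have hvz : v ∉ Subgroup.center G := fun h => hc1 ((QuotientGroup.eq_one_iff v).2 h)
    have e' : (QuotientGroup.mk u : G ⧸ Subgroup.center G) = QuotientGroup.mk (g * v * g⁻¹) := e
    have hgv : g * v * g⁻¹ ∈ Subgroup.centralizer ({y} : Set G) := by
      have h1 := CoprimeTopClasses.center_le_C y (QuotientGroup.eq.1 e')
      have h2 := mul_mem hu h1
      rwa [mul_inv_cancel_left] at h2
    exact ⟨g, CoprimeTopClasses.mem_Cy_of_conj H hx hy hv hvz hgv, rfl⟩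

end Cfsg.Agent.S4138
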