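import Cfsg.Statements.S4139
import Mathlib
import Cfsg.Agent.Lib.PGroup.ClassSizeCount
import Cfsg.Agent.Lib.Solvable.FPFNilpotent

set_option autoImplicit false
open Cfsg

namespace Cfsg.Agent.S4139

open Subgroup
open CfsgLib.PGroup.ClassSizeCount

universe u

/-- the counts in a nilpotent group -/
theorem nilpotent_counts {H : Type*} [Group H] [Finite H] (hH : Group.IsNilpotent H) (p : ℕ)
    [Fact p.Prime] :
    ∃ a b za zb : ℕ, (∃ i, a = p ^ i) ∧ b.Coprime p ∧ (∃ i, za = p ^ i) ∧ zb.Coprime p ∧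
      Nat.card H = a * b ∧ Nat.card {x : H // ind x = 1} = za * zb ∧
      Nat.card {x : H // ¬ p ∣ ind x} = za * b ∧
      Nat.card {x : H // ∀ r : ℕ, r.Prime → r ≠ p → ¬ r ∣ ind x} = a * zb := by
  classical
  have hp : p.Prime := Fact.out
  obtain ⟨P, N, hN, hc⟩ : Cfsg.HasNormalPComplement p H :=
    CfsgLib.Solvable.FPFNilpotent.npc_of_nilpotent p
  have hT : ∀ (q : ℕ) (_ : Fact q.Prime) (S : Sylow q H), (S : Subgroup H).Normal :=
    ((Group.isNilpotent_of_finite_tfae (G := H)).out 0 3).mp hH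
  have hPn : (P : Subgroup H).Normal := hT p ‹_› P
  have hdisj : Disjoint (P : Subgroup H) N := hc.disjoint.symm
  have hcomm : ∀ (a : (P : Subgroup H)) (b : N), Commute (a : H) b := fun a b =>
    commute_of_normal_of_disjoint _ _ hPn hN hdisj a b a.2 b.2
  let f : ↥(P : Subgroup H) × ↥N →* H :=
    (P : Subgroup H).subtype.noncommCoprod N.subtype hcomm
  have hfb : Function.Bijective f := by
    have h1 := hc.symm
    exact h1
  let e : ↥(P : Subgroup H) × ↥N ≃* H := MulEquiv.ofBijective f hfb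
  obtain ⟨i, hi⟩ := P.2.exists_card_eq
  have hNcop : (Nat.card N).Coprime p := by
    rw [← hc.index_eq_card]
    exact ((hp.coprime_iff_not_dvd).mpr P.not_dvd_index).symm
  have hA : ∀ x : (P : Subgroup H), ∃ j, ind x = p ^ j := fun x => P.2.index _
  have hB : ∀ x : N, ¬ p ∣ ind x := fun x hx => hp.ne_one
    (Nat.eq_one_of_dvd_coprimes hNcop (hx.trans (index_dvd_card _)) dvd_rfl)
  have key : ∀ (Q QA QB : ℕ → Prop), (∀ (x : (P : Subgroup H)) (y : N),
      Q (ind x * ind y) ↔ QA (ind x) ∧ QB (ind y)) →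
      Nat.card {x : H // Q (ind x)} =
        Nat.card {x : (P : Subgroup H) // QA (ind x)} * Nat.card {y : N // QB (ind y)} := by
    intro Q QA QB hQ
    rw [← Nat.card_prod]
    refine Nat.card_congr ((Equiv.subtypeEquiv e.toEquiv fun y => ?_).symm.trans
      (Equiv.subtypeProdEquivProd (p := fun x => QA (ind x)) (q := fun x => QB (ind x))))
    show _ ↔ Q (ind (e y))
    rw [ind_map, show y = (y.1, y.2) from rfl, ind_prod, hQ]
  refine ⟨_, _, Nat.card {x : (P : Subgroup H) // ind x = 1}, Nat.card {y : N // ind y = 1},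
    ⟨i, hi⟩, hNcop, ?_, ?_, ?_, ?_, ?_, ?_⟩
  · rw [← card_center_eq]
    exact (P.2.to_subgroup _).exists_card_eq
  · rw [← card_center_eq]
    exact Nat.Coprime.coprime_dvd_left (card_subgroup_dvd_card _) hNcop
  · rw [← Nat.card_congr e.toEquiv, Nat.card_prod]
  · exact key (fun k => k = 1) (fun k => k = 1) (fun k => k = 1) fun x y => mul_eq_one
  · rw [key (fun k => ¬ p ∣ k) (fun k => k = 1) (fun _ => True) fun x y => ?_]
    · rw [Nat.card_congr (Equiv.subtypeUnivEquiv fun _ => trivial)]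
    · obtain ⟨j, hj⟩ := hA x
      rw [hj]
      refine ⟨fun h => ⟨?_, trivial⟩, fun h hd => hB y ?_⟩
      · rcases j with _ | j
        · rfl
        · exact absurd ((dvd_pow_self p (Nat.succ_ne_zero j)).mul_right _) h
      · rwa [h.1, one_mul] at hd
  · rw [key (fun k => ∀ r : ℕ, r.Prime → r ≠ p → ¬ r ∣ k) (fun _ => True) (fun k => k = 1)
      fun x y => ?_]
    · rw [Nat.card_congr (Equiv.subtypeUnivEquiv fun _ => trivial)]
    · obtain ⟨j, hj⟩ := hA x
      rw [hj]
      refine ⟨fun h => ⟨trivial, ?_⟩, fun h r hr hrp hd => hrp ?_⟩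
      · by_contra hne
        obtain ⟨r, hr, hrd⟩ := Nat.exists_prime_and_dvd hne
        exact h r hr (fun e => hB y (e ▸ hrd)) (dvd_mul_of_dvd_right hrd _)
      · rw [h.2, mul_one] at hd
        exact (Nat.prime_dvd_prime_iff_eq hr hp).mp (hr.dvd_of_dvd_pow hd)

section

variable {G : Type*} [Group G] [Finite G]

theorem ind_mul_center {x z : G} (hz : z ∈ center G) : ind (x * z) = ind x := by
  rw [ind, ind]
  congr 1
  ext g
  rw [mem_centralizer_singleton_iff, mem_centralizer_singleton_iff]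
  have hzg : g * z = z * g := mem_center_iff.mp hz g
  rw [← mul_assoc, mul_assoc x z g, ← hzg, ← mul_assoc, mul_left_inj]

/-- If the number of elements of `p'`-index is as in a nilpotent group, then the centre of a Sylow
subgroup is central. -/
theorem sylow_center_central {p : ℕ} [Fact p.Prime] (P : Sylow p G) {b zb za : ℕ}
    (hb : b.Coprime p) (hza : 0 < za) (hz : Nat.card (center G) = za * zb)
    (hU : Nat.card {x : G // ¬ p ∣ ind x} = za * b) {w : G} (hwP : w ∈ (P : Subgroup G))
    (hw : (P : Subgroup G) ≤ centralizer ({w} : Set G)) : w ∈ center G := by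
  classical
  have hp : p.Prime := Fact.out
  by_contra hwc
  set Z := center G with hZ
  let U : Set G := {x | ¬ p ∣ ind x}
  let Ub : Set (G ⧸ Z) := QuotientGroup.mk '' U
  have hpre : QuotientGroup.mk ⁻¹' Ub = U := by
    refine Set.Subset.antisymm ?_ (Set.subset_preimage_image _ _)
    rintro x ⟨y, hy, hyx⟩
    have hz' : y⁻¹ * x ∈ Z := QuotientGroup.eq.mp hyx
    show ¬ p ∣ ind x
    rw [show x = y * (y⁻¹ * x) by group, ind_mul_center hz']
    exact hy
  have hcardU : Nat.card Ub * zb = b := by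
    have h1 : Nat.card U = Nat.card Z * Nat.card Ub := by
      rw [← Nat.card_prod, ← hpre]
      exact Nat.card_congr (QuotientGroup.preimageMkEquivSubgroupProdSet Z Ub)
    have h2 : za * (Nat.card Ub * zb) = za * b := by
      rw [← hU, show Nat.card {x : G // ¬ p ∣ ind x} = Nat.card U from rfl, h1, hz]; ring
    exact Nat.eq_of_mul_eq_mul_left hza h2
  -- the action of `P`
  letI : MulAction (P : Subgroup G) Ub :=
    { smul := fun u y => ⟨(QuotientGroup.mk (u : G)) * y.1 * (QuotientGroup.mk (u : G))⁻¹, by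
        obtain ⟨x, hx, hxy⟩ := y.2
        refine ⟨u * x * (u : G)⁻¹, ?_, by rw [← hxy]; simp⟩
        show ¬ p ∣ ind ((u : G) * x * (u : G)⁻¹)
        have h2 := ind_map (MulAut.conj (u : G)) x
        rw [MulAut.conj_apply] at h2
        rw [h2]; exact hx⟩
      one_smul := fun y => Subtype.ext (by
        show (QuotientGroup.mk ((1 : (P : Subgroup G)) : G)) * y.1 * _⁻¹ = y.1
        simp)
      mul_smul := fun u v y => Subtype.ext (by
        show (QuotientGroup.mk ((u * v : (P : Subgroup G)) : G)) * y.1 * _⁻¹ = _ * (_ * y.1 * _⁻¹) * _⁻¹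
        simp [mul_assoc]) }
  have hmod := P.2.card_modEq_card_fixedPoints Ub
  set CP := centralizer ((P : Subgroup G) : Set G) with hCP
  have hfix : ∀ y : Ub, y ∈ MulAction.fixedPoints (P : Subgroup G) Ub ↔
      y.1 ∈ CP.map (QuotientGroup.mk' Z) := by
    intro y
    constructor
    · intro hy
      obtain ⟨x, hx, hxy⟩ := y.2
      refine ⟨x, mem_centralizer_iff.mpr fun u hu => ?_, hxy⟩
      have h1 : (QuotientGroup.mk u : G ⧸ Z) * y.1 * (QuotientGroup.mk u)⁻¹ = y.1 :=
        congrArg Subtype.val (hy ⟨u, hu⟩)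
      rw [← hxy, ← QuotientGroup.mk_inv, ← QuotientGroup.mk_mul, ← QuotientGroup.mk_mul,
        QuotientGroup.eq] at h1
      set z := (u * x * u⁻¹)⁻¹ * x with hz_def
      have hzc : z ∈ Z := h1
      have hstep : ∀ (j : ℕ), u ^ j * x * (u ^ j)⁻¹ = x * (z⁻¹) ^ j := by
        intro j
        induction j with
        | zero => simp
        | succ j ih =>
          have e1 : u * x * u⁻¹ = x * z⁻¹ := by rw [hz_def]; group
          have e2 : u * (z⁻¹) ^ j = (z⁻¹) ^ j * u :=
            mem_center_iff.mp (pow_mem (inv_mem hzc) j) u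
          calc u ^ (j + 1) * x * (u ^ (j + 1))⁻¹ = u * (u ^ j * x * (u ^ j)⁻¹) * u⁻¹ := by group
            _ = u * x * (u⁻¹ * (u * (z⁻¹) ^ j)) * u⁻¹ := by rw [ih]; group
            _ = u * x * (u⁻¹ * ((z⁻¹) ^ j * u)) * u⁻¹ := by rw [e2]
            _ = (u * x * u⁻¹) * (z⁻¹) ^ j := by group
            _ = x * (z⁻¹) ^ (j + 1) := by rw [e1, pow_succ', mul_assoc]
      obtain ⟨j, hj⟩ := P.2 ⟨u, hu⟩
      have hj' : u ^ p ^ j = 1 := congrArg Subtype.val hj
      have hzj : (z⁻¹) ^ p ^ j = 1 := by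
        have := hstep (p ^ j)
        rw [hj'] at this
        simpa using this
      -- `⟨z⁻¹⟩` permutes the class of `x` freely
      let L := zpowers z⁻¹
      let C : Set G := (ConjClasses.mk x).carrier
      have hLC : QuotientGroup.mk ⁻¹' (QuotientGroup.mk '' C : Set (G ⧸ L)) = C := by
        refine Set.Subset.antisymm ?_ (Set.subset_preimage_image _ _)
        rintro g ⟨y', hy', hyg⟩
        have hl : y'⁻¹ * g ∈ L := QuotientGroup.eq.mp hyg
        obtain ⟨m, hm⟩ := mem_powers_iff_mem_zpowers.mpr hl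
        change (z⁻¹) ^ m = y'⁻¹ * g at hm
        rw [ConjClasses.mem_carrier_iff_mk_eq, ConjClasses.mk_eq_mk_iff_isConj,
          isConj_iff] at hy' ⊢
        obtain ⟨c, hc⟩ := hy'
        refine ⟨(u ^ m)⁻¹ * c, ?_⟩
        have e3 : g = y' * (z⁻¹) ^ m := by rw [hm]; group
        have e5 : c * (z⁻¹) ^ m = (z⁻¹) ^ m * c := mem_center_iff.mp (pow_mem (inv_mem hzc) m) c
        have e6 : c * g * c⁻¹ = x * (z⁻¹) ^ m := by
          calc c * g * c⁻¹ = (c * y') * (c⁻¹ * (c * (z⁻¹) ^ m)) * c⁻¹ := by rw [e3]; group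
            _ = (c * y') * (c⁻¹ * ((z⁻¹) ^ m * c)) * c⁻¹ := by rw [e5]
            _ = (c * y' * c⁻¹) * (z⁻¹) ^ m := by group
            _ = _ := by rw [hc]
        calc (u ^ m)⁻¹ * c * g * ((u ^ m)⁻¹ * c)⁻¹ = (u ^ m)⁻¹ * (c * g * c⁻¹) * u ^ m := by group
          _ = (u ^ m)⁻¹ * (u ^ m * x * (u ^ m)⁻¹) * u ^ m := by rw [e6, hstep m]
          _ = x := by group
      have hdiv : orderOf z⁻¹ ∣ ind x := by
        rw [← card_carrier x, ← Nat.card_zpowers]
        refine Dvd.intro (Nat.card (QuotientGroup.mk '' C : Set (G ⧸ L))) ?_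
        rw [← Nat.card_prod]
        refine (Nat.card_congr (QuotientGroup.preimageMkEquivSubgroupProdSet L _).symm).trans ?_
        rw [hLC]
      have h2 : z⁻¹ = 1 := by
        rw [← orderOf_eq_one_iff]
        by_contra hne
        obtain ⟨i, -, hi⟩ := (Nat.dvd_prime_pow hp).mp (orderOf_dvd_of_pow_eq_one hzj)
        rcases i with _ | i
        · exact hne (hi.trans (pow_zero p))
        · exact hx ((hi ▸ dvd_pow_self p (Nat.succ_ne_zero i)).trans hdiv)
      have h3 := hstep 1
      rw [h2, pow_one, pow_one, mul_one, mul_inv_eq_iff_eq_mul] at h3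
      exact h3
    · rintro ⟨x, hx, hxy⟩ ⟨u, hu⟩
      apply Subtype.ext
      show (QuotientGroup.mk u : G ⧸ Z) * y.1 * (QuotientGroup.mk u)⁻¹ = y.1
      rw [← hxy]
      show (QuotientGroup.mk u : G ⧸ Z) * QuotientGroup.mk x * (QuotientGroup.mk u)⁻¹ = QuotientGroup.mk x
      rw [← QuotientGroup.mk_mul, mem_centralizer_iff.mp hx u hu, QuotientGroup.mk_mul,
        mul_inv_cancel_right]
  have hsub : ∀ y ∈ CP.map (QuotientGroup.mk' Z), y ∈ Ub := by
    rintro _ ⟨x, hx, rfl⟩
    refine ⟨x, fun hd => P.not_dvd_index (hd.trans (index_dvd_of_le fun g hg => ?_)), rfl⟩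
    exact mem_centralizer_singleton_iff.mpr (mem_centralizer_iff.mp hx g hg)
  have hcardfix : Nat.card (MulAction.fixedPoints (P : Subgroup G) Ub) =
      Nat.card (CP.map (QuotientGroup.mk' Z)) :=
    Nat.card_congr
      { toFun := fun y => ⟨y.1.1, (hfix y.1).mp y.2⟩
        invFun := fun y => ⟨⟨y.1, hsub y.1 y.2⟩, (hfix _).mpr y.2⟩
        left_inv := fun _ => rfl
        right_inv := fun _ => rfl }
  have hdvd : p ∣ Nat.card (CP.map (QuotientGroup.mk' Z)) := by
    have hmem : (QuotientGroup.mk' Z w) ∈ CP.map (QuotientGroup.mk' Z) :=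
      mem_map_of_mem _ (mem_centralizer_iff.mpr fun u hu =>
        mem_centralizer_singleton_iff.mp (hw hu))
    refine dvd_trans ?_ (Subgroup.orderOf_dvd_natCard _ hmem)
    obtain ⟨j, hj⟩ := P.2 ⟨w, hwP⟩
    have h1 : (QuotientGroup.mk' Z w) ^ p ^ j = 1 := by
      rw [← map_pow, show w ^ p ^ j = 1 from congrArg Subtype.val hj, map_one]
    obtain ⟨i, -, hi⟩ := (Nat.dvd_prime_pow hp).mp (orderOf_dvd_of_pow_eq_one h1)
    rcases i with _ | i
    · rw [pow_zero, orderOf_eq_one_iff] at hi
      exact absurd ((QuotientGroup.eq_one_iff w).mp hi) hwc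
    · rw [hi]; exact dvd_pow_self p (Nat.succ_ne_zero i)
  have h3 : p ∣ Nat.card Ub := by
    have := hmod
    rw [hcardfix] at this
    exact Nat.modEq_zero_iff_dvd.mp (this.trans (Nat.modEq_zero_iff_dvd.mpr hdvd))
  exact hp.ne_one (Nat.eq_one_of_dvd_coprimes hb (hcardU ▸ h3.mul_right zb) dvd_rfl)

/-- An element of `p`-power index lying in a Sylow `p`-subgroup has all its conjugates there. -/
theorem conj_mem_of_index_pow {p : ℕ} [Fact p.Prime] (P : Sylow p G) {e : G}
    (he : e ∈ (P : Subgroup G)) (hind : ∀ r : ℕ, r.Prime → r ≠ p → ¬ r ∣ ind e) (g : G) :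
    g * e * g⁻¹ ∈ (P : Subgroup G) := by
  have hp : p.Prime := Fact.out
  set C := centralizer ({e} : Set G) with hC
  have hcop : C.index.Coprime (P : Subgroup G).index := by
    refine Nat.coprime_of_dvd fun r hr h1 h2 => ?_
    by_cases hrp : r = p
    · exact P.not_dvd_index (hrp ▸ h2)
    · exact hind r hr hrp h1
  have h1 : C.index ∣ C.relIndex (P : Subgroup G) := by
    have e1 : C.relIndex (P : Subgroup G) * (P : Subgroup G).index =
        (P : Subgroup G).relIndex C * C.index := by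
      rw [← inf_relIndex_right C (P : Subgroup G), ← inf_relIndex_left C (P : Subgroup G)]
      exact (relIndex_mul_index inf_le_right).trans (relIndex_mul_index inf_le_left).symm
    exact hcop.dvd_of_dvd_mul_right ⟨_, e1.trans (mul_comm _ _)⟩
  have h2 : MulAction.orbit (P : Subgroup G) ((1 : G) : G ⧸ C) = Set.univ := by
    refine Set.eq_of_subset_of_ncard_le (Set.subset_univ _) ?_
    rw [Set.ncard_univ, ← MulAction.index_stabilizer]
    have hst : MulAction.stabilizer (P : Subgroup G) ((1 : G) : G ⧸ C) =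
        C.subgroupOf (P : Subgroup G) := by
      ext u
      rw [MulAction.mem_stabilizer_iff, mem_subgroupOf]
      show (QuotientGroup.mk ((u : G) * 1) : G ⧸ C) = QuotientGroup.mk 1 ↔ _
      rw [mul_one, QuotientGroup.eq, mul_one, inv_mem_iff]
    rw [hst]
    exact Nat.le_of_dvd (Nat.pos_of_ne_zero index_ne_zero_of_finite) h1
  obtain ⟨u, hu⟩ : ((g : G) : G ⧸ C) ∈ MulAction.orbit (P : Subgroup G) ((1 : G) : G ⧸ C) :=
    h2 ▸ Set.mem_univ _
  change (QuotientGroup.mk ((u : G) * 1) : G ⧸ C) = QuotientGroup.mk g at hu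
  rw [mul_one, QuotientGroup.eq, hC, mem_centralizer_singleton_iff] at hu
  have h4 : g * e * g⁻¹ = (u : G) * e * (u : G)⁻¹ := by
    calc g * e * g⁻¹ = (u : G) * ((u : G)⁻¹ * g * e) * g⁻¹ := by group
      _ = (u : G) * (e * ((u : G)⁻¹ * g)) * g⁻¹ := by rw [hu]
      _ = _ := by group
  rw [h4]
  exact mul_mem (mul_mem u.2 he) (inv_mem u.2)

end

/-- Let G and H be finite groups such that for every natural number k, G and H have the same number of conjugacy classes of size k. If H is nilpotent then G is nilpotent. -/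
theorem result {G H : Type*} [Group G] [Finite G] [Group H] [Finite H]
    (hH : Group.IsNilpotent H)
    (h : ∀ k : ℕ, Nat.card {C : ConjClasses G // Nat.card C.carrier = k} = Nat.card {C : ConjClasses H // Nat.card C.carrier = k}) :
    Group.IsNilpotent G := by
  classical
  refine ((Group.isNilpotent_of_finite_tfae (G := G)).out 0 3).mpr ?_
  have hcard : Nat.card G = Nat.card H := by
    have h1 := card_pred_congr h (fun _ => True)
    rwa [Nat.card_congr (Equiv.subtypeUnivEquiv fun _ => trivial),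
      Nat.card_congr (Equiv.subtypeUnivEquiv fun _ => trivial)] at h1
  have hcentral : ∀ (r : ℕ) (_ : Fact r.Prime) (R : Sylow r G) (w : G), w ∈ (R : Subgroup G) →
      (R : Subgroup G) ≤ centralizer ({w} : Set G) → w ∈ center G := by
    intro r hr R w hwR hw
    obtain ⟨a, b, za, zb, -, hb, ⟨i, hi⟩, -, -, hz, hU, -⟩ := nilpotent_counts hH r
    refine sylow_center_central R hb (hi ▸ pow_pos hr.out.pos i) (zb := zb) ?_ ?_ hwR hw
    · rw [card_center_eq, ← hz]; exact card_pred_congr h (fun k => k = 1)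
    · rw [← hU]; exact card_pred_congr h (fun k => ¬ r ∣ k)
  intro p hpf P
  have hp : p.Prime := hpf.out
  obtain ⟨a, b, za, zb, ⟨i, hi⟩, hb, ⟨j, hj⟩, hzb, hGab, hz, -, hA⟩ := nilpotent_counts hH p
  have hzG : Nat.card (center G) = za * zb := by
    rw [card_center_eq, ← hz]; exact card_pred_congr h (fun k => k = 1)
  have hAG : Nat.card {x : G // ∀ r : ℕ, r.Prime → r ≠ p → ¬ r ∣ ind x} = a * zb := by
    rw [← hA]; exact card_pred_congr h (fun k => ∀ r : ℕ, r.Prime → r ≠ p → ¬ r ∣ k)
  have hPa : Nat.card (P : Subgroup G) = a := by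
    rw [P.card_eq_multiplicity, hcard, hGab, hi, Nat.factorization_mul (pow_ne_zero _ hp.ne_zero)
      (fun e => by rw [e] at hb; exact hp.ne_one (Nat.coprime_zero_left p |>.mp hb))]
    simp [hp.factorization_self,
      Nat.factorization_eq_zero_of_not_dvd (hp.coprime_iff_not_dvd.mp hb.symm)]
  set K := (P : Subgroup G).normalCore with hK
  let Zp : Subgroup G :=
    { carrier := {z | z ∈ center G ∧ (orderOf z).Coprime p}
      one_mem' := ⟨one_mem _, by simp⟩
      mul_mem' := fun {x y} hx hy => ⟨mul_mem hx.1 hy.1, Nat.Coprime.coprime_dvd_left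
        ((Commute.orderOf_mul_dvd_lcm (mem_center_iff.mp hy.1 x : Commute x y)).trans
          (Nat.lcm_dvd_mul _ _)) (Nat.Coprime.mul_left hx.2 hy.2)⟩
      inv_mem' := fun {x} hx => ⟨inv_mem hx.1, by rw [orderOf_inv]; exact hx.2⟩ }
  have hZp : Nat.card Zp ≤ zb := by
    have hc : (Nat.card Zp).Coprime p := by
      rw [Nat.coprime_comm, hp.coprime_iff_not_dvd]
      intro hd
      obtain ⟨z, hz'⟩ := exists_prime_orderOf_dvd_card' p hd
      have := z.2.2
      rw [orderOf_coe, hz', Nat.coprime_self] at this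
      exact hp.ne_one this
    have hd : Nat.card Zp ∣ za * zb := hzG ▸ card_dvd_of_le (fun z hz => hz.1)
    refine Nat.le_of_dvd (Nat.pos_of_ne_zero fun e => ?_)
      ((hc.pow_right j).dvd_of_dvd_mul_left (hj ▸ hd))
    rw [e] at hzb
    exact hp.ne_one (Nat.coprime_zero_left p |>.mp hzb)
  have hmem : ∀ x : G, (∀ r : ℕ, r.Prime → r ≠ p → ¬ r ∣ ind x) →
      ∃ e ∈ K, ∃ z ∈ Zp, x = e * z := by
    intro x hx
    have hn0 : orderOf x ≠ 0 := (orderOf_pos x).ne'
    obtain ⟨v, m, hm, hn⟩ := Nat.exists_eq_pow_mul_and_not_dvd hn0 p hp.ne_one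
    have hpow_ind : ∀ (k : ℤ), ∀ r : ℕ, r.Prime → r ≠ p → ¬ r ∣ ind (x ^ k) := by
      intro k r hr hrp hd
      refine hx r hr hrp (hd.trans (index_dvd_of_le fun g hg => ?_))
      rw [mem_centralizer_singleton_iff] at hg ⊢
      exact (Commute.zpow_right (hg : Commute g x) k)
    -- the `p'`-part is central
    have hxv : x ^ p ^ v ∈ center G := by
      by_contra hne
      have ho : orderOf (x ^ p ^ v) ∣ m :=
        orderOf_dvd_of_pow_eq_one (by rw [← pow_mul, ← hn, pow_orderOf_eq_one])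
      set q := orderOf (QuotientGroup.mk (x ^ p ^ v) : G ⧸ center G) with hq
      have hq1 : q ≠ 1 := by
        rw [hq, ne_eq, orderOf_eq_one_iff, QuotientGroup.eq_one_iff]; exact hne
      obtain ⟨r, hr, hrq⟩ := Nat.exists_prime_and_dvd hq1
      have hqo : q ∣ orderOf (x ^ p ^ v) := orderOf_map_dvd (QuotientGroup.mk' _) _
      have hrp : r ≠ p := fun e => hm (e ▸ hrq.trans (hqo.trans ho))
      haveI := Fact.mk hr
      obtain ⟨t, m', hm', ho'⟩ :=
        Nat.exists_eq_pow_mul_and_not_dvd (orderOf_pos (x ^ p ^ v)).ne' r hr.ne_one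
      set y := (x ^ p ^ v) ^ m' with hy
      have hyr : y ^ r ^ t = 1 := by
        rw [hy, ← pow_mul, mul_comm m', ← ho', pow_orderOf_eq_one]
      have hyind : ¬ r ∣ ind y := by
        rw [hy, ← pow_mul, ← zpow_natCast]; exact hpow_ind _ r hr hrp
      obtain ⟨R, hR⟩ := exists_sylow_le_centralizer hyind
      have hyp : IsPGroup r (zpowers y) := by
        refine IsPGroup.of_card (n := (orderOf y).factorization r) ?_
        rw [Nat.card_zpowers]
        obtain ⟨i, -, hi⟩ := (Nat.dvd_prime_pow hr).mp (orderOf_dvd_of_pow_eq_one hyr)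
        rw [hi, Nat.factorization_pow]
        simp [hr.factorization_self]
      have hyR : y ∈ (R : Subgroup G) := by
        have hsup : IsPGroup r ↥((R : Subgroup G) ⊔ zpowers y) :=
          R.2.to_sup_of_normal_left' hyp (zpowers_le.mpr (by
            rw [mem_normalizer_iff]
            intro g
            constructor <;> intro hg
            · rwa [← mem_centralizer_singleton_iff.mp (hR hg), mul_inv_cancel_right]
            · have h1 := hR hg
              rw [mem_centralizer_singleton_iff] at h1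
              have h2 : g = y * g * y⁻¹ := by
                calc g = y⁻¹ * (y * g * y⁻¹ * y) := by group
                  _ = y⁻¹ * (y * (y * g * y⁻¹)) := by rw [h1]
                  _ = _ := by group
              rwa [h2]))
        rw [← R.3 hsup le_sup_left]
        exact mem_sup_right (mem_zpowers y)
      have hyc : y ∈ center G := hcentral r ‹_› R y hyR hR
      have hqm : q ∣ m' := by
        rw [hq]; apply orderOf_dvd_of_pow_eq_one
        rw [← QuotientGroup.mk_pow, QuotientGroup.eq_one_iff]; exact hyc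
      exact hm' (hrq.trans hqm)
    obtain ⟨c1, c2, hbez⟩ := Int.isCoprime_iff_nat_coprime.mpr
      (show (Int.natAbs ((p ^ v : ℕ) : ℤ)).Coprime (Int.natAbs (m : ℤ)) by
        simpa using (hp.coprime_iff_not_dvd.mpr hm).pow_left v)
    have hxn : x ^ ((p ^ v * m : ℕ) : ℤ) = 1 := by rw [zpow_natCast, ← hn, pow_orderOf_eq_one]
    set e := x ^ (c2 * (m : ℤ)) with he
    have heP : IsPGroup p (zpowers e) := by
      obtain ⟨i, -, hi⟩ := (Nat.dvd_prime_pow hp).mp
        (orderOf_dvd_of_pow_eq_one (x := e) (n := p ^ v) (by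
          rw [← zpow_natCast, he, ← zpow_mul,
            show c2 * (m : ℤ) * ((p ^ v : ℕ) : ℤ) = ((p ^ v * m : ℕ) : ℤ) * c2 by push_cast; ring,
            zpow_mul, hxn, one_zpow]))
      exact IsPGroup.of_card (by rw [Nat.card_zpowers, hi])
    refine ⟨e, ?_, x ^ (c1 * ((p ^ v : ℕ) : ℤ)), ⟨?_, ?_⟩, ?_⟩
    · intro g
      obtain ⟨P0, hP0⟩ := heP.exists_le_sylow
      obtain ⟨c, rfl⟩ := MulAction.exists_smul_eq G P0 P
      have hmem := conj_mem_of_index_pow P0 (hP0 (mem_zpowers e)) (hpow_ind _) (c⁻¹ * g)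
      refine ⟨_, hmem, ?_⟩
      simp [MulAut.conj_apply, mul_assoc]
    · rw [mul_comm, zpow_mul, zpow_natCast]; exact zpow_mem hxv _
    · refine Nat.Coprime.coprime_dvd_left ?_ (hp.coprime_iff_not_dvd.mpr hm).symm
      apply orderOf_dvd_of_pow_eq_one
      rw [← zpow_natCast, ← zpow_mul,
        show c1 * ((p ^ v : ℕ) : ℤ) * (m : ℤ) = ((p ^ v * m : ℕ) : ℤ) * c1 by push_cast; ring,
        zpow_mul, hxn, one_zpow]
    · rw [he, ← zpow_add, add_comm, hbez, zpow_one]
  have hle : a * zb ≤ Nat.card K * Nat.card Zp := by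
    rw [← hAG, ← Nat.card_prod]
    choose! ee hee zz hzz heq using hmem
    refine Nat.card_le_card_of_injective
      (fun x => (⟨ee x.1, hee x.1 x.2⟩, ⟨zz x.1, hzz x.1 x.2⟩)) fun x y e => ?_
    simp only [Prod.mk.injEq, Subtype.mk.injEq] at e
    exact Subtype.ext (by rw [heq x.1 x.2, heq y.1 y.2, e.1, e.2])
  have hzb0 : 0 < zb := Nat.pos_of_ne_zero fun e => by
    rw [e] at hzb; exact hp.ne_one (Nat.coprime_zero_left p |>.mp hzb)
  have hKa : a ≤ Nat.card K := Nat.le_of_mul_le_mul_right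
    (hle.trans (Nat.mul_le_mul_left _ hZp)) hzb0
  have hKP : K = (P : Subgroup G) :=
    eq_of_le_of_card_ge (normalCore_le _) (hPa ▸ hKa)
  exact hKP ▸ normalCore_normal _

end Cfsg.Agent.S4139
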