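import Cfsg.Statements.S4142
import Cfsg.Agent.Lib.PGroup.Basic

set_option autoImplicit false
open Cfsg

namespace Cfsg.Agent.S4142

/-- Let G be a finite group and N a normal subgroup. Then the conjugacy class of every element g outside N is a union of cosets of N (gn is conjugate to g for all n ∈ N) if and only if for every g outside N the centralizer of g in G has the same order as the centralizer of gN in G/N. -/
theorem result {G : Type*} [Group G] [Finite G] (N : Subgroup G) [N.Normal] :
    (∀ g : G, g ∉ N → ∀ n ∈ N, ∃ x : G, x * g * x⁻¹ = g * n) ↔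
      ∀ g : G, g ∉ N → Nat.card (Subgroup.centralizer ({g} : Set G)) =
        Nat.card (Subgroup.centralizer ({(QuotientGroup.mk g : G ⧸ N)} : Set (G ⧸ N))) := by
  classical
  refine forall₂_congr fun g hg => ?_
  set cl : Set G := {y | IsConj g y} with hcl
  set cl' : Set (G ⧸ N) := {y | IsConj (g : G ⧸ N) y} with hcl'
  have hsub : cl ⊆ QuotientGroup.mk ⁻¹' cl' := fun y hy =>
    (QuotientGroup.mk' N).map_isConj hy
  have hpre : Nat.card (QuotientGroup.mk ⁻¹' cl' : Set G) = Nat.card N * Nat.card cl' := by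
    rw [Nat.card_congr (QuotientGroup.preimageMkEquivSubgroupProdSet N cl'), Nat.card_prod]
  have h1 : Nat.card cl * Nat.card (Subgroup.centralizer ({g} : Set G)) = Nat.card G := by
    rw [← (Subgroup.centralizer ({g} : Set G)).index_mul_card]
    exact congrArg (· * _) (CfsgLib.PGroup.Basic.conj_card_eq_index g)
  have h2 : Nat.card cl' * Nat.card (Subgroup.centralizer ({(g : G ⧸ N)} : Set (G ⧸ N))) =
      Nat.card (G ⧸ N) := by
    rw [← (Subgroup.centralizer ({(g : G ⧸ N)} : Set (G ⧸ N))).index_mul_card]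
    exact congrArg (· * _) (CfsgLib.PGroup.Basic.conj_card_eq_index _)
  rw [Subgroup.card_eq_card_quotient_mul_card_subgroup N, ← h2] at h1
  have hle := Nat.card_mono (Set.toFinite _) hsub
  constructor
  · intro h
    have heq : cl = QuotientGroup.mk ⁻¹' cl' := by
      refine hsub.antisymm fun y hy => ?_
      obtain ⟨c, hc⟩ := isConj_iff.1 (show IsConj (g : G ⧸ N) (y : G ⧸ N) from hy)
      obtain ⟨d, rfl⟩ := QuotientGroup.mk'_surjective N c
      obtain ⟨x, hx⟩ := h (g⁻¹ * (d⁻¹ * y * d)) (by
        rw [← QuotientGroup.eq_one_iff]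
        simp only [QuotientGroup.mk'_apply] at hc
        rw [← QuotientGroup.mk_inv, ← QuotientGroup.mk_mul, ← QuotientGroup.mk_mul] at hc
        simp only [QuotientGroup.mk_mul, QuotientGroup.mk_inv] at hc ⊢
        rw [← hc]; group)
      exact isConj_iff.2 ⟨d * x, by rw [show d * x * g * (d * x)⁻¹ = d * (x * g * x⁻¹) * d⁻¹ by group, hx]; group⟩
    rw [heq, hpre] at h1
    have hpos : 0 < Nat.card N * Nat.card cl' := by
      rw [← hpre, ← heq]
      have : Nonempty cl := ⟨⟨g, IsConj.refl g⟩⟩
      exact Nat.card_pos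
    exact Nat.eq_of_mul_eq_mul_left hpos (h1.trans (by ring))
  · intro h n hn
    have heq : cl = QuotientGroup.mk ⁻¹' cl' := by
      refine Set.eq_of_subset_of_ncard_le hsub ?_ (Set.toFinite _)
      rw [← Nat.card_coe_set_eq, ← Nat.card_coe_set_eq, hpre]
      rw [h] at h1
      refine le_of_eq (Nat.eq_of_mul_eq_mul_right (Nat.card_pos (α := Subgroup.centralizer ({(g : G ⧸ N)} : Set (G ⧸ N)))) ?_)
      rw [h1]; ring
    have : g * n ∈ cl := by
      rw [heq]
      show IsConj (g : G ⧸ N) ((g * n : G) : G ⧸ N)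
      rw [QuotientGroup.mk_mul, (QuotientGroup.eq_one_iff n).2 hn, mul_one]
    exact isConj_iff.1 this

end Cfsg.Agent.S4142
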