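import Cfsg.Statements.S4143
import Mathlib

set_option autoImplicit false
open Cfsg

namespace Cfsg.Agent.S4143

open Subgroup
open scoped commutatorElement

universe u

theorem aux {p : ℕ} [Fact p.Prime] : ∀ (n : ℕ) (X : Type u) [Group X] [Finite X],
    Nat.card X = p ^ n → ∀ B : Subgroup X, Nat.card B = p ^ 3 → ¬ IsMulCommutative B →
      Subgroup.centralizer (B : Set X) ≤ B → Group.nilpotencyClass X = n - 1 := by
  intro n
  induction n using Nat.strong_induction_on with
  | _ n ih =>
  intro X _ _ hX B hB hBna hC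
  classical
  have hp : p.Prime := Fact.out
  have hPX : IsPGroup p X := IsPGroup.of_card hX
  haveI := hPX.isNilpotent
  haveI : Nontrivial B := Finite.one_lt_card_iff_nontrivial.mp (hB ▸ Nat.one_lt_pow three_ne_zero hp.one_lt)
  haveI : Nontrivial X := Function.Injective.nontrivial B.subtype_injective
  have hBp : IsPGroup p B := hPX.to_subgroup B
  have hn3 : 3 ≤ n := (Nat.pow_dvd_pow_iff_le_right hp.one_lt).mp (hB ▸ hX ▸ card_subgroup_dvd_card B)
  set Z := center X with hZdef
  have hZB : Z ≤ B := fun z hz => hC (fun b _ => mem_center_iff.mp hz b)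
  haveI := hBp.center_nontrivial
  -- the centre of B has order p
  have hcomm2 : ∀ H : Subgroup X, H ≤ B → (∃ a ∈ H, ∃ b ∈ H, a * b ≠ b * a) → H = B := by
    intro H hHB ⟨a, ha, b, hb, hab⟩
    refine eq_of_le_of_card_ge hHB ?_
    obtain ⟨i, hi, hci⟩ := (Nat.dvd_prime_pow hp).mp (hB ▸ card_dvd_of_le hHB)
    rw [hB, hci]
    rcases Nat.lt_or_ge i 3 with hi3 | hi3
    · exfalso
      have hcom : IsMulCommutative H := by
        interval_cases i
        · haveI : Subsingleton H := (Nat.card_eq_one_iff_unique.mp (by simpa using hci)).1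
          exact ⟨⟨fun x y => Subsingleton.elim _ _⟩⟩
        · haveI : IsCyclic H := isCyclic_of_prime_card (p := p) (by simpa using hci)
          exact IsCyclic.isMulCommutative
        · exact IsPGroup.isMulCommutative_of_card_eq_prime_sq hci
      exact hab (congrArg Subtype.val (hcom.is_comm.comm (⟨a, ha⟩ : H) ⟨b, hb⟩))
    · exact Nat.pow_le_pow_right hp.pos hi3
  obtain ⟨x, y, hxy⟩ : ∃ x y : B, x * y ≠ y * x := by
    by_contra! h; exact hBna ⟨⟨h⟩⟩
  have hZBp : Nat.card (center B) = p := by
    obtain ⟨i, hi, hci⟩ := (Nat.dvd_prime_pow hp).mp (hB ▸ card_subgroup_dvd_card (center B))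
    have h1 : i ≠ 0 := fun h => by
      have := Finite.one_lt_card (α := center B)
      rw [hci, h, pow_zero] at this; omega
    have h2 : i < 2 := by
      by_contra! h2
      refine hBna ?_
      have hq : IsCyclic (B ⧸ center B) := by
        have h3 := (center B).card_mul_index
        rw [hci, hB, index_eq_card] at h3
        rcases Nat.lt_or_ge i 3 with h4 | h4
        · refine isCyclic_of_prime_card (p := p) (Nat.eq_of_mul_eq_mul_left (pow_pos hp.pos i) ?_)
          rw [h3, ← pow_succ, show i + 1 = 3 by omega]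
        · have : i = 3 := by omega
          subst this
          haveI : Subsingleton (B ⧸ center B) := (Nat.card_eq_one_iff_unique.mp
            (Nat.eq_of_mul_eq_mul_left (pow_pos hp.pos 3) (h3.trans (mul_one _).symm))).1
          infer_instance
      haveI := hq
      exact (QuotientGroup.mk' (center B)).isMulCommutative_of_isCyclic_of_ker_le_center
        (by rw [QuotientGroup.ker_mk'])
    rw [hci, show i = 1 by omega, pow_one]
  have hZc : ∀ z : B, (z : X) ∈ Z → z ∈ center B := fun z hz =>
    mem_center_iff.mpr fun g => Subtype.ext (mem_center_iff.mp hz g)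
  haveI := hPX.center_nontrivial
  have hZeq : ∀ z : B, z ∈ center B → (z : X) ∈ Z := by
    have hle : Z.subgroupOf B ≤ center B := fun z hz => hZc z hz
    have hcard : Nat.card (center B) ≤ Nat.card (Z.subgroupOf B) := by
      rw [hZBp, Nat.card_congr (subgroupOfEquivOfLe hZB).toEquiv]
      obtain ⟨k, hk⟩ := (hPX.to_subgroup Z).exists_card_eq
      have h1 : 1 < Nat.card Z := Finite.one_lt_card
      rw [hk] at h1 ⊢
      exact Nat.le_self_pow (fun h => by rw [h, pow_zero] at h1; omega) p
    exact fun z hz => ((eq_of_le_of_card_ge hle hcard).symm ▸ hz : z ∈ Z.subgroupOf B)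
  have hZcard : Nat.card Z = p := by
    rw [← Nat.card_congr (subgroupOfEquivOfLe hZB).toEquiv, ← hZBp]
    congr 2
    congr 1
    exact le_antisymm (fun z hz => hZc z hz) (fun z hz => hZeq z hz)
  set π := QuotientGroup.mk' Z with hπ
  have hQcard : Nat.card (X ⧸ Z) = p ^ (n - 1) := by
    have h := Z.card_mul_index
    rw [hZcard, index_eq_card, hX, show n = n - 1 + 1 by omega, pow_succ'] at h
    exact Nat.eq_of_mul_eq_mul_left hp.pos h
  have hclass : Group.nilpotencyClass X = Group.nilpotencyClass (X ⧸ Z) + 1 :=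
    Group.nilpotencyClass_eq_quotient_center_plus_one
  have hBq : Nat.card (B.map π) = p ^ 2 := by
    have h := (π.comp B.subtype).ker.card_mul_index
    rw [index_ker, MonoidHom.range_comp, range_subtype, hB] at h
    have hk : (π.comp B.subtype).ker = center B := by
      ext z
      rw [MonoidHom.mem_ker]
      exact ⟨fun h => hZc z ((QuotientGroup.eq_one_iff _).mp h), fun h => (QuotientGroup.eq_one_iff _).mpr (hZeq z h)⟩
    rw [hk, hZBp, pow_succ'] at h
    exact Nat.eq_of_mul_eq_mul_left hp.pos h
  rcases hn3.lt_or_eq with hn4 | hn4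
  swap
  · -- X has order p^3
    subst hn4
    haveI : IsMulCommutative (X ⧸ Z) := IsPGroup.isMulCommutative_of_card_eq_prime_sq hQcard
    have h1 : Group.nilpotencyClass (X ⧸ Z) ≤ 1 :=
      Group.IsNilpotent.nilpotencyClass_le_one_iff.mpr inferInstance
    have h2 : ¬ Group.nilpotencyClass X ≤ 1 := fun h => by
      have := Group.IsNilpotent.nilpotencyClass_le_one_iff.mp h
      exact hxy (Subtype.ext (this.is_comm.comm _ _))
    omega
  -- B / Z is self-centralizing in X / Z
  have hBab : ∀ a b : B, π (a : X) * π b = π b * π a := fun a b => by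
    have := IsPGroup.isMulCommutative_of_card_eq_prime_sq hBq
    exact congrArg Subtype.val (this.is_comm.comm (⟨π a, a, a.2, rfl⟩ : B.map π) ⟨π b, b, b.2, rfl⟩)
  have hcz : ∀ a b : B, ((⁅a, b⁆ : B) : X) ∈ Z := fun a b => by
    rw [← QuotientGroup.eq_one_iff]
    show π ((⁅a, b⁆ : B) : X) = 1
    simp only [commutatorElement_def, Subgroup.coe_mul, InvMemClass.coe_inv, map_mul, map_inv]
    rw [hBab a b]; group
  let c : B → B → Z := fun b a => ⟨((⁅b, a⁆ : B) : X), hcz b a⟩
  have hsurj : ∀ z w : Z, ∃ b : B, c b x = z ∧ c b y = w := by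
    have hmul : ∀ a : B, ∀ b b' : B, c (b * b') a = c b a * c b' a := fun a b b' => by
      refine Subtype.ext ?_
      show ((⁅b * b', a⁆ : B) : X) = ((⁅b, a⁆ : B) : X) * ((⁅b', a⁆ : B) : X)
      rw [← Subgroup.coe_mul]
      congr 1
      have hc' : ⁅b', a⁆ ∈ center B := hZc _ (hcz b' a)
      calc ⁅b * b', a⁆ = b * ⁅b', a⁆ * b⁻¹ * ⁅b, a⁆ := by simp [commutatorElement_def]; group
        _ = ⁅b', a⁆ * ⁅b, a⁆ := by rw [mem_center_iff.mp hc' b, mul_inv_cancel_right]
        _ = ⁅b, a⁆ * ⁅b', a⁆ := (mem_center_iff.mp hc' _).symm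
    let f : B →* Z × Z := MonoidHom.mk' (fun b => (c b x, c b y)) fun b b' => by
      rw [Prod.mk_mul_mk, hmul x, hmul y]
    have hker : f.ker ≤ center B := by
      intro b hb
      rw [MonoidHom.mem_ker] at hb
      have h1 : ⁅b, x⁆ = 1 := Subtype.ext (congrArg (fun t : Z × Z => (t.1 : X)) hb)
      have h2 : ⁅b, y⁆ = 1 := Subtype.ext (congrArg (fun t : Z × Z => (t.2 : X)) hb)
      rw [commutatorElement_eq_one_iff_mul_comm] at h1 h2
      set H := (Subgroup.closure ({x, y} : Set B)).map B.subtype with hH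
      have hHB : H = B := hcomm2 H (map_subtype_le _) ⟨x, ⟨x, subset_closure (by simp), rfl⟩, y,
        ⟨y, subset_closure (by simp), rfl⟩, fun h => hxy (Subtype.ext h)⟩
      rw [mem_center_iff]
      intro g
      obtain ⟨g', hg', hge⟩ := (hHB.symm ▸ g.2 : (g : X) ∈ H)
      rw [← Subtype.ext hge]
      have hle : Subgroup.closure ({x, y} : Set B) ≤ centralizer ({b} : Set B) := by
        rw [closure_le]
        rintro t (rfl | rfl)
        · exact mem_centralizer_singleton_iff.mpr h1.symm
        · exact mem_centralizer_singleton_iff.mpr h2.symm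
      exact mem_centralizer_singleton_iff.mp (hle hg')
    have hrange : f.range = ⊤ := by
      refine eq_top_of_le_card _ ?_
      have h := f.ker.card_mul_index
      rw [index_ker, hB] at h
      have hk := card_le_of_le hker
      rw [hZBp] at hk
      rw [Nat.card_prod, hZcard]
      nlinarith [hp.pos]
    intro z w
    obtain ⟨b, hb⟩ : (z, w) ∈ f.range := hrange ▸ mem_top _
    exact ⟨b, congrArg Prod.fst hb, congrArg Prod.snd hb⟩
  have hCq : centralizer (B.map π : Set (X ⧸ Z)) ≤ B.map π := by
    intro q hq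
    obtain ⟨g, rfl⟩ := QuotientGroup.mk'_surjective Z q
    have hgz : ∀ a : B, g * a * g⁻¹ * (a : X)⁻¹ ∈ Z := fun a => by
      rw [← QuotientGroup.eq_one_iff]
      show π (g * a * g⁻¹ * (a : X)⁻¹) = 1
      simp only [map_mul, map_inv]
      have h1 : π (a : X) * π g = π g * π (a : X) := hq _ ⟨a, a.2, rfl⟩
      rw [← h1]; group
    obtain ⟨b, hb1, hb2⟩ := hsurj ⟨_, hgz x⟩ ⟨_, hgz y⟩
    have hfix : ∀ a : B, (b : X) * a * (b : X)⁻¹ * (a : X)⁻¹ = g * a * g⁻¹ * (a : X)⁻¹ →
        (a : X) * ((b : X)⁻¹ * g) = ((b : X)⁻¹ * g) * a := by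
      intro a h
      have h' : (b : X) * a * (b : X)⁻¹ = g * a * g⁻¹ := mul_right_cancel h
      calc (a : X) * ((b : X)⁻¹ * g) = (b : X)⁻¹ * ((b : X) * a * (b : X)⁻¹) * g := by group
        _ = _ := by rw [h']; group
    have hx' := hfix x (congrArg Subtype.val hb1)
    have hy' := hfix y (congrArg Subtype.val hb2)
    have hmem : (b : X)⁻¹ * g ∈ centralizer (B : Set X) := by
      set H := Subgroup.closure ({(x : X), (y : X)} : Set X) with hH
      have hHB : H = B := hcomm2 H ((closure_le _).mpr (by
        rintro t (rfl | rfl); exacts [x.2, y.2])) ⟨x, subset_closure (by simp), y, subset_closure (by simp),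
          fun h => hxy (Subtype.ext h)⟩
      have hle : H ≤ centralizer ({(b : X)⁻¹ * g} : Set X) := by
        rw [hH, closure_le]
        rintro t (rfl | rfl)
        · exact mem_centralizer_singleton_iff.mpr hx'
        · exact mem_centralizer_singleton_iff.mpr hy'
      exact fun t ht => mem_centralizer_singleton_iff.mp (hle (hHB.symm ▸ ht))
    exact ⟨g, by simpa using mul_mem b.2 (hC hmem), rfl⟩
  obtain ⟨N, hN, hBN⟩ := Sylow.exists_subgroup_card_pow_succ (p := p) (n := 3)
    (hX ▸ pow_dvd_pow p (by omega)) hB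
  have hZN : Z ≤ N := hZB.trans hBN
  have hNq : Nat.card (N.map π) = p ^ 3 := by
    have h := (π.comp N.subtype).ker.card_mul_index
    rw [index_ker, MonoidHom.range_comp, range_subtype, hN] at h
    have hk : (π.comp N.subtype).ker = Z.subgroupOf N := by
      ext z; rw [MonoidHom.mem_ker]; exact QuotientGroup.eq_one_iff _
    rw [hk, Nat.card_congr (subgroupOfEquivOfLe hZN).toEquiv, hZcard, pow_succ'] at h
    exact Nat.eq_of_mul_eq_mul_left hp.pos h
  have hNna : ¬ IsMulCommutative (N.map π) := by
    intro hab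
    have hle : N.map π ≤ B.map π := fun q hq => hCq (fun t ht =>
      congrArg Subtype.val (hab.is_comm.comm (⟨t, map_mono hBN ht⟩ : N.map π) ⟨q, hq⟩))
    have := card_le_of_le hle
    rw [hNq, hBq] at this
    exact absurd this (Nat.not_le.mpr (Nat.pow_lt_pow_right hp.one_lt (by norm_num)))
  have hNC : centralizer (N.map π : Set (X ⧸ Z)) ≤ N.map π :=
    (centralizer_le (SetLike.coe_subset_coe.mpr (map_mono hBN))).trans (hCq.trans (map_mono hBN))
  have := ih (n - 1) (by omega) (X ⧸ Z) hQcard (N.map π) hNq hNna hNC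
  omega

/-- Let X be a finite p-group of order p^n containing a non-abelian subgroup B of order p³ with C_X(B) ≤ B. Then X has nilpotency class n − 1 (maximal class). -/
theorem result {X : Type*} [Group X] [Finite X] {p : ℕ} [Fact p.Prime] (n : ℕ) (hX : Nat.card X = p ^ n)
    (B : Subgroup X) (hB : Nat.card B = p ^ 3) (hBna : ¬ IsMulCommutative B) (hC : Subgroup.centralizer (B : Set X) ≤ B) :
    Group.nilpotencyClass X = n - 1 := by
  exact aux n X hX B hB hBna hC

end Cfsg.Agent.S4143
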