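import Cfsg.Statements.S4144
import Cfsg.Agent.Lib.PGroup.MaxClassPower.Count

set_option autoImplicit false
open Cfsg

namespace Cfsg.Agent.S4144

/-- Let X be a finite p-group of order p^n, n ≥ 2, of nilpotency class n − 1 (maximal class), and H any subgroup of X. Then the index in H of the subgroup generated by the p-th powers of elements of H is at most p^p. -/
theorem result {X : Type*} [Group X] [Finite X] {p : ℕ} [Fact p.Prime] (n : ℕ) (hn : 2 ≤ n) (hX : Nat.card X = p ^ n)
    (hmax : Group.nilpotencyClass X = n - 1) (H : Subgroup X) :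
    (Subgroup.closure {y : X | ∃ h ∈ H, y = h ^ p}).relIndex H ≤ p ^ p := by
  have hp := (Fact.out : p.Prime)
  change (CfsgLib.PGroup.MaxClassPower.powers p H).relIndex H ≤ p ^ p
  rcases Nat.lt_or_ge n 3 with hn3 | hn3
  · refine (Nat.le_of_dvd Nat.card_pos
      ((CfsgLib.PGroup.MaxClassPower.powers p H).relIndex_dvd_card H)).trans ((Subgroup.card_le_card_group H).trans ?_)
    rw [hX]
    exact Nat.pow_le_pow_right hp.pos (by have := hp.two_le; omega)
  haveI := (IsPGroup.of_card hX).isNilpotent
  have h : CfsgLib.PGroup.MaxClassPower.IsMax X p n := ⟨hX, hn3, fun he => by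
    rw [Subgroup.lowerCentralSeries_eq_bot_iff_nilpotencyClass_le] at he
    omega⟩
  exact h.index_powers_le H

end Cfsg.Agent.S4144
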