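import Cfsg.Statements.S4145
import Mathlib
import Cfsg.Agent.Lib.Fusion.Abelian
import Cfsg.Agent.Lib.Fusion.PSolvable

set_option autoImplicit false
open Cfsg

namespace Cfsg.Agent.S4145

open Subgroup CfsgLib.Fusion.Basic CfsgLib.Fusion.PSolvable

theorem mem_of_pow_mem {X : Type*} [Group X] (C : Subgroup X) [C.Normal] {g : X} {m : ℕ}
    (h : g ^ m ∈ C) (hc : Nat.Coprime m C.index) : g ∈ C := by
  rw [← QuotientGroup.eq_one_iff] at h ⊢
  rw [QuotientGroup.mk_pow] at h
  exact orderOf_eq_one_iff.mp (Nat.dvd_one.mp (hc ▸ Nat.dvd_gcd (orderOf_dvd_of_pow_eq_one h)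
    (_root_.orderOf_dvd_natCard _)))

/-- An element normalizing a cyclic p-group and congruent to a trivial automorphism has a p-power
in the centralizer. -/
theorem pow_centralizes {X : Type*} [Group X] {p : ℕ} {x z : X} {a : ℕ} {r : ℤ}
    (ha : orderOf z = p ^ a) (hx : x * z * x⁻¹ = z ^ r) (hr : (p : ℤ) ∣ r - 1) :
    x ^ p ^ a * z = z * x ^ p ^ a := by
  have hk : ∀ k : ℕ, x ^ k * z * (x ^ k)⁻¹ = z ^ (r ^ k) := by
    intro k
    induction k with
    | zero => simp
    | succ k ih =>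
      rw [pow_succ', mul_inv_rev, show x * x ^ k * z * ((x ^ k)⁻¹ * x⁻¹) =
        x * (x ^ k * z * (x ^ k)⁻¹) * x⁻¹ by group, ih, ← conj_zpow, hx, ← zpow_mul, pow_succ']
  have h1 : ((orderOf z : ℕ) : ℤ) ∣ r ^ p ^ a - 1 := by
    rw [ha]
    have := dvd_sub_pow_of_dvd_sub hr a
    rw [one_pow] at this
    push_cast
    exact (pow_dvd_pow _ (Nat.le_succ a)).trans this
  have h2 : z ^ (r ^ p ^ a) = z := by
    have := orderOf_dvd_iff_zpow_eq_one.mp h1
    rw [zpow_sub, zpow_one, mul_inv_eq_one] at this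
    exact this
  have := hk (p ^ a)
  rw [h2] at this
  exact mul_inv_eq_iff_eq_mul.mp this

theorem main {G : Type*} [Group G] [Finite G] (p : ℕ) [Fact p.Prime]
    (P : Sylow p G) (hP : IsCyclic (P : Subgroup G)) (H : Subgroup G) [H.Normal]
    (h1 : p ∣ Nat.card H) (h2 : p ∣ H.index) :
    Cfsg.HasNormalPComplement p H ∧ Cfsg.IsPSolvable p G := by
  have hp : p.Prime := Fact.out
  obtain ⟨z, hz⟩ := hP.exists_generator
  have hgen : ∀ x ∈ (P : Subgroup G), ∃ i : ℤ, (z : G) ^ i = x := fun x hx => by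
    obtain ⟨i, hi⟩ := mem_zpowers_iff.mp (hz ⟨x, hx⟩)
    exact ⟨i, congrArg Subtype.val hi⟩
  obtain ⟨a, ha⟩ := P.2.exists_card_eq
  have hzo : orderOf (z : G) = p ^ a := by
    rw [Subgroup.orderOf_coe, orderOf_eq_card_of_forall_mem_zpowers hz, ha]
  have hPc : ∀ x ∈ (P : Subgroup G), ∀ y ∈ (P : Subgroup G), x * y = y * x := by
    intro x hx y hy
    obtain ⟨i, rfl⟩ := hgen x hx
    obtain ⟨j, rfl⟩ := hgen y hy
    exact (Commute.zpow_zpow_self (z : G) i j).eq
  set P0 := (P : Subgroup G) ⊓ H with hP0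
  have hidx0 : ¬ p ∣ P0.relIndex H := not_dvd_relIndex_of_normal P H
  set N := normalizer (P0 : Set G) with hN
  set C := centralizer (P0 : Set G) with hC
  have hPC : (P : Subgroup G) ≤ C := fun x hx y hy => (hPc x hx y hy.1).symm
  have hCN : C ≤ N := centralizer_le_normalizer _
  -- `P` is not inside `H`, and meets it non-trivially
  have hPH : ¬ (P : Subgroup G) ≤ H := fun h => P.not_dvd_index (h2.trans (index_dvd_of_le h))
  have hP0ne : P0 ≠ ⊥ := by
    intro h
    rw [h, relIndex_bot_left] at hidx0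
    exact hidx0 h1
  -- exponents congruent to one
  have hrmod : ∀ r : ℤ, (z : G) ^ (r - 1) ∈ H → (p : ℤ) ∣ r - 1 := by
    intro r hr
    by_contra hnd
    apply hPH
    intro x hx
    obtain ⟨i, rfl⟩ := hgen x hx
    obtain ⟨u, v, huv⟩ : IsCoprime (r - 1) ((p : ℤ) ^ a) := by
      refine IsCoprime.pow_right ?_
      exact ((Int.isCoprime_iff_gcd_eq_one).mpr (by
        rw [Int.gcd_comm]
        exact (Nat.Prime.coprime_iff_not_dvd hp).mpr (fun h => hnd (Int.natCast_dvd.mpr h))))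
    have h1 : ((z : G) ^ (r - 1)) ^ u = (z : G) := by
      rw [← zpow_mul]
      have h0 : (z : G) ^ ((p : ℤ) ^ a) = 1 := by
        rw [← Nat.cast_pow, zpow_natCast, ← hzo, pow_orderOf_eq_one]
      calc (z : G) ^ ((r - 1) * u) = (z : G) ^ ((r - 1) * u) * ((z : G) ^ ((p : ℤ) ^ a)) ^ v := by
            rw [h0, one_zpow, mul_one]
        _ = _ := by
            rw [← zpow_mul, ← zpow_add, show (r - 1) * u + (p : ℤ) ^ a * v = 1 by linarith, zpow_one]
    exact h1 ▸ H.zpow_mem (H.zpow_mem hr u) i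
  -- the centralizer has a normal p-complement
  have hCnpc : Cfsg.HasNormalPComplement p C := by
    refine CfsgLib.Fusion.Abelian.npc_of_normalizer_le_centralizer (P.subtype hPC) fun c hc => ?_
    have hcP : (c : G) * (z : G) * (c : G)⁻¹ ∈ (P : Subgroup G) :=
      (mem_normalizer_iff.mp hc ⟨z, hPC z.2⟩).mp z.2
    obtain ⟨r, hr⟩ := hgen _ hcP
    have hr1 : (p : ℤ) ∣ r - 1 := by
      obtain ⟨w, ⟨hwP, hwH⟩, hw1⟩ := P0.bot_or_exists_ne_one.resolve_left hP0ne
      obtain ⟨i, hi⟩ := hgen w hwP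
      have h3 : (c : G) * w * (c : G)⁻¹ = w := by
        have := c.2 w ⟨hwP, hwH⟩
        rw [← this]; group
      rw [← hi, ← conj_zpow, ← hr, ← zpow_mul] at h3
      have h4 := orderOf_dvd_iff_zpow_eq_one.mpr (show (z : G) ^ ((r - 1) * i) = 1 by
        rw [sub_mul, one_mul, zpow_sub, h3, mul_inv_cancel])
      by_contra hnd
      apply hw1
      rw [← hi, ← orderOf_dvd_iff_zpow_eq_one]
      rw [hzo] at h4 ⊢
      push_cast at h4 ⊢
      refine (IsCoprime.pow_left ?_).dvd_of_dvd_mul_left h4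
      exact (Int.isCoprime_iff_gcd_eq_one).mpr
        ((Nat.Prime.coprime_iff_not_dvd hp).mpr (fun h => hnd (Int.natCast_dvd.mpr h)))
    have hpow := pow_centralizes hzo hr.symm hr1
    -- pass to the quotient by the centralizer
    set M := normalizer ((P.subtype hPC : Sylow p C) : Set C)
    set D := (centralizer ((P.subtype hPC : Sylow p C) : Set C)).subgroupOf M
    have hD : (⟨c, hc⟩ : M) ^ p ^ a ∈ D := by
      intro y hy
      have hyP : (y : G) ∈ (P : Subgroup G) := hy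
      obtain ⟨i, hi⟩ := hgen _ hyP
      apply Subtype.ext
      show (y : G) * ((c ^ p ^ a : C) : G) = ((c ^ p ^ a : C) : G) * (y : G)
      rw [← hi, Subgroup.coe_pow]
      exact ((Commute.zpow_left (show Commute (z : G) ((c : G) ^ p ^ a) from hpow.symm)) i).eq
    refine mem_of_pow_mem D hD (Nat.Coprime.pow_left _ (hp.coprime_iff_not_dvd.mpr fun hd => ?_))
    have hle : ((P.subtype hPC : Sylow p C) : Subgroup C) ≤
        centralizer ((P.subtype hPC : Sylow p C) : Set C) := fun x hx y hy =>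
      Subtype.ext (hPc _ hy _ hx)
    exact (P.subtype hPC).not_dvd_index (hd.trans
      ((relIndex_dvd_of_le_left _ hle).trans (relIndex_dvd_index_of_le le_normalizer)))
  -- action of `N` on `P0`
  have hHC : ∀ g ∈ N, g ∈ H → g ^ p ^ a ∈ C := by
    intro g hg hgH
    have hPg : ((g • P : Sylow p G) : Subgroup G) ≤ C := by
      intro x hx
      rw [Sylow.coe_subgroup_smul] at hx
      obtain ⟨y, hy, rfl⟩ := hx
      intro w hw
      show w * (g * y * g⁻¹) = g * y * g⁻¹ * w
      have hw' : g⁻¹ * w * g ∈ P0 := by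
        have := (mem_normalizer_iff.mp (N.inv_mem hg) w).mp hw
        rwa [inv_inv] at this
      have := hPC hy _ hw'
      calc w * (g * y * g⁻¹) = g * ((g⁻¹ * w * g) * y) * g⁻¹ := by group
        _ = g * (y * (g⁻¹ * w * g)) * g⁻¹ := by rw [this]
        _ = _ := by group
    obtain ⟨c, hc⟩ := MulAction.exists_smul_eq C ((g • P).subtype hPg) (P.subtype hPC)
    have hu : ∀ x ∈ (P : Subgroup G), (c : G) * g * x * ((c : G) * g)⁻¹ ∈ (P : Subgroup G) := by
      intro x hx
      have hgx : g * x * g⁻¹ ∈ ((g • P : Sylow p G) : Subgroup G) :=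
        smul_mem_pointwise_smul x (MulAut.conj g) _ hx
      have : c * (⟨g * x * g⁻¹, hPg hgx⟩ : C) * c⁻¹ ∈ ((P.subtype hPC : Sylow p C) : Subgroup C) := by
        rw [← hc, Sylow.coe_subgroup_smul]
        exact smul_mem_pointwise_smul (⟨g * x * g⁻¹, hPg hgx⟩ : C) (MulAut.conj c) _ hgx
      rw [show (c : G) * g * x * ((c : G) * g)⁻¹ = (c : G) * (g * x * g⁻¹) * (c : G)⁻¹ by group]
      exact this
    obtain ⟨r, hr⟩ := hgen _ (hu z z.2)
    obtain ⟨k, hk, x, hx, hcx⟩ := exists_eq_pResidual_mul (P.subtype hPC) c⁻¹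
    have hr1 : (p : ℤ) ∣ r - 1 := by
      refine hrmod r ?_
      rw [← QuotientGroup.eq_one_iff, ← QuotientGroup.mk'_apply]
      set q := QuotientGroup.mk' H
      have hqg : q g = 1 := (QuotientGroup.eq_one_iff g).mpr hgH
      have hxz : (x : G) * z = z * x := hPc _ hx _ z.2
      have hcx' : (c : G) = (x : G)⁻¹ * (k : G)⁻¹ := by
        have := congrArg (fun y : C => ((y⁻¹ : C) : G)) hcx
        simpa using this
      let zC : C := ⟨z, hPC z.2⟩
      have hd : x⁻¹ * (k⁻¹ * (zC * k * zC⁻¹)) * x⁻¹⁻¹ ∈ Cfsg.pResidual p C :=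
        pResidual_normal.conj_mem _
          (mul_mem (inv_mem hk) (pResidual_normal.conj_mem k hk zC)) x⁻¹
      set e : C := x⁻¹ * (k⁻¹ * (zC * k * zC⁻¹)) * x⁻¹⁻¹ with he
      have key : q ((z : G) ^ (r - 1)) = q (e : G) := by
        have h2 : (z : G) ^ (r - 1) = (c : G) * g * z * ((c : G) * g)⁻¹ * (z : G)⁻¹ := by
          rw [zpow_sub, zpow_one, hr]
        rw [h2]
        simp only [map_mul, map_inv, hqg, mul_one]
        rw [← map_inv, ← map_inv, ← map_mul, ← map_mul, ← map_mul]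
        congr 1
        rw [hcx', he]
        simp only [Subgroup.coe_mul, Subgroup.coe_inv, zC]
        have : (x : G) * (z : G)⁻¹ = (z : G)⁻¹ * x := by
          rw [eq_inv_mul_iff_mul_eq, ← mul_assoc, ← hxz, mul_inv_cancel_right]
        rw [show (x : G)⁻¹ * (k : G)⁻¹ * z * ((x : G)⁻¹ * (k : G)⁻¹)⁻¹ * (z : G)⁻¹ =
          (x : G)⁻¹ * ((k : G)⁻¹ * z * k) * ((x : G) * (z : G)⁻¹) by group, this]
        group
      have hco : Nat.Coprime (orderOf (q (e : G))) p :=
        Nat.Coprime.coprime_dvd_left ((orderOf_map_dvd q (e : G)).trans (by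
          rw [Subgroup.orderOf_coe]
          exact Subgroup.orderOf_dvd_natCard _ hd)) (npc_iff_coprime.mp hCnpc)
      have hpd : orderOf (q ((z : G) ^ (r - 1))) ∣ p ^ a := by
        refine orderOf_dvd_of_pow_eq_one ?_
        rw [← map_pow, ← zpow_natCast, ← zpow_mul, mul_comm, zpow_mul, zpow_natCast, ← hzo,
          pow_orderOf_eq_one, one_zpow, map_one]
      rw [key] at hpd ⊢
      exact orderOf_eq_one_iff.mp (Nat.dvd_one.mp
        ((Nat.Coprime.pow_right a hco) ▸ Nat.dvd_gcd dvd_rfl hpd))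
    have hpow := pow_centralizes hzo hr.symm hr1
    set D := C.subgroupOf N
    have hD : ((⟨c, hCN c.2⟩ : N) * ⟨g, hg⟩) ^ p ^ a ∈ D := by
      intro y hy
      obtain ⟨i, hi⟩ := hgen y hy.1
      show y * (((c : G) * g) ^ p ^ a) = ((c : G) * g) ^ p ^ a * y
      rw [← hi]
      exact ((Commute.zpow_left (show Commute (z : G) (((c : G) * g) ^ p ^ a) from hpow.symm)) i).eq
    rw [← QuotientGroup.eq_one_iff] at hD
    rw [QuotientGroup.mk_pow, QuotientGroup.mk_mul,
      (QuotientGroup.eq_one_iff (⟨c, hCN c.2⟩ : N)).mpr c.2, one_mul, ← QuotientGroup.mk_pow,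
      QuotientGroup.eq_one_iff] at hD
    exact hD
  let P1 : Sylow p H := sylowSubgroupOf (inf_le_right : P0 ≤ H) (P.2.to_le inf_le_left) hidx0
  have hP1 : (P1 : Subgroup H).map H.subtype = P0 :=
    map_sylowSubgroupOf (inf_le_right : P0 ≤ H) (P.2.to_le inf_le_left) hidx0
  have hnpc : Cfsg.HasNormalPComplement p H := by
    refine CfsgLib.Fusion.Abelian.npc_of_normalizer_le_centralizer P1 fun g hg => ?_
    set M := normalizer ((P1 : Sylow p H) : Set H)
    have hgN : (g : G) ∈ N := by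
      rw [hN, ← hP1]
      exact (le_normalizer_map H.subtype) ⟨g, hg, rfl⟩
    set D1 := (centralizer ((P1 : Sylow p H) : Set H)).subgroupOf M
    have hD : (⟨g, hg⟩ : M) ^ p ^ a ∈ D1 := by
      intro y hy
      apply Subtype.ext
      have := hHC _ hgN g.2 y (show (y : G) ∈ P0 from hP1 ▸ ⟨y, hy, rfl⟩)
      simpa using this
    refine mem_of_pow_mem D1 hD (Nat.Coprime.pow_left _ (hp.coprime_iff_not_dvd.mpr fun hd => ?_))
    have hle : (P1 : Subgroup H) ≤ centralizer ((P1 : Sylow p H) : Set H) := fun x hx y hy =>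
      Subtype.ext (hPc _ (show (y : G) ∈ P0 from hP1 ▸ ⟨y, hy, rfl⟩).1 _
        (show (x : G) ∈ P0 from hP1 ▸ ⟨x, hx, rfl⟩).1)
    exact P1.not_dvd_index (hd.trans
      ((relIndex_dvd_of_le_left _ hle).trans (relIndex_dvd_index_of_le le_normalizer)))
  refine ⟨hnpc, psolvable_of_normal H (psolvable_of_npc hnpc) ?_⟩
  -- the quotient is an image of the normalizer
  have hfr : N ⊔ H = ⊤ := by
    have := Sylow.normalizer_sup_eq_top P1
    rwa [hP1] at this
  refine psolvable_of_surjective ((QuotientGroup.mk' H).comp N.subtype) (fun q => ?_) ?_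
  · obtain ⟨g, rfl⟩ := QuotientGroup.mk'_surjective H q
    obtain ⟨n, hn, h, hh, rfl⟩ := mem_sup_of_normal_right.mp
      (show g ∈ N ⊔ H from hfr ▸ mem_top g)
    exact ⟨⟨n, hn⟩, by simp [(QuotientGroup.eq_one_iff h).mpr hh]⟩
  refine psolvable_of_normal (C.subgroupOf N)
    ((psolvable_congr (subgroupOfEquivOfLe hCN)).mpr (psolvable_of_npc hCnpc)) ?_
  haveI : IsMulCommutative (N ⧸ C.subgroupOf N) := ⟨⟨fun u v => by
    obtain ⟨u, rfl⟩ := QuotientGroup.mk_surjective u
    obtain ⟨v, rfl⟩ := QuotientGroup.mk_surjective v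
    rw [← QuotientGroup.mk_mul, ← QuotientGroup.mk_mul, QuotientGroup.eq]
    haveI : IsCyclic P0 := isCyclic_of_le inf_le_left
    obtain ⟨w0, hw0⟩ := IsCyclic.exists_generator (α := P0)
    have hact : ∀ g : N, ∃ i : ℤ, (g : G) * w0 * (g : G)⁻¹ = (w0 : G) ^ i := fun g => by
      obtain ⟨i, hi⟩ := mem_zpowers_iff.mp (hw0 ⟨_, (mem_normalizer_iff.mp g.2 w0).mp w0.2⟩)
      exact ⟨i, (congrArg Subtype.val hi).symm⟩
    obtain ⟨i, hi⟩ := hact u
    obtain ⟨j, hj⟩ := hact v
    intro w hw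
    obtain ⟨t, ht⟩ := mem_zpowers_iff.mp (hw0 ⟨w, hw⟩)
    have hw' : (w0 : G) ^ t = w := congrArg Subtype.val ht
    have huv : (u : G) * v * w0 * ((u : G) * v)⁻¹ = (v : G) * u * w0 * ((v : G) * u)⁻¹ := by
      rw [show (u : G) * v * w0 * ((u : G) * v)⁻¹ = u * ((v : G) * w0 * (v : G)⁻¹) * (u : G)⁻¹ by group,
        show (v : G) * u * w0 * ((v : G) * u)⁻¹ = v * ((u : G) * w0 * (u : G)⁻¹) * (v : G)⁻¹ by group,
        hi, hj, ← conj_zpow, ← conj_zpow, hi, hj, ← zpow_mul, ← zpow_mul, mul_comm]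
    have hcomm : Commute (w0 : G) (((u : G) * v)⁻¹ * ((v : G) * u)) := by
      show (w0 : G) * _ = _ * (w0 : G)
      calc (w0 : G) * (((u : G) * v)⁻¹ * ((v : G) * u))
          = ((u : G) * v)⁻¹ * ((u : G) * v * w0 * ((u : G) * v)⁻¹) * ((v : G) * u) := by group
        _ = _ := by rw [huv]; group
    show w * (((u * v)⁻¹ * (v * u) : N) : G) = (((u * v)⁻¹ * (v * u) : N) : G) * w
    rw [← hw']
    simpa using (hcomm.zpow_left t).eq⟩⟩
  haveI : Group.IsSolvable (N ⧸ C.subgroupOf N) :=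
    Group.isSolvable_of_comm fun u v => Std.Commutative.comm (op := (· * ·)) u v
  exact psolvable_of_solvable

/-- Let G be a finite group with a cyclic Sylow p-subgroup and H a normal subgroup such that p divides both the order of H and the index of H. Then H has a normal p-complement and G is p-solvable. -/
theorem result {G : Type*} [Group G] [Finite G] (p : ℕ) [Fact p.Prime]
    (P : Sylow p G) (hP : IsCyclic (P : Subgroup G)) (H : Subgroup G) [H.Normal] (h1 : p ∣ Nat.card H) (h2 : p ∣ H.index) :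
    Cfsg.HasNormalPComplement p H ∧ Cfsg.IsPSolvable p G := by
  exact main p P hP H h1 h2

end Cfsg.Agent.S4145
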