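import Cfsg.Statements.S4146
import Cfsg.Agent.Lib.ClassSizeNM.NoGood

set_option autoImplicit false
open Cfsg

namespace Cfsg.Agent.S4146

open CfsgLib.ClassSizeNM

/-- Let G be a finite group whose conjugacy class sizes are exactly 1, n, m and nm for coprime integers n, m > 1. Then G is nilpotent and n and m are prime powers. -/
theorem result {G : Type*} [Group G] [Finite G] (n m : ℕ) (hn : 1 < n) (hm : 1 < m) (hcop : n.Coprime m)
    (h : Set.range (fun x : G => (Subgroup.centralizer ({x} : Set G)).index) = ({1, n, m, n * m} : Set ℕ)) :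
    Group.IsNilpotent G ∧ IsPrimePow n ∧ IsPrimePow m := by
  have hmem : ∀ k, k ∈ ({1, n, m, n * m} : Set ℕ) →
      ∃ z : G, (Subgroup.centralizer ({z} : Set G)).index = k := fun k hk => by
    rw [← h] at hk; exact hk
  have H : Hyp G n m :=
    { hn := hn
      hm := hm
      hcop := hcop
      mem := fun z => by
        have hz : (Subgroup.centralizer ({z} : Set G)).index ∈ ({1, n, m, n * m} : Set ℕ) :=
          h ▸ Set.mem_range_self z
        simpa using hz
      exn := hmem n (by simp)
      exm := hmem m (by simp)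
      exnm := hmem (n * m) (by simp) }
  have fin : ∀ {p r : ℕ}, Nice G n m p r →
      Group.IsNilpotent G ∧ IsPrimePow n ∧ IsPrimePow m := by
    intro p r N
    refine ⟨N.isNilpotent, ?_, ?_⟩
    · obtain ⟨a, ha⟩ := N.hn
      refine (isPrimePow_nat_iff n).2 ⟨p, a, N.hp, Nat.pos_of_ne_zero ?_, ha.symm⟩
      rintro rfl
      rw [pow_zero] at ha
      omega
    · obtain ⟨b, hb⟩ := N.hm
      refine (isPrimePow_nat_iff m).2 ⟨r, b, N.hr, Nat.pos_of_ne_zero ?_, hb.symm⟩
      rintro rfl
      rw [pow_zero] at hb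
      omega
  by_cases hng : NoGoodElement G n m
  · exact (H.false_of_noGood hng).elim
  rw [NoGoodElement, not_and_or] at hng
  rcases hng with hng | hng
  · push Not at hng
    obtain ⟨p, u, hp, hu, hcu, hpm⟩ := hng
    obtain ⟨p', r, N⟩ := H.exists_nice hp hu hcu hpm
    exact fin N
  · push Not at hng
    obtain ⟨q, v, hq, hv, hcv, hqn⟩ := hng
    obtain ⟨r, p', N⟩ := H.symm.exists_nice hq hv hcv hqn
    exact fin N.symm

end Cfsg.Agent.S4146
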