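import Cfsg.Statements.S4149


set_option autoImplicit false
open Cfsg

namespace Cfsg.Agent.S4149

open scoped Classical in
/-- The elements whose class size is prime to `p` form at most half of the group, unless the
centraliser of a Sylow `p`-subgroup is its whole normaliser. -/
lemma two_mul_card_le {G : Type*} [Group G] [Finite G] (p : ℕ) [Fact p.Prime] (P₀ : Sylow p G)
    (hne : ¬ Subgroup.normalizer ((P₀ : Subgroup G) : Set G) ≤
      Subgroup.centralizer ((P₀ : Subgroup G) : Set G)) :
    2 * Nat.card {x : G // ¬ p ∣ (Subgroup.centralizer ({x} : Set G)).index} ≤ Nat.card G := by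
  set C := Subgroup.centralizer ((P₀ : Subgroup G) : Set G) with hC
  set N := Subgroup.normalizer ((P₀ : Subgroup G) : Set G) with hN
  have hle : C ≤ N := Subgroup.centralizer_le_normalizer _
  have hlt : C < N := lt_of_le_of_ne hle fun h => hne h.ge
  have h2 : 2 * Nat.card C ≤ Nat.card N := by
    rw [← Subgroup.card_mul_index (C.subgroupOf N),
      Nat.card_congr (Subgroup.subgroupOfEquivOfLe hle).toEquiv, mul_comm 2]
    refine Nat.mul_le_mul_left _ ?_
    show 2 ≤ C.relIndex N
    have h1 : C.relIndex N ≠ 1 := fun h => hlt.not_ge (Subgroup.relIndex_eq_one.1 h)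
    have h0 : C.relIndex N ≠ 0 := Subgroup.index_ne_zero_of_finite
    omega
  choose g hg using fun P : Sylow p G => MulAction.exists_smul_eq G P₀ P
  let f : Sylow p G × C → G := fun y => g y.1 * (y.2 : G) * (g y.1)⁻¹
  have hsub : {x : G | ¬ p ∣ (Subgroup.centralizer ({x} : Set G)).index} ⊆ Set.range f := by
    intro x hx
    obtain ⟨R⟩ : Nonempty (Sylow p (Subgroup.centralizer ({x} : Set G))) := inferInstance
    set R' : Subgroup G := (R : Subgroup _).map (Subgroup.centralizer ({x} : Set G)).subtype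
      with hR'
    have hR'p : IsPGroup p R' := R.isPGroup'.map _
    obtain ⟨P, hP⟩ := hR'p.exists_le_sylow
    have hidx : ¬ p ∣ R'.index := by
      rw [hR', Subgroup.index_map_subtype]
      intro hd
      rcases (Fact.out : p.Prime).dvd_mul.1 hd with h | h
      · exact Sylow.not_dvd_index R h
      · exact hx h
    have hPR : (P : Subgroup G) = R' := by
      refine (eq_of_le_of_ge hP ?_).symm
      rw [← Subgroup.relIndex_eq_one]
      have hd : R'.relIndex (P : Subgroup G) ∣ R'.index := Dvd.intro _ (Subgroup.relIndex_mul_index hP)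
      obtain ⟨k, hk⟩ := (IsPGroup.index (P.isPGroup') (R'.subgroupOf (P : Subgroup G)))
      rcases Nat.eq_zero_or_pos k with rfl | hk0
      · exact hk.trans (pow_zero _)
      · refine absurd (dvd_trans ?_ hd) hidx
        show p ∣ (R'.subgroupOf (P : Subgroup G)).index
        rw [hk]
        exact dvd_pow_self _ hk0.ne'
    refine ⟨(P, ⟨(g P)⁻¹ * x * g P, ?_⟩), by simp [f, mul_assoc]⟩
    rw [hC, Subgroup.mem_centralizer_iff]
    intro u hu
    have hu' : g P * u * (g P)⁻¹ ∈ (P : Subgroup G) := by
      have h := congrArg (fun Q : Sylow p G => (Q : Subgroup G)) (hg P)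
      rw [← h]
      exact ⟨u, hu, by simp⟩
    rw [hPR, hR', Subgroup.mem_map] at hu'
    obtain ⟨c, -, hc⟩ := hu'
    have hcx := Subgroup.mem_centralizer_singleton_iff.1 c.2
    rw [show (c : G) = g P * u * (g P)⁻¹ from hc] at hcx
    have hu2 : u = (g P)⁻¹ * (g P * u * (g P)⁻¹) * g P := by group
    calc u * ((g P)⁻¹ * x * g P) = (g P)⁻¹ * (g P * u * (g P)⁻¹ * x) * g P := by group
      _ = (g P)⁻¹ * (x * (g P * u * (g P)⁻¹)) * g P := by rw [hcx]
      _ = (g P)⁻¹ * x * g P * u := by group
  have hcard : Nat.card {x : G // ¬ p ∣ (Subgroup.centralizer ({x} : Set G)).index} ≤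
      Nat.card (Sylow p G) * Nat.card C := by
    rw [← Nat.card_prod]
    calc _ ≤ Nat.card (Set.range f) := Nat.card_mono (Set.toFinite _) hsub
      _ ≤ _ := Finite.card_range_le f
  calc _ ≤ 2 * (Nat.card (Sylow p G) * Nat.card C) := Nat.mul_le_mul_left 2 hcard
    _ = Nat.card (Sylow p G) * (2 * Nat.card C) := by ring
    _ ≤ Nat.card (Sylow p G) * Nat.card N := Nat.mul_le_mul_left _ h2
    _ = Nat.card G := by
      rw [P₀.card_eq_index_normalizer]; exact Subgroup.index_mul_card _

/-- If a Sylow `p`-subgroup is central in its normaliser there is a normal `p`-complement. -/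
lemma hasNormalPComplement_of_normalizer_le {G : Type*} [Group G] [Finite G] (p : ℕ)
    [Fact p.Prime] (P₀ : Sylow p G)
    (h : Subgroup.normalizer ((P₀ : Subgroup G) : Set G) ≤
      Subgroup.centralizer ((P₀ : Subgroup G) : Set G)) :
    Cfsg.HasNormalPComplement p G :=
  ⟨P₀, (MonoidHom.transferSylow P₀ h).ker, inferInstance,
    MonoidHom.ker_transferSylow_isComplement' P₀ h⟩


/-- Let G be a finite group that has a normal p-complement for at most one prime p dividing its order, and let σ be a natural number such that every conjugacy class size of G has at most σ distinct prime divisors. Then the number of primes dividing at least one conjugacy class size of G is at most 2σ. -/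
theorem result {G : Type*} [Group G] [Finite G] (σ : ℕ)
    (hσ : ∀ x : G, ((Subgroup.centralizer ({x} : Set G)).index).primeFactors.card ≤ σ)
    (hnil : ∀ p q : ℕ, p.Prime → q.Prime → p ∣ Nat.card G → q ∣ Nat.card G →
      Cfsg.HasNormalPComplement p G → Cfsg.HasNormalPComplement q G → p = q) :
    Nat.card {p : ℕ | p.Prime ∧ ∃ x : G, p ∣ (Subgroup.centralizer ({x} : Set G)).index} ≤ 2 * σ := by
  classical
  have : Fintype G := Fintype.ofFinite G
  set n : G → ℕ := fun x => (Subgroup.centralizer ({x} : Set G)).index with hn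
  set S : Finset ℕ := (Nat.card G).primeFactors.filter fun p => ∃ x : G, p ∣ n x with hS
  have hset : {p : ℕ | p.Prime ∧ ∃ x : G, p ∣ (Subgroup.centralizer ({x} : Set G)).index}
      = (S : Set ℕ) := by
    ext p
    simp only [hS, hn, Finset.coe_filter, Set.mem_ofPred_eq, Nat.mem_primeFactors, ne_eq,
      Nat.card_pos.ne', not_false_eq_true, and_true]
    exact ⟨fun ⟨hp, x, hx⟩ => ⟨⟨hp, hx.trans (Subgroup.index_dvd_card _)⟩, x, hx⟩,
      fun ⟨hp, hx⟩ => ⟨hp.1, hx⟩⟩
  rw [hset, Nat.card_coe_set_eq, Set.ncard_coe_finset]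
  have hmem : ∀ p ∈ S, p.Prime ∧ p ∣ Nat.card G ∧ ∃ x : G, p ∣ n x := by
    intro p hp
    simp only [hS, Finset.mem_filter, Nat.mem_primeFactors] at hp
    exact ⟨hp.1.1, hp.1.2.1, hp.2⟩
  rcases S.eq_empty_or_nonempty with hS0 | hS0
  · simp [hS0]
  let b : ℕ → ℕ := fun p => (Finset.univ.filter fun x : G => p ∣ n x).card
  have hb1 : ∀ p ∈ S, 1 ≤ b p := by
    intro p hp
    obtain ⟨x, hx⟩ := (hmem p hp).2.2
    exact Finset.card_pos.2 ⟨x, by simp [hx]⟩
  have hb2 : ∀ p ∈ S, ¬ Cfsg.HasNormalPComplement p G → Fintype.card G ≤ 2 * b p := by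
    intro p hp hnp
    haveI := Fact.mk (hmem p hp).1
    obtain ⟨P₀⟩ : Nonempty (Sylow p G) := inferInstance
    have h := two_mul_card_le p P₀ fun h => hnp (hasNormalPComplement_of_normalizer_le p P₀ h)
    rw [Nat.card_eq_fintype_card, Nat.card_eq_fintype_card, Fintype.card_subtype] at h
    have hsum := Finset.card_filter_add_card_filter_not (s := (Finset.univ : Finset G))
      (p := fun x => p ∣ n x)
    simp only [Finset.card_univ] at hsum
    show Fintype.card G ≤ 2 * (Finset.univ.filter fun x : G => p ∣ n x).card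
    simp only [hn] at hsum ⊢
    omega
  obtain ⟨p₀, hp₀, hrest⟩ : ∃ p₀ ∈ S, ∀ p ∈ S, p ≠ p₀ → ¬ Cfsg.HasNormalPComplement p G := by
    by_cases h : ∃ p ∈ S, Cfsg.HasNormalPComplement p G
    · obtain ⟨q, hq, hqn⟩ := h
      exact ⟨q, hq, fun p hp hne hpn => hne (hnil p q (hmem p hp).1 (hmem q hq).1
        (hmem p hp).2.1 (hmem q hq).2.1 hpn hqn)⟩
    · push Not at h
      obtain ⟨q, hq⟩ := hS0
      exact ⟨q, hq, fun p hp _ => h p hp⟩
  have hlow : (S.card - 1) * Fintype.card G + 2 ≤ 2 * ∑ p ∈ S, b p := by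
    rw [← Finset.add_sum_erase S b hp₀, mul_add, Finset.mul_sum]
    have h1 := hb1 p₀ hp₀
    have h2 : (S.card - 1) * Fintype.card G ≤ ∑ p ∈ S.erase p₀, 2 * b p := by
      rw [← Finset.card_erase_of_mem hp₀, ← smul_eq_mul]
      refine Finset.card_nsmul_le_sum _ _ _ fun p hp => ?_
      exact hb2 p (Finset.mem_of_mem_erase hp) (hrest p (Finset.mem_of_mem_erase hp)
        (Finset.ne_of_mem_erase hp))
    omega
  have hup : ∑ p ∈ S, b p ≤ Fintype.card G * σ := by
    simp only [b, Finset.card_filter]
    rw [Finset.sum_comm, ← Finset.card_univ, ← smul_eq_mul]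
    refine Finset.sum_le_card_nsmul _ _ _ fun x _ => ?_
    rw [← Finset.card_filter]
    refine le_trans (Finset.card_le_card fun p hp => ?_) (hσ x)
    simp only [Finset.mem_filter] at hp
    rw [Nat.mem_primeFactors]
    exact ⟨(hmem p hp.1).1, hp.2, Subgroup.index_ne_zero_of_finite⟩
  by_contra hcon
  have : 2 * σ ≤ S.card - 1 := by omega
  have := Nat.mul_le_mul_right (Fintype.card G) this
  nlinarith

end Cfsg.Agent.S4149
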