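import Cfsg.Statements.S4150
import Cfsg.Agent.Lib.PGroup.AltGen
import Cfsg.Agent.Lib.PGroup.TwoPrimes
import Cfsg.Agent.S0713

set_option autoImplicit false
open Cfsg

namespace Cfsg.Agent.S4150

open Equiv MulAction CfsgLib.PGroup.AltGen

theorem core {X : Type*} [Fintype X] [DecidableEq X] {G : Subgroup (Perm X)} [IsPretransitive G X]
    (hGA : G ≤ alternatingGroup X) {x y : Perm X} (hxG : x ∈ G) (hyG : y ∈ G) {p q : ℕ}
    (hp : p.Prime) (hq : q.Prime) (hyc : y.IsCycle) (hys : y.support.card = q) (hpq : p < q)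
    (hxo : orderOf x = p) (hd : Fintype.card X < 2 * q)
    (hxd : (x.IsCycle ∧ x.support.card = p ∧
        ((p = 3 ∧ q = 5) ∨ (p = 5 ∧ q = 7) ∨ (p = 11 ∧ q = 13) ∨ p + 4 ≤ q)) ∨
      (p = 3 ∧ q = 5 ∧ Fintype.card X = 6) ∨ q + 3 ≤ Fintype.card X) :
    ∃ d : ℕ, 5 ≤ d ∧ Nonempty (G ≃* alternatingGroup (Fin d)) := by
  classical
  have hG : IsPreprimitive G X :=
    isPreprimitive_of_long_cycle hyc hyG (hys ▸ hq) (hys ▸ hd)
  have hqd : q ≤ Fintype.card X := hys ▸ Finset.card_le_univ _
  have hq5 : 5 ≤ q := by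
    rcases Nat.lt_or_ge q 5 with h | h
    · exfalso
      have := hp.two_le
      rcases hxd with ⟨-, -, h1 | h1 | h1 | h1⟩ | h1 | h1
      any_goals omega
      interval_cases q
      all_goals first | omega | norm_num at hq
    · exact h
  have fin : alternatingGroup X ≤ G → ∃ d : ℕ, 5 ≤ d ∧ Nonempty (G ≃* alternatingGroup (Fin d)) := by
    intro h
    obtain ⟨e⟩ := alternatingGroup_mulEquiv (Y := X) (n := Fintype.card X) rfl
    exact ⟨Fintype.card X, by omega, ⟨(MulEquiv.subgroupCongr (le_antisymm hGA h)).trans e⟩⟩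
  rcases hxd with ⟨hxc, hxs, hc⟩ | ⟨hp3, hq5', hX⟩ | hq3
  · by_cases hp3 : p + 3 ≤ Fintype.card X
    · exact fin (Cfsg.Agent.S0713.result G hG hp (by omega) hp3 hxc hxs hxG)
    rcases hc with ⟨rfl, rfl⟩ | ⟨rfl, rfl⟩ | ⟨rfl, rfl⟩ | hc
    · exact fin (Perm.alternatingGroup_le_of_isPreprimitive_of_isThreeCycle_mem hG
        (card_support_eq_three_iff.1 hxs) hxG)
    · exact fin (deg_seven (by omega) hGA hG hxc hxG hxs).ge
    · exact fin (deg_thirteen (by omega) hGA hG hxc hxG hxs)
    · omega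
  · rcases deg_six hX hGA hG hyc hyG (hys.trans hq5') hxG (hxo.trans hp3) with h | h
    · exact fin h.ge
    · exact ⟨5, le_rfl, h⟩
  · exact fin (Cfsg.Agent.S0713.result G hG hq (by omega) hq3 hyc hys hyG)

theorem generate {m : ℕ} (p q : ℕ) (hp : p.Prime) (hq : q.Prime) (hmp : m ≤ 2 * p) (hpq : p < q)
    (hqm : q ≤ m)
    (hc : (p = 3 ∧ q = 5) ∨ (p = 5 ∧ q = 7) ∨ (p = 11 ∧ q = 13) ∨
      (p + 4 ≤ q ∧ (q + 3 ≤ m ∨ m < 2 * p)))
    (x y : alternatingGroup (Fin m)) (hx : orderOf x = p) (hy : orderOf y = q) :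
    ∃ d : ℕ, 5 ≤ d ∧ Nonempty (Subgroup.closure ({x, y} : Set (alternatingGroup (Fin m))) ≃*
      alternatingGroup (Fin d)) := by
  classical
  have := Fact.mk hp
  have := Fact.mk hq
  set a : Perm (Fin m) := (x : Perm (Fin m)) with ha
  set b : Perm (Fin m) := (y : Perm (Fin m)) with hb
  have hao : orderOf a = p := by rw [ha, Subgroup.orderOf_coe, hx]
  have hbo : orderOf b = q := by rw [hb, Subgroup.orderOf_coe, hy]
  have hact := Perm.cycleType_of_pow_prime_eq_one (hao ▸ pow_orderOf_eq_one a : a ^ p = 1)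
  have hbct := Perm.cycleType_of_pow_prime_eq_one (hbo ▸ pow_orderOf_eq_one b : b ^ q = 1)
  have has : a.support.card = p * a.cycleType.card := by
    rw [← Perm.sum_cycleType, hact, Multiset.sum_replicate, smul_eq_mul, mul_comm, ← hact]
  have hbs : b.support.card = q * b.cycleType.card := by
    rw [← Perm.sum_cycleType, hbct, Multiset.sum_replicate, smul_eq_mul, mul_comm, ← hbct]
  have hb1 : b.cycleType.card = 1 := by
    have h1 : b.cycleType.card ≠ 0 := by
      intro h
      rw [Multiset.card_eq_zero, Perm.cycleType_eq_zero] at h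
      rw [h, orderOf_one] at hbo
      exact hq.one_lt.ne hbo
    have h2 : b.support.card ≤ m := by simpa using Finset.card_le_univ b.support
    by_contra h
    have := Nat.mul_le_mul_left q (show 2 ≤ b.cycleType.card by omega)
    omega
  have hbc : b.IsCycle := Perm.card_cycleType_eq_one.1 hb1
  rw [hb1, mul_one] at hbs
  have ha1 : a.cycleType.card ≠ 0 := by
    intro h
    rw [Multiset.card_eq_zero, Perm.cycleType_eq_zero] at h
    rw [h, orderOf_one] at hao
    exact hp.one_lt.ne hao
  let U : Finset (Fin m) := a.support ∪ b.support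
  have hP : ∀ z : Perm (Fin m), z.support ⊆ U → ∀ w, z w ∈ U ↔ w ∈ U := by
    intro z hz w
    by_cases h : z w = w
    · rw [h]
    · have h1 : w ∈ U := hz (Perm.mem_support.2 h)
      have h2 : z w ∈ U := hz (Perm.mem_support.2 fun e => h (z.injective e))
      simp only [h1, h2]
  let a' : Perm U := a.subtypePerm (hP a Finset.subset_union_left)
  let b' : Perm U := b.subtypePerm (hP b Finset.subset_union_right)
  have ea : Perm.ofSubtype a' = a := Perm.ofSubtype_subtypePerm _ fun w h =>
    Finset.mem_union_left _ (Perm.mem_support.2 h)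
  have eb : Perm.ofSubtype b' = b := Perm.ofSubtype_subtypePerm _ fun w h =>
    Finset.mem_union_right _ (Perm.mem_support.2 h)
  set G : Subgroup (Perm U) := Subgroup.closure {a', b'} with hGdef
  have haG : a' ∈ G := Subgroup.subset_closure (Set.mem_insert _ _)
  have hbG : b' ∈ G := Subgroup.subset_closure (Set.mem_insert_of_mem _ rfl)
  have hGA : G ≤ alternatingGroup U := by
    rw [hGdef, Subgroup.closure_le]
    intro z hz
    simp only [SetLike.mem_coe, Perm.mem_alternatingGroup]
    rw [← Perm.sign_ofSubtype]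
    rcases hz with rfl | rfl
    · rw [ea]; exact Perm.mem_alternatingGroup.1 x.2
    · rw [eb]; exact Perm.mem_alternatingGroup.1 y.2
  have hct1 : a'.cycleType = a.cycleType := by rw [← ea, Perm.cycleType_ofSubtype]
  have hct2 : b'.cycleType = b.cycleType := by rw [← eb, Perm.cycleType_ofSubtype]
  have hU : Fintype.card U = U.card := Fintype.card_coe U
  have hUm : U.card ≤ m := by simpa using Finset.card_le_univ U
  have htr : IsPretransitive G U := by
    obtain ⟨w, hw⟩ := Finset.card_pos.1 (show 0 < b.support.card by have := hq.pos; omega)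
    let w' : U := ⟨w, Finset.mem_union_right _ hw⟩
    have key : ∀ (n : ℕ) (u : U), (((a' ^ n) u : U) : Fin m) = (a ^ n) u := by
      intro n u
      rw [Perm.subtypePerm_pow, Perm.subtypePerm_apply]
    have key2 : ∀ (n : ℕ) (u : U), (((b' ^ n) u : U) : Fin m) = (b ^ n) u := by
      intro n u
      rw [Perm.subtypePerm_pow, Perm.subtypePerm_apply]
    have hin : ∀ u : U, (u : Fin m) ∈ b.support → ∃ g : G, g • w' = u := fun u hu => by
      obtain ⟨n, hn⟩ := hbc.exists_pow_eq (Perm.mem_support.1 hw) (Perm.mem_support.1 hu)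
      refine ⟨⟨b' ^ n, pow_mem hbG n⟩, Subtype.ext ?_⟩
      show (((b' ^ n) w' : U) : Fin m) = _
      rw [key2]; exact hn
    have hbase : ∀ u : U, ∃ g : G, g • w' = u := by
      intro u
      by_cases hu : (u : Fin m) ∈ b.support
      · exact hin u hu
      have hua : (u : Fin m) ∈ a.support := (Finset.mem_union.1 u.2).resolve_right hu
      have hcyc := Perm.isCycle_cycleOf a (Perm.mem_support.1 hua)
      have hcs : (a.cycleOf u).support.card = p := by
        have hm : (a.cycleOf u).support.card ∈ a.cycleType := by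
          rw [Perm.cycleType_def, Multiset.mem_map]
          exact ⟨_, Perm.cycleOf_mem_cycleFactorsFinset_iff.2 hua, rfl⟩
        rw [hact] at hm
        exact Multiset.eq_of_mem_replicate hm
      obtain ⟨v, hv⟩ : ((a.cycleOf u).support ∩ b.support).Nonempty := by
        rw [← Finset.card_pos]
        have h1 := Finset.card_union_add_card_inter (a.cycleOf u).support b.support
        have h2 : ((a.cycleOf u).support ∪ b.support).card ≤ m := by
          simpa using Finset.card_le_univ ((a.cycleOf u).support ∪ b.support)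
        omega
      rw [Finset.mem_inter] at hv
      have hsc : a.SameCycle v u := ((Perm.mem_support_cycleOf_iff.1 hv.1).1).symm
      obtain ⟨n, hn⟩ := hsc.exists_nat_pow_eq
      obtain ⟨g, hg⟩ := hin ⟨v, Finset.mem_union_right _ hv.2⟩ hv.2
      refine ⟨⟨a' ^ n, pow_mem haG n⟩ * g, ?_⟩
      rw [mul_smul, hg]
      exact Subtype.ext ((key n _).trans hn)
    refine ⟨fun u v => ?_⟩
    obtain ⟨g, hg⟩ := hbase u
    obtain ⟨k, hk⟩ := hbase v
    exact ⟨k * g⁻¹, by rw [mul_smul, ← hg, inv_smul_smul, hk]⟩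
  have hqU : q ≤ U.card := hbs ▸ Finset.card_le_card Finset.subset_union_right
  have hxd : (a'.IsCycle ∧ a'.support.card = p ∧
      ((p = 3 ∧ q = 5) ∨ (p = 5 ∧ q = 7) ∨ (p = 11 ∧ q = 13) ∨ p + 4 ≤ q)) ∨
      (p = 3 ∧ q = 5 ∧ Fintype.card U = 6) ∨ q + 3 ≤ Fintype.card U := by
    by_cases h : a.cycleType.card = 1
    · refine Or.inl ⟨Perm.card_cycleType_eq_one.1 (by rw [hct1, h]), ?_,
        hc.imp_right (Or.imp_right (Or.imp_right And.left))⟩
      rw [← Perm.sum_cycleType, hct1, Perm.sum_cycleType, has, h, mul_one]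
    · have h2 := Nat.mul_le_mul_left p (show 2 ≤ a.cycleType.card by omega)
      have h3 : a.support.card ≤ U.card := Finset.card_le_card Finset.subset_union_left
      rcases hc with ⟨rfl, rfl⟩ | ⟨rfl, rfl⟩ | ⟨rfl, rfl⟩ | ⟨-, hc | hc⟩
      · exact Or.inr (Or.inl ⟨rfl, rfl, by omega⟩)
      all_goals exact Or.inr (Or.inr (by omega))
  obtain ⟨d, hd, ⟨e⟩⟩ := core hGA haG hbG hp hq (Perm.card_cycleType_eq_one.1 (by rw [hct2, hb1]))
    (by rw [← Perm.sum_cycleType, hct2, Perm.sum_cycleType, hbs]) hpq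
    (by rw [← hao, ← ea, orderOf_injective _ Perm.ofSubtype_injective]) (by omega) hxd
  refine ⟨d, hd, ⟨((Subgroup.equivMapOfInjective _ (alternatingGroup (Fin m)).subtype
    (alternatingGroup (Fin m)).subtype_injective).trans ((MulEquiv.subgroupCongr ?_).trans
    (Subgroup.equivMapOfInjective G _ Perm.ofSubtype_injective).symm)).trans e⟩⟩
  rw [hGdef, MonoidHom.map_closure, MonoidHom.map_closure, Set.image_pair, Set.image_pair, ea, eb]
  rfl

/-- Let m ≥ 5. Then there are primes p < q with m/2 ≤ p and q ≤ m such that any two elements x, y of the alternating group of degree m with x of order p and y of order q generate a subgroup isomorphic to an alternating group of some degree d ≥ 5. -/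
theorem result (m : ℕ) (hm : 5 ≤ m) :
    ∃ p q : ℕ, p.Prime ∧ q.Prime ∧ m ≤ 2 * p ∧ p < q ∧ q ≤ m ∧
      ∀ x y : alternatingGroup (Fin m), orderOf x = p → orderOf y = q →
        ∃ d : ℕ, 5 ≤ d ∧ Nonempty (Subgroup.closure ({x, y} : Set (alternatingGroup (Fin m))) ≃* alternatingGroup (Fin d)) := by
  classical
  by_cases h : m ≤ 10 ∨ m = 15 ∨ m = 16
  · by_cases h6 : m ≤ 6
    · exact ⟨3, 5, by norm_num, by norm_num, by omega, by norm_num, by omega,
        generate 3 5 (by norm_num) (by norm_num) (by omega) (by norm_num) (by omega)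
          (Or.inl ⟨rfl, rfl⟩)⟩
    by_cases h10 : m ≤ 10
    · exact ⟨5, 7, by norm_num, by norm_num, by omega, by norm_num, by omega,
        generate 5 7 (by norm_num) (by norm_num) (by omega) (by norm_num) (by omega)
          (Or.inr (Or.inl ⟨rfl, rfl⟩))⟩
    exact ⟨11, 13, by norm_num, by norm_num, by omega, by norm_num, by omega,
      generate 11 13 (by norm_num) (by norm_num) (by omega) (by norm_num) (by omega)
        (Or.inr (Or.inr (Or.inl ⟨rfl, rfl⟩)))⟩
  · push Not at h
    obtain ⟨p, q, hp, hq, h1, h2, h3, h4⟩ :=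
      CfsgLib.PGroup.TwoPrimes.exists_good m (by omega) h.2.1 h.2.2
    exact ⟨p, q, hp, hq, h1, by omega, h3,
      generate p q hp hq h1 (by omega) h3 (Or.inr (Or.inr (Or.inr ⟨h2, h4⟩)))⟩

end Cfsg.Agent.S4150
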