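import Cfsg.Statements.S4151
import Cfsg.Agent.Lib.PGroup.TISeparable
import Cfsg.Agent.Lib.PGroup.CoprimeZGroup

set_option autoImplicit false
open Cfsg
open scoped commutatorElement

namespace Cfsg.Agent.S4151

/-- Let G be a finite group and H a non-normal subgroup meeting each of its conjugates by elements outside N_G(H) trivially, with the order of H coprime to its index in N_G(H), such that G is π-separable for π the set of primes dividing the order of H (G has a chain of normal subgroups from 1 to G each of whose factors has order divisible only by primes dividing the order of H or coprime to it). Suppose a Sylow 2-subgroup of H is abelian and Q is a complement of H in N_G(H). Then C_H(Q), the subgroup of elements of H commuting with Q, has order coprime to its index in G and has a normal complement in G. -/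
theorem result {G : Type*} [Group G] [Finite G] (H : Subgroup G)
    (hTI : Cfsg.IsTISubset (H : Set G)) (hnn : ¬ H.Normal)
    (hHall : (Nat.card H).Coprime (H.subgroupOf (Subgroup.normalizer (H : Set G))).index)
    (hsep : ∃ (n : ℕ) (M : Fin (n + 1) → Subgroup G), M 0 = ⊥ ∧ M (Fin.last n) = ⊤ ∧ Monotone M ∧ (∀ i, (M i).Normal) ∧
      ∀ i : Fin n, (∀ q : ℕ, q.Prime → q ∣ (M i.castSucc).relIndex (M i.succ) → q ∣ Nat.card H) ∨
        ((M i.castSucc).relIndex (M i.succ)).Coprime (Nat.card H))
    (h2 : ∀ P : Sylow 2 H, IsMulCommutative (P : Subgroup H))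
    (Q : Subgroup G) (hQ : Q ≤ Subgroup.normalizer (H : Set G)) (hQH : Q ⊓ H = ⊥) (hQH' : Q ⊔ H = Subgroup.normalizer (H : Set G)) :
    (Nat.card ↥(H ⊓ Subgroup.centralizer (Q : Set G))).Coprime (H ⊓ Subgroup.centralizer (Q : Set G)).index ∧
    ∃ N : Subgroup G, N.Normal ∧ N.IsComplement' (H ⊓ Subgroup.centralizer (Q : Set G)) := by
  classical
  set Nn := Subgroup.normalizer (H : Set G) with hNn
  have hHle : H ≤ Nn := Subgroup.le_normalizer
  have hHall' := CfsgLib.PGroup.TIHall.coprime_index hTI hHall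
  obtain ⟨hOn, hOc, hgr⟩ := CfsgLib.PGroup.TISeparable.greatest_coprime (G := G) (Nat.card H)
  set O := sSup {K : Subgroup G | K.Normal ∧ (Nat.card K).Coprime (Nat.card H)}
  obtain ⟨htop, -⟩ := CfsgLib.PGroup.TISeparable.eq_top_and_normal hTI hnn hHall' hOc hgr hsep
  have hON : ¬ O ≤ Nn := fun h => hnn (Subgroup.normalizer_eq_top_iff.1 (top_le_iff.1 (htop ▸ sup_le h le_rfl)))
  have hZ : IsZGroup H := CfsgLib.PGroup.TISeparable.isZGroup hTI hOc hON h2
  have hQcard : Nat.card Q = (H.subgroupOf Nn).index := by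
    have e1 : Nat.card (H ⊔ Q : Subgroup G) = Nat.card H * Nat.card Q :=
      CfsgLib.Coprime.card_sup_of_le_normalizer hQ (by rw [disjoint_iff, inf_comm, hQH])
    rw [sup_comm, hQH', ← (H.subgroupOf Nn).index_mul_card,
      Nat.card_congr (Subgroup.subgroupOfEquivOfLe hHle).toEquiv, mul_comm] at e1
    exact (Nat.eq_of_mul_eq_mul_left Nat.card_pos e1).symm
  have hcop : (Nat.card Q).Coprime (Nat.card H) := hQcard ▸ hHall.symm
  set C := H ⊓ Subgroup.centralizer (Q : Set G) with hC
  set D := ⁅H, Q⁆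
  have hsolv : Group.IsSolvable H := inferInstance
  have hDC : (Nat.card D).Coprime (Nat.card C) :=
    CfsgLib.PGroup.CoprimeZGroup.coprime_commutator_centralizer hQ hcop
  have hDsupC : D ⊔ C = H := CfsgLib.Coprime.commutator_sup_centralizer hQ hcop (Or.inr hsolv)
  have hDH : D ≤ H := hDsupC ▸ le_sup_left
  have hCH : C ≤ H := inf_le_left
  have hHD : H ≤ Subgroup.normalizer (D : Set G) := Subgroup.normalizer_commutator_ge_left H Q
  have hQD : Q ≤ Subgroup.normalizer (D : Set G) := Subgroup.normalizer_commutator_ge_right H Q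
  have hCindex : (Nat.card C).Coprime C.index := by
    rw [← Subgroup.relIndex_mul_index hCH]
    refine Nat.Coprime.mul_right ?_ (hHall'.coprime_dvd_left (Subgroup.card_dvd_of_le hCH))
    refine hDC.symm.coprime_dvd_right ?_
    have h1 : Nat.card C * C.relIndex H = Nat.card H := CfsgLib.Coprime.card_mul_relIndex_eq hCH
    have h2 : Nat.card (D ⊔ C : Subgroup G) = Nat.card D * Nat.card C :=
      CfsgLib.Coprime.card_sup_of_le_normalizer (hCH.trans hHD) (Subgroup.disjoint_of_coprime_natCard hDC)
    rw [hDsupC, ← h1, mul_comm (Nat.card D)] at h2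
    exact dvd_of_eq (Nat.eq_of_mul_eq_mul_left Nat.card_pos h2)
  set M := (D ⊔ Q) ⊔ O with hM
  have hMn : M.Normal := by
    rw [← Subgroup.normalizer_eq_top_iff, eq_top_iff, ← htop]
    show O ⊔ Nn ≤ _
    rw [← hQH', sup_comm Q H, ← hDsupC]
    refine sup_le ((le_sup_right : O ≤ M).trans Subgroup.le_normalizer) (sup_le (sup_le ?_ ?_) ?_)
    · exact ((le_sup_left : D ≤ D ⊔ Q).trans le_sup_left).trans Subgroup.le_normalizer
    · intro c hc
      have hcQ : c ∈ Subgroup.normalizer (Q : Set G) := by
        refine Subgroup.centralizer_le_normalizer _ ?_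
        exact hc.2
      have hcO : c ∈ Subgroup.normalizer (O : Set G) := by
        rw [Subgroup.normalizer_eq_top]; exact Subgroup.mem_top c
      rw [Subgroup.mem_normalizer_iff_map_conj_eq, Subgroup.map_sup, Subgroup.map_sup,
        Subgroup.mem_normalizer_iff_map_conj_eq.1 hcO, Subgroup.mem_normalizer_iff_map_conj_eq.1 hcQ,
        Subgroup.mem_normalizer_iff_map_conj_eq.1 (hHD hc.1)]
    · exact ((le_sup_right : Q ≤ D ⊔ Q).trans le_sup_left).trans Subgroup.le_normalizer
  have hMc : (Nat.card M).Coprime (Nat.card C) := by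
    refine Nat.Coprime.coprime_dvd_left (CfsgLib.PGroup.TISeparable.card_sup_dvd (D ⊔ Q) O) ?_
    refine (hOc.coprime_dvd_right (Subgroup.card_dvd_of_le hCH)).mul_left ?_
    rw [sup_comm D Q]
    refine Nat.Coprime.coprime_dvd_left ?_
      (hDC.mul_left (hcop.coprime_dvd_right (Subgroup.card_dvd_of_le hCH)))
    rw [← CfsgLib.Coprime.card_mul_relIndex_eq (le_sup_right : D ≤ Q ⊔ D)]
    refine Nat.mul_dvd_mul_left _ ?_
    have h3 : Nat.card (D ⊔ Q : Subgroup G) = Nat.card D * Nat.card Q :=
      CfsgLib.Coprime.card_sup_of_le_normalizer hQD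
        (Subgroup.disjoint_of_coprime_natCard (hcop.coprime_dvd_right (Subgroup.card_dvd_of_le hDH)).symm)
    rw [sup_comm D Q, ← CfsgLib.Coprime.card_mul_relIndex_eq (le_sup_right : D ≤ Q ⊔ D)] at h3
    exact dvd_of_eq (Nat.eq_of_mul_eq_mul_left Nat.card_pos h3)
  refine ⟨hCindex, M, hMn, Subgroup.isComplement'_of_disjoint_and_mul_eq_univ
    (Subgroup.disjoint_of_coprime_natCard hMc) ?_⟩
  rw [← Subgroup.normal_mul, eq_comm, ← Subgroup.coe_top, SetLike.coe_set_eq, eq_comm, eq_top_iff,
    ← htop]
  show O ⊔ Nn ≤ _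
  rw [← hQH', sup_comm Q H, ← hDsupC]
  refine sup_le ((le_sup_right : O ≤ M).trans le_sup_left) (sup_le (sup_le ?_ le_sup_right) ?_)
  · exact ((le_sup_left : D ≤ D ⊔ Q).trans le_sup_left).trans le_sup_left
  · exact ((le_sup_right : Q ≤ D ⊔ Q).trans le_sup_left).trans le_sup_left

end Cfsg.Agent.S4151
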