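import Cfsg.Statements.S4153
import Cfsg.Agent.Lib.PGroup.Basic

set_option autoImplicit false
open Cfsg

namespace Cfsg.Agent.S4153

/-- Let G be a finite group, p a prime, N a normal subgroup, P a Sylow p-subgroup of G and P̄ a Sylow p-subgroup of G/N. Count the elements of p-power order, the identity included. Then (number of such elements of G/N)/#P̄ ≤ (number of such elements of G)/#P, stated as a cross-multiplied inequality, with equality when N is central. -/
theorem result {G : Type*} [Group G] [Finite G] (p : ℕ) [Fact p.Prime] (N : Subgroup G) [N.Normal]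
    (P : Sylow p G) (Pbar : Sylow p (G ⧸ N)) :
    Nat.card {g : (G ⧸ N) // ∃ k : ℕ, orderOf g = p ^ k} * Nat.card (P : Subgroup G) ≤ Nat.card {g : G // ∃ k : ℕ, orderOf g = p ^ k} * Nat.card (Pbar : Subgroup (G ⧸ N)) ∧
    (N ≤ Subgroup.center G → Nat.card {g : (G ⧸ N) // ∃ k : ℕ, orderOf g = p ^ k} * Nat.card (P : Subgroup G) = Nat.card {g : G // ∃ k : ℕ, orderOf g = p ^ k} * Nat.card (Pbar : Subgroup (G ⧸ N))) := by
  classical
  have hp : p.Prime := Fact.out
  let q := QuotientGroup.mk' N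
  have hqs : Function.Surjective q := QuotientGroup.mk'_surjective N
  -- every Sylow subgroup of the quotient is an image, and meets the kernel in |P| / |Pbar|
  have hker : ∀ Q : Sylow p G,
      Nat.card (N.subgroupOf (Q : Subgroup G)) * Nat.card (Pbar : Subgroup (G ⧸ N)) =
        Nat.card (P : Subgroup G) := by
    intro Q
    have h1 : Nat.card (Pbar : Subgroup (G ⧸ N)) = Nat.card (q.comp (Q : Subgroup G).subtype).range := by
      rw [(Pbar).card_eq_multiplicity, ← (Q.mapSurjective hqs).card_eq_multiplicity]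
      rw [MonoidHom.range_comp, Subgroup.range_subtype]
      rfl
    have h2 : N.subgroupOf (Q : Subgroup G) = (q.comp (Q : Subgroup G).subtype).ker := by
      rw [← MonoidHom.comap_ker, QuotientGroup.ker_mk']
      rfl
    rw [h1, h2, ← Subgroup.index_ker, Subgroup.card_mul_index, P.card_eq_multiplicity,
      Q.card_eq_multiplicity]
  have hlift : ∀ c : {g : G ⧸ N // ∃ k : ℕ, orderOf g = p ^ k},
      ∃ (Q : Sylow p G) (x : G), x ∈ (Q : Subgroup G) ∧ q x = c.1 := by
    rintro ⟨c, hc⟩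
    obtain ⟨Qb, hQb⟩ := CfsgLib.PGroup.Basic.mem_sylow_of_orderOf hc
    obtain ⟨Q, rfl⟩ := Sylow.mapSurjective_surjective hqs p Qb
    obtain ⟨x, hx, hxc⟩ := Subgroup.mem_map.1 (show c ∈ (Q : Subgroup G).map q from hQb)
    exact ⟨Q, x, hx, hxc⟩
  choose Q x hxQ hxc using hlift
  let Ψ : (Σ c : {g : G ⧸ N // ∃ k : ℕ, orderOf g = p ^ k}, N.subgroupOf (Q c : Subgroup G)) →
      {g : G // ∃ k : ℕ, orderOf g = p ^ k} := fun z =>
    ⟨x z.1 * ((z.2 : (Q z.1 : Subgroup G)) : G),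
      CfsgLib.PGroup.Basic.exists_orderOf_eq_pow_of_mem (Q z.1).isPGroup'
        ((Q z.1 : Subgroup G).mul_mem (hxQ z.1) z.2.1.2)⟩
  have hΨq : ∀ z, q (Ψ z).1 = z.1.1 := by
    rintro ⟨c, ⟨⟨n, hn⟩, hnN⟩⟩
    show q (x c * n) = c.1
    rw [map_mul, hxc, show q n = 1 from (QuotientGroup.eq_one_iff n).2 hnN, mul_one]
  have hinj : Function.Injective Ψ := by
    rintro ⟨c, z⟩ ⟨c', z'⟩ h
    obtain rfl : c = c' := Subtype.ext (by rw [← hΨq ⟨c, z⟩, ← hΨq ⟨c', z'⟩, h])
    have := mul_left_cancel (congrArg Subtype.val h)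
    obtain rfl : z = z' := Subtype.ext (Subtype.ext this)
    rfl
  have hsum : Nat.card (Σ c : {g : G ⧸ N // ∃ k : ℕ, orderOf g = p ^ k}, N.subgroupOf (Q c : Subgroup G)) *
      Nat.card (Pbar : Subgroup (G ⧸ N)) =
      Nat.card {g : G ⧸ N // ∃ k : ℕ, orderOf g = p ^ k} * Nat.card (P : Subgroup G) := by
    have := Fintype.ofFinite {g : G ⧸ N // ∃ k : ℕ, orderOf g = p ^ k}
    rw [Nat.card_sigma, Finset.sum_mul, Finset.sum_congr rfl (fun c _ => hker (Q c)),
      Finset.sum_const, Finset.card_univ, smul_eq_mul, Nat.card_eq_fintype_card (α := {g : G ⧸ N // _})]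
  rw [← hsum]
  refine ⟨Nat.mul_le_mul_right _ (Nat.card_le_card_of_injective Ψ hinj), fun hN => ?_⟩
  congr 1
  refine Nat.card_congr (Equiv.ofBijective Ψ ⟨hinj, ?_⟩)
  rintro ⟨g, k, hk⟩
  have hgc : ∃ k : ℕ, orderOf (q g) = p ^ k := by
    obtain ⟨j, -, hj⟩ := (Nat.dvd_prime_pow hp).1 ((orderOf_map_dvd q g).trans hk.dvd)
    exact ⟨j, hj⟩
  let c : {g : G ⧸ N // ∃ k : ℕ, orderOf g = p ^ k} := ⟨q g, hgc⟩
  set n := (x c)⁻¹ * g with hn
  have hnN : n ∈ N := by
    rw [← QuotientGroup.eq_one_iff]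
    show q n = 1
    rw [hn, map_mul, map_inv, hxc, inv_mul_cancel]
  have hnQ : n ∈ (Q c : Subgroup G) := by
    obtain ⟨j, hj⟩ := CfsgLib.PGroup.Basic.exists_orderOf_eq_pow_of_mem (Q c).isPGroup' (hxQ c)
    have hcomm : Commute (x c) n := (Subgroup.mem_center_iff.1 (hN hnN) (x c))
    have hnp : n ^ p ^ (j + k) = 1 := by
      have hxn : (x c * n) ^ p ^ (j + k) = 1 := by
        rw [hn, mul_inv_cancel_left, ← orderOf_dvd_iff_pow_eq_one, hk]
        exact pow_dvd_pow p (by omega)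
      rw [hcomm.mul_pow, show x c ^ p ^ (j + k) = 1 by
        rw [← orderOf_dvd_iff_pow_eq_one, hj]; exact pow_dvd_pow p (by omega), one_mul] at hxn
      exact hxn
    have hnorm : (Subgroup.zpowers n).Normal := ⟨fun m hm h => by
      obtain ⟨i, rfl⟩ := hm
      rw [show h * (n ^ i) = n ^ i * h from Subgroup.mem_center_iff.1 (Subgroup.zpow_mem _ (hN hnN) i) h,
        mul_inv_cancel_right]
      exact Subgroup.zpow_mem_zpowers n i⟩
    have hsupp : IsPGroup p ((Q c : Subgroup G) ⊔ Subgroup.zpowers n : Subgroup G) :=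
      (Q c).isPGroup'.to_sup_of_normal_right
        (CfsgLib.PGroup.Basic.isPGroup_zpowers (orderOf_dvd_of_pow_eq_one hnp))
    rw [← (Q c).is_maximal' hsupp le_sup_left]
    exact Subgroup.mem_sup_right (Subgroup.mem_zpowers n)
  exact ⟨⟨c, ⟨⟨n, hnQ⟩, hnN⟩⟩, Subtype.ext (mul_inv_cancel_left _ _)⟩

end Cfsg.Agent.S4153
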