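import Cfsg.Statements.S4154
import Mathlib

set_option autoImplicit false
open Cfsg

namespace Cfsg.Agent.S4154

/-- Let G be a finite group and α an automorphism of G such that every element of G is the product of an element fixed by α and an element of the form g⁻¹α(g). If N is a normal α-invariant subgroup, then the automorphism ᾱ induced on G/N has the same property, and every coset fixed by ᾱ contains an element fixed by α (so the fixed points of ᾱ are the images of the fixed points of α). -/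
theorem result {G : Type*} [Group G] [Finite G] (α : MulAut G)
    (hccp : ∀ x : G, ∃ c g : G, α c = c ∧ x = c * (g⁻¹ * α g))
    (N : Subgroup G) [N.Normal] (hN : ∀ n ∈ N, α n ∈ N) :
    (∀ x : G, ∃ c g : G, c⁻¹ * α c ∈ N ∧ x⁻¹ * (c * (g⁻¹ * α g)) ∈ N) ∧
    (∀ x : G, x⁻¹ * α x ∈ N → ∃ c : G, α c = c ∧ c⁻¹ * x ∈ N) := by
  refine ⟨fun x => ?_, fun x hx => ?_⟩
  · obtain ⟨c, g, hc, rfl⟩ := hccp x
    exact ⟨c, g, by simp [hc], by simp⟩
  · let ā : G ⧸ N →* G ⧸ N := QuotientGroup.map N N α.toMonoidHom (fun n hn => hN n hn)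
    have hā : ∀ g : G, ā g = ((α g : G) : G ⧸ N) := fun g => rfl
    let F : Subgroup (G ⧸ N) := MonoidHom.eqLocus ā (MonoidHom.id _)
    let C : Set (G ⧸ N) := {q | ∃ c : G, α c = c ∧ (c : G ⧸ N) = q}
    have hCF : C ⊆ F := by
      rintro _ ⟨c, hc, rfl⟩
      show ā c = c
      rw [hā, hc]
    have hconst : ∀ q q' : G ⧸ N, q⁻¹ * q' ∈ F → q * ā q⁻¹ = q' * ā q'⁻¹ := by
      intro q q' h
      have h' : ā (q⁻¹ * q') = q⁻¹ * q' := h
      rw [map_mul] at h'
      calc q * ā q⁻¹ = q * (q⁻¹ * q') * (ā q⁻¹ * ā q')⁻¹ * ā q⁻¹ := by rw [h']; group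
        _ = q' * (ā q')⁻¹ := by group
        _ = q' * ā q'⁻¹ := by rw [map_inv]
    let ψ : C × ((G ⧸ N) ⧸ F) → G ⧸ N := fun z => z.1.1 * (z.2.out * ā z.2.out⁻¹)
    have hψ : Function.Surjective ψ := by
      intro q
      obtain ⟨y, rfl⟩ := QuotientGroup.mk'_surjective N q
      obtain ⟨c, g, hc, rfl⟩ := hccp y
      refine ⟨⟨⟨c, c, hc, rfl⟩, QuotientGroup.mk (g : G ⧸ N)⁻¹⟩, ?_⟩
      have h := hconst (QuotientGroup.mk (g : G ⧸ N)⁻¹ : (G ⧸ N) ⧸ F).out (g : G ⧸ N)⁻¹
        (QuotientGroup.eq.1 (QuotientGroup.out_eq' _))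
      simp only [ψ, h, inv_inv, hā]
      rfl
    have hle := Nat.card_le_card_of_surjective ψ hψ
    rw [Nat.card_prod, show Nat.card ((G ⧸ N) ⧸ F) = F.index from rfl, ← F.card_mul_index] at hle
    have hle' : Nat.card F ≤ Nat.card C :=
      Nat.le_of_mul_le_mul_right hle (Nat.pos_of_ne_zero F.index_ne_zero_of_finite)
    have hxF : (x : G ⧸ N) ∈ F := by
      show ā x = x
      rw [hā, eq_comm, QuotientGroup.eq]
      exact hx
    have heq : C = (F : Set (G ⧸ N)) := Set.eq_of_subset_of_ncard_le hCF (by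
      rwa [← Nat.card_coe_set_eq, ← Nat.card_coe_set_eq]) (Set.toFinite _)
    obtain ⟨c, hc, hcx⟩ : (x : G ⧸ N) ∈ C := by rw [heq]; exact hxF
    exact ⟨c, hc, QuotientGroup.eq.1 hcx⟩

end Cfsg.Agent.S4154
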