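import Cfsg.Statements.S4156
import Mathlib

set_option autoImplicit false
open Cfsg

namespace Cfsg.Agent.S4156

/-- Let n ≥ 5 and F a finite field. Then the projective special linear group PSL_n(F) contains a subgroup isomorphic to the alternating group of degree n + 1. -/
theorem result (n : ℕ) (hn : 5 ≤ n) (F : Type*) [Field F] [Finite F] :
    ∃ f : alternatingGroup (Fin (n + 1)) →* Matrix.ProjectiveSpecialLinearGroup (Fin n) F, Function.Injective f := by
  obtain ⟨m, rfl⟩ : ∃ m, n = m + 3 := ⟨n - 3, by omega⟩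
  let L : Fin (m + 3 + 1) := Fin.last (m + 3)
  let f : Equiv.Perm (Fin (m + 3 + 1)) → Matrix (Fin (m + 3)) (Fin (m + 3)) F := fun σ =>
    Matrix.of fun i j => (if σ j.castSucc = i.castSucc then 1 else 0) - (if σ L = i.castSucc then 1 else 0)
  -- `f σ` is the matrix of `σ` on the sum-zero vectors in the basis `e_j - e_last`
  have hsum : ∀ (σ : Equiv.Perm (Fin (m + 3 + 1))) (a : Fin (m + 3 + 1)) (i : Fin (m + 3)),
      ∑ j : Fin (m + 3), ((if σ j.castSucc = i.castSucc then (1 : F) else 0) -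
          (if σ L = i.castSucc then 1 else 0)) * (if a = j.castSucc then 1 else 0) =
        (if σ a = i.castSucc then 1 else 0) - (if σ L = i.castSucc then 1 else 0) := by
    intro σ a i
    rcases Fin.eq_castSucc_or_eq_last a with ⟨a', rfl⟩ | rfl
    · simp [eq_comm]
    · have : ∀ j : Fin (m + 3), Fin.last (m + 3) ≠ j.castSucc := fun j => (Fin.castSucc_ne_last j).symm
      simp [this, L]
  have hmul : ∀ σ τ, f (σ * τ) = f σ * f τ := by
    intro σ τ
    ext i k
    rw [Matrix.mul_apply]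
    simp only [f, Matrix.of_apply, mul_sub, Finset.sum_sub_distrib, hsum, Equiv.Perm.mul_apply]
    ring_nf
    congr
  have hone : f 1 = 1 := by
    ext i j
    simp [f, Matrix.one_apply, L, Fin.castSucc_ne_last i |>.symm, eq_comm]
  have hsimple : IsSimpleGroup (alternatingGroup (Fin (m + 3 + 1))) :=
    alternatingGroup.isSimpleGroup (by simp; omega)
  let A := alternatingGroup (Fin (m + 3 + 1))
  let φ : A →* Matrix (Fin (m + 3)) (Fin (m + 3)) F :=
    { toFun := fun σ => f σ, map_one' := hone, map_mul' := fun σ τ => hmul σ τ }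
  let δ : A →* Fˣ := ((Matrix.detMonoidHom).comp φ).toHomUnits
  let i0 : Fin (m + 3 + 1) := ⟨0, by omega⟩
  let i1 : Fin (m + 3 + 1) := ⟨1, by omega⟩
  let i2 : Fin (m + 3 + 1) := ⟨2, by omega⟩
  let i3 : Fin (m + 3 + 1) := ⟨3, by omega⟩
  have hm3 : ∀ {a b c : Fin (m + 3 + 1)}, a ≠ b → b ≠ c → Equiv.swap a b * Equiv.swap b c ∈ A :=
    fun hab hbc => by
      rw [Equiv.Perm.mem_alternatingGroup, map_mul, Equiv.Perm.sign_swap hab, Equiv.Perm.sign_swap hbc]
      rfl
  let s : A := ⟨Equiv.swap i0 i1 * Equiv.swap i1 i2, hm3 (by simp [i0, i1]) (by simp [i1, i2])⟩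
  let t : A := ⟨Equiv.swap i1 i2 * Equiv.swap i2 i3, hm3 (by simp [i1, i2]) (by simp [i2, i3])⟩
  have hst : s * t ≠ t * s := by
    intro h
    have h' := congrArg (fun e : A => (e : Equiv.Perm (Fin (m + 3 + 1))) i2) h
    simp [s, t, i0, i1, i2, i3, Equiv.swap_apply_def, Fin.ext_iff] at h'
  have hδ : ∀ σ, δ σ = 1 := by
    intro σ
    rcases hsimple.eq_bot_or_eq_top_of_normal δ.ker inferInstance with h | h
    · exact absurd ((δ.ker_eq_bot_iff.1 h) (by rw [map_mul, map_mul, mul_comm])) hst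
    · exact (SetLike.ext_iff.1 h σ).2 trivial
  let ψ : A →* Matrix.SpecialLinearGroup (Fin (m + 3)) F :=
    { toFun := fun σ => ⟨φ σ, congrArg Units.val (hδ σ)⟩
      map_one' := Subtype.ext (map_one φ)
      map_mul' := fun a b => Subtype.ext (map_mul φ a b) }
  let π : A →* Matrix.ProjectiveSpecialLinearGroup (Fin (m + 3)) F := (QuotientGroup.mk' _).comp ψ
  refine ⟨π, ?_⟩
  rcases hsimple.eq_bot_or_eq_top_of_normal π.ker inferInstance with h | h
  · exact π.ker_eq_bot_iff.1 h
  · exfalso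
    have hs : s ∈ π.ker := by rw [h]; trivial
    have hs' : ψ s ∈ Subgroup.center (Matrix.SpecialLinearGroup (Fin (m + 3)) F) :=
      (QuotientGroup.eq_one_iff _).1 hs
    obtain ⟨r, -, hr⟩ := Matrix.SpecialLinearGroup.mem_center_iff.1 hs'
    have h10 := congrFun (congrFun hr ⟨1, by omega⟩) ⟨0, by omega⟩
    replace h10 : Matrix.scalar (Fin (m + 3)) r ⟨1, by omega⟩ ⟨0, by omega⟩ =
        f (s : Equiv.Perm (Fin (m + 3 + 1))) ⟨1, by omega⟩ ⟨0, by omega⟩ := h10
    simp [f, s, i0, i1, i2, L, Equiv.swap_apply_def, Fin.ext_iff, Matrix.scalar_apply] at h10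

end Cfsg.Agent.S4156
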