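import Cfsg.Statements.S4160
import Cfsg.Agent.Lib.Fusion.Abelian

set_option autoImplicit false
open Cfsg

namespace Cfsg.Agent.S4160

/-- The non-identity elements conjugate into `H`. -/
def conjUnion {G : Type*} [Group G] (H : Subgroup G) : Set G := {g | g ≠ 1 ∧ ∃ a : G, a⁻¹ * g * a ∈ H}

theorem card_conjUnion_le {G : Type*} [Group G] [Finite G] (H : Subgroup G) :
    (conjUnion H).ncard ≤ (Subgroup.normalizer (H : Set G)).index * (Nat.card H - 1) := by
  classical
  let f : (G ⧸ Subgroup.normalizer (H : Set G)) × {h : H // h ≠ 1} → G :=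
    fun z => Quotient.out z.1 * (z.2.1 : G) * (Quotient.out z.1)⁻¹
  have hsub : conjUnion H ⊆ Set.range f := by
    rintro g ⟨hg, a, ha⟩
    obtain ⟨⟨m, hm⟩, e⟩ := QuotientGroup.mk_out_eq_mul (Subgroup.normalizer (H : Set G)) a
    simp only at e
    have hm' : m⁻¹ * (a⁻¹ * g * a) * m ∈ H := by
      simpa using (Subgroup.mem_normalizer_iff.1 (inv_mem hm) _).1 ha
    refine ⟨((a : G ⧸ Subgroup.normalizer (H : Set G)), ⟨⟨_, hm'⟩, fun h1 => hg ?_⟩), ?_⟩
    · have h1' : m⁻¹ * (a⁻¹ * g * a) * m = 1 := congrArg Subtype.val h1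
      calc g = (a * m) * (m⁻¹ * (a⁻¹ * g * a) * m) * (a * m)⁻¹ := by group
        _ = 1 := by rw [h1']; group
    · show Quotient.out (a : G ⧸ Subgroup.normalizer (H : Set G)) * (m⁻¹ * (a⁻¹ * g * a) * m) *
        (Quotient.out (a : G ⧸ Subgroup.normalizer (H : Set G)))⁻¹ = g
      rw [e]; group
  refine ((Set.ncard_le_ncard hsub (Set.finite_range f)).trans ?_)
  rw [← Set.image_univ]
  refine (Set.ncard_image_le Set.finite_univ).trans (le_of_eq ?_)
  have : Fintype H := Fintype.ofFinite H
  rw [Set.ncard_univ, Nat.card_prod, ← Subgroup.index_eq_card, Nat.card_eq_fintype_card,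
    Nat.card_eq_fintype_card, Fintype.card_subtype_compl, Fintype.card_subtype_eq]

theorem two_mul_le {G : Type*} [Group G] [Finite G] {H : Subgroup G}
    (h : ¬ Subgroup.normalizer (H : Set G) ≤ H) :
    2 * ((Subgroup.normalizer (H : Set G)).index * Nat.card H) ≤ Nat.card G := by
  have h2 : 2 ≤ H.relIndex (Subgroup.normalizer (H : Set G)) := by
    have : H.relIndex (Subgroup.normalizer (H : Set G)) ≠ 1 := fun e => h (Subgroup.relIndex_eq_one.1 e)
    have : H.relIndex (Subgroup.normalizer (H : Set G)) ≠ 0 := Subgroup.index_ne_zero_of_finite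
    omega
  calc 2 * ((Subgroup.normalizer (H : Set G)).index * Nat.card H)
      ≤ H.relIndex (Subgroup.normalizer (H : Set G)) * ((Subgroup.normalizer (H : Set G)).index * Nat.card H) :=
        Nat.mul_le_mul_right _ h2
    _ = Nat.card G := by
        rw [← mul_assoc, Subgroup.relIndex_mul_index Subgroup.le_normalizer, H.index_mul_card]

theorem exists_conj_centralizer {G : Type*} [Group G] [Finite G] {p : ℕ} [Fact p.Prime] (P : Sylow p G)
    {g : G} (hd : ¬ p ∣ (Subgroup.centralizer ({g} : Set G)).index) :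
    ∃ a : G, a⁻¹ * g * a ∈ Subgroup.centralizer ((P : Subgroup G) : Set G) := by
  obtain ⟨S⟩ : Nonempty (Sylow p (Subgroup.centralizer ({g} : Set G))) := inferInstance
  obtain ⟨R, hR⟩ := (S.2.map (Subgroup.centralizer ({g} : Set G)).subtype).exists_le_sylow
  have hcard : Nat.card (R : Subgroup G) ≤
      Nat.card ((S : Subgroup (Subgroup.centralizer ({g} : Set G))).map
        (Subgroup.centralizer ({g} : Set G)).subtype) := by
    rw [Nat.card_congr (Subgroup.equivMapOfInjective _ _ (Subgroup.subtype_injective _)).toEquiv.symm,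
      R.card_eq_multiplicity, S.card_eq_multiplicity,
      ← (Subgroup.centralizer ({g} : Set G)).index_mul_card,
      Nat.factorization_mul Subgroup.index_ne_zero_of_finite Nat.card_pos.ne', Finsupp.add_apply,
      Nat.factorization_eq_zero_of_not_dvd hd, zero_add]
  have hRC : (R : Subgroup G) ≤ Subgroup.centralizer ({g} : Set G) :=
    (Subgroup.eq_of_le_of_card_ge hR hcard) ▸ Subgroup.map_subtype_le _
  obtain ⟨x, hx⟩ := MulAction.exists_smul_eq G R P
  refine ⟨x⁻¹, Subgroup.mem_centralizer_iff.2 fun y hy => ?_⟩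
  rw [SetLike.mem_coe, ← hx, Sylow.coe_subgroup_smul] at hy
  obtain ⟨z, hz, rfl⟩ := hy
  have hzg : Commute g z := (Subgroup.mem_centralizer_iff.1 (hRC hz)) g rfl
  simp only [MulDistribMulAction.toMonoidEnd_apply, MulDistribMulAction.toMonoidHom_apply,
    MulAut.smul_def, MulAut.conj_apply]
  calc x * z * x⁻¹ * (x⁻¹⁻¹ * g * x⁻¹) = x * (z * g) * x⁻¹ := by group
    _ = x * (g * z) * x⁻¹ := by rw [hzg.eq]
    _ = _ := by group

theorem npc_of_selfnorm {G : Type*} [Group G] [Finite G] {p : ℕ} [Fact p.Prime] (P : Sylow p G)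
    (h : Subgroup.normalizer ((Subgroup.centralizer ((P : Subgroup G) : Set G) : Subgroup G) : Set G) ≤
      Subgroup.centralizer ((P : Subgroup G) : Set G)) : Cfsg.HasNormalPComplement p G := by
  refine CfsgLib.Fusion.Abelian.npc_of_normalizer_le_centralizer P (fun g hg => h ?_)
  have key : ∀ n ∈ Subgroup.normalizer ((P : Subgroup G) : Set G),
      ∀ y ∈ Subgroup.centralizer ((P : Subgroup G) : Set G),
      n * y * n⁻¹ ∈ Subgroup.centralizer ((P : Subgroup G) : Set G) := by
    intro n hn y hy
    refine Subgroup.mem_centralizer_iff.2 fun u hu => ?_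
    have hu' : n⁻¹ * u * n ∈ (P : Subgroup G) := by
      simpa using (Subgroup.mem_normalizer_iff.1 (inv_mem hn) u).1 hu
    have e := (Subgroup.mem_centralizer_iff.1 hy) _ hu'
    calc u * (n * y * n⁻¹) = n * ((n⁻¹ * u * n) * y) * n⁻¹ := by group
      _ = n * (y * (n⁻¹ * u * n)) * n⁻¹ := by rw [e]
      _ = _ := by group
  refine Subgroup.mem_normalizer_iff.2 fun y => ⟨key g hg y, fun hy => ?_⟩
  simpa [mul_assoc] using key g⁻¹ (inv_mem hg) _ hy

/-- Let G be a finite group and p ≠ q primes each dividing the size of some conjugacy class of G, such that no conjugacy class size is divisible by pq. Then G has a normal p-complement or a normal q-complement. -/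
theorem result {G : Type*} [Group G] [Finite G] (p q : ℕ) (hp : p.Prime) (hq : q.Prime) (hpq : p ≠ q)
    (hp' : ∃ x : G, p ∣ (Subgroup.centralizer ({x} : Set G)).index) (hq' : ∃ x : G, q ∣ (Subgroup.centralizer ({x} : Set G)).index) (h : ∀ x : G, ¬ p * q ∣ (Subgroup.centralizer ({x} : Set G)).index) :
    Cfsg.HasNormalPComplement p G ∨ Cfsg.HasNormalPComplement q G := by
  classical
  have := Fact.mk hp
  have := Fact.mk hq
  obtain ⟨P⟩ : Nonempty (Sylow p G) := inferInstance
  obtain ⟨Q⟩ : Nonempty (Sylow q G) := inferInstance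
  set H := Subgroup.centralizer ((P : Subgroup G) : Set G) with hH
  set K := Subgroup.centralizer ((Q : Subgroup G) : Set G) with hK
  have hcov : ∀ g : G, g ≠ 1 → g ∈ conjUnion H ∪ conjUnion K := by
    intro g hg
    by_cases hd : p ∣ (Subgroup.centralizer ({g} : Set G)).index
    · right
      exact ⟨hg, exists_conj_centralizer Q fun hd' => h g
        (((Nat.coprime_primes hp hq).2 hpq).mul_dvd_of_dvd_of_dvd hd hd')⟩
    · left
      exact ⟨hg, exists_conj_centralizer P hd⟩
  by_cases hsP : Subgroup.normalizer (H : Set G) ≤ H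
  · exact Or.inl (npc_of_selfnorm P hsP)
  by_cases hsQ : Subgroup.normalizer (K : Set G) ≤ K
  · exact Or.inr (npc_of_selfnorm Q hsQ)
  exfalso
  have h1 := card_conjUnion_le H
  have h2 := card_conjUnion_le K
  have h3 : Nat.card G - 1 ≤ (conjUnion H ∪ conjUnion K).ncard := by
    rw [← Set.ncard_univ, ← Set.ncard_sdiff_singleton_of_mem (Set.mem_univ (1 : G))]
    exact Set.ncard_le_ncard (fun g hg => hcov g hg.2) (Set.toFinite _)
  have h4 := (h3.trans (Set.ncard_union_le _ _)).trans (Nat.add_le_add h1 h2)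
  have h5 := two_mul_le hsP
  have h6 := two_mul_le hsQ
  have h7 : 0 < (Subgroup.normalizer (H : Set G)).index := Nat.pos_of_ne_zero Subgroup.index_ne_zero_of_finite
  have h8 : 0 < (Subgroup.normalizer (K : Set G)).index := Nat.pos_of_ne_zero Subgroup.index_ne_zero_of_finite
  rw [Nat.mul_sub, Nat.mul_sub, mul_one, mul_one] at h4
  have h9 : 0 < Nat.card G := Nat.card_pos
  have h10 : (Subgroup.normalizer (H : Set G)).index ≤ (Subgroup.normalizer (H : Set G)).index * Nat.card H :=
    Nat.le_mul_of_pos_right _ Nat.card_pos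
  have h11 : (Subgroup.normalizer (K : Set G)).index ≤ (Subgroup.normalizer (K : Set G)).index * Nat.card K :=
    Nat.le_mul_of_pos_right _ Nat.card_pos
  omega

end Cfsg.Agent.S4160
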