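import Cfsg.Statements.S4168
import Mathlib

set_option autoImplicit false
open Cfsg
open scoped commutatorElement

namespace Cfsg.Agent.S4168

/-- Let L be a finite quasisimple group (perfect with L/Z(L) simple). Then every prime dividing the order of the centre Z(L) also divides the order of L/Z(L). -/
theorem result {L : Type*} [Group L] [Finite L] (hL : Cfsg.IsQuasisimple L)
    (p : ℕ) (hp : p.Prime) (hdiv : p ∣ Nat.card (Subgroup.center L)) : p ∣ (Subgroup.center L).index := by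
  have : Fact p.Prime := ⟨hp⟩
  by_contra hnd
  obtain ⟨Q⟩ := (inferInstance : Nonempty (Sylow p (Subgroup.center L)))
  set P := (Q : Subgroup (Subgroup.center L)).map (Subgroup.center L).subtype with hP
  have hPZ : P ≤ Subgroup.center L := Subgroup.map_subtype_le _
  have hPn : P.Normal := ⟨fun n hn g => by
    rw [Subgroup.mem_center_iff.1 (hPZ hn) g, mul_inv_cancel_right]; exact hn⟩
  have hPp : IsPGroup p P := Q.isPGroup'.map _
  have hndP : ¬ p ∣ P.index := by
    rw [hP, Subgroup.index_map_subtype, hp.dvd_mul]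
    exact not_or.2 ⟨Q.not_dvd_index, hnd⟩
  have hcop : (Nat.card P).Coprime P.index := by
    obtain ⟨n, hn⟩ := IsPGroup.iff_card.1 hPp
    rw [hn]
    exact Nat.Coprime.pow_left n (hp.coprime_iff_not_dvd.2 hndP)
  obtain ⟨K, hK⟩ := Subgroup.exists_right_complement'_of_coprime hcop
  have hdec : ∀ g : L, ∃ z ∈ Subgroup.center L, ∃ k ∈ K, g = z * k := by
    intro g
    obtain ⟨⟨⟨z, hz⟩, ⟨k, hk⟩⟩, h⟩ := hK.surjective g
    exact ⟨z, hPZ hz, k, hk, h.symm⟩
  have hcomm : commutator L ≤ K := by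
    rw [commutator_def, Subgroup.commutator_le]
    intro a _ b _
    obtain ⟨z, hz, k, hk, rfl⟩ := hdec a
    obtain ⟨z', hz', k', hk', rfl⟩ := hdec b
    have e : ⁅z * k, z' * k'⁆ = ⁅k, k'⁆ := by
      have h1 : ∀ g, g * z = z * g := fun g => Subgroup.mem_center_iff.1 hz g
      have h2 : ∀ g, g * z' = z' * g := fun g => Subgroup.mem_center_iff.1 hz' g
      simp only [commutatorElement_def, mul_inv_rev]
      calc z * k * (z' * k') * (k⁻¹ * z⁻¹) * (k'⁻¹ * z'⁻¹)
          = z * ((k * z') * k' * k⁻¹) * (z⁻¹ * k'⁻¹) * z'⁻¹ := by group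
        _ = z * ((z' * k) * k' * k⁻¹) * (k'⁻¹ * z⁻¹) * z'⁻¹ := by
            rw [h2 k, show z⁻¹ * k'⁻¹ = k'⁻¹ * z⁻¹ by rw [← mul_inv_rev, ← mul_inv_rev, h1]]
        _ = z * (z' * (k * k' * k⁻¹ * k'⁻¹)) * z⁻¹ * z'⁻¹ := by group
        _ = (z' * (k * k' * k⁻¹ * k'⁻¹)) * z * z⁻¹ * z'⁻¹ := by rw [← h1]
        _ = z' * (k * k' * k⁻¹ * k'⁻¹) * z'⁻¹ := by group
        _ = k * k' * k⁻¹ * k'⁻¹ := by rw [← h2]; group
    rw [e, commutatorElement_def]
    exact K.mul_mem (K.mul_mem (K.mul_mem hk hk') (K.inv_mem hk)) (K.inv_mem hk')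
  rw [hL.1.commutator_eq_top, top_le_iff] at hcomm
  subst hcomm
  have hbot : P = ⊥ := Subgroup.isComplement'_top_right.1 hK
  rw [hP, Subgroup.map_eq_bot_iff_of_injective _ (Subgroup.subtype_injective _)] at hbot
  have := Q.ne_bot_of_dvd_card hdiv
  exact this hbot

end Cfsg.Agent.S4168
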