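import Cfsg.Statements.S4169
import Mathlib
import Cfsg.Agent.Lib.PGroup.MinimalClasses
import Cfsg.Agent.Lib.OddOrder.SelfCentralizing

set_option autoImplicit false
open Cfsg

namespace Cfsg.Agent.S4169

/-- Let P be a finite p-group whose conjugacy classes have exactly two sizes (1 and one other value). Then P has nilpotency class at most 3. -/
theorem result {P : Type*} [Group P] [Finite P] {p : ℕ} [Fact p.Prime] (hP : IsPGroup p P)
    (m : ℕ) (hm : 1 < m) (h : ∀ x : P, (Subgroup.centralizer ({x} : Set P)).index = 1 ∨ (Subgroup.centralizer ({x} : Set P)).index = m) :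
    upperCentralSeries P 3 = ⊤ := by
  haveI : Group.IsNilpotent P := hP.isNilpotent
  haveI : IsMulCommutative (⊥ : Subgroup P) := ⟨⟨fun a b => Subsingleton.elim _ _⟩⟩
  obtain ⟨A, -, hAn, hAc, hCA⟩ := CfsgLib.OddOrder.SelfCentralizing.exists_selfcentralizing (⊥ : Subgroup P)
  haveI := hAn
  have hlcs := CfsgLib.PGroup.MinimalClasses.lcs_three_eq_bot A hAc hCA Set.univ
    fun x _ y hy => by
      rcases h x with hx | hx <;> rcases h y with hy' | hy'
      · exact hy'
      · omega
      · exact hy'
      · omega
  rw [Subgroup.closure_univ] at hlcs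
  exact Subgroup.lowerCentralSeries_eq_bot_iff_upperCentralSeries_eq_top.mp hlcs

end Cfsg.Agent.S4169
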