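import Cfsg.Statements.S4172
import Mathlib
import Cfsg.Agent.Lib.Fusion.Tate
import Cfsg.Agent.Lib.PGroup.Frattini
import Cfsg.Agent.Lib.Components.GenFitting
import Cfsg.Agent.Lib.Components.PComponents
import Cfsg.Agent.Lib.Solvable.Cores

set_option autoImplicit false
open Cfsg

namespace Cfsg.Agent.S4172

open Subgroup
open scoped commutatorElement

variable {G : Type*} [Group G] [Finite G] {p : ℕ} [Fact p.Prime]

/-- A normal subgroup of a two-generated `p`-group outside the Frattini subgroup has cyclic quotient. -/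
theorem exists_gen {P : Type*} [Group P] [Finite P] (hgen : (frattini P).index = p ^ 2)
    (D : Subgroup P) [D.Normal] (hD : ¬ D ≤ frattini P) : ∃ x : P, D ⊔ zpowers x = ⊤ := by
  set M := D ⊔ frattini P with hM
  have hdvd : M.index ∣ p ^ 2 := hgen ▸ index_dvd_of_le le_sup_right
  obtain ⟨i, hi, he⟩ := (Nat.dvd_prime_pow Fact.out).mp hdvd
  have hi2 : i ≠ 2 := by
    intro h2
    subst h2
    have h1 : (frattini P).relIndex M * M.index = (frattini P).index :=
      relIndex_mul_index le_sup_right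
    rw [hgen, he] at h1
    have h3 : (frattini P).relIndex M = 1 :=
      Nat.eq_of_mul_eq_mul_right (pow_pos (Fact.out : p.Prime).pos 2) (h1.trans (one_mul _).symm)
    exact hD (le_sup_left.trans (relIndex_eq_one.mp h3))
  have : M.Normal := Subgroup.sup_normal _ _
  have hcyc : IsCyclic (P ⧸ M) := by
    rcases (show i = 0 ∨ i = 1 by omega) with rfl | rfl
    · have : Subsingleton (P ⧸ M) := by
        rw [← Finite.card_le_one_iff_subsingleton]
        exact le_of_eq (he.trans (pow_zero p))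
      infer_instance
    · exact isCyclic_of_prime_card (p := p) (he.trans (pow_one p))
  obtain ⟨c, hc⟩ := hcyc.exists_generator
  obtain ⟨x, rfl⟩ := QuotientGroup.mk'_surjective M c
  refine ⟨x, frattini_nongenerating ?_⟩
  rw [eq_top_iff]
  intro y _
  obtain ⟨n, hn⟩ := mem_zpowers_iff.mp (hc (QuotientGroup.mk' M y))
  have h1 : (x ^ n)⁻¹ * y ∈ M := by
    rw [← QuotientGroup.eq_one_iff, ← QuotientGroup.mk'_apply, map_mul, map_inv, map_zpow, hn,
      inv_mul_cancel]
  have hy : y = x ^ n * ((x ^ n)⁻¹ * y) := by group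
  rw [hy]
  refine mul_mem (mem_sup_left (mem_sup_right (zpow_mem (mem_zpowers x) n))) ?_
  exact (sup_le (le_sup_left.trans le_sup_left) le_sup_right : M ≤ (D ⊔ zpowers x) ⊔ frattini P) h1

theorem commutator_mem_of_gen {P : Type*} [Group P] (D : Subgroup P) [D.Normal] {x : P}
    (hx : D ⊔ zpowers x = ⊤) (a b : P) : ⁅a, b⁆ ∈ D := by
  have h : ∀ a : P, ∃ n : ℤ, (QuotientGroup.mk a : P ⧸ D) = QuotientGroup.mk (x ^ n) := by
    intro a
    have ha : a ∈ ((D ⊔ zpowers x : Subgroup P) : Set P) := by rw [hx]; exact mem_top a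
    rw [normal_mul] at ha
    obtain ⟨d, hd, _, ⟨n, rfl⟩, rfl⟩ := Set.mem_mul.mp ha
    refine ⟨n, ?_⟩
    rw [QuotientGroup.mk_mul, (QuotientGroup.eq_one_iff d).mpr hd, one_mul]
  obtain ⟨n, hn⟩ := h a
  obtain ⟨m, hm⟩ := h b
  rw [← QuotientGroup.eq_one_iff, commutatorElement_def]
  simp only [QuotientGroup.mk_mul, QuotientGroup.mk_inv, hn, hm, QuotientGroup.mk_zpow]
  group

/-- Two such normal subgroups with trivial intersection force commutativity. -/
theorem commutative_of_two (P : Sylow p G) (hgen : (frattini ↥(P : Subgroup G)).index = p ^ 2)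
    (A B : Subgroup G) (hA : (P : Subgroup G) ≤ normalizer (A : Set G))
    (hB : (P : Subgroup G) ≤ normalizer (B : Set G))
    (hA' : ¬ A ⊓ (P : Subgroup G) ≤ (frattini ↥(P : Subgroup G)).map (P : Subgroup G).subtype)
    (hB' : ¬ B ⊓ (P : Subgroup G) ≤ (frattini ↥(P : Subgroup G)).map (P : Subgroup G).subtype)
    (hAB : A ⊓ B = ⊥) : IsMulCommutative (P : Subgroup G) := by
  have key : ∀ A : Subgroup G, (P : Subgroup G) ≤ normalizer (A : Set G) →
      ¬ A ⊓ (P : Subgroup G) ≤ (frattini ↥(P : Subgroup G)).map (P : Subgroup G).subtype →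
      ∀ a b : (P : Subgroup G), ((⁅a, b⁆ : (P : Subgroup G)) : G) ∈ A := by
    intro A hA hA' a b
    have hn : (A.subgroupOf (P : Subgroup G)).Normal := normal_subgroupOf_iff_le_normalizer_inf.mpr
      (fun x hx => by
        have h1 := hA hx
        rw [mem_normalizer_iff] at h1 ⊢
        intro y
        simp only [SetLike.mem_coe, mem_inf]
        rw [← h1 y]
        exact and_congr_right fun hy => ⟨fun h => mul_mem (mul_mem hx h) (inv_mem hx), fun h => by
          simpa [mul_assoc] using mul_mem (mul_mem (inv_mem hx) h) hx⟩)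
    obtain ⟨x, hx⟩ := exists_gen hgen (A.subgroupOf (P : Subgroup G)) (fun h => hA' (by
      rintro z ⟨hzA, hzP⟩
      exact ⟨⟨z, hzP⟩, h (mem_subgroupOf.mpr hzA), rfl⟩))
    exact commutator_mem_of_gen _ hx a b
  refine ⟨⟨fun a b => commutatorElement_eq_one_iff_mul_comm.mp (Subtype.ext (mem_bot.mp ?_))⟩⟩
  rw [← hAB]
  exact ⟨key A hA hA' a b, key B hB hB' a b⟩

/-- Tate, for a subgroup normalised by the Sylow subgroup. -/
theorem npc_of_le_normalizer (P : Sylow p G) (A : Subgroup G)
    (hA : (P : Subgroup G) ≤ normalizer (A : Set G))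
    (h : A ⊓ (P : Subgroup G) ≤ (frattini ↥(P : Subgroup G)).map (P : Subgroup G).subtype) :
    Cfsg.HasNormalPComplement p A := by
  set M := normalizer (A : Set G) with hM
  have hAM : A ≤ M := le_normalizer
  let Q : Sylow p M := P.subtype hA
  have : (A.subgroupOf M).Normal := normal_in_normalizer
  have h2 : A.subgroupOf M ⊓ (Q : Subgroup M) ≤ (frattini Q).map (Q : Subgroup M).subtype := by
    let e : Q ≃* (P : Subgroup G) :=
      { toFun := fun x => ⟨((x : M) : G), x.2⟩
        invFun := fun x => ⟨⟨(x : G), hA x.2⟩, x.2⟩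
        left_inv := fun _ => rfl
        right_inv := fun _ => rfl
        map_mul' := fun _ _ => rfl }
    intro x hx
    obtain ⟨t, ht, he⟩ := h ⟨hx.1, hx.2⟩
    refine ⟨e.symm t, ?_, Subtype.ext he⟩
    have hmap : (frattini ↥(P : Subgroup G)).map e.symm.toMonoidHom ≤ frattini Q :=
      map_le_iff_le_comap.mpr (frattini_le_comap_frattini_of_surjective e.symm.surjective)
    exact hmap (mem_map_of_mem _ ht)
  have h3 := CfsgLib.Fusion.Tate.npc_of_normal_inf_le_frattini Q (A.subgroupOf M) h2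
  exact CfsgLib.Fusion.Basic.npc_of_injective (subgroupOfEquivOfLe hAM).symm.toMonoidHom
    (subgroupOfEquivOfLe hAM).symm.injective h3

/-- The transfer lemma: a central `p`-element in the derived group lies in the derived group of a
Sylow subgroup. -/
theorem central_commutator_mem {E : Type*} [Group E] [Finite E] (S : Sylow p E) {z : E}
    (hzS : z ∈ (S : Subgroup E)) (hzc : z ∈ center E) (hzd : z ∈ commutator E) :
    (⟨z, hzS⟩ : (S : Subgroup E)) ∈ commutator (S : Subgroup E) := by
  let φ : (S : Subgroup E) →* Abelianization (S : Subgroup E) := Abelianization.of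
  have key : ∀ (m : ℕ) (g₀ : E), g₀⁻¹ * z ^ m * g₀ ∈ (S : Subgroup E) →
      g₀⁻¹ * z ^ m * g₀ = z ^ m := by
    intro m g₀ _
    rw [mul_assoc, ← (mem_center_iff.mp (pow_mem hzc m) g₀), inv_mul_cancel_left]
  have h1 := MonoidHom.transfer_eq_pow φ z key
  have h0 : (MonoidHom.transfer φ) z = 1 :=
    MonoidHom.mem_ker.mp (Abelianization.commutator_subset_ker _ hzd)
  rw [h0] at h1
  set w : (S : Subgroup E) := ⟨z, hzS⟩ with hw
  have h2 : φ w ^ (S : Subgroup E).index = 1 := by
    rw [← map_pow]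
    exact h1.symm
  obtain ⟨j, hj⟩ := S.2 w
  have h3 : φ w ^ p ^ j = 1 := by rw [← map_pow, hj, map_one]
  have h4 : φ w = 1 := by
    rw [← orderOf_eq_one_iff]
    exact Nat.eq_one_of_dvd_coprimes
      (Nat.Coprime.pow_left j ((Fact.out : p.Prime).coprime_iff_not_dvd.mpr S.not_dvd_index))
      (orderOf_dvd_of_pow_eq_one h3) (orderOf_dvd_of_pow_eq_one h2)
  rwa [← Abelianization.ker_of (G := (S : Subgroup E)), MonoidHom.mem_ker]

/-- Relative Maschke: `N` is a direct summand of the normal abelian `Q` as soon as it is a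
`P`-equivariant one. -/
theorem exists_normal_complement (P : Sylow p G) (N Q : Subgroup G) [N.Normal] [Q.Normal]
    (hc : IsMulCommutative N) (hN : IsPGroup p N) (π : Q →* N)
    (hπN : ∀ q : Q, (q : G) ∈ N → ((π q : N) : G) = q)
    (hπP : ∀ h ∈ (P : Subgroup G), ∀ q : Q,
      ((π ⟨h * q * h⁻¹, Normal.conj_mem ‹Q.Normal› q q.2 h⟩ : N) : G) = h * (π q : N) * h⁻¹)
    (hcard : Nat.card N < Nat.card Q) :
    ∃ K : Subgroup G, K.Normal ∧ K ≠ ⊥ ∧ K ≤ Q ∧ K ⊓ N = ⊥ := by
  classical
  letI : CommGroup N := { (inferInstance : Group N) with mul_comm := fun a b => hc.is_comm.comm a b }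
  have := Fintype.ofFinite (G ⧸ (P : Subgroup G))
  let cQ : G → Q →* Q := fun g =>
    { toFun := fun q => ⟨g * q * g⁻¹, Normal.conj_mem ‹Q.Normal› q q.2 g⟩
      map_one' := Subtype.ext (by simp)
      map_mul' := fun a b => Subtype.ext (by simp [mul_assoc]) }
  let cN : G → N →* N := fun g =>
    { toFun := fun q => ⟨g * q * g⁻¹, Normal.conj_mem ‹N.Normal› q q.2 g⟩
      map_one' := Subtype.ext (by simp)
      map_mul' := fun a b => Subtype.ext (by simp [mul_assoc]) }
  let f : G → Q →* N := fun g => (cN g).comp (π.comp (cQ g⁻¹))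
  have hfP : ∀ g, ∀ h ∈ (P : Subgroup G), f (g * h) = f g := by
    intro g h hh
    ext q
    show g * h * (π (cQ (g * h)⁻¹ q) : N) * (g * h)⁻¹ = g * (π (cQ g⁻¹ q) : N) * g⁻¹
    have h1 : cQ (g * h)⁻¹ q = ⟨h⁻¹ * (cQ g⁻¹ q : Q) * h⁻¹⁻¹,
        Normal.conj_mem ‹Q.Normal› _ (cQ g⁻¹ q).2 h⁻¹⟩ := Subtype.ext (by simp [cQ, mul_assoc])
    rw [h1, hπP _ (inv_mem hh)]
    group
  have hfmul : ∀ g a (q : Q), f (a * g) (cQ a q) = cN a (f g q) := by
    intro g a q
    apply Subtype.ext
    show a * g * (π (cQ (a * g)⁻¹ (cQ a q)) : N) * (a * g)⁻¹ =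
      a * (g * (π (cQ g⁻¹ q) : N) * g⁻¹) * a⁻¹
    have h1 : cQ (a * g)⁻¹ (cQ a q) = cQ g⁻¹ q := Subtype.ext (by simp [cQ, mul_assoc])
    rw [h1]; group
  let r : Q →* N :=
    { toFun := fun q => ∏ c : G ⧸ (P : Subgroup G), f (Quotient.out c) q
      map_one' := by simp
      map_mul' := fun a b => by simp [map_mul, Finset.prod_mul_distrib] }
  have hr : ∀ a (q : Q), r (cQ a q) = cN a (r q) := by
    intro a q
    show ∏ c : G ⧸ (P : Subgroup G), f (Quotient.out c) (cQ a q) = cN a (∏ c : G ⧸ (P : Subgroup G), f (Quotient.out c) q)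
    rw [map_prod]
    refine (Fintype.prod_equiv (MulAction.toPerm a) (fun c : G ⧸ (P : Subgroup G) => cN a (f (Quotient.out c) q))
      (fun c : G ⧸ (P : Subgroup G) => f (Quotient.out c) (cQ a q)) fun c => ?_).symm
    obtain ⟨h, hh⟩ := QuotientGroup.mk_out_eq_mul (P : Subgroup G) (a * Quotient.out c)
    have h1 : (MulAction.toPerm a c : G ⧸ (P : Subgroup G)) = QuotientGroup.mk (a * Quotient.out c) := by
      conv_lhs => rw [← Quotient.out_eq c]
      rfl
    rw [h1, hh, hfP _ _ h.2, hfmul]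
  have hrN : ∀ q : Q, (q : G) ∈ N → ((r q : N) : G) = (q : G) ^ (P : Subgroup G).index := by
    intro q hq
    have h1 : ∀ g : G, f g q = (⟨q, hq⟩ : N) := by
      intro g
      apply Subtype.ext
      show g * (π (cQ g⁻¹ q) : N) * g⁻¹ = q
      rw [hπN _ (Normal.conj_mem ‹N.Normal› q hq g⁻¹)]
      simp [cQ, mul_assoc]
    show ((∏ c : G ⧸ (P : Subgroup G), f (Quotient.out c) q : N) : G) = _
    simp only [h1, Finset.prod_const, Finset.card_univ, ← Nat.card_eq_fintype_card]
    rfl
  refine ⟨r.ker.map Q.subtype, ⟨?_⟩, ?_, map_subtype_le _, ?_⟩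
  · rintro _ ⟨q, hq, rfl⟩ a
    refine ⟨cQ a q, ?_, rfl⟩
    show r (cQ a q) = 1
    rw [hr, MonoidHom.mem_ker.mp hq, map_one]
  · intro h
    rw [map_eq_bot_iff_of_injective _ Q.subtype_injective, MonoidHom.ker_eq_bot_iff] at h
    exact absurd (Nat.card_le_card_of_injective r h) (by omega)
  · rw [eq_bot_iff]
    rintro _ ⟨⟨q, hq, rfl⟩, hqN⟩
    have h1 := hrN q hqN
    rw [MonoidHom.mem_ker.mp hq] at h1
    obtain ⟨j, hj⟩ := hN ⟨q, hqN⟩
    rw [mem_bot, ← orderOf_eq_one_iff]
    refine Nat.eq_one_of_dvd_coprimes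
      (Nat.Coprime.pow_left j ((Fact.out : p.Prime).coprime_iff_not_dvd.mpr P.not_dvd_index))
      (orderOf_dvd_of_pow_eq_one ?_) (orderOf_dvd_of_pow_eq_one h1.symm)
    simpa using congrArg Subtype.val hj

/-- Let p be a prime and G a finite group with a non-commutative Sylow p-subgroup P whose Frattini subgroup has index p² in P (P is generated by two elements). Suppose G has no nontrivial normal subgroup of order prime to p and the Frattini subgroup of P contains no nontrivial normal subgroup of G. Then the generalized Fitting subgroup F*(G) is the unique minimal normal subgroup of G, the image of P in G/F*(G) is cyclic, and if F*(G) is not commutative then P permutes the components of G transitively by conjugation. -/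
theorem result {G : Type*} [Group G] [Finite G] (p : ℕ) [Fact p.Prime] (P : Sylow p G) (hna : ¬ IsMulCommutative (P : Subgroup G)) (hgen : (frattini ↥(P : Subgroup G)).index = p ^ 2) (hcore : Cfsg.pPrimeCore p G = ⊥) (hfrat : ((frattini ↥(P : Subgroup G)).map (P : Subgroup G).subtype).normalCore = ⊥) [hFn : (Cfsg.generalizedFittingSubgroup G).Normal] :
    (Cfsg.generalizedFittingSubgroup G ≠ ⊥ ∧ ∀ K : Subgroup G, K.Normal → K ≠ ⊥ → Cfsg.generalizedFittingSubgroup G ≤ K) ∧
      IsCyclic ↥((P : Subgroup G).map (QuotientGroup.mk' (Cfsg.generalizedFittingSubgroup G))) ∧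
      (¬ IsMulCommutative (Cfsg.generalizedFittingSubgroup G) → ∀ K L : Subgroup G, Cfsg.IsComponent K → Cfsg.IsComponent L → ∃ x ∈ (P : Subgroup G), L = K.map (MulAut.conj x).toMonoidHom) := by
  classical
  have hp : p.Prime := Fact.out
  set Φ := (frattini ↥(P : Subgroup G)).map (P : Subgroup G).subtype with hΦ
  have hcoreEl : ∀ K : Subgroup G, K.Normal → K ≤ Φ → K = ⊥ := by
    intro K hK hle
    exact le_bot_iff.mp (hfrat ▸ (normal_le_normalCore.mpr hle))
  -- (A)
  have hA : ∀ K : Subgroup G, K.Normal → K ≠ ⊥ → ¬ K ⊓ (P : Subgroup G) ≤ Φ := by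
    intro K hK hne h
    have hnpc := CfsgLib.Fusion.Tate.npc_of_normal_inf_le_frattini P K h
    set O := (Cfsg.pResidual p K).map K.subtype with hO
    have hOc : (Nat.card O).Coprime p := by
      rw [hO, card_map_of_injective K.subtype_injective]
      exact CfsgLib.Fusion.Basic.npc_iff_coprime.mp hnpc
    have : O.Normal := inferInstance
    have hO1 : O = ⊥ := le_bot_iff.mp (hcore ▸ CfsgLib.Solvable.Cores.le_pPrimeCore hOc)
    rw [hO, map_eq_bot_iff_of_injective _ K.subtype_injective] at hO1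
    have hKp : IsPGroup p K := by
      intro k
      obtain ⟨j, hj⟩ := CfsgLib.Fusion.Basic.exists_pow_coprime (p := p) k
      have h1 := CfsgLib.Fusion.Basic.mem_pResidual_of_coprime hj
      rw [hO1, mem_bot] at h1
      exact ⟨j, h1⟩
    have hKP : K ≤ (P : Subgroup G) :=
      (CfsgLib.Solvable.Cores.le_pCore hKp).trans (CfsgLib.Solvable.Cores.pCore_le_sylow P)
    exact hne (hcoreEl K hK (le_trans (le_inf le_rfl hKP) h))
  have hPne : ∀ K : Subgroup G, K.Normal → (P : Subgroup G) ≤ normalizer (K : Set G) := fun K hK =>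
    by rw [normalizer_eq_top]; exact le_top
  have huniq : ∀ K L : Subgroup G, K.Normal → L.Normal → K ≠ ⊥ → L ≠ ⊥ → K ⊓ L ≠ ⊥ :=
    fun K L hK hL hK1 hL1 h =>
      hna (commutative_of_two P hgen K L (hPne K hK) (hPne L hL) (hA K hK hK1) (hA L hL hL1) h)
  -- a minimal normal subgroup
  have hGne : (⊤ : Subgroup G) ≠ ⊥ := by
    intro h
    apply hna
    refine ⟨⟨fun a b => Subtype.ext ?_⟩⟩
    have h1 : ∀ g : G, g = 1 := fun g => mem_bot.mp (h ▸ mem_top g)
    rw [h1 ((a * b : (P : Subgroup G)) : G), h1 ((b * a : (P : Subgroup G)) : G)]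
  obtain ⟨N, ⟨hN, hN1⟩, hNmin⟩ := exists_minimal_of_wellFoundedLT
    (fun K : Subgroup G => K.Normal ∧ K ≠ ⊥) ⟨⊤, inferInstance, hGne⟩
  have hmin : ∀ K : Subgroup G, K.Normal → K ≠ ⊥ → N ≤ K := by
    intro K hK hK1
    exact (hNmin ⟨Subgroup.normal_inf_normal N K, huniq N K hN hK hN1 hK1⟩ inf_le_left).trans
      inf_le_right
  have hNsub : ∀ K : Subgroup G, K.Normal → K ≤ N → K ≠ ⊥ → K = N := fun K hK hle hK1 =>
    le_antisymm hle (hmin K hK hK1)
  -- generators of `P` over `N`
  have hNgen : ∃ x ∈ (P : Subgroup G), ∀ a ∈ (P : Subgroup G), ∃ n ∈ N ⊓ (P : Subgroup G),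
      ∃ j : ℤ, a = n * x ^ j := by
    obtain ⟨x, hx⟩ := exists_gen hgen (N.subgroupOf (P : Subgroup G)) (fun h => hA N hN hN1 (by
      rintro z ⟨hzA, hzP⟩
      exact ⟨⟨z, hzP⟩, h (mem_subgroupOf.mpr hzA), rfl⟩))
    refine ⟨x, x.2, fun a ha => ?_⟩
    have h1 : (⟨a, ha⟩ : (P : Subgroup G)) ∈
        ((N.subgroupOf (P : Subgroup G) ⊔ zpowers x : Subgroup (P : Subgroup G)) : Set _) := by
      rw [hx]; exact mem_top _
    rw [normal_mul] at h1
    obtain ⟨d, hd, _, ⟨n, rfl⟩, e⟩ := Set.mem_mul.mp h1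
    exact ⟨d, ⟨mem_subgroupOf.mp hd, d.2⟩, n, by simpa using (congrArg Subtype.val e).symm⟩
  set F := Cfsg.generalizedFittingSubgroup G with hF
  have hFne : F ≠ ⊥ := by
    intro h
    have h1 := CfsgLib.Components.centralizer_generalizedFitting_le_fitting (G := G)
    have h2 := CfsgLib.Components.fittingSubgroup_le_generalizedFittingSubgroup (G := G)
    rw [← hF, h] at h1 h2
    exact hGne (le_bot_iff.mp (le_trans (fun g _ => mem_centralizer_iff.mpr fun y hy => by
      rw [mem_bot.mp hy]; simp) (h1.trans h2)))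
  have hFQ := CfsgLib.Solvable.Cores.fittingSubgroup_eq_pCore p hcore
  set Q := Cfsg.pCore p G with hQdef
  have hQn : Q.Normal := hFQ ▸ inferInstance
  have hQP : Q ≤ (P : Subgroup G) := CfsgLib.Solvable.Cores.pCore_le_sylow P
  have hQp : IsPGroup p Q := CfsgLib.Solvable.Cores.isPGroup_pCore p
  have hPp : IsPGroup p (P : Subgroup G) := P.2
  have hΦpow : ∀ a ∈ (P : Subgroup G), a ^ p ∈ Φ := fun a ha =>
    ⟨⟨a, ha⟩ ^ p, CfsgLib.PGroup.Frattini.pow_mem_frattini hPp _, rfl⟩
  have hΦcomm : ∀ a ∈ (P : Subgroup G), ∀ b ∈ (P : Subgroup G), ⁅a, b⁆ ∈ Φ := fun a ha b hb =>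
    ⟨⁅⟨a, ha⟩, ⟨b, hb⟩⁆, CfsgLib.PGroup.Frattini.commutatorElement_mem_frattini hPp _ _, rfl⟩
  have hQexp : ∀ a ∈ Q, a ^ p = 1 := by
    intro a ha
    rw [← mem_bot, ← hfrat]
    intro g
    rw [← conj_pow]
    exact hΦpow _ (hQP (hQn.conj_mem a ha g))
  have hQcomm : ∀ a ∈ Q, ∀ b ∈ Q, a * b = b * a := by
    intro a ha b hb
    rw [← commutatorElement_eq_one_iff_mul_comm, ← mem_bot, ← hfrat]
    intro g
    have h1 : g * ⁅a, b⁆ * g⁻¹ = ⁅g * a * g⁻¹, g * b * g⁻¹⁆ := by
      simp only [commutatorElement_def]; group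
    rw [h1]
    exact hΦcomm _ (hQP (hQn.conj_mem a ha g)) _ (hQP (hQn.conj_mem b hb g))
  by_cases hNcomm : IsMulCommutative N
  · -- the abelian case
    have hNQ : N ≤ Q := by
      rw [← hFQ]
      exact CfsgLib.Solvable.Cores.le_fittingSubgroup
        (CfsgLib.Components.isNilpotent_of_isMulCommutative N)
    have hNp : IsPGroup p N := hQp.to_le hNQ
    have hE : Cfsg.layer G = ⊥ := by
      by_contra hE
      have hEn : (Cfsg.layer G).Normal := inferInstance
      have hNE := hmin _ hEn hE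
      have : Group.IsSolvable N :=
        haveI := CfsgLib.Components.isNilpotent_of_isMulCommutative N; inferInstance
      have hc := commutator_eq_bot_iff_le_centralizer.mp
        (CfsgLib.Components.layer_commutator_solvable_eq_bot N)
      set E := Cfsg.layer G
      have hperf : Group.IsPerfect E := CfsgLib.Components.layer_isPerfect
      let S : Subgroup E := (P : Subgroup G).subgroupOf E
      have hSp : IsPGroup p S := P.2.comap_subtype
      have hSidx : ¬ p ∣ S.index := by
        show ¬ p ∣ (P : Subgroup G).relIndex E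
        intro h
        obtain ⟨m, hm⟩ := h
        obtain ⟨d, hd⟩ : E.relIndex (P : Subgroup G) ∣ E.index := relIndex_dvd_index_of_normal E _
        have h1 : ((P : Subgroup G) ⊓ E).relIndex (P : Subgroup G) * (P : Subgroup G).index =
            ((P : Subgroup G) ⊓ E).relIndex E * E.index :=
          (relIndex_mul_index inf_le_left).trans (relIndex_mul_index inf_le_right).symm
        rw [inf_relIndex_left, inf_relIndex_right, hm, hd] at h1
        refine P.not_dvd_index ⟨m * d, Nat.eq_of_mul_eq_mul_left (Nat.pos_of_ne_zero ?_) (h1.trans (by ring))⟩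
        exact index_ne_zero_of_finite
      refine hA N hN hN1 ?_
      rintro z ⟨hzN, hzP⟩
      have h1 := central_commutator_mem (hSp.toSylow hSidx) (z := (⟨z, hNE hzN⟩ : E)) hzP
        (mem_center_iff.mpr fun e => Subtype.ext (mem_centralizer_iff.mp (hc e.2) z hzN).symm)
        (by rw [hperf.commutator_eq_top]; exact mem_top _)
      have h2 : (commutator S).map ((E.subtype).comp S.subtype) ≤ Φ := by
        rw [_root_.commutator_def, map_commutator, commutator_le]
        rintro a ⟨a', -, rfl⟩ b ⟨b', -, rfl⟩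
        exact hΦcomm _ a'.2 _ b'.2
      exact h2 ⟨_, h1, rfl⟩
    have hFeq : F = Q := by
      rw [hF, Cfsg.generalizedFittingSubgroup, hE, bot_sup_eq, hFQ]
    have hQN : Q = N := by
      by_contra hne
      obtain ⟨x, hxP, hx⟩ := hNgen
      set K₀ := Q ⊓ zpowers x with hK₀
      have hsplit : ∀ q ∈ Q, ∃ n ∈ N, ∃ k ∈ K₀, q = n * k := by
        intro q hq
        obtain ⟨n, hn, j, rfl⟩ := hx q (hQP hq)
        refine ⟨n, hn.1, x ^ j, ⟨?_, zpow_mem (mem_zpowers x) j⟩, rfl⟩
        simpa using mul_mem (inv_mem (hNQ hn.1)) hq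
      have hK₀card : Nat.card K₀ ∣ p := by
        have : IsCyclic K₀ := isCyclic_of_injective (Subgroup.inclusion (inf_le_right : K₀ ≤ zpowers x))
          (Subgroup.inclusion_injective _)
        obtain ⟨y, hy⟩ := IsCyclic.exists_generator (α := K₀)
        rw [← orderOf_eq_card_of_forall_mem_zpowers hy, ← orderOf_coe]
        exact orderOf_dvd_of_pow_eq_one (hQexp _ y.2.1)
      have hdisj : K₀ ⊓ N = ⊥ := by
        by_contra hd
        have h1 : Nat.card (K₀ ⊓ N : Subgroup G) ∣ p := (card_dvd_of_le inf_le_left).trans hK₀card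
        have h2 : Nat.card (K₀ ⊓ N : Subgroup G) ≠ 1 := by rw [ne_eq, card_eq_one]; exact hd
        have h3 : K₀ ≤ N := by
          have h4 : Nat.card K₀ ≤ Nat.card (K₀ ⊓ N : Subgroup G) := by
            rw [((Nat.dvd_prime hp).mp h1).resolve_left h2]
            exact Nat.le_of_dvd hp.pos hK₀card
          exact inf_eq_left.mp (eq_of_le_of_card_ge inf_le_left h4)
        refine hne (le_antisymm (fun q hq => ?_) hNQ)
        obtain ⟨n, hn, k, hk, rfl⟩ := hsplit q hq
        exact mul_mem hn (h3 hk)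
      choose! nn hnn kk hkk heq using hsplit
      have huni : ∀ q ∈ Q, ∀ n ∈ N, ∀ k ∈ K₀, q = n * k → nn q = n := by
        intro q hq n hn k hk e
        have h1 : (nn q)⁻¹ * n = kk q * k⁻¹ := by
          have h5 := (heq q hq).symm.trans e
          calc (nn q)⁻¹ * n = (nn q)⁻¹ * (n * k) * k⁻¹ := by group
            _ = (nn q)⁻¹ * (nn q * kk q) * k⁻¹ := by rw [h5]
            _ = _ := by group
        have h6 : (nn q)⁻¹ * n ∈ K₀ ⊓ N :=
          ⟨h1 ▸ K₀.mul_mem (hkk q hq) (K₀.inv_mem hk), N.mul_mem (N.inv_mem (hnn q hq)) hn⟩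
        rw [hdisj, mem_bot, inv_mul_eq_one] at h6
        exact h6
      let π : Q →* N :=
        { toFun := fun q => ⟨nn q, hnn q q.2⟩
          map_one' := Subtype.ext (huni 1 (one_mem Q) 1 (one_mem N) 1 (one_mem _) (by simp))
          map_mul' := fun a b => Subtype.ext (huni _ (mul_mem a.2 b.2) _
            (mul_mem (hnn a a.2) (hnn b b.2)) _ (mul_mem (hkk a a.2) (hkk b b.2)) (by
              show (a : G) * b = nn a * nn b * (kk a * kk b)
              conv_lhs => rw [heq a a.2, heq b b.2]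
              rw [mul_assoc, ← mul_assoc (kk (a : G)), hQcomm _ (hkk a a.2).1 _ (hNQ (hnn b b.2))]
              group)) }
      obtain ⟨K, hKn, hK1, hKQ, hKN⟩ := exists_normal_complement P N Q hNcomm hNp π
        (fun q hq => huni q q.2 q hq 1 (one_mem _) (mul_one _).symm)
        (fun h hh q => huni _ (hQn.conj_mem q q.2 h) _ (hN.conj_mem _ (hnn q q.2) h) (kk q)
          (hkk q q.2) (by
            show h * (q : G) * h⁻¹ = h * nn q * h⁻¹ * kk q
            conv_lhs => rw [heq q q.2]
            obtain ⟨n, hn, j, rfl⟩ := hx h hh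
            obtain ⟨i, hi⟩ := mem_zpowers_iff.mp (hkk q q.2).2
            have e1 : n * kk q = kk q * n := hQcomm _ (hNQ hn.1) _ (hkk q q.2).1
            have e2 : x ^ j * kk q = kk q * x ^ j := by rw [← hi, ← zpow_add, ← zpow_add, add_comm]
            have e3 : n * x ^ j * kk q * (n * x ^ j)⁻¹ = kk q := by
              rw [mul_inv_eq_iff_eq_mul, mul_assoc, e2, ← mul_assoc, e1, mul_assoc]
            calc n * x ^ j * (nn q * kk q) * (n * x ^ j)⁻¹
                = (n * x ^ j * nn q * (n * x ^ j)⁻¹) * (n * x ^ j * kk q * (n * x ^ j)⁻¹) := by group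
              _ = _ := by rw [e3]))
        (lt_of_not_ge fun hge => hne (eq_of_le_of_card_ge hNQ hge).symm)
      exact hN1 (le_bot_iff.mp (hKN ▸ le_inf (hmin K hKn hK1) le_rfl))
    have hFN : F = N := hFeq.trans hQN
    refine ⟨⟨hFne, fun K hK hK1 => hFN.le.trans (hmin K hK hK1)⟩, ?_, fun h => absurd (by rw [show Cfsg.generalizedFittingSubgroup G = N from hFN]; exact hNcomm) h⟩
    obtain ⟨x, hxP, hx⟩ := hNgen
    refine isCyclic_iff_exists_zpowers_eq_top.mpr ⟨⟨_, mem_map_of_mem _ hxP⟩, ?_⟩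
    rw [eq_top_iff]
    rintro ⟨_, a, ha, rfl⟩ -
    obtain ⟨n, hn, j, rfl⟩ := hx a ha
    refine mem_zpowers_iff.mpr ⟨j, Subtype.ext ?_⟩
    show (QuotientGroup.mk x : G ⧸ F) ^ j = QuotientGroup.mk (n * x ^ j)
    rw [QuotientGroup.mk_mul, (QuotientGroup.eq_one_iff n).mpr (hFN ▸ hn.1), one_mul,
      QuotientGroup.mk_zpow]
  · -- the non-abelian case
    have hQ1 : Q = ⊥ := by
      by_contra hQ1
      have hNQ := hmin Q hQn hQ1
      exact hNcomm ⟨⟨fun a b => Subtype.ext (hQcomm a (hNQ a.2) b (hNQ b.2))⟩⟩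
    have hcomp : ∀ L : Subgroup G, Cfsg.IsComponent L → L ≤ N := by
      intro L hL
      refine (CfsgLib.Components.IsComponent.le_or_commutator_eq_bot_of_normal hL N).resolve_right
        fun h => hNcomm ?_
      have h1 := commutator_eq_bot_iff_le_centralizer.mp h
      have : (centralizer (N : Set G)).Normal := inferInstance
      have h2 : N ≤ normalClosure (L : Set G) := hmin _ inferInstance fun h3 => by
        exact CfsgLib.Components.IsComponent.ne_bot hL
          (le_bot_iff.mp (fun x hx => h3 ▸ subset_normalClosure hx))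
      have h3 : N ≤ centralizer (N : Set G) :=
        h2.trans (normalClosure_le_normal h1)
      exact ⟨⟨fun a b => Subtype.ext (mem_centralizer_iff.mp (h3 b.2) a a.2)⟩⟩
    have hFN : F = N := by
      refine le_antisymm ?_ (hmin F hFn hFne)
      rw [hF, Cfsg.generalizedFittingSubgroup, hFQ, hQ1, sup_bot_eq]
      exact sSup_le fun L hL => hcomp L hL
    refine ⟨⟨hFne, fun K hK hK1 => hFN.le.trans (hmin K hK hK1)⟩, ?_, fun _ K L hK hL => ?_⟩
    · obtain ⟨x, hxP, hx⟩ := hNgen
      refine isCyclic_iff_exists_zpowers_eq_top.mpr ⟨⟨_, mem_map_of_mem _ hxP⟩, ?_⟩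
      rw [eq_top_iff]
      rintro ⟨_, a, ha, rfl⟩ -
      obtain ⟨n, hn, j, rfl⟩ := hx a ha
      refine mem_zpowers_iff.mpr ⟨j, Subtype.ext ?_⟩
      show (QuotientGroup.mk x : G ⧸ F) ^ j = QuotientGroup.mk (n * x ^ j)
      rw [QuotientGroup.mk_mul, (QuotientGroup.eq_one_iff n).mpr (hFN ▸ hn.1), one_mul,
        QuotientGroup.mk_zpow]
    by_contra hno
    set S₁ := {M : Subgroup G | ∃ x ∈ (P : Subgroup G), M = K.map (MulAut.conj x).toMonoidHom}
    set S₂ := {M : Subgroup G | Cfsg.IsComponent M ∧ M ∉ S₁}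
    have hS₁c : ∀ M ∈ S₁, Cfsg.IsComponent M := by
      rintro M ⟨x, -, rfl⟩
      exact CfsgLib.Components.IsComponent.conj hK x
    have hS₂c : ∀ M ∈ S₂, Cfsg.IsComponent M := fun M hM => hM.1
    have hK₁ : K ∈ S₁ := ⟨1, one_mem _, by
      ext z; simp⟩
    have hL₂ : L ∈ S₂ := ⟨hL, hno⟩
    have hconj : ∀ x y : G, ∀ M : Subgroup G,
        (M.map (MulAut.conj y).toMonoidHom).map (MulAut.conj x).toMonoidHom =
          M.map (MulAut.conj (x * y)).toMonoidHom := by
      intro x y M
      rw [map_map]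
      congr 1
      ext z
      simp [mul_assoc]
    have hS₁P : ∀ x ∈ (P : Subgroup G), ∀ M ∈ S₁, M.map (MulAut.conj x).toMonoidHom ∈ S₁ := by
      rintro x hx _ ⟨y, hy, rfl⟩
      exact ⟨x * y, mul_mem hx hy, hconj x y K⟩
    have hS₂P : ∀ x ∈ (P : Subgroup G), ∀ M ∈ S₂, M.map (MulAut.conj x).toMonoidHom ∈ S₂ := by
      intro x hx M hM
      refine ⟨CfsgLib.Components.IsComponent.conj hM.1 x, fun h => hM.2 ?_⟩
      have h1 := hS₁P x⁻¹ (inv_mem hx) _ h
      rw [hconj, inv_mul_cancel] at h1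
      convert h1 using 1
      ext z; simp
    have hnorm : ∀ S : Set (Subgroup G), (∀ x ∈ (P : Subgroup G), ∀ M ∈ S,
        M.map (MulAut.conj x).toMonoidHom ∈ S) →
        (P : Subgroup G) ≤ normalizer ((sSup S : Subgroup G) : Set G) := by
      intro S hS x hx
      have key : ∀ x ∈ (P : Subgroup G), ∀ z ∈ sSup S, x * z * x⁻¹ ∈ sSup S := by
        intro x hx z hz
        have h1 : sSup S ≤ (sSup S).comap (MulAut.conj x).toMonoidHom :=
          sSup_le fun M hM => map_le_iff_le_comap.mp (le_sSup (hS x hx M hM))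
        exact h1 hz
      rw [mem_normalizer_iff]
      exact fun z => ⟨key x hx z, fun h => by
        simpa [mul_assoc] using key x⁻¹ (inv_mem hx) _ h⟩
    have hbig : ∀ S : Set (Subgroup G), (∀ M ∈ S, Cfsg.IsComponent M) →
        (P : Subgroup G) ≤ normalizer ((sSup S : Subgroup G) : Set G) → (∃ M, M ∈ S) →
        ¬ sSup S ⊓ (P : Subgroup G) ≤ Φ := by
      rintro S hS hnP ⟨M, hM⟩ h
      have hnpc := npc_of_le_normalizer P (sSup S) hnP h
      have hperf : Group.IsPerfect ↥(sSup S) :=
        CfsgLib.Components.isPerfect_sSup fun M hM => (hS M hM).2.1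
      set E := sSup S with hE
      have htop : Cfsg.pResidual p E = ⊤ := by
        have h2 := CfsgLib.Fusion.Basic.isPGroup_quotient_pResidual (G := E) (p := p)
        have : Group.IsNilpotent (E ⧸ Cfsg.pResidual p E) := h2.isNilpotent
        have h4 : Group.IsSolvable (E ⧸ Cfsg.pResidual p E) := inferInstance
        by_contra hne
        have : Nontrivial (E ⧸ Cfsg.pResidual p E) := QuotientGroup.nontrivial_iff.mpr hne
        refine (Group.IsSolvable.commutator_lt_top_of_nontrivial
          (E ⧸ Cfsg.pResidual p E)).ne ?_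
        rw [_root_.commutator_def, ← map_top_of_surjective _ (QuotientGroup.mk'_surjective _),
          ← map_commutator, ← _root_.commutator_def, hperf.commutator_eq_top]
      have hc : (Nat.card E).Coprime p := by
        have := CfsgLib.Fusion.Basic.npc_iff_coprime.mp hnpc
        rwa [htop, card_top] at this
      have hsn : E.IsSubnormal := by
        have hle : E ≤ Cfsg.layer G :=
          sSup_le fun M hM => CfsgLib.Components.IsComponent.le_layer (hS M hM)
        have hnl : Cfsg.layer G ≤ normalizer (E : Set G) := by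
          refine sSup_le fun C hC => ?_
          intro c hc'
          have key : ∀ c ∈ C, ∀ z ∈ E, c * z * c⁻¹ ∈ E := by
            intro c hc' z hz
            have h1 : E ≤ E.comap (MulAut.conj c).toMonoidHom :=
              sSup_le fun M hM w hw => le_sSup hM ((mem_normalizer_iff.mp
                (CfsgLib.Components.IsComponent.le_normalizer hC (hS M hM) hc') w).mp hw)
            exact h1 hz
          rw [mem_normalizer_iff]
          exact fun z => ⟨key c hc' z, fun h => by
            simpa [mul_assoc] using key c⁻¹ (inv_mem hc') _ h⟩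
        exact IsSubnormal.trans hle
          (Normal.isSubnormal ((normal_subgroupOf_iff_le_normalizer hle).mpr hnl))
          (Normal.isSubnormal inferInstance)
      have h5 := CfsgLib.Components.le_pPrimeCore_of_subnormal hsn hc
      rw [hcore] at h5
      exact CfsgLib.Components.IsComponent.ne_bot (hS M hM)
        (le_bot_iff.mp ((le_sSup hM).trans h5))
    refine hna (commutative_of_two P hgen (sSup S₁) (sSup S₂) (hnorm _ hS₁P) (hnorm _ hS₂P)
      (hbig _ hS₁c (hnorm _ hS₁P) ⟨K, hK₁⟩) (hbig _ hS₂c (hnorm _ hS₂P) ⟨L, hL₂⟩) ?_)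
    have h12 : ∀ M ∈ S₁, ∀ M' ∈ S₂, M ≤ centralizer (M' : Set G) := fun M hM M' hM' =>
      CfsgLib.Components.IsComponent.le_centralizer_of_ne (hS₁c M hM) hM'.1
        fun e => hM'.2 (e ▸ hM)
    have h12' : sSup S₁ ≤ centralizer ((sSup S₂ : Subgroup G) : Set G) :=
      le_centralizer_iff.mp (sSup_le fun M' hM' =>
        le_centralizer_iff.mp (sSup_le fun M hM => h12 M hM M' hM'))
    have hZ : N ⊓ centralizer (N : Set G) = ⊥ := by
      by_contra hne
      have h1 := hNsub _ (Subgroup.normal_inf_normal _ _) inf_le_left hne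
      exact hNcomm ⟨⟨fun a b => Subtype.ext
        (mem_centralizer_iff.mp ((inf_eq_left.mp h1) b.2) a a.2)⟩⟩
    rw [eq_bot_iff, ← hZ]
    have hle1 : sSup S₁ ≤ N := sSup_le fun M hM => hcomp M (hS₁c M hM)
    refine le_inf (inf_le_left.trans hle1) ?_
    have hNE : N ≤ Cfsg.layer G := by
      rw [← hFN, hF, Cfsg.generalizedFittingSubgroup, hFQ, hQ1, sup_bot_eq]
    refine le_centralizer_iff.mp (hNE.trans (sSup_le fun C hC => ?_))
    rw [← le_centralizer_iff]
    by_cases hC1 : C ∈ S₁
    · exact inf_le_right.trans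
        ((le_centralizer_iff.mp h12').trans (centralizer_le (le_sSup hC1 : C ≤ sSup S₁)))
    · exact inf_le_left.trans (h12'.trans (centralizer_le (le_sSup (show C ∈ S₂ from ⟨hC, hC1⟩) : C ≤ sSup S₂)))

end Cfsg.Agent.S4172
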