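import Cfsg.Statements.S4177
import Mathlib

set_option autoImplicit false
open Cfsg

namespace Cfsg.Agent.S4177

/-- Let k be a field whose characteristic does not divide the order of the finite group H (for instance a field of characteristic zero), and ρ a k-linear representation of H on V. Let a be a vector whose H-orbit spans V. Then the space of H-fixed vectors has dimension at most 1, and every vector b whose H-orbit has size coprime to the size of the orbit of a is fixed by H. -/
theorem result {k V H : Type*} [Field k] [AddCommGroup V] [Module k V] [Group H] [Finite H]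
    (hchar : ¬ ringChar k ∣ Nat.card H) (ρ : Representation k H V) (a : V)
    (hspan : Submodule.span k {u : V | ∃ h : H, ρ h a = u} = ⊤) :
    Module.finrank k ρ.invariants ≤ 1 ∧
    ∀ b : V, (Nat.card {u : V | ∃ h : H, ρ h a = u}).Coprime (Nat.card {u : V | ∃ h : H, ρ h b = u}) → ∀ h : H, ρ h b = b := by
  classical
  have := Fintype.ofFinite H
  have hn : (Nat.card H : k) ≠ 0 := by rwa [ne_eq, ringChar.spec]
  have hmul : ∀ (g h : H) (v : V), ρ (g * h) v = ρ g (ρ h v) := fun g h v => by rw [map_mul]; rfl
  set S : V := ∑ h : H, ρ h a with hS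
  have hSx : ∀ x : H, ∑ h : H, ρ (h * x) a = S := fun x =>
    Fintype.sum_equiv (Equiv.mulRight x) _ _ (fun h => rfl)
  have hSinv : ∀ g : H, ρ g S = S := by
    intro g
    rw [hS, map_sum]
    exact Fintype.sum_equiv (Equiv.mulLeft g) _ _ (fun h => (hmul g h a).symm)
  have hspanS : ∀ v : V, ∑ h : H, ρ h v ∈ Submodule.span k {S} := by
    intro v
    have hle : Submodule.span k {u : V | ∃ h : H, ρ h a = u} ≤
        (Submodule.span k {S}).comap (∑ h : H, ρ h) := by
      rw [Submodule.span_le]
      rintro _ ⟨x, rfl⟩
      simp only [SetLike.mem_coe, Submodule.mem_comap, LinearMap.coe_sum, Finset.sum_apply, ← hmul]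
      rw [hSx x]
      exact Submodule.mem_span_singleton_self S
    have := hle (hspan ▸ Submodule.mem_top : v ∈ _)
    simpa [LinearMap.coe_sum] using this
  have hfixed : ∀ v : V, (∀ h, ρ h v = v) → v ∈ Submodule.span k {S} := by
    intro v hv
    have := hspanS v
    simp only [hv, Finset.sum_const, Finset.card_univ, ← Nat.card_eq_fintype_card,
      ← Nat.cast_smul_eq_nsmul k] at this
    have h2 := Submodule.smul_mem _ (Nat.card H : k)⁻¹ this
    rwa [smul_smul, inv_mul_cancel₀ hn, one_smul] at h2
  refine ⟨?_, ?_⟩
  · have hle : ρ.invariants ≤ Submodule.span k {S} := fun v hv =>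
      hfixed v ((Representation.mem_invariants ρ v).1 hv)
    exact (Submodule.finrank_mono hle).trans (finrank_span_le_card {S} |>.trans (by simp))
  · intro b hcop h₀
    letI : MulAction H V :=
      { smul := fun h v => ρ h v
        one_smul := fun v => by show ρ 1 v = v; rw [map_one]; rfl
        mul_smul := fun g h v => hmul g h v }
    set A := MulAction.stabilizer H a with hA
    set C := MulAction.stabilizer H b with hC
    have hidx : ∀ v : V, (MulAction.stabilizer H v).index = Nat.card {u : V | ∃ h : H, ρ h v = u} := by
      intro v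
      rw [MulAction.index_stabilizer, ← Nat.card_coe_set_eq]
      rfl
    have hc : A.index.Coprime C.index := by rw [hA, hC, hidx, hidx]; exact hcop
    have hrel : A.index ≤ A.relIndex C := by
      have h1 : (A ⊓ C).index = A.relIndex C * C.index := by
        rw [← Subgroup.inf_relIndex_right, Subgroup.relIndex_mul_index inf_le_right]
      refine Nat.le_of_dvd (Nat.pos_of_ne_zero ?_) (hc.dvd_of_dvd_mul_right ?_)
      · exact Nat.card_pos.ne'
      · rw [← h1]; exact Subgroup.index_dvd_of_le inf_le_left
    let e : C ⧸ A.subgroupOf C → H ⧸ A :=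
      Quotient.map' (fun c => (c : H)) (fun c d h => by
        rw [QuotientGroup.leftRel_apply] at h ⊢
        exact h)
    have he : Function.Injective e := by
      intro u v
      induction u using QuotientGroup.induction_on with
      | H c =>
        induction v using QuotientGroup.induction_on with
        | H d =>
          intro h
          rw [QuotientGroup.eq]
          show ((c : H))⁻¹ * (d : H) ∈ A
          exact QuotientGroup.eq.1 (show (QuotientGroup.mk (c : H) : H ⧸ A) = QuotientGroup.mk (d : H) from h)
    have hbij := (Nat.bijective_iff_injective_and_card e).2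
      ⟨he, le_antisymm (Nat.card_le_card_of_injective e he) hrel⟩
    have htrans : ∀ h : H, ∃ c : H, ρ c b = b ∧ ρ h a = ρ c a := by
      intro h
      obtain ⟨u, hu⟩ := hbij.2 (QuotientGroup.mk h)
      induction u using QuotientGroup.induction_on with
      | H c =>
        refine ⟨c, c.2, ?_⟩
        have h2 : ρ ((c : H)⁻¹ * h) a = a := QuotientGroup.eq.1 hu
        calc ρ h a = ρ (c * ((c : H)⁻¹ * h)) a := by rw [mul_inv_cancel_left]
          _ = ρ c a := by rw [hmul, h2]
    set T : V := ∑ c : C, ρ c a with hT
    have hTC : ∀ h : H, ∑ c : C, ρ c (ρ h a) = T := by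
      intro h
      obtain ⟨c₀, hc₀, hca⟩ := htrans h
      simp only [hca, ← hmul]
      exact Fintype.sum_equiv (Equiv.mulRight (⟨c₀, hc₀⟩ : C)) _ _ (fun c => rfl)
    have hTS : (Nat.card H : k) • T = (Nat.card C : k) • S := by
      have h1 : ∑ h : H, ∑ c : C, ρ c (ρ h a) = (Nat.card H : k) • T := by
        simp only [hTC, Finset.sum_const, Finset.card_univ, ← Nat.card_eq_fintype_card, Nat.cast_smul_eq_nsmul]
      rw [← h1, Finset.sum_comm]
      simp only [← map_sum, ← hS, hSinv, Finset.sum_const, Finset.card_univ,
        ← Nat.card_eq_fintype_card, Nat.cast_smul_eq_nsmul]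
    have hCb : (Nat.card C : k) • b ∈ Submodule.span k {S} := by
      have hle : Submodule.span k {u : V | ∃ h : H, ρ h a = u} ≤
          (Submodule.span k {S}).comap (∑ c : C, ρ c) := by
        rw [Submodule.span_le]
        rintro _ ⟨x, rfl⟩
        simp only [SetLike.mem_coe, Submodule.mem_comap, LinearMap.coe_sum, Finset.sum_apply, hTC]
        rw [← inv_smul_smul₀ hn T, hTS]
        exact Submodule.smul_mem _ _ (Submodule.smul_mem _ _ (Submodule.mem_span_singleton_self S))
      have := hle (hspan ▸ Submodule.mem_top : b ∈ _)
      simp only [Submodule.mem_comap, LinearMap.coe_sum, Finset.sum_apply] at this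
      have hb : ∀ c : C, ρ c b = b := fun c => c.2
      simpa only [hb, Finset.sum_const, Finset.card_univ, ← Nat.card_eq_fintype_card,
        ← Nat.cast_smul_eq_nsmul k] using this
    have hC0 : (Nat.card C : k) ≠ 0 := by
      intro h
      apply hn
      rw [← C.card_mul_index, Nat.cast_mul, h, zero_mul]
    have hb : b ∈ Submodule.span k {S} := by
      have h2 := Submodule.smul_mem _ (Nat.card C : k)⁻¹ hCb
      rwa [smul_smul, inv_mul_cancel₀ hC0, one_smul] at h2
    obtain ⟨t, rfl⟩ := Submodule.mem_span_singleton.1 hb
    rw [map_smul, hSinv]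

end Cfsg.Agent.S4177
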