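import Cfsg.Statements.S4178


set_option autoImplicit false
open Cfsg

namespace Cfsg.Agent.S4178

/-- Let F be a finite field with q elements, V a non-zero finite-dimensional F-space of dimension d, H a group of invertible linear maps of V, and R the subgroup of H generated by the elements of H that fix some non-zero vector (have eigenvalue 1). Then the index of R in H is at most q^d − 1; and if H leaves invariant some proper non-zero subspace, the index is at most q^(d/2) − 1. -/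
theorem result {F V : Type*} [Field F] [Fintype F] [AddCommGroup V] [Module F V] [FiniteDimensional F V] [Nontrivial V]
    (H : Subgroup (V ≃ₗ[F] V)) :
    (Subgroup.closure {h : ↥H | ∃ v : V, v ≠ 0 ∧ (h : V ≃ₗ[F] V) v = v}).index ≤ Fintype.card F ^ Module.finrank F V - 1 ∧
    ((∃ W : Submodule F V, W ≠ ⊥ ∧ W ≠ ⊤ ∧ ∀ h ∈ H, ∀ w ∈ W, h w ∈ W) →
      ((Subgroup.closure {h : ↥H | ∃ v : V, v ≠ 0 ∧ (h : V ≃ₗ[F] V) v = v}).index : ℝ) ≤ Real.sqrt ((Fintype.card F : ℝ) ^ Module.finrank F V) - 1) := by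
  classical
  set R := Subgroup.closure {h : ↥H | ∃ v : V, v ≠ 0 ∧ (h : V ≃ₗ[F] V) v = v} with hR
  have hfix : ∀ h : ↥H, (∃ v : V, v ≠ 0 ∧ (h : V ≃ₗ[F] V) v = v) → h ∈ R :=
    fun h hh => Subgroup.subset_closure hh
  have : Finite V := Module.finite_of_finite F
  have hcard : ∀ (W : Type _) [AddCommGroup W] [Module F W] [Finite W],
      Nat.card {w : W // w ≠ 0} = Fintype.card F ^ Module.finrank F W - 1 := by
    intro W _ _ _
    have := Fintype.ofFinite W
    have := Module.Finite.of_finite (R := F) (M := W)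
    rw [Nat.card_eq_fintype_card, Fintype.card_subtype_compl, Fintype.card_subtype_eq,
      Module.card_eq_pow_finrank (K := F) (V := W)]
  have bound : ∀ (W : Type _) [AddCommGroup W] [Module F W] [Finite W]
      (f : ↥H → W → W) (w : W), w ≠ 0 →
      (∀ h, f h w ≠ 0) → (∀ g h, f g w = f h w → g⁻¹ * h ∈ R) →
      R.index ≤ Fintype.card F ^ Module.finrank F W - 1 := by
    intro W _ _ _ f w _ hne hinj
    rw [← hcard W, Subgroup.index]
    refine Nat.card_le_card_of_injective
      (fun c : ↥H ⧸ R => (⟨f c.out w, hne _⟩ : {x : W // x ≠ 0})) ?_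
    intro c d hcd
    have := hinj _ _ (congrArg Subtype.val hcd)
    rw [← QuotientGroup.eq, QuotientGroup.out_eq', QuotientGroup.out_eq'] at this
    exact this
  obtain ⟨v, hv⟩ := exists_ne (0 : V)
  have hmul : ∀ (g h : ↥H) (x : V), ((g⁻¹ * h : ↥H) : V ≃ₗ[F] V) x =
      (g : V ≃ₗ[F] V).symm ((h : V ≃ₗ[F] V) x) := fun g h x => rfl
  refine ⟨bound V (fun h x => (h : V ≃ₗ[F] V) x) v hv ?_ ?_, ?_⟩
  · intro h he
    exact hv ((LinearEquiv.map_eq_zero_iff _).1 he)
  · intro g h hgh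
    refine hfix _ ⟨v, hv, ?_⟩
    rw [hmul, LinearEquiv.symm_apply_eq]
    exact hgh.symm
  rintro ⟨W, hWb, hWt, hWinv⟩
  have hWinv' : ∀ (g : ↥H) (x : V), (g : V ≃ₗ[F] V) x ∈ W ↔ x ∈ W := by
    intro g x
    refine ⟨fun hx => ?_, hWinv g g.2 x⟩
    have := hWinv _ (g⁻¹).2 _ hx
    rwa [show ((g⁻¹ : ↥H) : V ≃ₗ[F] V) ((g : V ≃ₗ[F] V) x) = x from
      (g : V ≃ₗ[F] V).symm_apply_apply x] at this
  obtain ⟨w, hw, hw0⟩ := W.ne_bot_iff.1 hWb
  have h1 : R.index ≤ Fintype.card F ^ Module.finrank F W - 1 := by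
    refine bound W (fun h x => ⟨(h : V ≃ₗ[F] V) x, hWinv h h.2 x x.2⟩) ⟨w, hw⟩
      (fun he => hw0 (congrArg Subtype.val he)) ?_ ?_
    · intro h he
      exact hw0 ((LinearEquiv.map_eq_zero_iff _).1 (congrArg Subtype.val he))
    · intro g h hgh
      refine hfix _ ⟨w, hw0, ?_⟩
      rw [hmul, LinearEquiv.symm_apply_eq]
      exact (congrArg Subtype.val hgh).symm
  obtain ⟨u, hu⟩ : ∃ u, u ∉ W := by
    by_contra h
    push Not at h
    exact hWt (eq_top_iff.2 fun x _ => h x)
  have : Finite (V ⧸ W) := Finite.of_surjective W.mkQ W.mkQ_surjective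
  have h2 : R.index ≤ Fintype.card F ^ Module.finrank F (V ⧸ W) - 1 := by
    let q : ↥H → (V ⧸ W) → (V ⧸ W) := fun h x => W.mapQ W ((h : V ≃ₗ[F] V) : V →ₗ[F] V)
      (fun y hy => hWinv h h.2 y hy) x
    refine bound (V ⧸ W) q (W.mkQ u) (fun he => hu ((Submodule.Quotient.mk_eq_zero W).1 he)) ?_ ?_
    · intro h he
      exact hu ((hWinv' h u).1 ((Submodule.Quotient.mk_eq_zero W).1 he))
    · intro g h hgh
      have hd : (g : V ≃ₗ[F] V) u - (h : V ≃ₗ[F] V) u ∈ W := (Submodule.Quotient.eq W).1 hgh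
      let L : V →ₗ[F] V := (((g⁻¹ * h : ↥H) : V ≃ₗ[F] V) : V →ₗ[F] V) - LinearMap.id
      have hLW : L u ∈ W := by
        have : (g : V ≃ₗ[F] V) (L u) = -((g : V ≃ₗ[F] V) u - (h : V ≃ₗ[F] V) u) := by
          simp [L, hmul]
        rw [← hWinv' g, this]
        exact W.neg_mem hd
      apply hfix
      have hnsurj : ¬ Function.Injective L := by
        intro hi
        have hs := LinearMap.surjective_of_injective hi
        have hres : W.map L ≤ W := by
          rintro _ ⟨x, hx, rfl⟩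
          exact W.sub_mem (hWinv _ (g⁻¹ * h).2 x hx) hx
        have heq : W.map L = W := Submodule.eq_of_le_of_finrank_eq hres
          (LinearEquiv.finrank_eq (Submodule.equivMapOfInjective L hi W).symm)
        rw [← heq] at hLW
        obtain ⟨x, hx, hxu⟩ := hLW
        exact hu (hi hxu ▸ hx)
      rw [← LinearMap.ker_eq_bot] at hnsurj
      obtain ⟨x, hx, hx0⟩ := (Submodule.ne_bot_iff _).1 hnsurj
      exact ⟨x, hx0, sub_eq_zero.1 hx⟩
  have hsum := W.finrank_quotient_add_finrank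
  have hq : 1 ≤ Fintype.card F := Fintype.card_pos
  have key : R.index ^ 2 + 2 * R.index + 1 ≤ Fintype.card F ^ Module.finrank F V := by
    have a := Nat.le_sub_iff_add_le (Nat.one_le_pow _ _ hq) |>.1 h1
    have b := Nat.le_sub_iff_add_le (Nat.one_le_pow _ _ hq) |>.1 h2
    calc R.index ^ 2 + 2 * R.index + 1 = (R.index + 1) * (R.index + 1) := by ring
      _ ≤ _ := by rw [← hsum, pow_add]; exact Nat.mul_le_mul b a
  rw [le_sub_iff_add_le]
  apply Real.le_sqrt_of_sq_le
  have key' := (Nat.cast_le (α := ℝ)).2 key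
  push_cast at key'
  nlinarith

end Cfsg.Agent.S4178
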