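import Cfsg.Statements.S4181
import Cfsg.Agent.Lib.Perm.SylowFix.Apply

set_option autoImplicit false
open Cfsg

namespace Cfsg.Agent.S4181

/-- Let p be a prime and G a finite group generated by its elements of p-power order, and let H be a proper subgroup of G containing a Sylow p-subgroup of G. Then 2p − 1 times the number of Sylow p-subgroups of H is at most p − 1 times the number of Sylow p-subgroups of G. -/
theorem result {G : Type*} [Group G] [Finite G] (p : ℕ) [Fact p.Prime] (hgen : Subgroup.closure {g : G | ∃ k : ℕ, orderOf g = p ^ k} = ⊤)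
    (H : Subgroup G) (hH : H ≠ ⊤) (P : Sylow p G) (hP : (P : Subgroup G) ≤ H) :
    (2 * p - 1) * Nat.card (Sylow p ↥H) ≤ (p - 1) * Nat.card (Sylow p G) := by
  have hgen' : CfsgLib.Perm.SylowFix.IsPGen p G := hgen
  set N := Subgroup.normalizer ((P : Subgroup G) : Set G) with hN
  set a : G ⧸ H := ((1 : G) : G ⧸ H)
  have hsta : MulAction.stabilizer G a = H := MulAction.stabilizer_quotient H
  have ha : a ∈ CfsgLib.Perm.SylowFix.fixSet ((P : Subgroup G) : Set G) (G ⧸ H) := fun x hx => by
    have : x ∈ MulAction.stabilizer G a := hsta.symm ▸ hP hx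
    exact this
  have horb : MulAction.orbit N a =
      CfsgLib.Perm.SylowFix.fixSet ((P : Subgroup G) : Set G) (G ⧸ H) := by
    ext b
    constructor
    · rintro ⟨⟨g, hg⟩, rfl⟩ z hz
      show z • g • a = g • a
      have : g⁻¹ * z * g ∈ (P : Subgroup G) := by
        have := (Subgroup.mem_normalizer_iff.1 (inv_mem hg) z).1 hz
        rw [inv_inv] at this
        exact this
      rw [show z • g • a = g • (g⁻¹ * z * g) • a by simp only [← mul_smul]; group, ha _ this]
    · intro hb
      obtain ⟨g, hg, rfl⟩ := CfsgLib.Perm.SylowFix.exists_normalizer_smul_eq P ha hb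
      exact ⟨⟨g, hg⟩, rfl⟩
  have hst : MulAction.stabilizer N a = H.subgroupOf N := by
    ext g
    rw [Subgroup.mem_subgroupOf, MulAction.mem_stabilizer_iff]
    exact ⟨fun h => hsta ▸ (show (g : G) ∈ MulAction.stabilizer G a from h), fun h => by
      have : (g : G) ∈ MulAction.stabilizer G a := hsta.symm ▸ h
      exact this⟩
  have hf : CfsgLib.Perm.SylowFix.fn (P : Subgroup G) (G ⧸ H) = H.relIndex N := by
    rw [CfsgLib.Perm.SylowFix.fn, ← horb, ← MulAction.index_stabilizer, hst]
    rfl
  have hNH : Subgroup.normalizer ((P.subtype hP : Sylow p H) : Set H) =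
      N.subgroupOf H := by
    ext g
    simp only [Subgroup.mem_subgroupOf, hN, Subgroup.mem_normalizer_iff]
    constructor
    · intro h x
      constructor
      · intro hx
        exact (h ⟨x, hP hx⟩).1 hx
      · intro hx
        have hxH : x ∈ H := by
          have := H.mul_mem (H.mul_mem (H.inv_mem g.2) (hP hx)) g.2
          simpa [mul_assoc] using this
        exact (h ⟨x, hxH⟩).2 hx
    · exact fun h x => h (x : G)
  have hGp : Nat.card (Sylow p G) = N.index := P.card_eq_index_normalizer
  have hHp : Nat.card (Sylow p H) = N.relIndex H := by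
    rw [(P.subtype hP).card_eq_index_normalizer, hNH]
    rfl
  have hn : 1 < H.index := Subgroup.one_lt_index_of_ne_top hH
  have hb : (2 * p - 1) * H.relIndex N ≤ (p - 1) * H.index :=
    hf ▸ CfsgLib.Perm.SylowFix.fn_bound (Ω := G ⧸ H) hn hgen' P
  have hprod : H.relIndex N * N.index = N.relIndex H * H.index := by
    rw [← Subgroup.inf_relIndex_right H N, ← Subgroup.inf_relIndex_right N H,
      Subgroup.relIndex_mul_index inf_le_right, Subgroup.relIndex_mul_index inf_le_right, inf_comm]
  have hpos : 0 < H.relIndex N := by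
    rw [← hf]
    exact (Set.ncard_pos (Set.toFinite _)).2 ⟨a, ha⟩
  rw [hGp, hHp]
  refine Nat.le_of_mul_le_mul_right ?_ hpos
  calc (2 * p - 1) * N.relIndex H * H.relIndex N
      = ((2 * p - 1) * H.relIndex N) * N.relIndex H := by ring
    _ ≤ ((p - 1) * H.index) * N.relIndex H := Nat.mul_le_mul_right _ hb
    _ = (p - 1) * (N.relIndex H * H.index) := by ring
    _ = (p - 1) * N.index * H.relIndex N := by rw [← hprod]; ring

end Cfsg.Agent.S4181
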