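import Cfsg.Statements.S4182


set_option autoImplicit false
open Cfsg
open Subgroup

namespace Cfsg.Agent.S4182

universe u

variable {G : Type*} [Group G] {p : ℕ}

/-- `g` has `p`-power order. -/
def PEl (p : ℕ) (g : G) : Prop := ∃ k : ℕ, orderOf g = p ^ k

lemma mem_of_pow_mem [Fact p.Prime] {K : Subgroup G} {x : G} (hx : PEl p x) {d : ℕ}
    (hd : 0 < d) (hdp : d < p) (h : x ^ d ∈ K) : x ∈ K := by
  obtain ⟨k, hk⟩ := hx
  have hc : d.Coprime (orderOf x) := by
    rw [hk]
    exact (((Fact.out : p.Prime).coprime_iff_not_dvd.2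
      (Nat.not_dvd_of_pos_of_lt hd hdp)).symm).pow_right k
  obtain ⟨n, hn⟩ := exists_pow_eq_self_of_coprime hc
  exact hn ▸ pow_mem h n

/-- In an irredundant covering of the `p`-elements by few subgroups, a member containing a pure
element `y` contains a normal subgroup through `y`, whose index is a power of `p`. -/
lemma exists_normal [Finite G] [Fact p.Prime] {t : Finset (Subgroup G)} (hcard : t.card ≤ p)
    (hcov : ∀ g : G, PEl p g → ∃ K ∈ t, g ∈ K)
    (hprop : ∀ a b : G, PEl p a → PEl p b → closure {a, b} ≠ ⊤ → ∃ K ∈ t, a ∈ K ∧ b ∈ K)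
    {Ka Kb : Subgroup G} (ha : Ka ∈ t) (hb : Kb ∈ t) (hab : Ka ≠ Kb) (hKb : Kb ≠ ⊤) {x y : G}
    (hx : PEl p x) (hy : PEl p y) (hxa : x ∈ Ka) (hyb : y ∈ Kb)
    (hxp : ∀ L ∈ t, x ∈ L → L = Ka) (hyp : ∀ L ∈ t, y ∈ L → L = Kb) :
    ∃ N : Subgroup G, N.Normal ∧ N ≤ Kb ∧ y ∈ N ∧ ∃ k : ℕ, N.index ∣ p ^ k := by
  classical
  let c : ℤ → G := fun i => x ^ i * y * (x ^ i)⁻¹
  have hpel : ∀ i, PEl p (c i) := fun i => by
    obtain ⟨k, hk⟩ := hy
    exact ⟨k, by rw [← hk]; exact (MulAut.conj (x ^ i)).orderOf_eq y⟩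
  have hcadd : ∀ i j, c (i + j) = x ^ i * c j * (x ^ i)⁻¹ := fun i j => by
    simp only [c, zpow_add]; group
  have hc0 : c 0 = y := by simp [c]
  have hca : ∀ i, c i ∉ Ka := fun i hi => hab (hyp Ka ha (by
    have h := Ka.mul_mem (Ka.mul_mem (Ka.inv_mem (Ka.zpow_mem hxa i)) hi) (Ka.zpow_mem hxa i)
    rwa [show (x ^ i)⁻¹ * c i * x ^ i = y by simp only [c]; group] at h))
  have hkey : ∀ i, closure {y, c i} ≠ ⊤ → c i ∈ Kb := fun i hi => by
    obtain ⟨L, hL, h1, h2⟩ := hprop y (c i) hy (hpel i) hi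
    exact hyp L hL h1 ▸ h2
  have hpair : ∀ i j, ∀ L ∈ t, L ≠ ⊤ → c i ∈ L → c j ∈ L → c (j - i) ∈ Kb := by
    intro i j L hL hLtop hi hj
    refine hkey _ fun htop => hLtop (top_le_iff.1 ?_)
    have h1 : (closure {y, c (j - i)}).map (MulAut.conj (x ^ i)).toMonoidHom ≤ L := by
      rw [MonoidHom.map_closure, closure_le]
      rintro _ ⟨w, hw | hw, rfl⟩
      · subst hw; exact hi
      · rw [Set.mem_singleton_iff] at hw
        subst hw
        show x ^ i * c (j - i) * (x ^ i)⁻¹ ∈ L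
        rwa [← hcadd, add_sub_cancel]
    rwa [htop, map_top_of_surjective _ (MulAut.conj (x ^ i)).surjective] at h1
  let A : AddSubgroup ℤ :=
    { carrier := {i | c i ∈ Kb}
      zero_mem' := by show c 0 ∈ Kb; rwa [hc0]
      add_mem' := fun {i j} hi hj => by
        show c (i + j) ∈ Kb
        have h1 : c (0 - i) ∈ Kb := hpair i 0 Kb hb hKb hi (hc0.symm ▸ hyb)
        have h2 := hpair (0 - i) j Kb hb hKb h1 hj
        rwa [show j - (0 - i) = i + j by ring] at h2
      neg_mem' := fun {i} hi => by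
        show c (-i) ∈ Kb
        have h1 := hpair i 0 Kb hb hKb hi (hc0.symm ▸ hyb)
        rwa [zero_sub] at h1 }
  -- two of the first `p` conjugates share a member
  choose l hl hlc using fun i : Fin p => hcov (c (i : ℕ)) (hpel _)
  have hlne : ∀ i, l i ∈ t.erase Ka := fun i =>
    Finset.mem_erase.2 ⟨fun h => hca _ (h ▸ hlc i), hl i⟩
  obtain ⟨i, j, hij, hlij⟩ := Fintype.exists_ne_map_eq_of_card_lt (fun i => (⟨l i, hlne i⟩ : ↥(t.erase Ka)))
    (by
      rw [Fintype.card_coe, Fintype.card_fin, Finset.card_erase_of_mem ha]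
      have := Finset.card_pos.2 ⟨Ka, ha⟩; omega)
  rw [Subtype.mk.injEq] at hlij
  obtain ⟨e, he⟩ := hx
  have hkeyd : ∃ d : ℕ, 0 < d ∧ d < p ∧ (d : ℤ) ∈ A := by
    have hnt : l i ≠ ⊤ := fun h => hca (i : ℕ) (by
      have := hxp (l i) (hl i) (h ▸ mem_top x)
      exact this ▸ hlc i)
    rcases Nat.lt_or_gt_of_ne (fun h => hij (Fin.ext h)) with h | h
    · refine ⟨j - i, by omega, by omega, ?_⟩
      show c _ ∈ Kb
      rw [Nat.cast_sub h.le]
      exact hpair i j _ (hl i) hnt (hlc i) (hlij ▸ hlc j)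
    · refine ⟨i - j, by omega, by omega, ?_⟩
      show c _ ∈ Kb
      rw [Nat.cast_sub h.le]
      exact hpair j i _ (hl i) hnt (hlij ▸ hlc j) (hlc i)
  obtain ⟨d, hd0, hdp, hdA⟩ := hkeyd
  have hpe : ((p ^ e : ℕ) : ℤ) ∈ A := by
    show c _ ∈ Kb
    simp only [c, zpow_natCast, ← he, pow_orderOf_eq_one, one_mul, inv_one, mul_one]
    exact hyb
  have hone : (1 : ℤ) ∈ A := by
    have hcop : d.Coprime (p ^ e) := (((Fact.out : p.Prime).coprime_iff_not_dvd.2
      (Nat.not_dvd_of_pos_of_lt hd0 hdp)).symm).pow_right e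
    have h := Nat.gcd_eq_gcd_ab d (p ^ e)
    rw [Nat.coprime_iff_gcd_eq_one.1 hcop] at h
    have h1 := A.add_mem (A.zsmul_mem hdA (Nat.gcdA d (p ^ e))) (A.zsmul_mem hpe (Nat.gcdB d (p ^ e)))
    rw [smul_eq_mul, smul_eq_mul, mul_comm, mul_comm (Nat.gcdB _ _), ← h] at h1
    exact_mod_cast h1
  have hall : ∀ i, c i ∈ Kb := fun i => by
    have := A.zsmul_mem hone i
    rwa [smul_eq_mul, mul_one] at this
  set N := closure (Set.range c) with hN
  have hNle : N ≤ Kb := (closure_le _).2 (Set.range_subset_iff.2 hall)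
  have hyN : y ∈ N := subset_closure ⟨0, hc0⟩
  have hgen : closure ({x, y} : Set G) = ⊤ := by
    by_contra h
    obtain ⟨L, hL, h1, h2⟩ := hprop x y ⟨e, he⟩ hy h
    exact hab ((hxp L hL h1).symm.trans (hyp L hL h2))
  have hxN : x ∈ normalizer (N : Set G) := by
    have h1 : N.map (MulAut.conj x).toMonoidHom = N := by
      rw [hN, MonoidHom.map_closure, ← Set.range_comp]
      congr 1
      have : (⇑(MulAut.conj x).toMonoidHom ∘ c) = c ∘ (Equiv.addLeft (1 : ℤ)) := funext fun i => by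
        show x * c i * x⁻¹ = c (1 + i)
        rw [hcadd, zpow_one]
      rw [this, (Equiv.addLeft (1 : ℤ)).surjective.range_comp]
    refine mem_normalizer_iff.2 fun g => ?_
    conv_rhs => rw [← h1]
    constructor
    · exact fun hg => mem_map_of_mem _ hg
    · rintro ⟨w, hw, hwg⟩
      rwa [← (MulAut.conj x).injective hwg]
  haveI hNn : N.Normal := normalizer_eq_top_iff.1 (top_le_iff.1 (hgen ▸ (closure_le _).2
    (by
      rintro g (rfl | hg)
      · exact hxN
      · rw [Set.mem_singleton_iff] at hg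
        exact hg ▸ le_normalizer hyN)))
  refine ⟨N, hNn, hNle, hyN, e, ?_⟩
  have hsup : zpowers x ⊔ N = ⊤ := top_le_iff.1 (hgen ▸ (closure_le _).2 (by
    rintro g (rfl | hg)
    · exact mem_sup_left (mem_zpowers g)
    · rw [Set.mem_singleton_iff] at hg
      exact mem_sup_right (hg ▸ hyN)))
  rw [← relIndex_top_right, ← hsup, relIndex_sup_right]
  exact (relIndex_dvd_card _ _).trans ((Nat.card_zpowers x).trans he).dvd

theorem key (p : ℕ) [Fact p.Prime] : ∀ (n : ℕ) (G : Type u) [Group G] [Finite G], Nat.card G ≤ n →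
    ∀ s : Finset (Subgroup G), s.card ≤ p → (∀ K ∈ s, K ≠ ⊤) →
      (∀ g : G, PEl p g → ∃ K ∈ s, g ∈ K) → closure {g : G | PEl p g} ≠ ⊤ := by
  classical
  intro n
  induction n with
  | zero => intro G _ _ h; exact absurd h (by have := Nat.card_pos (α := G); omega)
  | succ n ih =>
    intro G _ _ hn s hs hstop hscov hgen
    -- irredundant subfamily
    obtain ⟨t, ht, htmin⟩ := (s.powerset.filter fun t => ∀ g : G, PEl p g → ∃ K ∈ t, g ∈ K)
      |>.exists_min_image Finset.card ⟨s, Finset.mem_filter.2 ⟨Finset.mem_powerset_self s, hscov⟩⟩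
    rw [Finset.mem_filter, Finset.mem_powerset] at ht
    obtain ⟨hts, hcov⟩ := ht
    have htp : t.card ≤ p := (Finset.card_le_card hts).trans hs
    have hpure : ∀ K ∈ t, ∃ x : G, PEl p x ∧ x ∈ K ∧ ∀ L ∈ t, x ∈ L → L = K := by
      intro K hK
      by_contra hne
      push Not at hne
      have h1 := htmin (t.erase K) (Finset.mem_filter.2 ⟨Finset.mem_powerset.2
        ((Finset.erase_subset _ _).trans hts), fun g hg => by
        obtain ⟨L, hL, hgL⟩ := hcov g hg
        by_cases hLK : L = K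
        · subst hLK
          obtain ⟨L', hL', hgL', hne'⟩ := hne g hg hgL
          exact ⟨L', Finset.mem_erase.2 ⟨hne', hL'⟩, hgL'⟩
        · exact ⟨L, Finset.mem_erase.2 ⟨hLK, hL⟩, hgL⟩⟩)
      exact absurd h1 (by rw [not_le]; exact Finset.card_erase_lt_of_mem hK)
    have hsub : ∀ T : Set G, (∀ g ∈ T, PEl p g) → closure T ≠ ⊤ → ∃ K ∈ t, closure T ≤ K := by
      intro T hT hTtop
      by_contra hne
      push Not at hne
      set H := closure T with hH
      have hlt : Nat.card H < Nat.card G := (Nat.lt_or_eq_of_le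
        (Nat.le_of_dvd Nat.card_pos (card_subgroup_dvd_card H))).resolve_right
        (fun h => hTtop (card_eq_iff_eq_top H |>.1 h))
      refine ih H (by omega) (t.image fun K => K.subgroupOf H) (Finset.card_image_le.trans htp) ?_ ?_ ?_
      · intro K hK
        obtain ⟨K', hK', rfl⟩ := Finset.mem_image.1 hK
        exact fun h => hne K' hK' (subgroupOf_eq_top.1 h)
      · rintro g ⟨k, hk⟩
        obtain ⟨K, hK, hgK⟩ := hcov (g : G) ⟨k, by rw [Subgroup.orderOf_coe]; exact hk⟩
        exact ⟨_, Finset.mem_image_of_mem _ hK, mem_subgroupOf.2 hgK⟩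
      · refine top_le_iff.1 ((closure_closure_coe_preimage (k := T)).ge.trans (closure_mono ?_))
        intro g hg
        obtain ⟨k, hk⟩ := hT g hg
        exact ⟨k, by rw [← Subgroup.orderOf_coe]; exact hk⟩
    have hprop : ∀ a b : G, PEl p a → PEl p b → closure {a, b} ≠ ⊤ → ∃ K ∈ t, a ∈ K ∧ b ∈ K := by
      intro a b ha hb hne
      obtain ⟨K, hK, hle⟩ := hsub {a, b} (by rintro g (rfl | rfl) <;> assumption) hne
      exact ⟨K, hK, hle (subset_closure (Or.inl rfl)), hle (subset_closure (Or.inr rfl))⟩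
    obtain ⟨Ka, ha, -⟩ := hcov 1 ⟨0, by simp⟩
    obtain ⟨Kb, hb, hab⟩ : ∃ Kb ∈ t, Ka ≠ Kb := by
      by_contra hne
      push Not at hne
      refine hstop Ka (hts ha) (top_le_iff.1 (hgen ▸ (closure_le _).2 fun g hg => ?_))
      obtain ⟨K, hK, hgK⟩ := hcov g hg
      exact hne K hK ▸ hgK
    obtain ⟨x, hx, hxa, hxp⟩ := hpure Ka ha
    obtain ⟨y, hy, hyb, hyp⟩ := hpure Kb hb
    obtain ⟨N, hNn, hNle, hyN, k₁, hk₁⟩ := exists_normal htp hcov hprop ha hb hab
      (hstop Kb (hts hb)) hx hy hxa hyb hxp hyp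
    obtain ⟨M, hMn, hMle, hxM, k₂, hk₂⟩ := exists_normal htp hcov hprop hb ha hab.symm
      (hstop Ka (hts ha)) hy hx hyb hxa hyp hxp
    have hyP : IsPGroup p (zpowers y) := by
      obtain ⟨k, hk⟩ := hy
      exact IsPGroup.of_card ((Nat.card_zpowers y).trans hk)
    obtain ⟨Q, hQ⟩ := hyP.exists_le_sylow
    by_cases hQtop : (Q : Subgroup G) = ⊤
    · -- `G` is a `p`-group
      have hall : ∀ g : G, PEl p g := fun g => by
        obtain ⟨j, hj⟩ := Q.isPGroup' ⟨g, hQtop ▸ mem_top g⟩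
        exact ⟨_, ((Nat.dvd_prime_pow Fact.out).1
          (orderOf_dvd_of_pow_eq_one (congrArg Subtype.val hj))).choose_spec.2⟩
      choose l hl hlc using fun i : Fin p => hcov (x ^ (i : ℕ) * y) (hall _)
      have hlne : ∀ i, l i ∈ t.erase Ka := fun i => Finset.mem_erase.2 ⟨fun h => by
        have h1 : x ^ (i : ℕ) * y ∈ Ka := h ▸ hlc i
        exact hab (hyp Ka ha ((Ka.mul_mem_cancel_left (Ka.pow_mem hxa _)).1 h1)), hl i⟩
      obtain ⟨i, j, hij, hlij⟩ := Fintype.exists_ne_map_eq_of_card_lt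
        (fun i => (⟨l i, hlne i⟩ : ↥(t.erase Ka))) (by
          rw [Fintype.card_coe, Fintype.card_fin, Finset.card_erase_of_mem ha]
          have := Finset.card_pos.2 ⟨Ka, ha⟩; omega)
      rw [Subtype.mk.injEq] at hlij
      wlog hlt : (i : ℕ) < (j : ℕ) generalizing i j
      · exact this j i hij.symm hlij.symm (by
          have : (i : ℕ) ≠ j := fun h => hij (Fin.ext h); omega)
      have h1 : x ^ ((j : ℕ) - i) ∈ l i := by
        have h2 := (l i).mul_mem (hlij ▸ hlc j) ((l i).inv_mem (hlc i))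
        rwa [mul_inv_rev, ← mul_assoc, mul_inv_cancel_right, ← pow_sub _ hlt.le] at h2
      have h3 := hxp (l i) (hl i) (mem_of_pow_mem hx (by omega) (by omega) h1)
      exact (Finset.mem_erase.1 (hlne i)).1 h3
    · obtain ⟨L, hL, hQL⟩ := hsub ((Q : Subgroup G) : Set G) (fun g hg => by
        obtain ⟨j, hj⟩ := Q.isPGroup' ⟨g, hg⟩
        exact ⟨_, ((Nat.dvd_prime_pow Fact.out).1
          (orderOf_dvd_of_pow_eq_one (congrArg Subtype.val hj))).choose_spec.2⟩)
        (by rwa [closure_eq])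
      rw [closure_eq] at hQL
      obtain rfl : L = Kb := hyp L hL (hQL (hQ (mem_zpowers y)))
      refine hstop L (hts hL) (top_le_iff.1 ?_)
      have h1 : ((N ⊓ M) ⊔ (Q : Subgroup G)).index = 1 := by
        have hd : ((N ⊓ M) ⊔ (Q : Subgroup G)).index ∣ p ^ (k₁ + k₂) := by
          refine (index_dvd_of_le le_sup_left).trans ?_
          haveI := hNn
          rw [← relIndex_mul_index (inf_le_right (a := N) (b := M)), inf_relIndex_right, pow_add]
          exact mul_dvd_mul ((relIndex_dvd_index_of_normal N M).trans hk₁) hk₂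
        obtain ⟨m, -, hm⟩ := (Nat.dvd_prime_pow Fact.out).1 hd
        rcases Nat.eq_zero_or_pos m with hm0 | hm0
        · rw [hm, hm0, pow_zero]
        · exact absurd (((dvd_pow_self p hm0.ne').trans hm.symm.dvd).trans
            (index_dvd_of_le le_sup_right)) Q.not_dvd_index
      rw [← index_eq_one.1 h1]
      exact sup_le (inf_le_left.trans hNle) hQL


/-- Let p be a prime and G a finite group generated by its p-elements. If a finite family of proper subgroups of G covers the set of p-elements of G (every element of p-power order lies in one of them), then the family has at least p + 1 members. -/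
theorem result {G : Type*} [Group G] [Finite G] (p : ℕ) [Fact p.Prime] (hgen : Subgroup.closure {g : G | ∃ k : ℕ, orderOf g = p ^ k} = ⊤)
    {ι : Type*} [Fintype ι] (K : ι → Subgroup G) (hK : ∀ i, K i ≠ ⊤)
    (hcov : ∀ g : G, (∃ k : ℕ, orderOf g = p ^ k) → ∃ i, g ∈ K i) :
    p + 1 ≤ Fintype.card ι := by
  classical
  by_contra hlt
  refine key p (Nat.card G) G le_rfl (Finset.univ.image K) (Finset.card_image_le.trans ?_) ?_ ?_ hgen
  · rw [Finset.card_univ]; omega
  · intro L hL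
    obtain ⟨i, -, rfl⟩ := Finset.mem_image.1 hL
    exact hK i
  · intro g hg
    obtain ⟨i, hi⟩ := hcov g hg
    exact ⟨K i, Finset.mem_image_of_mem K (Finset.mem_univ i), hi⟩

end Cfsg.Agent.S4182
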