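import Cfsg.Statements.S4184
import Cfsg.Agent.Lib.PGroup.IndexPow
import Cfsg.Agent.Lib.Solvable.FrattiniFitting

set_option autoImplicit false
open Cfsg

namespace Cfsg.Agent.S4184

theorem core {G : Type*} [Group G] [Finite G] {A : Set ℕ}
    (hZ : ∀ g : G, (Subgroup.centralizer ({g} : Set G)).index = 1 → g = 1) (f : ℕ → ℕ) {N : ℕ}
    (hdvd : ∀ g : G, (Subgroup.centralizer ({g} : Set G)).index ∣ N)
    (dich : ∀ g : G, g ≠ 1 →
      (∀ q ∈ A, q.Prime → ((Subgroup.centralizer ({g} : Set G)).index).factorization q = f q) ∨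
      (∀ q ∉ A, q.Prime → ((Subgroup.centralizer ({g} : Set G)).index).factorization q = f q))
    (notboth : ∀ g : G,
      ¬ ∀ q : ℕ, q.Prime → f q ≤ ((Subgroup.centralizer ({g} : Set G)).index).factorization q)
    {p q : ℕ} (hp : p.Prime) (hq : q.Prime) (hqp : q ≠ p) (hside : q ∈ A ↔ p ∉ A)
    (hfp : 0 < f p) (hgq : 0 < (Nat.card G).factorization q) (hfq : 0 < f q)
    (N' : ℕ) (_ : N' ≠ 0) (hf : ∀ r, f r = N'.factorization r) (_ : N' = N) :
    (Nat.card G).factorization p ≤ f p := by
  classical
  have := Fact.mk hp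
  have := Fact.mk hq
  by_contra hlt
  push Not at hlt
  obtain ⟨Q⟩ : Nonempty (Sylow q G) := inferInstance
  have hQnt : Nontrivial (Q : Subgroup G) := by
    rw [← Finite.one_lt_card_iff_nontrivial, Q.card_eq_multiplicity]
    exact Nat.one_lt_pow hgq.ne' hq.one_lt
  have hcn := Q.2.center_nontrivial
  obtain ⟨z, hz⟩ := exists_prime_orderOf_dvd_card' (G := Subgroup.center (Q : Subgroup G)) q (by
    obtain ⟨k, hk⟩ := IsPGroup.iff_card.1 (Q.2.to_subgroup (Subgroup.center (Q : Subgroup G)))
    rcases Nat.eq_zero_or_pos k with rfl | hk0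
    · rw [pow_zero] at hk
      exact absurd hk (Finite.one_lt_card_iff_nontrivial.2 hcn).ne'
    · exact hk ▸ dvd_pow_self q hk0.ne')
  set z' : G := ((z : (Q : Subgroup G)) : G) with hz'
  have hzo : orderOf z' = q := by rw [hz', Subgroup.orderOf_coe, Subgroup.orderOf_coe, hz]
  have hz1 : z' ≠ 1 := fun h => by rw [h, orderOf_one] at hzo; exact hq.one_lt.ne hzo
  have hQC : (Q : Subgroup G) ≤ Subgroup.centralizer ({z'} : Set G) := fun y hy =>
    Subgroup.mem_centralizer_iff.2 fun w hw => by
      rw [Set.mem_singleton_iff.1 hw]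
      exact (congrArg Subtype.val (Subgroup.mem_center_iff.1 z.2 ⟨y, hy⟩)).symm
  have hzq : ((Subgroup.centralizer ({z'} : Set G)).index).factorization q = 0 :=
    Nat.factorization_eq_zero_of_not_dvd fun hd =>
      Q.not_dvd_index (hd.trans (Subgroup.index_dvd_of_le hQC))
  -- `z'` is full on the side of `p`
  have hzfull : ∀ r : ℕ, r.Prime → (r ∈ A ↔ p ∈ A) →
      ((Subgroup.centralizer ({z'} : Set G)).index).factorization r = f r := by
    intro r hr hrs
    rcases dich z' hz1 with hs | hs
    · by_cases hqA : q ∈ A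
      · have := hs q hqA hq; omega
      · exact hs r (by tauto) hr
    · by_cases hqA : q ∈ A
      · exact hs r (by tauto) hr
      · have := hs q hqA hq; omega
  obtain ⟨P₁⟩ : Nonempty (Sylow p (Subgroup.centralizer ({z'} : Set G))) := inferInstance
  set P1 : Subgroup G := (P₁ : Subgroup (Subgroup.centralizer ({z'} : Set G))).map
    (Subgroup.centralizer ({z'} : Set G)).subtype with hP1
  have hmul : ∀ g : G, ∀ r : ℕ, ((Subgroup.centralizer ({g} : Set G)).index).factorization r +
      (Nat.card (Subgroup.centralizer ({g} : Set G))).factorization r =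
      (Nat.card G).factorization r := by
    intro g r
    rw [← Finsupp.add_apply, ← Nat.factorization_mul Subgroup.index_ne_zero_of_finite Nat.card_pos.ne',
      Subgroup.index_mul_card]
  have hP1c : Nat.card P1 = p ^ ((Nat.card G).factorization p - f p) := by
    rw [hP1, Nat.card_congr (Subgroup.equivMapOfInjective _ _ (Subgroup.subtype_injective _)).toEquiv.symm,
      P₁.card_eq_multiplicity]
    congr 1
    have := hmul z' p
    have := hzfull p hp Iff.rfl
    omega
  obtain ⟨P, hP⟩ := (P₁.2.map (Subgroup.centralizer ({z'} : Set G)).subtype).exists_le_sylow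
  have : Group.IsNilpotent (P : Subgroup G) := P.2.isNilpotent
  have hlt1 : P1.subgroupOf P < ⊤ := by
    rw [lt_top_iff_ne_top, Ne, Subgroup.subgroupOf_eq_top]
    intro h
    have h1 := Subgroup.card_dvd_of_le h
    rw [hP1c, P.card_eq_multiplicity] at h1
    have := (Nat.pow_dvd_pow_iff_le_right hp.one_lt).1 h1
    omega
  have hnorm := Group.normalizerCondition_of_isNilpotent (G := (P : Subgroup G)) (P1.subgroupOf P) hlt1
  set N := Subgroup.normalizer ((P1.subgroupOf P : Subgroup (P : Subgroup G)) : Set (P : Subgroup G))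
  have hP1ne : (P1.subgroupOf P).subgroupOf N ≠ ⊥ := by
    intro h
    have h1 : P1 = ⊥ := by
      rw [Subgroup.eq_bot_iff_forall]
      intro y hy
      have := (Subgroup.eq_bot_iff_forall _).1 h ⟨⟨y, hP hy⟩, Subgroup.le_normalizer hy⟩ hy
      exact congrArg (fun u : N => ((u : (P : Subgroup G)) : G)) this
    rw [h1, Subgroup.card_bot] at hP1c
    exact absurd hP1c.symm (Nat.one_lt_pow (by omega) hp.one_lt).ne'
  have hNp : IsPGroup p N := P.2.to_subgroup N
  have hnt : Nontrivial ((P1.subgroupOf P).subgroupOf N) :=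
    (Subgroup.nontrivial_iff_ne_bot _).2 hP1ne
  obtain ⟨u, hu, hu1⟩ : ∃ u : N, u ∈ (P1.subgroupOf P).subgroupOf N ⊓ Subgroup.center N ∧ u ≠ 1 := by
    by_contra h
    push Not at h
    have := hNp.isNilpotent
    exact CfsgLib.Solvable.FrattiniFitting.inf_center_ne_bot _ hP1ne
      ((Subgroup.eq_bot_iff_forall _).2 h)
  set u' : G := ((u : (P : Subgroup G)) : G) with hu'
  have hu'1 : u' ≠ 1 := fun h => hu1 (Subtype.ext (Subtype.ext h))
  have hNC : N.map (P : Subgroup G).subtype ≤ Subgroup.centralizer ({u'} : Set G) := by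
    rintro _ ⟨y, hy, rfl⟩
    refine Subgroup.mem_centralizer_iff.2 fun w hw => ?_
    rw [Set.mem_singleton_iff.1 hw]
    exact (congrArg (fun v : N => ((v : (P : Subgroup G)) : G))
      (Subgroup.mem_center_iff.1 hu.2 ⟨y, hy⟩)).symm
  obtain ⟨k, hk⟩ := IsPGroup.iff_card.1 hNp
  have hkgt : (Nat.card G).factorization p - f p < k := by
    by_contra hle
    push Not at hle
    have h1 : Nat.card (P1.subgroupOf P : Subgroup (P : Subgroup G)) = Nat.card P1 :=
      Nat.card_congr (Subgroup.subgroupOfEquivOfLe hP).toEquiv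
    have h2 : Nat.card N ≤ Nat.card (P1.subgroupOf P : Subgroup (P : Subgroup G)) := by
      rw [h1, hP1c, hk]; exact Nat.pow_le_pow_right hp.pos hle
    exact hnorm.ne (Subgroup.eq_of_le_of_card_ge hnorm.le h2)
  have hup : ((Subgroup.centralizer ({u'} : Set G)).index).factorization p < f p := by
    have h1 : p ^ k ∣ Nat.card (Subgroup.centralizer ({u'} : Set G)) := by
      rw [← hk, Nat.card_congr (Subgroup.equivMapOfInjective N _ (Subgroup.subtype_injective _)).toEquiv]
      exact Subgroup.card_dvd_of_le hNC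
    have h2 := (hp.pow_dvd_iff_le_factorization Nat.card_pos.ne').1 h1
    have := hmul u' p
    omega
  have hufull : ∀ r : ℕ, r.Prime → (r ∈ A ↔ p ∉ A) →
      ((Subgroup.centralizer ({u'} : Set G)).index).factorization r = f r := by
    intro r hr hrs
    rcases dich u' hu'1 with hs | hs
    · by_cases hpA : p ∈ A
      · have := hs p hpA hp; omega
      · exact hs r (by tauto) hr
    · by_cases hpA : p ∈ A
      · exact hs r (by tauto) hr
      · have := hs p hpA hp; omega
  have hcomm : Commute z' u' := by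
    have hmem : u' ∈ Subgroup.centralizer ({z'} : Set G) := by
      obtain ⟨v, -, hv⟩ := (hu.1 : u' ∈ P1)
      rw [← show (v : G) = u' from hv]
      exact v.2
    exact Subgroup.mem_centralizer_iff.1 hmem z' rfl
  have huo : ∃ j : ℕ, orderOf u' = p ^ j := by
    obtain ⟨j, hj⟩ := IsPGroup.iff_orderOf.1 hNp u
    exact ⟨j, by rw [hu', Subgroup.orderOf_coe, Subgroup.orderOf_coe, hj]⟩
  obtain ⟨j, hj⟩ := huo
  have hcop : (orderOf z').Coprime (orderOf u') := by
    rw [hzo, hj]; exact ((Nat.coprime_primes hq hp).2 hqp).pow_right j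
  have hcle : Subgroup.centralizer ({z' * u'} : Set G) ≤
      Subgroup.centralizer ({z'} : Set G) ⊓ Subgroup.centralizer ({u'} : Set G) := by
    intro y hy
    have hy' : Commute (z' * u') y := Subgroup.mem_centralizer_iff.1 hy _ rfl
    obtain ⟨m1, hm1⟩ := Nat.exists_mul_mod_eq_one_of_coprime (n := orderOf u') (k := orderOf z')
      hcop.symm (by rw [hzo]; exact hq.one_lt)
    have e1 : (z' * u') ^ (orderOf u' * m1) = z' := by
      rw [hcomm.mul_pow]
      conv_lhs => arg 2; rw [pow_mul, pow_orderOf_eq_one, one_pow]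
      rw [mul_one, ← pow_mod_orderOf, hm1.2, pow_one]
    have hz'y : Commute z' y := e1 ▸ hy'.pow_left _
    refine ⟨Subgroup.mem_centralizer_iff.2 fun w hw => by rw [Set.mem_singleton_iff.1 hw]; exact hz'y.eq,
      Subgroup.mem_centralizer_iff.2 fun w hw => ?_⟩
    rw [Set.mem_singleton_iff.1 hw]
    have : Commute (z'⁻¹ * (z' * u')) y := hz'y.inv_left.mul_left hy'
    rwa [inv_mul_cancel_left] at this
  apply notboth (z' * u')
  intro r hr
  have hd1 := (Nat.factorization_le_iff_dvd Subgroup.index_ne_zero_of_finite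
    Subgroup.index_ne_zero_of_finite).2 (Subgroup.index_dvd_of_le (hcle.trans inf_le_left)) r
  have hd2 := (Nat.factorization_le_iff_dvd Subgroup.index_ne_zero_of_finite
    Subgroup.index_ne_zero_of_finite).2 (Subgroup.index_dvd_of_le (hcle.trans inf_le_right)) r
  by_cases hrs : r ∈ A ↔ p ∈ A
  · have := hzfull r hr hrs; omega
  · have := hufull r hr (by tauto); omega

/-- Let G and M be finite groups with trivial centres and the same set of conjugacy class sizes, and suppose the prime graph of M is disconnected: the prime divisors of #M split into two non-empty parts such that M has no element of order pq with p in one part and q in the other. Then #G = #M. -/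
theorem result {G M : Type*}
    [Group G] [Finite G] [Group M] [Finite M] (hZG : Subgroup.center G = ⊥) (hZM : Subgroup.center M = ⊥)
    (h : Set.range (fun g : G => (Subgroup.centralizer ({g} : Set G)).index) = Set.range (fun g : M => (Subgroup.centralizer ({g} : Set M)).index))
    (hdisc : ∃ A : Set ℕ, (∃ a ∈ A, a.Prime ∧ a ∣ Nat.card M) ∧ (∃ b ∉ A, b.Prime ∧ b ∣ Nat.card M) ∧
      ∀ a ∈ A, ∀ b ∉ A, a.Prime → b.Prime → a ∣ Nat.card M → b ∣ Nat.card M → ¬ ∃ x : M, orderOf x = a * b) :
    Nat.card G = Nat.card M := by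
  classical
  obtain ⟨A, ⟨a, haA, ha, had⟩, ⟨b, hbA, hb, hbd⟩, hno⟩ := hdisc
  set f : ℕ → ℕ := fun q => (Nat.card M).factorization q with hf
  have hMnt : 1 < Nat.card M := lt_of_lt_of_le ha.one_lt (Nat.le_of_dvd Nat.card_pos had)
  have side : ∀ m : M, m ≠ 1 →
      (∀ q ∈ A, q.Prime → ¬ q ∣ Nat.card (Subgroup.centralizer ({m} : Set M))) ∨
        (∀ q ∉ A, q.Prime → ¬ q ∣ Nat.card (Subgroup.centralizer ({m} : Set M))) := by
    intro m hm
    have ho : orderOf m ≠ 1 := fun h => hm (orderOf_eq_one_iff.1 h)
    obtain ⟨r, hr, hrd⟩ := Nat.exists_prime_and_dvd ho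
    have key : ∀ q : ℕ, q.Prime → (q ∈ A ↔ r ∉ A) →
        ¬ q ∣ Nat.card (Subgroup.centralizer ({m} : Set M)) := by
      intro q hq hside hd
      have := Fact.mk hq
      obtain ⟨⟨u, hu⟩, huo⟩ := exists_prime_orderOf_dvd_card' q hd
      rw [Subgroup.orderOf_mk] at huo
      have hv : orderOf (m ^ (orderOf m / r)) = r := by
        rw [orderOf_pow_orderOf_div (orderOf_pos m).ne' hrd]
      have hcomm : Commute (m ^ (orderOf m / r)) u :=
        (show Commute m u from (Subgroup.mem_centralizer_iff.1 hu) m rfl).pow_left _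
      have hne : r ≠ q := by rintro rfl; tauto
      have hcop : (orderOf (m ^ (orderOf m / r))).Coprime (orderOf u) := by
        rw [hv, huo]; exact (Nat.coprime_primes hr hq).2 hne
      have hrM : r ∣ Nat.card M := hrd.trans (_root_.orderOf_dvd_natCard m)
      have hqM : q ∣ Nat.card M := huo ▸ _root_.orderOf_dvd_natCard u
      have horder := hcomm.orderOf_mul_eq_mul_orderOf_of_coprime hcop
      rw [hv, huo] at horder
      by_cases hrA : r ∈ A
      · exact hno r hrA q (by tauto) hr hq hrM hqM ⟨_, horder⟩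
      · exact hno q (by tauto) r hrA hq hr hqM hrM ⟨_, horder.trans (mul_comm r q)⟩
    by_cases hrA : r ∈ A
    · exact Or.inr fun q hqA hq => key q hq (by tauto)
    · exact Or.inl fun q hqA hq => key q hq (by tauto)
  have hdvdM : ∀ g : G, (Subgroup.centralizer ({g} : Set G)).index ∣ Nat.card M := by
    intro g
    obtain ⟨m, hm⟩ := h ▸ Set.mem_range_self (f := fun g : G => (Subgroup.centralizer ({g} : Set G)).index) g
    simp only at hm
    exact hm ▸ Subgroup.index_dvd_card _
  have hZ : ∀ g : G, (Subgroup.centralizer ({g} : Set G)).index = 1 → g = 1 := by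
    intro g hg
    rw [Subgroup.index_eq_one] at hg
    have : g ∈ Subgroup.center G := Subgroup.mem_center_iff.2 fun x =>
      ((Subgroup.mem_centralizer_iff.1 (show x ∈ Subgroup.centralizer ({g} : Set _) by
        rw [hg]; exact Subgroup.mem_top x)) g rfl).symm
    rwa [hZG, Subgroup.mem_bot] at this
  have hZM' : ∀ g : M, (Subgroup.centralizer ({g} : Set M)).index = 1 → g = 1 := by
    intro g hg
    rw [Subgroup.index_eq_one] at hg
    have : g ∈ Subgroup.center M := Subgroup.mem_center_iff.2 fun x =>
      ((Subgroup.mem_centralizer_iff.1 (show x ∈ Subgroup.centralizer ({g} : Set _) by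
        rw [hg]; exact Subgroup.mem_top x)) g rfl).symm
    rwa [hZM, Subgroup.mem_bot] at this
  have full : ∀ m : M, ∀ q : ℕ, q.Prime → ¬ q ∣ Nat.card (Subgroup.centralizer ({m} : Set M)) →
      ((Subgroup.centralizer ({m} : Set M)).index).factorization q = f q := by
    intro m q hq hnd
    show _ = (Nat.card M).factorization q
    rw [← (Subgroup.centralizer ({m} : Set M)).index_mul_card,
      Nat.factorization_mul Subgroup.index_ne_zero_of_finite Nat.card_pos.ne', Finsupp.add_apply,
      Nat.factorization_eq_zero_of_not_dvd hnd, add_zero]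
  have dich : ∀ g : G, g ≠ 1 →
      (∀ q ∈ A, q.Prime → ((Subgroup.centralizer ({g} : Set G)).index).factorization q = f q) ∨
      (∀ q ∉ A, q.Prime → ((Subgroup.centralizer ({g} : Set G)).index).factorization q = f q) := by
    intro g hg
    obtain ⟨m, hm⟩ := h ▸ Set.mem_range_self (f := fun g : G => (Subgroup.centralizer ({g} : Set G)).index) g
    simp only at hm
    have hm1 : m ≠ 1 := by
      rintro rfl
      apply hg (hZ g ?_)
      rw [← hm, Subgroup.index_eq_one]
      exact eq_top_iff.2 fun x _ => Subgroup.mem_centralizer_iff.2 fun y hy => by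
        rw [Set.mem_singleton_iff.1 hy, one_mul, mul_one]
    rw [← hm]
    exact (side m hm1).imp (fun hs q hqA hq => full m q hq (hs q hqA hq))
      (fun hs q hqA hq => full m q hq (hs q hqA hq))
  have notboth : ∀ g : G,
      ¬ ∀ q : ℕ, q.Prime → f q ≤ ((Subgroup.centralizer ({g} : Set G)).index).factorization q := by
    intro g hall
    have hd := hdvdM g
    have heq : (Subgroup.centralizer ({g} : Set G)).index = Nat.card M :=
      Nat.dvd_antisymm hd ((Nat.factorization_prime_le_iff_dvd Nat.card_pos.ne'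
        Subgroup.index_ne_zero_of_finite).1 hall)
    obtain ⟨m, hm⟩ := h ▸ Set.mem_range_self (f := fun g : G => (Subgroup.centralizer ({g} : Set G)).index) g
    simp only at hm
    rw [heq] at hm
    have hc := (Subgroup.centralizer ({m} : Set M)).index_mul_card
    rw [hm] at hc
    have hc1 : Nat.card (Subgroup.centralizer ({m} : Set M)) = 1 :=
      Nat.eq_of_mul_eq_mul_left Nat.card_pos (hc.trans (mul_one _).symm)
    have : m ∈ Subgroup.centralizer ({m} : Set M) := Subgroup.mem_centralizer_iff.2 fun y hy => by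
      rw [Set.mem_singleton_iff.1 hy]
    rw [Subgroup.card_eq_one.1 hc1, Subgroup.mem_bot] at this
    subst this
    have : (Subgroup.centralizer ({1} : Set M)) = ⊤ := eq_top_iff.2 fun x _ =>
      Subgroup.mem_centralizer_iff.2 fun y hy => by rw [Set.mem_singleton_iff.1 hy, one_mul, mul_one]
    rw [this, Subgroup.index_top] at hm
    omega
  refine Nat.eq_of_factorization_eq Nat.card_pos.ne' Nat.card_pos.ne' fun p => ?_
  by_cases hp : p.Prime
  swap
  · rw [Nat.factorization_eq_zero_of_not_prime _ hp, Nat.factorization_eq_zero_of_not_prime _ hp]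
  have hge : ∀ q : ℕ, q.Prime → f q ≤ (Nat.card G).factorization q := by
    intro q hq
    by_cases hqM : q ∣ Nat.card M
    · have := Fact.mk ha
      have := Fact.mk hb
      obtain ⟨m, hm⟩ : ∃ m : M, ¬ q ∣ Nat.card (Subgroup.centralizer ({m} : Set M)) := by
        obtain ⟨ma, hma⟩ := exists_prime_orderOf_dvd_card' a had
        obtain ⟨mb, hmb⟩ := exists_prime_orderOf_dvd_card' b hbd
        have e : ∀ u : M, ∀ r : ℕ, orderOf u = r → r ∣ Nat.card (Subgroup.centralizer ({u} : Set M)) :=
          fun u r hu => hu ▸ Subgroup.orderOf_dvd_natCard _ (Subgroup.mem_centralizer_iff.2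
            fun y hy => by rw [Set.mem_singleton_iff.1 hy])
        by_cases hqA : q ∈ A
        · refine ⟨mb, ?_⟩
          have hne : mb ≠ 1 := by rintro rfl; rw [orderOf_one] at hmb; exact hb.one_lt.ne hmb
          exact (side mb hne).resolve_right (fun hs => hs b hbA hb (e mb b hmb)) q hqA hq
        · refine ⟨ma, ?_⟩
          have hne : ma ≠ 1 := by rintro rfl; rw [orderOf_one] at hma; exact ha.one_lt.ne hma
          exact (side ma hne).resolve_left (fun hs => hs a haA ha (e ma a hma)) q hqA hq
      obtain ⟨g, hg⟩ := h.symm ▸ Set.mem_range_self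
        (f := fun g : M => (Subgroup.centralizer ({g} : Set M)).index) m
      simp only at hg
      rw [← full m q hq hm, ← hg]
      exact (Nat.factorization_le_iff_dvd Subgroup.index_ne_zero_of_finite Nat.card_pos.ne').2
        (Subgroup.index_dvd_card _) q
    · show (Nat.card M).factorization q ≤ _
      rw [Nat.factorization_eq_zero_of_not_dvd hqM]; exact Nat.zero_le _
  refine le_antisymm ?_ (hge p hp)
  by_cases hpM : p ∣ Nat.card M
  swap
  · -- every element centralises a Sylow `p`-subgroup
    show (Nat.card G).factorization p ≤ f p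
    rw [Nat.le_iff_lt_or_eq, ← Nat.le_iff_lt_or_eq]
    by_contra hlt
    have := Fact.mk hp
    obtain ⟨P⟩ : Nonempty (Sylow p G) := inferInstance
    have htop : Subgroup.centralizer ((P : Subgroup G) : Set G) = ⊤ := by
      refine CfsgLib.PGroup.IndexPow.eq_top_of_conj_cover fun g => ?_
      have hnd : ¬ p ∣ (Subgroup.centralizer ({g} : Set G)).index := fun hd =>
        hpM (hd.trans (hdvdM g))
      obtain ⟨Q⟩ : Nonempty (Sylow p (Subgroup.centralizer ({g} : Set G))) := inferInstance
      obtain ⟨R, hR⟩ := (Q.2.map (Subgroup.centralizer ({g} : Set G)).subtype).exists_le_sylow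
      have hcard : Nat.card (R : Subgroup G) ≤
          Nat.card ((Q : Subgroup (Subgroup.centralizer ({g} : Set G))).map
            (Subgroup.centralizer ({g} : Set G)).subtype) := by
        rw [Nat.card_congr (Subgroup.equivMapOfInjective _ _ (Subgroup.subtype_injective _)).toEquiv.symm,
          R.card_eq_multiplicity, Q.card_eq_multiplicity,
          ← (Subgroup.centralizer ({g} : Set G)).index_mul_card,
          Nat.factorization_mul Subgroup.index_ne_zero_of_finite Nat.card_pos.ne', Finsupp.add_apply,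
          Nat.factorization_eq_zero_of_not_dvd hnd, zero_add]
      have hRC : (R : Subgroup G) ≤ Subgroup.centralizer ({g} : Set G) :=
        (Subgroup.eq_of_le_of_card_ge hR hcard) ▸ Subgroup.map_subtype_le _
      obtain ⟨x, hx⟩ := MulAction.exists_smul_eq G R P
      refine ⟨x⁻¹, Subgroup.mem_centralizer_iff.2 fun y hy => ?_⟩
      rw [SetLike.mem_coe, ← hx, Sylow.coe_subgroup_smul] at hy
      obtain ⟨z, hz, rfl⟩ := hy
      have hzg : Commute g z := (Subgroup.mem_centralizer_iff.1 (hRC hz)) g rfl
      simp only [MulDistribMulAction.toMonoidEnd_apply, MulDistribMulAction.toMonoidHom_apply,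
        MulAut.smul_def, MulAut.conj_apply]
      calc x * z * x⁻¹ * (x⁻¹⁻¹ * g * x⁻¹) = x * (z * g) * x⁻¹ := by group
        _ = x * (g * z) * x⁻¹ := by rw [hzg.eq]
        _ = _ := by group
    have hPb : (P : Subgroup G) = ⊥ := le_bot_iff.1 (hZG ▸ fun y hy => Subgroup.mem_center_iff.2
      fun g => ((Subgroup.mem_centralizer_iff.1 (htop ▸ Subgroup.mem_top g)) y hy).symm)
    have hc := P.card_eq_multiplicity
    rw [hPb, Subgroup.card_bot] at hc
    have h0 : (Nat.card G).factorization p = 0 := by
      rcases Nat.eq_zero_or_pos ((Nat.card G).factorization p) with h0 | h0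
      · exact h0
      · exact absurd hc (Nat.one_lt_pow h0.ne' hp.one_lt).ne
    omega
  -- choose a prime on the other side
  obtain ⟨q, hq, hqM, hside⟩ : ∃ q : ℕ, q.Prime ∧ q ∣ Nat.card M ∧ (q ∈ A ↔ p ∉ A) := by
    by_cases hpA : p ∈ A
    · exact ⟨b, hb, hbd, by tauto⟩
    · exact ⟨a, ha, had, by tauto⟩
  have hqp : q ≠ p := by rintro rfl; tauto
  exact core (A := A) hZ f hdvdM dich notboth hp hq hqp hside
    (hp.factorization_pos_of_dvd Nat.card_pos.ne' hpM)
    ((hq.factorization_pos_of_dvd Nat.card_pos.ne' hqM).trans_le (hge q hq))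
    (hq.factorization_pos_of_dvd Nat.card_pos.ne' hqM) (Nat.card M) Nat.card_pos.ne' (fun _ => rfl) rfl

end Cfsg.Agent.S4184
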