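import Cfsg.Statements.S4186
-- import your own Cfsg.Agent.* helpers here

set_option autoImplicit false
open Cfsg

namespace Cfsg.Agent.S4186

/-- Let T and X be subgroups of a group with T a finite 2-group normalizing X but not centralizing it. Then some element of T inverts some non-identity element of X under conjugation. -/
theorem result {G : Type*} [Group G] (T X : Subgroup G) [Finite ↥T] (hT : IsPGroup 2 ↥T) (hTN : T ≤ Subgroup.normalizer (X : Set G)) (hTC : ¬ T ≤ Subgroup.centralizer (X : Set G)) : ∃ t ∈ T, ∃ x ∈ X, x ≠ 1 ∧ t * x * t⁻¹ = x⁻¹ := by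
  classical
  obtain ⟨t, ht, htc⟩ := SetLike.not_le_iff_exists.1 hTC
  have key : ∀ n : ℕ, ∀ t ∈ T, t ^ 2 ^ n ∈ Subgroup.centralizer (X : Set G) →
      t ∉ Subgroup.centralizer (X : Set G) →
      ∃ s ∈ T, s ∉ Subgroup.centralizer (X : Set G) ∧ s ^ 2 ∈ Subgroup.centralizer (X : Set G) := by
    intro n
    induction n with
    | zero => intro t _ h h'; exact absurd (by simpa using h) h'
    | succ n ih =>
      intro t ht h h'
      by_cases h2 : t ^ 2 ∈ Subgroup.centralizer (X : Set G)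
      · exact ⟨t, ht, h', h2⟩
      · refine ih (t ^ 2) (T.pow_mem ht 2) ?_ h2
        rw [← pow_mul, ← pow_succ']; exact h
  obtain ⟨n, hn⟩ := hT ⟨t, ht⟩
  obtain ⟨s, hs, hsc, hs2⟩ := key n t ht
    (by rw [show t ^ 2 ^ n = 1 from congrArg Subtype.val hn]; exact one_mem _) htc
  obtain ⟨x, hx, hne⟩ : ∃ x ∈ X, s * x * s⁻¹ ≠ x := by
    by_contra h
    push Not at h
    apply hsc
    rw [Subgroup.mem_centralizer_iff]
    intro x hx
    exact (mul_inv_eq_iff_eq_mul.1 (h x hx)).symm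
  have hconj : s * x * s⁻¹ ∈ X := (Subgroup.mem_normalizer_iff.1 (hTN hs) x).1 hx
  refine ⟨s, hs, x⁻¹ * (s * x * s⁻¹), X.mul_mem (X.inv_mem hx) hconj, ?_, ?_⟩
  · intro h
    exact hne (inv_mul_eq_one.1 h).symm
  · have h := Subgroup.mem_centralizer_iff.1 hs2 x hx
    have h2 : s ^ 2 * x * (s ^ 2)⁻¹ = x := by rw [← h]; group
    calc s * (x⁻¹ * (s * x * s⁻¹)) * s⁻¹ = (s * x * s⁻¹)⁻¹ * (s ^ 2 * x * (s ^ 2)⁻¹) := by group
      _ = (s * x * s⁻¹)⁻¹ * x := by rw [h2]
      _ = (x⁻¹ * (s * x * s⁻¹))⁻¹ := by group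

end Cfsg.Agent.S4186
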