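import Cfsg.Statements.S4188
import Mathlib
import Cfsg.Agent.Lib.PGroup.TwoActionBound

set_option autoImplicit false
open Cfsg

namespace Cfsg.Agent.S4188

/-- Let G be a finite group that is the semidirect product of a normal abelian subgroup N of odd order by a 2-subgroup P, and suppose N is the unique minimal normal subgroup of G. Then the index of the Frattini subgroup of P in P is at most #N − 1. -/
theorem result {G : Type*} [Group G] [Finite G] (N P : Subgroup G) (hN : N.Normal) (hNab : IsMulCommutative ↥N) (hNodd : Odd (Nat.card ↥N)) (hP : IsPGroup 2 ↥P) (hdisj : N ⊓ P = ⊥) (hprod : N ⊔ P = ⊤) (hmin : N ≠ ⊥ ∧ ∀ M : Subgroup G, M.Normal → M ≠ ⊥ → N ≤ M) : (frattini ↥P).index ≤ Nat.card ↥N - 1 := by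
  classical
  letI : CommGroup ↥N := { (inferInstance : Group ↥N) with mul_comm := hNab.is_comm.comm }
  haveI := hN
  let φ : P →* MulAut N := (MulAut.conjNormal (H := N)).comp P.subtype
  have hφ : Function.Injective φ := by
    rw [injective_iff_map_eq_one]
    intro x hx
    set C : Subgroup G := P ⊓ Subgroup.centralizer (N : Set G) with hC
    have hxC : (x : G) ∈ C := ⟨x.2, fun n hn => by
      have h1 : (x : G) * n * (x : G)⁻¹ = n :=
        congrArg Subtype.val (DFunLike.congr_fun hx (⟨n, hn⟩ : N))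
      exact (mul_inv_eq_iff_eq_mul.mp h1).symm⟩
    have hCn : C.Normal := by
      refine ⟨fun c hc g => ?_⟩
      obtain ⟨n, hn, y, hy, rfl⟩ : ∃ n ∈ N, ∃ y ∈ P, n * y = g := by
        have : g ∈ ((N ⊔ P : Subgroup G) : Set G) := by rw [hprod]; trivial
        rw [Subgroup.normal_mul] at this
        exact Set.mem_mul.mp this
      have h2 : y * c * y⁻¹ ∈ C := ⟨mul_mem (mul_mem hy hc.1) (P.inv_mem hy), fun m hm => by
        have h3 := hc.2 (y⁻¹ * m * y) (by simpa using hN.conj_mem m hm y⁻¹)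
        calc m * (y * c * y⁻¹) = y * (y⁻¹ * m * y * c) * y⁻¹ := by group
          _ = y * (c * (y⁻¹ * m * y)) * y⁻¹ := by rw [h3]
          _ = _ := by group⟩
      have h4 := h2.2 n hn
      have : n * y * c * (n * y)⁻¹ = y * c * y⁻¹ := by
        calc n * y * c * (n * y)⁻¹ = (n * (y * c * y⁻¹)) * n⁻¹ := by group
          _ = ((y * c * y⁻¹) * n) * n⁻¹ := by rw [h4]
          _ = _ := mul_inv_cancel_right _ _
      rwa [this]
    by_contra hx1
    have hCne : C ≠ ⊥ := fun h => hx1 (Subtype.ext (Subgroup.mem_bot.mp (h ▸ hxC)))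
    have hle := hmin.2 C hCn hCne
    exact hmin.1 (le_bot_iff.mp (hdisj ▸ le_inf le_rfl (hle.trans inf_le_left)))
  have h1 := CfsgLib.PGroup.TwoActionBound.frattini_index_le_D hP
  have h2 : 1 < Nat.card N := (Subgroup.one_lt_card_iff_ne_bot N).mpr hmin.1
  rcases CfsgLib.PGroup.TwoActionBound.bound _ N P φ rfl hP hNodd hφ with h | ⟨h, h'⟩ | ⟨h, h'⟩ <;> omega

end Cfsg.Agent.S4188
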