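import Cfsg.Statements.S4189
import Mathlib
import Cfsg.Agent.Lib.TwoGroups.Classify

set_option autoImplicit false
open Cfsg

namespace Cfsg.Agent.S4189

open scoped commutatorElement

theorem sq_outside {P : Type*} [Group P] (a b : P) (r : ℤ) (h : b * a * b⁻¹ = a ^ r) (i : ℤ) :
    (b * a ^ i) ^ 2 = a ^ (r * i) * b ^ 2 * a ^ i := by
  rw [zpow_mul, ← h, conj_zpow, sq, sq]
  group

theorem outside {P : Type*} [Group P] [Finite P] {a b : P} {k : ℕ} (_hk : 2 ≤ k)
    (hn : Nat.card P = 2 ^ (k + 1)) (hao : orderOf a = 2 ^ k) (hb : b ∉ Subgroup.zpowers a)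
    (g : P) (hg : g ∉ Subgroup.zpowers a) : ∃ i : ℤ, g = b * a ^ i := by
  have hi := CfsgLib.TwoGroups.CyclicMax.index_zpowers hn hao
  have : b⁻¹ * g ∈ Subgroup.zpowers a :=
    (Subgroup.mul_mem_iff_of_index_two hi).mpr (iff_of_false (by simpa using hb) hg)
  obtain ⟨i, hi⟩ := Subgroup.mem_zpowers_iff.mp this
  exact ⟨i, by rw [hi, mul_inv_cancel_left]⟩

theorem modular {P : Type*} [Group P] [Finite P] {a b : P} {k : ℕ} (hk : 3 ≤ k)
    (hn : Nat.card P = 2 ^ (k + 1)) (hao : orderOf a = 2 ^ k) (hb : b ∉ Subgroup.zpowers a)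
    (hba : b * a * b⁻¹ = a ^ (1 + 2 ^ (k - 1))) (h4 : (commutator P).index = 4) : False := by
  set z := a ^ 2 ^ (k - 1) with hz
  have hzo : orderOf z = 2 := by
    rw [hz, orderOf_pow_of_dvd (by positivity) (hao ▸ pow_dvd_pow 2 (by omega)), hao,
      Nat.pow_div (by omega) two_pos, show k - (k - 1) = 1 by omega, pow_one]
  have hbz : b * z * b⁻¹ = z := by
    have hz2 : z ^ 2 = 1 := hzo ▸ pow_orderOf_eq_one z
    rw [hz, ← conj_pow, hba, ← pow_mul, add_mul, one_mul, pow_add,
      show 2 ^ (k - 1) * 2 ^ (k - 1) = 2 * (2 ^ (k - 2) * 2 ^ (k - 1)) by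
        rw [← pow_add, ← pow_add, ← pow_succ']; congr 1; omega,
      pow_mul a 2, ← pow_mul a 2, show 2 * (2 ^ (k - 2) * 2 ^ (k - 1)) = 2 ^ (k - 1) * (2 * 2 ^ (k - 2)) by ring,
      pow_mul, ← hz, pow_mul, hz2, one_pow, mul_one]
  have hcent : z ∈ Subgroup.center P := by
    rw [Subgroup.mem_center_iff]
    intro g
    by_cases hg : g ∈ Subgroup.zpowers a
    · obtain ⟨i, rfl⟩ := Subgroup.mem_zpowers_iff.mp hg
      exact ((Commute.refl a).zpow_left i).pow_right _
    · obtain ⟨i, rfl⟩ := outside (by omega) hn hao hb g hg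
      have h1 : Commute b z := mul_inv_eq_iff_eq_mul.mp hbz
      exact h1.mul_left (((Commute.refl a).zpow_left i).pow_right _)
  haveI := CfsgLib.TwoGroups.Classify.normal_zpowers_of_central hcent
  have hle : commutator P ≤ Subgroup.zpowers z := by
    let q := QuotientGroup.mk' (Subgroup.zpowers z)
    have hqz : q z = 1 := (QuotientGroup.eq_one_iff z).mpr (Subgroup.mem_zpowers z)
    have hab : Commute (q b) (q a) := by
      have := congrArg q hba
      rw [map_mul, map_mul, map_inv, pow_add, pow_one, map_mul, ← hz, hqz, mul_one] at this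
      exact mul_inv_eq_iff_eq_mul.mp this
    rw [commutator_def, Subgroup.commutator_le]
    intro x _ y _
    rw [← QuotientGroup.eq_one_iff]
    show q ⁅x, y⁆ = 1
    rw [map_commutatorElement, commutatorElement_eq_one_iff_commute]
    have hgen : ∀ g : P, Commute (q g) (q a) ∧ Commute (q g) (q b) := by
      intro g
      by_cases hg : g ∈ Subgroup.zpowers a
      · obtain ⟨i, rfl⟩ := Subgroup.mem_zpowers_iff.mp hg
        rw [map_zpow]
        exact ⟨(Commute.refl _).zpow_left i, hab.symm.zpow_left i⟩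
      · obtain ⟨i, rfl⟩ := outside (by omega) hn hao hb g hg
        rw [map_mul, map_zpow]
        exact ⟨hab.mul_left ((Commute.refl _).zpow_left i),
          (Commute.refl _).mul_left (hab.symm.zpow_left i)⟩
    by_cases hy : y ∈ Subgroup.zpowers a
    · obtain ⟨i, rfl⟩ := Subgroup.mem_zpowers_iff.mp hy
      rw [map_zpow]
      exact (hgen x).1.zpow_right i
    · obtain ⟨i, rfl⟩ := outside (by omega) hn hao hb y hy
      rw [map_mul, map_zpow]
      exact (hgen x).2.mul_right ((hgen x).1.zpow_right i)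
  have h2 := Subgroup.card_le_of_le hle
  rw [Nat.card_zpowers, hzo] at h2
  have h3 := (commutator P).card_mul_index
  rw [h4, hn] at h3
  have : 2 ^ 4 ≤ 2 ^ (k + 1) := Nat.pow_le_pow_right two_pos (by omega)
  omega

theorem eq_one_of_unique {P : Type*} [Group P] [Finite P] {a b : P} {k : ℕ} (hk : 2 ≤ k)
    (hn : Nat.card P = 2 ^ (k + 1)) (hao : orderOf a = 2 ^ k) (hb : b ∉ Subgroup.zpowers a)
    (hu : ∀ g, g ∉ Subgroup.zpowers a → orderOf g < 2 ^ k) (ψ : MulAut P) {m : ℕ} (hm : Odd m)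
    (hψ : ψ ^ m = 1) : ψ = 1 := by
  have hmem : ∀ g ∈ Subgroup.zpowers a, ψ g ∈ Subgroup.zpowers a := by
    have ha : ψ a ∈ Subgroup.zpowers a := by
      by_contra h
      have := hu _ h
      rw [MulEquiv.orderOf_eq, hao] at this
      exact lt_irrefl _ this
    intro g hg
    obtain ⟨i, rfl⟩ := Subgroup.mem_zpowers_iff.mp hg
    rw [map_zpow]
    exact Subgroup.zpow_mem _ ha i
  obtain ⟨r, hr⟩ := Subgroup.mem_zpowers_iff.mp (hmem a (Subgroup.mem_zpowers a))
  have hpow : ∀ j : ℕ, (ψ ^ j) a = a ^ (r ^ j) := by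
    intro j
    induction j with
    | zero => simp
    | succ j ih => rw [pow_succ', MulAut.mul_apply, ih, map_zpow, ← hr, ← zpow_mul, pow_succ']
  have h1 : (r : ZMod (2 ^ k)) ^ m = 1 := by
    have := hpow m
    rw [hψ, MulAut.one_apply] at this
    rw [← Int.cast_pow, ← Int.cast_one, ZMod.intCast_eq_intCast_iff_dvd_sub]
    have h0 : a ^ (1 - r ^ m) = 1 := by rw [zpow_sub, zpow_one, ← this, mul_inv_cancel]
    have := orderOf_dvd_iff_zpow_eq_one.mpr h0
    rwa [hao] at this
  have hr1 : (r : ZMod (2 ^ k)) = 1 := by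
    let u : (ZMod (2 ^ k))ˣ := Units.ofPowEqOne _ m h1 hm.pos.ne'
    have hu1 : u ^ m = 1 := Units.pow_ofPowEqOne h1 hm.pos.ne'
    have hu2 := orderOf_dvd_of_pow_eq_one (ZMod.pow_totient u)
    rw [Nat.totient_prime_pow Nat.prime_two (by omega), show (2 - 1 : ℕ) = 1 from rfl, mul_one] at hu2
    have hco : Nat.Coprime m (2 ^ (k - 1)) := Nat.Coprime.pow_right _ (Nat.coprime_two_right.mpr hm)
    have := orderOf_eq_one_iff.mp (Nat.dvd_one.mp
      (hco ▸ Nat.dvd_gcd (orderOf_dvd_of_pow_eq_one hu1) hu2))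
    have hv : ((u : (ZMod (2 ^ k))ˣ) : ZMod (2 ^ k)) = (r : ZMod (2 ^ k)) := rfl
    rw [← hv, this, Units.val_one]
  have ha1 : ψ a = a := by
    rw [← hr]
    rw [← Int.cast_one, ZMod.intCast_eq_intCast_iff_dvd_sub] at hr1
    have h0 : a ^ (1 - r) = 1 := by
      apply orderOf_dvd_iff_zpow_eq_one.mp
      rw [hao]; exact hr1
    rw [zpow_sub, zpow_one, mul_inv_eq_one] at h0
    exact h0.symm
  have hbout : ψ b ∉ Subgroup.zpowers a := by
    intro h
    obtain ⟨i, hi⟩ := Subgroup.mem_zpowers_iff.mp h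
    apply hb
    have : ψ b = ψ (a ^ i) := by rw [map_zpow, ha1, hi]
    exact ψ.injective this ▸ Subgroup.zpow_mem _ (Subgroup.mem_zpowers a) i
  obtain ⟨j, hj⟩ := outside hk hn hao hb _ hbout
  have hbj : ∀ t : ℕ, (ψ ^ t) b = b * a ^ (j * t) := by
    intro t
    induction t with
    | zero => simp
    | succ t ih =>
      rw [pow_succ', MulAut.mul_apply, ih, map_mul, map_zpow, ha1, hj, mul_assoc, ← zpow_add]
      congr 2
      push_cast; ring
  have hjz : a ^ j = 1 := by
    have := hbj m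
    rw [hψ, MulAut.one_apply, left_eq_mul] at this
    have h2 := orderOf_dvd_iff_zpow_eq_one.mpr this
    rw [hao] at h2
    refine orderOf_dvd_iff_zpow_eq_one.mp ?_
    rw [hao]
    refine Int.dvd_of_dvd_mul_left_of_gcd_one h2 ?_
    rw [Int.gcd_natCast_natCast]
    exact Nat.Coprime.pow_left _ (Nat.coprime_two_left.mpr hm)
  ext g
  by_cases hg : g ∈ Subgroup.zpowers a
  · obtain ⟨i, rfl⟩ := Subgroup.mem_zpowers_iff.mp hg
    rw [map_zpow, ha1, MulAut.one_apply]
  · obtain ⟨i, rfl⟩ := outside hk hn hao hb g hg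
    rw [map_mul, map_zpow, ha1, hj, hjz, mul_one, MulAut.one_apply]

/-- Let P be a finite non-abelian 2-group whose commutator subgroup has index 4 and whose automorphism group is not a 2-group (some automorphism has order that is not a power of 2). Then P is isomorphic to the quaternion group of order 8. -/
theorem result {P : Type*} [Group P] [Finite P] (hP : IsPGroup 2 P) (hna : ¬ IsMulCommutative P) (h4 : (commutator P).index = 4) (haut : ¬ IsPGroup 2 (MulAut P)) : Nonempty (P ≃* QuaternionGroup 2) := by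
  haveI : Fact (Nat.Prime 2) := ⟨Nat.prime_two⟩
  obtain ⟨n, hn⟩ := IsPGroup.iff_card.mp hP
  have hna' : ∃ x y : P, x * y ≠ y * x := by
    by_contra! h
    exact hna ⟨⟨h⟩⟩
  have hn3 : 3 ≤ n := by
    by_contra hlt
    have hdvd : (commutator P).index ∣ Nat.card P := Subgroup.index_dvd_card _
    rw [h4, hn] at hdvd
    have h2 : n = 2 := by
      interval_cases n <;> simp_all
    exact hna ⟨⟨(IsPGroup.isMulCommutative_of_card_eq_prime_sq (p := 2) (G := P) (by rw [hn, h2])).is_comm.comm⟩⟩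
  obtain ⟨C, hC, hCi⟩ := CfsgLib.TwoGroups.Classify.cyclic_max_of_commutator (n - 3) P
    (by rw [hn]; congr 1; omega) h4
  obtain ⟨a, haC, hord⟩ := CfsgLib.TwoGroups.Classify.exists_generator hC hCi
  obtain ⟨k, hk, rfl⟩ : ∃ k, 2 ≤ k ∧ n = k + 1 := ⟨n - 1, by omega, by omega⟩
  have hao : orderOf a = 2 ^ k := by
    rw [hn, pow_succ'] at hord
    omega
  obtain ⟨b, hb, hcases⟩ := CfsgLib.TwoGroups.Classify.classify hk hn hao hna'
  obtain ⟨φ, hφ⟩ : ∃ φ : MulAut P, ∀ j : ℕ, φ ^ 2 ^ j ≠ 1 := by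
    by_contra! hc
    exact haut hc
  obtain ⟨v, m, hm, hord'⟩ := Nat.exists_eq_pow_mul_and_not_dvd (orderOf_pos φ).ne' 2 (by norm_num)
  have hψn : (φ ^ 2 ^ v) ^ m = 1 := by rw [← pow_mul, ← hord']; exact pow_orderOf_eq_one φ
  -- a unique cyclic subgroup of index two leaves no room for an automorphism of odd order
  have rigid : (∀ g, g ∉ Subgroup.zpowers a → orderOf g < 2 ^ k) → False := fun hu =>
    hφ v (eq_one_of_unique hk hn hao hb hu (φ ^ 2 ^ v) (Nat.odd_iff.mpr (by omega)) hψn)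
  rcases hcases with ⟨hb2, hba⟩ | ⟨hb2, hba⟩ | ⟨hk3, hb2, hba⟩ | ⟨hk3, hb2, hba⟩
  · -- dihedral
    refine (rigid fun g hg => ?_).elim
    obtain ⟨i, hi⟩ := outside hk hn hao hb g hg
    have : g ^ 2 = 1 := by
      rw [hi, sq_outside a b (-1) (by simpa using hba) i, hb2, mul_one, ← zpow_add,
        show -1 * i + i = 0 by ring, zpow_zero]
    calc orderOf g ≤ 2 := Nat.le_of_dvd two_pos (orderOf_dvd_of_pow_eq_one this)
      _ < 2 ^ 2 := by norm_num
      _ ≤ 2 ^ k := Nat.pow_le_pow_right two_pos hk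
  · -- quaternion
    rcases hk.eq_or_lt with rfl | hk3
    · exact CfsgLib.TwoGroups.CyclicMax.quaternion_iso (m := 2) two_ne_zero hao hn hb
        (by rw [← sq, hb2]; norm_num) hba
    refine (rigid fun g hg => ?_).elim
    obtain ⟨i, hi⟩ := outside hk hn hao hb g hg
    have h2 : g ^ 2 = a ^ 2 ^ (k - 1) := by
      rw [hi, sq_outside a b (-1) (by simpa using hba) i, hb2, ← zpow_natCast, ← zpow_add, ← zpow_add]
      congr 1
      ring
    have : g ^ 4 = 1 := by
      rw [show 4 = 2 * 2 by norm_num, pow_mul, h2, ← pow_mul, ← pow_succ,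
        show k - 1 + 1 = k by omega, ← hao, pow_orderOf_eq_one]
    calc orderOf g ≤ 4 := Nat.le_of_dvd (by norm_num) (orderOf_dvd_of_pow_eq_one this)
      _ < 2 ^ 3 := by norm_num
      _ ≤ 2 ^ k := Nat.pow_le_pow_right two_pos hk3
  · exfalso
    exact modular hk3 hn hao hb hba h4
  · refine (rigid fun g hg => ?_).elim
    obtain ⟨i, hi⟩ := outside hk hn hao hb g hg
    have hba' : b * a * b⁻¹ = a ^ ((2 : ℤ) ^ (k - 1) - 1) := by
      rw [hba, ← zpow_natCast a, Nat.cast_sub (Nat.one_le_two_pow)]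
      norm_num
    have h2 : g ^ 2 = (a ^ 2 ^ (k - 1)) ^ i := by
      rw [hi, sq_outside a b _ hba' i, hb2, mul_one, ← zpow_natCast a, ← zpow_mul, ← zpow_add]
      congr 1
      push_cast
      ring
    have : g ^ 4 = 1 := by
      rw [show 4 = 2 * 2 by norm_num, pow_mul, h2, ← zpow_natCast ((a ^ 2 ^ (k - 1)) ^ i) 2,
        ← zpow_mul, mul_comm, zpow_mul, zpow_natCast, ← pow_mul, ← pow_succ,
        show k - 1 + 1 = k by omega, ← hao, pow_orderOf_eq_one, one_zpow]
    calc orderOf g ≤ 4 := Nat.le_of_dvd (by norm_num) (orderOf_dvd_of_pow_eq_one this)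
      _ < 2 ^ 3 := by norm_num
      _ ≤ 2 ^ k := Nat.pow_le_pow_right two_pos hk3

end Cfsg.Agent.S4189
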