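import Cfsg.Statements.S4192
import Cfsg.Agent.Lib.FTApps.RealGraph.Structure

set_option autoImplicit false
open Cfsg

namespace Cfsg.Agent.S4192

/-- Let G be a finite group; call an element real when it is conjugate to its inverse, and say that the real-class-size graph of a group is disconnected when the primes dividing its real class sizes split into two non-empty disjoint parts with no real class size divisible by a prime from each part. If the real-class-size graph of G is disconnected, then some real class size of G is even, and either the Sylow 2-subgroups of G are normal, or the subgroup K generated by the 2-elements of G (the smallest normal subgroup of odd index) again has a disconnected real-class-size graph and every real class size of K is odd or a power of 2. -/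
theorem result {G : Type*} [Group G] [Finite G] (h : (∃ π₁ π₂ : Set ℕ, π₁.Nonempty ∧ π₂.Nonempty ∧ Disjoint π₁ π₂ ∧ (∀ q ∈ π₁ ∪ π₂, q.Prime ∧ ∃ n ∈ {n : ℕ | ∃ x : G, IsConj x x⁻¹ ∧ (Subgroup.centralizer ({x} : Set G)).index = n}, q ∣ n) ∧ (∀ q : ℕ, q.Prime → (∃ n ∈ {n : ℕ | ∃ x : G, IsConj x x⁻¹ ∧ (Subgroup.centralizer ({x} : Set G)).index = n}, q ∣ n) → q ∈ π₁ ∨ q ∈ π₂) ∧ ∀ a ∈ π₁, ∀ b ∈ π₂, ∀ n ∈ {n : ℕ | ∃ x : G, IsConj x x⁻¹ ∧ (Subgroup.centralizer ({x} : Set G)).index = n}, ¬ (a ∣ n ∧ b ∣ n))) : (∃ n ∈ {n : ℕ | ∃ x : G, IsConj x x⁻¹ ∧ (Subgroup.centralizer ({x} : Set G)).index = n}, 2 ∣ n) ∧ ((∀ P : Sylow 2 G, (P : Subgroup G).Normal) ∨ ((∃ π₁ π₂ : Set ℕ, π₁.Nonempty ∧ π₂.Nonempty ∧ Disjoint π₁ π₂ ∧ (∀ q ∈ π₁ ∪ π₂, q.Prime ∧ ∃ n ∈ {n : ℕ | ∃ x : ↥(Subgroup.closure {g : G | ∃ k : ℕ, orderOf g =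 2 ^ k}), IsConj x x⁻¹ ∧ (Subgroup.centralizer ({x} : Set ↥(Subgroup.closure {g : G | ∃ k : ℕ, orderOf g = 2 ^ k}))).index = n}, q ∣ n) ∧ (∀ q : ℕ, q.Prime → (∃ n ∈ {n : ℕ | ∃ x : ↥(Subgroup.closure {g : G | ∃ k : ℕ, orderOf g = 2 ^ k}), IsConj x x⁻¹ ∧ (Subgroup.centralizer ({x} : Set ↥(Subgroup.closure {g : G | ∃ k : ℕ, orderOf g = 2 ^ k}))).index = n}, q ∣ n) → q ∈ π₁ ∨ q ∈ π₂) ∧ ∀ a ∈ π₁, ∀ b ∈ π₂, ∀ n ∈ {n : ℕ | ∃ x : ↥(Subgroup.closure {g : G | ∃ k : ℕ, orderOf g = 2 ^ k}), IsConj x x⁻¹ ∧ (Subgroup.centralizer ({x} : Set ↥(Subgroup.closure {g : G | ∃ k : ℕ, orderOf g = 2 ^ k}))).index = n}, ¬ (a ∣ n ∧ b ∣ n)) ∧ ∀ n ∈ {n : ℕ | ∃ x : ↥(Subgroup.closure {g : G | ∃ k : ℕ, orderOf g = 2 ^ k}), IsConj x x⁻¹ ∧ (Subgroup.centralizer ({x} : Set ↥(Subgroup.closure {g : G | ∃ k : ℕ, orderOf g = 2 ^ k}))).index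 = n}, Odd n ∨ ∃ j : ℕ, n = 2 ^ j)) := by
  obtain ⟨π₁, π₂, hn₁, hn₂, hdisj, hsub, hcover, hnoedge⟩ := h
  have h₁ : ∀ q ∈ π₁, q.Prime ∧ ∃ x g : G, g * x * g⁻¹ = x⁻¹ ∧ q ∣ CfsgLib.FTApps.RealGraph.idx x := by
    intro q hq
    obtain ⟨hp, n, ⟨x, hx, rfl⟩, hd⟩ := hsub q (Or.inl hq)
    obtain ⟨g, hg⟩ := isConj_iff.1 hx
    exact ⟨hp, x, g, hg, hd⟩
  have h₂ : ∀ q ∈ π₂, q.Prime ∧ ∃ x g : G, g * x * g⁻¹ = x⁻¹ ∧ q ∣ CfsgLib.FTApps.RealGraph.idx x := by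
    intro q hq
    obtain ⟨hp, n, ⟨x, hx, rfl⟩, hd⟩ := hsub q (Or.inr hq)
    obtain ⟨g, hg⟩ := isConj_iff.1 hx
    exact ⟨hp, x, g, hg, hd⟩
  have hcov : ∀ (x g : G) (q : ℕ), g * x * g⁻¹ = x⁻¹ → q.Prime →
      q ∣ CfsgLib.FTApps.RealGraph.idx x → q ∈ π₁ ∨ q ∈ π₂ := fun x g q hg hq hd =>
    hcover q hq ⟨_, ⟨x, isConj_iff.2 ⟨g, hg⟩, rfl⟩, hd⟩
  have hno : ∀ (x g : G), g * x * g⁻¹ = x⁻¹ → ∀ a ∈ π₁, ∀ b ∈ π₂,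
      ¬ (a ∣ CfsgLib.FTApps.RealGraph.idx x ∧ b ∣ CfsgLib.FTApps.RealGraph.idx x) :=
    fun x g hg a ha b hb => hnoedge a ha b hb _ ⟨x, isConj_iff.2 ⟨g, hg⟩, rfl⟩
  obtain ⟨y, g, hg, hy2⟩ :=
    CfsgLib.FTApps.RealGraph.exists_even π₁ π₂ hdisj h₁ h₂ hn₁ hn₂ hcov hno
  refine ⟨⟨_, ⟨y, isConj_iff.2 ⟨g, hg⟩, rfl⟩, hy2⟩, or_iff_not_imp_left.2 fun hsyl => ?_⟩
  obtain ⟨π, hπ2, hS, t, ht, hA⟩ : ∃ π : Set ℕ, 2 ∈ π ∧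
      CfsgLib.FTApps.RealGraph.Split G (· ∈ π) ∧ ∃ t : G, CfsgLib.FTApps.RealGraph.Invol t ∧
        CfsgLib.FTApps.RealGraph.TypeA (· ∈ π) t := by
    rcases hcov y g 2 hg Nat.prime_two hy2 with h | h
    · exact ⟨π₁, h, CfsgLib.FTApps.RealGraph.exists_typeA π₁ π₂ h hn₂ h₂ hcov hno⟩
    · exact ⟨π₂, h, CfsgLib.FTApps.RealGraph.exists_typeA π₂ π₁ h hn₁ h₁
        (fun x g q a b c => (hcov x g q a b c).symm)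
        (fun x g hx a ha b hb ⟨i, j⟩ => hno x g hx b hb a ha ⟨j, i⟩)⟩
  obtain ⟨⟨y₁, g₁, hy₁, q₁, hq₁, hqd₁, hP₁⟩, ⟨y₂, g₂, hy₂, q₂, hq₂, hqd₂, hP₂⟩, hsplit, hsize⟩ :=
    CfsgLib.FTApps.RealGraph.twoGen_structure (P := (· ∈ π)) hπ2 hS ht hA hsyl
  set R := {n : ℕ | ∃ x : ↥(Subgroup.closure {g : G | ∃ k : ℕ, orderOf g = 2 ^ k}),
    IsConj x x⁻¹ ∧ (Subgroup.centralizer ({x} : Set ↥(Subgroup.closure {g : G | ∃ k : ℕ, orderOf g = 2 ^ k}))).index = n}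
    with hR
  refine ⟨⟨{q | q ∈ π ∧ q.Prime ∧ ∃ n ∈ R, q ∣ n}, {q | q ∉ π ∧ q.Prime ∧ ∃ n ∈ R, q ∣ n},
    ⟨q₁, hP₁, hq₁, _, ⟨y₁, isConj_iff.2 ⟨g₁, hy₁⟩, rfl⟩, hqd₁⟩,
    ⟨q₂, hP₂, hq₂, _, ⟨y₂, isConj_iff.2 ⟨g₂, hy₂⟩, rfl⟩, hqd₂⟩,
    Set.disjoint_left.2 fun q hq hq' => hq'.1 hq.1,
    fun q hq => hq.elim (fun h => h.2) (fun h => h.2),
    fun q hq hn => ?_, ?_⟩, ?_⟩
  · by_cases h : q ∈ π
    · exact Or.inl ⟨h, hq, hn⟩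
    · exact Or.inr ⟨h, hq, hn⟩
  · rintro a ⟨ha, hap, -⟩ b ⟨hb, hbp, -⟩ n ⟨x, hx, rfl⟩ ⟨had, hbd⟩
    obtain ⟨k, hk⟩ := isConj_iff.1 hx
    rcases hsplit x k hk with h | h
    · exact hb (h b hbp hbd)
    · exact h a hap had ha
  · rintro n ⟨x, hx, rfl⟩
    obtain ⟨k, hk⟩ := isConj_iff.1 hx
    exact hsize x k hk

end Cfsg.Agent.S4192
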