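import Cfsg.Statements.S4194
import Cfsg.Agent.Lib.TwoCentral.Main
-- import your own Cfsg.Agent.* helpers here

set_option autoImplicit false
open Cfsg

namespace Cfsg.Agent.S4194

/-- A finite group G has commutative Sylow 2-subgroups if and only if every 2-element of G (element of order a power of 2) is 2-central, that is, its centralizer contains a Sylow 2-subgroup of G. -/
theorem result {G : Type*} [Group G] [Finite G] (P : Sylow 2 G) :
    IsMulCommutative (P : Subgroup G) ↔ ∀ x : G, (∃ k : ℕ, orderOf x = 2 ^ k) → (∃ Q : Sylow 2 G, (Q : Subgroup G) ≤ Subgroup.centralizer ({x} : Set G)) := by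
  haveI : Fact (Nat.Prime 2) := ⟨Nat.prime_two⟩
  constructor
  · intro hP x hx
    obtain ⟨k, hk⟩ := hx
    obtain ⟨Q, hQ⟩ := (IsPGroup.of_card (G := Subgroup.zpowers x) (n := k)
      (by rw [Nat.card_zpowers, hk])).exists_le_sylow
    refine ⟨Q, fun q hq => Subgroup.mem_centralizer_singleton_iff.2 ?_⟩
    obtain ⟨g, hg⟩ := MulAction.exists_smul_eq G P Q
    have hxQ : x ∈ (Q : Subgroup G) := hQ (Subgroup.mem_zpowers x)
    rw [← hg] at hxQ hq
    obtain ⟨a, ha, rfl⟩ := hxQ
    obtain ⟨b, hb, rfl⟩ := hq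
    have hab : b * a = a * b := congrArg Subtype.val (hP.is_comm.comm ⟨b, hb⟩ ⟨a, ha⟩)
    show g * b * g⁻¹ * (g * a * g⁻¹) = g * a * g⁻¹ * (g * b * g⁻¹)
    calc g * b * g⁻¹ * (g * a * g⁻¹) = g * (b * a) * g⁻¹ := by group
      _ = _ := by rw [hab]; group
  · intro h
    refine CfsgLib.TwoCentral.abelian_of_oddClasses (fun x hx hd => ?_) P
    obtain ⟨Q, hQ⟩ := h x hx
    exact Q.not_dvd_index (hd.trans (Subgroup.index_dvd_of_le hQ))

end Cfsg.Agent.S4194
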