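import Cfsg.Statements.S4196
import Cfsg.Agent.Lib.PGroup.Basic

set_option autoImplicit false
open Cfsg

namespace Cfsg.Agent.S4196

/-- A finite group G has elementary abelian Sylow 2-subgroups (commutative with every element squaring to the identity) if and only if every 2-element of G has a Sylow 2-subgroup in its centralizer and is conjugate to its inverse. -/
theorem result {G : Type*} [Group G] [Finite G] (P : Sylow 2 G) :
    (IsMulCommutative (P : Subgroup G) ∧ ∀ x ∈ (P : Subgroup G), x ^ 2 = 1) ↔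
      ∀ x : G, (∃ k : ℕ, orderOf x = 2 ^ k) → (∃ Q : Sylow 2 G, (Q : Subgroup G) ≤ Subgroup.centralizer ({x} : Set G)) ∧ IsConj x x⁻¹ := by
  constructor
  · rintro ⟨hab, hsq⟩ x hx
    obtain ⟨Q, hQ⟩ := CfsgLib.PGroup.Basic.mem_sylow_of_orderOf hx
    obtain ⟨g, hg⟩ := MulAction.exists_smul_eq G P Q
    have hQeq : ∀ y ∈ (Q : Subgroup G), g⁻¹ * y * g ∈ (P : Subgroup G) := by
      intro y hy
      rw [← hg, Sylow.coe_subgroup_smul] at hy
      obtain ⟨z, hz, rfl⟩ := Subgroup.mem_smul_pointwise_iff_exists _ _ _ |>.1 hy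
      simpa [MulAut.conj_apply, mul_assoc] using hz
    refine ⟨⟨Q, fun y hy => ?_⟩, ?_⟩
    · rw [Subgroup.mem_centralizer_singleton_iff]
      have hc : g⁻¹ * y * g * (g⁻¹ * x * g) = g⁻¹ * x * g * (g⁻¹ * y * g) :=
        congrArg Subtype.val (hab.is_comm.comm (⟨_, hQeq y hy⟩ : (P : Subgroup G)) ⟨_, hQeq x hQ⟩)
      calc y * x = g * (g⁻¹ * y * g * (g⁻¹ * x * g)) * g⁻¹ := by group
        _ = g * (g⁻¹ * x * g * (g⁻¹ * y * g)) * g⁻¹ := by rw [hc]
        _ = x * y := by group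
    · have h2 : (g⁻¹ * x * g) ^ 2 = 1 := hsq _ (hQeq x hQ)
      have h3 : x ^ 2 = 1 := by
        have : (g⁻¹ * x * g⁻¹⁻¹) ^ 2 = 1 := by rw [inv_inv]; exact h2
        rwa [conj_pow, conj_eq_one_iff] at this
      rw [pow_two, mul_eq_one_iff_eq_inv] at h3
      rw [← h3]
  · intro h
    have hsq : ∀ x ∈ (P : Subgroup G), x ^ 2 = 1 := by
      intro x hx
      obtain ⟨⟨Q, hQ⟩, hr⟩ := h x (CfsgLib.PGroup.Basic.exists_orderOf_eq_pow_of_mem P.isPGroup' hx)
      exact CfsgLib.PGroup.Basic.sq_eq_one_of_real_of_odd hr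
        (CfsgLib.PGroup.Basic.not_dvd_index_of_sylow_le hQ)
    refine ⟨⟨⟨fun a b => ?_⟩⟩, hsq⟩
    have ha : a * a = 1 := Subtype.ext (by simpa [pow_two] using hsq a a.2)
    have hb : b * b = 1 := Subtype.ext (by simpa [pow_two] using hsq b b.2)
    have hab : (a * b) * (a * b) = 1 :=
      Subtype.ext (by simpa [pow_two] using hsq _ (a * b).2)
    rw [mul_eq_one_iff_eq_inv] at ha hb hab
    calc a * b = (a * b)⁻¹ := hab
      _ = b * a := by rw [mul_inv_rev, ← ha, ← hb]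

end Cfsg.Agent.S4196
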