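import Cfsg.Statements.S4198
import Mathlib

set_option autoImplicit false
open Cfsg

namespace Cfsg.Agent.S4198

open Equiv Equiv.Perm

theorem partition_step (n : ℕ) (hn : 1 ≤ n) :
    Nat.card (Nat.Partition (n + 1)) ≤ 2 * Nat.card (Nat.Partition n) := by
  classical
  have key : ∀ P : Nat.Partition (n + 1), ∃ x : Bool × Nat.Partition n,
      (x.1 = true → 1 ::ₘ x.2.parts = P.parts) ∧
      (x.1 = false → ∃ m ∈ P.parts, 2 ≤ m ∧ (∀ i ∈ P.parts, m ≤ i) ∧
        x.2.parts = (m - 1) ::ₘ P.parts.erase m) := by
    intro P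
    by_cases h1 : 1 ∈ P.parts
    · refine ⟨(true, ⟨P.parts.erase 1, fun hi => P.parts_pos (Multiset.mem_of_mem_erase hi), ?_⟩),
        fun _ => Multiset.cons_erase h1, by simp⟩
      have := congrArg Multiset.sum (Multiset.cons_erase h1)
      rw [Multiset.sum_cons, P.parts_sum] at this
      omega
    · have hne : P.parts.toFinset.Nonempty := by
        rw [Multiset.toFinset_nonempty]
        intro h
        have := P.parts_sum
        rw [h, Multiset.sum_zero] at this
        omega
      obtain ⟨m, hm, hmin⟩ := Finset.exists_min_image P.parts.toFinset id hne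
      rw [Multiset.mem_toFinset] at hm
      have hmin' : ∀ i ∈ P.parts, m ≤ i := fun i hi => hmin i (Multiset.mem_toFinset.mpr hi)
      have hm2 : 2 ≤ m := by
        have := P.parts_pos hm
        by_contra h
        exact h1 (show (1 : ℕ) = m by omega ▸ hm)
      refine ⟨(false, ⟨(m - 1) ::ₘ P.parts.erase m, fun hi => ?_, ?_⟩), by simp,
        fun _ => ⟨m, hm, hm2, hmin', rfl⟩⟩
      · rcases Multiset.mem_cons.mp hi with rfl | hi
        · omega
        · exact P.parts_pos (Multiset.mem_of_mem_erase hi)
      · have := congrArg Multiset.sum (Multiset.cons_erase hm)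
        rw [Multiset.sum_cons, P.parts_sum] at this
        rw [Multiset.sum_cons]
        omega
  choose f ht hf using key
  refine (Nat.card_le_card_of_injective f fun P Q h => ?_).trans (le_of_eq (by simp [Nat.card_prod]))
  apply Nat.Partition.ext
  cases hb : (f P).1
  · obtain ⟨m, hm, hm2, hmin, he⟩ := hf P hb
    obtain ⟨m', hm', hm2', hmin', he'⟩ := hf Q (by rw [← h]; exact hb)
    rw [← h, he] at he'
    have hmm : m = m' := by
      rcases Multiset.mem_cons.mp (he' ▸ Multiset.mem_cons_self (m - 1) _) with h1 | h1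
      · omega
      · have h1' := hmin' _ (Multiset.mem_of_mem_erase h1)
        rcases Multiset.mem_cons.mp (he'.symm ▸ Multiset.mem_cons_self (m' - 1) _) with h2 | h2
        · omega
        · have h2' := hmin _ (Multiset.mem_of_mem_erase h2)
          omega
    subst hmm
    rw [Multiset.cons_inj_right] at he'
    rw [← Multiset.cons_erase hm, ← Multiset.cons_erase hm', he']
  · rw [← ht P hb, ← ht Q (by rw [← h]; exact hb), h]

theorem partition_five : Fintype.card (Nat.Partition 5) ≤ 8 := by
  classical
  let T : Finset (ℕ × ℕ × ℕ × ℕ) := (Finset.range 3 ×ˢ Finset.range 2 ×ˢ Finset.range 2 ×ˢ Finset.range 2).filter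
    fun t => 2 * t.1 + 3 * t.2.1 + 4 * t.2.2.1 + 5 * t.2.2.2 ≤ 5
  have hrep : ∀ P : Nat.Partition 5, P.parts = Multiset.replicate (P.parts.count 1) 1 +
      Multiset.replicate (P.parts.count 2) 2 + Multiset.replicate (P.parts.count 3) 3 +
      Multiset.replicate (P.parts.count 4) 4 + Multiset.replicate (P.parts.count 5) 5 := by
    intro P
    ext i
    simp only [Multiset.count_add, Multiset.count_replicate]
    by_cases hi : i ∈ P.parts
    · have := P.parts_pos hi
      have := Nat.Partition.le_of_mem_parts hi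
      interval_cases i <;> simp
    · rw [Multiset.count_eq_zero.mpr hi]
      split_ifs <;> subst_vars <;> simp_all
  let f : Nat.Partition 5 → ℕ × ℕ × ℕ × ℕ := fun P =>
    (P.parts.count 2, P.parts.count 3, P.parts.count 4, P.parts.count 5)
  have hsum : ∀ P : Nat.Partition 5, P.parts.count 1 + 2 * P.parts.count 2 + 3 * P.parts.count 3 +
      4 * P.parts.count 4 + 5 * P.parts.count 5 = 5 := by
    intro P
    have h := congrArg Multiset.sum (hrep P)
    rw [P.parts_sum] at h
    simp only [Multiset.sum_add, Multiset.sum_replicate, smul_eq_mul] at h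
    omega
  refine le_trans ?_ (show T.card ≤ 8 by decide)
  rw [← Finset.card_univ]
  refine Finset.card_le_card_of_injOn f (fun P _ => ?_) fun P _ Q _ h => ?_
  · have := hsum P
    simp only [T, f, Finset.coe_filter, Set.mem_setOf_eq, Finset.mem_product, Finset.mem_range]
    omega
  · simp only [f, Prod.mk.injEq] at h
    have := hsum P
    have := hsum Q
    have h1 : P.parts.count 1 = Q.parts.count 1 := by omega
    exact Nat.Partition.ext (by rw [hrep P, hrep Q, h1, h.1, h.2.1, h.2.2.1, h.2.2.2])

theorem perm_le (n : ℕ) (hn : 5 ≤ n) : Nat.card (ConjClasses (Perm (Fin n))) ≤ 2 ^ (n - 2) := by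
  let f : ConjClasses (Perm (Fin n)) → Nat.Partition (Fintype.card (Fin n)) :=
    Quotient.lift (fun σ => σ.partition) fun _ _ h => partition_eq_of_isConj.mp h
  have hf : Function.Injective f := by
    intro a b
    induction a using Quotient.inductionOn with | _ a => ?_
    induction b using Quotient.inductionOn with | _ b => ?_
    exact fun h => Quotient.sound (partition_eq_of_isConj.mpr h)
  refine (Nat.card_le_card_of_injective f hf).trans ?_
  rw [Fintype.card_fin]
  clear hf f
  induction n, hn using Nat.le_induction with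
  | base => rw [Nat.card_eq_fintype_card]; exact partition_five
  | succ n hn ih =>
    refine (partition_step n (by omega)).trans ?_
    rw [show n + 1 - 2 = (n - 2) + 1 by omega, pow_succ']
    omega

theorem odd_twin {n : ℕ} (hn : 5 ≤ n) (σ : Perm (Fin n))
    (h : Subgroup.centralizer {σ} ≤ alternatingGroup (Fin n)) :
    ∃ (τ : Perm (Fin n)) (a : ℕ), a ∈ σ.cycleType ∧ (∀ i ∈ σ.cycleType, Odd i) ∧
      τ.cycleType = (a - 1) ::ₘ σ.cycleType.erase a ∧ Perm.sign τ = -1 ∧ 3 ≤ a ∧
      4 ≤ σ.cycleType.sum := by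
  obtain ⟨hodd, hsum, -⟩ := centralizer_le_alternating_iff.mp h
  rw [Fintype.card_fin] at hsum
  have hne : σ.cycleType.toFinset.Nonempty := by
    rw [Multiset.toFinset_nonempty]
    intro h0
    rw [h0, Multiset.sum_zero] at hsum
    omega
  obtain ⟨a, ha⟩ := hne
  rw [Multiset.mem_toFinset] at ha
  have ha3 : 3 ≤ a := by
    have := two_le_of_mem_cycleType ha
    obtain ⟨k, hk⟩ := hodd a ha
    omega
  have hc := congrArg Multiset.sum (Multiset.cons_erase ha)
  rw [Multiset.sum_cons] at hc
  obtain ⟨τ, hτ⟩ : ∃ τ : Perm (Fin n), τ.cycleType = (a - 1) ::ₘ σ.cycleType.erase a := by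
    rw [exists_with_cycleType_iff]
    refine ⟨?_, fun i hi => ?_⟩
    · rw [Multiset.sum_cons, Fintype.card_fin]
      have hs : σ.cycleType.sum ≤ n := by
        rw [sum_cycleType]
        exact le_trans (Finset.card_le_univ _) (Fintype.card_fin n).le
      omega
    · rcases Multiset.mem_cons.mp hi with rfl | hi
      · omega
      · exact two_le_of_mem_cycleType (Multiset.mem_of_mem_erase hi)
  refine ⟨τ, a, ha, hodd, hτ, ?_, ha3, by omega⟩
  rw [sign_of_cycleType, hτ, Multiset.sum_cons, Multiset.card_cons,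
    Multiset.card_erase_of_mem ha]
  have hpar : Even (σ.cycleType.sum + σ.cycleType.card) := by
    have : ∀ s : Multiset ℕ, (∀ i ∈ s, Odd i) → Even (s.sum + s.card) := by
      intro s
      induction s using Multiset.induction with
      | empty => simp
      | cons x s ih =>
        intro hs
        obtain ⟨k, hk⟩ := hs x (Multiset.mem_cons_self _ _)
        obtain ⟨l, hl⟩ := ih fun i hi => hs i (Multiset.mem_cons_of_mem hi)
        rw [Multiset.sum_cons, Multiset.card_cons]
        exact ⟨k + l + 1, by omega⟩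
    exact this _ hodd
  have hcard : 0 < σ.cycleType.card := Multiset.card_pos_iff_exists_mem.mpr ⟨a, ha⟩
  obtain ⟨k, hk⟩ := hpar
  exact Odd.neg_one_pow ⟨k - 1, by rw [Nat.pred_eq_sub_one]; omega⟩

theorem alternating_lt {n : ℕ} (hn : 5 ≤ n) :
    Nat.card (ConjClasses (alternatingGroup (Fin n))) < Nat.card (ConjClasses (Perm (Fin n))) := by
  classical
  let π : ConjClasses (alternatingGroup (Fin n)) → ConjClasses (Perm (Fin n)) :=
    ConjClasses.map (alternatingGroup (Fin n)).subtype
  let rep : ConjClasses (alternatingGroup (Fin n)) → alternatingGroup (Fin n) := Quotient.out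
  have hrep : ∀ D, ConjClasses.mk (rep D) = D := Quotient.out_eq
  have hπ : ∀ D, π D = ConjClasses.mk ((rep D : alternatingGroup (Fin n)) : Perm (Fin n)) := fun D => by
    conv_lhs => rw [← hrep D]
    rfl
  let s : ConjClasses (alternatingGroup (Fin n)) → ConjClasses (alternatingGroup (Fin n)) := fun D =>
    (⟨D, rfl⟩ : ∃ E, π E = π D).choose
  have hs1 : ∀ D, π (s D) = π D := fun D => (⟨D, rfl⟩ : ∃ E, π E = π D).choose_spec
  have hs2 : ∀ D E, π D = π E → s D = s E := fun D E h => by
    simp only [s]
    congr 1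
    funext F
    rw [h]
  -- a conjugator from the representative of `s D`
  have hodd : ∀ D, s D ≠ D → ∃ x : Perm (Fin n),
      x * (rep (s D) : Perm (Fin n)) * x⁻¹ = rep D ∧ x ∉ alternatingGroup (Fin n) := by
    intro D hD
    have h := hs1 D
    rw [hπ, hπ, ConjClasses.mk_eq_mk_iff_isConj, isConj_iff] at h
    obtain ⟨x, hx⟩ := h
    refine ⟨x, hx, fun hxA => hD (((hrep (s D)).symm.trans ?_).trans (hrep D))⟩
    rw [ConjClasses.mk_eq_mk_iff_isConj, isConj_iff]
    exact ⟨⟨x, hxA⟩, Subtype.ext hx⟩
  have hmulA : ∀ x y : Perm (Fin n), x ∉ alternatingGroup (Fin n) → y ∉ alternatingGroup (Fin n) →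
      x * y ∈ alternatingGroup (Fin n) := by
    intro x y hx hy
    rw [mem_alternatingGroup] at hx hy ⊢
    rw [map_mul, (Int.units_eq_one_or _).resolve_left hx, (Int.units_eq_one_or _).resolve_left hy]
    rfl
  have huniq : ∀ D E, π D = π E → s D ≠ D → s E ≠ E → D = E := by
    intro D E h hD hE
    obtain ⟨x, hx, hxA⟩ := hodd D hD
    obtain ⟨y, hy, hyA⟩ := hodd E hE
    rw [← hs2 D E h] at hy
    rw [← hrep D, ← hrep E, ConjClasses.mk_eq_mk_iff_isConj, isConj_iff]
    refine ⟨⟨y * x⁻¹, hmulA _ _ hyA (fun h => hxA (by simpa using h))⟩, Subtype.ext ?_⟩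
    simp only [Subgroup.coe_mul, Subgroup.coe_inv, ← hx, ← hy]
    group
  have hcent : ∀ D, s D ≠ D →
      Subgroup.centralizer {(rep D : Perm (Fin n))} ≤ alternatingGroup (Fin n) := by
    intro D hD z hz
    by_contra hzA
    obtain ⟨x, hx, hxA⟩ := hodd D hD
    refine hD (((hrep (s D)).symm.trans ?_).trans (hrep D))
    rw [ConjClasses.mk_eq_mk_iff_isConj, isConj_iff]
    refine ⟨⟨z * x, hmulA _ _ hzA hxA⟩, Subtype.ext ?_⟩
    simp only [Subgroup.coe_mul, Subgroup.coe_inv]
    rw [mul_inv_rev, show z * x * (rep (s D) : Perm (Fin n)) * (x⁻¹ * z⁻¹) =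
      z * (x * (rep (s D) : Perm (Fin n)) * x⁻¹) * z⁻¹ by group, hx,
      (Subgroup.mem_centralizer_singleton_iff.mp hz), mul_inv_cancel_right]
  have htwin : ∀ D, s D ≠ D → _ := fun D hD => odd_twin hn _ (hcent D hD)
  choose τ a ha hoddc hτ hτs ha3 hsum using htwin
  let F : ConjClasses (alternatingGroup (Fin n)) → ConjClasses (Perm (Fin n)) := fun D =>
    if hD : s D = D then π D else ConjClasses.mk (τ D hD)
  have hsgn : ∀ D E (hD : s D ≠ D), π E ≠ ConjClasses.mk (τ D hD) := by
    intro D E hD h
    rw [hπ, ConjClasses.mk_eq_mk_iff_isConj, isConj_iff] at h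
    obtain ⟨x, hx⟩ := h
    have := congrArg Perm.sign hx
    rw [map_mul, map_mul, map_inv, hτs, mem_alternatingGroup.mp (rep E).2, mul_one,
      mul_inv_cancel] at this
    exact absurd this (by decide)
  have hFinj : Function.Injective F := by
    intro D E h
    simp only [F] at h
    split_ifs at h with hD hE hE
    · rw [← hD, ← hE, hs2 D E h]
    · exact absurd h (hsgn E D hE)
    · exact absurd h.symm (hsgn D E hD)
    · refine huniq D E ?_ hD hE
      rw [ConjClasses.mk_eq_mk_iff_isConj, isConj_iff_cycleType_eq, hτ, hτ] at h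
      have heven : a D hD = a E hE := by
        rcases Multiset.mem_cons.mp (h ▸ Multiset.mem_cons_self (a D hD - 1) _) with h1 | h1
        · have := ha3 D hD; have := ha3 E hE; omega
        · obtain ⟨k, hk⟩ := hoddc E hE _ (Multiset.mem_of_mem_erase h1)
          obtain ⟨l, hl⟩ := hoddc D hD _ (ha D hD)
          have := ha3 D hD
          omega
      rw [heven, Multiset.cons_inj_right] at h
      rw [hπ, hπ, ConjClasses.mk_eq_mk_iff_isConj, isConj_iff_cycleType_eq,
        ← Multiset.cons_erase (ha D hD), ← Multiset.cons_erase (ha E hE), heven, h]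
  refine lt_of_le_of_ne (Nat.card_le_card_of_injective F hFinj) fun hcard => ?_
  obtain ⟨D, hD⟩ := ((Nat.bijective_iff_injective_and_card F).mpr ⟨hFinj, hcard⟩).2
    (ConjClasses.mk (swap (⟨0, by omega⟩ : Fin n) ⟨1, by omega⟩))
  have hne : (⟨0, by omega⟩ : Fin n) ≠ ⟨1, by omega⟩ := by simp [Fin.ext_iff]
  simp only [F] at hD
  split_ifs at hD with h
  · rw [hπ, ConjClasses.mk_eq_mk_iff_isConj, isConj_iff] at hD
    obtain ⟨x, hx⟩ := hD
    have := congrArg Perm.sign hx
    rw [map_mul, map_mul, map_inv, sign_swap hne, mem_alternatingGroup.mp (rep D).2, mul_one,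
      mul_inv_cancel] at this
    exact absurd this (by decide)
  · rw [ConjClasses.mk_eq_mk_iff_isConj, isConj_iff_cycleType_eq, hτ, isSwap_iff_cycleType.mp (swap_isSwap_iff.mpr hne)] at hD
    have h1 := congrArg Multiset.sum hD
    rw [Multiset.sum_cons] at h1
    have h2 := congrArg Multiset.sum (Multiset.cons_erase (ha D h))
    rw [Multiset.sum_cons] at h2
    have := hsum D h
    have := ha3 D h
    simp only [Multiset.sum_singleton] at h1
    omega

/-- For n ≥ 5 the alternating group of degree n has strictly fewer conjugacy classes than the symmetric group of degree n, and the symmetric group of degree n (whose classes correspond to the partitions of n) has at most 2^(n−2) conjugacy classes. -/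
theorem result (n : ℕ) (hn : 5 ≤ n) : Nat.card (ConjClasses (alternatingGroup (Fin n))) < Nat.card (ConjClasses (Equiv.Perm (Fin n))) ∧ Nat.card (ConjClasses (Equiv.Perm (Fin n))) ≤ 2 ^ (n - 2) := by
  exact ⟨alternating_lt hn, perm_le n hn⟩

end Cfsg.Agent.S4198
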