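import Cfsg.Statements.S4200
import Mathlib

set_option autoImplicit false
open Cfsg

namespace Cfsg.Agent.S4200

/-- Let Y be a subgroup of the finite group X, of index m. Then the numbers of conjugacy classes satisfy k(Y) ≤ m·k(X) and k(X) ≤ m·k(Y), and the second inequality is strict unless Y is normal in X. -/
theorem result {X : Type*} [Group X] [Finite X] (Y : Subgroup X) : Nat.card (ConjClasses Y) ≤ Y.index * Nat.card (ConjClasses X) ∧ Nat.card (ConjClasses X) ≤ Y.index * Nat.card (ConjClasses Y) ∧ (¬ Y.Normal → Nat.card (ConjClasses X) < Y.index * Nat.card (ConjClasses Y)) := by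
  classical
  constructor
  · have h := Y.commProb_subgroup_le
    rw [commProb_def', commProb_def', ← Y.card_mul_index] at h
    have hY : (0 : ℚ) < Nat.card Y := Nat.cast_pos.2 Nat.card_pos
    have hm : (0 : ℚ) < Y.index := Nat.cast_pos.2 (Nat.pos_of_ne_zero Y.index_ne_zero_of_finite)
    push_cast at h
    rw [div_le_iff₀ hY] at h
    have h2 : (Nat.card (ConjClasses Y) : ℚ) ≤ (Y.index : ℚ) * Nat.card (ConjClasses X) := by
      refine h.trans (le_of_eq ?_)
      field_simp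
    exact_mod_cast h2
  -- commuting pairs of `X` inject into `(X ⧸ Y)² × ` commuting pairs of `Y`
  have hex : ∀ (a : X) (c : X ⧸ Y), ∃ r : X,
      (∃ r', (QuotientGroup.mk r' : X ⧸ Y) = c ∧ Commute a r') → (QuotientGroup.mk r : X ⧸ Y) = c ∧ Commute a r := fun a c => by
    by_cases h : ∃ r', (QuotientGroup.mk r' : X ⧸ Y) = c ∧ Commute a r'
    · obtain ⟨r, hr⟩ := h; exact ⟨r, fun _ => hr⟩
    · exact ⟨1, fun h' => absurd h' h⟩
  choose r hr using hex
  let n : {p : X × X // Commute p.1 p.2} → X := fun z => (r z.1.1 (z.1.2 : X ⧸ Y))⁻¹ * z.1.2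
  have hn : ∀ z, n z ∈ Y ∧ Commute z.1.1 (n z) := fun z => by
    have h := hr z.1.1 (z.1.2 : X ⧸ Y) ⟨z.1.2, rfl, z.2⟩
    exact ⟨QuotientGroup.eq.1 h.1, h.2.inv_right.mul_right z.2⟩
  let m : {p : X × X // Commute p.1 p.2} → X := fun z => (r (n z) (z.1.1 : X ⧸ Y))⁻¹ * z.1.1
  have hm : ∀ z, m z ∈ Y ∧ Commute (n z) (m z) := fun z => by
    have h := hr (n z) (z.1.1 : X ⧸ Y) ⟨z.1.1, rfl, (hn z).2.symm⟩
    exact ⟨QuotientGroup.eq.1 h.1, h.2.inv_right.mul_right (hn z).2.symm⟩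
  let f : {p : X × X // Commute p.1 p.2} → ((X ⧸ Y) × (X ⧸ Y)) × {p : Y × Y // Commute p.1 p.2} :=
    fun z => (((z.1.1 : X ⧸ Y), (z.1.2 : X ⧸ Y)),
      ⟨(⟨n z, (hn z).1⟩, ⟨m z, (hm z).1⟩), Subtype.ext (hm z).2⟩)
  have hf : Function.Injective f := by
    rintro ⟨⟨x, y⟩, hz⟩ ⟨⟨x', y'⟩, hz'⟩ h
    simp only [f, Prod.ext_iff, Subtype.ext_iff] at h
    obtain ⟨⟨h1, h2⟩, h3, h4⟩ := h
    have hx : x = x' := by
      simp only [m] at h4
      rw [h3, h1] at h4
      exact mul_left_cancel h4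
    subst hx
    simp only [n] at h3
    rw [h2] at h3
    obtain rfl := mul_left_cancel h3
    rfl
  have hcard := Nat.card_le_card_of_injective f hf
  have hX : 0 < Nat.card X := Nat.card_pos
  have hYX : Nat.card Y * Y.index = Nat.card X := Y.card_mul_index
  rw [Nat.card_prod, Nat.card_prod, card_comm_eq_card_conjClasses_mul_card,
    card_comm_eq_card_conjClasses_mul_card, show Nat.card (X ⧸ Y) = Y.index from rfl] at hcard
  have e : Y.index * Y.index * (Nat.card (ConjClasses Y) * Nat.card Y) =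
      (Y.index * Nat.card (ConjClasses Y)) * Nat.card X := by rw [← hYX]; ring
  rw [e] at hcard
  refine ⟨Nat.le_of_mul_le_mul_right hcard hX, fun hnormal => ?_⟩
  refine Nat.lt_of_mul_lt_mul_right (a := Nat.card X) ?_
  rw [← e, ← card_comm_eq_card_conjClasses_mul_card, ← card_comm_eq_card_conjClasses_mul_card,
    show Y.index = Nat.card (X ⧸ Y) from rfl, ← Nat.card_prod, ← Nat.card_prod]
  by_contra hlt
  have hsurj := ((Nat.bijective_iff_injective_and_card f).2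
    ⟨hf, le_antisymm (Nat.card_le_card_of_injective f hf) (not_lt.1 hlt)⟩).2
  apply hnormal
  refine ⟨fun y hy g => ?_⟩
  obtain ⟨z, hz⟩ := hsurj (((QuotientGroup.mk g⁻¹ : X ⧸ Y), QuotientGroup.mk (1 : X)),
    ⟨(⟨y, hy⟩, 1), Commute.one_right _⟩)
  simp only [f, Prod.ext_iff, Subtype.ext_iff] at hz
  obtain ⟨⟨h1, -⟩, h3, -⟩ := hz
  have hc : Commute z.1.1 y := h3 ▸ (hn z).2
  have hw : z.1.1⁻¹ * g⁻¹ ∈ Y := QuotientGroup.eq.1 h1
  set w := z.1.1⁻¹ * g⁻¹ with hwdef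
  have hg : g = w⁻¹ * z.1.1⁻¹ := by rw [hwdef]; group
  have : g * y * g⁻¹ = w⁻¹ * y * w := by
    rw [hg]
    calc w⁻¹ * z.1.1⁻¹ * y * (w⁻¹ * z.1.1⁻¹)⁻¹ = w⁻¹ * (z.1.1⁻¹ * (y * z.1.1)) * w := by group
      _ = w⁻¹ * y * w := by rw [← hc.eq, inv_mul_cancel_left]
  rw [this]
  exact Y.mul_mem (Y.mul_mem (Y.inv_mem hw) hy) hw

end Cfsg.Agent.S4200
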