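import Cfsg.Statements.S4201
import Mathlib

set_option autoImplicit false
open Cfsg

namespace Cfsg.Agent.S4201

/-- If N is a normal subgroup of the finite group X then k(X) ≤ k(N)·k(X ⧸ N), where k denotes the number of conjugacy classes. -/
theorem result {X : Type*} [Group X] [Finite X] (N : Subgroup X) [N.Normal] : Nat.card (ConjClasses X) ≤ Nat.card (ConjClasses N) * Nat.card (ConjClasses (X ⧸ N)) := by
  classical
  have hex : ∀ (a : X) (c : X ⧸ N), ∃ r : X,
      (∃ r', (QuotientGroup.mk r' : X ⧸ N) = c ∧ Commute a r') → (QuotientGroup.mk r : X ⧸ N) = c ∧ Commute a r := fun a c => by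
    by_cases h : ∃ r', (QuotientGroup.mk r' : X ⧸ N) = c ∧ Commute a r'
    · obtain ⟨r, hr⟩ := h; exact ⟨r, fun _ => hr⟩
    · exact ⟨1, fun h' => absurd h' h⟩
  choose r hr using hex
  let n : {p : X × X // Commute p.1 p.2} → X := fun z => (r z.1.1 (z.1.2 : X ⧸ N))⁻¹ * z.1.2
  have hn : ∀ z, n z ∈ N ∧ Commute z.1.1 (n z) := fun z => by
    have h := hr z.1.1 (z.1.2 : X ⧸ N) ⟨z.1.2, rfl, z.2⟩
    exact ⟨QuotientGroup.eq.1 h.1, h.2.inv_right.mul_right z.2⟩
  let m : {p : X × X // Commute p.1 p.2} → X := fun z => (r (n z) (z.1.1 : X ⧸ N))⁻¹ * z.1.1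
  have hm : ∀ z, m z ∈ N ∧ Commute (n z) (m z) := fun z => by
    have h := hr (n z) (z.1.1 : X ⧸ N) ⟨z.1.1, rfl, (hn z).2.symm⟩
    exact ⟨QuotientGroup.eq.1 h.1, h.2.inv_right.mul_right (hn z).2.symm⟩
  let f : {p : X × X // Commute p.1 p.2} →
      {p : (X ⧸ N) × (X ⧸ N) // Commute p.1 p.2} × {p : N × N // Commute p.1 p.2} :=
    fun z => (⟨((z.1.1 : X ⧸ N), (z.1.2 : X ⧸ N)), z.2.map (QuotientGroup.mk' N)⟩,
      ⟨(⟨n z, (hn z).1⟩, ⟨m z, (hm z).1⟩), Subtype.ext (hm z).2⟩)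
  have hf : Function.Injective f := by
    rintro ⟨⟨x, y⟩, hz⟩ ⟨⟨x', y'⟩, hz'⟩ h
    simp only [f, Prod.ext_iff, Subtype.ext_iff] at h
    obtain ⟨⟨h1, h2⟩, h3, h4⟩ := h
    have hx : x = x' := by
      simp only [m] at h4
      rw [h3, h1] at h4
      exact mul_left_cancel h4
    subst hx
    simp only [n] at h3
    rw [h2] at h3
    obtain rfl := mul_left_cancel h3
    rfl
  have hcard := Nat.card_le_card_of_injective f hf
  rw [Nat.card_prod, card_comm_eq_card_conjClasses_mul_card, card_comm_eq_card_conjClasses_mul_card,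
    card_comm_eq_card_conjClasses_mul_card, N.card_eq_card_quotient_mul_card_subgroup] at hcard
  refine Nat.le_of_mul_le_mul_right (hcard.trans (le_of_eq ?_))
    (Nat.mul_pos (Nat.card_pos (α := X ⧸ N)) (Nat.card_pos (α := N)))
  ring

end Cfsg.Agent.S4201
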