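import Cfsg.Statements.S4203
import Mathlib
import Cfsg.Agent.Lib.Solvable.Basic
import Cfsg.Agent.S0144

set_option autoImplicit false
open Cfsg

namespace Cfsg.Agent.S4203

open Subgroup in
theorem solvable_aux : ∀ (n : ℕ) (G : Type*) [Group G] [Finite G], Nat.card G = n →
    (∀ M : Subgroup G, IsCoatom M → ∃ p : ℕ, p.Prime ∧ (M.index = p ∨ M.index = p ^ 2)) →
    Group.IsSolvable G := by
  intro n
  induction n using Nat.strong_induction_on with
  | h n ih =>
  intro G _ _ hn h
  by_cases htriv : Subsingleton G
  · infer_instance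
  have hT : (⊤ : Subgroup G) ≠ ⊥ := fun he =>
    htriv (Subgroup.subsingleton_iff.mp (subsingleton_of_bot_eq_top he.symm))
  obtain ⟨N, hNn, hN, -, hmin⟩ := CfsgLib.Solvable.Basic.exists_minimal_normal_le hT
  haveI := hNn
  have hquot : Group.IsSolvable (G ⧸ N) := by
    refine ih _ (hn ▸ CfsgLib.Solvable.Basic.card_quotient_lt N hN) _ rfl fun M hM => ?_
    have hs := QuotientGroup.mk'_surjective N
    have hM' : IsCoatom (M.comap (QuotientGroup.mk' N)) := by
      refine ⟨fun he => hM.1 ?_, fun K hK => ?_⟩
      · rw [← map_comap_eq_self_of_surjective hs M, he, map_top_of_surjective _ hs]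
      · have hker : (QuotientGroup.mk' N).ker ≤ K :=
          le_trans (fun x hx => by rw [mem_comap, MonoidHom.mem_ker.mp hx]; exact one_mem _) hK.le
        have : M < K.map (QuotientGroup.mk' N) := by
          refine lt_of_le_of_ne ?_ fun he => hK.ne ?_
          · rw [← map_comap_eq_self_of_surjective hs M]; exact map_mono hK.le
          · rw [he, comap_map_eq_self hker]
        rw [← comap_map_eq_self hker, hM.2 _ this, comap_top]
    have := h _ hM'
    rwa [index_comap_of_surjective _ hs] at this
  suffices hNs : Group.IsSolvable N from (Group.isSolvable_iff_subgroup_quotient N).mpr ⟨hNs, hquot⟩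
  have hcard1 : Nat.card N ≠ 1 := fun he => hN (card_eq_one.mp he)
  obtain ⟨p, hp, hpmax⟩ : ∃ p ∈ (Nat.card N).primeFactors,
      ∀ q ∈ (Nat.card N).primeFactors, q ≤ p :=
    ⟨_, Finset.max'_mem _ (Nat.nonempty_primeFactors.mpr
      (by have := Nat.card_pos (α := N); omega)), fun q hq => Finset.le_max' _ q hq⟩
  haveI : Fact p.Prime := ⟨Nat.prime_of_mem_primeFactors hp⟩
  obtain ⟨P⟩ : Nonempty (Sylow p N) := inferInstance
  set P' := (P : Subgroup N).map N.subtype with hP'
  by_cases hnorm : normalizer (P' : Set G) = ⊤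
  · have hP'n : P'.Normal := normalizer_eq_top_iff.mp hnorm
    have hP'0 : P' ≠ ⊥ := by
      rw [hP', Ne, map_eq_bot_iff_of_injective _ N.subtype_injective]
      exact P.ne_bot_of_dvd_card (Nat.dvd_of_mem_primeFactors hp)
    have heq : P' = N := (hmin P' hP'n (map_subtype_le _)).resolve_left hP'0
    have : IsPGroup p N := heq ▸ P.2.map N.subtype
    haveI := this.isNilpotent
    infer_instance
  obtain hc | ⟨M, hM, hle⟩ := eq_top_or_exists_le_coatom (normalizer (P' : Set G))
  · exact absurd hc hnorm
  obtain ⟨r, hr, hidx⟩ := h M hM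
  have hfr := Sylow.normalizer_sup_eq_top P
  rw [← hP'] at hfr
  have hMN : M ⊔ N = ⊤ := eq_top_iff.mpr (hfr ▸ sup_le_sup_right hle N)
  have hrel : M.relIndex N = M.index := by
    have h1 := relIndex_mul_index (inf_le_right : M ⊓ N ≤ N)
    have h2 := relIndex_mul_index (inf_le_left : M ⊓ N ≤ M)
    rw [inf_relIndex_right] at h1
    rw [inf_relIndex_left, ← relIndex_sup_right, hMN, relIndex_top_right, ← h1,
      mul_comm (M.relIndex N)] at h2
    exact (Nat.eq_of_mul_eq_mul_left (Nat.pos_of_ne_zero index_ne_zero_of_finite) h2).symm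
  -- Sylow counting in `N` and in `M ∩ N`
  have hmod : M.relIndex N ≡ 1 [MOD p] := by
    have hPn : normalizer (P : Set N) ≤ M.subgroupOf N := by
      intro x hx
      refine hle ?_
      rw [mem_normalizer_iff]
      intro y
      constructor
      · rintro ⟨z, hz, rfl⟩
        exact ⟨x * z * x⁻¹, (mem_normalizer_iff.mp hx z).mp hz, by simp⟩
      · rintro ⟨z, hz, hzy⟩
        refine ⟨x⁻¹ * z * x, (mem_normalizer_iff.mp hx _).mpr
          (by rw [show x * (x⁻¹ * z * x) * x⁻¹ = z by group]; exact hz), ?_⟩
        simp only [coe_subtype, coe_mul, coe_inv] at hzy ⊢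
        rw [hzy]; group
    have h1 := card_sylow_modEq_one p N
    have h2 := card_sylow_modEq_one p (M.subgroupOf N)
    rw [P.card_eq_index_normalizer, ← relIndex_mul_index hPn] at h1
    rw [(P.subtype (le_normalizer.trans hPn)).card_eq_index_normalizer] at h2
    have e : normalizer ((P.subtype (le_normalizer.trans hPn)) : Set (M.subgroupOf N)) =
        (normalizer (P : Set N)).subgroupOf (M.subgroupOf N) :=
      (subgroupOf_normalizer_eq (le_normalizer.trans hPn)).symm
    rw [e] at h2
    have h3 := (h2.mul_right ((M.subgroupOf N).index)).symm.trans h1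
    rwa [one_mul] at h3
  rw [hrel] at hmod
  have hrp : r ≤ p := by
    refine hpmax r (Nat.mem_primeFactors.mpr ⟨hr, ?_, Nat.card_pos.ne'⟩)
    have : M.relIndex N ∣ Nat.card N := index_dvd_card _
    rw [hrel] at this
    rcases hidx with e | e <;> rw [e] at this
    · exact this
    · exact (dvd_pow_self r two_ne_zero).trans this
  have hp2 : 2 ≤ p := (Fact.out : p.Prime).two_le
  have hne : r ≠ p := by
    rintro rfl
    have : M.index % r = 1 % r := hmod
    rw [Nat.mod_eq_of_lt (hr.one_lt)] at this
    rcases hidx with e | e <;> rw [e] at this <;> simp [Nat.pow_mod] at this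
  have hlt : r < p := lt_of_le_of_ne hrp hne
  rcases hidx with e | e <;> rw [e] at hmod
  · have : r % p = 1 % p := hmod
    rw [Nat.mod_eq_of_lt hlt, Nat.mod_eq_of_lt (by omega)] at this
    exact absurd this hr.one_lt.ne'
  have hdvd : p ∣ (r + 1) * (r - 1) := by
    rw [← Nat.sq_sub_sq, one_pow]
    exact (Nat.modEq_iff_dvd' (Nat.one_le_pow _ _ hr.pos)).mp hmod.symm
  have hp3 : p = 3 := by
    rcases ((Fact.out : p.Prime).dvd_mul).mp hdvd with hd | hd
    · have hp1 : p = r + 1 := le_antisymm (Nat.le_of_dvd (by omega) hd) (by omega)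
      rcases hr.eq_two_or_odd with hr2 | hodd
      · omega
      · rcases (Fact.out : p.Prime).eq_two_or_odd with hp2' | hpo
        · have := hr.two_le; omega
        · omega
    · have := Nat.le_of_dvd (by have := hr.two_le; omega) hd
      omega
  subst hp3
  refine Cfsg.Agent.S0144.isSolvable 2 3 Nat.prime_two Nat.prime_three (Nat.card N) N rfl
    ((Nat.card N).factorization 2) ((Nat.card N).factorization 3) ?_
  have hs : (Nat.card N).factorization.support ⊆ ({2, 3} : Finset ℕ) := by
    intro q hq
    rw [Nat.support_factorization] at hq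
    have h1 := hpmax q hq
    have h2 := (Nat.prime_of_mem_primeFactors hq).two_le
    simp only [Finset.mem_insert, Finset.mem_singleton]
    omega
  conv_lhs => rw [← Nat.factorization_prod_pow_eq_self (Nat.card_pos (α := N)).ne']
  rw [Finsupp.prod_of_support_subset _ hs _ (fun _ _ => by simp)]
  simp

/-- A finite group in which every maximal subgroup has index a prime or the square of a prime is solvable. -/
theorem result {G : Type*} [Group G] [Finite G] (h : ∀ M : Subgroup G, IsCoatom M → ∃ p : ℕ, p.Prime ∧ (M.index = p ∨ M.index = p ^ 2)) : Group.IsSolvable G := by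
  exact solvable_aux _ G rfl h

end Cfsg.Agent.S4203
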