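import Cfsg.Statements.S4204
import Mathlib

set_option autoImplicit false
open Cfsg

namespace Cfsg.Agent.S4204

open Subgroup
open scoped commutatorElement

theorem normal_lcs {G : Type*} [Group G] (H : Subgroup G) [H.Normal] (n : ℕ) :
    (H.lowerCentralSeries n).Normal := by
  induction n with
  | zero => simpa
  | succ d _ => rw [Subgroup.lowerCentralSeries_succ]; infer_instance

theorem lcs_antitone {G : Type*} [Group G] (H : Subgroup G) [H.Normal] {a b : ℕ} (h : a ≤ b) :
    H.lowerCentralSeries b ≤ H.lowerCentralSeries a := by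
  induction h with
  | refl => exact le_rfl
  | step _ ih =>
    refine le_trans ?_ ih
    have := normal_lcs H
    rw [Subgroup.lowerCentralSeries_succ]
    exact commutator_le_left _ _

theorem iSup_normal {G : Type*} [Group G] {ι : Sort*} (f : ι → Subgroup G)
    (h : ∀ i, (f i).Normal) : (⨆ i, f i).Normal := by
  rw [← normalizer_eq_top_iff, eq_top_iff]
  intro g _
  have key : ∀ g : G, ∀ x ∈ ⨆ i, f i, g * x * g⁻¹ ∈ ⨆ i, f i := by
    intro g x hx
    induction hx using iSup_induction' with
    | hp i x hx => exact mem_iSup_of_mem i ((h i).conj_mem x hx g)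
    | h1 => simp
    | hmul x y _ _ hx hy =>
      have := mul_mem hx hy
      rwa [show g * x * g⁻¹ * (g * y * g⁻¹) = g * (x * y) * g⁻¹ by group] at this
  rw [mem_normalizer_iff]
  refine fun x => ⟨key g x, fun hx => ?_⟩
  have := key g⁻¹ _ hx
  rwa [show g⁻¹ * (g * x * g⁻¹) * g⁻¹⁻¹ = x by group] at this

theorem commutator_iSup_le {G : Type*} [Group G] {ι : Sort*} (f : ι → Subgroup G)
    (B T : Subgroup G) [T.Normal] (h : ∀ i, ⁅f i, B⁆ ≤ T) : ⁅⨆ i, f i, B⁆ ≤ T := by
  rw [commutator_le]
  intro x hx y hy
  induction hx using iSup_induction' with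
  | hp i x hx => exact h i (commutator_mem_commutator hx hy)
  | h1 => simp
  | hmul x z _ _ hx hz =>
    have := mul_mem (‹T.Normal›.conj_mem _ hz x) hx
    simp only [commutatorElement_def] at this ⊢
    rwa [show x * (z * y * z⁻¹ * y⁻¹) * x⁻¹ * (x * y * x⁻¹ * y⁻¹) = x * z * y * (x * z)⁻¹ * y⁻¹ by group] at this

theorem commutator_sup_le {G : Type*} [Group G] (A B C T : Subgroup G) [T.Normal]
    (hA : ⁅A, C⁆ ≤ T) (hB : ⁅B, C⁆ ≤ T) : ⁅A ⊔ B, C⁆ ≤ T := by
  rw [sup_eq_iSup]
  exact commutator_iSup_le _ _ _ fun i => by cases i <;> assumption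

/-- If `H` and `K` are normal subgroups of a finite group with `H` nilpotent of class at most `c` and `K` nilpotent of class at most `d` (the terms with index `c`, respectively `d`, of their lower central series are trivial, indices starting at `0`), then `HK` is nilpotent of class at most `c + d`. -/
theorem result {G : Type*} [Group G] [Finite G] (H K : Subgroup G) [H.Normal] [K.Normal] (c d : ℕ) (hH : H.lowerCentralSeries c = ⊥) (hK : K.lowerCentralSeries d = ⊥) : (H ⊔ K).lowerCentralSeries (c + d) = ⊥ := by
  obtain ⟨h, hh⟩ : ∃ h : ℕ → Subgroup G, h = fun n => if n = 0 then ⊤ else H.lowerCentralSeries (n - 1) :=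
    ⟨_, rfl⟩
  obtain ⟨k, hk⟩ : ∃ k : ℕ → Subgroup G, k = fun n => if n = 0 then ⊤ else K.lowerCentralSeries (n - 1) :=
    ⟨_, rfl⟩
  have hhn : ∀ n, (h n).Normal := fun n => by
    subst hh; dsimp only; split_ifs
    · infer_instance
    · exact normal_lcs H (n - 1)
  have hkn : ∀ n, (k n).Normal := fun n => by
    subst hk; dsimp only; split_ifs
    · infer_instance
    · exact normal_lcs K (n - 1)
  have hh0 : ∀ a, ⁅h a, H⁆ ≤ h (a + 1) := fun a => by
    subst hh
    rcases a with _ | a
    · simpa using Subgroup.commutator_le_right _ H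
    · simp
  have hk0 : ∀ a, ⁅k a, K⁆ ≤ k (a + 1) := fun a => by
    subst hk
    rcases a with _ | a
    · simpa using Subgroup.commutator_le_right _ K
    · simp
  have key : ∀ n, (H ⊔ K).lowerCentralSeries n ≤
      ⨆ (a : ℕ) (b : ℕ) (_ : a + b = n + 1), h a ⊓ k b := by
    intro n
    induction n with
    | zero =>
      refine sup_le ?_ ?_
      · refine le_iSup_of_le 1 <| le_iSup_of_le 0 <| le_iSup_of_le rfl ?_
        subst hh hk; simp
      · refine le_iSup_of_le 0 <| le_iSup_of_le 1 <| le_iSup_of_le rfl ?_
        subst hh hk; simp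
    | succ n ih =>
      rw [Subgroup.lowerCentralSeries_succ]
      refine (Subgroup.commutator_mono ih le_rfl).trans ?_
      have hnT : (⨆ (a : ℕ) (b : ℕ) (_ : a + b = n + 1 + 1), h a ⊓ k b).Normal :=
        iSup_normal _ fun a => iSup_normal _ fun b => iSup_normal _ fun _ => by
          have := hhn a; have := hkn b; infer_instance
      refine commutator_iSup_le _ _ _ fun a => commutator_iSup_le _ _ _ fun b =>
        commutator_iSup_le _ _ _ fun hab => ?_
      have := hhn a; have := hkn b
      rw [Subgroup.commutator_comm]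
      refine commutator_sup_le _ _ _ _ ?_ ?_
      · rw [Subgroup.commutator_comm]
        refine le_iSup_of_le (a + 1) <| le_iSup_of_le b <| le_iSup_of_le (by omega) <| le_inf
          ((Subgroup.commutator_mono inf_le_left le_rfl).trans (hh0 a))
          ((Subgroup.commutator_mono inf_le_right le_top).trans (Subgroup.commutator_le_left _ _))
      · rw [Subgroup.commutator_comm]
        refine le_iSup_of_le a <| le_iSup_of_le (b + 1) <| le_iSup_of_le (by omega) <| le_inf
          ((Subgroup.commutator_mono inf_le_left le_top).trans (Subgroup.commutator_le_left _ _))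
          ((Subgroup.commutator_mono inf_le_right le_rfl).trans (hk0 b))
  rw [eq_bot_iff]
  refine (key (c + d)).trans (iSup_le fun a => iSup_le fun b => iSup_le fun hab => ?_)
  rcases le_or_gt (c + 1) a with ha | ha
  · refine inf_le_left.trans ?_
    subst hh
    simp only [show a ≠ 0 by omega, if_false]
    exact ((lcs_antitone H (show c ≤ a - 1 by omega)).trans hH.le)
  · refine inf_le_right.trans ?_
    subst hk
    simp only [show b ≠ 0 by omega, if_false]
    exact ((lcs_antitone K (show d ≤ b - 1 by omega)).trans hK.le)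

end Cfsg.Agent.S4204
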