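import Cfsg.Statements.S4205
import Mathlib

set_option autoImplicit false
open Cfsg
open scoped commutatorElement

namespace Cfsg.Agent.S4205

/-- In a finite group whose upper central series reaches the whole group at step `c` (nilpotent of class at most `c`), starting from any subgroup and taking normalizers `c` times reaches the whole group. -/
theorem result {G : Type*} [Group G] [Finite G] (c : ℕ) (hG : Subgroup.upperCentralSeries G c = ⊤) (H : Subgroup G) : (fun K : Subgroup G => Subgroup.normalizer (K : Set G))^[c] H = ⊤ := by
  have key : ∀ i, Subgroup.upperCentralSeries G i ≤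
      (fun K : Subgroup G => Subgroup.normalizer (K : Set G))^[i] H := by
    intro i
    induction i with
    | zero => simp
    | succ i ih =>
      rw [Function.iterate_succ_apply']
      generalize (fun K : Subgroup G => Subgroup.normalizer (K : Set G))^[i] H = K at ih
      have h1 : ∀ z ∈ Subgroup.upperCentralSeries G (i + 1), ∀ h ∈ K, z * h * z⁻¹ ∈ K := by
        intro z hz h hh
        rw [show z * h * z⁻¹ = ⁅z, h⁆ * h by rw [commutatorElement_def]; group]
        exact K.mul_mem (ih (Subgroup.mem_upperCentralSeries_succ_iff.1 hz h)) hh
      intro z hz
      rw [Subgroup.mem_normalizer_iff]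
      refine fun h => ⟨h1 z hz h, fun hh => ?_⟩
      have := h1 z⁻¹ (Subgroup.inv_mem _ hz) _ hh
      simpa [mul_assoc] using this
  exact eq_top_iff.2 (hG ▸ key c)

end Cfsg.Agent.S4205
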