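import Cfsg.Statements.S4208
import Cfsg.Agent.Lib.PGroup.Frattini

set_option autoImplicit false
open Cfsg

namespace Cfsg.Agent.S4208

/-- Let `P` be a group of order `p^n` whose Frattini subgroup has index `p^r`. Then the order of the automorphism group of `P` divides `p^(r(n-r)) · (p^r - 1)(p^r - p) ⋯ (p^r - p^(r-1))`. -/
theorem result {P : Type*} [Group P] [Finite P] {p n r : ℕ} [Fact p.Prime] (hP : Nat.card P = p ^ n) (hr : (frattini P).index = p ^ r) : Nat.card (MulAut P) ∣ p ^ (r * (n - r)) * ∏ i ∈ Finset.range r, (p ^ r - p ^ i) := by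
  have hp : p.Prime := Fact.out
  have hPp : IsPGroup p P := IsPGroup.of_card hP
  have hrn : r ≤ n := by
    have := Subgroup.index_dvd_card (frattini P)
    rw [hr, hP, Nat.pow_dvd_pow_iff_le_right hp.one_lt] at this
    exact this
  have hΦ : Nat.card (frattini P) = p ^ (n - r) := by
    have := (frattini P).card_mul_index
    rw [hr, hP, ← Nat.sub_add_cancel hrn, pow_add] at this
    exact Nat.eq_of_mul_eq_mul_right (pow_pos hp.pos _) this
  have hQ : Nat.card (P ⧸ frattini P) = p ^ r := hr
  have hgen := CfsgLib.PGroup.Frattini.card_generating_tuples hQ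
    (CfsgLib.PGroup.Frattini.quotient_mul_comm hPp) (CfsgLib.PGroup.Frattini.quotient_pow_eq_one hPp)
  have fix1 : ∀ (α : MulAut P) (s : Fin r → P), Subgroup.closure (Set.range s) = ⊤ →
      (∀ i, α (s i) = s i) → α = 1 := by
    intro α s hs hfix
    have := MonoidHom.eq_of_eqOn_dense (f := α.toMonoidHom) (g := MonoidHom.id P) hs
      (by rintro _ ⟨i, rfl⟩; exact hfix i)
    exact MulEquiv.ext fun x => DFunLike.congr_fun this x
  let _ : MulAction (MulAut P) {s : Fin r → P // Subgroup.closure (Set.range s) = ⊤} :=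
    { smul := fun α s => ⟨fun i => α (s.1 i), by
        rw [show Set.range (fun i => α (s.1 i)) = α.toMonoidHom '' Set.range s.1 by
          rw [← Set.range_comp]; rfl, ← MonoidHom.map_closure, s.2]
        exact Subgroup.map_top_of_surjective _ α.surjective⟩
      one_smul := fun s => rfl
      mul_smul := fun a b s => rfl }
  have h := CfsgLib.PGroup.Frattini.card_dvd_of_free (A := MulAut P)
    (X := {s : Fin r → P // Subgroup.closure (Set.range s) = ⊤})
    (fun a s ha => fix1 a s.1 s.2 fun i => congrFun (congrArg Subtype.val ha) i)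
  refine h.trans (dvd_of_eq ?_)
  have e : Nat.card {s : Fin r → P // Subgroup.closure (Set.range s) = ⊤} =
      Nat.card (Σ t : {t : Fin r → P ⧸ frattini P // Subgroup.closure (Set.range t) = ⊤},
        {s : Fin r → P // ∀ i, (s i : P ⧸ frattini P) = t.1 i}) := Nat.card_congr
    { toFun := fun s => ⟨⟨fun i => (s.1 i : P ⧸ frattini P),
        (CfsgLib.PGroup.Frattini.closure_range_eq_top_iff s.1).1 s.2⟩, ⟨s.1, fun i => rfl⟩⟩
      invFun := fun s => ⟨s.2.1, by
        rw [CfsgLib.PGroup.Frattini.closure_range_eq_top_iff,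
          show (fun i => (s.2.1 i : P ⧸ frattini P)) = s.1.1 from funext s.2.2]
        exact s.1.2⟩
      left_inv := fun s => rfl
      right_inv := by
        rintro ⟨⟨t, ht⟩, ⟨s, hs⟩⟩
        obtain rfl : t = fun i => (s i : P ⧸ frattini P) := funext fun i => (hs i).symm
        rfl }
  classical
  have := Fintype.ofFinite {t : Fin r → P ⧸ frattini P // Subgroup.closure (Set.range t) = ⊤}
  rw [e, Nat.card_sigma, Finset.sum_congr rfl (fun t _ =>
    CfsgLib.PGroup.Frattini.card_fiber_tuples (frattini P) t.1), Finset.sum_const, Finset.card_univ,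
    ← Nat.card_eq_fintype_card, hgen, hΦ, Fintype.card_fin, smul_eq_mul, ← pow_mul, mul_comm,
    mul_comm (n - r)]

end Cfsg.Agent.S4208
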