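import Cfsg.Statements.S4211
import Mathlib
import Cfsg.Agent.Lib.TwoGroups.CyclicMax
import Cfsg.Agent.Lib.Fusion.Thompson

set_option autoImplicit false
open Cfsg

namespace Cfsg.Agent.S4211

open Subgroup
open scoped commutatorElement

theorem mul_pow_twisted {G : Type*} [Group G] {u y c : G} (hcu : Commute c u) (hcy : Commute c y)
    (h : y * u = c * u * y) (k : ℕ) : (u * y) ^ k = c ^ k.choose 2 * u ^ k * y ^ k := by
  have hk : ∀ k : ℕ, y ^ k * u = c ^ k * u * y ^ k := by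
    intro k
    induction k with
    | zero => simp
    | succ k ih =>
      have hky : Commute (c ^ k) y := hcy.pow_left k
      rw [pow_succ y, mul_assoc, h, ← mul_assoc, ← mul_assoc, ← (hcy.pow_right k).eq,
        mul_assoc c, ih, pow_succ' c]
      group
  induction k with
  | zero => simp
  | succ k ih =>
    rw [pow_succ, ih, Nat.choose_succ_succ, Nat.choose_one_right, add_comm, pow_add]
    have h1 : y ^ k * (u * y) = c ^ k * (u * y ^ (k + 1)) := by
      rw [← mul_assoc, hk, pow_succ]; group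
    calc c ^ k.choose 2 * u ^ k * y ^ k * (u * y)
        = c ^ k.choose 2 * (u ^ k * (c ^ k * (u * y ^ (k + 1)))) := by rw [← h1]; group
      _ = c ^ k.choose 2 * (c ^ k * u ^ k * (u * y ^ (k + 1))) := by
          rw [← mul_assoc (u ^ k), ((hcu.pow_left k).pow_right k).eq]
      _ = _ := by rw [pow_succ u]; group

theorem exists_quaternion_pair {G : Type*} [Group G] [Finite G] (hn : ∀ H : Subgroup G, H.Normal)
    (hna : ∃ x y : G, x * y ≠ y * x) :
    ∃ x y : G, orderOf x = 4 ∧ orderOf y = 4 ∧ x ^ 2 = y ^ 2 ∧ y * x * y⁻¹ = x⁻¹ ∧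
      x * y * x⁻¹ = y⁻¹ := by
  classical
  let S : Set ℕ := {n | ∃ x y : G, x * y ≠ y * x ∧ orderOf x + orderOf y = n}
  have hS : ∃ n, n ∈ S := by
    obtain ⟨x, y, h⟩ := hna
    exact ⟨_, x, y, h, rfl⟩
  obtain ⟨x, y, hxy, hn0⟩ := Nat.find_spec hS
  have hmin : ∀ u v : G, orderOf u + orderOf v < orderOf x + orderOf y → u * v = v * u := by
    intro u v huv
    by_contra hne
    exact Nat.find_min hS (hn0 ▸ huv) ⟨u, v, hne, rfl⟩
  clear hn0
  wlog hle : orderOf y ≤ orderOf x generalizing x y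
  · exact this y x (Ne.symm hxy) (fun u v h => hmin u v (by omega)) (le_of_not_ge hle)
  set c := x * y * x⁻¹ * y⁻¹ with hc
  have hcy' : c ∈ zpowers y := mul_mem ((hn _).conj_mem y (mem_zpowers y) x) (inv_mem (mem_zpowers y))
  have hcx' : c ∈ zpowers x := by
    have := mul_mem (mem_zpowers x) ((hn (zpowers x)).conj_mem x⁻¹ (inv_mem (mem_zpowers x)) y)
    rwa [show x * (y * x⁻¹ * y⁻¹) = c by rw [hc]; group] at this
  have hc1 : c ≠ 1 := fun h => hxy (by
    rw [hc, mul_inv_eq_one, mul_inv_eq_iff_eq_mul] at h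
    exact h)
  have hcx : Commute c x := by
    obtain ⟨i, hi⟩ := mem_zpowers_iff.mp hcx'; rw [← hi]; exact (Commute.refl x).zpow_left i
  have hcy : Commute c y := by
    obtain ⟨i, hi⟩ := mem_zpowers_iff.mp hcy'; rw [← hi]; exact (Commute.refl y).zpow_left i
  -- conjugation formulas
  have hyx : y * x * y⁻¹ = c⁻¹ * x := by
    rw [eq_inv_mul_iff_mul_eq, hc]; group
  have hxy' : x * y * x⁻¹ = c * y := by rw [hc]; group
  have hcp : ∀ p : ℕ, p.Prime → p ∣ orderOf x ∨ p ∣ orderOf y → orderOf c = p := by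
    intro p hp hd
    haveI := Fact.mk hp
    refine orderOf_eq_prime ?_ hc1
    rcases hd with hd | hd
    · have hcomm : x ^ p * y = y * x ^ p := hmin _ _ (by
        rw [orderOf_pow, Nat.gcd_eq_right hd]
        have := Nat.div_lt_self (orderOf_pos x) hp.one_lt
        omega)
      have : ∀ k : ℕ, x ^ k * y * (x ^ k)⁻¹ = c ^ k * y := by
        intro k
        induction k with
        | zero => simp
        | succ k ih =>
          rw [pow_succ', mul_inv_rev, show x * x ^ k * y * ((x ^ k)⁻¹ * x⁻¹) =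
            x * (x ^ k * y * (x ^ k)⁻¹) * x⁻¹ by group, ih, show x * (c ^ k * y) * x⁻¹ =
            x * c ^ k * x⁻¹ * (x * y * x⁻¹) by group, hxy', (hcx.pow_left k).symm.eq,
            mul_inv_cancel_right, ← mul_assoc, ← pow_succ, pow_succ']
      have h2 := this p
      rw [hcomm, mul_inv_cancel_right] at h2
      exact (mul_eq_right.mp h2.symm)
    · have hcomm : x * y ^ p = y ^ p * x := hmin _ _ (by
        rw [orderOf_pow, Nat.gcd_eq_right hd]
        have := Nat.div_lt_self (orderOf_pos y) hp.one_lt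
        omega)
      have h2 : x * y ^ p * x⁻¹ = c ^ p * y ^ p := by
        rw [← conj_pow, hxy', hcy.mul_pow]
      rw [hcomm, mul_inv_cancel_right] at h2
      exact (mul_eq_right.mp h2.symm)
  obtain ⟨p, hp, hpx⟩ := Nat.exists_prime_and_dvd
    (show orderOf x ≠ 1 from fun h => hxy (by rw [orderOf_eq_one_iff.mp h]; simp))
  haveI := Fact.mk hp
  have hco : orderOf c = p := hcp p hp (Or.inl hpx)
  have hpow : ∀ w : G, (∀ q : ℕ, q.Prime → q ∣ orderOf w → q = p) → ∃ a, orderOf w = p ^ a :=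
    fun w hw => ⟨_, Nat.eq_prime_pow_of_unique_prime_dvd (orderOf_pos w).ne'
      (fun {q} hq hd => hw q hq hd)⟩
  obtain ⟨a, ha⟩ := hpow x fun q hq hd => (hcp q hq (Or.inl hd)).symm.trans hco
  obtain ⟨b, hb⟩ := hpow y fun q hq hd => (hcp q hq (Or.inr hd)).symm.trans hco
  have gen : ∀ w : G, c ∈ zpowers w → ∀ e : ℕ, orderOf w = p ^ (e + 1) →
      zpowers (w ^ p ^ e) = zpowers c ∧ orderOf (w ^ p ^ e) = p := by
    intro w hw e he
    have ho : orderOf (w ^ p ^ e) = p := by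
      rw [orderOf_pow_of_dvd (pow_ne_zero _ hp.ne_zero) (he ▸ pow_dvd_pow p (Nat.le_succ e)), he,
        pow_succ, Nat.mul_div_cancel_left _ (pow_pos hp.pos e)]
    obtain ⟨i, hi⟩ := mem_zpowers_iff.mp hw
    have h1 : w ^ (i * p) = 1 := by
      rw [zpow_mul, hi, zpow_natCast, ← hco, pow_orderOf_eq_one]
    have h2 := orderOf_dvd_iff_zpow_eq_one.mpr h1
    rw [he, pow_succ] at h2
    push_cast at h2
    obtain ⟨t, ht⟩ := (Int.mul_dvd_mul_iff_right (show (p : ℤ) ≠ 0 by exact_mod_cast hp.ne_zero)).mp h2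
    have hle : zpowers c ≤ zpowers (w ^ p ^ e) := by
      rw [zpowers_le, mem_zpowers_iff]
      exact ⟨t, by rw [← zpow_natCast, ← zpow_mul, ← hi, ht]; push_cast; rfl⟩
    exact ⟨(eq_of_le_of_card_ge hle (by rw [Nat.card_zpowers, Nat.card_zpowers, ho, hco])).symm, ho⟩
  obtain ⟨a, rfl⟩ : ∃ a', a = a' + 1 := by
    refine ⟨a - 1, ?_⟩
    rcases Nat.eq_zero_or_pos a with rfl | h
    · exact absurd (ha ▸ hpx) (by simp [hp.ne_one])
    · omega
  obtain ⟨b, rfl⟩ : ∃ b', b = b' + 1 := by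
    refine ⟨b - 1, ?_⟩
    rcases Nat.eq_zero_or_pos b with rfl | h
    · exact absurd (orderOf_eq_one_iff.mp (by rw [hb, pow_zero])) (fun h => hxy (by rw [h]; simp))
    · omega
  obtain ⟨hX, -⟩ := gen x hcx' a ha
  obtain ⟨hY, hYo⟩ := gen y hcy' b hb
  have hab : b ≤ a := by
    rw [ha, hb] at hle
    have := (Nat.pow_le_pow_iff_right hp.one_lt).mp hle
    omega
  have hb1 : 1 ≤ b := by
    by_contra h
    have : b = 0 := by omega
    subst this
    rw [pow_zero, pow_one] at hY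
    obtain ⟨i, hi⟩ := mem_zpowers_iff.mp (hY ▸ mem_zpowers y : y ∈ zpowers c)
    exact hxy (by rw [← hi]; exact ((hcx.zpow_left i).symm).eq)
  obtain ⟨t, ht⟩ := mem_zpowers_iff.mp
    (show y ^ p ^ b ∈ zpowers (x ^ p ^ a) by rw [hX, ← hY]; exact mem_zpowers _)
  set s : ℤ := t * (p : ℤ) ^ (a - b) with hs
  have hyu : y * x ^ (-s) = c ^ s * x ^ (-s) * y := by
    have h1 : (y * x * y⁻¹) ^ (-s) = c ^ s * x ^ (-s) := by
      rw [hyx, (hcx.inv_left).mul_zpow, inv_zpow, zpow_neg, inv_inv]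
    rw [conj_zpow] at h1
    rw [← h1, inv_mul_cancel_right]
  have hcan : (x ^ (-s)) ^ p ^ b * y ^ p ^ b = 1 := by
    rw [← ht, ← zpow_natCast (x ^ (-s)), ← zpow_mul, ← zpow_natCast x, ← zpow_mul, ← zpow_add, hs]
    push_cast
    have : (p : ℤ) ^ a = (p : ℤ) ^ (a - b) * (p : ℤ) ^ b := by
      rw [← pow_add]; congr 1; omega
    rw [this, show -(t * (p : ℤ) ^ (a - b)) * (p : ℤ) ^ b + (p : ℤ) ^ (a - b) * (p : ℤ) ^ b * t = 0 by ring,
      zpow_zero]
  have hpw := mul_pow_twisted (u := x ^ (-s)) (y := y) (c := c ^ s)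
    ((hcx.zpow_left s).zpow_right _) (hcy.zpow_left s) hyu (p ^ b)
  rw [mul_assoc, hcan, mul_one] at hpw
  have hnot : (c ^ s) ^ (p ^ b).choose 2 ≠ 1 := by
    intro h1
    rw [h1] at hpw
    have hlt : orderOf (x ^ (-s) * y) ≤ p ^ b :=
      Nat.le_of_dvd (pow_pos hp.pos b) (orderOf_dvd_of_pow_eq_one hpw)
    have hcomm := hmin x (x ^ (-s) * y) (by
      have : p ^ b < p ^ (b + 1) := Nat.pow_lt_pow_right hp.one_lt (Nat.lt_succ_self b)
      omega)
    refine hxy (mul_left_cancel (a := x ^ (-s)) ?_)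
    rw [← mul_assoc, ← (Commute.self_zpow x (-s)).eq, mul_assoc, ← mul_assoc, mul_assoc, hcomm, mul_assoc]
  have hp2 : p = 2 ∧ b = 1 ∧ a = 1 := by
    by_contra hcon
    apply hnot
    rw [← zpow_natCast, ← zpow_mul, ← orderOf_dvd_iff_zpow_eq_one, hco]
    rcases hp.eq_two_or_odd' with rfl | hodd
    · rcases Nat.lt_or_ge 1 b with hb2 | hb2
      · apply Dvd.dvd.mul_left
        refine Int.natCast_dvd_natCast.mpr ?_
        rw [Nat.choose_two_right]
        obtain ⟨k, rfl⟩ : ∃ k, b = k + 2 := ⟨b - 2, by omega⟩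
        rw [show 2 ^ (k + 2) * (2 ^ (k + 2) - 1) = 2 * (2 * 2 ^ k * (2 ^ (k + 2) - 1)) by ring,
          Nat.mul_div_cancel_left _ two_pos, mul_assoc]
        exact dvd_mul_right 2 _
      · apply Dvd.dvd.mul_right
        rw [hs]
        apply Dvd.dvd.mul_left
        exact dvd_pow_self _ (by omega)
    · apply Dvd.dvd.mul_left
      refine Int.natCast_dvd_natCast.mpr ?_
      have h2 : 2 * (p ^ b).choose 2 = p ^ b * (p ^ b - 1) := by
        rw [Nat.choose_two_right, Nat.mul_div_cancel' (Nat.even_mul_pred_self _).two_dvd]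
      refine ((Nat.coprime_two_right.mpr hodd)).dvd_of_dvd_mul_left ?_
      rw [h2]
      exact dvd_mul_of_dvd_left (dvd_pow_self p (by omega)) _
  obtain ⟨rfl, rfl, rfl⟩ := hp2
  obtain ⟨hX', hXo⟩ := gen x hcx' 1 ha
  have hid : ∀ w : G, zpowers (w ^ 2 ^ 1) = zpowers c → orderOf (w ^ 2 ^ 1) = 2 → w ^ 2 = c := by
    intro w hw hwo
    rw [pow_one] at hw hwo
    have hw1 : (w ^ 2) ^ 2 = 1 := by
      have := pow_orderOf_eq_one (w ^ 2)
      rwa [hwo] at this
    obtain ⟨i, hi⟩ := mem_zpowers_iff.mp (hw ▸ mem_zpowers c : c ∈ zpowers (w ^ 2))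
    rcases Int.even_or_odd i with ⟨k, rfl⟩ | ⟨k, rfl⟩
    · exfalso
      apply hc1
      rw [← hi, ← two_mul, zpow_mul, zpow_ofNat, hw1, one_zpow]
    · rw [← hi, zpow_add, zpow_one, zpow_mul, zpow_ofNat (w ^ 2) 2, hw1, one_zpow, one_mul]
  have hx2 := hid x hX' hXo
  have hy2 := hid y hY hYo
  have hcinv : c⁻¹ = c := by
    rw [inv_eq_iff_mul_eq_one, ← sq]
    conv_lhs => rw [← hco]
    exact pow_orderOf_eq_one c
  refine ⟨x, y, by rw [ha]; norm_num, by rw [hb]; norm_num, hx2.trans hy2.symm, ?_, ?_⟩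
  · rw [hyx, ← hx2, sq]; group
  · rw [hxy', ← hcinv, ← hy2, sq]; group

theorem structure_aux {G : Type*} [Group G] [Finite G] (hna : ¬ IsMulCommutative G)
    (hn : ∀ H : Subgroup G, H.Normal) :
    ∃ Q E A : Subgroup G, Nonempty (Q ≃* QuaternionGroup 2) ∧ Cfsg.IsElementaryAbelian 2 E ∧
      IsMulCommutative A ∧ Odd (Nat.card A) ∧ E ⊓ A = ⊥ ∧ Q ⊓ (E ⊔ A) = ⊥ ∧ Q ⊔ (E ⊔ A) = ⊤ := by
  classical
  obtain ⟨x, y, hxo, hyo, hsq, hyx, hxy⟩ := exists_quaternion_pair hn (by
    by_contra! h; exact hna ⟨⟨h⟩⟩)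
  set c := x ^ 2 with hc
  have hco : orderOf c = 2 := by
    rw [hc, orderOf_pow_of_dvd two_ne_zero (by rw [hxo]; norm_num), hxo]
  have hc1 : c ≠ 1 := fun h => by rw [h, orderOf_one] at hco; omega
  have hx4 : x ^ 4 = 1 := hxo ▸ pow_orderOf_eq_one x
  have hyx' : ¬ y * x = x * y := by
    intro h
    rw [h, mul_inv_cancel_right, eq_inv_iff_mul_eq_one, ← sq] at hyx
    exact hc1 hyx
  have hynot : y ∉ zpowers x := by
    intro h
    obtain ⟨i, rfl⟩ := mem_zpowers_iff.mp h
    exact hyx' ((Commute.refl x).zpow_left i).eq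
  haveI := hn (zpowers x)
  set Q := zpowers x ⊔ zpowers y with hQ
  have hxQ : x ∈ Q := mem_sup_left (mem_zpowers x)
  have hyQ : y ∈ Q := mem_sup_right (mem_zpowers y)
  have hQcard : Nat.card Q = 8 := by
    have h2 : Nat.card (zpowers x ⊓ zpowers y : Subgroup G) = 2 := by
      have hle : zpowers c ≤ zpowers x ⊓ zpowers y := by
        rw [zpowers_le]
        exact ⟨pow_mem (mem_zpowers x) 2, hsq ▸ pow_mem (mem_zpowers y) 2⟩
      have h3 : Nat.card (zpowers x ⊓ zpowers y : Subgroup G) ∣ 2 ^ 2 := by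
        have := card_dvd_of_le (inf_le_right : zpowers x ⊓ zpowers y ≤ zpowers y)
        rwa [Nat.card_zpowers y, hyo] at this
      have h4 : 2 ∣ Nat.card (zpowers x ⊓ zpowers y : Subgroup G) := by
        have := card_dvd_of_le hle
        rwa [Nat.card_zpowers, hco] at this
      obtain ⟨i, hi, hi'⟩ := (Nat.dvd_prime_pow Nat.prime_two).mp h3
      rcases Nat.lt_or_ge i 2 with h | h
      · interval_cases i
        · rw [hi'] at h4; norm_num at h4
        · simpa using hi'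
      · exfalso
        have : zpowers x ⊓ zpowers y = zpowers y := eq_of_le_of_card_ge inf_le_right (by
          rw [hi', show i = 2 by omega, Nat.card_zpowers, hyo]; norm_num)
        exact hynot ((inf_eq_right.mp this) (mem_zpowers y))
    have h5 : Nat.card Q * 2 = Nat.card (zpowers x) * Nat.card (zpowers y) := by
      have h6 := CfsgLib.Fusion.Thompson.card_sup_mul_card_inf (N := zpowers x) (K := zpowers y)
        (by rw [normalizer_eq_top_iff.mpr (hn _)]; exact le_top)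
      rwa [h2] at h6
    rw [Nat.card_zpowers, Nat.card_zpowers, hxo, hyo] at h5
    omega
  obtain ⟨e⟩ : Nonempty (Q ≃* QuaternionGroup 2) :=
    CfsgLib.TwoGroups.CyclicMax.quaternion_iso (a := (⟨x, hxQ⟩ : Q)) (b := ⟨y, hyQ⟩) two_ne_zero
      (by rw [Subgroup.orderOf_mk, hxo]) (by rw [hQcard])
      (fun h => by
        obtain ⟨i, hi⟩ := mem_zpowers_iff.mp h
        exact hynot ⟨i, congrArg Subtype.val hi⟩)
      (Subtype.ext (by show y * y = x ^ 2; rw [← sq, ← hsq]))
      (Subtype.ext hyx)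
  set C := centralizer ({x, y} : Set G) with hC
  have hmemC : ∀ g, g ∈ C ↔ g * x = x * g ∧ g * y = y * g := by
    intro g
    rw [hC, mem_centralizer_iff]
    constructor
    · exact fun h => ⟨(h x (by simp)).symm, (h y (by simp)).symm⟩
    · rintro ⟨h1, h2⟩ w (rfl | rfl)
      exacts [h1.symm, h2.symm]
  -- `Q` and `C` meet in the centre of `Q`
  have hQC : ∀ q ∈ Q, q ∈ C → q ∈ zpowers c := by
    intro q hq hqC
    obtain ⟨hqx, hqy⟩ := (hmemC q).mp hqC
    obtain ⟨u, hu, w, hw, rfl⟩ := mem_sup_of_normal_left.mp hq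
    obtain ⟨j, rfl⟩ := mem_zpowers_iff.mp hw
    obtain ⟨i, rfl⟩ := mem_zpowers_iff.mp hu
    have key : ∀ (u v : G), v * u * v⁻¹ = u⁻¹ → u ^ 2 = c → v ^ 2 = c → ∀ j : ℤ,
        Commute (v ^ j) u → v ^ j ∈ zpowers c := by
      intro u v huv hu2 hv2 j hcomm
      rcases Int.even_or_odd j with ⟨k, rfl⟩ | ⟨k, rfl⟩
      · rw [← two_mul, zpow_mul, zpow_ofNat, hv2]
        exact zpow_mem (mem_zpowers c) k
      · exfalso
        rw [zpow_add, zpow_mul, zpow_ofNat, hv2, zpow_one] at hcomm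
        have hcu : Commute c u := by rw [← hu2]; exact Commute.pow_self u 2
        have h3 : Commute v u := by
          have := ((hcu.zpow_left k).inv_left).mul_left hcomm
          rwa [inv_mul_cancel_left] at this
        rw [h3.eq, mul_inv_cancel_right, eq_inv_iff_mul_eq_one, ← sq, hu2] at huv
        exact hc1 huv
    have hj : y ^ j ∈ zpowers c := by
      refine key x y hyx rfl hsq.symm j ?_
      have h1 : Commute (x ^ i * y ^ j) x := hqx
      have := ((Commute.refl x).zpow_left i).inv_left.mul_left h1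
      rwa [inv_mul_cancel_left] at this
    have hjx : y ^ j ∈ zpowers x := zpowers_le.mpr (pow_mem (mem_zpowers x) 2) hj
    obtain ⟨l, hl⟩ := mem_zpowers_iff.mp (mul_mem (zpow_mem (mem_zpowers x) i) hjx)
    rw [← hl]
    refine key y x hxy hsq.symm rfl l ?_
    rw [hl]; exact hqy
  have hG : ∀ g : G, ∃ q ∈ Q, q⁻¹ * g ∈ C := by
    intro g
    have act : ∀ (u : G), orderOf u = 4 → g * u * g⁻¹ = u ∨ g * u * g⁻¹ = u⁻¹ := by
      intro u hu
      obtain ⟨i, hi⟩ := mem_zpowers_iff.mp ((hn (zpowers u)).conj_mem u (mem_zpowers u) g)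
      have ho : orderOf (u ^ i) = 4 := by
        rw [hi, show g * u * g⁻¹ = MulAut.conj g u from rfl, MulEquiv.orderOf_eq, hu]
      have hi4 := zpow_mod_orderOf u i
      rw [hu] at hi4
      have h0 := Int.emod_nonneg i (show ((4 : ℕ) : ℤ) ≠ 0 by norm_num)
      have h1 := Int.emod_lt_of_pos i (show (0 : ℤ) < ((4 : ℕ) : ℤ) by norm_num)
      rw [← hi, ← hi4]
      rw [← hi4] at ho
      generalize hr : i % ((4 : ℕ) : ℤ) = r at *
      norm_num at h1
      interval_cases r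
      · rw [zpow_zero, orderOf_one] at ho; omega
      · exact Or.inl (zpow_one u)
      · rw [zpow_ofNat, orderOf_pow, hu] at ho; norm_num at ho
      · right
        rw [eq_inv_iff_mul_eq_one, ← zpow_add_one, show (3 : ℤ) + 1 = ((4 : ℕ) : ℤ) by norm_num,
          zpow_natCast, ← hu, pow_orderOf_eq_one]
    have conv' : ∀ q : G, g * x * g⁻¹ = q * x * q⁻¹ → g * y * g⁻¹ = q * y * q⁻¹ → q⁻¹ * g ∈ C := by
      intro q h1 h2
      rw [hmemC]
      constructor
      · calc q⁻¹ * g * x = q⁻¹ * (g * x * g⁻¹) * g := by group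
          _ = q⁻¹ * (q * x * q⁻¹) * g := by rw [h1]
          _ = x * (q⁻¹ * g) := by group
      · calc q⁻¹ * g * y = q⁻¹ * (g * y * g⁻¹) * g := by group
          _ = q⁻¹ * (q * y * q⁻¹) * g := by rw [h2]
          _ = y * (q⁻¹ * g) := by group
    rcases act x hxo with h1 | h1 <;> rcases act y hyo with h2 | h2
    · exact ⟨1, one_mem _, conv' 1 (by simpa using h1) (by simpa using h2)⟩
    · exact ⟨x, hxQ, conv' x (by rw [h1]; group) (by rw [h2, hxy])⟩
    · exact ⟨y, hyQ, conv' y (by rw [h1, hyx]) (by rw [h2]; group)⟩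
    · refine ⟨x * y, mul_mem hxQ hyQ, conv' (x * y) ?_ ?_⟩
      · rw [h1, show x * y * x * (x * y)⁻¹ = x * (y * x * y⁻¹) * x⁻¹ by group, hyx]; group
      · rw [h2, show x * y * y * (x * y)⁻¹ = x * y * x⁻¹ by group, hxy]
  -- no element of order 4 in `C`
  have hno4 : ∀ z ∈ C, orderOf z ≠ 4 := by
    intro z hz hzo
    obtain ⟨hzx, hzy⟩ := (hmemC z).mp hz
    have hxz : Commute x z := (show Commute z x from hzx).symm
    have hw2 : (x * z) ^ 2 = c * z ^ 2 := by rw [hxz.mul_pow]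
    have hz4 : z ^ 4 = 1 := hzo ▸ pow_orderOf_eq_one z
    have hcmem : c ∈ zpowers (x * z) := by
      have h1 : ⁅y, x * z⁆ ∈ zpowers (x * z) :=
        mul_mem ((hn _).conj_mem _ (mem_zpowers _) y) (inv_mem (mem_zpowers _))
      have h2 : ⁅y, x * z⁆ = y * x * y⁻¹ * x⁻¹ := by
        have : y * z = z * y := hzy.symm
        rw [commutatorElement_def, show y * (x * z) * y⁻¹ = y * x * (z * y⁻¹) by group]
        have h3 : z * y⁻¹ = y⁻¹ * z := ((show Commute z y from hzy).inv_right).eq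
        rw [h3]; group
      rw [h2, hyx] at h1
      have h3 : x⁻¹ * x⁻¹ = c⁻¹ := by rw [hc, sq]; group
      rw [h3] at h1
      simpa using inv_mem h1
    have h4 : (x * z) ^ 4 = 1 := by rw [hxz.mul_pow, hx4, hz4, one_mul]
    obtain ⟨i, hi⟩ := mem_zpowers_iff.mp hcmem
    rcases Int.even_or_odd i with ⟨k, rfl⟩ | ⟨k, rfl⟩
    · rw [← two_mul, zpow_mul, zpow_ofNat, hw2] at hi
      rcases Int.even_or_odd k with ⟨l, rfl⟩ | ⟨l, rfl⟩
      · apply hc1
        rw [← hi, ← two_mul, zpow_mul, zpow_ofNat, ← hw2, ← pow_mul, h4, one_zpow]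
      · rw [zpow_add, zpow_mul, zpow_ofNat, zpow_one, ← hw2, ← pow_mul, h4, one_zpow, one_mul,
          hw2, mul_eq_left] at hi
        have := Nat.le_of_dvd two_pos (orderOf_dvd_of_pow_eq_one hi)
        omega
    · have h5 : Commute (x * z) y := by
        have hcy : Commute c y := by rw [hsq]; exact Commute.pow_self y 2
        have hxz2 : Commute ((x * z) ^ 2) y := by
          rw [hw2]; exact hcy.mul_left ((show Commute z y from hzy).pow_left 2)
        have h6 : Commute ((x * z) ^ (2 * k + 1)) y := by rw [hi]; exact hcy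
        rw [zpow_add, zpow_mul, zpow_ofNat, zpow_one] at h6
        have := ((hxz2.zpow_left k).inv_left).mul_left h6
        rwa [inv_mul_cancel_left] at this
      have h7 : Commute x y := by
        have := h5.mul_left ((show Commute z y from hzy).inv_left)
        rwa [mul_inv_cancel_right] at this
      exact hyx' h7.symm.eq
  have hCc : ∀ u v : C, u * v = v * u := by
    by_contra! hcon
    have hnC : ∀ H : Subgroup C, H.Normal := fun H => by
      have := (hn (H.map C.subtype)).comap C.subtype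
      rwa [comap_map_eq_self_of_injective C.subtype_injective] at this
    obtain ⟨u, v, hu, -, -, -, -⟩ := exists_quaternion_pair hnC hcon
    exact hno4 u u.2 (by rw [Subgroup.orderOf_coe, hu])
  have hcC : c ∈ C := by
    rw [hmemC]
    exact ⟨(Commute.pow_self x 2).eq, by rw [hsq]; exact (Commute.pow_self y 2).eq⟩
  let E' : Subgroup G :=
    { carrier := {z | z ∈ C ∧ z ^ 2 = 1}
      one_mem' := ⟨one_mem _, one_pow _⟩
      mul_mem' := fun {u v} hu hv => ⟨mul_mem hu.1 hv.1, by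
        rw [(show Commute u v from congrArg Subtype.val (hCc ⟨u, hu.1⟩ ⟨v, hv.1⟩)).mul_pow,
          hu.2, hv.2, one_mul]⟩
      inv_mem' := fun {u} hu => ⟨inv_mem hu.1, by rw [inv_pow, hu.2, inv_one]⟩ }
  let A : Subgroup G :=
    { carrier := {z | z ∈ C ∧ Odd (orderOf z)}
      one_mem' := ⟨one_mem _, by simp⟩
      mul_mem' := fun {u v} hu hv => ⟨mul_mem hu.1 hv.1,
        ((hu.2.mul hv.2).of_dvd_nat
          ((show Commute u v from congrArg Subtype.val (hCc ⟨u, hu.1⟩ ⟨v, hv.1⟩)).orderOf_mul_dvd_mul_orderOf))⟩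
      inv_mem' := fun {u} hu => ⟨inv_mem hu.1, by rw [orderOf_inv]; exact hu.2⟩ }
  obtain ⟨E, -, ⟨hEle, hcE⟩, hmax⟩ := (Set.toFinite {S : Subgroup G | S ≤ E' ∧ c ∉ S}).exists_le_maximal
    (show (⊥ : Subgroup G) ∈ _ from ⟨bot_le, fun h => hc1 (mem_bot.mp h)⟩)
  have hE'C : E ⊔ A ≤ C := sup_le (fun z hz => (hEle hz).1) fun z hz => hz.1
  have hAc : ∀ u ∈ A, ∀ v ∈ A, u * v = v * u := fun u hu v hv =>
    congrArg Subtype.val (hCc ⟨u, hu.1⟩ ⟨v, hv.1⟩)
  have hEc : ∀ u ∈ E, ∀ v ∈ E, u * v = v * u := fun u hu v hv =>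
    congrArg Subtype.val (hCc ⟨u, (hEle hu).1⟩ ⟨v, (hEle hv).1⟩)
  refine ⟨Q, E, A, ⟨e⟩, ⟨⟨⟨fun u v => Subtype.ext (hEc u u.2 v v.2)⟩⟩, fun u hu => (hEle hu).2⟩,
    ⟨⟨fun u v => Subtype.ext (hAc u u.2 v v.2)⟩⟩, ?_, ?_, ?_, ?_⟩
  · by_contra hev
    obtain ⟨w, hw⟩ := exists_prime_orderOf_dvd_card' (G := A) 2 (even_iff_two_dvd.mp (Nat.not_odd_iff_even.mp hev))
    have := w.2.2
    rw [Subgroup.orderOf_coe, hw] at this
    exact absurd this (by decide)
  · rw [eq_bot_iff]
    rintro z ⟨hzE, hzA⟩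
    rw [mem_bot, ← orderOf_eq_one_iff]
    have h1 := orderOf_dvd_of_pow_eq_one (hEle hzE).2
    rcases (Nat.dvd_prime Nat.prime_two).mp h1 with h | h
    · exact h
    · exact absurd (h ▸ hzA.2) (by decide)
  · rw [eq_bot_iff]
    rintro q ⟨hqQ, hqEA⟩
    obtain ⟨i, rfl⟩ := mem_zpowers_iff.mp (hQC q hqQ (hE'C hqEA))
    rw [mem_bot]
    rcases Int.even_or_odd i with ⟨k, rfl⟩ | ⟨k, rfl⟩
    · rw [← two_mul, zpow_mul, zpow_ofNat]
      conv_lhs => rw [← hco]
      rw [pow_orderOf_eq_one, one_zpow]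
    · exfalso
      have hcpow : c ^ (2 * k + 1) = c := by
        rw [zpow_add, zpow_mul, zpow_ofNat, zpow_one]
        conv_lhs => rw [← hco]
        rw [pow_orderOf_eq_one, one_zpow, one_mul]
      rw [hcpow] at hqEA
      obtain ⟨u, hu, v, hv, huv⟩ := (mem_sup_of_normal_left (hs := hn E)).mp hqEA
      have hv' : v = u⁻¹ * c := by rw [← huv, inv_mul_cancel_left]
      have h2 : v ^ 2 = 1 := by
        rw [hv']
        have : Commute u⁻¹ c := congrArg Subtype.val (hCc ⟨u⁻¹, inv_mem (hEle hu).1⟩ ⟨c, hcC⟩)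
        rw [this.mul_pow, inv_pow, (hEle hu).2, inv_one, one_mul, ← hco, pow_orderOf_eq_one]
      have hv1 : v = 1 := by
        rcases (Nat.dvd_prime Nat.prime_two).mp (orderOf_dvd_of_pow_eq_one h2) with h | h
        · exact orderOf_eq_one_iff.mp h
        · exact absurd (h ▸ hv.2) (by decide)
      rw [hv1, mul_one] at huv
      exact hcE (huv ▸ hu)
  · rw [eq_top_iff]
    intro g _
    obtain ⟨q, hq, hgC⟩ := hG g
    have key : q⁻¹ * g ∈ zpowers c ⊔ (E ⊔ A) := by
      set z := q⁻¹ * g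
      obtain ⟨i, m, hm, hord⟩ := Nat.exists_eq_pow_mul_and_not_dvd (orderOf_pos z).ne' 2 (by norm_num)
      have hi : i ≤ 1 := by
        by_contra hi
        refine hno4 (z ^ (2 ^ (i - 2) * m)) (pow_mem hgC _) ?_
        have : orderOf z = 2 ^ (i - 2) * m * 4 := by
          rw [hord, show (4 : ℕ) = 2 ^ 2 by norm_num, mul_right_comm, ← pow_add]
          congr 2; omega
        rw [orderOf_pow_of_dvd (mul_ne_zero (pow_ne_zero _ two_ne_zero) (by omega)) ⟨4, this⟩, this,
          Nat.mul_div_cancel_left _ (Nat.mul_pos (pow_pos two_pos _) (by omega))]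
      have hmodd : Odd m := Nat.odd_iff.mpr (by omega)
      -- split `z` into the odd and the 2-part
      obtain ⟨r, hr⟩ := hmodd
      have hz2m : z ^ (2 * m) = 1 := by
        apply orderOf_dvd_iff_pow_eq_one.mp
        rw [hord]
        exact mul_dvd_mul_right (pow_dvd_pow 2 hi |>.trans (by norm_num)) m
      have hsplit : z = z ^ m * ((z ^ 2) ^ r)⁻¹ := by
        rw [eq_mul_inv_iff_mul_eq, ← pow_mul, ← pow_succ', hr]
      have h1 : z ^ m ∈ E' := ⟨pow_mem hgC m, by rw [← pow_mul, mul_comm]; exact hz2m⟩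
      have h2 : ((z ^ 2) ^ r)⁻¹ ∈ A := by
        refine ⟨inv_mem (pow_mem (pow_mem hgC 2) r), ?_⟩
        rw [orderOf_inv]
        refine Odd.of_dvd_nat ⟨r, hr⟩ (orderOf_dvd_of_pow_eq_one ?_)
        rw [← pow_mul, ← pow_mul, mul_comm r, ← mul_assoc, pow_mul, hz2m, one_pow]
      rw [hsplit]
      refine mul_mem ?_ (mem_sup_right (mem_sup_right h2))
      by_cases hzE : z ^ m ∈ E
      · exact mem_sup_right (mem_sup_left hzE)
      · have hc' : c ∈ E ⊔ zpowers (z ^ m) := by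
          by_contra hnc
          exact hzE (hmax ⟨sup_le hEle (zpowers_le.mpr h1), hnc⟩ le_sup_left
            (mem_sup_right (mem_zpowers _)))
        obtain ⟨u, hu, w, hw, huw⟩ := (mem_sup_of_normal_left (hs := hn E)).mp hc'
        obtain ⟨l, rfl⟩ := mem_zpowers_iff.mp hw
        rcases Int.even_or_odd l with ⟨k, rfl⟩ | ⟨k, rfl⟩
        · rw [← two_mul, zpow_mul, zpow_ofNat, h1.2, one_zpow, mul_one] at huw
          exact absurd (huw ▸ hu) hcE
        · rw [zpow_add, zpow_mul, zpow_ofNat, h1.2, one_zpow, one_mul, zpow_one] at huw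
          rw [show z ^ m = u⁻¹ * c by rw [← huw, inv_mul_cancel_left]]
          exact mul_mem (mem_sup_right (mem_sup_left (inv_mem hu))) (mem_sup_left (mem_zpowers c))
    have hle : zpowers c ⊔ (E ⊔ A) ≤ Q ⊔ (E ⊔ A) :=
      sup_le_sup_right (zpowers_le.mpr (pow_mem hxQ 2)) _
    have := mul_mem (mem_sup_left (T := E ⊔ A) hq) (hle key)
    rwa [mul_inv_cancel_left] at this

/-- A finite non-abelian group in which every subgroup is normal is the internal direct product of a subgroup isomorphic to the quaternion group of order `8`, an elementary abelian `2`-subgroup and an abelian subgroup of odd order. -/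
theorem result {G : Type*} [Group G] [Finite G] (hna : ¬ IsMulCommutative G) (hn : ∀ H : Subgroup G, H.Normal) : ∃ Q E A : Subgroup G, Nonempty (Q ≃* QuaternionGroup 2) ∧ Cfsg.IsElementaryAbelian 2 E ∧ IsMulCommutative A ∧ Odd (Nat.card A) ∧ E ⊓ A = ⊥ ∧ Q ⊓ (E ⊔ A) = ⊥ ∧ Q ⊔ (E ⊔ A) = ⊤ := by
  exact structure_aux hna hn

end Cfsg.Agent.S4211
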