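import Cfsg.Statements.S4212
import Mathlib
import Cfsg.Agent.Lib.PGroup.FrobeniusCount

set_option autoImplicit false
open Cfsg

namespace Cfsg.Agent.S4212

/-- Let `G` be a finite group of order `g`, `c` an element whose conjugacy class has `h` elements, and `n` a natural number. Then the number of elements `x` of `G` with `x^n` conjugate to `c` is a multiple of `gcd(hn, g)`. -/
theorem result {G : Type*} [Group G] [Finite G] (c : G) (n : ℕ) : Nat.gcd (Nat.card {y : G // IsConj c y} * n) (Nat.card G) ∣ Nat.card {x : G // IsConj c (x ^ n)} := by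
  classical
  haveI : Fintype G := Fintype.ofFinite G
  set k := Nat.card (Subgroup.centralizer ({c} : Set G))
  have hg : Nat.card {y : G // IsConj c y} * k = Nat.card G :=
    CfsgLib.PGroup.FrobeniusCount.card_conj_mul_card_centralizer c
  rw [← hg, Nat.gcd_mul_left]
  have hsum : Nat.card {x : G // IsConj c (x ^ n)} =
      Nat.card {y : G // IsConj c y} * Nat.card {x : G // x ^ n = c} := by
    have h0 : Nat.card {x : G // IsConj c (x ^ n)} =
        ∑ y ∈ Finset.univ.filter (fun y => IsConj c y), Nat.card {x : G // x ^ n = y} := by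
      rw [Nat.card_eq_fintype_card, Fintype.card_subtype,
        Finset.card_eq_sum_card_fiberwise (f := fun x : G => x ^ n)
          (t := Finset.univ.filter (fun y => IsConj c y)) (fun x hx => by simpa using hx)]
      refine Finset.sum_congr rfl fun y hy => ?_
      rw [Nat.card_eq_fintype_card, Fintype.card_subtype, Finset.filter_filter]
      congr 1
      ext x
      simp only [Finset.mem_filter, Finset.mem_univ, true_and]
      exact ⟨fun h => h.2, fun h => ⟨h ▸ (Finset.mem_filter.mp hy).2, h⟩⟩
    rw [h0, Finset.sum_congr rfl (g := fun _ => Nat.card {x : G // x ^ n = c}) (fun y hy => ?_),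
      Finset.sum_const, smul_eq_mul]
    · congr 1
      exact (Fintype.card_subtype _).symm.trans Nat.card_eq_fintype_card.symm
    · obtain ⟨g, rfl⟩ := isConj_iff.mp (Finset.mem_filter.mp hy).2
      exact CfsgLib.PGroup.FrobeniusCount.card_roots_conj n c g
  rw [hsum]
  refine mul_dvd_mul_left _ ?_
  rw [CfsgLib.PGroup.FrobeniusCount.card_roots_centralizer]
  exact CfsgLib.PGroup.FrobeniusCount.gcd_dvd_card_roots k n _ rfl _
    (Subgroup.mem_center_iff.mpr fun g =>
      Subtype.ext (Subgroup.mem_centralizer_singleton_iff.mp g.2))

end Cfsg.Agent.S4212
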