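import Cfsg.Statements.S4213
import Mathlib
import Cfsg.Agent.Lib.PGroup.FrobeniusCount
import Cfsg.Agent.Lib.Solvable.Basic

set_option autoImplicit false
open Cfsg

namespace Cfsg.Agent.S4213

universe u

theorem div_gcd_dvd {n g P : ℕ} (hn : n ≠ 0) (h : n ∣ g * P) : n / Nat.gcd n P ∣ g := by
  have hd : 0 < Nat.gcd n P := Nat.gcd_pos_of_pos_left P (Nat.pos_of_ne_zero hn)
  refine (Nat.coprime_div_gcd_div_gcd hd).dvd_of_dvd_mul_right (m := g) ?_
  rw [← Nat.mul_div_assoc g (Nat.gcd_dvd_right n P)]
  exact Nat.div_dvd_div (Nat.gcd_dvd_left n P) h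

theorem aux : ∀ (m : ℕ) (G : Type u) [Group G] [Finite G] [Group.IsSolvable G], Nat.card G = m →
    ∀ n : ℕ, n ∣ Nat.card G → Nat.card {x : G // x ^ n = 1} = n →
      ∃ H : Subgroup G, H.Normal ∧ (H : Set G) = {x : G | x ^ n = 1} := by
  intro m
  induction m using Nat.strong_induction_on with
  | h m ih =>
  intro G _ _ _ hm n hn hcount
  classical
  have hn0 : n ≠ 0 := fun e => Nat.card_pos.ne' (Nat.eq_zero_of_zero_dvd (e ▸ hn))
  rcases subsingleton_or_nontrivial G with hG | hG
  · exact ⟨⊤, inferInstance, Set.ext fun x => iff_of_true (Subgroup.mem_top x)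
      (Subsingleton.elim (x ^ n) 1)⟩
  obtain ⟨N, hNn, hN, -, hmin⟩ := CfsgLib.Solvable.Basic.exists_minimal_normal_le
    (G := G) (H := ⊤) top_ne_bot
  obtain ⟨-, p, hp, hexp, hNp⟩ := CfsgLib.Solvable.Basic.minimal_normal_solvable N hN hmin
  have := Fact.mk hp
  set P := Nat.card N with hP
  set q := QuotientGroup.mk' N with hq
  have hqs : Function.Surjective q := QuotientGroup.mk'_surjective N
  have hg : Nat.card G = Nat.card (G ⧸ N) * P := Subgroup.card_eq_card_quotient_mul_card_subgroup N
  set d := Nat.gcd n P with hd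
  set n' := n / d with hn'
  have hdn : d * n' = n := Nat.mul_div_cancel' (Nat.gcd_dvd_left n P)
  have hn'g : n' ∣ Nat.card (G ⧸ N) := div_gcd_dvd hn0 (hg ▸ hn)
  set T := Nat.card {t : G ⧸ N // t ^ n' = 1} with hT
  have hTn : n' ≤ T := by
    refine Nat.le_of_dvd ?_ ?_
    · haveI : Nonempty {t : G ⧸ N // t ^ n' = 1} := ⟨⟨1, one_pow _⟩⟩
      exact Nat.card_pos
    · have := CfsgLib.PGroup.FrobeniusCount.gcd_dvd_card_roots _ n' (G ⧸ N) rfl 1 (one_mem _)
      rwa [Nat.gcd_eq_left hn'g] at this
  have hlt : Nat.card (G ⧸ N) < m := hm ▸ CfsgLib.Solvable.Basic.card_quotient_lt N hN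
  by_cases hpd : p ∣ d
  · have hsub : ∀ x : G, (q x) ^ n' = 1 → x ^ n = 1 := by
      intro x hx
      rw [← map_pow, hq, QuotientGroup.mk'_apply, QuotientGroup.eq_one_iff] at hx
      refine orderOf_dvd_iff_pow_eq_one.mp ((orderOf_dvd_of_pow_eq_one ?_).trans
        (show n' * p ∣ n from hdn ▸ mul_comm n' d ▸ mul_dvd_mul_left n' hpd))
      rw [pow_mul]
      exact hexp _ hx
    have hpre : Nat.card {x : G // (q x) ^ n' = 1} = T * P := by
      rw [hT, hP, ← Nat.card_prod]
      refine Nat.card_congr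
        { toFun := fun x => (⟨q x, x.2⟩, ⟨(Quotient.out (q x))⁻¹ * x.1, by
            rw [← QuotientGroup.eq]; exact QuotientGroup.out_eq' _⟩)
          invFun := fun t => ⟨Quotient.out t.1.1 * t.2.1, by
            have e : q (Quotient.out t.1.1 * t.2.1) = t.1.1 := by
              rw [map_mul, hq, QuotientGroup.mk'_apply, QuotientGroup.mk'_apply,
                (QuotientGroup.eq_one_iff _).mpr t.2.2, mul_one]
              exact QuotientGroup.out_eq' _
            rw [e]; exact t.1.2⟩
          left_inv := fun x => Subtype.ext (mul_inv_cancel_left _ _)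
          right_inv := fun t => by
            have e : q (Quotient.out t.1.1 * t.2.1) = t.1.1 := by
              rw [map_mul, hq, QuotientGroup.mk'_apply, QuotientGroup.mk'_apply,
                (QuotientGroup.eq_one_iff _).mpr t.2.2, mul_one]
              exact QuotientGroup.out_eq' _
            ext
            · exact e
            · show (Quotient.out (q _))⁻¹ * _ = _
              rw [e, inv_mul_cancel_left] }
    have hle : Nat.card {x : G // (q x) ^ n' = 1} ≤ Nat.card {x : G // x ^ n = 1} :=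
      Nat.card_le_card_of_injective (fun x => ⟨x.1, hsub _ x.2⟩)
        fun a b h => Subtype.ext (by simpa using h)
    rw [hpre, hcount] at hle
    have hdP : d ≤ P := Nat.le_of_dvd Nat.card_pos (Nat.gcd_dvd_right n P)
    have h1 : n' * d ≤ n' * P := Nat.mul_le_mul le_rfl hdP
    have h2 : n' * P ≤ T * P := Nat.mul_le_mul hTn le_rfl
    have heq : T * P = n := by rw [mul_comm n' d, hdn] at h1; omega
    have hTeq : T = n' := by
      refine le_antisymm ?_ hTn
      refine (Nat.mul_le_mul_right_iff (k := P) Nat.card_pos).mp ?_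
      rw [mul_comm n' d, hdn] at h1
      omega
    obtain ⟨H, hH, hHc⟩ := ih _ hlt (G ⧸ N) rfl n' hn'g hTeq
    refine ⟨H.comap q, hH.comap q, ?_⟩
    refine Set.eq_of_subset_of_ncard_le (fun x hx => hsub x ?_) ?_ (Set.toFinite _)
    · exact (Set.ext_iff.mp hHc (q x)).mp hx
    · rw [← Nat.card_coe_set_eq, ← Nat.card_coe_set_eq]
      show Nat.card {x : G // x ^ n = 1} ≤ Nat.card {x : G // q x ∈ H}
      rw [hcount, ← heq, ← hpre]
      exact Nat.card_le_card_of_injective (fun x => ⟨x.1, (Set.ext_iff.mp hHc (q x)).mpr x.2⟩)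
        fun a b h => Subtype.ext (by simpa using h)
  · have hd1 : d = 1 := by
      obtain ⟨i, hi⟩ := hNp.exists_card_eq
      obtain ⟨k, -, hk⟩ := (Nat.dvd_prime_pow hp).mp (show d ∣ p ^ i from hi ▸ Nat.gcd_dvd_right n P)
      rcases Nat.eq_zero_or_pos k with rfl | hk0
      · simpa using hk
      · exact absurd (hk ▸ dvd_pow_self p hk0.ne') hpd
    have hcopP : n.Coprime P := hd1
    have hnn : n' = n := by rw [hd1, one_mul] at hdn; exact hdn
    rw [hnn] at hTn hn'g
    have hlift : ∀ t : {t : G ⧸ N // t ^ n' = 1}, ∃ x : {x : G // x ^ n = 1}, q x = t.1 := by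
      rintro ⟨t, ht⟩
      obtain ⟨x, rfl⟩ := hqs t
      have hpn : ¬ p ∣ n := fun hdv => hpd (Nat.dvd_gcd hdv (by
        obtain ⟨i, hi⟩ := hNp.exists_card_eq
        have h1 : 1 < P := Subgroup.one_lt_card_iff_ne_bot N |>.mpr hN
        rw [hP, hi] at h1 ⊢
        exact dvd_pow_self p (fun e => by rw [e, pow_zero] at h1; omega)))
      obtain ⟨k, hk⟩ := exists_pow_eq_self_of_coprime (n := p) (x := q x)
        (Nat.Coprime.coprime_dvd_right (orderOf_dvd_of_pow_eq_one (hnn ▸ ht))
          (hp.coprime_iff_not_dvd.mpr hpn))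
      refine ⟨⟨(x ^ p) ^ k, ?_⟩, by rw [map_pow, map_pow]; exact hk⟩
      have hxN : x ^ n ∈ N := by
        rw [← QuotientGroup.eq_one_iff, ← QuotientGroup.mk'_apply, map_pow, ← hnn]; exact ht
      rw [pow_right_comm (x ^ p) k n, pow_right_comm x p n, hexp _ hxN, one_pow]
    choose f hf using hlift
    have hle : T ≤ n := by
      rw [hT, ← hcount]
      exact Nat.card_le_card_of_injective f fun a b h => Subtype.ext (by rw [← hf a, ← hf b, h])
    obtain ⟨H, hH, hHc⟩ := ih _ hlt (G ⧸ N) rfl n hn'g (by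
      rw [hT, hnn] at hle hTn; exact le_antisymm hle hTn)
    set M := H.comap q with hM
    have hNM : N ≤ M := fun x hx => by
      show q x ∈ H
      rw [hq, QuotientGroup.mk'_apply, (QuotientGroup.eq_one_iff x).mpr hx]; exact one_mem H
    have hHn : Nat.card H = n := by
      show Nat.card (H : Set (G ⧸ N)) = n
      rw [hHc]
      rw [hT, hnn] at hle hTn
      exact le_antisymm hle hTn
    have hidx : (N.subgroupOf M).index = n := by
      have h1 : M.map q = H := Subgroup.map_comap_eq_self_of_surjective hqs H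
      show N.relIndex M = n
      rw [← QuotientGroup.ker_mk' N, Subgroup.relIndex_ker, ← hq, h1, hHn]
    have hcNM : Nat.card (N.subgroupOf M) = P :=
      Nat.card_congr (Subgroup.subgroupOfEquivOfLe hNM).toEquiv
    haveI : (N.subgroupOf M).Normal := hNn.subgroupOf M
    obtain ⟨K, hK⟩ := Subgroup.exists_right_complement'_of_coprime (N := N.subgroupOf M)
      (by rw [hidx, hcNM]; exact hcopP.symm)
    set K' := K.map M.subtype
    have hKc : Nat.card K' = n := by
      rw [← Nat.card_congr (K.equivMapOfInjective M.subtype M.subtype_injective).toEquiv,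
        ← hK.symm.index_eq_card, hidx]
    have hset : (K' : Set G) = {x : G | x ^ n = 1} := by
      refine Set.eq_of_subset_of_ncard_le (fun x hx => ?_) ?_ (Set.toFinite _)
      · have := pow_card_eq_one' (G := K') (x := ⟨x, hx⟩)
        rw [hKc] at this
        exact congrArg Subtype.val this
      · rw [← Nat.card_coe_set_eq, ← Nat.card_coe_set_eq]
        show Nat.card {x : G // x ^ n = 1} ≤ Nat.card K'
        rw [hcount, hKc]
    refine ⟨K', ⟨fun x hx g => ?_⟩, hset⟩
    have hx' : x ^ n = 1 := (Set.ext_iff.mp hset x).mp hx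
    refine (Set.ext_iff.mp hset _).mpr ?_
    show (g * x * g⁻¹) ^ n = 1
    rw [conj_pow, hx', mul_one, mul_inv_cancel]

/-- If `G` is a finite solvable group and `n` divides the order of `G` and exactly `n` elements `x` of `G` satisfy `x^n = 1`, then these elements form a normal subgroup. -/
theorem result {G : Type*} [Group G] [Finite G] [Group.IsSolvable G] (n : ℕ) (hn : n ∣ Nat.card G) (hcount : Nat.card {x : G // x ^ n = 1} = n) : ∃ H : Subgroup G, H.Normal ∧ (H : Set G) = {x : G | x ^ n = 1} := by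
  exact aux _ G rfl n hn hcount

end Cfsg.Agent.S4213
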