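import Cfsg.Statements.S4216
import Mathlib

set_option autoImplicit false
open Cfsg

namespace Cfsg.Agent.S4216

open Subgroup MulAction
open scoped commutatorElement

theorem gruen_conj {G : Type*} [Group G] {p : ℕ} (P : Sylow p G) :
    ∀ v ∈ (P : Subgroup G), ∀ k ∈ ((P : Subgroup G) ⊓
      ⁅normalizer ((P : Subgroup G) : Set G), normalizer ((P : Subgroup G) : Set G)⁆) ⊔
      ⨆ z : G, (P : Subgroup G) ⊓ (⁅(P : Subgroup G), (P : Subgroup G)⁆).map (MulAut.conj z).toMonoidHom,
      v * k * v⁻¹ ∈ ((P : Subgroup G) ⊓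
      ⁅normalizer ((P : Subgroup G) : Set G), normalizer ((P : Subgroup G) : Set G)⁆) ⊔
      ⨆ z : G, (P : Subgroup G) ⊓ (⁅(P : Subgroup G), (P : Subgroup G)⁆).map (MulAut.conj z).toMonoidHom := by
  intro v hv k hk
  let c : G →* G := (MulAut.conj v).toMonoidHom
  suffices h : ((P : Subgroup G) ⊓
      ⁅normalizer ((P : Subgroup G) : Set G), normalizer ((P : Subgroup G) : Set G)⁆) ⊔
      (⨆ z : G, (P : Subgroup G) ⊓ (⁅(P : Subgroup G), (P : Subgroup G)⁆).map (MulAut.conj z).toMonoidHom)
      ≤ Subgroup.comap c (((P : Subgroup G) ⊓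
      ⁅normalizer ((P : Subgroup G) : Set G), normalizer ((P : Subgroup G) : Set G)⁆) ⊔
      ⨆ z : G, (P : Subgroup G) ⊓ (⁅(P : Subgroup G), (P : Subgroup G)⁆).map (MulAut.conj z).toMonoidHom) from h hk
  refine sup_le (fun x hx => mem_sup_left ⟨mul_mem (mul_mem hv hx.1) (Subgroup.inv_mem _ hv), ?_⟩)
    (iSup_le fun z x hx => mem_sup_right (mem_iSup_of_mem (v * z)
      ⟨mul_mem (mul_mem hv hx.1) (Subgroup.inv_mem _ hv), ?_⟩))
  · have hvN : v ∈ normalizer ((P : Subgroup G) : Set G) := le_normalizer hv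
    have h2 := hx.2
    show v * x * v⁻¹ ∈ _
    have h3 : ⁅v, x⁆ ∈ ⁅normalizer ((P : Subgroup G) : Set G), normalizer ((P : Subgroup G) : Set G)⁆ :=
      commutator_mem_commutator hvN (commutator_le_self _ h2)
    simpa [commutatorElement_def, mul_assoc] using mul_mem h3 h2
  · obtain ⟨y, hy, rfl⟩ := hx.2
    exact ⟨y, hy, by simp [c, mul_assoc]⟩

theorem gruen_mem {G : Type*} [Group G] [Finite G] {p : ℕ} [Fact p.Prime] (P : Sylow p G)
    (K : Subgroup G)
    (hN : (P : Subgroup G) ⊓
      ⁅normalizer ((P : Subgroup G) : Set G), normalizer ((P : Subgroup G) : Set G)⁆ ≤ K)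
    (hz : ∀ z : G, (P : Subgroup G) ⊓
      (⁅(P : Subgroup G), (P : Subgroup G)⁆).map (MulAut.conj z).toMonoidHom ≤ K)
    (hK : ∀ v ∈ (P : Subgroup G), ∀ k ∈ K, v * k * v⁻¹ ∈ K) :
    ∀ (n : ℕ) (u : G), u ∈ (P : Subgroup G) → u ∈ commutator G → orderOf u = n → u ∈ K := by
  classical
  intro n
  induction n using Nat.strong_induction_on with
  | h n ih =>
  intro u hu hu' hn
  by_cases hu1 : u = 1
  · subst hu1; exact one_mem _
  have hp : p.Prime := Fact.out
  -- the abelian target
  let K' : Subgroup (P : Subgroup G) := K.subgroupOf (P : Subgroup G)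
  haveI : K'.Normal := ⟨fun k hk v => hK v v.2 k hk⟩
  have hcomm : commutator (P : Subgroup G) ≤ K' := by
    intro x hx
    have hx' : (x : G) ∈ ⁅(P : Subgroup G), (P : Subgroup G)⁆ := by
      rw [← map_subtype_commutator]
      exact ⟨x, hx, rfl⟩
    exact hz 1 ⟨x.2, ⟨x, hx', by simp⟩⟩
  letI : CommGroup ((P : Subgroup G) ⧸ K') :=
    { (inferInstance : Group ((P : Subgroup G) ⧸ K')) with
      mul_comm := fun a b => by
        obtain ⟨a, rfl⟩ := QuotientGroup.mk_surjective a
        obtain ⟨b, rfl⟩ := QuotientGroup.mk_surjective b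
        rw [← QuotientGroup.mk_mul, ← QuotientGroup.mk_mul, QuotientGroup.eq]
        refine hcomm ?_
        rw [show (a * b)⁻¹ * (b * a) = ⁅b⁻¹, a⁻¹⁆ by rw [commutatorElement_def]; group]
        exact commutator_mem_commutator (mem_top _) (mem_top _) }
  let φ : (P : Subgroup G) →* (P : Subgroup G) ⧸ K' := QuotientGroup.mk' K'
  have hφ : ∀ x : (P : Subgroup G), φ x = 1 ↔ (x : G) ∈ K := fun x => QuotientGroup.eq_one_iff x
  have hV : φ.transfer u = 1 := Abelianization.commutator_subset_ker φ.transfer hu'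
  haveI : Fintype (Quotient (orbitRel (zpowers u) (G ⧸ (P : Subgroup G)))) := Fintype.ofFinite _
  rw [MonoidHom.transfer_eq_prod_quotient_orbitRel_zpowers_quot] at hV
  -- collect the orbits of `u` inside the orbits of `P`
  let g : G ⧸ (P : Subgroup G) → Quotient (orbitRel (P : Subgroup G) (G ⧸ (P : Subgroup G))) :=
    fun x => Quotient.mk'' x
  haveI : Fintype (G ⧸ (P : Subgroup G)) := Fintype.ofFinite _
  haveI : Fintype (Quotient (orbitRel (P : Subgroup G) (G ⧸ (P : Subgroup G)))) := Fintype.ofFinite _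
  rw [← Finset.prod_fiberwise _ (fun q => g q.out)] at hV
  let c : Quotient (orbitRel (P : Subgroup G) (G ⧸ (P : Subgroup G))) → ℕ :=
    fun r => Nat.card (orbit (P : Subgroup G) r.out)
  have key : ∀ r, ∏ q ∈ Finset.univ.filter
      (fun q : Quotient (orbitRel (zpowers u) (G ⧸ (P : Subgroup G))) => g q.out = r),
      φ ⟨q.out.out⁻¹ * u ^ Function.minimalPeriod (u • ·) q.out * q.out.out,
        QuotientGroup.out_conj_pow_minimalPeriod_mem (P : Subgroup G) u q.out⟩ =
      if c r = 1 then φ ⟨u, hu⟩ else 1 := by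
    intro r
    set z : G := r.out.out with hzdef
    have hzr : (z : G ⧸ (P : Subgroup G)) = r.out := QuotientGroup.out_eq' _
    set F := Finset.univ.filter
      (fun q : Quotient (orbitRel (zpowers u) (G ⧸ (P : Subgroup G))) => g q.out = r)
    -- the stabilizer of the base point and its map to the target
    let U : Subgroup G := (P : Subgroup G) ⊓ (P : Subgroup G).comap (MulAut.conj z⁻¹).toMonoidHom
    have hU : ∀ y : G, y ∈ (P : Subgroup G).comap (MulAut.conj z⁻¹).toMonoidHom ↔
        z⁻¹ * y * z ∈ (P : Subgroup G) := fun y => by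
      rw [mem_comap]; simp
    let θ : U →* (P : Subgroup G) ⧸ K' := φ.comp
      { toFun := fun y => ⟨z⁻¹ * (y : G) * z, (hU _).mp y.2.2⟩
        map_one' := by ext; simp
        map_mul' := fun a b => by ext; simp [mul_assoc] }
    let ab : U →* Abelianization (P : Subgroup G) :=
      Abelianization.of.comp (Subgroup.inclusion inf_le_left)
    let Θ := θ.prod ab
    have hv : ∀ q ∈ F, ∃ y : U,
        θ y = φ ⟨q.out.out⁻¹ * u ^ Function.minimalPeriod (u • ·) q.out * q.out.out,
          QuotientGroup.out_conj_pow_minimalPeriod_mem (P : Subgroup G) u q.out⟩ ∧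
        ab y = Abelianization.of (⟨u, hu⟩ : (P : Subgroup G)) ^ Function.minimalPeriod (u • ·) q.out := by
      intro q hq
      have hqr : g q.out = g r.out := ((Finset.mem_filter.mp hq).2).trans (Quotient.out_eq' r).symm
      obtain ⟨v, hv⟩ : q.out ∈ orbit (P : Subgroup G) r.out := Quotient.exact' hqr
      have hw : ((v : G) * z)⁻¹ * q.out.out ∈ (P : Subgroup G) := by
        rw [← QuotientGroup.eq, QuotientGroup.out_eq', ← hv, ← hzr]
        rfl
      set f := Function.minimalPeriod (u • ·) q.out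
      set w := ((v : G) * z)⁻¹ * q.out.out with hwdef
      have ht := QuotientGroup.out_conj_pow_minimalPeriod_mem (P : Subgroup G) u q.out
      have hyP : (v : G)⁻¹ * u ^ f * v ∈ (P : Subgroup G) :=
        mul_mem (mul_mem (inv_mem v.2) (pow_mem hu f)) v.2
      have hyz : z⁻¹ * ((v : G)⁻¹ * u ^ f * v) * z ∈ (P : Subgroup G) := by
        have := mul_mem (mul_mem hw ht) (inv_mem hw)
        rwa [hwdef, show ((v : G) * z)⁻¹ * q.out.out * (q.out.out⁻¹ * u ^ f * q.out.out) *
          (((v : G) * z)⁻¹ * q.out.out)⁻¹ = z⁻¹ * ((v : G)⁻¹ * u ^ f * v) * z by group] at this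
      refine ⟨⟨(v : G)⁻¹ * u ^ f * v, hyP, (hU _).mpr hyz⟩, ?_, ?_⟩
      · show φ ⟨_, _⟩ = φ ⟨_, _⟩
        have : (⟨q.out.out⁻¹ * u ^ f * q.out.out, ht⟩ : (P : Subgroup G)) =
            ⟨w, hw⟩⁻¹ * ⟨z⁻¹ * ((v : G)⁻¹ * u ^ f * v) * z, hyz⟩ * ⟨w, hw⟩ := by
          ext
          simp only [coe_mul, coe_inv, hwdef]
          group
        rw [this, map_mul φ, map_mul φ, map_inv φ, mul_right_comm, inv_mul_cancel, one_mul]
      · show Abelianization.of _ = _
        rw [show (Subgroup.inclusion inf_le_left (⟨(v : G)⁻¹ * u ^ f * v, hyP, (hU _).mpr hyz⟩ : U) : (P : Subgroup G)) =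
            v⁻¹ * ⟨u, hu⟩ ^ f * v from Subtype.ext rfl, map_mul Abelianization.of, map_mul Abelianization.of, map_inv Abelianization.of,
          map_pow Abelianization.of, mul_right_comm, inv_mul_cancel, one_mul]
    obtain ⟨Y, hY⟩ : (∏ q ∈ F, ((φ ⟨q.out.out⁻¹ * u ^ Function.minimalPeriod (u • ·) q.out * q.out.out,
        QuotientGroup.out_conj_pow_minimalPeriod_mem (P : Subgroup G) u q.out⟩,
        Abelianization.of (⟨u, hu⟩ : (P : Subgroup G)) ^ Function.minimalPeriod (u • ·) q.out) :
        _ × Abelianization (P : Subgroup G))) ∈ Θ.range := by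
      refine Subgroup.prod_mem _ fun q hq => ?_
      obtain ⟨y, h1, h2⟩ := hv q hq
      exact ⟨y, Prod.ext h1 h2⟩
    have hY1 : θ Y = ∏ q ∈ F, φ ⟨q.out.out⁻¹ * u ^ Function.minimalPeriod (u • ·) q.out * q.out.out,
        QuotientGroup.out_conj_pow_minimalPeriod_mem (P : Subgroup G) u q.out⟩ := by
      simpa [Θ, Prod.fst_prod] using congrArg Prod.fst hY
    have hY2 : ab Y = Abelianization.of (⟨u, hu⟩ : (P : Subgroup G)) ^ c r := by
      have h := congrArg Prod.snd hY
      simp only [Θ, MonoidHom.prod_apply, Prod.snd_prod, Finset.prod_pow_eq_pow_sum] at h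
      rw [h]
      congr 1
      have h1 : c r = (Finset.univ.filter (fun x => g x = r)).card := by
        rw [← Fintype.card_subtype, ← Nat.card_eq_fintype_card]
        refine Nat.card_congr (Equiv.subtypeEquivRight fun x => ?_)
        constructor
        · intro hx; exact (Quotient.sound' hx).trans (Quotient.out_eq' r)
        · intro hx; exact Quotient.exact' (hx.trans (Quotient.out_eq' r).symm)
      rw [h1, Finset.card_eq_sum_card_fiberwise (t := F)
        (f := fun x => (Quotient.mk'' x : Quotient (orbitRel (zpowers u) (G ⧸ (P : Subgroup G)))))]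
      · refine Finset.sum_congr rfl fun q hq => ?_
        rw [minimalPeriod_eq_card, Finset.filter_filter, ← Fintype.card_subtype]
        refine Fintype.card_congr (Equiv.subtypeEquivRight fun x => ?_)
        have hgq : g q.out = r := (Finset.mem_filter.mp hq).2
        constructor
        · intro hx
          refine ⟨?_, (Quotient.sound' hx).trans (Quotient.out_eq' q)⟩
          refine Eq.trans ?_ hgq
          obtain ⟨⟨a, ha⟩, rfl⟩ := hx
          exact Quotient.sound' ⟨⟨a, zpowers_le.mpr hu ha⟩, rfl⟩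
        · intro hx; exact Quotient.exact' (hx.2.trans (Quotient.out_eq' q).symm)
      · intro x hx
        simp only [Finset.coe_filter, Finset.mem_univ, true_and, Set.mem_setOf_eq] at hx ⊢
        refine Finset.mem_coe.mpr (Finset.mem_filter.mpr ⟨Finset.mem_univ _, ?_⟩)
        refine Eq.trans ?_ hx
        obtain ⟨⟨a, ha⟩, hax⟩ : (Quotient.mk'' x : Quotient (orbitRel (zpowers u) _)).out ∈
            orbit (zpowers u) x := Quotient.exact'
          (Quotient.out_eq' (Quotient.mk'' x : Quotient (orbitRel (zpowers u) (G ⧸ (P : Subgroup G)))))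
        exact Quotient.sound' ⟨⟨a, zpowers_le.mpr hu ha⟩, hax⟩
    obtain ⟨a, ha⟩ : ∃ a, c r = p ^ a := P.2.card_orbit r.out
    -- the power of `u` lies in the stabilizer
    have hfix : u ^ c r • r.out = r.out := by
      have hdvd : Function.minimalPeriod (u • ·) r.out ∣ c r := by
        haveI : Fintype (orbit (zpowers u) r.out) := Fintype.ofFinite _
        rw [minimalPeriod_eq_card, ← Nat.card_eq_fintype_card]
        obtain ⟨b, hb⟩ := (P.2.to_le (zpowers_le.mpr hu)).card_orbit r.out
        have hb' : Nat.card (orbit (zpowers u) r.out) = p ^ b := hb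
        refine (dvd_of_eq hb').trans ((pow_dvd_pow p ?_).trans (dvd_of_eq ha.symm))
        refine (Nat.pow_le_pow_iff_right hp.one_lt).mp ?_
        rw [← hb', ← ha]
        refine Nat.card_mono (Set.toFinite _) ?_
        rintro _ ⟨⟨x, hx⟩, rfl⟩
        exact ⟨⟨x, zpowers_le.mpr hu hx⟩, rfl⟩
      exact pow_smul_eq_iff_minimalPeriod_dvd.mpr hdvd
    have hez : z⁻¹ * u ^ c r * z ∈ (P : Subgroup G) := by
      have : ((u ^ c r * z : G) : G ⧸ (P : Subgroup G)) = (z : G ⧸ (P : Subgroup G)) := by
        rw [hzr]; conv_rhs => rw [← hfix, ← hzr]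
        rfl
      have := QuotientGroup.eq.mp this.symm
      rwa [← mul_assoc] at this
    let e : U := ⟨u ^ c r, pow_mem hu _, (hU _).mpr hez⟩
    have hd : θ (Y * e⁻¹) = 1 := by
      show φ _ = 1
      rw [hφ]
      refine hz z⁻¹ ⟨SetLike.coe_mem _, ⟨((Y * e⁻¹ : U) : G), ?_, by simp [mul_assoc]⟩⟩
      rw [← map_subtype_commutator]
      refine ⟨Subgroup.inclusion inf_le_left (Y * e⁻¹), ?_, rfl⟩
      rw [← Abelianization.ker_of, SetLike.mem_coe, MonoidHom.mem_ker]
      show ab (Y * e⁻¹) = 1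
      rw [map_mul, map_inv, hY2, mul_inv_eq_one, ← map_pow]
      rfl
    have hθY : θ Y = θ e := by rwa [map_mul, map_inv, mul_inv_eq_one] at hd
    rw [← hY1, hθY]
    split_ifs with h1
    · -- the base point is fixed by `P`
      have hzN : z ∈ normalizer ((P : Subgroup G) : Set G) := by
        have hsub : ∀ x ∈ (P : Subgroup G), z⁻¹ * x * z ∈ (P : Subgroup G) := by
          intro x hx
          have h2 : (⟨x, hx⟩ : (P : Subgroup G)) • r.out = r.out := by
            have hs : Subsingleton (orbit (P : Subgroup G) r.out) :=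
              (Nat.card_eq_one_iff_unique.mp h1).1
            exact congrArg Subtype.val (hs.elim ⟨_, mem_orbit _ _⟩ ⟨r.out, mem_orbit_self _⟩)
          rw [← hzr] at h2
          have := QuotientGroup.eq.mp h2.symm
          simpa [mul_assoc] using this
        have heq : ((P : Subgroup G).map (MulAut.conj z⁻¹).toMonoidHom) = (P : Subgroup G) := by
          refine eq_of_le_of_card_ge ?_ ?_
          · rintro _ ⟨x, hx, rfl⟩
            simpa using hsub x hx
          · rw [card_map_of_injective (MulAut.conj z⁻¹).injective]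
        rw [mem_normalizer_iff]
        intro x
        constructor
        · intro hx
          rw [← heq] at hx
          obtain ⟨y, hy, hyx⟩ := hx
          rw [← hyx]
          have : z * (MulAut.conj z⁻¹) y * z⁻¹ = y := by simp [mul_assoc]
          show z * (MulAut.conj z⁻¹) y * z⁻¹ ∈ (P : Subgroup G)
          rw [this]
          exact hy
        · intro hx
          have := hsub _ hx
          rwa [show z⁻¹ * (z * x * z⁻¹) * z = x by group] at this
      show φ ⟨z⁻¹ * (e : G) * z, _⟩ = φ ⟨u, hu⟩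
      rw [QuotientGroup.mk'_eq_mk']
      refine ⟨⟨(z⁻¹ * (e : G) * z)⁻¹ * u,
          (P : Subgroup G).mul_mem ((P : Subgroup G).inv_mem ((hU _).mp e.2.2)) hu⟩,
        hN ⟨(P : Subgroup G).mul_mem ((P : Subgroup G).inv_mem ((hU _).mp e.2.2)) hu, ?_⟩, Subtype.ext (mul_inv_cancel_left _ _)⟩
      have := commutator_mem_commutator (inv_mem hzN)
        (inv_mem (le_normalizer hu) : u⁻¹ ∈ normalizer ((P : Subgroup G) : Set G))
      rw [commutatorElement_def] at this
      show (z⁻¹ * (u ^ c r) * z)⁻¹ * u ∈ _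
      rw [h1, pow_one]
      rwa [show z⁻¹ * u⁻¹ * z⁻¹⁻¹ * u⁻¹⁻¹ = (z⁻¹ * u * z)⁻¹ * u by group] at this
    · show φ ⟨z⁻¹ * (e : G) * z, _⟩ = 1
      rw [hφ]
      refine ih (orderOf (z⁻¹ * u ^ c r * z)) ?_ _ hez ?_ rfl
      · rw [show z⁻¹ * u ^ c r * z = MulAut.conj z⁻¹ (u ^ c r) by simp,
          MulEquiv.orderOf_eq, ← hn, orderOf_pow]
        have hpos : 0 < orderOf u := orderOf_pos u
        refine Nat.div_lt_self hpos ?_
        obtain ⟨b, hb⟩ := P.2 ⟨u, hu⟩
        obtain ⟨i, -, hi⟩ := (Nat.dvd_prime_pow hp).mp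
          (orderOf_dvd_of_pow_eq_one (congrArg Subtype.val hb : u ^ p ^ b = 1))
        have hi0 : i ≠ 0 := fun h => hu1 (orderOf_eq_one_iff.mp (by rw [hi, h, pow_zero]))
        have ha0 : a ≠ 0 := fun h => h1 (by rw [ha, h, pow_zero])
        refine lt_of_lt_of_le hp.one_lt (Nat.le_of_dvd (Nat.gcd_pos_of_pos_left _ hpos) ?_)
        rw [hi, ha]
        exact Nat.dvd_gcd (dvd_pow_self p hi0) (dvd_pow_self p ha0)
      · have := (Subgroup.commutator_normal (⊤ : Subgroup G) ⊤).conj_mem _ (pow_mem hu' (c r)) z⁻¹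
        rw [inv_inv] at this
        exact this
  rw [Finset.prod_congr rfl (fun r _ => key r), Finset.prod_ite, Finset.prod_const,
    Finset.prod_const_one, mul_one] at hV
  set m := (Finset.univ.filter (fun r => c r = 1)).card
  have hm : ¬ p ∣ m := by
    intro hdvd
    refine P.not_dvd_index ?_
    rw [Subgroup.index_eq_card, Nat.card_eq_fintype_card, ← Finset.card_univ,
      Finset.card_eq_sum_card_fiberwise (t := Finset.univ) (f := g) (fun _ _ => Finset.mem_univ _)]
    have hc : ∀ r, (Finset.univ.filter (fun x => g x = r)).card = c r := by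
      intro r
      rw [← Fintype.card_subtype, ← Nat.card_eq_fintype_card]
      refine Nat.card_congr (Equiv.subtypeEquivRight fun x => ?_)
      constructor
      · intro hx; exact Quotient.exact' (hx.trans (Quotient.out_eq' r).symm)
      · intro hx; exact (Quotient.sound' hx).trans (Quotient.out_eq' r)
    rw [Finset.sum_congr rfl (fun r _ => hc r), ← Finset.sum_filter_add_sum_filter_not _ (fun r => c r = 1)]
    refine dvd_add ?_ (Finset.dvd_sum fun r hr => ?_)
    · rw [Finset.sum_congr rfl (fun r hr => (Finset.mem_filter.mp hr).2), Finset.sum_const,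
        smul_eq_mul, mul_one]
      exact hdvd
    · obtain ⟨a, ha⟩ : ∃ a, c r = p ^ a := P.2.card_orbit r.out
      show p ∣ c r
      rw [ha]
      exact dvd_pow_self p fun h => (Finset.mem_filter.mp hr).2 (by rw [ha, h, pow_zero])
  obtain ⟨b, hb⟩ := P.2 ⟨u, hu⟩
  have h1 : φ ⟨u, hu⟩ ^ p ^ b = 1 := by rw [← map_pow, hb, map_one]
  have hcop : Nat.Coprime m (p ^ b) :=
    Nat.Coprime.pow_right b ((hp.coprime_iff_not_dvd.mpr hm).symm)
  have := orderOf_eq_one_iff.mp (Nat.dvd_one.mp
    (hcop ▸ Nat.dvd_gcd (orderOf_dvd_of_pow_eq_one hV) (orderOf_dvd_of_pow_eq_one h1)))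
  exact (hφ ⟨u, hu⟩).mp this

/-- Grün's first Theorem: if `P` is a Sylow `p`-subgroup of the finite group `G`, then `P ∩ G'` is the subgroup generated by `P ∩ N_G(P)'` together with the subgroups `P ∩ z P' z⁻¹` for all `z ∈ G`, where `'` denotes the derived subgroup and `N_G(P)` the normalizer of `P`. -/
theorem result {G : Type*} [Group G] [Finite G] {p : ℕ} [Fact p.Prime] (P : Sylow p G) : (P : Subgroup G) ⊓ commutator G = ((P : Subgroup G) ⊓ ⁅Subgroup.normalizer ((P : Subgroup G) : Set G), Subgroup.normalizer ((P : Subgroup G) : Set G)⁆) ⊔ ⨆ z : G, (P : Subgroup G) ⊓ (⁅(P : Subgroup G), (P : Subgroup G)⁆).map (MulAut.conj z).toMonoidHom := by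
  apply le_antisymm
  · intro u hu
    exact gruen_mem P _ le_sup_left (fun z => le_sup_of_le_right (le_iSup_of_le z le_rfl))
      (gruen_conj P) (orderOf u) u hu.1 hu.2 rfl
  · refine sup_le (le_inf inf_le_left (inf_le_right.trans (Subgroup.commutator_mono le_top le_top)))
      (iSup_le fun z => le_inf inf_le_left (inf_le_right.trans ?_))
    rw [Subgroup.map_commutator]
    exact Subgroup.commutator_mono le_top le_top

end Cfsg.Agent.S4216
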