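import Cfsg.Statements.S4217
import Mathlib
import Cfsg.Agent.Lib.PGroup.Gaschutz

set_option autoImplicit false
open Cfsg

namespace Cfsg.Agent.S4217

/-- Let `A` be an abelian normal subgroup of the finite group `G`. Then `A` has a complement in `G` if and only if, for every prime `p` dividing the index of `A`, there are a Sylow `p`-subgroup `S` of `G/A` and a subgroup `K` of `G` with `K ∩ A = 1` and `KA` equal to the preimage of `S` (that is, `A` has a complement in the preimage of a Sylow `p`-subgroup of `G/A`). -/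
theorem result {G : Type*} [Group G] [Finite G] (A : Subgroup G) [A.Normal] (hA : IsMulCommutative A) : (∃ K : Subgroup G, K.IsComplement' A) ↔ ∀ p : ℕ, p.Prime → p ∣ A.index → ∃ (S : Sylow p (G ⧸ A)) (K : Subgroup G), K ⊓ A = ⊥ ∧ K ⊔ A = (S : Subgroup (G ⧸ A)).comap (QuotientGroup.mk' A) := by
  constructor
  · rintro ⟨K, hK⟩ p hp -
    haveI := Fact.mk hp
    obtain ⟨S⟩ : Nonempty (Sylow p (G ⧸ A)) := inferInstance
    refine ⟨S, K ⊓ (S : Subgroup (G ⧸ A)).comap (QuotientGroup.mk' A), ?_, ?_⟩
    · rw [eq_bot_iff]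
      exact le_trans (inf_le_inf_right A inf_le_left) hK.disjoint.le_bot
    · have hA' : A ≤ (S : Subgroup (G ⧸ A)).comap (QuotientGroup.mk' A) := fun a ha => by
        rw [Subgroup.mem_comap, QuotientGroup.mk'_apply, (QuotientGroup.eq_one_iff a).2 ha]
        exact one_mem _
      refine le_antisymm (sup_le inf_le_right hA') fun u hu => ?_
      obtain ⟨k, hk, a, ha, rfl⟩ := Subgroup.mem_sup_of_normal_right.mp
        (show u ∈ K ⊔ A from hK.sup_eq_top ▸ Subgroup.mem_top u)
      refine Subgroup.mul_mem_sup ⟨hk, ?_⟩ ha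
      have := Subgroup.mul_mem _ hu (Subgroup.inv_mem _ (hA' ha))
      rwa [mul_inv_cancel_right] at this
  · intro h
    haveI : IsMulCommutative A := hA
    refine CfsgLib.PGroup.Gaschutz.complement_of_exponent_one A ?_
    have hU : ∀ (U B : Subgroup G), A ≤ U → B ⊓ A = ⊥ → A ⊔ B = U →
        (U.index : ℤ) ∈ CfsgLib.PGroup.Gaschutz.exponents A := by
      intro U B hAU hB hAB
      obtain ⟨f, hf, hfK, -⟩ :=
        CfsgLib.Solvable.Gaschutz.exists_crossed_of_complement A U B hB hAB
      obtain ⟨F, hF, hFk⟩ := CfsgLib.PGroup.Gaschutz.exists_extension_pow A U hAU f hf hfK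
      exact ⟨F, hF, fun k => by rw [zpow_natCast]; exact hFk k⟩
    obtain ⟨d, hd⟩ := Int.subgroup_cyclic (CfsgLib.PGroup.Gaschutz.exponents A)
    have hdvd : ∀ e ∈ CfsgLib.PGroup.Gaschutz.exponents A, d ∣ e := fun e he => by
      rw [hd, AddSubgroup.mem_closure_singleton] at he
      obtain ⟨n, rfl⟩ := he
      exact ⟨n, by rw [zsmul_eq_mul, Int.cast_id, mul_comm]⟩
    have hd1 : d.natAbs = 1 := by
      by_contra hne
      obtain ⟨p, hp, hpd⟩ := Nat.exists_prime_and_dvd hne
      have hpA : p ∣ A.index := by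
        have := Int.natAbs_dvd_natAbs.mpr (hdvd _ (hU A ⊥ le_rfl (bot_inf_eq A) (sup_bot_eq A)))
        exact hpd.trans (by simpa using this)
      obtain ⟨S, B, hB, hBA⟩ := h p hp hpA
      have hAU : A ≤ (S : Subgroup (G ⧸ A)).comap (QuotientGroup.mk' A) := hBA ▸ le_sup_right
      have hidx := Int.natAbs_dvd_natAbs.mpr (hdvd _ (hU _ B hAU hB (by rw [sup_comm]; exact hBA)))
      rw [Subgroup.index_comap_of_surjective _ (QuotientGroup.mk'_surjective A)] at hidx
      haveI := Fact.mk hp
      exact S.not_dvd_index (hpd.trans (by simpa using hidx))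
    rw [hd, AddSubgroup.mem_closure_singleton]
    rcases Int.natAbs_eq d with e | e <;> rw [hd1] at e
    · exact ⟨1, by simp [e]⟩
    · exact ⟨-1, by simp [e]⟩

end Cfsg.Agent.S4217
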