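import Cfsg.Statements.S4218
import Mathlib
import Cfsg.Agent.Lib.Fusion.PSolvable
import Cfsg.Agent.Lib.PGroup.Frattini
import Cfsg.Agent.Lib.Coprime.Action

set_option autoImplicit false
open Cfsg

namespace Cfsg.Agent.S4218

open scoped commutatorElement

/-- Let `G` be a finite `p`-solvable group, `N₀ = O_{p'}(G)`, `P₁ = O_{p',p}(G)`, and let `F ≤ P₁` be the preimage of the Frattini subgroup of `P₁/N₀`. Then an element `g` of `G` induces the identity on `P₁/F` by conjugation (that is, `g x g⁻¹ x⁻¹ ∈ F` for all `x ∈ P₁`) if and only if `g ∈ P₁`: the group `G/P₁` acts faithfully on `P₁/F`. -/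
theorem result {G : Type*} [Group G] [Finite G] {p : ℕ} [Fact p.Prime] (hG : Cfsg.IsPSolvable p G) (g : G) : (∀ x ∈ Cfsg.pPrimePCore p G, g * x * g⁻¹ * x⁻¹ ∈ ((frattini (↥(Cfsg.pPrimePCore p G) ⧸ (Cfsg.pPrimeCore p G).subgroupOf (Cfsg.pPrimePCore p G))).comap (QuotientGroup.mk' ((Cfsg.pPrimeCore p G).subgroupOf (Cfsg.pPrimePCore p G)))).map (Cfsg.pPrimePCore p G).subtype) ↔ g ∈ Cfsg.pPrimePCore p G := by
  classical
  set N0 := Cfsg.pPrimeCore p G with hN0
  set P1 := Cfsg.pPrimePCore p G with hP1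
  set N' := N0.subgroupOf P1
  let q := QuotientGroup.mk' N0
  set R := Cfsg.pCore p (G ⧸ N0) with hR
  have hRn : R.Normal := inferInstance
  have hmem : ∀ x : G, x ∈ P1 ↔ q x ∈ R := fun x => Iff.rfl
  let φ : P1 →* R := (q.comp P1.subtype).codRestrict R fun x => (hmem x).mp x.2
  have hφ : Function.Surjective φ := by
    rintro ⟨y, hy⟩
    obtain ⟨x, rfl⟩ := QuotientGroup.mk'_surjective N0 y
    exact ⟨⟨x, hy⟩, rfl⟩
  have hker : N' = φ.ker := by
    ext x
    rw [MonoidHom.mem_ker, Subgroup.mem_subgroupOf]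
    constructor
    · exact fun h => Subtype.ext ((QuotientGroup.eq_one_iff _).mpr h)
    · exact fun h => (QuotientGroup.eq_one_iff _).mp (congrArg Subtype.val h)
  let e : P1 ⧸ N' ≃* R :=
    (QuotientGroup.quotientMulEquivOfEq hker).trans (QuotientGroup.quotientKerEquivOfSurjective φ hφ)
  have he : ∀ x : P1, e (QuotientGroup.mk' N' x) = φ x := fun x => rfl
  have hF : ∀ x : G, x ∈ ((frattini (P1 ⧸ N')).comap (QuotientGroup.mk' N')).map P1.subtype ↔
      q x ∈ (frattini R).map R.subtype := by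
    intro x
    constructor
    · rintro ⟨y, hy, rfl⟩
      have := frattini_le_comap_frattini_of_surjective (φ := e.toMonoidHom) e.surjective hy
      exact ⟨φ y, this, rfl⟩
    · rintro ⟨r, hr, hrx⟩
      have hxP : x ∈ P1 := (hmem x).mpr (hrx ▸ r.2)
      refine ⟨⟨x, hxP⟩, ?_, rfl⟩
      have : φ ⟨x, hxP⟩ = r := Subtype.ext hrx.symm
      have h1 := frattini_le_comap_frattini_of_surjective (φ := e.symm.toMonoidHom)
        e.symm.surjective hr
      rw [← this, ← he] at h1
      show QuotientGroup.mk' N' ⟨x, hxP⟩ ∈ frattini (P1 ⧸ N')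
      simpa using h1
  have hRp : IsPGroup p R := CfsgLib.Solvable.Cores.isPGroup_pCore p
  constructor
  · intro h
    set Φ := (frattini R).map R.subtype with hΦ
    have hΦn : Φ.Normal := inferInstance
    let K : Subgroup (G ⧸ N0) := (Subgroup.centralizer
      ((R.map (QuotientGroup.mk' Φ) : Subgroup _) : Set _)).comap (QuotientGroup.mk' Φ)
    have : (R.map (QuotientGroup.mk' Φ)).Normal :=
      hRn.map _ (QuotientGroup.mk'_surjective Φ)
    have hKn : K.Normal := Subgroup.Normal.comap inferInstance _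
    have hK : ∀ y, y ∈ K ↔ ∀ r ∈ R, ⁅y, r⁆ ∈ Φ := by
      intro y
      simp only [K, Subgroup.mem_comap, Subgroup.mem_centralizer_iff, Subgroup.coe_map,
        Set.forall_mem_image, SetLike.mem_coe]
      refine forall₂_congr fun r hr => ?_
      rw [← QuotientGroup.eq_one_iff, ← QuotientGroup.mk'_apply, map_commutatorElement,
        commutatorElement_eq_one_iff_mul_comm, eq_comm]
    have hKp : IsPGroup p K := by
      intro a
      by_contra ha
      obtain ⟨r, hr, hrd, hrp⟩ : ∃ r : ℕ, r.Prime ∧ r ∣ orderOf a ∧ r ≠ p := by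
        by_contra hc
        push_neg at hc
        refine ha ⟨(orderOf a).primeFactorsList.length, ?_⟩
        have := Nat.eq_prime_pow_of_unique_prime_dvd (orderOf_pos a).ne' fun {d} hd hdd =>
          hc d hd hdd
        rw [← this, pow_orderOf_eq_one]
      set b : G ⧸ N0 := ((a ^ (orderOf a / r) : K) : G ⧸ N0) with hb
      have hbo : orderOf b = r := by
        rw [hb, Subgroup.orderOf_coe, orderOf_pow_of_dvd
          (Nat.div_pos (Nat.le_of_dvd (orderOf_pos a) hrd) hr.pos).ne' (Nat.div_dvd_of_dvd hrd),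
          Nat.div_div_self hrd (orderOf_pos a).ne']
      have hcop : (Nat.card (Subgroup.zpowers b)).Coprime (Nat.card (frattini R)) := by
        obtain ⟨k, hk⟩ := IsPGroup.iff_card.mp (hRp.to_subgroup (frattini R))
        rw [Nat.card_zpowers, hbo, hk]
        exact ((Nat.coprime_primes hr Fact.out).mpr hrp).pow_right k
      have hc := CfsgLib.Coprime.le_centralizer_of_frattini
        (Subgroup.le_normalizer_of_normal) hcop fun c hc k hk => (hK c).mp
          ((Subgroup.zpowers_le.mpr (a ^ (orderOf a / r)).2) hc) k hk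
      have hbR : b ∈ R := CfsgLib.Fusion.PSolvable.centralizer_pCore_le
        (CfsgLib.Fusion.PSolvable.psolvable_quotient hG N0)
        CfsgLib.Components.pPrimeCore_quotient_eq_bot (hc (Subgroup.mem_zpowers b))
      obtain ⟨k, hk⟩ := hRp ⟨b, hbR⟩
      have h3 : orderOf b ∣ p ^ k :=
        orderOf_dvd_of_pow_eq_one (by simpa using congrArg Subtype.val hk)
      rw [hbo] at h3
      exact hrp ((Nat.prime_dvd_prime_iff_eq hr Fact.out).mp (hr.dvd_of_dvd_pow h3))
    have hle : K ≤ R := CfsgLib.Solvable.Cores.le_pCore hKp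
    refine (hmem g).mpr (hle ((hK _).mpr ?_))
    intro r hr
    obtain ⟨x, rfl⟩ := QuotientGroup.mk'_surjective N0 r
    have := (hF _).mp (h x hr)
    rwa [map_mul, map_mul, map_mul, map_inv, map_inv, ← commutatorElement_def] at this
  · intro hg x hx
    rw [hF, map_mul, map_mul, map_mul, map_inv, map_inv, ← commutatorElement_def]
    refine ⟨⁅(⟨q g, (hmem g).mp hg⟩ : R), ⟨q x, (hmem x).mp hx⟩⁆,
      CfsgLib.PGroup.Frattini.commutatorElement_mem_frattini hRp _ _, rfl⟩

end Cfsg.Agent.S4218
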