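import Cfsg.Statements.S4219
import Mathlib

set_option autoImplicit false
open Cfsg

namespace Cfsg.Agent.S4219

/-- Let a finite group `G` act `t`-fold transitively on a finite set, let `H` be the stabilizer of `t` distinct points and `P` a Sylow `p`-subgroup of `H`. Then the normalizer of `P` in `G` is `t`-fold transitive on the fixed points of `P`: any `t` distinct fixed points of `P` can be carried to any other `t` distinct fixed points of `P` by an element normalizing `P`. -/
theorem result {G : Type*} [Group G] [Finite G] {α : Type*} [Fintype α] [MulAction G α] {t : ℕ} (hG : MulAction.IsMultiplyPretransitive G α t) (x : Fin t ↪ α) {p : ℕ} [Fact p.Prime] (P : Sylow p (MulAction.stabilizer G x)) (a b : Fin t ↪ α) (ha : ∀ i, a i ∈ MulAction.fixedPoints ((P : Subgroup (MulAction.stabilizer G x)).map (MulAction.stabilizer G x).subtype) α) (hb : ∀ i, b i ∈ MulAction.fixedPoints ((P : Subgroup (MulAction.stabilizer G x)).map (MulAction.stabilizer G x).subtype) α) : ∃ g ∈ Subgroup.normalizer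 ((((P : Subgroup (MulAction.stabilizer G x)).map (MulAction.stabilizer G x).subtype) : Subgroup G) : Set G), g • a = b := by
  classical
  set Q := (P : Subgroup (MulAction.stabilizer G x)).map (MulAction.stabilizer G x).subtype with hQ
  have := hG
  obtain ⟨g₀, hg₀⟩ := MulAction.exists_smul_eq G a b
  have hfix : ∀ (c : Fin t ↪ α), (∀ i, c i ∈ MulAction.fixedPoints Q α) → Q ≤ MulAction.stabilizer G c := by
    intro c hc q hq
    rw [MulAction.mem_stabilizer_iff]
    ext i
    exact hc i ⟨q, hq⟩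
  have hQa := hfix a ha
  -- the conjugate of `Q` by `g₀⁻¹` also fixes `a`
  set Q' := Q.map (MulAut.conj g₀⁻¹).toMonoidHom with hQ'
  have hQ'a : Q' ≤ MulAction.stabilizer G a := by
    rintro _ ⟨q, hq, rfl⟩
    have h := hfix b hb hq
    rw [MulAction.mem_stabilizer_iff] at h ⊢
    rw [MulEquiv.coe_toMonoidHom, MulAut.conj_apply, inv_inv, mul_smul, mul_smul, hg₀, h,
      inv_smul_eq_iff, hg₀]
  obtain ⟨c, hc⟩ := MulAction.exists_smul_eq G x a
  have hstab : Nat.card (MulAction.stabilizer G a) = Nat.card (MulAction.stabilizer G x) := by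
    rw [← hc, MulAction.stabilizer_smul_eq_stabilizer_map_conj]
    exact (Nat.card_congr ((MulAction.stabilizer G x).equivMapOfInjective _
      (MulAut.conj c).injective).toEquiv).symm
  have hsyl : ∀ R : Subgroup G, R ≤ MulAction.stabilizer G a → Nat.card R = Nat.card Q →
      ∃ S : Sylow p (MulAction.stabilizer G a), (S : Subgroup (MulAction.stabilizer G a)) = R.subgroupOf _ := by
    intro R hR hcard
    have h1 : Nat.card (R.subgroupOf (MulAction.stabilizer G a)) =
        Nat.card (P : Subgroup (MulAction.stabilizer G x)) := by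
      rw [Nat.card_congr (Subgroup.subgroupOfEquivOfLe hR).toEquiv, hcard, hQ]
      exact (Nat.card_congr ((P : Subgroup (MulAction.stabilizer G x)).equivMapOfInjective _ (Subgroup.subtype_injective _)).toEquiv).symm
    rw [P.card_eq_multiplicity, ← hstab] at h1
    exact ⟨Sylow.ofCard _ h1, rfl⟩
  obtain ⟨S₁, hS₁⟩ := hsyl Q hQa rfl
  obtain ⟨S₂, hS₂⟩ := hsyl Q' hQ'a (Nat.card_congr (Q.equivMapOfInjective _
    (MulAut.conj g₀⁻¹).injective).toEquiv).symm
  obtain ⟨k, hk⟩ := MulAction.exists_smul_eq (MulAction.stabilizer G a) S₁ S₂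
  refine ⟨g₀ * k, ?_, by rw [mul_smul, MulAction.mem_stabilizer_iff.1 k.2, hg₀]⟩
  have hmap : Q' = Q.map (MulAut.conj (k : G)).toMonoidHom := by
    have h := congrArg (fun R => Subgroup.map (MulAction.stabilizer G a).subtype R)
      (congrArg Sylow.toSubgroup hk)
    simp only [Sylow.coe_subgroup_smul, hS₁, hS₂] at h
    rw [Subgroup.map_subgroupOf_eq_of_le hQ'a] at h
    rw [← h]
    conv_rhs => rw [← Subgroup.map_subgroupOf_eq_of_le hQa]
    rw [Subgroup.map_map]
    ext z
    simp only [Subgroup.mem_map, Subgroup.mem_smul_pointwise_iff_exists]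
    constructor
    · rintro ⟨_, ⟨y, hy, rfl⟩, rfl⟩
      exact ⟨y, hy, rfl⟩
    · rintro ⟨y, hy, rfl⟩
      exact ⟨_, ⟨y, hy, rfl⟩, rfl⟩
  have hfwd : ∀ q ∈ Q, g₀ * k * q * (g₀ * k)⁻¹ ∈ Q := by
    intro q hq
    have : (k : G) * q * (k : G)⁻¹ ∈ Q' := hmap ▸ ⟨q, hq, rfl⟩
    obtain ⟨q', hq', e⟩ := this
    have e' : g₀ * k * q * (g₀ * k)⁻¹ = q' := by
      rw [MulEquiv.coe_toMonoidHom, MulAut.conj_apply, inv_inv] at e
      calc g₀ * k * q * (g₀ * k)⁻¹ = g₀ * ((k : G) * q * (k : G)⁻¹) * g₀⁻¹ := by group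
        _ = q' := by rw [← e]; group
    rw [e']; exact hq'
  exact Subgroup.mem_normalizer_iff.2 fun q => ⟨hfwd q, fun hq => by
    have hle : Q.map (MulAut.conj (g₀ * k)).toMonoidHom = Q := by
      refine Subgroup.eq_of_le_of_card_ge (by rintro _ ⟨y, hy, rfl⟩; exact hfwd y hy) (le_of_eq ?_)
      exact Nat.card_congr (Q.equivMapOfInjective _ (MulAut.conj (g₀ * k)).injective).toEquiv
    rw [← hle] at hq
    obtain ⟨y, hy, e⟩ := hq
    have : y = q := (MulAut.conj (g₀ * k)).injective e
    exact this ▸ hy⟩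

end Cfsg.Agent.S4219
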