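import Cfsg.Statements.S4220
import Mathlib
import Cfsg.Agent.S0711
import Cfsg.Agent.S4219
import Cfsg.Agent.Lib.SmallGroups.JordanCycle
import Cfsg.Agent.Lib.PGroup.OrbitsPrime


set_option autoImplicit false
open Cfsg

namespace Cfsg.Agent.S4220

open Equiv MulAction
open CfsgLib.PGroup.OrbitsPrime

section Sym

variable {r : ℕ}

theorem exists_swap_not_comm (hr : 3 ≤ r) {σ : Perm (Fin r)} (hσ : σ ≠ 1) :
    ∃ a c : Fin r, σ * swap a c * σ⁻¹ * swap a c ≠ 1 := by
  obtain ⟨a, ha⟩ : ∃ a, σ a ≠ a := by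
    by_contra hc; push Not at hc; exact hσ (Perm.ext hc)
  obtain ⟨c, -, hc⟩ := Finset.exists_mem_notMem_of_card_lt_card
    (s := ({a, σ a} : Finset (Fin r))) (t := Finset.univ)
    (lt_of_le_of_lt Finset.card_le_two (by simp; omega))
  simp only [Finset.mem_insert, Finset.mem_singleton, not_or] at hc
  refine ⟨a, c, fun e => ?_⟩
  rw [mul_eq_one_iff_eq_inv, swap_inv, mul_inv_eq_iff_eq_mul] at e
  have h1 := DFunLike.congr_fun e a
  rw [Perm.mul_apply, Perm.mul_apply, swap_apply_left,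
    swap_apply_of_ne_of_ne ha (Ne.symm hc.2)] at h1
  exact hc.1 (σ.injective h1)

theorem support_comm_swap (σ : Perm (Fin r)) (a c : Fin r) :
    (σ * swap a c * σ⁻¹ * swap a c).support.card ≤ 4 := by
  have h2 : ∀ x y : Fin r, (swap x y).support.card ≤ 2 := by
    intro x y
    by_cases hxy : x = y
    · simp [hxy, swap_self, show (Equiv.refl (Fin r)) = 1 from rfl]
    · rw [Perm.support_swap hxy, Finset.card_pair hxy]
  refine (Finset.card_le_card (Perm.support_mul_le _ _)).trans ?_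
  refine (Finset.card_union_le _ _).trans ?_
  rw [Perm.card_support_conj]
  have := h2 a c
  omega

theorem normal_comm_le_four (hr : 3 ≤ r) {I : Subgroup (Perm (Fin r))} (hn : I.Normal)
    (hne : I ≠ ⊥) (hcomm : ∀ σ ∈ I, ∀ τ ∈ I, σ * τ = τ * σ) : r ≤ 4 := by
  by_contra h5
  obtain ⟨σ, hσ, hσ1⟩ := (Subgroup.ne_bot_iff_exists_ne_one.mp hne |> fun ⟨⟨s, hs⟩, h⟩ =>
    (⟨s, hs, fun e => h (Subtype.ext e)⟩ : ∃ s ∈ I, s ≠ 1))
  obtain ⟨a, c, hρ1⟩ := exists_swap_not_comm hr hσ1
  set ρ := σ * swap a c * σ⁻¹ * swap a c with hρ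
  have hρI : ρ ∈ I := by
    have h1 := mul_mem hσ (hn.conj_mem σ⁻¹ (inv_mem hσ) (swap a c))
    rw [swap_inv] at h1
    rw [hρ]
    simpa [mul_assoc] using h1
  have h4 : ρ.support.card ≤ 4 := support_comm_swap σ a c
  obtain ⟨u, hu⟩ : ρ.support.Nonempty :=
    Finset.nonempty_iff_ne_empty.mpr (mt Perm.support_eq_empty_iff.mp hρ1)
  obtain ⟨e, -, he⟩ := Finset.exists_mem_notMem_of_card_lt_card (s := ρ.support)
    (t := Finset.univ) (by rw [Finset.card_univ, Fintype.card_fin]; omega)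
  have hu' := Perm.mem_support.mp hu
  have he' := Perm.notMem_support.mp he
  have hue : ρ u ≠ e := fun h => hu' (ρ.injective (h.trans he'.symm) |>.symm ▸ he')
  have h2 := hcomm ρ hρI (swap u e * ρ * (swap u e)⁻¹) (hn.conj_mem ρ hρI _)
  have h3 := DFunLike.congr_fun h2 e
  rw [swap_inv] at h3
  simp only [Perm.mul_apply, swap_apply_right, he'] at h3
  rw [swap_apply_of_ne_of_ne hu' hue] at h3
  exact hu' (ρ.injective h3)

theorem normal_exponent (hr : 3 ≤ r) {J : Subgroup (Perm (Fin r))} (hn : J.Normal) (hne : J ≠ ⊥)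
    {p : ℕ} (hp : p.Prime) (h5 : 5 ≤ p) : ∃ σ ∈ J, σ ^ p ≠ 1 := by
  by_contra hc
  push Not at hc
  obtain ⟨⟨σ, hσ⟩, hσ1'⟩ := Subgroup.ne_bot_iff_exists_ne_one.mp hne
  have hσ1 : σ ≠ 1 := fun e => hσ1' (Subtype.ext e)
  obtain ⟨a, c, hρ1⟩ := exists_swap_not_comm hr hσ1
  set ρ := σ * swap a c * σ⁻¹ * swap a c with hρ
  have hρJ : ρ ∈ J := by
    have h1 := mul_mem hσ (hn.conj_mem σ⁻¹ (inv_mem hσ) (swap a c))
    rw [swap_inv] at h1
    rw [hρ]
    simpa [mul_assoc] using h1
  have := Fact.mk hp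
  have ho : orderOf ρ = p := orderOf_eq_prime (hc ρ hρJ) hρ1
  obtain ⟨m, hm⟩ := Perm.cycleType_prime_order (σ := ρ) (by rw [ho]; exact hp)
  have h1 := Perm.sum_cycleType ρ
  rw [hm, Multiset.sum_replicate, ho, smul_eq_mul] at h1
  have h4 := support_comm_swap σ a c
  rw [← hρ, ← h1] at h4
  nlinarith

end Sym

variable {α : Type*} [Fintype α] [DecidableEq α]

/-- images in `Perm (Fin r)` of the elements of `M` preserving the points `x 0, …, x (r-1)` -/
def img {r : ℕ} (x : Fin r ↪ α) (M : Subgroup (Perm α)) : Subgroup (Perm (Fin r)) where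
  carrier := {σ | ∃ g ∈ M, ∀ i, g (x i) = x (σ i)}
  one_mem' := ⟨1, one_mem _, fun _ => rfl⟩
  mul_mem' := by
    rintro σ τ ⟨g, hg, h1⟩ ⟨h, hh, h2⟩
    exact ⟨g * h, mul_mem hg hh, fun i => by rw [Perm.mul_apply, h2, h1]; rfl⟩
  inv_mem' := by
    rintro σ ⟨g, hg, h1⟩
    refine ⟨g⁻¹, inv_mem hg, fun i => ?_⟩
    rw [Perm.inv_eq_iff_eq, h1]
    simp

theorem img_normal {r : ℕ} (x : Fin r ↪ α) (M N : Subgroup (Perm α))
    (hsurj : ∀ σ : Perm (Fin r), ∃ g ∈ N, ∀ i, g (x i) = x (σ i))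
    (hMN : ∀ g ∈ N, ∀ m ∈ M, g * m * g⁻¹ ∈ M) : (img x M).Normal := by
  refine ⟨fun σ hσ τ => ?_⟩
  obtain ⟨m, hm, h1⟩ := hσ
  obtain ⟨g, hg, h2⟩ := hsurj τ
  refine ⟨g * m * g⁻¹, hMN g hg m hm, fun i => ?_⟩
  have h3 : g⁻¹ (x i) = x (τ⁻¹ i) := by
    rw [Perm.inv_eq_iff_eq, h2]; simp
  rw [Perm.mul_apply, Perm.mul_apply, h3, h1, h2]
  rfl

/-- elements of `N` fixing each orbit of `Q` in `T` -/
def orbKer (Q N : Subgroup (Perm α)) (T : Finset α) (hT : ∀ g ∈ N, ∀ x, x ∈ T ↔ g x ∈ T) :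
    Subgroup (Perm α) where
  carrier := {g | g ∈ N ∧ ∀ x ∈ T, g x ∈ orbit Q x}
  one_mem' := ⟨one_mem _, fun _ _ => mem_orbit_self _⟩
  mul_mem' := by
    rintro g h ⟨hg, h1⟩ ⟨hh, h2⟩
    refine ⟨mul_mem hg hh, fun x hx => ?_⟩
    have h3 := h1 (h x) ((hT h hh x).mp hx)
    rw [orbit_eq_iff.mpr (h2 x hx)] at h3
    exact h3
  inv_mem' := by
    rintro g ⟨hg, h1⟩
    refine ⟨inv_mem hg, fun x hx => ?_⟩
    have h2 := h1 (g⁻¹ x) ((hT _ (inv_mem hg) x).mp hx)
    rw [Perm.coe_inv, Equiv.apply_symm_apply] at h2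
    exact mem_orbit_symm.mp h2

section Exponent

variable {Q : Subgroup (Perm α)} {T : Finset α} {p : ℕ}

/-- on each orbit, an element normalising `Q` and fixing the orbit raises `Q` to a power -/
theorem exists_exponent (h : IsShort Q T p) {g : Perm α}
    (hg : g ∈ Subgroup.normalizer (Q : Set (Perm α))) {x : α} (hx : x ∈ T)
    (hgx : g x ∈ orbit Q x) :
    ∃ a : ℕ, ∀ q ∈ Q, ∀ y ∈ orbit Q x, (g * q * g⁻¹) y = (q ^ a) y := by
  have hn := Subgroup.mem_normalizer_iff.mp hg
  obtain ⟨q0, hq0, hq0x⟩ := h.move x hx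
  obtain ⟨a, ha⟩ := h.fill hq0 hq0x (CfsgLib.PGroup.OrbitsPrime.mem_orbit_iff.mpr ⟨_, (hn q0).mp hq0, rfl⟩)
  refine ⟨a, fun q hq y hy => ?_⟩
  refine h.det hy ((hn q).mp hq) (pow_mem hq a) ?_
  obtain ⟨i, hi⟩ := h.fill hq0 hq0x (CfsgLib.PGroup.OrbitsPrime.mem_orbit_iff.mpr ⟨q, hq, rfl⟩)
  have hg' : g⁻¹ x ∈ orbit Q x := by
    have h1 := IsShort.image_orbit hg x
    rw [orbit_eq_iff.mpr hgx] at h1
    have h2 : x ∈ g '' orbit Q x := by rw [h1]; exact mem_orbit_self x
    obtain ⟨z, hz, hzx⟩ := h2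
    rwa [show g⁻¹ x = z by rw [Perm.inv_eq_iff_eq]; exact hzx.symm]
  calc (g * q * g⁻¹) x = g (q (g⁻¹ x)) := rfl
    _ = g ((q0 ^ i) (g⁻¹ x)) := by rw [h.det hg' hq (pow_mem hq0 i) hi]
    _ = ((g * q0 * g⁻¹) ^ i) x := by rw [conj_pow]; rfl
    _ = ((q0 ^ a) ^ i) x := h.agree_pow ((hn q0).mp hq0) (pow_mem hq0 a) ha i
    _ = ((q0 ^ i) ^ a) x := by rw [← pow_mul, ← pow_mul, mul_comm]
    _ = (q ^ a) x := h.agree_pow (pow_mem hq0 i) hq hi.symm a

theorem commutator_centralizes (h : IsShort Q T p) {g g' : Perm α}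
    (hg : g ∈ Subgroup.normalizer (Q : Set (Perm α)))
    (hg' : g' ∈ Subgroup.normalizer (Q : Set (Perm α)))
    (h1 : ∀ x ∈ T, g x ∈ orbit Q x) (h2 : ∀ x ∈ T, g' x ∈ orbit Q x)
    {q : Perm α} (hq : q ∈ Q) :
    g * (g' * q * g'⁻¹) * g⁻¹ = g' * (g * q * g⁻¹) * g'⁻¹ := by
  have hn := Subgroup.mem_normalizer_iff.mp hg
  have hn' := Subgroup.mem_normalizer_iff.mp hg'
  ext x
  by_cases hx : x ∈ T
  · obtain ⟨a, ha⟩ := exists_exponent h hg hx (h1 x hx)
    obtain ⟨b, hb⟩ := exists_exponent h hg' hx (h2 x hx)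
    rw [ha _ ((hn' q).mp hq) x (mem_orbit_self x), hb _ ((hn q).mp hq) x (mem_orbit_self x),
      h.agree_pow ((hn' q).mp hq) (pow_mem hq b) (hb q hq x (mem_orbit_self x)) a,
      h.agree_pow ((hn q).mp hq) (pow_mem hq a) (ha q hq x (mem_orbit_self x)) b,
      ← pow_mul, ← pow_mul, mul_comm]
  · rw [h.fix _ ((hn _).mp ((hn' q).mp hq)) x hx, h.fix _ ((hn' _).mp ((hn q).mp hq)) x hx]

/-- with at most three orbits and no element moving a single orbit, the exponent is constant -/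
theorem exists_scalar (h : IsShort Q T p) {k : ℕ} (hT : T.card = k * p) (hk : k ≤ 3)
    (hns : k = 1 ∨ ∀ u ∈ Q, ∀ x, u x ≠ x → ∃ y, y ∉ orbit Q x ∧ u y ≠ y)
    {g : Perm α} (hg : g ∈ Subgroup.normalizer (Q : Set (Perm α)))
    (hgo : ∀ x ∈ T, g x ∈ orbit Q x) :
    ∃ a : ℕ, ∀ q ∈ Q, g * q * g⁻¹ = q ^ a := by
  classical
  have hn := Subgroup.mem_normalizer_iff.mp hg
  choose! e he using fun x (hx : x ∈ T) => exists_exponent h hg hx (hgo x hx)
  have hsame : ∀ x ∈ T, ∀ y ∈ orbit Q x, e x ≡ e y [MOD p] := by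
    intro x hx y hy
    have hyT := h.mem_of_mem_orbit hx hy
    obtain ⟨q, hq, hqy⟩ := h.move y hyT
    rw [← h.pow_eq_iff hq hqy, ← he x hx q hq y hy, ← he y hyT q hq y (mem_orbit_self y)]
  have horb : ∀ x ∈ T, ∀ y ∈ T, ∀ z ∈ T, ∀ w ∈ T, y ∉ orbit Q x → z ∉ orbit Q x →
      z ∉ orbit Q y → w ∉ orbit Q x → w ∉ orbit Q y → w ∈ orbit Q z := by
    intro x hx y hy z hz w hw h1 h2 h3 h4 h5
    by_contra h6
    have hc := h.card_orbits
    rw [hT] at hc
    have hc' : (T.image fun x => orbit Q x).card = k := Nat.eq_of_mul_eq_mul_right h.prime.pos hc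
    have hsub : ({orbit Q x, orbit Q y, orbit Q z, orbit Q w} : Finset (Set α)) ⊆
        T.image fun x => orbit Q x := by
      simp only [Finset.insert_subset_iff, Finset.singleton_subset_iff]
      exact ⟨Finset.mem_image_of_mem _ hx, Finset.mem_image_of_mem _ hy,
        Finset.mem_image_of_mem _ hz, Finset.mem_image_of_mem _ hw⟩
    have hd : ∀ {a b : α}, b ∉ orbit Q a → orbit Q a ≠ orbit Q b := fun hab e =>
      hab (orbit_eq_iff.mp e.symm)
    have := Finset.card_le_card hsub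
    rw [hc', Finset.card_insert_of_notMem (by simp [hd h1, hd h2, hd h4]),
      Finset.card_insert_of_notMem (by simp [hd h3, hd h5]),
      Finset.card_insert_of_notMem (by simp [hd h6]), Finset.card_singleton] at this
    omega
  have hk1 : k = 1 → ∀ x ∈ T, ∀ y ∈ T, y ∈ orbit Q x := by
    intro hk1 x hx y hy
    have hc := h.card_orbits
    rw [hT] at hc
    have hc' := Nat.eq_of_mul_eq_mul_right h.prime.pos hc
    rw [hk1] at hc'
    exact orbit_eq_iff.mp (Finset.card_le_one.mp hc'.le _ (Finset.mem_image_of_mem _ hy) _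
      (Finset.mem_image_of_mem _ hx))
  have key : ∀ x ∈ T, ∀ y ∈ T, ¬ e x ≡ e y [MOD p] →
      ∃ z ∈ T, z ∉ orbit Q x ∧ z ∉ orbit Q y ∧ e x ≡ e z [MOD p] := by
    intro x hx y hy hne
    have hyx : y ∉ orbit Q x := fun hh => hne (hsame x hx y hh)
    rcases hns with hns | hns
    · exact absurd (hk1 hns x hx y hy) hyx
    obtain ⟨q, hq, hqx⟩ := h.move x hx
    have hgq := (hn q).mp hq
    set u := (q ^ e y)⁻¹ * (g * q * g⁻¹) with hu
    have huQ : u ∈ Q := mul_mem (inv_mem (pow_mem hq _)) hgq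
    have huy : u y = y := by
      rw [hu, Perm.mul_apply, he y hy q hq y (mem_orbit_self y)]; simp
    have huy' : ∀ v ∈ orbit Q y, u v = v := fun v hv => h.det hv huQ (one_mem _) huy
    have hux : u x ≠ x := by
      intro hh
      rw [hu, Perm.mul_apply, Perm.inv_eq_iff_eq, he x hx q hq x (mem_orbit_self x),
        h.pow_eq_iff hq hqx] at hh
      exact hne hh
    obtain ⟨z, hzx, huz⟩ := hns u huQ x hux
    have hz : z ∈ T := by by_contra hc; exact huz (h.fix u huQ z hc)
    have hzy : z ∉ orbit Q y := fun hh => huz (huy' z hh)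
    refine ⟨z, hz, hzx, hzy, ?_⟩
    by_contra hne2
    set u' := (u ^ e z)⁻¹ * (g * u * g⁻¹) with hu'
    have hu'Q : u' ∈ Q := mul_mem (inv_mem (pow_mem huQ _)) ((hn u).mp huQ)
    have hu'x : u' x ≠ x := by
      intro hh
      rw [hu', Perm.mul_apply, Perm.inv_eq_iff_eq, he x hx u huQ x (mem_orbit_self x),
        h.pow_eq_iff huQ hux] at hh
      exact hne2 hh
    have hu'z : u' z = z := by
      rw [hu', Perm.mul_apply, he z hz u huQ z (mem_orbit_self z)]; simp
    have hu'y : u' y = y := by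
      rw [hu', Perm.mul_apply, he y hy u huQ y (mem_orbit_self y),
        h.agree_pow huQ (one_mem Q) (x := y) huy, one_pow, Perm.inv_eq_iff_eq,
        h.agree_pow huQ (one_mem Q) (x := y) huy, one_pow]
    obtain ⟨w, hwx, huw⟩ := hns u' hu'Q x hu'x
    have hw : w ∈ T := by by_contra hc; exact huw (h.fix u' hu'Q w hc)
    by_cases hwy : w ∈ orbit Q y
    · exact huw (h.det hwy hu'Q (one_mem _) hu'y)
    · exact huw (h.det (horb x hx y hy z hz w hw hyx hzx hzy hwx hwy) hu'Q (one_mem _) hu'z)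
  have hall : ∀ x ∈ T, ∀ y ∈ T, e x ≡ e y [MOD p] := by
    intro x hx y hy
    by_contra hne
    obtain ⟨z, hz, hzx, hzy, h1⟩ := key x hx y hy hne
    obtain ⟨w, hw, hwy, hwx, h2⟩ := key y hy x hx (fun hh => hne hh.symm)
    have hyx : y ∉ orbit Q x := fun hh => hne (hsame x hx y hh)
    have hwz := horb x hx y hy z hz w hw hyx hzx hzy hwx hwy
    exact hne (h1.trans ((hsame z hz w hwz).trans h2.symm))
  rcases T.eq_empty_or_nonempty with hTe | ⟨x, hx⟩
  · exact ⟨0, fun q hq => by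
      ext y
      rw [h.fix _ ((hn q).mp hq) y (by simp [hTe]), h.fix _ (pow_mem hq 0) y (by simp [hTe])]⟩
  refine ⟨e x, fun q hq => ?_⟩
  ext y
  by_cases hy : y ∈ T
  · rw [he y hy q hq y (mem_orbit_self y)]
    by_cases hqy : q y = y
    · rw [h.agree_pow hq (one_mem Q) (x := y) hqy, h.agree_pow hq (one_mem Q) (x := y) hqy,
        one_pow, one_pow]
    · exact (h.pow_eq_iff hq hqy _ _).mpr (hall y hy x hx)
  · rw [h.fix _ ((hn q).mp hq) y hy, h.fix _ (pow_mem hq _) y hy]

/-- an element fixing the orbits and centralising `Q` has `p`-th power trivial on `T` -/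
theorem centralizer_pow (h : IsShort Q T p) {g : Perm α} (hc : ∀ q ∈ Q, g * q = q * g)
    {x : α} (hgx : g x ∈ orbit Q x) : (g ^ p) x = x := by
  obtain ⟨q, hq, hqx⟩ := CfsgLib.PGroup.OrbitsPrime.mem_orbit_iff.mp hgx
  have h1 : ∀ m : ℕ, (g ^ m) x = (q ^ m) x := by
    intro m
    induction m with
    | zero => rfl
    | succ m ih =>
      rw [pow_succ', Perm.mul_apply, ih, ← Perm.mul_apply g, hc _ (pow_mem hq m), Perm.mul_apply,
        ← hqx, pow_succ, Perm.mul_apply]
  rw [h1]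
  exact h.pow_prime_apply hq

end Exponent

/-- there is no `4`-transitive group of degree `9` in which only `1` fixes four points -/
theorem no_sharp (G : Subgroup (Perm α)) (hn : Fintype.card α = 9)
    (hG : IsMultiplyPretransitive G α 4)
    (hsmall : ∀ g ∈ G, g ≠ 1 → 6 ≤ g.support.card) : False := by
  classical
  have htriv : ∀ g ∈ G, ∀ S : Finset α, 4 ≤ S.card → (∀ z ∈ S, g z = z) → g = 1 := by
    intro g hg S hS h1
    by_contra hg1
    have h2 := hsmall g hg hg1
    have h3 : Disjoint g.support S := Finset.disjoint_right.mpr fun z hz =>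
      Perm.notMem_support.mpr (h1 z hz)
    have h4 := Finset.card_union_of_disjoint h3
    have h5 := Finset.card_le_univ (g.support ∪ S)
    omega
  obtain ⟨a, b, hab⟩ := Fintype.exists_pair_of_one_lt_card (α := α) (by omega)
  set T : Finset α := Finset.univ \ {a, b} with hTdef
  have hT : T.card = 7 := by
    rw [hTdef, Finset.card_sdiff_of_subset (Finset.subset_univ _), Finset.card_pair hab,
      Finset.card_univ]
    omega
  obtain ⟨c, hc, d, hd, hcd⟩ := Finset.one_lt_card.mp (show 1 < T.card by omega)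
  have hmemT : ∀ z, z ∈ T ↔ z ≠ a ∧ z ≠ b := fun z => by simp [hTdef]
  let H : Subgroup (Perm α) :=
    { carrier := {g | g ∈ G ∧ ((g a = a ∧ g b = b) ∨ (g a = b ∧ g b = a))}
      one_mem' := ⟨one_mem _, Or.inl ⟨rfl, rfl⟩⟩
      mul_mem' := by
        rintro g h ⟨hg, h1⟩ ⟨hh, h2⟩
        refine ⟨mul_mem hg hh, ?_⟩
        rcases h1 with ⟨e1, e2⟩ | ⟨e1, e2⟩ <;> rcases h2 with ⟨e3, e4⟩ | ⟨e3, e4⟩ <;>
          simp [e1, e2, e3, e4]
      inv_mem' := by
        rintro g ⟨hg, h1⟩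
        refine ⟨inv_mem hg, ?_⟩
        rcases h1 with ⟨e1, e2⟩ | ⟨e1, e2⟩
        · exact Or.inl ⟨Perm.inv_eq_iff_eq.mpr e1.symm, Perm.inv_eq_iff_eq.mpr e2.symm⟩
        · exact Or.inr ⟨Perm.inv_eq_iff_eq.mpr e2.symm, Perm.inv_eq_iff_eq.mpr e1.symm⟩ }
  have hHT : ∀ g ∈ H, ∀ z, z ∈ T → g z ∈ T := by
    rintro g ⟨-, hg⟩ z hz
    rw [hmemT] at hz ⊢
    rcases hg with ⟨e1, e2⟩ | ⟨e1, e2⟩
    · exact ⟨fun e => hz.1 (g.injective (e.trans e1.symm)),
        fun e => hz.2 (g.injective (e.trans e2.symm))⟩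
    · exact ⟨fun e => hz.2 (g.injective (e.trans e2.symm)),
        fun e => hz.1 (g.injective (e.trans e1.symm))⟩
  let U : Finset (α × α × α) := ({a, b} : Finset α) ×ˢ T.offDiag
  have hU : U.card = 84 := by
    rw [Finset.card_product, Finset.card_pair hab, Finset.offDiag_card, hT]
  have hH84 : Nat.card H = 84 := by
    rw [← hU, ← Fintype.card_coe U, ← Nat.card_eq_fintype_card]
    refine Nat.card_eq_of_bijective
      (fun g => ⟨((g : Perm α) a, (g : Perm α) c, (g : Perm α) d), ?_⟩) ⟨?_, ?_⟩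
    · rw [Finset.mem_product, Finset.mem_offDiag]
      refine ⟨?_, hHT _ g.2 c hc, hHT _ g.2 d hd, fun e => hcd ((g : Perm α).injective e)⟩
      rcases g.2.2 with ⟨e1, -⟩ | ⟨e1, -⟩ <;> simp [e1]
    · intro g g' e
      simp only [Subtype.mk.injEq, Prod.mk.injEq] at e
      obtain ⟨e1, e2, e3⟩ := e
      have e4 : (g : Perm α) b = (g' : Perm α) b := by
        rcases g.2.2 with ⟨u1, u2⟩ | ⟨u1, u2⟩ <;> rcases g'.2.2 with ⟨v1, v2⟩ | ⟨v1, v2⟩ <;>
          simp_all
      apply Subtype.ext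
      rw [← inv_mul_eq_one]
      refine htriv _ (mul_mem (inv_mem g.2.1) g'.2.1) {a, b, c, d} ?_ ?_
      · rw [hmemT] at hc hd
        rw [Finset.card_insert_of_notMem (by simp [hab, hc.1.symm, hd.1.symm]),
          Finset.card_insert_of_notMem (by simp [hc.2.symm, hd.2.symm]), Finset.card_pair hcd]
      · intro z hz
        simp only [Finset.mem_insert, Finset.mem_singleton] at hz
        rw [Perm.mul_apply, Perm.inv_eq_iff_eq]
        rcases hz with rfl | rfl | rfl | rfl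
        exacts [e1.symm, e4.symm, e2.symm, e3.symm]
    · rintro ⟨⟨u, v, w⟩, huvw⟩
      rw [Finset.mem_product, Finset.mem_offDiag] at huvw
      obtain ⟨hu, hv, hw, hvw⟩ := huvw
      rw [hmemT] at hc hd hv hw
      have hf : ∃ u', u ≠ u' ∧ u' ≠ v ∧ u' ≠ w ∧ v ≠ u ∧ w ≠ u ∧
          ((u = a ∧ u' = b) ∨ (u = b ∧ u' = a)) := by
        simp only [Finset.mem_insert, Finset.mem_singleton] at hu
        rcases hu with rfl | rfl
        · exact ⟨b, hab, hv.2.symm, hw.2.symm, hv.1, hw.1, Or.inl ⟨rfl, rfl⟩⟩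
        · exact ⟨a, hab.symm, hv.1.symm, hw.1.symm, hv.2, hw.2, Or.inr ⟨rfl, rfl⟩⟩
      obtain ⟨u', n1, n2, n3, n4, n5, hu'⟩ := hf
      let f : α → α := fun z => if z = a then u else if z = b then u' else if z = c then v else w
      obtain ⟨g, hg, hgf⟩ := S0711.exists_map (k := 4) (by omega) hG {a, b, c, d}
        Finset.card_le_four f (by
          intro y hy z hz
          simp only [Finset.coe_insert, Finset.coe_singleton, Set.mem_insert_iff,
            Set.mem_singleton_iff] at hy hz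
          rcases hy with rfl | rfl | rfl | rfl <;> rcases hz with rfl | rfl | rfl | rfl <;>
            simp [f, hab, hab.symm, hc.1, hc.2, hd.1, hd.2, hcd, hcd.symm, n1, n1.symm, n2,
              n2.symm, n3, n3.symm, n4, n4.symm, n5, n5.symm, hvw, hvw.symm])
      have g1 : g a = u := by simpa [f] using hgf a (by simp)
      have g2 : g b = u' := by simpa [f, hab.symm] using hgf b (by simp)
      have g3 : g c = v := by simpa [f, hc.1, hc.2] using hgf c (by simp)
      have g4 : g d = w := by simpa [f, hd.1, hd.2, hcd.symm] using hgf d (by simp)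
      refine ⟨⟨g, hg, ?_⟩, ?_⟩
      · rw [g1, g2]; exact hu'
      · simp [g1, g3, g4]
  have := Fact.mk (show Nat.Prime 7 by norm_num)
  obtain ⟨P⟩ : Nonempty (Sylow 7 H) := inferInstance
  have hP7 : Nat.card (P : Subgroup H) = 7 := by
    rw [P.card_eq_multiplicity, hH84]
    have : Nat.factorization 84 7 = 1 := by
      rw [show (84 : ℕ) = 7 ^ 1 * 12 by norm_num,
        Nat.factorization_mul (by norm_num) (by norm_num), Nat.factorization_pow]
      simp [Nat.factorization_eq_zero_of_not_dvd, (show Nat.Prime 7 by norm_num).factorization_self]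
    rw [this]; norm_num
  have hidx : (P : Subgroup H).index = 12 := by
    have := (P : Subgroup H).card_mul_index
    rw [hP7, hH84] at this
    omega
  have hone : Nat.card (Sylow 7 H) = 1 := by
    have h1 := P.card_dvd_index
    rw [hidx] at h1
    have h2 := card_sylow_modEq_one 7 H
    have h3 := Nat.le_of_dvd (by norm_num) h1
    unfold Nat.ModEq at h2
    interval_cases h : Nat.card (Sylow 7 H) <;> omega
  have hPn : (P : Subgroup H).Normal := by
    have := (Nat.card_eq_one_iff_unique.mp hone).1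
    exact P.normal_of_subsingleton
  obtain ⟨⟨x, hxH⟩, hxP, hx1'⟩ : ∃ x : H, x ∈ (P : Subgroup H) ∧ x ≠ 1 := by
    have : Nontrivial (P : Subgroup H) := by
      rw [← Finite.one_lt_card_iff_nontrivial, hP7]; norm_num
    obtain ⟨⟨x, hx⟩, h1⟩ := exists_ne (1 : (P : Subgroup H))
    exact ⟨x, hx, fun e => h1 (Subtype.ext e)⟩
  have hx1 : x ≠ 1 := fun e => hx1' (Subtype.ext e)
  have hx7 : x ^ 7 = 1 := by
    have h1 := pow_card_eq_one' (x := (⟨⟨x, hxH⟩, hxP⟩ : (P : Subgroup H)))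
    rw [hP7] at h1
    exact congrArg (fun z : (P : Subgroup H) => ((z : H) : Perm α)) h1
  have hord : orderOf x = 7 := orderOf_eq_prime hx7 hx1
  have hxab : x a = a ∧ x b = b := by
    rcases hxH.2 with h | ⟨e1, e2⟩
    · exact h
    · exfalso
      have h1 : (x ^ 7) a = b := by simp [pow_succ, e1, e2]
      rw [hx7] at h1
      exact hab h1
  have hsup : x.support = T := by
    have hsub : x.support ⊆ T := fun z hz => by
      rw [hmemT]
      rw [Perm.mem_support] at hz
      exact ⟨fun e => hz (e ▸ hxab.1), fun e => hz (e ▸ hxab.2)⟩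
    refine Finset.eq_of_subset_of_card_le hsub ?_
    obtain ⟨m, hm⟩ := Perm.cycleType_prime_order (σ := x) (by rw [hord]; norm_num)
    rw [hT, ← Perm.sum_cycleType, hm, Multiset.sum_replicate, hord, smul_eq_mul]
    omega
  have hcyc : x.IsCycle := Perm.isCycle_of_prime_order (by rw [hord]; norm_num)
    (by rw [hsup, hT, hord]; norm_num)
  let V : Finset (Perm α) := (Finset.univ.image fun i : Fin 6 => x ^ ((i : ℕ) + 1))
  have hpow : ∀ y : H, y ∈ (P : Subgroup H) → y ≠ 1 → (y : Perm α) ∈ V := by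
    intro y hy hy1
    have hz : (P : Subgroup H) = Subgroup.zpowers ⟨x, hxH⟩ := by
      symm
      refine Subgroup.eq_of_le_of_card_ge (Subgroup.zpowers_le.mpr hxP) ?_
      rw [hP7, Nat.card_zpowers, Subgroup.orderOf_mk, hord]
    rw [hz, ← mem_powers_iff_mem_zpowers] at hy
    obtain ⟨m, rfl⟩ := hy
    have hm : x ^ m = x ^ (m % 7) := by rw [← hord, pow_mod_orderOf]
    have hm0 : m % 7 ≠ 0 := by
      intro h0
      exact hy1 (Subtype.ext (by show x ^ m = 1; rw [hm, h0, pow_zero]))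
    rw [Finset.mem_image]
    refine ⟨⟨m % 7 - 1, by omega⟩, Finset.mem_univ _, ?_⟩
    show x ^ (m % 7 - 1 + 1) = x ^ m
    rw [hm]; congr 1; omega
  have hle : Nat.card H ≤ Nat.card ((T ×ˢ V : Finset (α × Perm α)) : Type _) := by
    refine Nat.card_le_card_of_injective
      (fun g => ⟨((g : Perm α) c, (g : Perm α) * x * (g : Perm α)⁻¹), ?_⟩) ?_
    · rw [Finset.mem_product]
      refine ⟨hHT _ g.2 c hc, hpow (g * ⟨x, hxH⟩ * g⁻¹) (hPn.conj_mem _ hxP g) ?_⟩
      exact fun e => hx1' (conj_eq_one_iff.mp e)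
    · intro g g' e
      simp only [Subtype.mk.injEq, Prod.mk.injEq] at e
      obtain ⟨e1, e2⟩ := e
      apply Subtype.ext
      rw [← inv_mul_eq_one]
      set h := (g : Perm α)⁻¹ * g' with hh
      have hcomm : h * x = x * h := by
        rw [hh, mul_assoc, inv_mul_eq_iff_eq_mul]
        calc (g' : Perm α) * x = ((g' : Perm α) * x * (g' : Perm α)⁻¹) * g' := by group
          _ = ((g : Perm α) * x * (g : Perm α)⁻¹) * g' := by rw [e2]
          _ = _ := by group
      have hhc : h c = c := by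
        rw [hh, Perm.mul_apply, Perm.inv_eq_iff_eq]; exact e1.symm
      refine htriv _ (mul_mem (inv_mem g.2.1) g'.2.1) T (by omega) fun z hz => ?_
      have hcx : x c ≠ c := Perm.mem_support.mp (hsup ▸ hc)
      have hzx : x z ≠ z := Perm.mem_support.mp (hsup ▸ hz)
      obtain ⟨i, hi⟩ := hcyc.exists_pow_eq hcx hzx
      rw [← hi, ← Perm.mul_apply, (Commute.pow_right (hcomm : Commute h x) i).eq,
        Perm.mul_apply, hhc]
  rw [hH84, Nat.card_eq_fintype_card, Fintype.card_coe, Finset.card_product, hT] at hle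
  have hV : V.card ≤ 6 := Finset.card_image_le.trans (by simp)
  omega

/-- a group with an element of small support contains the alternating group -/
theorem done_of_small (G : Subgroup (Perm α)) {r : ℕ} (hr : 3 ≤ r) (hn : r + 1 ≤ Fintype.card α)
    (hG : IsMultiplyPretransitive G α (r + 1)) {g : Perm α} (hg : g ∈ G) (hg1 : g ≠ 1)
    (hs : g.support.card < 2 * r) : alternatingGroup α ≤ G :=
  (S0711.result G (k := r + 1) (by omega) hn hG g hg hg1 (by omega)).2

/-- Let `n = kp + r` with `p` prime, `1 ≤ k < p` and `r > k`, excluding the case `k = 1, r = 2`. Then a permutation group of degree `n` that is `(r + 1)`-fold transitive contains the alternating group. -/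
theorem result {α : Type*} [Fintype α] [DecidableEq α] (G : Subgroup (Equiv.Perm α)) {k p r : ℕ} (hp : p.Prime) (hn : Fintype.card α = k * p + r) (hk : 1 ≤ k) (hpk : k < p) (hrk : k < r) (hex : ¬ (k = 1 ∧ r = 2)) (hG : MulAction.IsMultiplyPretransitive G α (r + 1)) : alternatingGroup α ≤ G := by
  classical
  have hp2 := hp.two_le
  have hr : 3 ≤ r := by
    by_contra hc
    exact hex ⟨by omega, by omega⟩
  have hkp1 : p ≤ k * p := Nat.le_mul_of_pos_left p (by omega)
  have hn1 : r + 1 ≤ Fintype.card α := by omega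
  by_contra hgoal
  have hsmall : ∀ g ∈ G, g ≠ 1 → 2 * r ≤ g.support.card := by
    intro g hg hg1
    by_contra hc
    exact hgoal (done_of_small G hr hn1 hG hg hg1 (by omega))
  -- the fixed points `R` and the rest `T`
  obtain ⟨x⟩ : Nonempty (Fin r ↪ α) := Function.Embedding.nonempty_of_card_le (by simp; omega)
  set T : Finset α := (Finset.univ.image x)ᶜ with hTdef
  have hmemT : ∀ z, z ∈ T ↔ ∀ i, x i ≠ z := fun z => by simp [hTdef]
  have hTc : T.card = k * p := by
    rw [hTdef, Finset.card_compl, Finset.card_image_of_injective _ x.injective,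
      Finset.card_univ, Fintype.card_fin]
    omega
  have hsmallT : T.card < p ^ 2 := by
    rw [hTc, sq]; exact Nat.mul_lt_mul_of_pos_right hpk hp.pos
  -- Sylow subgroup of the pointwise stabiliser
  have := Fact.mk hp
  obtain ⟨P⟩ : Nonempty (Sylow p (stabilizer G x)) := inferInstance
  set P1 : Subgroup G := (P : Subgroup (stabilizer G x)).map (stabilizer G x).subtype with hP1
  set Q : Subgroup (Perm α) := P1.map G.subtype with hQ
  have hQG : Q ≤ G := Subgroup.map_subtype_le P1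
  have hQfix : ∀ q ∈ Q, ∀ i, q (x i) = x i := by
    rintro _ ⟨q, ⟨q', -, rfl⟩, rfl⟩ i
    exact DFunLike.congr_fun (mem_stabilizer_iff.mp q'.2) i
  have hext : ∀ z ∈ T, ∀ w ∈ T, ∃ g : stabilizer G x, ((g : G) : Perm α) z = w := by
    intro z hz w hw
    rw [hmemT] at hz hw
    let e1 : Fin (r + 1) ↪ α := ⟨Fin.cons z x, Fin.cons_injective_iff.mpr
      ⟨fun ⟨i, hi⟩ => hz i hi, x.injective⟩⟩
    let e2 : Fin (r + 1) ↪ α := ⟨Fin.cons w x, Fin.cons_injective_iff.mpr
      ⟨fun ⟨i, hi⟩ => hw i hi, x.injective⟩⟩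
    obtain ⟨g, hg⟩ := exists_smul_eq G e1 e2
    have h' : ∀ i, (g : Perm α) (e1 i) = e2 i := fun i => DFunLike.congr_fun hg i
    refine ⟨⟨g, ?_⟩, h' 0⟩
    rw [mem_stabilizer_iff]
    ext i
    exact h' i.succ
  have hQmove : ∀ z ∈ T, ∃ q ∈ Q, q z ≠ z := by
    intro z hz
    by_contra hc
    push Not at hc
    have hle : (P : Subgroup (stabilizer G x)) ≤ stabilizer (stabilizer G x) z := fun q hq =>
      hc _ ⟨_, ⟨q, hq, rfl⟩, rfl⟩
    have horbT : (orbit (stabilizer G x) z) = (T : Set α) := by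
      ext w
      constructor
      · rintro ⟨g, rfl⟩
        rw [Finset.mem_coe, hmemT]
        intro i hi
        have h1 : g • x i = x i := DFunLike.congr_fun (mem_stabilizer_iff.mp g.2) i
        have h2 : g • x i = g • z := h1.trans hi
        exact (hmemT z).mp hz i (smul_left_cancel g h2)
      · intro hw
        obtain ⟨g, hg⟩ := hext z hz w hw
        exact ⟨g, hg⟩
    have h1 : (stabilizer (stabilizer G x) z).index = k * p := by
      rw [index_stabilizer, horbT, Set.ncard_coe_finset, hTc]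
    exact P.not_dvd_index ((dvd_mul_left p k).trans (h1 ▸ Subgroup.index_dvd_of_le hle))
  have hS : IsShort Q T p :=
    { prime := hp
      pgroup := ((P.isPGroup').map _).map _
      fix := fun q hq z hz => by
        rw [hmemT] at hz
        push Not at hz
        obtain ⟨i, rfl⟩ := hz
        exact hQfix q hq i
      move := hQmove
      small := hsmallT }
  -- size restrictions
  obtain ⟨z0, hz0⟩ : T.Nonempty := Finset.card_pos.mp (by omega)
  obtain ⟨q0, hq0, hq0z⟩ := hQmove z0 hz0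
  have hkp : 2 * r ≤ k * p := by
    refine (hsmall q0 (hQG hq0) (fun e => hq0z (by rw [e]; rfl))).trans ?_
    rw [← hTc]
    refine Finset.card_le_card fun z hz => ?_
    by_contra hc
    exact Perm.mem_support.mp hz (hS.fix q0 hq0 z hc)
  by_cases hp5 : p < 5
  · have hp3 : p = 3 ∧ k = 2 ∧ r = 3 := by
      have hne4 : p ≠ 4 := fun e => absurd (e ▸ hp) (by norm_num)
      rcases (show p = 2 ∨ p = 3 by omega) with rfl | rfl <;> omega
    obtain ⟨rfl, rfl, rfl⟩ := hp3
    exact no_sharp G (by omega) hG fun g hg hg1 => hsmall g hg hg1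
  push Not at hp5
  -- the normaliser
  set N : Subgroup (Perm α) := G ⊓ Subgroup.normalizer (Q : Set (Perm α)) with hN
  have hNT : ∀ g ∈ N, ∀ z, z ∈ T ↔ g z ∈ T := by
    intro g hg z
    have key : ∀ g ∈ N, ∀ z ∈ T, g z ∈ T := by
      intro g hg z hz
      by_contra hc
      obtain ⟨q, hq, hqz⟩ := hQmove z hz
      have h1 := hS.fix _ ((Subgroup.mem_normalizer_iff.mp hg.2 q).mp hq) _ hc
      simp only [Perm.mul_apply, Perm.coe_inv, Equiv.symm_apply_apply] at h1
      exact hqz (g.injective h1)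
    refine ⟨key g hg z, fun h => ?_⟩
    simpa using key g⁻¹ (inv_mem hg) _ h
  have hsurj : ∀ σ : Perm (Fin r), ∃ g ∈ N, ∀ i, g (x i) = x (σ i) := by
    intro σ
    have hG' : IsMultiplyPretransitive G α r :=
      isMultiplyPretransitive_of_le (n := r + 1) (by omega) (by simpa using hn1)
    have hfix : ∀ i, x i ∈ fixedPoints P1 α := fun i q => hQfix _ ⟨q, q.2, rfl⟩ i
    obtain ⟨g, hg, hgx⟩ := S4219.result hG' x P x (σ.toEmbedding.trans x) hfix
      (fun i => hfix _)
    refine ⟨g, ⟨g.2, ?_⟩, fun i => DFunLike.congr_fun hgx i⟩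
    refine Subgroup.mem_normalizer_iff.mpr fun q => ?_
    have hg' := Subgroup.mem_normalizer_iff.mp hg
    constructor
    · rintro ⟨q', hq', rfl⟩
      exact ⟨g * q' * g⁻¹, (hg' q').mp hq', rfl⟩
    · rintro ⟨q', hq', e⟩
      exact ⟨g⁻¹ * q' * g, (hg' _).mpr (by rw [show g * (g⁻¹ * q' * g) * g⁻¹ = q' by group]; exact hq'), by
        simp only [Subgroup.coe_subtype] at e
        simp [e, mul_assoc]⟩
  set N0 := orbKer Q N T hNT with hN0
  have hN0conj : ∀ h ∈ N, ∀ g ∈ N0, h * g * h⁻¹ ∈ N0 := by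
    rintro h hh g ⟨hg, hgo⟩
    refine ⟨N.mul_mem (N.mul_mem hh hg) (N.inv_mem hh), fun z hz => ?_⟩
    have h1 := hgo (h⁻¹ z) ((hNT _ (N.inv_mem hh) z).mp hz)
    have h2 := IsShort.image_orbit hh.2 (h⁻¹ z)
    rw [show h (h⁻¹ z) = z by simp] at h2
    rw [← h2]
    exact ⟨_, h1, rfl⟩
  set C0 := N0 ⊓ Subgroup.centralizer (Q : Set (Perm α)) with hC0
  have hC0conj : ∀ h ∈ N, ∀ g ∈ C0, h * g * h⁻¹ ∈ C0 := by
    rintro h hh g ⟨hg, hgc⟩
    refine ⟨hN0conj h hh g hg, Subgroup.mem_centralizer_iff.mpr fun q hq => ?_⟩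
    have hq' : h⁻¹ * q * h ∈ Q := (Subgroup.mem_normalizer_iff.mp hh.2 _).mpr
      (by simpa [mul_assoc] using hq)
    have h1 := Subgroup.mem_centralizer_iff.mp hgc _ hq'
    calc q * (h * g * h⁻¹) = h * ((h⁻¹ * q * h) * g) * h⁻¹ := by group
      _ = h * (g * (h⁻¹ * q * h)) * h⁻¹ := by rw [h1]
      _ = _ := by group
  have hI : (img x N0).Normal := img_normal x N0 N hsurj hN0conj
  have hJ : (img x C0).Normal := img_normal x C0 N hsurj hC0conj
  have hmkC : ∀ u v : Perm α, u ∈ N0 → v ∈ N0 →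
      (∀ q ∈ Q, u * q * u⁻¹ = v * q * v⁻¹) → u⁻¹ * v ∈ C0 := by
    intro u v hu hv huv
    refine ⟨N0.mul_mem (N0.inv_mem hu) hv, Subgroup.mem_centralizer_iff.mpr fun q hq => ?_⟩
    have h1 := huv q hq
    calc q * (u⁻¹ * v) = u⁻¹ * (u * q * u⁻¹) * v := by group
      _ = u⁻¹ * (v * q * v⁻¹) * v := by rw [h1]
      _ = _ := by group
  have hIne : img x N0 ≠ ⊥ := by
    intro hbot
    choose g hg hgx using hsurj
    set O := T.image fun z => orbit Q z with hO
    have hOk : O.card = k := by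
      refine Nat.eq_of_mul_eq_mul_right hp.pos ?_
      rw [hS.card_orbits, hTc]
    have hmap : ∀ σ, ∀ s ∈ O, (g σ) '' s ∈ O := by
      intro σ s hs
      obtain ⟨z, hz, rfl⟩ := Finset.mem_image.mp hs
      rw [IsShort.image_orbit (hg σ).2]
      exact Finset.mem_image_of_mem _ ((hNT _ (hg σ) z).mp hz)
    let Φ : Perm (Fin r) → (O ↪ O) := fun σ =>
      ⟨fun s => ⟨(g σ) '' s, hmap σ s s.2⟩, fun s t e =>
        Subtype.ext ((g σ).injective.image_injective (congrArg Subtype.val e))⟩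
    have hinj : Function.Injective Φ := by
      intro σ τ e
      have hmem : (g τ)⁻¹ * g σ ∈ N0 := by
        refine ⟨mul_mem (inv_mem (hg τ)) (hg σ), fun z hz => ?_⟩
        have h1 := congrArg Subtype.val
          (DFunLike.congr_fun e ⟨orbit Q z, Finset.mem_image_of_mem _ hz⟩)
        change (g σ) '' orbit Q z = (g τ) '' orbit Q z at h1
        have h2 : g σ z ∈ (g τ) '' orbit Q z := h1 ▸ ⟨z, mem_orbit_self z, rfl⟩
        obtain ⟨w, hw, hwz⟩ := h2
        rw [Perm.mul_apply, ← hwz]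
        simpa using hw
      have h3 : τ⁻¹ * σ ∈ img x N0 := ⟨_, hmem, fun i => by
        rw [Perm.mul_apply, hgx, Perm.inv_eq_iff_eq, hgx, Perm.mul_apply]
        simp⟩
      rw [hbot, Subgroup.mem_bot, inv_mul_eq_one] at h3
      exact h3.symm
    have h4 := Fintype.card_le_of_injective Φ hinj
    rw [Fintype.card_perm, Fintype.card_fin, Fintype.card_embedding_eq, Fintype.card_coe, hOk,
      Nat.descFactorial_self] at h4
    have := (Nat.factorial_lt (by omega : 0 < k)).mpr hrk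
    omega
  have hJne : img x C0 ≠ ⊥ := by
    by_cases hcomm : ∀ σ ∈ img x N0, ∀ τ ∈ img x N0, σ * τ = τ * σ
    · have hr4 := normal_comm_le_four hr hI hIne hcomm
      have hns : k = 1 ∨ ∀ u ∈ Q, ∀ z, u z ≠ z → ∃ y, y ∉ orbit Q z ∧ u y ≠ y := by
        rcases eq_or_ne k 1 with h1 | h1
        · exact Or.inl h1
        refine Or.inr fun u hu z huz => ?_
        by_contra hc
        push Not at hc
        have hzT : z ∈ T := by by_contra hh; exact huz (hS.fix u hu z hh)
        have hsupp : ∀ y, u y ≠ y ↔ y ∈ orbit Q z := by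
          refine fun y => ⟨fun hy => by by_contra hh; exact hy (hc y hh), fun hy e => huz ?_⟩
          exact hS.det (mem_orbit_symm.mp hy) hu (one_mem Q) e
        have hcard : u.support.card = p := by
          rw [← hS.orbit_ncard hzT, ← Set.ncard_coe_finset]
          congr 1
          ext y
          rw [Finset.mem_coe, Perm.mem_support, hsupp]
        have hcyc : u.IsCycle := by
          refine ⟨z, huz, fun y hy => ?_⟩
          obtain ⟨a, ha⟩ := hS.fill hu huz ((hsupp y).mp hy)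
          exact ⟨(a : ℤ), by rw [zpow_natCast, ha]⟩
        have h2 : IsMultiplyPretransitive G α 2 :=
          isMultiplyPretransitive_of_le (n := r + 1) (by omega) (by simpa using hn1)
        refine hgoal (CfsgLib.SmallGroups.JordanCycle.alternatingGroup_le
          (isPreprimitive_of_is_two_pretransitive h2) hcyc (hQG hu) (hcard ▸ hp) ?_)
        have : 2 * p ≤ k * p := Nat.mul_le_mul_right p (by omega)
        omega
      obtain ⟨⟨σ, g, hg, hgx⟩, hσ1⟩ := Subgroup.ne_bot_iff_exists_ne_one.mp hIne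
      obtain ⟨a, c, hτ⟩ := exists_swap_not_comm hr (σ := σ)
        (fun e => hσ1 (Subtype.ext e))
      set τ := swap a c with hτdef
      obtain ⟨h, hh, hhx⟩ := hsurj τ
      obtain ⟨m, hm⟩ := exists_scalar hS hTc (by omega) hns hg.1.2 hg.2
      have h1 : g⁻¹ * (h * g * h⁻¹) ∈ C0 := by
        refine hmkC g _ hg (hN0conj h hh g hg) fun q hq => ?_
        have hq' : h⁻¹ * q * h ∈ Q := (Subgroup.mem_normalizer_iff.mp hh.2 _).mpr
          (by simpa [mul_assoc] using hq)
        calc g * q * g⁻¹ = q ^ m := hm q hq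
          _ = h * (h⁻¹ * q * h) ^ m * h⁻¹ := by rw [← conj_pow]; congr 1; group
          _ = h * (g * (h⁻¹ * q * h) * g⁻¹) * h⁻¹ := by rw [hm _ hq']
          _ = _ := by group
      intro hbot
      have h2 : σ⁻¹ * (τ * σ * τ⁻¹) ∈ img x C0 := ⟨_, h1, fun i => by
        have e1 : h⁻¹ (x i) = x (τ⁻¹ i) := by rw [Perm.inv_eq_iff_eq, hhx]; simp
        simp only [Perm.mul_apply]
        rw [e1, hgx, hhx, Perm.inv_eq_iff_eq, hgx]
        simp⟩
      rw [hbot, Subgroup.mem_bot, hτdef, swap_inv] at h2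
      apply hτ
      rw [hτdef]
      calc σ * swap a c * σ⁻¹ * swap a c
          = σ * (σ⁻¹ * (swap a c * σ * swap a c))⁻¹ * σ⁻¹ := by
            simp only [mul_inv_rev, swap_inv, inv_inv]; group
        _ = 1 := by rw [h2]; group
    · push Not at hcomm
      obtain ⟨σ, ⟨g, hg, hgx⟩, τ, ⟨h, hh, hhx⟩, hne⟩ := hcomm
      intro hbot
      have h1 : (g * h)⁻¹ * (h * g) ∈ C0 := by
        refine hmkC _ _ (mul_mem hg hh) (mul_mem hh hg) fun q hq => ?_
        have := commutator_centralizes hS hg.1.2 hh.1.2 hg.2 hh.2 hq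
        calc g * h * q * (g * h)⁻¹ = g * (h * q * h⁻¹) * g⁻¹ := by group
          _ = h * (g * q * g⁻¹) * h⁻¹ := this
          _ = _ := by group
      have h2 : (σ * τ)⁻¹ * (τ * σ) ∈ img x C0 := ⟨_, h1, fun i => by
        simp only [mul_inv_rev, Perm.mul_apply]
        rw [hgx, hhx, Perm.inv_eq_iff_eq, Perm.inv_eq_iff_eq, hhx, hgx]
        simp⟩
      rw [hbot, Subgroup.mem_bot, inv_mul_eq_one] at h2
      exact hne h2
  obtain ⟨σ, ⟨g, hg, hgx⟩, hσ⟩ := normal_exponent hr hJ hJne hp hp5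
  have hgp : ∀ m : ℕ, ∀ i, (g ^ m) (x i) = x ((σ ^ m) i) := by
    intro m
    induction m with
    | zero => exact fun i => rfl
    | succ m ih => intro i; rw [pow_succ, Perm.mul_apply, hgx, ih]; rfl
  have hne : g ^ p ≠ 1 := fun e => hσ (Perm.ext fun i => x.injective (by
    rw [← hgp, e]; rfl))
  have hsup : (g ^ p).support ⊆ Finset.univ.image x := by
    intro z hz
    by_contra hc
    have hzT : z ∈ T := Finset.mem_compl.mpr hc
    exact Perm.mem_support.mp hz (centralizer_pow hS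
      (fun q hq => (Subgroup.mem_centralizer_iff.mp hg.2 q hq).symm) (hg.1.2 z hzT))
  have h1 := hsmall _ (pow_mem hg.1.1.1 p) hne
  have h2 := (Finset.card_le_card hsup).trans Finset.card_image_le
  rw [Finset.card_univ, Fintype.card_fin] at h2
  omega

end Cfsg.Agent.S4220
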