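import Cfsg.Statements.S4222
import Mathlib

set_option autoImplicit false
open Cfsg

namespace Cfsg.Agent.S4222

/-- If a normal subgroup `N` of a finite group is complete (its centre is trivial and every automorphism of `N` is inner), then the group is the internal direct product of `N` and the centralizer of `N`: the centralizer is a complement to `N`. -/
theorem result {T : Type*} [Group T] [Finite T] (N : Subgroup T) [N.Normal] (hz : Subgroup.center ↥N = ⊥) (ha : Function.Surjective (MulAut.conj : ↥N →* MulAut ↥N)) : (Subgroup.centralizer (N : Set T)).IsComplement' N := by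
  have hdis : Subgroup.centralizer (N : Set T) ⊓ N = ⊥ := by
    rw [eq_bot_iff]
    intro x hx
    obtain ⟨hxC, hxN⟩ := Subgroup.mem_inf.1 hx
    have : (⟨x, hxN⟩ : N) ∈ Subgroup.center N :=
      Subgroup.mem_center_iff.2 fun g => Subtype.ext (Subgroup.mem_centralizer_iff.1 hxC g g.2)
    rw [hz, Subgroup.mem_bot] at this
    exact congrArg Subtype.val this
  refine Subgroup.isComplement'_of_disjoint_and_mul_eq_univ (disjoint_iff.2 hdis) ?_
  rw [Set.eq_univ_iff_forall]
  intro t
  obtain ⟨n, hn⟩ := ha (MulAut.conjNormal t)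
  refine ⟨t * (n : T)⁻¹, ?_, n, n.2, inv_mul_cancel_right t n⟩
  rw [SetLike.mem_coe, Subgroup.mem_centralizer_iff]
  intro g hg
  have h : t * ((n : T)⁻¹ * g * n) * t⁻¹ = (n : T) * ((n : T)⁻¹ * g * n) * (n : T)⁻¹ := by
    have hm : (n : T)⁻¹ * g * n ∈ N := N.mul_mem (N.mul_mem (N.inv_mem n.2) hg) n.2
    have := congrArg (fun e : MulAut N => ((e ⟨_, hm⟩ : N) : T)) hn
    simpa using this.symm
  calc g * (t * (n : T)⁻¹) = ((n : T) * ((n : T)⁻¹ * g * n) * (n : T)⁻¹) * (t * (n : T)⁻¹) := by group
    _ = t * ((n : T)⁻¹ * g * n) * t⁻¹ * (t * (n : T)⁻¹) := by rw [h]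
    _ = t * (n : T)⁻¹ * g := by group

end Cfsg.Agent.S4222
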