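import Cfsg.Statements.S4223
import Mathlib

set_option autoImplicit false
open Cfsg

namespace Cfsg.Agent.S4223

/-- Fitting: a normal endomorphism of an indecomposable group is bijective or nilpotent. -/
theorem fitting {A : Type*} [Group A] [Finite A]
    (hind : ∀ H K : Subgroup A, H.Normal → K.Normal → H ⊓ K = ⊥ → H ⊔ K = ⊤ → H = ⊥ ∨ K = ⊥)
    (f : A →* A) (hf : ∀ a x : A, f (a * x * a⁻¹) = a * f x * a⁻¹) :
    Function.Bijective f ∨ ∃ N : ℕ, ∀ x, f^[N] x = 1 := by
  obtain ⟨i, j, hij, he⟩ : ∃ i j : ℕ, i < j ∧ f^[i] = f^[j] := by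
    obtain ⟨i, j, hne, he⟩ := Finite.exists_ne_map_eq_of_infinite fun k : ℕ => (f : A → A)^[k]
    rcases lt_or_gt_of_ne hne with h | h
    · exact ⟨i, j, h, he⟩
    · exact ⟨j, i, h, he.symm⟩
  obtain ⟨d, rfl⟩ : ∃ d, j = i + (d + 1) := ⟨j - i - 1, by omega⟩
  have hper : ∀ t k, i ≤ k → f^[k + t * (d + 1)] = f^[k] := by
    intro t
    induction t with
    | zero => simp
    | succ t ih =>
      intro k hk
      have e1 : f^[k + (d + 1)] = f^[k] := by
        obtain ⟨c, rfl⟩ := Nat.exists_eq_add_of_le hk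
        rw [show i + c + (d + 1) = c + (i + (d + 1)) by omega, Function.iterate_add f c, ← he,
          ← Function.iterate_add, add_comm]
      rw [show k + (t + 1) * (d + 1) = (k + (d + 1)) + t * (d + 1) by ring, ih _ (by omega), e1]
  set N := (i + 1) * (d + 1) with hN
  have hNi : i ≤ N := (Nat.le_mul_of_pos_right i (Nat.succ_pos d)).trans (Nat.mul_le_mul_right _ i.le_succ)
  have hEE : ∀ x, f^[N] (f^[N] x) = f^[N] x := fun x => by
    rw [← Function.iterate_add_apply]
    exact congrFun (hper (i + 1) N hNi) x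
  let E : A →* A :=
    { toFun := f^[N]
      map_one' := iterate_map_one f N
      map_mul' := iterate_map_mul f N }
  have hEn : ∀ a x : A, E (a * x * a⁻¹) = a * E x * a⁻¹ := by
    intro a x
    show f^[N] (a * x * a⁻¹) = a * f^[N] x * a⁻¹
    clear_value N
    clear hEE hNi hN E
    induction N with
    | zero => rfl
    | succ N ih => rw [Function.iterate_succ_apply', ih, hf, Function.iterate_succ_apply']
  have hrn : E.range.Normal := ⟨by rintro _ ⟨x, rfl⟩ a; exact ⟨a * x * a⁻¹, hEn a x⟩⟩
  have h1 : E.ker ⊓ E.range = ⊥ := by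
    rw [Subgroup.eq_bot_iff_forall]
    rintro x ⟨h1, y, rfl⟩
    have h1' : E (E y) = 1 := h1
    rwa [show E (E y) = E y from hEE y] at h1'
  have h2 : E.ker ⊔ E.range = ⊤ := by
    refine eq_top_iff.2 fun x _ => ?_
    rw [show x = (x * (E x)⁻¹) * E x by group]
    refine mul_mem (Subgroup.mem_sup_left ?_) (Subgroup.mem_sup_right ⟨x, rfl⟩)
    rw [MonoidHom.mem_ker, map_mul, map_inv, show E (E x) = E x from hEE x, mul_inv_cancel]
  rcases hind E.ker E.range inferInstance hrn h1 h2 with h | h
  · left
    have hinj : Function.Injective E := (MonoidHom.ker_eq_bot_iff E).1 h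
    have hN1 : N = (N - 1) + 1 := by
      have : 0 < N := Nat.mul_pos (Nat.succ_pos i) (Nat.succ_pos d)
      omega
    have : Function.Injective f := fun x y hxy => hinj (show f^[N] x = f^[N] y by
      rw [hN1, Function.iterate_succ_apply, Function.iterate_succ_apply, hxy])
    exact Finite.injective_iff_bijective.1 this
  · right
    refine ⟨N, fun x => ?_⟩
    have : E x ∈ E.range := ⟨x, rfl⟩
    rwa [h, Subgroup.mem_bot] at this

/-- If a normal endomorphism is nilpotent, the complementary endomorphism is bijective. -/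
theorem bijective_of_mul {A : Type*} [Group A] [Finite A] {f h : A →* A} {N : ℕ}
    (hid : ∀ x, f x * h x = x) (hN : ∀ x, f^[N] x = 1) : Function.Bijective h := by
  refine Finite.injective_iff_bijective.1 ((MonoidHom.ker_eq_bot_iff h).1 ?_)
  rw [Subgroup.eq_bot_iff_forall]
  intro x hx
  have h1 := hid x
  rw [MonoidHom.mem_ker.1 hx, mul_one] at h1
  have : f^[N] x = x := Function.iterate_fixed h1 N
  rw [← this, hN]

theorem exchange {A C : Type*} {n : ℕ} {B : Fin (n + 1) → Type*} [Group A] [Group C] [Finite A]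
    [∀ j, Group (B j)] (hAnt : Nontrivial A)
    (hind : ∀ H K : Subgroup A, H.Normal → K.Normal → H ⊓ K = ⊥ → H ⊔ K = ⊤ → H = ⊥ ∨ K = ⊥)
    (hB : ∀ j, Nontrivial (B j) ∧ ∀ H K : Subgroup (B j), H.Normal → K.Normal → H ⊓ K = ⊥ →
      H ⊔ K = ⊤ → H = ⊥ ∨ K = ⊥)
    (e : A × C ≃* ((j : Fin (n + 1)) → B j)) :
    ∃ j, Nonempty (A ≃* B j) ∧ Nonempty (C ≃* ((k : Fin n) → B (j.succAbove k))) := by
  classical
  let ι : A →* ((j : Fin (n + 1)) → B j) := e.toMonoidHom.comp (MonoidHom.inl A C)
  let pr : Finset (Fin (n + 1)) → ((j : Fin (n + 1)) → B j) →* ((j : Fin (n + 1)) → B j) := fun S =>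
    { toFun := fun w i => if i ∈ S then w i else 1
      map_one' := funext fun i => by simp
      map_mul' := fun w w' => funext fun i => by by_cases h : i ∈ S <;> simp [h] }
  let s : Finset (Fin (n + 1)) → A →* A := fun S =>
    ((MonoidHom.fst A C).comp e.symm.toMonoidHom).comp ((pr S).comp ι)
  have hs : ∀ S a x, s S (a * x * a⁻¹) = a * s S x * a⁻¹ := by
    intro S a x
    have e1 : pr S (ι (a * x * a⁻¹)) = ι a * pr S (ι x) * (ι a)⁻¹ := by
      funext i
      simp only [pr, MonoidHom.coe_mk, OneHom.coe_mk, map_mul, map_inv, Pi.mul_apply, Pi.inv_apply]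
      by_cases h : i ∈ S <;> simp [h]
    show (e.symm (pr S (ι (a * x * a⁻¹)))).1 = a * (e.symm (pr S (ι x))).1 * a⁻¹
    rw [e1, map_mul, map_mul, map_inv]
    simp [ι]
  have huniv : ∀ x, s Finset.univ x = x := by
    intro x
    show (e.symm (pr Finset.univ (ι x))).1 = x
    have : pr Finset.univ (ι x) = ι x := funext fun i => by simp [pr]
    rw [this]
    simp [ι]
  have hempty : ∀ x, s ∅ x = 1 := by
    intro x
    show (e.symm (pr ∅ (ι x))).1 = 1
    have : pr ∅ (ι x) = 1 := funext fun i => by simp [pr]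
    rw [this, map_one, Prod.fst_one]
  -- some single component is bijective
  obtain ⟨j, hj⟩ : ∃ j, Function.Bijective (s {j}) := by
    by_contra hcon
    push Not at hcon
    have key : ∀ S, ¬ Function.Bijective (s S) := by
      intro S
      induction S using Finset.induction_on with
      | empty =>
        intro hb
        obtain ⟨a, ha⟩ := exists_ne (1 : A)
        exact ha (hb.1 ((hempty a).trans (hempty 1).symm))
      | @insert k S hk ih =>
        intro hb
        let φ := (MulEquiv.ofBijective (s (insert k S)) hb).symm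
        have hmul : ∀ x, s S x * s {k} x = s (insert k S) x := by
          intro x
          show (e.symm (pr S (ι x))).1 * (e.symm (pr {k} (ι x))).1 =
            (e.symm (pr (insert k S) (ι x))).1
          rw [← Prod.fst_mul, ← map_mul]
          congr 2
          funext i
          simp only [pr, MonoidHom.coe_mk, OneHom.coe_mk, Pi.mul_apply, Finset.mem_singleton,
            Finset.mem_insert]
          by_cases h : i = k
          · subst h; simp [hk]
          · by_cases h' : i ∈ S <;> simp [h, h']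
        have hid : ∀ x, φ (s S x) * φ (s {k} x) = x := fun x => by
          rw [← map_mul, hmul]
          exact φ.apply_symm_apply x
        have hn : ∀ a x, (φ.toMonoidHom.comp (s S)) (a * x * a⁻¹) =
            a * (φ.toMonoidHom.comp (s S)) x * a⁻¹ := by
          intro a x
          show φ (s S (a * x * a⁻¹)) = a * φ (s S x) * a⁻¹
          apply hb.1
          rw [hs S, hs (insert k S) a (φ (s S x))]
          have h1 : ∀ y, s (insert k S) (φ y) = y := fun y => φ.symm_apply_apply y
          rw [h1, h1]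
        rcases fitting hind _ hn with h | ⟨N, hN⟩
        · exact ih ((Function.Bijective.of_comp_iff' φ.bijective (s S)).1 h)
        · exact hcon k ((Function.Bijective.of_comp_iff' φ.bijective (s {k})).1
            (bijective_of_mul (f := φ.toMonoidHom.comp (s S)) (h := φ.toMonoidHom.comp (s {k})) hid hN))
    exact key Finset.univ (by
      have : (s Finset.univ : A → A) = id := funext huniv
      rw [this]; exact Function.bijective_id)
  let u : A →* B j := (Pi.evalMonoidHom B j).comp ι
  let v : B j →* A :=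
    ((MonoidHom.fst A C).comp e.symm.toMonoidHom).comp (MonoidHom.mulSingle B j)
  have hvu : ∀ x, s {j} x = v (u x) := by
    intro x
    show (e.symm (pr {j} (ι x))).1 = (e.symm (Pi.mulSingle j (ι x j))).1
    congr 2
    funext i
    by_cases h : i = j
    · subst h; simp [pr]
    · simp [pr, h]
  have hcomp : Function.Bijective (fun x => v (u x)) := by
    have e0 : (fun x => v (u x)) = s {j} := funext fun x => (hvu x).symm
    rw [e0]; exact hj
  have hu : Function.Injective u := fun x y h => hcomp.1 (congrArg v h)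
  have hrn : u.range.Normal := ⟨by
    rintro _ ⟨x, rfl⟩ b
    refine ⟨(e.symm (Pi.mulSingle j b)).1 * x * (e.symm (Pi.mulSingle j b)).1⁻¹, ?_⟩
    set g := e.symm (Pi.mulSingle j b)
    have e1 : (MonoidHom.inl A C) (g.1 * x * g.1⁻¹) = g * (MonoidHom.inl A C) x * g⁻¹ :=
      Prod.ext (by simp) (by simp)
    show e ((MonoidHom.inl A C) (g.1 * x * g.1⁻¹)) j = b * e ((MonoidHom.inl A C) x) j * b⁻¹
    rw [e1, map_mul, map_mul, map_inv]
    simp [g]⟩
  have hv : Function.Injective v := by
    rw [← MonoidHom.ker_eq_bot_iff]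
    refine ((hB j).2 u.range v.ker hrn inferInstance ?_ ?_).resolve_left ?_
    · rw [Subgroup.eq_bot_iff_forall]
      rintro y ⟨⟨x, rfl⟩, hy⟩
      have : x = 1 := hcomp.1 (show v (u x) = v (u 1) by rw [map_one, map_one]; exact hy)
      rw [this, map_one]
    · refine eq_top_iff.2 fun b _ => ?_
      obtain ⟨x, hx⟩ := hcomp.2 (v b)
      rw [show b = u x * ((u x)⁻¹ * b) by group]
      refine mul_mem (Subgroup.mem_sup_left ⟨x, rfl⟩) (Subgroup.mem_sup_right ?_)
      rw [MonoidHom.mem_ker, map_mul, map_inv, show v (u x) = v b from hx, inv_mul_cancel]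
    · intro h
      obtain ⟨a, ha⟩ := exists_ne (1 : A)
      refine ha (hu ?_)
      have : u a ∈ u.range := ⟨a, rfl⟩
      rw [h, Subgroup.mem_bot] at this
      rw [this, map_one]
  have hvb : Function.Bijective v :=
    ⟨hv, fun a => by obtain ⟨x, hx⟩ := hcomp.2 a; exact ⟨u x, hx⟩⟩
  refine ⟨j, ⟨(MulEquiv.ofBijective v hvb).symm⟩, ⟨?_⟩⟩
  let ψ : C →* ((k : Fin n) → B (j.succAbove k)) :=
    MonoidHom.mk' (fun c k => e (1, c) (j.succAbove k)) (fun c c' => by
      funext k
      rw [show ((1 : A), c * c') = (1, c) * (1, c') by simp, map_mul]; rfl)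
  refine MulEquiv.ofBijective ψ ⟨?_, fun w => ?_⟩
  · rw [← MonoidHom.ker_eq_bot_iff, Subgroup.eq_bot_iff_forall]
    intro c hc
    have e1 : e (1, c) = Pi.mulSingle j (e (1, c) j) := by
      funext i
      by_cases h : i = j
      · subst h; simp
      · obtain ⟨k, rfl⟩ := Fin.exists_succAbove_eq h
        rw [Pi.mulSingle_eq_of_ne h]
        exact congrFun (MonoidHom.mem_ker.1 hc) k
    have e2 : v (e (1, c) j) = 1 := by
      show (e.symm (Pi.mulSingle j (e (1, c) j))).1 = 1
      rw [← e1, MulEquiv.symm_apply_apply]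
    rw [hv (e2.trans (map_one v).symm), Pi.mulSingle_one, ← map_one e] at e1
    exact congrArg Prod.snd (e.injective e1)
  · let g : (i : Fin (n + 1)) → B i := Fin.insertNth j 1 w
    obtain ⟨b, hb⟩ := hvb.2 (e.symm g).1
    refine ⟨(e.symm (g * (Pi.mulSingle j b)⁻¹)).2, funext fun k => ?_⟩
    have h1 : (1, (e.symm (g * (Pi.mulSingle j b)⁻¹)).2) = e.symm (g * (Pi.mulSingle j b)⁻¹) := by
      refine Prod.ext ?_ rfl
      show 1 = (e.symm (g * (Pi.mulSingle j b)⁻¹)).1
      have hb' : (e.symm (Pi.mulSingle j b)).1 = (e.symm g).1 := hb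
      rw [map_mul, map_inv, Prod.fst_mul, Prod.fst_inv, hb', mul_inv_cancel]
    show e (1, (e.symm (g * (Pi.mulSingle j b)⁻¹)).2) (j.succAbove k) = w k
    rw [h1, MulEquiv.apply_symm_apply, Pi.mul_apply, Pi.inv_apply,
      Pi.mulSingle_eq_of_ne (Fin.succAbove_ne j k), inv_one, mul_one]
    simp [g]

/-- If a finite group is isomorphic both to a direct product of `m` directly indecomposable nontrivial groups and to a direct product of `n` such groups (a group is directly indecomposable when it is not the internal direct product of two nontrivial normal subgroups), then `m = n` and the factors are isomorphic in pairs after a suitable matching. -/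
theorem result {m n : ℕ} {A : Fin m → Type*} {B : Fin n → Type*} [∀ i, Group (A i)] [∀ j, Group (B j)] [∀ i, Finite (A i)] [∀ j, Finite (B j)] (hA : ∀ i, Nontrivial (A i) ∧ ∀ H K : Subgroup (A i), H.Normal → K.Normal → H ⊓ K = ⊥ → H ⊔ K = ⊤ → H = ⊥ ∨ K = ⊥) (hB : ∀ j, Nontrivial (B j) ∧ ∀ H K : Subgroup (B j), H.Normal → K.Normal → H ⊓ K = ⊥ → H ⊔ K = ⊤ → H = ⊥ ∨ K = ⊥) (e : ((i : Fin m) → A i) ≃* ((j : Fin n) → B j)) : ∃ σ : Fin m ≃ Fin n, ∀ i, Nonempty (A i ≃* B (σ i)) := by
  induction m generalizing n with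
  | zero =>
    obtain rfl : n = 0 := by
      by_contra hn
      obtain ⟨b, hb⟩ := @exists_ne _ (hB ⟨0, Nat.pos_of_ne_zero hn⟩).1 1
      have h1 : Pi.mulSingle (⟨0, Nat.pos_of_ne_zero hn⟩ : Fin n) b = (1 : (j : Fin n) → B j) :=
        e.symm.injective (Subsingleton.elim _ _)
      exact hb (by simpa using congrFun h1 ⟨0, Nat.pos_of_ne_zero hn⟩)
    exact ⟨Equiv.refl _, fun i => i.elim0⟩
  | succ m ih =>
    obtain _ | n := n
    · exfalso
      obtain ⟨a, ha⟩ := @exists_ne _ (hA 0).1 1
      have h1 : Pi.mulSingle (0 : Fin (m + 1)) a = (1 : (i : Fin (m + 1)) → A i) :=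
        e.injective (Subsingleton.elim _ _)
      exact ha (by simpa using congrFun h1 0)
    · let sp : A 0 × ((i : Fin m) → A i.succ) ≃* ((i : Fin (m + 1)) → A i) :=
        { Fin.consEquiv A with
          map_mul' := fun x y => funext fun i => by refine Fin.cases ?_ (fun i => ?_) i <;> rfl }
      obtain ⟨j, ⟨e0⟩, ⟨e1⟩⟩ := exchange (hA 0).1 (hA 0).2 hB (sp.trans e)
      obtain ⟨σ, hσ⟩ := ih (A := fun i => A i.succ) (B := fun k => B (j.succAbove k))
        (fun i => hA i.succ) (fun k => hB _) e1
      refine ⟨(finSuccEquiv m).trans ((Equiv.optionCongr σ).trans (finSuccEquiv' j).symm), fun i => ?_⟩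
      refine Fin.cases ?_ (fun i => ?_) i
      · simp only [Equiv.trans_apply, finSuccEquiv_zero, Equiv.optionCongr_apply, Option.map_none,
          finSuccEquiv'_symm_none]
        exact ⟨e0⟩
      · simp only [Equiv.trans_apply, finSuccEquiv_succ, Equiv.optionCongr_apply, Option.map_some,
          finSuccEquiv'_symm_some]
        exact hσ i

end Cfsg.Agent.S4223
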