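import Cfsg.Statements.S4227
import Mathlib
import Cfsg.Agent.Lib.PGroup.FrattiniFaithful
import Cfsg.Agent.Lib.Fusion.PSolvable
import Cfsg.Agent.Lib.Components.Constrained
import Cfsg.Agent.S0144
import Cfsg.Agent.Lib.OddOrder.PLengthOne

set_option autoImplicit false
open Cfsg

namespace Cfsg.Agent.S4227

open Subgroup
open scoped commutatorElement

theorem pLengthLE_one_of {G : Type*} [Group G] [Finite G] (p : ℕ) [hp : Fact p.Prime]
    (h : ¬ p ∣ (Cfsg.pCore p (G ⧸ Cfsg.pPrimeCore p G)).index) : Cfsg.PLengthLE p 1 G := by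
  have key : ∀ (N : Subgroup G) [N.Normal], N = Cfsg.pPrimeCore p G →
      ¬ p ∣ ((Cfsg.pCore p (G ⧸ N)).comap (QuotientGroup.mk' N)).index := by
    intro N _ hN
    subst hN
    rwa [index_comap_of_surjective _ (QuotientGroup.mk'_surjective _)]
  set U1 := (Cfsg.upperPSeries p G 1).1 with hU1
  haveI : U1.Normal := (Cfsg.upperPSeries p G 1).2
  have hO : U1 = Cfsg.pPrimeCore p G := by
    rw [hU1, Cfsg.upperPSeries]
    simp only [show Even 0 from ⟨0, rfl⟩, if_true]
    haveI : ((Cfsg.upperPSeries p G 0).1).Normal := (Cfsg.upperPSeries p G 0).2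
    set q := QuotientGroup.mk' (Cfsg.upperPSeries p G 0).1 with hq
    have hqs : Function.Surjective q := QuotientGroup.mk'_surjective _
    have hqi : Function.Injective q := (MonoidHom.ker_eq_bot_iff _).mp (QuotientGroup.ker_mk' _)
    refine le_antisymm (CfsgLib.Solvable.Cores.le_pPrimeCore ?_)
      (Subgroup.map_le_iff_le_comap.mp ?_)
    · rw [← Subgroup.card_map_of_injective hqi, Subgroup.map_comap_eq_self_of_surjective hqs]
      exact CfsgLib.Solvable.Cores.coprime_card_pPrimeCore p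
    · haveI := (inferInstance : (Cfsg.pPrimeCore p G).Normal).map q hqs
      refine CfsgLib.Solvable.Cores.le_pPrimeCore ?_
      rw [Subgroup.card_map_of_injective hqi]
      exact CfsgLib.Solvable.Cores.coprime_card_pPrimeCore p
  set U2 := (Cfsg.upperPSeries p G 2).1 with hU2
  haveI : U2.Normal := (Cfsg.upperPSeries p G 2).2
  have hU2e : U2 = (Cfsg.pCore p (G ⧸ U1)).comap (QuotientGroup.mk' U1) := by
    rw [hU2, Cfsg.upperPSeries]
    simp only [show ¬ Even 1 from Nat.not_even_one, if_false]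
    rfl
  have h2 := key U1 hO
  rw [← hU2e, index_eq_card] at h2
  have h3 : Cfsg.pPrimeCore p (G ⧸ U2) = ⊤ := top_le_iff.mp
    (CfsgLib.Solvable.Cores.le_pPrimeCore (by
      rw [card_top]; exact (hp.out.coprime_iff_not_dvd.mpr h2).symm))
  show (Cfsg.upperPSeries p G (2 + 1)).1 = ⊤
  rw [Cfsg.upperPSeries]
  simp only [show Even 2 from even_two, if_true]
  exact (congrArg (Subgroup.comap (QuotientGroup.mk' U2)) h3).trans (comap_top _)

variable {Q : Type*} [Group Q] [Finite Q]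

theorem pow_eq_one_of_pgroup {p : ℕ} [Fact p.Prime] {H : Subgroup Q} (h : ∀ x : Q, x ^ 6 = 1)
    (hp : p = 2 ∨ p = 3) (hH : IsPGroup p H) {x : Q} (hx : x ∈ H) : x ^ p = 1 := by
  obtain ⟨k, hk⟩ := hH ⟨x, hx⟩
  have h1 : orderOf x ∣ p ^ k := orderOf_dvd_of_pow_eq_one (congrArg Subtype.val hk)
  obtain ⟨i, -, hi⟩ := (Nat.dvd_prime_pow (Fact.out : p.Prime)).mp h1
  have h6 : p ^ i ∣ 6 := hi ▸ orderOf_dvd_of_pow_eq_one (h x)
  refine orderOf_dvd_iff_pow_eq_one.mp (hi ▸ ?_)
  rcases Nat.lt_or_ge i 2 with hi2 | hi2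
  · interval_cases i <;> simp
  · have h7 := (pow_dvd_pow p hi2).trans h6
    rcases hp with rfl | rfl <;> norm_num at h7

theorem isSolvable_of_exp (h : ∀ x : Q, x ^ 6 = 1) : Group.IsSolvable Q := by
  have hpr : ∀ d, d.Prime → d ∣ Nat.card Q → d = 2 ∨ d = 3 := fun d hd hdd => by
    have := Fact.mk hd
    obtain ⟨x, hx⟩ := exists_prime_orderOf_dvd_card' (G := Q) d hdd
    have h6 : d ∣ 2 * 3 := hx ▸ orderOf_dvd_of_pow_eq_one (h x)
    rcases hd.dvd_mul.mp h6 with h2 | h3
    · exact Or.inl ((Nat.prime_dvd_prime_iff_eq hd Nat.prime_two).mp h2)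
    · exact Or.inr ((Nat.prime_dvd_prime_iff_eq hd Nat.prime_three).mp h3)
  refine Cfsg.Agent.S0144.result 2 3 ((Nat.card Q).factorization 2) ((Nat.card Q).factorization 3)
    Nat.prime_two Nat.prime_three ?_
  refine Nat.eq_of_factorization_eq Nat.card_pos.ne' (by positivity) fun r => ?_
  rw [Nat.factorization_mul (by positivity) (by positivity), Nat.Prime.factorization_pow Nat.prime_two,
    Nat.Prime.factorization_pow Nat.prime_three, Finsupp.add_apply]
  by_cases hr2 : r = 2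
  · subst hr2; simp
  by_cases hr3 : r = 3
  · subst hr3; simp
  simp only [Finsupp.single_apply, Ne.symm hr2, Ne.symm hr3, if_false, add_zero]
  by_cases hr : r.Prime
  · exact Nat.factorization_eq_zero_of_not_dvd fun hd => (hpr r hr hd).elim hr2 hr3
  · exact Nat.factorization_eq_zero_of_not_prime _ hr

theorem case_two [Fact (Nat.Prime 2)] (h : ∀ x : Q, x ^ 6 = 1)
    (hO : Cfsg.pPrimeCore 2 Q = ⊥) : ¬ 2 ∣ (Cfsg.pCore 2 Q).index := by
  haveI := isSolvable_of_exp h
  let P : Sylow 2 Q := default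
  have hle : (P : Subgroup Q) ≤ Cfsg.pCore 2 Q := by
    refine le_trans (b := centralizer (Cfsg.pCore 2 Q : Set Q)) (fun x hx y hy => ?_)
      (CfsgLib.Fusion.PSolvable.centralizer_pCore_le
        CfsgLib.Fusion.PSolvable.psolvable_of_solvable hO)
    have hyP : y ∈ (P : Subgroup Q) := CfsgLib.Solvable.Cores.pCore_le_sylow P hy
    have hinv : ∀ z ∈ (P : Subgroup Q), z⁻¹ = z := fun z hz => inv_eq_of_mul_eq_one_right (by
      rw [← pow_two]; exact pow_eq_one_of_pgroup h (Or.inl rfl) P.isPGroup' hz)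
    rw [← hinv (y * x) (mul_mem hyP hx), mul_inv_rev, hinv x hx, hinv y hyP]
  exact fun hd => P.not_dvd_index (hd.trans (index_dvd_of_le hle))

theorem no_fix {V : Type*} [CommGroup V] (hV : ∀ v : V, v ^ 3 = 1) (a b c U : MulAut V)
    (hab : Commute a b) (hac : a * b = c) (ha : a * a = 1) (hb : b * b = 1)
    (hUa : U * a = b * U) (hUb : U * b = c * U) (hUc : U * c = a * U)
    (hN : ∀ v, v * U v * U (U v) = 1) : a = 1 := by
  have e : ∀ {f g : MulAut V}, f = g → ∀ v, f v = g v := fun hfg v => by rw [hfg]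
  have sq : ∀ v : V, v * v = 1 → v = 1 := fun v hv => by
    have := hV v
    rwa [pow_succ, pow_two, hv, one_mul] at this
  by_contra hne
  obtain ⟨v0, hv0⟩ : ∃ v0, a v0 ≠ v0 := by
    by_contra hno
    push Not at hno
    exact hne (MulEquiv.ext hno)
  set v1 := v0⁻¹ * a v0 with hv1
  have hv11 : v1 ≠ 1 := fun h1 => hv0 (by
    rw [hv1, inv_mul_eq_one] at h1; exact h1.symm)
  have hav1 : a v1 = v1⁻¹ := by
    rw [hv1, map_mul, map_inv, show a (a v0) = v0 from e ha v0, mul_inv_rev, inv_inv, mul_comm]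
  have hfin : ∀ v, v ≠ 1 → a v = v⁻¹ → (b v = v ∨ b v = v⁻¹) → False := by
    intro v hv hav hbv
    refine hv (sq v ?_)
    rcases hbv with hbv | hbv
    · have hcv : c v = v⁻¹ := by rw [← hac, MulAut.mul_apply, hbv, hav]
      have h1 : b (U v) = (U v)⁻¹ := by
        rw [show b (U v) = U (a v) from (e hUa v).symm, hav, map_inv]
      have h2 : b (U (U v)) = (U (U v))⁻¹ := by
        rw [show b (U (U v)) = U (a (U v)) from (e hUa (U v)).symm,
          show a (U v) = U (c v) from (e hUc v).symm, hcv, map_inv, map_inv]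
      have h3 := congrArg b (hN v)
      rw [map_mul, map_mul, hbv, h1, h2, map_one] at h3
      calc v * v = (v * U v * U (U v)) * (v * (U v)⁻¹ * (U (U v))⁻¹) := by
            rw [mul_assoc v (U v), mul_assoc v (U v)⁻¹, mul_mul_mul_comm, mul_mul_mul_comm (U v)]
            simp
        _ = 1 := by rw [hN v, h3, one_mul]
    · have hcv : c v = v := by rw [← hac, MulAut.mul_apply, hbv, map_inv, hav, inv_inv]
      have h1 : c (U v) = (U v)⁻¹ := by
        rw [show c (U v) = U (b v) from (e hUb v).symm, hbv, map_inv]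
      have h2 : c (U (U v)) = (U (U v))⁻¹ := by
        rw [show c (U (U v)) = U (b (U v)) from (e hUb (U v)).symm,
          show b (U v) = U (a v) from (e hUa v).symm, hav, map_inv, map_inv]
      have h3 := congrArg c (hN v)
      rw [map_mul, map_mul, hcv, h1, h2, map_one] at h3
      calc v * v = (v * U v * U (U v)) * (v * (U v)⁻¹ * (U (U v))⁻¹) := by
            rw [mul_assoc v (U v), mul_assoc v (U v)⁻¹, mul_mul_mul_comm, mul_mul_mul_comm (U v)]
            simp
        _ = 1 := by rw [hN v, h3, one_mul]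
  have hba : a (b v1) = (b v1)⁻¹ := by
    rw [show a (b v1) = b (a v1) from e hab.eq v1, hav1, map_inv]
  by_cases hs : v1 * b v1 = 1
  · exact hfin v1 hv11 hav1 (Or.inr (eq_inv_of_mul_eq_one_right hs))
  · refine hfin (v1 * b v1) hs ?_ (Or.inl ?_)
    · rw [map_mul, hav1, hba]; exact (mul_inv v1 (b v1)).symm
    · rw [map_mul, show b (b v1) = v1 from e hb v1, mul_comm]

theorem case_three [Fact (Nat.Prime 3)] (h : ∀ x : Q, x ^ 6 = 1)
    (hO : Cfsg.pPrimeCore 3 Q = ⊥) : ¬ 3 ∣ (Cfsg.pCore 3 Q).index := by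
  intro hdiv
  have h2f := Fact.mk Nat.prime_two
  haveI := isSolvable_of_exp h
  set R := Cfsg.pCore 3 Q with hR
  have hRp : IsPGroup 3 R := CfsgLib.Solvable.Cores.isPGroup_pCore 3
  set Φ := (frattini R).map R.subtype with hΦ
  have hΦn : Φ.Normal := inferInstance
  set π := QuotientGroup.mk' Φ with hπ
  have hπs : Function.Surjective π := QuotientGroup.mk'_surjective Φ
  set V := R.map π with hVdef
  haveI hVn : V.Normal := Subgroup.Normal.map inferInstance π hπs
  have hVc : ∀ a ∈ V, ∀ b ∈ V, a * b = b * a := by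
    rintro _ ⟨a, ha, rfl⟩ _ ⟨b, hb, rfl⟩
    rw [← commutatorElement_eq_one_iff_mul_comm, ← map_commutatorElement, hπ,
      QuotientGroup.mk'_apply, QuotientGroup.eq_one_iff]
    exact ⟨⁅(⟨a, ha⟩ : R), ⟨b, hb⟩⁆,
      CfsgLib.PGroup.Frattini.commutatorElement_mem_frattini hRp _ _, rfl⟩
  letI instV : CommGroup V :=
    { (inferInstance : Group V) with mul_comm := fun a b => Subtype.ext (hVc a a.2 b b.2) }
  have hV3 : ∀ a ∈ V, a ^ 3 = 1 := by
    rintro _ ⟨a, ha, rfl⟩
    rw [← map_pow, pow_eq_one_of_pgroup h (Or.inr rfl) hRp ha, map_one]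
  have hsix : ∀ y : Q ⧸ Φ, y ^ 6 = 1 := fun y => by
    obtain ⟨x, rfl⟩ := hπs y
    rw [← map_pow, h, map_one]
  have hcV : ∀ y : Q ⧸ Φ, (∀ v ∈ V, y * v * y⁻¹ = v) → y ∈ V := by
    intro y hy
    obtain ⟨g, rfl⟩ := hπs y
    refine ⟨g, CfsgLib.PGroup.FrattiniFaithful.mem_pCore_of_commutator_mem
      CfsgLib.Fusion.PSolvable.psolvable_of_solvable hO g fun r hr => ?_, rfl⟩
    show ⁅g, r⁆ ∈ Φ
    rw [← QuotientGroup.eq_one_iff, ← QuotientGroup.mk'_apply, ← hπ, map_commutatorElement,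
      commutatorElement_def, hy _ ⟨r, hr, rfl⟩, mul_inv_cancel]
  let ψ : (Q ⧸ Φ) ⧸ V →* MulAut V := QuotientGroup.lift V (MulAut.conjNormal (H := V))
    fun v hv => MonoidHom.mem_ker.mpr (MulEquiv.ext fun w => Subtype.ext (by
      show v * (w : Q ⧸ Φ) * v⁻¹ = w
      rw [hVc v hv w w.2, mul_inv_cancel_right]))
  have hψ : Function.Injective ψ := by
    rw [← MonoidHom.ker_eq_bot_iff, eq_bot_iff]
    intro s hs
    obtain ⟨y, rfl⟩ := QuotientGroup.mk'_surjective V s
    refine (QuotientGroup.eq_one_iff y).mpr (hcV y fun v hv => ?_)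
    have h1 := congrArg Subtype.val (DFunLike.congr_fun (MonoidHom.mem_ker.mp hs) (⟨v, hv⟩ : V))
    exact h1
  -- the quotient `S`
  set σ := (QuotientGroup.mk' V).comp π with hσ
  have hσs : Function.Surjective σ := (QuotientGroup.mk'_surjective V).comp hπs
  have hσker : σ.ker = R := by
    rw [hσ, ← MonoidHom.comap_ker, QuotientGroup.ker_mk', hVdef, comap_map_eq,
      QuotientGroup.ker_mk', sup_eq_left]
    exact map_subtype_le _
  have hS6 : ∀ s : (Q ⧸ Φ) ⧸ V, s ^ 6 = 1 := fun s => by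
    obtain ⟨x, rfl⟩ := hσs s
    rw [← map_pow, h, map_one]
  have hS3 : Cfsg.pCore 3 ((Q ⧸ Φ) ⧸ V) = ⊥ := by
    have h1 : (Cfsg.pCore 3 ((Q ⧸ Φ) ⧸ V)).comap σ ≤ R := CfsgLib.Solvable.Cores.le_pCore
      ((CfsgLib.Solvable.Cores.isPGroup_pCore 3).comap_of_ker_isPGroup σ (by rw [hσker]; exact hRp))
    rw [eq_bot_iff]
    intro s hs
    obtain ⟨x, rfl⟩ := hσs s
    exact MonoidHom.mem_ker.mp (hσker ▸ h1 hs)
  haveI := isSolvable_of_exp hS6
  have hS2' : Cfsg.pPrimeCore 2 ((Q ⧸ Φ) ⧸ V) = ⊥ := by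
    rw [eq_bot_iff, ← hS3]
    refine CfsgLib.Solvable.Cores.le_pCore fun x => ?_
    refine ⟨1, Subtype.ext ?_⟩
    rw [pow_one, Subgroup.coe_pow, Subgroup.coe_one, ← orderOf_dvd_iff_pow_eq_one]
    exact Nat.Coprime.dvd_of_dvd_mul_left (m := 2)
      ((CfsgLib.Solvable.Cores.coprime_card_pPrimeCore 2).coprime_dvd_left
        (Subgroup.orderOf_dvd_natCard _ x.2)) (orderOf_dvd_of_pow_eq_one (hS6 (x : (Q ⧸ Φ) ⧸ V)))
  set E := Cfsg.pCore 2 ((Q ⧸ Φ) ⧸ V) with hE
  have hEinv : ∀ z ∈ E, z⁻¹ = z := fun z hz => inv_eq_of_mul_eq_one_right (by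
    rw [← pow_two]
    exact pow_eq_one_of_pgroup hS6 (Or.inl rfl) (CfsgLib.Solvable.Cores.isPGroup_pCore 2) hz)
  have hEc : ∀ z ∈ E, ∀ w ∈ E, z * w = w * z := fun z hz w hw => by
    rw [← hEinv (z * w) (mul_mem hz hw), mul_inv_rev, hEinv z hz, hEinv w hw]
  have hcard3 : 3 ∣ Nat.card ((Q ⧸ Φ) ⧸ V) := by
    rw [← Nat.card_congr (QuotientGroup.quotientKerEquivOfSurjective σ hσs).toEquiv,
      ← index_eq_card, hσker]
    exact hdiv
  obtain ⟨u, hu⟩ := exists_prime_orderOf_dvd_card' (G := (Q ⧸ Φ) ⧸ V) 3 hcard3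
  obtain ⟨e, heE, hue⟩ : ∃ e ∈ E, u * e * u⁻¹ ≠ e := by
    by_contra hno
    push Not at hno
    have huE := CfsgLib.Fusion.PSolvable.centralizer_pCore_le
      CfsgLib.Fusion.PSolvable.psolvable_of_solvable hS2' (fun e he =>
        (mul_inv_eq_iff_eq_mul.mp (hno e he)).symm : u ∈ centralizer (E : Set _))
    have := orderOf_dvd_of_pow_eq_one
      (pow_eq_one_of_pgroup hS6 (Or.inl rfl) (CfsgLib.Solvable.Cores.isPGroup_pCore 2) huE)
    rw [hu] at this
    norm_num at this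
  set e1 := u * e * u⁻¹ with he1
  set e2 := u * e1 * u⁻¹ with he2
  have hEn : E.Normal := inferInstance
  have he1E : e1 ∈ E := hEn.conj_mem e heE u
  have he2E : e2 ∈ E := hEn.conj_mem e1 he1E u
  have hu3 : u * e2 * u⁻¹ = e := by
    have : u ^ 3 = 1 := by rw [← hu]; exact pow_orderOf_eq_one u
    calc u * e2 * u⁻¹ = u ^ 3 * e * (u ^ 3)⁻¹ := by rw [he2, he1, pow_three]; group
      _ = e := by rw [this]; group
  obtain ⟨x0, hx0⟩ := QuotientGroup.mk'_surjective V u
  set x := x0 ^ 4 with hxdef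
  have hu3' : u ^ 3 = 1 := by rw [← hu]; exact pow_orderOf_eq_one u
  have hxu : QuotientGroup.mk' V x = u := by
    rw [hxdef, map_pow, hx0, pow_succ, hu3', one_mul]
  have hx3 : x ^ 3 = 1 := by
    rw [hxdef, ← pow_mul, show 4 * 3 = 6 * 2 by norm_num, pow_mul, hsix, one_pow]
  have hN : ∀ v : V, v * ψ u v * ψ u (ψ u v) = 1 := by
    intro v
    have hy : ((v : Q ⧸ Φ) * x) ^ 3 = 1 := by
      have h9 : ((v : Q ⧸ Φ) * x) ^ 9 = 1 := by
        rw [show 9 = 3 * 3 by norm_num, pow_mul]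
        refine hV3 _ ?_
        rw [← QuotientGroup.eq_one_iff, ← QuotientGroup.mk'_apply, map_pow, map_mul, hxu,
          QuotientGroup.mk'_apply, (QuotientGroup.eq_one_iff _).mpr v.2, one_mul, hu3']
      have := pow_gcd_eq_one.mpr ⟨h9, hsix ((v : Q ⧸ Φ) * x)⟩
      simpa using this
    rw [← hxu]
    apply Subtype.ext
    show (v : Q ⧸ Φ) * (x * v * x⁻¹) * (x * (x * v * x⁻¹) * x⁻¹) = 1
    calc _ = ((v : Q ⧸ Φ) * x) ^ 3 * (x ^ 3)⁻¹ := by
          rw [pow_three, pow_three]; group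
      _ = 1 := by rw [hy, hx3]; group
  have hw1 := no_fix (V := V) (fun v => Subtype.ext (hV3 v v.2)) (ψ (e * e1)) (ψ (e1 * e2))
    (ψ (e2 * e)) (ψ u)
    (by rw [Commute, SemiconjBy, ← map_mul, ← map_mul,
      hEc _ (mul_mem heE he1E) _ (mul_mem he1E he2E)])
    (by
      rw [← map_mul]; congr 1
      calc e * e1 * (e1 * e2) = e * (e1 * e1) * e2 := by group
        _ = e2 * e := by
          rw [show e1 * e1 = 1 from mul_eq_one_iff_inv_eq.mpr (hEinv e1 he1E), mul_one,
            hEc e heE e2 he2E])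
    (by rw [← map_mul, mul_eq_one_iff_inv_eq.mpr (hEinv _ (mul_mem heE he1E)), map_one])
    (by rw [← map_mul, mul_eq_one_iff_inv_eq.mpr (hEinv _ (mul_mem he1E he2E)), map_one])
    (by rw [← map_mul, ← map_mul]; congr 1; rw [he2, he1]; group)
    (by
      rw [← map_mul, ← map_mul]; congr 1
      calc u * (e1 * e2) = u * e1 * u⁻¹ * (u * e2 * u⁻¹) * u := by group
        _ = e2 * e * u := by rw [← he2, hu3])
    (by
      rw [← map_mul, ← map_mul]; congr 1
      calc u * (e2 * e) = u * e2 * u⁻¹ * (u * e * u⁻¹) * u := by group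
        _ = e * e1 * u := by rw [← he1, hu3])
    hN
  have h1 : e * e1 = 1 := hψ (by rw [hw1, map_one])
  exact hue (by
    rw [← inv_eq_iff_mul_eq_one.mpr h1, hEinv e heE])

/-- A finite group in which every element has order dividing `6` has `2`-length at most `1` and `3`-length at most `1`. -/
theorem result {G : Type*} [Group G] [Finite G] (h : ∀ x : G, x ^ 6 = 1) : Cfsg.PLengthLE 2 1 G ∧ Cfsg.PLengthLE 3 1 G := by
  have h2 := Fact.mk Nat.prime_two
  have h3 := Fact.mk Nat.prime_three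
  exact ⟨pLengthLE_one_of 2 (case_two (fun x => by
      obtain ⟨y, rfl⟩ := QuotientGroup.mk'_surjective _ x
      rw [← map_pow, h, map_one]) CfsgLib.Components.pPrimeCore_quotient_eq_bot),
    pLengthLE_one_of 3 (case_three (fun x => by
      obtain ⟨y, rfl⟩ := QuotientGroup.mk'_surjective _ x
      rw [← map_pow, h, map_one]) CfsgLib.Components.pPrimeCore_quotient_eq_bot)⟩

end Cfsg.Agent.S4227
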