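import Cfsg.Statements.S4230
import Mathlib

set_option autoImplicit false
open Cfsg

namespace Cfsg.Agent.S4230

/-- Let p be an odd prime, q a natural number not divisible by p, and e the multiplicative order of q modulo p. For a natural number f, p divides the value at q of the f-th cyclotomic polynomial if and only if f = e·p^j for some j ≥ 0. -/
theorem result (p q f : ℕ) (hp : p.Prime) (hp2 : p ≠ 2) (hpq : ¬ p ∣ q) :
    ((p : ℤ) ∣ (Polynomial.cyclotomic f ℤ).eval (q : ℤ)) ↔ ∃ j : ℕ, f = orderOf (q : ZMod p) * p ^ j := by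
  have : Fact p.Prime := ⟨hp⟩
  have hq0 : (q : ZMod p) ≠ 0 := by rwa [ne_eq, ZMod.natCast_eq_zero_iff]
  have hroot : ((p : ℤ) ∣ (Polynomial.cyclotomic f ℤ).eval (q : ℤ)) ↔
      (Polynomial.cyclotomic f (ZMod p)).IsRoot (q : ZMod p) := by
    rw [← ZMod.intCast_zmod_eq_zero_iff_dvd, Polynomial.IsRoot, ← Polynomial.map_cyclotomic_int f (ZMod p),
      Polynomial.eval_map, ← map_natCast (Int.castRingHom (ZMod p)) q, Polynomial.eval₂_hom]
    rfl
  rw [hroot]
  have he : 0 < orderOf (q : ZMod p) := by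
    rw [orderOf_pos_iff, isOfFinOrder_iff_pow_eq_one]
    exact ⟨p - 1, by have := hp.two_le; omega, ZMod.pow_card_sub_one_eq_one hq0⟩
  rcases eq_or_ne f 0 with rfl | hf
  · simp only [Polynomial.cyclotomic_zero, Polynomial.IsRoot, Polynomial.eval_one, one_ne_zero, false_iff]
    rintro ⟨j, hj⟩
    exact (Nat.mul_pos he (pow_pos hp.pos j)).ne hj
  obtain ⟨k, m, hm, rfl⟩ := Nat.exists_eq_pow_mul_and_not_dvd hf p hp.one_lt.ne'
  have : NeZero (m : ZMod p) := ⟨by rwa [ne_eq, ZMod.natCast_eq_zero_iff]⟩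
  rw [Polynomial.isRoot_cyclotomic_prime_pow_mul_iff_of_charP]
  constructor
  · intro h
    exact ⟨k, by rw [← h.eq_orderOf, mul_comm]⟩
  · rintro ⟨j, hj⟩
    have hcop : ¬ p ∣ orderOf (q : ZMod p) := by
      intro h
      have h2 := orderOf_dvd_of_pow_eq_one (ZMod.pow_card_sub_one_eq_one hq0)
      have := Nat.le_of_dvd (by have := hp.two_le; omega) (h.trans h2)
      have := hp.two_le
      omega
    have hme : m = orderOf (q : ZMod p) := by
      have e1 : m ∣ orderOf (q : ZMod p) :=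
        (Nat.Coprime.pow_right j ((hp.coprime_iff_not_dvd.2 hm).symm)).dvd_of_dvd_mul_right
          (hj ▸ dvd_mul_left m _)
      have e2 : orderOf (q : ZMod p) ∣ m :=
        (Nat.Coprime.pow_right k ((hp.coprime_iff_not_dvd.2 hcop).symm)).dvd_of_dvd_mul_left
          (hj ▸ dvd_mul_right _ _)
      exact Nat.dvd_antisymm e1 e2
    exact hme ▸ IsPrimitiveRoot.orderOf _

end Cfsg.Agent.S4230
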