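import Cfsg.Statements.S5892
import Cfsg.Agent.Lib.Classical.Dickson.MaxExcl


set_option autoImplicit false
open Cfsg

namespace Cfsg.Agent.S5892

open CfsgLib.Classical.Dickson Matrix


/-- Let F be a finite field of odd order q ≥ 5 and characteristic p, and let M be a maximal subgroup of PSL₂(F). Then one of the following holds: |M| = q(q − 1)/2 (the stabiliser of a point of the projective line); q ≥ 13 and M is dihedral of order q − 1; q ∉ {7, 9} and M is dihedral of order q + 1; q = q₀² and M ≅ PGL₂(F₀) with |F₀| = q₀; q = q₀^r for an odd prime r and M ≅ PSL₂(F₀) with |F₀| = q₀; q ≡ ±1 (mod 10) with q = p or q = p², p ≡ ±3 (mod 10), and M ≅ A₅; q = p ≡ ±3 (mod 8), q ≢ ±1 (mod 10), and M ≅ A₄; or q = p ≡ ±1 (mod 8) and M ≅ S₄. -/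
theorem result {F : Type*} [Field F] [Fintype F] (p : ℕ)
    [Fact p.Prime] [CharP F p] (hodd : Odd (Fintype.card F)) (h5 : 5 ≤ Fintype.card F)
    (M : Subgroup (Matrix.ProjectiveSpecialLinearGroup (Fin 2) F)) (hM : IsCoatom M) :
    2 * Nat.card M = Fintype.card F * (Fintype.card F - 1) ∨
    (13 ≤ Fintype.card F ∧ (∃ k : ℕ, 2 * k = Fintype.card F - 1 ∧ Nonempty (M ≃* DihedralGroup k))) ∨
    (Fintype.card F ≠ 7 ∧ Fintype.card F ≠ 9 ∧ (∃ k : ℕ, 2 * k = Fintype.card F + 1 ∧ Nonempty (M ≃* DihedralGroup k))) ∨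
    (∃ (F₀ : Type) (_ : Field F₀) (_ : Fintype F₀), Fintype.card F = Fintype.card F₀ ^ 2 ∧
        Nonempty (M ≃* Matrix.ProjGenLinGroup (Fin 2) F₀)) ∨
    (∃ (F₀ : Type) (_ : Field F₀) (_ : Fintype F₀) (r : ℕ), r.Prime ∧ Odd r ∧ Fintype.card F = Fintype.card F₀ ^ r ∧
        Nonempty (M ≃* Matrix.ProjectiveSpecialLinearGroup (Fin 2) F₀)) ∨
    ((Fintype.card F % 10 = 1 ∨ Fintype.card F % 10 = 9) ∧
        (Fintype.card F = p ∨ (Fintype.card F = p ^ 2 ∧ (p % 10 = 3 ∨ p % 10 = 7))) ∧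
        Nonempty (M ≃* alternatingGroup (Fin 5))) ∨
    (Fintype.card F = p ∧ (p % 8 = 3 ∨ p % 8 = 5) ∧ ¬ (p % 10 = 1 ∨ p % 10 = 9) ∧
        Nonempty (M ≃* alternatingGroup (Fin 4))) ∨
    (Fintype.card F = p ∧ (p % 8 = 1 ∨ p % 8 = 7) ∧ Nonempty (M ≃* Equiv.Perm (Fin 4))) := by
  classical
  have hq : 4 ≤ Fintype.card F := by omega
  have ho : Fintype.card F % 2 = 1 := Nat.odd_iff.mp hodd
  have hM' := (psl_isCoatom_iff M).mp hM
  have hΓ : IsBig (sln F) := Or.inr rfl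
  have hL : ¬ sln F ≤ inPGL M := fun e => hM'.ne (le_antisymm hM'.le e)
  have hcard := card_sln_odd ho
  have hne : sln F ≠ ⊤ := sln_ne_top_of_odd ho
  let e := inPGLEquiv M
  cases maxKind p hΓ hq hM' hL with
  | stab x hx =>
    left
    rw [Nat.card_congr e.toEquiv, hx]
    apply Nat.eq_of_mul_eq_mul_right (show 0 < Fintype.card F + 1 by omega)
    rw [mul_assoc, card_stabIn le_rfl x, hcard]
    ring
  | tori c hc hc1 hcΓ hMeq =>
    obtain ⟨k, hk, hk2, -, ⟨f⟩⟩ := tori_shape p hΓ hq hc hc1 hcΓ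
    have hidx : (sln F).index = 2 := by
      rw [index_sln]; rcases dd_cases (F := F) with ⟨-, h⟩ | ⟨h, -⟩ <;> omega
    rw [hidx] at hk2
    obtain ⟨ex1, ex2⟩ := tori_exclusions p ho hq hM' hc hc1 hcΓ hMeq hk
    have f' : Nonempty (M ≃* DihedralGroup k) := ⟨(e.trans (MulEquiv.subgroupCongr hMeq)).trans f⟩
    rcases hk2 with h | h
    · exact Or.inr (Or.inl ⟨ex1 (by omega), k, by omega, f'⟩)
    · exact Or.inr (Or.inr (Or.inl ⟨(ex2 (by omega)).1, (ex2 (by omega)).2, k, by omega, f'⟩))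
  | a4 _ hp' h8 h10 hm =>
    obtain ⟨f⟩ := hm
    rw [hp'] at h8 h10
    exact Or.inr (Or.inr (Or.inr (Or.inr (Or.inr (Or.inr (Or.inl ⟨hp', h8, h10, ⟨e.trans f⟩⟩))))))
  | s4 _ hp' hs _ hm =>
    obtain ⟨f⟩ := hm
    have h8 := hs rfl
    rw [hp'] at h8
    exact Or.inr (Or.inr (Or.inr (Or.inr (Or.inr (Or.inr (Or.inr ⟨hp', h8, ⟨e.trans f⟩⟩))))))
  | a5 _ hmod hp' hm =>
    obtain ⟨f⟩ := hm
    exact Or.inr (Or.inr (Or.inr (Or.inr (Or.inr (Or.inl ⟨hmod, hp', ⟨e.trans f⟩⟩)))))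
  | pgl A r h hr hd hA hs _ hc =>
    obtain ⟨K, iK, iF, hK, ⟨r'⟩⟩ := exists_small_field A
    obtain ⟨g⟩ := ratPGL_equiv A r'
    have hr2 := hs ho rfl
    exact Or.inr (Or.inr (Or.inr (Or.inl ⟨K, iK, iF, by rw [hK, hd, hr2],
      ⟨((e.trans (conjEquiv h _)).trans (MulEquiv.subgroupCongr hc)).trans g⟩⟩)))
  | psl A r h hr hd _ _ hr2 hc =>
    obtain ⟨K, iK, iF, hK, ⟨r'⟩⟩ := exists_small_field A
    obtain ⟨g⟩ := ratPSL_equiv A r'
    exact Or.inr (Or.inr (Or.inr (Or.inr (Or.inl ⟨K, iK, iF, r, hr, hr2, by rw [hK, hd],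
      ⟨((e.trans (conjEquiv h _)).trans (MulEquiv.subgroupCongr hc)).trans g⟩⟩))))

end Cfsg.Agent.S5892
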