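import Cfsg.Statements.S4234
import Mathlib
import Cfsg.Agent.S5892
import Cfsg.Agent.S5940
import Cfsg.Agent.S0812
import Cfsg.Agent.Lib.Classical.SLBasic
import Cfsg.Agent.Lib.Classical.SL2Sylow
import Cfsg.Agent.Lib.Classical.SL2Fours

set_option autoImplicit false
open Cfsg

namespace Cfsg.Agent.S4234

open Subgroup
open scoped commutatorElement

local instance : Fact (Nat.Prime 13) := ⟨by norm_num⟩

local notation "L13" => Matrix.ProjectiveSpecialLinearGroup (Fin 2) (ZMod 13)

theorem card_L : Nat.card L13 = 1092 := by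
  have hcard : Nat.card L13 = Nat.card (CfsgLib.Classical.Dickson.sln (ZMod 13)) := by
    rw [← CfsgLib.Classical.Dickson.range_toPGL']
    exact Nat.card_congr
      (MonoidHom.ofInjective Matrix.ProjectiveSpecialLinearGroup.toPGL_injective).toEquiv
  have h := CfsgLib.Classical.Dickson.card_sln_odd (F := ZMod 13) (by simp [ZMod.card])
  rw [← hcard, ZMod.card] at h
  omega

theorem simple_L : IsSimpleGroup L13 :=
  CfsgLib.Classical.psl_fin_isSimpleGroup le_rfl (fun _ => by simp [ZMod.card])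

/-- the maximal subgroups -/
theorem coatom_types (M : Subgroup L13) (hM : IsCoatom M) :
    Nat.card M = 78 ∨ Nat.card M = 14 ∨
      (Nat.card M = 12 ∧ (Nonempty (M ≃* DihedralGroup 6) ∨
        Nonempty (M ≃* alternatingGroup (Fin 4)))) := by
  have h13 : Fintype.card (ZMod 13) = 13 := ZMod.card 13
  rcases S5892.result (F := ZMod 13) 13 (by rw [h13]; decide) (by rw [h13]; norm_num) M hM with
    h | ⟨-, k, hk, ⟨e⟩⟩ | ⟨-, -, k, hk, ⟨e⟩⟩ | ⟨F₀, i1, i2, h, -⟩ | ⟨F₀, i1, i2, r, hr, ho, h, -⟩ |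
      ⟨h, -⟩ | ⟨-, -, -, ⟨e⟩⟩ | ⟨-, h, -⟩
  · left; rw [h13] at h; omega
  · obtain rfl : k = 6 := by omega
    refine Or.inr (Or.inr ⟨?_, Or.inl ⟨e⟩⟩)
    rw [Nat.card_congr e.toEquiv, DihedralGroup.nat_card]
  · obtain rfl : k = 7 := by omega
    refine Or.inr (Or.inl ?_)
    rw [Nat.card_congr e.toEquiv, DihedralGroup.nat_card]
  · rw [h13] at h
    have h4 : Fintype.card F₀ < 4 := by nlinarith
    interval_cases (Fintype.card F₀) <;> omega
  · rw [h13] at h
    have hr3 : 2 ≤ r := hr.two_le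
    exact absurd (by rw [h]; exact Nat.Prime.not_prime_pow hr3) (not_not_intro (by norm_num : Nat.Prime 13))
  · rw [h13] at h; omega
  · refine Or.inr (Or.inr ⟨?_, Or.inr ⟨e⟩⟩)
    rw [Nat.card_congr e.toEquiv, nat_card_alternatingGroup, Nat.card_eq_fintype_card,
      Fintype.card_fin]
    rfl
  · omega

theorem exists_coatom_ge {A : Subgroup L13} (hA : A ≠ ⊤) :
    ∃ M : Subgroup L13, IsCoatom M ∧ A ≤ M :=
  (eq_top_or_exists_le_coatom A).resolve_left hA

theorem le_normalizer_of_normal {A M : Subgroup L13}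
    (h : ∀ g ∈ M, ∀ a ∈ A, g * a * g⁻¹ ∈ A) : M ≤ normalizer (A : Set L13) := fun g hg =>
  mem_normalizer_iff.mpr fun a => ⟨h g hg a, fun ha => by
    simpa [mul_assoc] using h g⁻¹ (inv_mem hg) _ ha⟩

theorem normalizer_ne_top {A : Subgroup L13} (h1 : A ≠ ⊥) (h2 : A ≠ ⊤) :
    normalizer (A : Set L13) ≠ ⊤ := fun h =>
  have := simple_L
  ((normalizer_eq_top_iff.mp h).eq_bot_or_eq_top).elim h1 h2

theorem coatom_of_normal_in {A M : Subgroup L13} (h1 : A ≠ ⊥) (h2 : A ≠ ⊤) (hM : IsCoatom M)
    (h : ∀ g ∈ M, ∀ a ∈ A, g * a * g⁻¹ ∈ A) : normalizer (A : Set L13) = M :=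
  (hM.le_iff.mp (le_normalizer_of_normal h)).resolve_left (normalizer_ne_top h1 h2)

/-- normalisers of conjugates -/
theorem coatom_conj {A B : Subgroup L13} (g : L13)
    (hB : B = A.map (MulAut.conj g).toMonoidHom) (h : IsCoatom (normalizer (A : Set L13))) :
    IsCoatom (normalizer (B : Set L13)) := by
  subst hB
  have h1 : normalizer ((A.map (MulAut.conj g).toMonoidHom : Subgroup L13) : Set L13) =
      (MulAut.conj g).mapSubgroup (normalizer (A : Set L13)) :=
    (map_equiv_normalizer_eq A (MulAut.conj g)).symm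
  rw [h1]
  exact (OrderIso.isCoatom_iff (MulAut.conj g).mapSubgroup _).mpr h

theorem sylow_conj {r : ℕ} [Fact r.Prime] {A B : Subgroup L13} (hA : Nat.card A = r ^ (1092).factorization r)
    (hB : Nat.card B = r ^ (1092).factorization r) :
    ∃ g : L13, B = A.map (MulAut.conj g).toMonoidHom := by
  obtain ⟨g, hg⟩ := MulAction.exists_smul_eq L13 (Sylow.ofCard A (by rw [hA, card_L]))
    (Sylow.ofCard B (by rw [hB, card_L]))
  exact ⟨g, (congrArg Sylow.toSubgroup hg).symm⟩

theorem fact4 : Nat.factorization 1092 2 = 2 ∧ Nat.factorization 1092 3 = 1 ∧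
    Nat.factorization 1092 7 = 1 ∧ Nat.factorization 1092 13 = 1 := by
  have h : ∀ (r a b : ℕ), r.Prime → 1092 = r ^ a * b → ¬ r ∣ b → Nat.factorization 1092 r = a := by
    intro r a b hr h hb
    rw [h, Nat.factorization_mul (pow_ne_zero _ hr.ne_zero) (by rintro rfl; simp at hb)]
    simp [hr.factorization_self, Nat.factorization_eq_zero_of_not_dvd hb]
  exact ⟨h 2 2 273 (by norm_num) (by norm_num) (by norm_num),
    h 3 1 364 (by norm_num) (by norm_num) (by norm_num),
    h 7 1 156 (by norm_num) (by norm_num) (by norm_num),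
    h 13 1 84 (by norm_num) (by norm_num) (by norm_num)⟩

/-- the number of Sylow subgroups gives the normalisers -/
theorem card_normalizer_sylow {r : ℕ} [Fact r.Prime] (hr : Nat.factorization 1092 r = 1) (k : ℕ)
    (hk : ∀ n, n ∣ 1092 / r → n % r = 1 → n = 1 ∨ n = k) {P : Subgroup L13} (hP : Nat.card P = r) :
    Nat.card (normalizer (P : Set L13)) * k = 1092 := by
  have := simple_L
  let S : Sylow r L13 := Sylow.ofCard P (by rw [hP, card_L, hr, pow_one])
  have hidx : (S : Subgroup L13).index = 1092 / r := by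
    have h := P.card_mul_index
    rw [hP, card_L] at h
    exact (Nat.div_eq_of_eq_mul_left (Fact.out : r.Prime).pos (by rw [mul_comm]; exact h.symm)).symm
  have h1 : Nat.card (Sylow r L13) ∣ 1092 / r := hidx ▸ S.card_dvd_index
  have h2 : Nat.card (Sylow r L13) % r = 1 := by
    have := card_sylow_modEq_one r L13
    rwa [Nat.ModEq, Nat.one_mod_eq_one.mpr (Fact.out : r.Prime).ne_one] at this
  have h3 : Nat.card (Sylow r L13) = (normalizer (P : Set L13)).index := S.card_eq_index_normalizer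
  rcases hk _ h1 h2 with h | h
  · exfalso
    rw [h] at h3
    have hP1 : P ≠ ⊥ := fun e => (Fact.out : r.Prime).ne_one (by rw [← hP, e, card_bot])
    have hP2 : P ≠ ⊤ := fun e => by
      rw [e, card_top, card_L] at hP
      exact absurd (hP ▸ (Fact.out : r.Prime)) (by norm_num)
    exact normalizer_ne_top hP1 hP2 (index_eq_one.mp h3.symm)
  · rw [← h, h3, card_mul_index, card_L]

theorem normalizer_13 {P : Subgroup L13} (hP : Nat.card P = 13) :
    IsCoatom (normalizer (P : Set L13)) ∧ Nat.card (normalizer (P : Set L13)) = 78 := by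
  have hN : Nat.card (normalizer (P : Set L13)) = 78 := by
    have := card_normalizer_sylow fact4.2.2.2 14 (fun n hn hn' => by
      have := Nat.le_of_dvd (by norm_num) hn
      interval_cases n <;> simp_all) hP
    omega
  obtain ⟨M, hM, hle⟩ := exists_coatom_ge (A := normalizer (P : Set L13))
    (fun e => by rw [e, card_top, card_L] at hN; omega)
  have hd := card_dvd_of_le hle
  rw [hN] at hd
  rcases coatom_types M hM with h | h | ⟨h, -⟩
  · rw [eq_of_le_of_card_ge hle (h.trans hN.symm).le]; exact ⟨hM, h⟩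
  all_goals (rw [h] at hd; norm_num at hd)

theorem normalizer_7 {P : Subgroup L13} (hP : Nat.card P = 7) :
    IsCoatom (normalizer (P : Set L13)) ∧ Nat.card (normalizer (P : Set L13)) = 14 := by
  have : Fact (Nat.Prime 7) := ⟨by norm_num⟩
  have hN : Nat.card (normalizer (P : Set L13)) = 14 := by
    have := card_normalizer_sylow fact4.2.2.1 78 (fun n hn hn' => by
      have := Nat.le_of_dvd (by norm_num) hn
      interval_cases n <;> simp_all) hP
    omega
  obtain ⟨M, hM, hle⟩ := exists_coatom_ge (A := normalizer (P : Set L13))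
    (fun e => by rw [e, card_top, card_L] at hN; omega)
  have hd := card_dvd_of_le hle
  rw [hN] at hd
  rcases coatom_types M hM with h | h | ⟨h, -⟩
  · rw [h] at hd; norm_num at hd
  · rw [eq_of_le_of_card_ge hle (h.trans hN.symm).le]; exact ⟨hM, h⟩
  · rw [h] at hd; norm_num at hd

/-- the subgroup of the elements killed by `k` of a subgroup isomorphic to a small group -/
theorem exists_torsion {X : Type*} [Group X] (M : Subgroup L13) (e : M ≃* X) (k : ℕ)
    (hmul : ∀ x y : X, x ^ k = 1 → y ^ k = 1 → (x * y) ^ k = 1) :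
    ∃ A : Subgroup L13, A ≤ M ∧ (∀ g ∈ M, ∀ a ∈ A, g * a * g⁻¹ ∈ A) ∧
      (∀ g, g ∈ A ↔ g ∈ M ∧ g ^ k = 1) ∧ Nat.card A = Nat.card {x : X // x ^ k = 1} := by
  let A : Subgroup L13 :=
    { carrier := {g | g ∈ M ∧ g ^ k = 1}
      one_mem' := ⟨one_mem _, one_pow k⟩
      mul_mem' := fun {a b} ha hb => ⟨mul_mem ha.1 hb.1, by
        have h1 := hmul (e ⟨a, ha.1⟩) (e ⟨b, hb.1⟩)
          (by rw [← map_pow, ← map_one e]; congr 1; exact Subtype.ext ha.2)
          (by rw [← map_pow, ← map_one e]; congr 1; exact Subtype.ext hb.2)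
        rw [← map_mul, ← map_pow, ← map_one e] at h1
        exact congrArg Subtype.val (e.injective h1)⟩
      inv_mem' := fun {a} ha => ⟨inv_mem ha.1, by rw [inv_pow, ha.2, inv_one]⟩ }
  refine ⟨A, fun g hg => hg.1, fun g hg a ha => ⟨mul_mem (mul_mem hg ha.1) (inv_mem hg), ?_⟩,
    fun g => Iff.rfl, Nat.card_congr ?_⟩
  · rw [conj_pow, ha.2, mul_one, mul_inv_cancel]
  · exact
      { toFun := fun a => ⟨e ⟨a.1, a.2.1⟩, by
          rw [← map_pow, ← map_one e]; congr 1; exact Subtype.ext a.2.2⟩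
        invFun := fun x => ⟨(e.symm x.1).1, (e.symm x.1).2, by
          have h1 : (e.symm x.1) ^ k = 1 := by rw [← map_pow, x.2, map_one]
          exact congrArg Subtype.val h1⟩
        left_inv := fun a => by simp
        right_inv := fun x => by simp }

theorem dih_cube : ∀ x y : DihedralGroup 6, x ^ 3 = 1 → y ^ 3 = 1 → (x * y) ^ 3 = 1 := by decide

theorem dih_cube_card : Fintype.card {x : DihedralGroup 6 // x ^ 3 = 1} = 3 := by decide

theorem alt_sq : ∀ x y : alternatingGroup (Fin 4), x ^ 2 = 1 → y ^ 2 = 1 → (x * y) ^ 2 = 1 := by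
  decide

theorem alt_sq_card : Fintype.card {x : alternatingGroup (Fin 4) // x ^ 2 = 1} = 4 := by decide

theorem alt_inv_conj : ∀ x y : alternatingGroup (Fin 4), x ^ 2 = 1 → y ^ 2 = 1 → x ≠ 1 → y ≠ 1 →
    ∃ g, g * x * g⁻¹ = y := by decide

theorem exists_D6 : ∃ M : Subgroup L13, IsCoatom M ∧ Nat.card M = 12 ∧ Nonempty (M ≃* DihedralGroup 6) := by
  obtain ⟨M, hM, ⟨e⟩⟩ := S0812.result (F := ZMod 13) (q := 13) (ZMod.card 13) (by decide)
  refine ⟨M, hM, ?_, ⟨e⟩⟩
  rw [Nat.card_congr e.toEquiv, DihedralGroup.nat_card]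
  rfl

theorem normalizer_3 {P : Subgroup L13} (hP : Nat.card P = 3) :
    IsCoatom (normalizer (P : Set L13)) ∧ Nat.card (normalizer (P : Set L13)) = 12 := by
  have : Fact (Nat.Prime 3) := ⟨by norm_num⟩
  obtain ⟨M, hM, hM12, ⟨e⟩⟩ := exists_D6
  obtain ⟨T, -, hn, -, hc⟩ := exists_torsion M e 3 dih_cube
  rw [Nat.card_eq_fintype_card (α := {x : DihedralGroup 6 // x ^ 3 = 1}), dih_cube_card] at hc
  have h1 := coatom_of_normal_in (fun h => by rw [h, card_bot] at hc; omega)
    (fun h => by rw [h, card_top, card_L] at hc; omega) hM hn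
  obtain ⟨g, hg⟩ := sylow_conj (A := T) (B := P) (r := 3) (by rw [hc, fact4.2.1, pow_one])
    (by rw [hP, fact4.2.1, pow_one])
  refine ⟨coatom_conj g hg (h1.symm ▸ hM), ?_⟩
  rw [hg, ← map_equiv_normalizer_eq T (MulAut.conj g), h1,
    card_map_of_injective (MulEquiv.injective _), hM12]

theorem normalizer_2 {A : Subgroup L13} (hA : Nat.card A = 2) :
    IsCoatom (normalizer (A : Set L13)) ∧ Nat.card (normalizer (A : Set L13)) = 12 := by
  have : Fact (Nat.Prime 2) := ⟨by norm_num⟩
  obtain ⟨MA, hMA, ⟨eA⟩⟩ := S5940.result (F := ZMod 13) 13 (ZMod.card 13) (by norm_num)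
    (by norm_num) (by norm_num)
  obtain ⟨V, -, -, hV, hVc⟩ := exists_torsion MA eA 2 alt_sq
  rw [Nat.card_eq_fintype_card (α := {x : alternatingGroup (Fin 4) // x ^ 2 = 1}), alt_sq_card] at hVc
  -- every involution is conjugate into `V`
  have hinV : ∀ t : L13, t ^ 2 = 1 → ∃ g : L13, g * t * g⁻¹ ∈ V := by
    intro t ht
    have hp : IsPGroup 2 (zpowers t) := by
      obtain ⟨i, -, hi⟩ := (Nat.dvd_prime_pow Nat.prime_two).mp
        (orderOf_dvd_of_pow_eq_one (n := 2 ^ 1) (by rwa [pow_one]))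
      exact IsPGroup.of_card (by rw [Nat.card_zpowers, hi])
    obtain ⟨S, hS⟩ := hp.exists_le_sylow
    obtain ⟨g, hg⟩ := sylow_conj (A := (S : Subgroup L13)) (B := V) (r := 2)
      (by rw [S.card_eq_multiplicity, card_L]) (by rw [hVc, fact4.1]; norm_num)
    exact ⟨g, hg ▸ ⟨t, hS (mem_zpowers t), rfl⟩⟩
  obtain ⟨M, hM, hM12, ⟨e⟩⟩ := exists_D6
  set z : L13 := ((e.symm (DihedralGroup.r 3) : M) : L13) with hz
  have hz2 : z ^ 2 = 1 := by
    rw [hz, ← SubgroupClass.coe_pow, ← map_pow]
    rw [show (DihedralGroup.r 3 : DihedralGroup 6) ^ 2 = 1 by decide, map_one]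
    rfl
  have hz1 : z ≠ 1 := fun h => by
    have : e.symm (DihedralGroup.r 3) = e.symm 1 := by rw [map_one]; exact Subtype.ext h
    exact absurd (e.symm.injective this) (by decide)
  have hzc : ∀ g ∈ M, g * z * g⁻¹ = z := by
    intro g hg
    have h1 : ∀ x : DihedralGroup 6, x * DihedralGroup.r 3 * x⁻¹ = DihedralGroup.r 3 := by decide
    have h2 : (⟨g, hg⟩ : M) * e.symm (DihedralGroup.r 3) * (⟨g, hg⟩ : M)⁻¹ =
        e.symm (DihedralGroup.r 3) := e.injective (by simpa using h1 (e ⟨g, hg⟩))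
    exact congrArg Subtype.val h2
  have hzcard : Nat.card (zpowers z) = 2 := by
    rw [Nat.card_zpowers]; exact orderOf_eq_prime hz2 hz1
  have hN := coatom_of_normal_in (A := zpowers z) (fun h => by rw [h, card_bot] at hzcard; omega)
    (fun h => by rw [h, card_top, card_L] at hzcard; omega) hM (fun g hg a ha => by
      obtain ⟨i, rfl⟩ := mem_zpowers_iff.mp ha
      rw [← conj_zpow, hzc g hg]; exact zpow_mem (mem_zpowers z) i)
  have : Nontrivial A := by rw [← Finite.one_lt_card_iff_nontrivial]; omega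
  obtain ⟨⟨t, htA⟩, ht1'⟩ := exists_ne (1 : A)
  have ht1 : t ≠ 1 := fun h => ht1' (Subtype.ext h)
  have ht2 : t ^ 2 = 1 := by
    have h := pow_card_eq_one' (x := (⟨t, htA⟩ : A))
    rw [hA] at h
    exact congrArg Subtype.val h
  have hAz : A = zpowers t := (eq_of_le_of_card_ge (zpowers_le.mpr htA)
    (by rw [hA, Nat.card_zpowers, orderOf_eq_prime ht2 ht1])).symm
  obtain ⟨g1, h1⟩ := hinV t ht2
  obtain ⟨g2, h2⟩ := hinV z hz2
  rw [hV] at h1 h2
  obtain ⟨g3, h3⟩ := alt_inv_conj (eA ⟨_, h2.1⟩) (eA ⟨_, h1.1⟩)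
    (by rw [← map_pow, ← map_one eA]; congr 1; exact Subtype.ext h2.2)
    (by rw [← map_pow, ← map_one eA]; congr 1; exact Subtype.ext h1.2)
    (fun h => hz1 (conj_eq_one_iff.mp (congrArg Subtype.val (eA.injective (h.trans (map_one eA).symm)))))
    (fun h => ht1 (conj_eq_one_iff.mp (congrArg Subtype.val (eA.injective (h.trans (map_one eA).symm)))))
  have h4 : eA.symm g3 * ⟨_, h2.1⟩ * (eA.symm g3)⁻¹ = ⟨_, h1.1⟩ := eA.injective (by simpa using h3)
  have h5 : (eA.symm g3 : L13) * (g2 * z * g2⁻¹) * (eA.symm g3 : L13)⁻¹ = g1 * t * g1⁻¹ :=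
    congrArg Subtype.val h4
  set g := g1⁻¹ * (eA.symm g3 : L13) * g2 with hg
  have hgz : A = (zpowers z).map (MulAut.conj g).toMonoidHom := by
    rw [MonoidHom.map_zpowers, hAz]
    congr 1
    show t = g * z * g⁻¹
    calc t = g1⁻¹ * (g1 * t * g1⁻¹) * g1 := by group
      _ = _ := by rw [← h5, hg]; group
  refine ⟨coatom_conj g hgz (hN.symm ▸ hM), ?_⟩
  rw [hgz, ← map_equiv_normalizer_eq (zpowers z) (MulAut.conj g), hN,
    card_map_of_injective (MulEquiv.injective _), hM12]

/-- in `L₂(13)` all proper non-trivial subgroups have maximal normalisers -/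
theorem key (A : Subgroup L13) (h1 : A ≠ ⊥) (h2 : A ≠ ⊤) : IsCoatom (normalizer (A : Set L13)) := by
  have := simple_L
  obtain ⟨M, hM, hle⟩ := exists_coatom_ge h2
  have hMdvd : Nat.card A ∣ 78 ∨ Nat.card A ∣ 14 ∨ Nat.card A ∣ 12 := by
    have hd := card_dvd_of_le hle
    rcases coatom_types M hM with h | h | ⟨h, -⟩ <;> rw [h] at hd
    exacts [Or.inl hd, Or.inr (Or.inl hd), Or.inr (Or.inr hd)]
  have hA1 : Nat.card A ≠ 1 := fun h => h1 (card_eq_one.mp h)
  -- a subgroup of index at most two in a maximal subgroup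
  have hindex2 : ∀ M' : Subgroup L13, IsCoatom M' → A ≤ M' → Nat.card M' ≤ 2 * Nat.card A →
      IsCoatom (normalizer (A : Set L13)) := by
    intro M' hM' hle' hc
    rw [coatom_of_normal_in h1 h2 hM' ?_]
    · exact hM'
    have hidx : (A.subgroupOf M').index ≤ 2 := by
      have h := (A.subgroupOf M').card_mul_index
      rw [Nat.card_congr (subgroupOfEquivOfLe hle').toEquiv] at h
      have hpos : 0 < Nat.card A := Nat.card_pos
      by_contra hlt
      nlinarith
    have hn : (A.subgroupOf M').Normal := by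
      rcases Nat.lt_or_ge (A.subgroupOf M').index 2 with h | h
      · have h0 : (A.subgroupOf M').index ≠ 0 := index_ne_zero_of_finite
        rw [index_eq_one.mp (show (A.subgroupOf M').index = 1 by omega)]
        infer_instance
      · exact normal_of_index_eq_two (le_antisymm hidx h)
    exact fun g hg a ha => hn.conj_mem ⟨a, hle' ha⟩ ha ⟨g, hg⟩
  have : Fact (Nat.Prime 7) := ⟨by norm_num⟩
  by_cases h13 : 13 ∣ Nat.card A
  · obtain ⟨⟨x, hx⟩, hxo⟩ := exists_prime_orderOf_dvd_card' 13 h13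
    rw [Subgroup.orderOf_mk] at hxo
    set P := zpowers x with hP
    have hPc : Nat.card P = 13 := by rw [hP, Nat.card_zpowers, hxo]
    obtain ⟨hMb, hMb78⟩ := normalizer_13 hPc
    set Mb := normalizer (P : Set L13) with hMbdef
    have hPA : P ≤ A := zpowers_le.mpr hx
    -- `P` is the only subgroup of order 13 in a maximal subgroup containing `A`
    have hAMb : A ≤ Mb := by
      have hd := card_dvd_of_le (hPA.trans hle)
      rw [hPc] at hd
      have h78 : Nat.card M = 78 := by
        rcases coatom_types M hM with h | h | ⟨h, -⟩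
        · exact h
        all_goals (rw [h] at hd; norm_num at hd)
      let S : Sylow 13 M := Sylow.ofCard (P.subgroupOf M) (by
        rw [Nat.card_congr (subgroupOfEquivOfLe (hPA.trans hle)).toEquiv, hPc, h78,
          show (78 : ℕ) = 13 ^ 1 * 6 by norm_num, Nat.factorization_mul (by norm_num) (by norm_num)]
        simp [(show Nat.Prime 13 by norm_num).factorization_self,
          Nat.factorization_eq_zero_of_not_dvd (show ¬ 13 ∣ 6 by norm_num)])
      have hone : Nat.card (Sylow 13 M) = 1 := by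
        have h := S.card_dvd_index
        have hi : (S : Subgroup M).index = 6 := by
          have h := (P.subgroupOf M).card_mul_index
          rw [Nat.card_congr (subgroupOfEquivOfLe (hPA.trans hle)).toEquiv, hPc, h78] at h
          change (P.subgroupOf M).index = 6
          omega
        rw [hi] at h
        have h2 := card_sylow_modEq_one 13 M
        unfold Nat.ModEq at h2
        have := Nat.le_of_dvd (by norm_num) h
        omega
      have hSn : (P.subgroupOf M).Normal := by
        have := (Nat.card_eq_one_iff_unique.mp hone).1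
        exact (S.normal_of_subsingleton : (S : Subgroup M).Normal)
      exact hle.trans (le_normalizer_of_normal fun g hg a ha =>
        hSn.conj_mem ⟨a, hle (hPA ha)⟩ ha ⟨g, hg⟩)
    -- `C(P) = P`
    set C := centralizer (P : Set L13) with hC
    have hCMb : C ≤ Mb := centralizer_le_normalizer _
    have hCd := card_dvd_of_le hCMb
    rw [hMb78] at hCd
    have hno : ∀ r : ℕ, r = 2 ∨ r = 3 → ¬ r ∣ Nat.card C := by
      intro r hr hrd
      have hrp : r.Prime := by rcases hr with rfl | rfl <;> norm_num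
      haveI := Fact.mk hrp
      obtain ⟨⟨y, hy⟩, hyo⟩ := exists_prime_orderOf_dvd_card' r hrd
      rw [Subgroup.orderOf_mk] at hyo
      have h12 : Nat.card (normalizer (zpowers y : Set L13)) = 12 := by
        rcases hr with rfl | rfl
        · exact (normalizer_2 (by rw [Nat.card_zpowers, hyo])).2
        · exact (normalizer_3 (by rw [Nat.card_zpowers, hyo])).2
      have hxN : P ≤ normalizer (zpowers y : Set L13) := le_normalizer_of_normal fun g hg a ha => by
        obtain ⟨i, rfl⟩ := mem_zpowers_iff.mp ha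
        rw [← conj_zpow, mem_centralizer_iff.mp hy g hg, mul_inv_cancel_right]
        exact zpow_mem (mem_zpowers y) i
      have := card_dvd_of_le hxN
      rw [hPc, h12] at this
      norm_num at this
    have hCP : C = P := by
      refine (eq_of_le_of_card_ge (le_centralizer P) ?_).symm
      rw [hPc]
      have : Nat.card C ∈ Nat.divisors 78 := Nat.mem_divisors.mpr ⟨hCd, by norm_num⟩
      rw [show Nat.divisors 78 = {1, 2, 3, 6, 13, 26, 39, 78} by decide] at this
      have e2 := hno 2 (Or.inl rfl)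
      have e3 := hno 3 (Or.inr rfl)
      simp only [Finset.mem_insert, Finset.mem_singleton] at this
      rcases this with e | e | e | e | e | e | e | e <;> rw [e] at e2 e3 ⊢ <;> omega
    rw [coatom_of_normal_in h1 h2 hMb ?_]
    · exact hMb
    intro g hg a ha
    have hxP : x ∈ P := mem_zpowers x
    have hpow : ∀ g ∈ Mb, ∃ i : ℤ, g * x * g⁻¹ = x ^ i := fun g hg => by
      obtain ⟨i, hi⟩ := mem_zpowers_iff.mp ((mem_normalizer_iff.mp hg x).mp hxP)
      exact ⟨i, hi.symm⟩
    obtain ⟨i, hi⟩ := hpow g hg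
    obtain ⟨j, hj⟩ := hpow a (hAMb ha)
    have hcomm : ⁅g, a⁆ ∈ C := by
      rw [hC, mem_centralizer_iff]
      intro y hy
      obtain ⟨k, rfl⟩ := mem_zpowers_iff.mp hy
      have hgg : (g * a) * x * (g * a)⁻¹ = (a * g) * x * (a * g)⁻¹ := by
        calc g * a * x * (g * a)⁻¹ = g * (a * x * a⁻¹) * g⁻¹ := by group
          _ = (g * x * g⁻¹) ^ j := by rw [hj, conj_zpow]
          _ = (a * x * a⁻¹) ^ i := by rw [hi, hj, ← zpow_mul, ← zpow_mul, mul_comm]
          _ = a * (g * x * g⁻¹) * a⁻¹ := by rw [hi, conj_zpow]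
          _ = _ := by group
      have hfix : ⁅g, a⁆ * x * ⁅g, a⁆⁻¹ = x := by
        obtain ⟨m, hm⟩ := hpow _ (inv_mem (mul_mem (hAMb ha) hg))
        have e1 : x = (a * g) * ((a * g)⁻¹ * x * (a * g)) * (a * g)⁻¹ := by group
        have e2 : (a * g)⁻¹ * x * (a * g) = x ^ m := by rw [← hm]; group
        calc ⁅g, a⁆ * x * ⁅g, a⁆⁻¹ = (g * a) * ((a * g)⁻¹ * x * (a * g)) * (g * a)⁻¹ := by
              simp only [commutatorElement_def]; group
          _ = ((g * a) * x * (g * a)⁻¹) ^ m := by rw [e2, conj_zpow]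
          _ = ((a * g) * x * (a * g)⁻¹) ^ m := by rw [hgg]
          _ = (a * g) * ((a * g)⁻¹ * x * (a * g)) * (a * g)⁻¹ := by rw [e2, conj_zpow]
          _ = x := e1.symm
      have hc : Commute ⁅g, a⁆ x := mul_inv_eq_iff_eq_mul.mp hfix
      exact (hc.zpow_right k).eq.symm
    rw [hCP] at hcomm
    have : g * a * g⁻¹ = ⁅g, a⁆ * a := by simp only [commutatorElement_def]; group
    rw [this]
    exact mul_mem (hPA hcomm) ha
  by_cases h7 : 7 ∣ Nat.card A
  · refine hindex2 M hM hle ?_
    have hpos : 0 < Nat.card A := Nat.card_pos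
    have := Nat.le_of_dvd hpos h7
    have hd := h7.trans (card_dvd_of_le hle)
    rcases coatom_types M hM with h | h | ⟨h, -⟩ <;> rw [h] at hd ⊢ <;> omega
  have hset : Nat.card A = 2 ∨ Nat.card A = 3 ∨ Nat.card A = 4 ∨ Nat.card A = 6 ∨ Nat.card A = 12 := by
    have hl : Nat.card A ≤ 78 := by
      rcases hMdvd with h | h | h <;> have := Nat.le_of_dvd (by norm_num) h <;> omega
    have hp : 0 < Nat.card A := Nat.card_pos
    interval_cases h : Nat.card A <;> omega
  rcases hset with hc | hc | hc | hc | hc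
  · exact (normalizer_2 hc).1
  · exact (normalizer_3 hc).1
  · have : Fact (Nat.Prime 2) := ⟨by norm_num⟩
    obtain ⟨MA, hMA, ⟨eA⟩⟩ := S5940.result (F := ZMod 13) 13 (ZMod.card 13) (by norm_num)
      (by norm_num) (by norm_num)
    obtain ⟨V, -, hVn, -, hVc⟩ := exists_torsion MA eA 2 alt_sq
    rw [Nat.card_eq_fintype_card (α := {x : alternatingGroup (Fin 4) // x ^ 2 = 1}), alt_sq_card] at hVc
    obtain ⟨g, hg⟩ := sylow_conj (A := V) (B := A) (r := 2) (by rw [hVc, fact4.1]; norm_num)
      (by rw [hc, fact4.1]; norm_num)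
    refine coatom_conj g hg ?_
    rw [coatom_of_normal_in (fun h => by rw [h, card_bot] at hVc; omega)
      (fun h => by rw [h, card_top, card_L] at hVc; omega) hMA hVn]
    exact hMA
  · have : Fact (Nat.Prime 3) := ⟨by norm_num⟩
    obtain ⟨⟨x, hx⟩, hxo⟩ := exists_prime_orderOf_dvd_card' (G := A) 3 (by rw [hc]; norm_num)
    rw [Subgroup.orderOf_mk] at hxo
    obtain ⟨hT, hT12⟩ := normalizer_3 (P := zpowers x) (by rw [Nat.card_zpowers, hxo])
    refine hindex2 _ hT (le_normalizer_of_normal fun g hg a ha => ?_) (by omega)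
    have hn : ((zpowers x).subgroupOf A).Normal := normal_of_index_eq_two (by
      have h := ((zpowers x).subgroupOf A).card_mul_index
      rw [Nat.card_congr (subgroupOfEquivOfLe (zpowers_le.mpr hx)).toEquiv, Nat.card_zpowers, hxo,
        hc] at h
      omega)
    exact hn.conj_mem ⟨a, zpowers_le.mpr hx ha⟩ ha ⟨g, hg⟩
  · refine hindex2 M hM hle ?_
    have hd := card_dvd_of_le hle
    rcases coatom_types M hM with h | h | ⟨h, -⟩ <;> rw [h, hc] at hd <;> omega

/-- the coprime direct product with a central extension -/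
theorem product {K S : Type*} [Group K] [CommGroup S] [Finite K] [Finite S]
    (π : K →* L13) (hπ : Function.Surjective π) (hcen : π.ker ≤ center K)
    (hinv : π.ker = ⊥ ∨ ∀ t : K, t ≠ 1 → t * t = 1 → π.ker ≤ zpowers t)
    (hKS : (Nat.card K).Coprime (Nat.card S)) (H : Subgroup (K × S)) (hH : ¬ H.Normal) :
    IsCoatom (normalizer (H : Set (K × S))) := by
  obtain ⟨u, w, huw⟩ := Int.isCoprime_iff_nat_coprime.mpr
    (show (Int.natAbs (Nat.card K : ℤ)).Coprime (Int.natAbs (Nat.card S : ℤ)) by simpa using hKS)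
  have hsplit : ∀ (J : Subgroup (K × S)) (a : K) (b : S), (a, b) ∈ J → (a, 1) ∈ J := by
    intro J a b h
    have h1 : ((a, b) : K × S) ^ (w * (Nat.card S : ℤ)) = (a, 1) := by
      rw [Prod.pow_mk]
      congr 1
      · conv_rhs => rw [← zpow_one a, ← huw, zpow_add, mul_comm u, zpow_mul, zpow_natCast,
          pow_card_eq_one', one_zpow, one_mul]
      · rw [mul_comm, zpow_mul, zpow_natCast, pow_card_eq_one', one_zpow]
    exact h1 ▸ zpow_mem h _
  set H₁ := H.comap (MonoidHom.inl K S) with hH₁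
  have hmem : ∀ (J : Subgroup (K × S)) (a : K) (b : S), (a, b) ∈ J ↔
      (a, (1 : S)) ∈ J ∧ ((1 : K), b) ∈ J := by
    refine fun J a b => ⟨fun h => ⟨hsplit J a b h, ?_⟩, fun h => by simpa using mul_mem h.1 h.2⟩
    simpa using mul_mem (inv_mem (hsplit J a b h)) h
  have hconj : ∀ (g : K × S) (a : K) (b : S), g * (a, b) * g⁻¹ = (g.1 * a * g.1⁻¹, b) := by
    intro g a b
    ext <;> simp
  have hH₁n : ¬ H₁.Normal := by
    intro hn
    refine hH ⟨fun n hn' g => ?_⟩
    obtain ⟨a, b⟩ := n
    rw [hconj, hmem]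
    exact ⟨hn.conj_mem a ((hmem H a b).mp hn').1 g.1, ((hmem H a b).mp hn').2⟩
  -- reduce to `K`
  suffices hK : IsCoatom (normalizer (H₁ : Set K)) by
    have hN : ∀ g : K × S, g ∈ normalizer (H : Set (K × S)) ↔ g.1 ∈ normalizer (H₁ : Set K) := by
      intro g
      rw [mem_normalizer_iff, mem_normalizer_iff]
      constructor
      · intro h a
        have h1 := h (a, 1)
        rw [hconj] at h1
        exact h1
      · rintro h ⟨a, b⟩
        rw [hconj, hmem H a b, hmem H (g.1 * a * g.1⁻¹) b]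
        exact and_congr_left fun _ => h a
    refine ⟨fun h => hK.1 (eq_top_iff.mpr fun a _ => (hN (a, 1)).mp (h ▸ mem_top _)), ?_⟩
    intro J hJ
    obtain ⟨g, hgJ, hg⟩ := SetLike.exists_of_lt hJ
    have h1 : normalizer (H₁ : Set K) < J.comap (MonoidHom.inl K S) := by
      refine lt_of_le_of_ne (fun a ha => hJ.le ((hN (a, 1)).mpr ha)) fun e => hg ((hN g).mpr ?_)
      rw [e]
      exact hsplit J g.1 g.2 hgJ
    have h2 := hK.2 _ h1
    rw [eq_top_iff]
    rintro ⟨a, b⟩ -
    refine (hmem J a b).mpr ⟨(h2 ▸ mem_top a : a ∈ J.comap (MonoidHom.inl K S)), hJ.le ((hN _).mpr ?_)⟩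
    exact one_mem _
  set Z := π.ker with hZ
  set A := H₁.map π with hA
  have hA1 : A ≠ ⊥ := fun h => hH₁n ⟨fun n hn g => by
    have hc := mem_center_iff.mp (hcen ((Subgroup.map_eq_bot_iff _).mp h hn)) g
    rw [hc, mul_inv_cancel_right]; exact hn⟩
  have hA2 : A ≠ ⊤ := fun h => hH₁n ⟨fun n hn g => by
    obtain ⟨m, hm, hmg⟩ : π g ∈ A := h ▸ mem_top _
    have hz : m⁻¹ * g ∈ Z := by rw [hZ, MonoidHom.mem_ker, map_mul, map_inv, hmg, inv_mul_cancel]
    have hc := mem_center_iff.mp (hcen hz) n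
    rw [show g * n * g⁻¹ = m * ((m⁻¹ * g) * n) * (m⁻¹ * g)⁻¹ * m⁻¹ by group, ← hc]
    simpa [mul_assoc] using mul_mem (mul_mem hm hn) (inv_mem hm)⟩
  have hcomap : normalizer (H₁ : Set K) = (normalizer (A : Set L13)).comap π := by
    have hone : ∀ g : K, g ∈ (normalizer (A : Set L13)).comap π → ∀ h ∈ H₁, g * h * g⁻¹ ∈ H₁ := by
      intro g hg h hh
      obtain ⟨m, hm, hmh⟩ : π g * π h * (π g)⁻¹ ∈ A :=
        (mem_normalizer_iff.mp hg (π h)).mp ⟨h, hh, rfl⟩
      set z := m⁻¹ * (g * h * g⁻¹) with hz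
      have hzZ : z ∈ Z := by
        rw [hZ, MonoidHom.mem_ker, hz, map_mul, map_inv, hmh, map_mul, map_mul, map_inv,
          inv_mul_cancel]
      have hgh : g * h * g⁻¹ = m * z := by rw [hz]; group
      rw [hgh]
      refine mul_mem hm ?_
      rcases hinv with hbot | hinv
      · have : z = 1 := mem_bot.mp (hbot ▸ hzZ : z ∈ (⊥ : Subgroup K))
        rw [this]; exact one_mem _
      by_cases he : 2 ∣ Nat.card H₁
      · haveI : Fact (Nat.Prime 2) := ⟨Nat.prime_two⟩
        obtain ⟨⟨t, ht⟩, hto⟩ := exists_prime_orderOf_dvd_card' 2 he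
        rw [Subgroup.orderOf_mk] at hto
        have ht1 : t ≠ 1 := fun e => by rw [e, orderOf_one] at hto; omega
        have ht2 : t * t = 1 := by rw [← sq, ← hto, pow_orderOf_eq_one]
        exact (zpowers_le.mpr ht) (hinv t ht1 ht2 hzZ)
      · -- the odd order case
        have hcom : Commute m z := (mem_center_iff.mp (hcen hzZ) m)
        have hp : ∀ y ∈ H₁, y ^ Nat.card H₁ = 1 := fun y hy =>
          congrArg Subtype.val (pow_card_eq_one' (x := (⟨y, hy⟩ : H₁)))
        have h1 : (g * h * g⁻¹) ^ Nat.card H₁ = 1 := by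
          rw [conj_pow, hp h hh, mul_one, mul_inv_cancel]
        rw [hgh, hcom.mul_pow, hp m hm, one_mul] at h1
        by_cases hz1 : z = 1
        · rw [hz1]; exact one_mem _
        -- `Z` has exponent two
        exfalso
        obtain ⟨r, hr, hrd⟩ := Nat.exists_prime_and_dvd (mt orderOf_eq_one_iff.mp hz1)
        haveI := Fact.mk hr
        haveI : Fact (Nat.Prime 2) := ⟨Nat.prime_two⟩
        have hK2 : 2 ∣ Nat.card K := (by rw [card_L]; norm_num : 2 ∣ Nat.card L13).trans
          (card_dvd_of_surjective π hπ)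
        obtain ⟨t, hto⟩ := exists_prime_orderOf_dvd_card' 2 hK2
        have ht1 : t ≠ 1 := fun e => by rw [e, orderOf_one] at hto; omega
        have ht2 : t * t = 1 := by rw [← sq, ← hto, pow_orderOf_eq_one]
        have hz2 : orderOf z ∣ 2 := by
          have h3 := Subgroup.orderOf_dvd_natCard _ (hinv t ht1 ht2 hzZ)
          rwa [Nat.card_zpowers, hto] at h3
        have := (Nat.prime_dvd_prime_iff_eq hr Nat.prime_two).mp (hrd.trans hz2)
        exact he (this ▸ hrd.trans (orderOf_dvd_of_pow_eq_one h1))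
    refine le_antisymm (le_normalizer_map π |> map_le_iff_le_comap.mp) fun g hg => ?_
    rw [mem_normalizer_iff]
    exact fun h => ⟨hone g hg h, fun hh => by
      simpa [mul_assoc] using hone g⁻¹ (inv_mem hg) _ hh⟩
  rw [hcomap]
  have hc := key A hA1 hA2
  refine ⟨fun h => hc.1 (comap_injective hπ (h.trans (comap_top π).symm)), fun J hJ => ?_⟩
  have hJc : (J.map π).comap π = J := comap_map_eq_self (le_trans (fun z hz => by
    show π z ∈ normalizer (A : Set L13)
    rw [MonoidHom.mem_ker.mp hz]; exact one_mem _) hJ.le)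
  have h1 : normalizer (A : Set L13) < J.map π := by
    refine lt_of_le_of_ne (fun a ha => ?_) fun e => hJ.ne (e ▸ hJc)
    obtain ⟨b, rfl⟩ := hπ a
    exact mem_map_of_mem π (hJ.le ha)
  rw [← hJc, hc.2 _ h1, comap_top]

/-- Let K be isomorphic to PSL(2, 13) or to SL(2, 13) and let S be a finite abelian group of order coprime to the order of K. Then in the direct product K × S every subgroup that is not normal has a normalizer that is a maximal subgroup. -/
theorem result {K S : Type*} [Group K] [CommGroup S] [Finite K] [Finite S]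
    (hK : Nonempty (K ≃* Matrix.ProjectiveSpecialLinearGroup (Fin 2) (ZMod 13)) ∨
      Nonempty (K ≃* Matrix.SpecialLinearGroup (Fin 2) (ZMod 13)))
    (hKS : (Nat.card K).Coprime (Nat.card S)) (H : Subgroup (K × S)) (hH : ¬ H.Normal) :
    IsCoatom (Subgroup.normalizer (H : Set (K × S))) := by
  rcases hK with ⟨⟨e⟩⟩ | ⟨⟨e⟩⟩
  · refine product e.toMonoidHom e.surjective ?_ (Or.inl ?_) hKS H hH
    · rw [(MonoidHom.ker_eq_bot_iff _).mpr e.injective]; exact bot_le
    · exact (MonoidHom.ker_eq_bot_iff _).mpr e.injective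
  · set π : K →* L13 := (QuotientGroup.mk' (Subgroup.center (Matrix.SpecialLinearGroup (Fin 2) (ZMod 13)))).comp
      e.toMonoidHom with hπdef
    have hker : ∀ z : K, z ∈ π.ker ↔ e z ∈ Subgroup.center (Matrix.SpecialLinearGroup (Fin 2) (ZMod 13)) :=
      fun z => by rw [hπdef, MonoidHom.mem_ker]; exact QuotientGroup.eq_one_iff _
    refine product π ((QuotientGroup.mk'_surjective _).comp e.surjective) ?_ (Or.inr ?_) hKS H hH
    · intro z hz
      rw [mem_center_iff]
      intro g
      apply e.injective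
      rw [map_mul, map_mul]
      exact mem_center_iff.mp ((hker z).mp hz) (e g)
    · intro t ht1 ht2 z hz
      have h2 : (2 : ZMod 13) ≠ 0 := by decide
      have hte := CfsgLib.Classical.sl2_involution h2 (e t)
        (fun h => ht1 (e.injective (h.trans (map_one e).symm)))
        (by rw [← map_mul, ht2, map_one])
      rcases CfsgLib.Classical.sl2_center_eq ((hker z).mp hz) with h | h
      · rw [e.injective (h.trans (map_one e).symm)]; exact one_mem _
      · have : z = t := e.injective (by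
          rw [h]; exact Subtype.ext (by rw [hte]; rfl))
        rw [this]; exact mem_zpowers t

end Cfsg.Agent.S4234
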