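import Cfsg.Statements.S4235
import Cfsg.Agent.Lib.Perm.FrobSystem.Action
import Cfsg.Agent.Lib.Perm.ZGroup.SuzukiUnique.Iso
import Cfsg.Agent.Lib.Perm.SharpThreeOdd
import Cfsg.Agent.Lib.Involution.ZStar.Corollaries
import Cfsg.Agent.Lib.Classical.SLOrders
import Cfsg.Agent.S0205

set_option autoImplicit false
open scoped Pointwise
open Cfsg

namespace Cfsg.Agent.S4235

/-- A solvable subgroup lies in a maximal one. -/
theorem exists_maxSolv {G : Type*} [Group G] [Finite G] {N : Subgroup G} (hN : Group.IsSolvable N) :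
    ∃ M : Subgroup G, N ≤ M ∧ Group.IsSolvable M ∧ ∀ M' : Subgroup G, M < M' → ¬ Group.IsSolvable M' := by
  obtain ⟨M, hle, hM⟩ := Finite.exists_le_maximal (p := fun K : Subgroup G => Group.IsSolvable K) hN
  exact ⟨M, hle, hM.prop, fun M' h h' => h.not_ge (hM.2 h' h.le)⟩

/-- The join of a solvable normal subgroup and a solvable subgroup is solvable. -/
theorem solvable_sup {G : Type*} [Group G] {A M : Subgroup G} [A.Normal]
    [Group.IsSolvable A] [Group.IsSolvable M] : Group.IsSolvable (A ⊔ M : Subgroup G) := by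
  let P := M.map (QuotientGroup.mk' A)
  haveI : Group.IsSolvable P :=
    Group.isSolvable_of_surjective ((QuotientGroup.mk' A).subgroupMap_surjective M)
  have hmem : ∀ x : (A ⊔ M : Subgroup G), QuotientGroup.mk' A x ∈ P := fun x => by
    have h1 : (A ⊔ M).map (QuotientGroup.mk' A) = P := by
      rw [Subgroup.map_sup, QuotientGroup.map_mk'_self, bot_sup_eq]
    exact h1 ▸ Subgroup.mem_map_of_mem _ x.2
  refine Group.isSolvable_of_ker_le_range (Subgroup.inclusion (le_sup_left : A ≤ A ⊔ M))
    (((QuotientGroup.mk' A).comp (A ⊔ M).subtype).codRestrict P hmem) fun x hx => ?_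
  have hxA : (x : G) ∈ A := (QuotientGroup.eq_one_iff _).mp (congrArg Subtype.val hx)
  exact ⟨⟨x, hxA⟩, rfl⟩

/-- A solvable non-trivial normal subgroup contains an abelian one. -/
theorem exists_abelian_normal {G : Type*} [Group G] {N : Subgroup G} [N.Normal]
    [hs : Group.IsSolvable N] (hN : N ≠ ⊥) :
    ∃ A : Subgroup G, A.Normal ∧ A ≠ ⊥ ∧ ∀ x ∈ A, ∀ y ∈ A, x * y = y * x := by
  classical
  have hex : ∃ n, derivedSeries N n = ⊥ := hs.solvable
  have hn := Nat.find_spec hex
  obtain ⟨k, hk⟩ : ∃ k, Nat.find hex = k + 1 := by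
    refine ⟨Nat.find hex - 1, (Nat.succ_pred_eq_of_pos (Nat.pos_of_ne_zero fun h0 => hN ?_)).symm⟩
    rw [h0, derivedSeries_zero] at hn
    refine eq_bot_iff.mpr fun x hx => Subgroup.mem_bot.mpr ?_
    have h1 : (⟨x, hx⟩ : N) = 1 := by
      have := Subgroup.mem_top (⟨x, hx⟩ : N)
      rw [hn] at this
      exact Subgroup.mem_bot.mp this
    exact congrArg Subtype.val h1
  rw [hk, derivedSeries_succ] at hn
  refine ⟨(derivedSeries N k).map N.subtype, inferInstance, ?_, ?_⟩
  · rw [Ne, Subgroup.map_eq_bot_iff_of_injective _ N.subtype_injective]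
    exact Nat.find_min hex (by omega)
  · rintro _ ⟨x, hx, rfl⟩ _ ⟨y, hy, rfl⟩
    have h1 := Subgroup.commutator_mem_commutator hx hy
    rw [hn, Subgroup.mem_bot, commutatorElement_eq_one_iff_mul_comm] at h1
    exact congrArg Subtype.val h1

/-- Let G be a finite group. Call a subgroup maximal solvable if it is solvable and not properly contained in a solvable subgroup. Suppose F assigns to each maximal solvable subgroup M a normal subgroup F(M) of M such that: every element of M outside F(M) centralizes no non-identity element of F(M); F(M) meets each conjugate g F(M) g⁻¹ with g outside M trivially; and F(M) is nontrivial unless M is abelian. Then G is solvable, or G is isomorphic to SL(2, K) for a finite field K of characteristic 2 with at least 4 elements, or G is isomorphic to a Suzuki group. -/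
theorem result {G : Type*} [Group G] [Finite G] (F : Subgroup G → Subgroup G)
    (h : ∀ M : Subgroup G, (Group.IsSolvable M ∧ ∀ M' : Subgroup G, M < M' → ¬ Group.IsSolvable M') →
      F M ≤ M ∧ M ≤ Subgroup.normalizer (F M : Set G) ∧
      (∀ a ∈ M, a ∉ F M → ∀ x ∈ F M, x * a = a * x → x = 1) ∧
      (∀ g : G, g ∉ M → F M ⊓ (MulAut.conj g • F M) = ⊥) ∧
      (F M ≠ ⊥ ∨ IsMulCommutative M)) :
    Group.IsSolvable G ∨
      (∃ (K : Type) (_ : Field K) (_ : Fintype K), (∃ n : ℕ, 2 ≤ n ∧ Fintype.card K = 2 ^ n) ∧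
        Nonempty (G ≃* Matrix.SpecialLinearGroup (Fin 2) K)) ∨
      Cfsg.Lie.IsoSuzuki G := by
  classical
  refine or_iff_not_imp_left.mpr fun hns => ?_
  haveI : Fact (Nat.Prime 2) := ⟨Nat.prime_two⟩
  obtain ⟨T⟩ : Nonempty (Sylow 2 G) := inferInstance
  set N := Subgroup.normalizer ((T : Subgroup G) : Set G) with hNdef
  have hTN : (T : Subgroup G) ≤ N := Subgroup.le_normalizer
  -- the normaliser of a Sylow 2-subgroup is solvable
  have hN : Group.IsSolvable N := by
    set T' := (T : Subgroup G).subgroupOf N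
    haveI : T'.Normal := Subgroup.normal_in_normalizer
    haveI : Group.IsSolvable T' := by
      haveI : Group.IsNilpotent T' := (T.isPGroup'.comap_subtype).isNilpotent
      infer_instance
    have hodd : Odd (Nat.card (N ⧸ T')) := by
      rw [← Nat.not_even_iff_odd, even_iff_two_dvd, ← Subgroup.index_eq_card]
      exact fun hd => T.not_dvd_index (hd.trans (Subgroup.relIndex_dvd_index_of_le hTN))
    haveI := Cfsg.Agent.S0205.result hodd
    exact (Group.isSolvable_iff_subgroup_quotient T').mpr ⟨inferInstance, inferInstance⟩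
  obtain ⟨M, hNM, hMs, hMmax⟩ := exists_maxSolv hN
  obtain ⟨hFM, hnorm, hfpf, hti, hF⟩ := h M ⟨hMs, hMmax⟩
  -- `M` is not abelian, as `G` has no normal 2-complement
  have hFne : F M ≠ ⊥ := by
    refine hF.resolve_right fun hab => hns ?_
    have hcomm : ∀ x y : G, x ∈ M → y ∈ M → x * y = y * x := fun x y hx hy =>
      congrArg Subtype.val (hab.1.1 (⟨x, hx⟩ : M) ⟨y, hy⟩)
    have hle : Subgroup.normalizer ((T : Subgroup G) : Set G) ≤
        Subgroup.centralizer ((T : Subgroup G) : Set G) := fun x hx =>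
      Subgroup.mem_centralizer_iff.mpr fun y hy => hcomm y x (hNM (hTN hy)) (hNM hx)
    set K := (MonoidHom.transferSylow T hle).ker with hK
    have hc := MonoidHom.ker_transferSylow_isComplement' T hle
    haveI : Group.IsSolvable K := Cfsg.Agent.S0205.result (by
      rw [← Nat.not_even_iff_odd, even_iff_two_dvd]
      exact fun hd => MonoidHom.not_dvd_card_ker_transferSylow T hle hd)
    haveI : Group.IsSolvable (T : Subgroup G) := by
      haveI : Group.IsNilpotent (T : Subgroup G) := T.isPGroup'.isNilpotent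
      infer_instance
    haveI : Group.IsSolvable (G ⧸ K) :=
      Group.isSolvable_of_surjective (f := (QuotientGroup.mk' K).comp (T : Subgroup G).subtype) (fun x => by
        obtain ⟨g, rfl⟩ := QuotientGroup.mk_surjective x
        obtain ⟨⟨k, t⟩, hkt⟩ := hc.2 g
        refine ⟨t, ?_⟩
        show QuotientGroup.mk' K (t : G) = QuotientGroup.mk' K g
        rw [← hkt, map_mul, show QuotientGroup.mk' K (k : G) = 1 from
          (QuotientGroup.eq_one_iff _).mpr k.2, one_mul])
    exact (Group.isSolvable_iff_subgroup_quotient K).mpr ⟨inferInstance, inferInstance⟩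
  have hMtop : M ≠ ⊤ := fun e => hns <| by
    subst e
    exact Group.isSolvable_of_surjective (f := (⊤ : Subgroup G).subtype) fun x =>
      ⟨⟨x, Subgroup.mem_top x⟩, rfl⟩
  have hsys : CfsgLib.Perm.FrobSystem.Sys M (F M) :=
    ⟨hFM, fun g hg u hu => (Subgroup.mem_normalizer_iff.mp (hnorm hg) u).mp hu,
      hfpf, fun g hg u hu hgu => by
        have : g * u * g⁻¹ ∈ F M ⊓ MulAut.conj g • F M :=
          ⟨hgu, Subgroup.smul_mem_pointwise_smul u (MulAut.conj g) (F M) hu⟩
        rw [hti g hg, Subgroup.mem_bot, conj_eq_one_iff] at this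
        exact this, hFne, hMtop⟩
  -- no solvable normal subgroup
  have hR : ∀ N : Subgroup G, N.Normal → Group.IsSolvable N → N = ⊥ := by
    intro R hRn hRs
    by_contra hR1
    obtain ⟨A, hAn, hA1, hAc⟩ := exists_abelian_normal hR1
    haveI : Group.IsSolvable A :=
      Group.isSolvable_of_comm fun x y => Subtype.ext (hAc x x.2 y y.2)
    haveI := hMs
    have hAM : A ≤ M := by
      by_contra hc
      exact hMmax _ (lt_of_le_of_ne le_sup_right fun e => hc (e ▸ le_sup_left)) solvable_sup
    obtain ⟨u, hu, hu1⟩ := hsys.exists_ne_one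
    obtain ⟨x, hxA, hxF, hx1⟩ : ∃ x, x ∈ A ∧ x ∈ F M ∧ x ≠ 1 := by
      obtain ⟨a, ha, ha1⟩ := A.bot_or_exists_ne_one.resolve_left hA1
      by_cases haF : a ∈ F M
      · exact ⟨a, ha, haF, ha1⟩
      · refine ⟨a * u * a⁻¹ * u⁻¹, ?_, mul_mem (hsys.norm a (hAM ha) u hu) (inv_mem hu), fun e =>
          hu1 (hsys.fpf a (hAM ha) haF u hu (mul_inv_eq_iff_eq_mul.mp (mul_inv_eq_one.mp e)).symm)⟩
        rw [show a * u * a⁻¹ * u⁻¹ = a * (u * a⁻¹ * u⁻¹) by group]
        exact mul_mem ha (hAn.conj_mem _ (inv_mem ha) u)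
    obtain ⟨g, hg⟩ : ∃ g, g ∉ M := by
      by_contra hc
      push Not at hc
      exact hMtop (eq_top_iff.mpr fun g _ => hc g)
    exact hx1 (hsys.ti g hg x hxF
      (hsys.mem_of_comm hxF hx1 (hAc x hxA _ (hAn.conj_mem x hxA g))))
  -- two commuting involutions
  have hcomm : ∃ x y : G, orderOf x = 2 ∧ orderOf y = 2 ∧ x ≠ y ∧ Commute x y := by
    by_contra hc
    have hev : Even (Nat.card G) := Nat.not_odd_iff_even.mp fun ho => hns (Cfsg.Agent.S0205.result ho)
    obtain ⟨z, -, hz⟩ := CfsgLib.Involution.Basic.exists_involution_of_even (⊤ : Subgroup G)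
      (by rwa [Subgroup.card_top])
    have hiso : Cfsg.IsIsolatedInvolution z := ⟨hz, fun g hg => by
      by_contra hne
      exact hc ⟨z, g * z * g⁻¹, hz,
        (CfsgLib.Involution.Dihedral.orderOf_conj g z).trans hz, Ne.symm hne, hg⟩⟩
    haveI := CfsgLib.Involution.ZStar.oddCore_normal (G := G)
    have hO : Cfsg.oddCore G = ⊥ :=
      hR _ inferInstance (Cfsg.Agent.S0205.result CfsgLib.Involution.ZStar.odd_card_oddCore)
    have hcen : ∀ g : G, z * g = g * z := fun g => by
      obtain ⟨o, ho, c, hcc, rfl⟩ := CfsgLib.Involution.ZStar.exists_oddCore_mul_centralizer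
        (CfsgLib.Involution.ZStar.starCentral G) hiso g
      rw [hO, Subgroup.mem_bot] at ho
      rw [ho, one_mul]
      exact (Subgroup.mem_centralizer_singleton_iff.mp hcc).symm
    have hz1 : z ≠ 1 := fun e => by rw [e, orderOf_one] at hz; norm_num at hz
    refine hz1 (Subgroup.mem_bot.mp ((hR (Subgroup.zpowers z) ⟨fun n hn g => ?_⟩
      (Group.isSolvable_of_comm fun x y => ?_)) ▸ Subgroup.mem_zpowers z))
    · obtain ⟨i, rfl⟩ := Subgroup.mem_zpowers_iff.mp hn
      rw [← conj_zpow, ← hcen g, mul_inv_cancel_right]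
      exact hn
    · obtain ⟨x, hx⟩ := x
      obtain ⟨y, hy⟩ := y
      obtain ⟨i, rfl⟩ := Subgroup.mem_zpowers_iff.mp hx
      obtain ⟨k, rfl⟩ := Subgroup.mem_zpowers_iff.mp hy
      exact Subtype.ext (zpow_mul_comm z i k)
  have h2 : 2 ∣ Nat.card (F M) := by
    obtain ⟨x, y, hx, hy, hne, hc⟩ := hcomm
    obtain ⟨g, hgx, hgy⟩ := CfsgLib.Involution.Basic.exists_conj_pair_mem T hx hy hc
    exact hsys.even_kernel (hNM (hTN hgx)) (hNM (hTN hgy))
      ((MulEquiv.orderOf_eq (MulAut.conj g) x).trans hx)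
      ((MulEquiv.orderOf_eq (MulAut.conj g) y).trans hy)
      (fun e => hne ((MulAut.conj g).injective e)) (hc.map (MulAut.conj g))
  obtain ⟨hsimple, b, S, hSF⟩ := CfsgLib.Perm.FrobSystem.exists_setup hsys h2 hcomm hR
  haveI := hsimple
  letI := Fintype.ofFinite (G ⧸ M)
  have hcF := S.card_F
  have hevF : Even (Nat.card S.F) := by rw [hSF]; exact even_iff_two_dvd.mpr h2
  rcases S.simple_cases with ⟨hFab, -⟩ | ⟨hcyc, hodd, hbig, t, hta, htb, hinv⟩
  · refine Or.inl ?_
    rcases S.simple_abelian hFab with ⟨p, f, K, _, _, hp, hp2, -, hΩ, -⟩ | ⟨hoddΩ, -, h3, hsharp⟩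
    · have he : Even (p ^ f) := by rwa [show p ^ f = Nat.card S.F by omega]
      exact absurd ((Nat.Prime.even_iff hp).mp (Nat.even_pow.mp he).1) hp2
    · haveI := S.hZ.1
      have hinj : Function.Injective (MulAction.toPermHom G (G ⧸ M)) :=
        fun x y h => MulAction.toPerm_injective h
      haveI := h3
      have h3' : MulAction.IsMultiplyPretransitive (MulAction.toPermHom G (G ⧸ M)).range (G ⧸ M) 3 :=
        ⟨fun x y => by
          obtain ⟨k, hk⟩ := MulAction.exists_smul_eq G x y
          exact ⟨⟨MulAction.toPermHom G (G ⧸ M) k, k, rfl⟩, hk⟩⟩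
      have hfree : ∀ (p : (MulAction.toPermHom G (G ⧸ M)).range) (x y z : G ⧸ M), x ≠ y → x ≠ z →
          y ≠ z → p • x = x → p • y = y → p • z = z → p = 1 := by
        rintro ⟨_, k, rfl⟩ x y z hxy hxz hyz hx hy hz
        refine Subtype.ext ?_
        show MulAction.toPermHom G (G ⧸ M) k = 1
        rw [S.free hxy hxz hyz hx hy hz, map_one]
      have h5 : 5 ≤ Fintype.card (G ⧸ M) := by
        have := S.one_lt_H
        have := S.card_H_dvd
        obtain ⟨i, hi⟩ := hoddΩ
        obtain ⟨l, hl⟩ := hevF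
        by_contra hlt
        rw [show Nat.card S.F = 2 by have := S.two_le_F; omega] at this
        have := Nat.le_of_dvd one_pos this
        omega
      obtain ⟨j, hj, -, K, iK, iKt, hK, ⟨e'⟩⟩ :=
        CfsgLib.Perm.SharpThreeOdd.exists_psl _ h3' hfree hoddΩ h5
      have hc := CfsgLib.Classical.card_center_sl (F := K) 2 one_le_two
      have hg : Nat.gcd 2 (Fintype.card K - 1) = 1 := by
        rw [hK]
        obtain ⟨i, rfl⟩ : ∃ i, j = i + 1 := ⟨j - 1, by omega⟩
        refine (Nat.prime_two.coprime_iff_not_dvd).2 ?_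
        have := Nat.two_pow_pos i
        omega
      rw [hg] at hc
      exact ⟨K, iK, iKt, ⟨j, hj, hK⟩, ⟨(((MonoidHom.ofInjective hinj).trans e').trans
        (QuotientGroup.quotientMulEquivOfEq (Subgroup.card_eq_one.1 hc))).trans
          QuotientGroup.quotientBot⟩⟩
  · refine Or.inr ?_
    letI := Fintype.ofFinite G
    obtain ⟨h2', hna, -⟩ := S.kernel_two_group hta htb hinv hcyc hodd hbig
    exact CfsgLib.Perm.ZGroup.Setup.IsTwoKernel.isoSuzuki (S := S) ⟨h2', hna⟩

end Cfsg.Agent.S4235
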