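import Cfsg.Statements.S4236
import Mathlib
import Cfsg.Agent.Lib.Fusion.Abelian
import Cfsg.Agent.Lib.PGroup.CountPElements
import Cfsg.Agent.Lib.NumberTheory.SylowCount

set_option autoImplicit false
open Cfsg

namespace Cfsg.Agent.S4236

open Subgroup

local instance : Fact (Nat.Prime 17) := ⟨by norm_num⟩
local instance : Fact (Nat.Prime 5) := ⟨by norm_num⟩

section Faithful

universe u

variable (G : Type u) [Group G] [Finite G]

theorem smul_eq_self_iff {P Q : Sylow 17 G} {a : G} (ha : a ∈ (P : Subgroup G)) :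
    a • Q = Q ↔ a ∈ (Q : Subgroup G) := by
  rw [Sylow.smul_eq_iff_mem_normalizer]
  refine ⟨fun h => ?_, fun h => le_normalizer h⟩
  have h' : a ∈ (P : Subgroup G) ⊓ normalizer (Q : Set G) := ⟨ha, h⟩
  rw [P.isPGroup'.inf_normalizer_sylow Q] at h'
  exact h'.2

/-- the orbit of `Q` under the Sylow subgroup `P` -/
def orb (P Q : Sylow 17 G) : Set (Sylow 17 G) := {R | ∃ u ∈ (P : Subgroup G), u • Q = R}

theorem mem_orb_self (P Q : Sylow 17 G) : Q ∈ orb G P Q := ⟨1, one_mem _, one_smul _ _⟩

theorem self_fix (P : Sylow 17 G) {u : G} (hu : u ∈ (P : Subgroup G)) : u • P = P :=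
  (smul_eq_self_iff G hu).mpr hu

theorem orb_avoid {P Q : Sylow 17 G} (hne : Q ≠ P) : P ∉ orb G P Q := by
  rintro ⟨u, hu, h⟩
  have := congrArg (u⁻¹ • ·) h
  simp only [inv_smul_smul, self_fix G P (inv_mem hu)] at this
  exact hne this

theorem orb_eq {P Q R : Sylow 17 G} (h : R ∈ orb G P Q) : orb G P R = orb G P Q := by
  obtain ⟨u, hu, rfl⟩ := h
  ext T
  constructor
  · rintro ⟨v, hv, rfl⟩; exact ⟨v * u, mul_mem hv hu, mul_smul _ _ _⟩
  · rintro ⟨v, hv, rfl⟩
    exact ⟨v * u⁻¹, mul_mem hv (inv_mem hu), by rw [mul_smul, inv_smul_smul]⟩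

theorem orb_eq_orbit (P Q : Sylow 17 G) : orb G P Q = MulAction.orbit (P : Subgroup G) Q := by
  ext R
  exact ⟨fun ⟨u, hu, h⟩ => ⟨⟨u, hu⟩, h⟩, fun ⟨u, h⟩ => ⟨u, u.2, h⟩⟩

variable (h35 : Nat.card (Sylow 17 G) = 35)
include h35

theorem orb_card {P Q : Sylow 17 G} (hne : Q ≠ P) :
    (orb G P Q).ncard = 17 ∧ ((P : Subgroup G) ⊓ Q).relIndex P = 17 := by
  have hst : MulAction.stabilizer (P : Subgroup G) Q =
      ((P : Subgroup G) ⊓ Q).subgroupOf (P : Subgroup G) := by
    ext x
    rw [MulAction.mem_stabilizer_iff, mem_subgroupOf, mem_inf]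
    exact ⟨fun h => ⟨x.2, (smul_eq_self_iff G x.2).mp h⟩, fun h => (smul_eq_self_iff G x.2).mpr h.2⟩
  have hcard : (orb G P Q).ncard = ((P : Subgroup G) ⊓ Q).relIndex P := by
    rw [orb_eq_orbit, ← MulAction.index_stabilizer, hst]; rfl
  have hlt : (orb G P Q).ncard < 35 := by
    rw [← h35, ← Set.ncard_univ]
    exact Set.ncard_lt_ncard
      (Set.ssubset_univ_iff.mpr fun h => orb_avoid G hne (h ▸ Set.mem_univ P)) (Set.toFinite _)
  obtain ⟨n, hn⟩ := P.isPGroup'.exists_card_eq
  obtain ⟨i, -, hi⟩ := (Nat.dvd_prime_pow (by norm_num : Nat.Prime 17)).mp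
    (hn ▸ relIndex_dvd_card ((P : Subgroup G) ⊓ Q) (P : Subgroup G))
  have hne1 : i ≠ 0 := by
    rintro rfl
    rw [pow_zero, relIndex_eq_one] at hi
    exact hne (Sylow.ext (P.is_maximal' Q.isPGroup' ((hi.trans inf_le_right))) )
  have : i < 2 := by
    by_contra! h2
    have := Nat.pow_le_pow_right (show 17 > 0 by norm_num) h2
    omega
  have : i = 1 := by omega
  subst this
  exact ⟨hcard.trans hi, hi⟩

theorem fix_orb {P Q : Sylow 17 G} (hne : Q ≠ P) {a : G} (haP : a ∈ (P : Subgroup G))
    (haQ : a ∈ (Q : Subgroup G)) : ∀ R ∈ orb G P Q, a • R = R := by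
  rintro R ⟨u, hu, rfl⟩
  set H := ((P : Subgroup G) ⊓ Q).subgroupOf (P : Subgroup G) with hH
  have hidx : H.index = 17 := (orb_card G h35 hne).2
  haveI : Group.IsNilpotent (P : Subgroup G) := P.isPGroup'.isNilpotent
  have hnorm : H.Normal := by
    rw [← normalizer_eq_top_iff]
    by_contra hne'
    have hlt : H < normalizer (H : Set (P : Subgroup G)) :=
      Group.normalizerCondition_of_isNilpotent _ (lt_top_iff_ne_top.mpr fun h => by
        rw [h, index_top] at hidx; omega)
    have hd := index_dvd_of_le hlt.le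
    rw [hidx, Nat.dvd_prime (by norm_num)] at hd
    rcases hd with hd | hd
    · exact hne' (index_eq_one.mp hd)
    · exact (index_strictAnti hlt).ne (hd.trans hidx.symm)
  have h1 := hnorm.conj_mem ⟨a, haP⟩ (mem_subgroupOf.mpr ⟨haP, haQ⟩) (⟨u, hu⟩⁻¹)
  have h2 : u⁻¹ * a * u ∈ (Q : Subgroup G) := by
    have hh := (mem_subgroupOf.mp h1).2
    simp only [Subgroup.coe_mul, InvMemClass.coe_inv, inv_inv] at hh
    exact hh
  have h3 := (smul_eq_self_iff G (P := P) (mul_mem (mul_mem (inv_mem hu) haP) hu)).mpr h2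
  rw [mul_smul, mul_smul, inv_smul_eq_iff] at h3
  exact h3

theorem rest_eq {P Q R : Sylow 17 G} (hne : Q ≠ P) (hR : R ≠ P) (hRQ : R ∉ orb G P Q) :
    orb G P Q ∪ orb G P R ∪ {P} = Set.univ := by
  refine Set.eq_of_subset_of_ncard_le (Set.subset_univ _) ?_ Set.finite_univ
  have hd : Disjoint (orb G P Q) (orb G P R) := Set.disjoint_left.mpr fun T h1 h2 =>
    hRQ (by rw [← orb_eq G h1, orb_eq G h2]; exact mem_orb_self G P R)
  rw [Set.ncard_univ, h35, Set.ncard_union_eq (Set.disjoint_singleton_right.mpr fun h =>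
      h.elim (orb_avoid G hne) (orb_avoid G hR)) (Set.toFinite _) (Set.toFinite _),
    Set.ncard_union_eq hd (Set.toFinite _) (Set.toFinite _), (orb_card G h35 hne).1,
    (orb_card G h35 hR).1, Set.ncard_singleton]

variable (hf : ∀ g : G, (∀ Q : Sylow 17 G, g • Q = Q) → g = 1)
include hf

theorem moved_eq {P Q : Sylow 17 G} (hne : Q ≠ P) {a : G} (ha1 : a ≠ 1)
    (haP : a ∈ (P : Subgroup G)) (haQ : a ∈ (Q : Subgroup G)) {R : Sylow 17 G} (hR : a • R ≠ R) :
    {T : Sylow 17 G | a • T ≠ T} = orb G P R := by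
  have hRP : R ≠ P := fun h => hR (h ▸ self_fix G P haP)
  have hRQ : R ∉ orb G P Q := fun h => hR (fix_orb G h35 hne haP haQ R h)
  ext T
  refine ⟨fun hT => ?_, fun hT hTf => ?_⟩
  · have := (rest_eq G h35 hne hRP hRQ).symm ▸ Set.mem_univ T
    rcases this with (h | h) | h
    · exact absurd (fix_orb G h35 hne haP haQ T h) hT
    · exact h
    · exact absurd (h ▸ self_fix G P haP : a • T = T) hT
  · have hTP : T ≠ P := fun h => orb_avoid G hRP (h ▸ hT)
    refine hR (fix_orb G h35 hTP haP ((smul_eq_self_iff G haP).mp hTf) R ?_)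
    rw [orb_eq G hT]; exact mem_orb_self G P R

theorem inf_eq_bot {P Q : Sylow 17 G} (hne : Q ≠ P) : (P : Subgroup G) ⊓ Q = ⊥ := by
  classical
  haveI : Fintype (Sylow 17 G) := Fintype.ofFinite _
  by_contra hcon
  haveI := (nontrivial_iff_ne_bot _).mpr hcon
  obtain ⟨⟨a, haP, haQ⟩, hne1⟩ := exists_ne (1 : ↥((P : Subgroup G) ⊓ Q))
  have ha1 : a ≠ 1 := fun h => hne1 (Subtype.ext h)
  let mv : G → Finset (Sylow 17 G) := fun g => {T | g • T ≠ T}
  let F : Finset (Finset (Sylow 17 G)) :=
    {A | A.card = 17 ∧ ∃ g : G, (∃ R : Sylow 17 G, g ∈ (R : Subgroup G)) ∧ mv g = A}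
  have hmv : ∀ g : G, (mv g : Set (Sylow 17 G)) = {T | g • T ≠ T} := fun g => by ext; simp [mv]
  have hAF : mv a ∈ F := by
    obtain ⟨R, hR⟩ : ∃ R : Sylow 17 G, a • R ≠ R := by
      by_contra! h; exact ha1 (hf a h)
    have hRP : R ≠ P := fun h => hR (h ▸ self_fix G P haP)
    refine Finset.mem_filter.mpr ⟨Finset.mem_univ _, ?_, a, ⟨P, haP⟩, rfl⟩
    rw [← Set.ncard_coe_finset, hmv, moved_eq G h35 hf hne ha1 haP haQ hR]
    exact (orb_card G h35 hRP).1
  -- every member avoiding β is an orbit of β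
  have key : ∀ A ∈ F, ∀ β : Sylow 17 G, β ∉ A → ∀ R ∈ A,
      (A : Set (Sylow 17 G)) = orb G β R := by
    intro A hA β hβ R hR
    simp only [F, Finset.mem_filter, Finset.mem_univ, true_and] at hA
    obtain ⟨hcard, g, ⟨T, hgT⟩, rfl⟩ := hA
    have hg1 : g ≠ 1 := fun h => by simp [mv, h] at hR
    have hgβ : g ∈ (β : Subgroup G) := (smul_eq_self_iff G hgT).mp (by simpa [mv] using hβ)
    obtain ⟨Q', hQ', hQβ⟩ : ∃ Q' : Sylow 17 G, Q' ∉ insert β (mv g) ∧ Q' ≠ β := by
      obtain ⟨Q', hQ'⟩ : ∃ Q', Q' ∉ insert β (mv g) := by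
        by_contra! h
        have := Finset.card_le_card (fun x (_ : x ∈ Finset.univ) => h x)
        have := Finset.card_insert_le β (mv g)
        rw [Finset.card_univ, ← Nat.card_eq_fintype_card, h35] at *
        omega
      exact ⟨Q', hQ', fun h => hQ' (h ▸ Finset.mem_insert_self _ _)⟩
    have hgQ' : g ∈ (Q' : Subgroup G) :=
      (smul_eq_self_iff G hgβ).mp (by simpa [mv] using fun h => hQ' (Finset.mem_insert_of_mem h))
    rw [hmv]
    exact moved_eq G h35 hf hQβ hg1 hgβ hgQ' (by simpa [mv] using hR)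
  let r : Sylow 17 G → ℕ := fun β => ({A ∈ F | β ∉ A} : Finset _).card
  have hr2 : ∀ β, r β ≤ 2 := by
    intro β
    have hdisj : (({A ∈ F | β ∉ A} : Finset _) : Set (Finset (Sylow 17 G))).PairwiseDisjoint id := by
      intro A hA B hB hAB
      simp only [Finset.coe_filter, Set.mem_setOf_eq] at hA hB
      refine Finset.disjoint_left.mpr fun R h1 h2 => hAB (Finset.coe_injective ?_)
      rw [key A hA.1 β hA.2 R h1, key B hB.1 β hB.2 R h2]
    have h1 := Finset.card_biUnion hdisj
    simp only [id] at h1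
    rw [Finset.sum_congr rfl fun A hA =>
      (Finset.mem_filter.mp (Finset.mem_filter.mp hA).1).2.1, Finset.sum_const, smul_eq_mul] at h1
    have h2 : (({A ∈ F | β ∉ A} : Finset _).biUnion id) ⊆ Finset.univ.erase β := by
      intro x hx
      obtain ⟨A, hA, hxA⟩ := Finset.mem_biUnion.mp hx
      exact Finset.mem_erase.mpr ⟨fun h => (Finset.mem_filter.mp hA).2 (h ▸ hxA), Finset.mem_univ _⟩
    have h3 := Finset.card_le_card h2
    rw [Finset.card_erase_of_mem (Finset.mem_univ _), Finset.card_univ, ← Nat.card_eq_fintype_card,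
      h35] at h3
    show ({A ∈ F | β ∉ A} : Finset _).card ≤ 2
    omega
  have hmono : ∀ (β : Sylow 17 G) (g : G), r β ≤ r (g • β) := by
    intro β g
    refine Finset.card_le_card_of_injOn (fun A => A.image (g • ·)) ?_ ?_
    · intro A hA
      simp only [F, Finset.coe_filter, Finset.mem_filter, Finset.mem_univ, true_and,
        Set.mem_setOf_eq] at hA ⊢
      obtain ⟨⟨hcard, b, ⟨T, hbT⟩, hbA⟩, hβ⟩ := hA
      refine ⟨⟨?_, g * b * g⁻¹, ⟨g • T, ?_⟩, ?_⟩, ?_⟩
      · rw [Finset.card_image_of_injective _ (MulAction.injective g), hcard]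
      · rw [Sylow.coe_subgroup_smul]; exact ⟨b, hbT, rfl⟩
      · rw [← hbA]
        ext x
        simp only [mv, Finset.mem_filter, Finset.mem_univ, true_and, Finset.mem_image]
        constructor
        · intro h
          refine ⟨g⁻¹ • x, fun h' => h ?_, smul_inv_smul g x⟩
          rw [mul_smul, mul_smul, h', smul_inv_smul]
        · rintro ⟨y, hy, rfl⟩ h
          rw [mul_smul, mul_smul, inv_smul_smul, smul_left_cancel_iff] at h
          exact hy h
      · intro h
        obtain ⟨y, hy, he⟩ := Finset.mem_image.mp h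
        exact hβ (smul_left_cancel g he ▸ hy)
    · exact fun A _ B _ h => Finset.image_injective (MulAction.injective g) h
  have hconst : ∀ β, r β = r P := by
    intro β
    obtain ⟨g, rfl⟩ := MulAction.exists_smul_eq G P β
    refine le_antisymm ?_ (hmono P g)
    simpa using hmono (g • P) g⁻¹
  have hcount := Finset.sum_card_bipartiteAbove_eq_sum_card_bipartiteBelow
    (s := (Finset.univ : Finset (Sylow 17 G))) (t := F) (fun β A => β ∉ A)
  simp only [Finset.bipartiteAbove, Finset.bipartiteBelow] at hcount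
  rw [Finset.sum_congr rfl fun β _ => hconst β, Finset.sum_const, Finset.card_univ,
    ← Nat.card_eq_fintype_card, h35,
    Finset.sum_congr rfl (s₂ := F) (g := fun _ => 18) fun A hA => by
      rw [show Finset.univ.filter (fun β => β ∉ A) = Aᶜ by ext; simp, Finset.card_compl,
        (Finset.mem_filter.mp hA).2.1, ← Nat.card_eq_fintype_card, h35],
    Finset.sum_const, smul_eq_mul, smul_eq_mul] at hcount
  have := hr2 P
  have hpos : 0 < F.card := Finset.card_pos.mpr ⟨_, hAF⟩
  omega

theorem faithful : False := by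
  classical
  obtain ⟨P⟩ : Nonempty (Sylow 17 G) := inferInstance
  haveI : Nontrivial (Sylow 17 G) := Finite.one_lt_card_iff_nontrivial.mp (by omega)
  obtain ⟨Q, hne⟩ := exists_ne P
  have hbot := inf_eq_bot G h35 hf hne
  have hP17 : Nat.card (P : Subgroup G) = 17 := by
    have := (orb_card G h35 hne).2
    rwa [hbot, relIndex_bot_left] at this
  haveI : IsCyclic (P : Subgroup G) := isCyclic_of_prime_card hP17
  haveI : IsMulCommutative (P : Subgroup G) := IsCyclic.isMulCommutative
  set N := normalizer ((P : Subgroup G) : Set G) with hN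
  set C := centralizer ((P : Subgroup G) : Set G) with hC
  have hCN : C ≤ N := centralizer_le_normalizer _
  -- C acts semiregularly outside P
  have hsemi : ∀ h ∈ C, h • Q = Q → h = 1 := by
    intro h hh hQ
    have hhP : h • P = P := Sylow.smul_eq_iff_mem_normalizer.mpr (hCN hh)
    have hcomm : ∀ u ∈ (P : Subgroup G), h * u = u * h := fun u hu => (hh u hu).symm
    have h17 : h ^ 17 = 1 := by
      refine hf _ fun R => ?_
      by_cases hRP : R = P
      · rw [hRP]; exact Sylow.smul_eq_iff_mem_normalizer.mpr (pow_mem (hCN hh) _)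
      have hfixQ : ∀ T ∈ orb G P Q, h • T = T := by
        rintro T ⟨u, hu, rfl⟩
        rw [← mul_smul, hcomm u hu, mul_smul, hQ]
      by_cases hRQ : R ∈ orb G P Q
      · exact MulAction.mem_stabilizer_iff.mp (pow_mem
          (MulAction.mem_stabilizer_iff.mpr (hfixQ R hRQ)) 17)
      have hmem := (rest_eq G h35 hne hRP hRQ).symm ▸ Set.mem_univ (h • R)
      obtain ⟨u, hu, hu'⟩ : h • R ∈ orb G P R := by
        rcases hmem with (h1 | h1) | h1
        · exact absurd (smul_left_cancel h ((hfixQ _ h1).trans rfl) ▸ h1) hRQ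
        · exact h1
        · exact absurd (smul_left_cancel h (h1.trans hhP.symm)) hRP
      have hn : ∀ n : ℕ, h ^ n • R = u ^ n • R := by
        intro n
        induction n with
        | zero => simp
        | succ n ih =>
          rw [pow_succ', mul_smul, ih, ← mul_smul, hcomm _ (pow_mem hu n), mul_smul, ← hu',
            ← mul_smul, ← pow_succ]
      have hu17 : u ^ 17 = 1 := by
        have := pow_card_eq_one' (x := (⟨u, hu⟩ : (P : Subgroup G)))
        rw [hP17] at this
        exact congrArg Subtype.val this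
      rw [hn 17, hu17, one_smul]
    have hhP' : h ∈ (P : Subgroup G) := by
      have hz : IsPGroup 17 (zpowers h) := CfsgLib.PGroup.Basic.isPGroup_zpowers (k := 1)
        (by simpa using orderOf_dvd_of_pow_eq_one h17)
      have h1 := hz.to_sup_of_normal_right' P.isPGroup' (zpowers_le.mpr (hCN hh))
      exact (le_sup_left.trans_eq (P.is_maximal' h1 le_sup_right)) (mem_zpowers h)
    have : h ∈ (P : Subgroup G) ⊓ Q := ⟨hhP', (smul_eq_self_iff G hhP').mp hQ⟩
    rwa [hbot, mem_bot] at this
  have hCcard : Nat.card C = 17 ∨ Nat.card C = 34 := by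
    have hd : 17 ∣ Nat.card C := hP17 ▸ card_dvd_of_le (le_centralizer _)
    have hle : Nat.card C ≤ 34 := by
      let φ : C → {R : Sylow 17 G // R ≠ P} := fun c => ⟨(c : G) • Q, fun h => hne
        (smul_left_cancel (c : G) (h.trans (Sylow.smul_eq_iff_mem_normalizer.mpr (hCN c.2)).symm))⟩
      have hφ : Function.Injective φ := fun c d h => by
        have h' : (c : G) • Q = (d : G) • Q := congrArg Subtype.val h
        have := hsemi ((d : G)⁻¹ * c) (mul_mem (inv_mem d.2) c.2)
          (by rw [mul_smul, h', inv_smul_smul])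
        exact Subtype.ext (inv_mul_eq_one.mp this).symm
      haveI : Fintype (Sylow 17 G) := Fintype.ofFinite _
      refine (Nat.card_le_card_of_injective φ hφ).trans_eq ?_
      rw [Nat.card_eq_fintype_card, Fintype.card_subtype_compl, Fintype.card_subtype_eq,
        ← Nat.card_eq_fintype_card, h35]
    obtain ⟨c, hc⟩ := hd
    have hpos : 0 < Nat.card C := Nat.card_pos
    omega
  have hNcard : Nat.card N ∣ 34 * 16 := by
    rw [← card_mul_index (C.subgroupOf N), Nat.card_congr (subgroupOfEquivOfLe hCN).toEquiv]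
    refine mul_dvd_mul (by rcases hCcard with h | h <;> rw [h]; norm_num) ?_
    rw [hC, ← normalizerMonoidHom_ker, index_ker]
    refine (card_subgroup_dvd_card _).trans ?_
    rw [IsCyclic.card_mulAut, hP17, Nat.totient_prime (by norm_num)]
  have hidx : N.index = 35 := by rw [hN, ← h35, P.card_eq_index_normalizer]; rfl
  have hG : Nat.card G ∣ 35 * (34 * 16) := by
    rw [← card_mul_index N, hidx, mul_comm]; exact mul_dvd_mul_left 35 hNcard
  -- an abelian Sylow 2-subgroup inside N
  obtain ⟨S0⟩ : Nonempty (Sylow 2 N) := inferInstance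
  let S : Sylow 2 G := (S0.isPGroup'.map N.subtype).toSylow (by
    rw [index_map_subtype, hidx, Nat.prime_two.dvd_mul]
    exact not_or.mpr ⟨S0.not_dvd_index, by norm_num⟩)
  have hSN : (S : Subgroup G) ≤ N := map_subtype_le _
  let f : (S : Subgroup G) →* MulAut (P : Subgroup G) :=
    (P : Subgroup G).normalizerMonoidHom.comp (inclusion hSN)
  haveI : Fact (Nat.Prime (Nat.card (P : Subgroup G))) := ⟨by rw [hP17]; norm_num⟩
  haveI : IsCyclic (MulAut (P : Subgroup G)) :=
    (IsCyclic.mulAutMulEquiv (P : Subgroup G)).isCyclic.mpr inferInstance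
  have hker : Nat.card f.ker ≤ 2 := by
    have h1 : (f.ker.map (S : Subgroup G).subtype) ≤ C := by
      rintro _ ⟨s, hs, rfl⟩
      have h2 : inclusion hSN s ∈ ((P : Subgroup G).normalizerMonoidHom).ker := hs
      rw [normalizerMonoidHom_ker] at h2
      exact h2
    have h3 := card_dvd_of_le h1
    rw [card_map_of_injective (subtype_injective _)] at h3
    obtain ⟨i, hi⟩ := (S.isPGroup'.to_subgroup f.ker).exists_card_eq
    rw [hi] at h3 ⊢
    have h4 : 2 ^ i ∣ 34 := h3.trans (by rcases hCcard with h | h <;> rw [h]; norm_num)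
    by_contra! h5
    have h6 : 2 ≤ i := by
      by_contra! h7; interval_cases i <;> simp at h5
    have := (pow_dvd_pow 2 h6).trans h4
    norm_num at this
  have hkc : f.ker ≤ center (S : Subgroup G) := by
    intro k hk
    rw [mem_center_iff]
    intro g
    by_contra hne'
    have hk' : g * k * g⁻¹ ∈ f.ker := (inferInstance : f.ker.Normal).conj_mem k hk g
    have hk1 : k ≠ 1 := fun h => hne' (by simp [h])
    have : ({1, k, g * k * g⁻¹} : Set (S : Subgroup G)).ncard ≤ 2 := by
      refine le_trans (Set.ncard_le_ncard (t := (f.ker : Set (S : Subgroup G))) ?_ (Set.toFinite _))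
        ((Nat.card_coe_set_eq _).symm.trans_le hker)
      intro x hx
      rcases hx with rfl | rfl | rfl
      · exact one_mem _
      · exact hk
      · exact hk'
    rw [Set.ncard_insert_of_notMem _ (Set.toFinite _), Set.ncard_pair] at this
    · omega
    · intro h; exact hne' (mul_inv_eq_iff_eq_mul.mp h.symm)
    · simp only [Set.mem_insert_iff, Set.mem_singleton_iff, not_or]
      exact ⟨Ne.symm hk1, fun h => hk1 (conj_eq_one_iff.mp h.symm)⟩
  have hScomm : IsMulCommutative (S : Subgroup G) :=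
    f.isMulCommutative_of_isCyclic_of_ker_le_center hkc
  have hcm : ∀ a b : (S : Subgroup G), a * b = b * a := hScomm.is_comm.comm
  let E : Subgroup (S : Subgroup G) :=
    { carrier := {s | s ^ 2 = 1}
      one_mem' := one_pow _
      mul_mem' := fun {a b} ha hb => by
        show (a * b) ^ 2 = 1
        rw [Commute.mul_pow (hcm a b), ha, hb, one_mul]
      inv_mem' := fun {a} ha => by show a⁻¹ ^ 2 = 1; rw [inv_pow, ha, inv_one] }
  have hE : Nat.card E ≤ 4 := by
    rw [← (f.comp E.subtype).ker.card_mul_index, index_ker]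
    refine (Nat.mul_le_mul ?_ ?_ : _ ≤ 2 * 2)
    · refine le_trans ?_ hker
      exact Nat.card_le_card_of_injective (fun x => (⟨x.1.1, x.2⟩ : f.ker)) fun x y h =>
        Subtype.ext (Subtype.ext (congrArg (fun z : f.ker => (z : (S : Subgroup G))) h))
    · refine Nat.le_of_dvd two_pos ?_
      rw [← IsCyclic.exponent_eq_card]
      refine Monoid.exponent_dvd_of_forall_pow_eq_one ?_
      rintro ⟨_, e, rfl⟩
      exact Subtype.ext (by
        rw [Subgroup.coe_pow, ← map_pow]
        have : (e : E) ^ 2 = 1 := Subtype.ext e.2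
        rw [this, map_one]
        rfl)
  have hodd : ∀ y ∈ normalizer ((S : Subgroup G) : Set G), ¬ 2 ∣ orderOf y →
      y ∈ centralizer ((S : Subgroup G) : Set G) := by
    intro y hy h2
    set α := (S : Subgroup G).normalizerMonoidHom ⟨y, hy⟩ with hα
    set n := orderOf y with hn
    have h3 : Nat.Coprime n 3 := by
      refine ((Nat.prime_three.coprime_iff_not_dvd).mpr fun h => ?_).symm
      have := h.trans ((orderOf_dvd_natCard y).trans hG)
      norm_num at this
    have hαn : α ^ n = 1 := by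
      rw [hα, ← map_pow, show (⟨y, hy⟩ : normalizer ((S : Subgroup G) : Set G)) ^ n = 1 from
        Subtype.ext (pow_orderOf_eq_one y), map_one]
    have hit : ∀ (z : (S : Subgroup G)) (i : ℕ), α^[i] z = (α ^ i) z := by
      intro z i
      induction i with
      | zero => rfl
      | succ i ih => rw [Function.iterate_succ_apply', ih, pow_succ']; rfl
    have hE1 : ∀ z ∈ E, α z = z := by
      intro z hz
      have hmem : ∀ i, (α ^ i) z ∈ E := fun i => by
        show ((α ^ i) z) ^ 2 = 1
        rw [← map_pow, hz, map_one]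
      have hper : Function.IsPeriodicPt α n z := by
        show α^[n] z = z
        rw [hit, hαn]; rfl
      have hd := hper.minimalPeriod_dvd
      by_contra hne'
      have h1 : Function.minimalPeriod α z ≠ 1 := fun h =>
        hne' (Function.minimalPeriod_eq_one_iff_isFixedPt.mp h)
      have hz1 : z ≠ 1 := fun h => hne' (by rw [h, map_one])
      have hle : Function.minimalPeriod α z ≤ 3 := by
        let φ : Fin (Function.minimalPeriod α z) → {e : E // e ≠ 1} := fun i =>
          ⟨⟨(α ^ (i : ℕ)) z, hmem i⟩, fun h => hz1 (by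
            have h' : (α ^ (i : ℕ)) z = 1 := congrArg Subtype.val h
            exact (α ^ (i : ℕ)).map_eq_one_iff.mp h')⟩
        have hφ : Function.Injective φ := fun i j h => by
          have h' : (α ^ (i : ℕ)) z = (α ^ (j : ℕ)) z :=
            congrArg (fun e : {e : E // e ≠ 1} => ((e : E) : (S : Subgroup G))) h
          rw [← hit, ← hit] at h'
          exact Fin.ext (Function.iterate_injOn_Iio_minimalPeriod i.2 j.2 h')
        have hle' := Nat.card_le_card_of_injective φ hφ
        haveI : Fintype E := Fintype.ofFinite _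
        rw [Nat.card_fin, Nat.card_eq_fintype_card (α := {e : E // e ≠ 1}), Fintype.card_subtype_compl,
          Fintype.card_subtype_eq, ← Nat.card_eq_fintype_card] at hle'
        omega
      have hpos : 0 < Function.minimalPeriod α z :=
        hper.minimalPeriod_pos (orderOf_pos y)
      interval_cases h : Function.minimalPeriod α z
      · exact h1 rfl
      · exact h2 hd
      · exact absurd (Nat.eq_one_of_dvd_coprimes h3 hd dvd_rfl) (by norm_num)
    have hall : ∀ s : (S : Subgroup G), α s = s := by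
      intro s
      induction hs : orderOf s using Nat.strong_induction_on generalizing s with
      | h m ih =>
      subst hs
      by_cases hs1 : s = 1
      · rw [hs1, map_one]
      obtain ⟨j, hj⟩ := IsPGroup.iff_orderOf.mp S.isPGroup' s
      have hj0 : j ≠ 0 := fun h => hs1 (orderOf_eq_one_iff.mp (by rw [hj, h, pow_zero]))
      have hsq : α (s ^ 2) = s ^ 2 := ih _ (by
        rw [orderOf_pow, hj, Nat.gcd_eq_right (dvd_pow_self 2 hj0)]
        exact Nat.div_lt_self (by positivity) one_lt_two) _ rfl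
      have hc : s⁻¹ * α s ∈ E := by
        show (s⁻¹ * α s) ^ 2 = 1
        rw [Commute.mul_pow (hcm _ _), ← map_pow, hsq, inv_pow, inv_mul_cancel]
      have hit' : ∀ i : ℕ, (α ^ i) s = s * (s⁻¹ * α s) ^ i := by
        intro i
        induction i with
        | zero => simp
        | succ i ih' =>
          rw [pow_succ', MulAut.mul_apply, ih', map_mul, map_pow, hE1 _ hc]
          rw [show α s = s * (s⁻¹ * α s) by rw [mul_inv_cancel_left]]
          simp only [inv_mul_cancel_left]
          rw [mul_assoc, ← pow_succ']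
      have h := hit' n
      rw [hαn, MulAut.one_apply, left_eq_mul] at h
      have : s⁻¹ * α s = 1 := by
        rw [← orderOf_eq_one_iff]
        refine Nat.eq_one_of_dvd_coprimes (Nat.prime_two.coprime_iff_not_dvd.mpr h2)
          (orderOf_dvd_of_pow_eq_one hc) (orderOf_dvd_of_pow_eq_one h)
      exact (inv_mul_eq_one.mp this).symm
    intro s hs
    have h' : y * s * y⁻¹ = s := congrArg Subtype.val (hall ⟨s, hs⟩)
    exact (mul_inv_eq_iff_eq_mul.mp h').symm
  have hnpc : Cfsg.HasNormalPComplement 2 G := by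
    refine CfsgLib.Fusion.Abelian.npc_of_normalizer_le_centralizer S fun g hg => ?_
    obtain ⟨s, y, hgy, hsy, hs, hy⟩ := CfsgLib.PGroup.CountPElements.exists_decomp (p := 2)
      (⟨g, hg⟩ : normalizer ((S : Subgroup G) : Set G))
    obtain ⟨j, hj⟩ := hs
    have hsS : (s : G) ∈ (S : Subgroup G) := by
      have hz : IsPGroup 2 (zpowers (s : G)) := CfsgLib.PGroup.Basic.isPGroup_zpowers (k := j)
        (by rw [orderOf_coe, hj])
      have h1 := hz.to_sup_of_normal_right' S.isPGroup' (zpowers_le.mpr s.2)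
      exact (le_sup_left.trans_eq (S.is_maximal' h1 le_sup_right)) (mem_zpowers _)
    rw [← show (s : G) * (y : G) = g from congrArg Subtype.val hgy]
    refine mul_mem ?_ (hodd y y.2 (by rwa [orderOf_coe]))
    haveI := hScomm
    exact le_centralizer _ hsS
  set K := Cfsg.pResidual 2 G with hKdef
  have hK595 : Nat.card K = 595 := by
    have hc : Nat.Coprime (Nat.card K) 2 := CfsgLib.Fusion.Basic.npc_iff_coprime.mp hnpc
    obtain ⟨k, hk⟩ := CfsgLib.Fusion.Basic.exists_index_pResidual (p := 2) (G := G)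
    have h1 : Nat.card K ∣ 595 := by
      refine (hc.pow_right 5).dvd_of_dvd_mul_right ((card_subgroup_dvd_card K).trans ?_)
      exact hG.trans (by norm_num)
    refine Nat.dvd_antisymm h1 ((Nat.Coprime.pow_right k (by norm_num : Nat.Coprime 595 2)).dvd_of_dvd_mul_right ?_)
    rw [← hk, card_mul_index, ← card_mul_index N, hidx, mul_comm]
    refine mul_dvd_mul_left 35 (hP17 ▸ card_dvd_of_le le_normalizer)
  obtain ⟨Q5⟩ : Nonempty (Sylow 5 K) := inferInstance
  have hQ5 : Nat.card (Q5 : Subgroup K) = 5 := by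
    rw [Q5.card_eq_multiplicity, hK595]
    rw [show (595 : ℕ) = 5 ^ 1 * 119 by norm_num, Nat.factorization_mul (by norm_num) (by norm_num)]
    simp [Nat.Prime.factorization_self (show Nat.Prime 5 by norm_num),
      Nat.factorization_eq_zero_of_not_dvd (show ¬ 5 ∣ 119 by norm_num)]
  have hn5 : Nat.card (Sylow 5 K) = 1 := by
    have h1 := Q5.card_dvd_index
    have h2 := card_sylow_modEq_one 5 K
    have h3 : (Q5 : Subgroup K).index = 119 := by
      have := (Q5 : Subgroup K).card_mul_index
      rw [hQ5, hK595] at this; omega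
    rw [h3] at h1
    have h4 : Nat.card (Sylow 5 K) ≤ 119 := Nat.le_of_dvd (by norm_num) h1
    unfold Nat.ModEq at h2
    interval_cases Nat.card (Sylow 5 K) <;> omega
  haveI : Subsingleton (Sylow 5 K) := (Nat.card_eq_one_iff_unique.mp hn5).1
  have hQn : (Q5 : Subgroup K).Normal := inferInstance
  set R := (Q5 : Subgroup K).map K.subtype with hR
  have hRcard : Nat.card R = 5 := by rw [hR, card_map_of_injective K.subtype_injective, hQ5]
  have hPK : (P : Subgroup G) ≤ K := fun u hu => CfsgLib.Fusion.Basic.mem_pResidual_of_coprime (by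
    refine Nat.Coprime.coprime_dvd_left (orderOf_dvd_natCard (P : Subgroup G) hu) ?_
    rw [hP17]; norm_num)
  have hPR : (P : Subgroup G) ≤ normalizer (R : Set G) := by
    refine hPK.trans ?_
    intro k hk
    exact (le_normalizer_map K.subtype) ⟨⟨k, hk⟩, by rw [normalizer_eq_top]; trivial, rfl⟩
  haveI : IsCyclic R := isCyclic_of_prime_card hRcard
  have htriv : R.normalizerMonoidHom.comp (inclusion hPR) = 1 := by
    ext1 u
    refine orderOf_eq_one_iff.mp (Nat.eq_one_of_dvd_coprimes (show Nat.Coprime 17 4 by norm_num) ?_ ?_)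
    · exact ((orderOf_map_dvd _ u).trans (_root_.orderOf_dvd_natCard u)).trans hP17.dvd
    · refine (_root_.orderOf_dvd_natCard _).trans ?_
      rw [IsCyclic.card_mulAut, hRcard, Nat.totient_prime (by norm_num)]
  have hRC : R ≤ C := by
    intro r hr
    rw [hC, mem_centralizer_iff]
    intro u hu
    have h0 := DFunLike.congr_fun (DFunLike.congr_fun htriv ⟨u, hu⟩) ⟨r, hr⟩
    have h : u * r * u⁻¹ = r := congrArg Subtype.val h0
    exact mul_inv_eq_iff_eq_mul.mp h
  have h5 := card_dvd_of_le hRC
  rw [hRcard] at h5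
  rcases hCcard with h | h <;> rw [h] at h5 <;> omega

end Faithful

/-- No finite group has exactly 35 Sylow 17-subgroups. -/
theorem result {G : Type*} [Group G] [Finite G] : Nat.card (Sylow 17 G) ≠ 35 := by
  classical
  intro h35
  set K := (MulAction.toPermHom G (Sylow 17 G)).ker with hK
  have hKN : ∀ Q : Sylow 17 G, K ≤ normalizer ((Q : Subgroup G) : Set G) := fun Q g hg =>
    Sylow.smul_eq_iff_mem_normalizer.mp (Equiv.congr_fun (MonoidHom.mem_ker.mp hg) Q)
  haveI : K.Normal := MonoidHom.normal_ker _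
  have hN : ∀ Q : Sylow 17 G, normalizer (((Q : Subgroup G) ⊔ K : Subgroup G) : Set G) =
      normalizer ((Q : Subgroup G) : Set G) := by
    intro Q
    have hconj : ∀ g ∈ normalizer ((Q : Subgroup G) : Set G), ∀ z ∈ (Q : Subgroup G) ⊔ K,
        g * z * g⁻¹ ∈ (Q : Subgroup G) ⊔ K := by
      intro g hg z hz
      have hle : (Q : Subgroup G) ⊔ K ≤ ((Q : Subgroup G) ⊔ K).comap (MulAut.conj g).toMonoidHom :=
        sup_le (fun w hw => mem_sup_left ((Subgroup.mem_normalizer_iff.mp hg w).mp hw))
          (fun w hw => mem_sup_right ((inferInstance : K.Normal).conj_mem w hw g))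
      exact hle hz
    refine le_antisymm (fun g hg => ?_) fun g hg => ?_
    · refine Sylow.smul_eq_iff_mem_normalizer.mp (?_ : g • Q = Q)
      have h1 : ((g • Q : Sylow 17 G) : Subgroup G) ≤ normalizer ((Q : Subgroup G) : Set G) := by
        refine le_trans ?_ (sup_le le_normalizer (hKN Q))
        rw [Sylow.coe_subgroup_smul]
        rintro _ ⟨x, hx, rfl⟩
        exact (Subgroup.mem_normalizer_iff.1 hg x).1 (mem_sup_left hx)
      have h2 := Q.is_maximal' ((g • Q).isPGroup'.to_sup_of_normal_right' Q.isPGroup' h1) le_sup_right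
      have hle : ((g • Q : Sylow 17 G) : Subgroup G) ≤ Q := le_sup_left.trans_eq h2
      exact Sylow.ext ((g • Q).is_maximal' Q.isPGroup' hle).symm
    · refine Subgroup.mem_normalizer_iff.mpr fun x => ⟨hconj g hg x, fun hx => ?_⟩
      have := hconj g⁻¹ (inv_mem hg) _ hx
      rwa [inv_inv, show g⁻¹ * (g * x * g⁻¹) * g = x by group] at this
  obtain ⟨P⟩ : Nonempty (Sylow 17 G) := inferInstance
  have hX : Nat.card (Sylow 17 (G ⧸ K)) = 35 := by
    rw [CfsgLib.NT.SylowCount.card_sylow_quotient P K, hN, ← h35, P.card_eq_index_normalizer]; rfl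
  refine faithful (G ⧸ K) hX fun y hy => ?_
  obtain ⟨g, rfl⟩ := QuotientGroup.mk'_surjective K y
  rw [← MonoidHom.mem_ker, QuotientGroup.ker_mk', hK, MonoidHom.mem_ker]
  refine Equiv.ext fun Q => ?_
  show g • Q = Q
  refine Sylow.smul_eq_iff_mem_normalizer.mpr (show g ∈ normalizer ((Q : Subgroup G) : Set G) from ?_)
  rw [← hN Q, Subgroup.mem_normalizer_iff]
  have h1 := Sylow.smul_eq_iff_mem_normalizer.mp (hy (Q.mapSurjective (QuotientGroup.mk'_surjective K)))
  intro x
  have h2 := Subgroup.mem_normalizer_iff.mp h1 (QuotientGroup.mk' K x)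
  rw [Sylow.coe_mapSurjective, ← Subgroup.mem_comap, Subgroup.comap_map_eq, QuotientGroup.ker_mk',
    ← map_inv, ← map_mul, ← map_mul, ← Subgroup.mem_comap, Subgroup.comap_map_eq,
    QuotientGroup.ker_mk'] at h2
  exact h2

end Cfsg.Agent.S4236
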