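import Cfsg.Statements.S4237
import Mathlib
import Cfsg.Agent.Lib.PGroup.Kulakoff
import Cfsg.Agent.Lib.PGroup.SubgroupCountSylow

set_option autoImplicit false
open Cfsg

namespace Cfsg.Agent.S4237

/-- Let G be a finite group, p a prime and a a natural number such that p^(a+1) divides the order of G. Then the number of subgroups of G of order p^a is congruent to 1 or to 1 + p modulo p². -/
theorem result {G : Type*} [Group G] [Finite G] (p a : ℕ) (hp : p.Prime) (hdvd : p ^ (a + 1) ∣ Nat.card G) :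
    Nat.card {H : Subgroup G // Nat.card H = p ^ a} ≡ 1 [MOD p ^ 2] ∨
      Nat.card {H : Subgroup G // Nat.card H = p ^ a} ≡ 1 + p [MOD p ^ 2] := by
  have := Fact.mk hp
  let P : Sylow p G := default
  obtain ⟨n, hn⟩ := P.isPGroup'.exists_card_eq
  have han : a + 1 ≤ n := by
    obtain ⟨T, hT⟩ := Sylow.exists_subgroup_card_pow_prime p hdvd
    have := CfsgLib.PGroup.SubgroupCountSylow.card_le_sylow P (IsPGroup.of_card hT)
    rw [hT, hn] at this
    exact (Nat.pow_le_pow_iff_right hp.one_lt).mp this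
  have key := CfsgLib.PGroup.SubgroupCountSylow.cnt_sylow P hdvd
  simp only [← ZMod.natCast_eq_natCast_iff, Nat.cast_add, Nat.cast_one]
  show ((CfsgLib.PGroup.SubgroupCount.cnt G (p ^ a) : ℕ) : ZMod (p ^ 2)) = 1 ∨
    ((CfsgLib.PGroup.SubgroupCount.cnt G (p ^ a) : ℕ) : ZMod (p ^ 2)) = 1 + p
  rw [key]
  rcases Nat.eq_zero_or_pos a with rfl | ha
  · left
    have h1 : CfsgLib.PGroup.SubgroupCount.cnt (P : Subgroup G) (p ^ 0) = 1 := by
      rw [CfsgLib.PGroup.SubgroupCount.cnt, Nat.card_eq_one_iff_unique]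
      exact ⟨⟨fun u v => Subtype.ext ((Subgroup.eq_bot_of_card_eq _ (by simpa using u.2)).trans
        (Subgroup.eq_bot_of_card_eq _ (by simpa using v.2)).symm)⟩, ⟨⟨⊥, by simp⟩⟩⟩
    rw [h1, Nat.cast_one]
  by_cases hc : IsCyclic (P : Subgroup G)
  · left
    rw [CfsgLib.PGroup.Kulakoff.cnt_cyclic hn (by omega), Nat.cast_one]
  rw [CfsgLib.PGroup.Kulakoff.kulakoff n (P : Subgroup G) hn hc a ha (by omega),
    CfsgLib.PGroup.Kulakoff.expected]
  split_ifs
  · exact Or.inl rfl
  · exact Or.inr rfl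

end Cfsg.Agent.S4237
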