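import Cfsg.Statements.S4238
import Mathlib
import Cfsg.Agent.Lib.Fusion.Alperin
import Cfsg.Agent.Lib.OddOrder.Stabilize
import Cfsg.Agent.Lib.PGroup.Frattini
import Cfsg.Agent.Lib.Solvable.Cores

set_option autoImplicit false
open Cfsg

namespace Cfsg.Agent.S4238

open Subgroup

/-- Let G be a finite group and p a prime. Then G has a normal p-complement if and only if every section K = H/N of G (N a normal subgroup of a subgroup H) whose largest normal subgroup of order prime to p is trivial contains an element whose order equals the exponent of K. -/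
theorem result {G : Type*} [Group G] [Finite G] (p : ℕ) [Fact p.Prime] :
    Cfsg.HasNormalPComplement p G ↔
      ∀ (H : Subgroup G) (N : Subgroup H) [N.Normal], Cfsg.pPrimeCore p (H ⧸ N) = ⊥ →
        ∃ k : H ⧸ N, orderOf k = Monoid.exponent (H ⧸ N) := by
  classical
  have hp : p.Prime := Fact.out
  constructor
  · intro h H N _ hcore
    have hK := CfsgLib.Fusion.Basic.npc_quotient (CfsgLib.Fusion.Basic.npc_subgroup h H) N
    have hbot : Cfsg.pResidual p (H ⧸ N) = ⊥ := eq_bot_iff.mpr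
      (hcore ▸ CfsgLib.Solvable.Cores.le_pPrimeCore (CfsgLib.Fusion.Basic.npc_iff_coprime.mp hK))
    have hpg : IsPGroup p (H ⧸ N) :=
      (CfsgLib.Fusion.Basic.isPGroup_quotient_pResidual (p := p) (G := H ⧸ N)).of_equiv
        ((QuotientGroup.quotientMulEquivOfEq hbot).trans QuotientGroup.quotientBot)
    obtain ⟨k, hk⟩ := hp.exists_orderOf_eq_pow_factorization_exponent (H ⧸ N)
    obtain ⟨m, hm⟩ := hpg.exists_card_eq
    obtain ⟨j, -, hj⟩ := (Nat.dvd_prime_pow hp).mp
      (hm ▸ Monoid.exponent_dvd_of_forall_pow_eq_one fun x : H ⧸ N => pow_card_eq_one')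
    refine ⟨k, hk.trans ?_⟩
    rw [hj, hp.factorization_pow, Finsupp.single_eq_same]
  · intro h
    by_contra hcon
    obtain ⟨P⟩ : Nonempty (Sylow p G) := inferInstance
    obtain ⟨Q₀, g₀, hQ₀, hg₀, ho₀, hc₀⟩ : ∃ (Q : Subgroup G) (g : G), IsPGroup p Q ∧
        g ∈ normalizer (Q : Set G) ∧ (orderOf g).Coprime p ∧ g ∉ centralizer (Q : Set G) := by
      by_contra! hall
      exact hcon (CfsgLib.Fusion.Alperin.npc_of_frobenius P fun Q hQ g hg ho =>
        hall Q g (P.2.to_le hQ) hg ho)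
    obtain ⟨Q, ⟨hQ, hex⟩, hQmin⟩ := ({Q : Subgroup G | IsPGroup p Q ∧ ∃ g : G,
        g ∈ normalizer (Q : Set G) ∧ (orderOf g).Coprime p ∧ g ∉ centralizer (Q : Set G)}).toFinite.exists_minimalFor
        (fun Q : Subgroup G => Nat.card Q) _ ⟨Q₀, hQ₀, g₀, hg₀, ho₀, hc₀⟩
    obtain ⟨g, ⟨hg, ho, hc⟩, hgmin⟩ := ({g : G | g ∈ normalizer (Q : Set G) ∧
        (orderOf g).Coprime p ∧ g ∉ centralizer (Q : Set G)}).toFinite.exists_minimalFor
        orderOf _ hex
    have hprop : ∀ M : Subgroup G, M < Q → g ∈ normalizer (M : Set G) → ∀ x ∈ M, g * x = x * g := by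
      intro M hM hgM x hx
      by_contra hne
      have hle := hQmin (j := M) ⟨hQ.to_le hM.le, g, hgM, ho, fun hgc => hne (hgc x hx).symm⟩
        (Subgroup.card_le_of_le hM.le)
      exact hM.ne (Subgroup.eq_of_le_of_card_ge hM.le hle)
    have hg1 : orderOf g ≠ 1 := fun h1 => hc (orderOf_eq_one_iff.mp h1 ▸ one_mem _)
    obtain ⟨r, hr, hrd⟩ := Nat.exists_prime_and_dvd hg1
    have hgr : g ^ r ∈ centralizer (Q : Set G) := by
      by_contra hnc
      have hlt : orderOf (g ^ r) < orderOf g := by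
        rw [orderOf_pow_of_dvd hr.ne_zero hrd]
        exact Nat.div_lt_self (orderOf_pos g) hr.one_lt
      have := hgmin (j := g ^ r) ⟨pow_mem hg r,
        Nat.Coprime.coprime_dvd_left (orderOf_pow_dvd r) ho, hnc⟩ hlt.le
      omega
    have hrp : r ≠ p := by
      rintro rfl
      exact hr.ne_one (Nat.eq_one_of_dvd_coprimes ho hrd dvd_rfl)
    -- the Frattini subgroup
    set F := (frattini Q).map Q.subtype with hF
    have hFQ : F ≤ Q := map_subtype_le _
    have hFn : ∀ a ∈ normalizer (Q : Set G), ∀ y ∈ F, a * y * a⁻¹ ∈ F := by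
      rintro a ha _ ⟨y, hy, rfl⟩
      exact ⟨Q.normalizerMonoidHom ⟨a, ha⟩ y, characteristic_iff_map_le.mp inferInstance
        (Q.normalizerMonoidHom ⟨a, ha⟩) ⟨y, hy, rfl⟩, rfl⟩
    haveI : Nontrivial Q := (nontrivial_iff_ne_bot _).mpr fun hb => hc (by
      rw [hb]; intro x hx; rw [SetLike.mem_coe, mem_bot] at hx; simp [hx])
    have hFlt : F < Q := by
      refine lt_of_le_of_ne hFQ fun heq => ?_
      obtain ⟨M, hM, -⟩ := (eq_top_or_exists_le_coatom (⊥ : Subgroup Q)).resolve_left bot_ne_top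
      refine hM.1 (eq_top_iff.mpr fun x _ => frattini_le_coatom hM ?_)
      obtain ⟨y, hy, hyx⟩ := (heq.symm ▸ x.2 : (x : G) ∈ F)
      exact Subtype.ext hyx ▸ hy
    have hFg : g ∈ normalizer (F : Set G) := by
      refine Subgroup.mem_normalizer_iff.mpr fun y => ⟨fun hy => hFn g hg y hy, fun hy => ?_⟩
      have := hFn g⁻¹ (inv_mem hg) _ hy
      rwa [inv_inv, show g⁻¹ * (g * y * g⁻¹) * g = y by group] at this
    have hqm : ∀ a b : Q, (QuotientGroup.mk' (frattini Q)) a * QuotientGroup.mk' (frattini Q) b =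
        QuotientGroup.mk' (frattini Q) b * QuotientGroup.mk' (frattini Q) a := fun a b =>
      CfsgLib.PGroup.Frattini.quotient_mul_comm hQ _ _
    set α := Q.normalizerMonoidHom ⟨g, hg⟩ with hα
    let φ : Q →* Q ⧸ frattini Q :=
      { toFun := fun x => QuotientGroup.mk' (frattini Q) (α x * x⁻¹)
        map_one' := by simp
        map_mul' := fun x y => by
          rw [show α (x * y) * (x * y)⁻¹ = α x * (α y * y⁻¹) * x⁻¹ by
            rw [map_mul, mul_inv_rev]; group]
          rw [map_mul, map_mul, map_mul _ (α x) x⁻¹, mul_assoc, hqm (α y * y⁻¹) x⁻¹, ← mul_assoc] }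
    have hφsurj : Function.Surjective φ := by
      rw [← MonoidHom.range_eq_top]
      by_contra hne
      set M' := φ.range.comap (QuotientGroup.mk' (frattini Q)) with hM'
      set M := M'.map Q.subtype with hMdef
      have hMlt : M < Q := by
        refine lt_of_le_of_ne (map_subtype_le _) fun heq => hne (eq_top_iff.mpr fun y _ => ?_)
        obtain ⟨x, rfl⟩ := QuotientGroup.mk'_surjective _ y
        obtain ⟨z, hz, hzx⟩ := (heq.symm ▸ x.2 : (x : G) ∈ M)
        exact Subtype.ext hzx ▸ hz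
      have hconj : ∀ (β : MulAut Q), (∀ x, β (α x) = α (β x)) → ∀ z ∈ M', β z ∈ M' := by
        intro β hβ z hz
        obtain ⟨x, hx⟩ := hz
        refine ⟨β x, ?_⟩
        have hch := characteristic_iff_map_le.mp (inferInstance : (frattini Q).Characteristic) β
        have h1 : (α x * x⁻¹)⁻¹ * z ∈ frattini Q := QuotientGroup.eq.mp hx
        have h2 := hch ⟨_, h1, rfl⟩
        show ((α (β x) * (β x)⁻¹ : Q) : Q ⧸ frattini Q) = (β z : Q)
        rw [QuotientGroup.eq]
        simpa [hβ] using h2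
      have hgM : g ∈ normalizer (M : Set G) := by
        refine Subgroup.mem_normalizer_iff.mpr fun y => ⟨?_, ?_⟩
        · rintro ⟨z, hz, rfl⟩
          exact ⟨α z, hconj α (fun _ => rfl) z hz, rfl⟩
        · rintro ⟨z, hz, hzy⟩
          refine ⟨α⁻¹ z, hconj α⁻¹ (fun x => by simp) z hz, ?_⟩
          have hα' : α⁻¹ = Q.normalizerMonoidHom (⟨g, hg⟩⁻¹) := (map_inv _ _).symm
          rw [hα']
          show g⁻¹ * (z : G) * g⁻¹⁻¹ = y
          rw [show (z : G) = g * y * g⁻¹ from hzy]; group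
      refine hc fun y hy => ?_
      have hw : α ⟨y, hy⟩ * (⟨y, hy⟩ : Q)⁻¹ ∈ M' := ⟨⟨y, hy⟩, rfl⟩
      have hw' : g * y * g⁻¹ * y⁻¹ ∈ M := ⟨_, hw, rfl⟩
      have hconj' : y⁻¹ * (g * y * g⁻¹ * y⁻¹) * y ∈ M := by
        obtain ⟨z, hz, hz'⟩ := hw'
        refine ⟨(⟨y, hy⟩ : Q)⁻¹ * z * ⟨y, hy⟩, ?_, by simp [← hz']⟩
        show QuotientGroup.mk' (frattini Q) _ ∈ φ.range
        rw [map_mul, map_mul]
        rw [hqm _ z, mul_assoc, ← map_mul, inv_mul_cancel, map_one, mul_one]
        exact hz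
      have hcm := hprop M hMlt hgM _ hconj'
      have hd : orderOf (y⁻¹ * (g * y * g⁻¹ * y⁻¹) * y) ∣ Nat.card Q :=
        orderOf_dvd_natCard Q (hMlt.le hconj')
      obtain ⟨n, hn⟩ := hQ.exists_card_eq
      have h1 := CfsgLib.OddOrder.Stabilize.eq_one_of_conj_eq_mul (a := g) (h := y)
        (c := y⁻¹ * (g * y * g⁻¹ * y⁻¹) * y) (by group) hcm
        ((ho.pow_right n).coprime_dvd_right (hn ▸ hd))
      have h2 : g * y * g⁻¹ * y⁻¹ = 1 :=
        calc g * y * g⁻¹ * y⁻¹ = y * (y⁻¹ * (g * y * g⁻¹ * y⁻¹) * y) * y⁻¹ := by group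
          _ = 1 := by rw [h1]; group
      exact (mul_inv_eq_iff_eq_mul.mp (mul_inv_eq_one.mp h2)).symm
    have hker : ∀ x : G, x ∈ Q → g * x * g⁻¹ * x⁻¹ ∈ F → x ∈ F := by
      intro x hx hxF
      have hle : frattini Q ≤ φ.ker := by
        intro z hz
        rw [MonoidHom.mem_ker]
        exact (QuotientGroup.eq_one_iff _).mpr (mul_mem
          (characteristic_iff_map_le.mp (inferInstance : (frattini Q).Characteristic) α ⟨z, hz, rfl⟩)
          (inv_mem hz))
      let ψ := QuotientGroup.lift (frattini Q) φ hle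
      have hψ : Function.Surjective ψ := fun y => by
        obtain ⟨z, rfl⟩ := hφsurj y; exact ⟨z, rfl⟩
      obtain ⟨w, hw, hwx⟩ := hxF
      have h1 : ψ (⟨x, hx⟩ : Q) = 1 := by
        show φ ⟨x, hx⟩ = 1
        refine (QuotientGroup.eq_one_iff _).mpr ?_
        have : w = α ⟨x, hx⟩ * (⟨x, hx⟩ : Q)⁻¹ := Subtype.ext hwx
        exact this ▸ hw
      have h2 := (Finite.injective_iff_surjective.mpr hψ) (h1.trans (map_one ψ).symm)
      exact ⟨⟨x, hx⟩, (QuotientGroup.eq_one_iff _).mp h2, rfl⟩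
    -- the section
    set H := Q ⊔ zpowers g with hH
    have hcyc : ∀ c ∈ zpowers (g ^ r), ∀ x ∈ Q, c * x = x * c := fun c hc x hx =>
      ((zpowers_le.mpr hgr) hc x hx).symm
    let N' : Subgroup G := F ⊔ zpowers (g ^ r)
    have hmemN : ∀ y ∈ N', ∃ f ∈ F, ∃ c ∈ zpowers (g ^ r), f * c = y := by
      intro y hy
      have hy' : y ∈ ((F ⊔ zpowers (g ^ r) : Subgroup G) : Set G) := hy
      rw [coe_mul_of_right_le_normalizer_left F _ ?_] at hy'
      · exact Set.mem_mul.mp hy'
      · rw [zpowers_le]; exact pow_mem hFg r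
    have hN'H : H ≤ normalizer (N' : Set G) := by
      have key : ∀ a ∈ normalizer (Q : Set G), (∀ c ∈ zpowers (g ^ r), a * c = c * a) →
          ∀ y ∈ N', a * y * a⁻¹ ∈ N' := by
        intro a ha hac y hy
        obtain ⟨f, hf, c, hc, rfl⟩ := hmemN y hy
        rw [show a * (f * c) * a⁻¹ = a * f * a⁻¹ * (a * c * a⁻¹) by group, hac c hc, mul_inv_cancel_right]
        exact mul_mem (mem_sup_left (hFn a ha f hf)) (mem_sup_right hc)
      refine sup_le (fun a ha => ?_) (zpowers_le.mpr ?_) <;> rw [Subgroup.mem_normalizer_iff] <;> intro y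
      · refine ⟨key a (le_normalizer ha) (fun c hc => (hcyc c hc a ha).symm) y, fun hy => ?_⟩
        have := key a⁻¹ (inv_mem (le_normalizer ha)) (fun c hc => (hcyc c hc _ (inv_mem ha)).symm) _ hy
        rwa [inv_inv, show a⁻¹ * (a * y * a⁻¹) * a = y by group] at this
      · have hgc : ∀ c ∈ zpowers (g ^ r), Commute g c := fun c hc => by
          obtain ⟨i, rfl⟩ := mem_zpowers_iff.mp hc
          exact ((Commute.refl g).pow_right r).zpow_right i
        refine ⟨key g hg (fun c hc => hgc c hc) y, fun hy => ?_⟩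
        have := key g⁻¹ (inv_mem hg) (fun c hc => (hgc c hc).inv_left) _ hy
        rwa [inv_inv, show g⁻¹ * (g * y * g⁻¹) * g = y by group] at this
    set N : Subgroup H := N'.subgroupOf H with hNdef
    have hN'le : N' ≤ H := sup_le (hFQ.trans le_sup_left)
      (zpowers_le.mpr (mem_sup_right (pow_mem (mem_zpowers g) r)))
    haveI : N.Normal := (normal_subgroupOf_iff_le_normalizer hN'le).mpr hN'H
    have hNQ : ∀ x ∈ Q, x ∈ N' → x ∈ F := by
      intro x hx hxN
      obtain ⟨f, hf, c, hc, rfl⟩ := hmemN x hxN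
      have hcQ : c ∈ Q := by simpa using mul_mem (inv_mem (hFQ hf)) hx
      obtain ⟨n, hn⟩ := hQ.exists_card_eq
      have : c = 1 := orderOf_eq_one_iff.mp (Nat.eq_one_of_dvd_coprimes (ho.pow_right n)
        ((CfsgLib.OddOrder.Stabilize.orderOf_dvd_card_of_mem hc).trans
          ((Nat.card_zpowers (g ^ r)).symm ▸ orderOf_pow_dvd r))
        (hn ▸ orderOf_dvd_natCard Q hcQ))
      rwa [this, mul_one]
    let π := QuotientGroup.mk' N
    let γ : H ⧸ N := π ⟨g, mem_sup_right (mem_zpowers g)⟩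
    let ι : Q →* H ⧸ N := π.comp (inclusion le_sup_left)
    have hγr : γ ^ r = 1 := by
      rw [← map_pow]; exact (QuotientGroup.eq_one_iff _).mpr (mem_sup_right (mem_zpowers _))
    have hιker : ∀ x : Q, ι x = 1 → (x : G) ∈ F := fun x hx =>
      hNQ x x.2 (mem_subgroupOf.mp ((QuotientGroup.eq_one_iff (N := N) _).mp hx))
    haveI hιn : ι.range.Normal := by
      have : ι.range = ((Q.subgroupOf H).map π) := by
        ext y
        constructor
        · rintro ⟨x, rfl⟩; exact ⟨inclusion le_sup_left x, x.2, rfl⟩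
        · rintro ⟨x, hx, rfl⟩; exact ⟨⟨x, hx⟩, rfl⟩
      rw [this]
      haveI : (Q.subgroupOf H).Normal := (normal_subgroupOf_iff_le_normalizer le_sup_left).mpr
        (sup_le le_normalizer (zpowers_le.mpr hg))
      exact Subgroup.Normal.map inferInstance π (QuotientGroup.mk'_surjective N)
    have hιcomm : ∀ x y : Q, ι x * ι y = ι y * ι x := by
      intro x y
      rw [← map_mul, ← map_mul]
      refine (QuotientGroup.eq).mpr (mem_subgroupOf.mpr (mem_sup_left ?_))
      refine ⟨(x * y)⁻¹ * (y * x), ?_, rfl⟩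
      rw [SetLike.mem_coe, ← QuotientGroup.eq]; exact hqm x y
    have hform : ∀ k : H ⧸ N, ∃ (x : Q) (i : ℤ), k = ι x * γ ^ i := by
      intro k
      obtain ⟨⟨y, hy⟩, rfl⟩ := QuotientGroup.mk'_surjective N k
      have hy' : y ∈ ((Q ⊔ zpowers g : Subgroup G) : Set G) := hy
      rw [coe_mul_of_right_le_normalizer_left Q _ (zpowers_le.mpr hg)] at hy'
      obtain ⟨x, hx, c, hc, rfl⟩ := Set.mem_mul.mp hy'
      obtain ⟨i, rfl⟩ := mem_zpowers_iff.mp hc
      refine ⟨⟨x, hx⟩, i, ?_⟩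
      rw [← map_zpow]
      exact (congrArg π (Subtype.ext (by simp))).trans (map_mul π (inclusion le_sup_left ⟨x, hx⟩) _)
    -- p'-elements do not commute with the image of x ∉ F
    have hkey : ∀ (v : H ⧸ N), v ∉ ι.range → ∀ x : Q, v * ι x = ι x * v → (x : G) ∈ F := by
      intro v hv x hvx
      obtain ⟨y, i, rfl⟩ := hform v
      have hi : ¬ (r : ℤ) ∣ i := by
        rintro ⟨j, rfl⟩
        refine hv ⟨y, ?_⟩
        rw [zpow_mul, zpow_natCast, hγr, one_zpow, mul_one]
      have hc : Commute (γ ^ i) (ι x) := by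
        have h1 : Commute (ι y * γ ^ i) (ι x) := hvx
        have h2 : Commute (ι y)⁻¹ (ι x) := Commute.inv_left (hιcomm y x)
        have h3 := h2.mul_left h1
        rwa [inv_mul_cancel_left] at h3
      obtain ⟨a, b, hab⟩ := ((Int.isCoprime_iff_gcd_eq_one).mpr (by
        rw [Int.gcd_def, Int.natAbs_natCast]
        exact (hr.coprime_iff_not_dvd.mpr fun h' => hi (Int.natCast_dvd.mpr h'))) : IsCoprime (r : ℤ) i)
      have hγ : γ = (γ ^ i) ^ b := by
        rw [← zpow_mul]
        conv_lhs => rw [← zpow_one γ, ← hab, zpow_add, mul_comm a, zpow_mul, zpow_natCast, hγr,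
          one_zpow, one_mul, mul_comm b]
      have hc' : Commute γ (ι x) := hγ ▸ hc.zpow_left b
      refine hker x x.2 (hNQ _ ?_ ?_)
      · exact mul_mem ((Subgroup.mem_normalizer_iff.mp hg x).mp x.2) (inv_mem x.2)
      · have h1 : γ * ι x * γ⁻¹ * (ι x)⁻¹ = 1 := by rw [hc'.eq]; group
        have h2 : π (⟨g, mem_sup_right (mem_zpowers g)⟩ * inclusion le_sup_left x *
            ⟨g, mem_sup_right (mem_zpowers g)⟩⁻¹ * inclusion le_sup_left x⁻¹) = 1 := by
          simp only [map_mul, map_inv]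
          exact h1
        exact mem_subgroupOf.mp ((QuotientGroup.eq_one_iff (N := N) _).mp h2)
    obtain ⟨x, hxQ, hxF⟩ := SetLike.exists_of_lt hFlt
    have hιp : IsPGroup p ι.range := hQ.of_surjective ι.rangeRestrict ι.rangeRestrict_surjective
    have hx1 : ι ⟨x, hxQ⟩ ≠ 1 := fun h1 => hxF (hιker _ h1)
    have hnot : ∀ v : H ⧸ N, v ≠ 1 → (orderOf v).Coprime p → v ∉ ι.range := fun v hv1 hv hmem => hv1
      (congrArg Subtype.val (CfsgLib.Fusion.Basic.eq_one_of_isPGroup_of_coprime hιp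
        (x := (⟨v, hmem⟩ : ι.range)) (by rwa [Subgroup.orderOf_mk])))
    have hcore : Cfsg.pPrimeCore p (H ⧸ N) = ⊥ := by
      rw [eq_bot_iff]
      intro v hv
      by_contra hv1
      rw [mem_bot] at hv1
      have hvo : (orderOf v).Coprime p := (CfsgLib.Solvable.Cores.coprime_card_pPrimeCore p).coprime_dvd_left
        (orderOf_dvd_natCard _ hv)
      refine hxF (hkey v (hnot v hv1 hvo) ⟨x, hxQ⟩ ?_)
      have := CfsgLib.Solvable.Cores.pPrimeCore_normal (G := H ⧸ N) p
      exact commute_of_normal_of_disjoint _ _ this hιn (disjoint_iff.mpr (by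
        rw [inf_comm]; exact CfsgLib.Fusion.Basic.inf_eq_bot_of_coprime hιp
          (CfsgLib.Solvable.Cores.coprime_card_pPrimeCore p))) v _ hv ⟨_, rfl⟩
    obtain ⟨k, hk⟩ := h H N hcore
    have hpk : p ∣ orderOf k := by
      rw [hk]
      obtain ⟨n, hn⟩ := IsPGroup.iff_orderOf.mp hιp ⟨ι ⟨x, hxQ⟩, _, rfl⟩
      rw [← Subgroup.orderOf_coe] at hn
      have hn0 : n ≠ 0 := fun h0 => hx1 (orderOf_eq_one_iff.mp (by rw [hn, h0, pow_zero]))
      exact (dvd_pow_self p hn0).trans (hn ▸ Monoid.order_dvd_exponent _)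
    have hγ1 : orderOf γ = r := by
      haveI : Fact r.Prime := ⟨hr⟩
      refine orderOf_eq_prime hγr fun h1 => hxF (hker x hxQ (hNQ _ ?_ ?_))
      · exact mul_mem ((Subgroup.mem_normalizer_iff.mp hg x).mp hxQ) (inv_mem hxQ)
      · have hgN : g ∈ N' := mem_subgroupOf.mp ((QuotientGroup.eq_one_iff (N := N) _).mp h1)
        have hxH : x ∈ H := mem_sup_left hxQ
        rw [show g * x * g⁻¹ * x⁻¹ = g * (x * g⁻¹ * x⁻¹) by group]
        exact mul_mem hgN ((Subgroup.mem_normalizer_iff.mp (hN'H hxH) _).mp (inv_mem hgN))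
    have hrk : r ∣ orderOf k := hk ▸ hγ1 ▸ Monoid.order_dvd_exponent _
    have hu : orderOf (k ^ (orderOf k / p)) = p :=
      orderOf_pow_orderOf_div (orderOf_pos k).ne' hpk
    have hv : orderOf (k ^ (orderOf k / r)) = r :=
      orderOf_pow_orderOf_div (orderOf_pos k).ne' hrk
    have hcuv : Commute (k ^ (orderOf k / r)) (k ^ (orderOf k / p)) := Commute.pow_pow_self k _ _
    obtain ⟨y, i, hy⟩ := hform (k ^ (orderOf k / p))
    have humem : k ^ (orderOf k / p) ∈ ι.range := by
      rw [← QuotientGroup.eq_one_iff]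
      refine orderOf_eq_one_iff.mp (Nat.eq_one_of_dvd_coprimes
        ((Nat.coprime_primes hp hr).mpr hrp.symm) ?_ ?_)
      · exact (orderOf_map_dvd (QuotientGroup.mk' ι.range) _).trans hu.dvd
      · rw [orderOf_dvd_iff_pow_eq_one, hy, ← QuotientGroup.mk_pow, QuotientGroup.eq_one_iff]
        have : ((ι y * γ ^ i : H ⧸ N) : (H ⧸ N) ⧸ ι.range) = ((γ ^ i : H ⧸ N) : (H ⧸ N) ⧸ ι.range) := by
          rw [QuotientGroup.mk_mul, (QuotientGroup.eq_one_iff _).mpr (show ι y ∈ ι.range from ⟨y, rfl⟩), one_mul]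
        rw [← QuotientGroup.eq_one_iff, QuotientGroup.mk_pow, this, ← QuotientGroup.mk_pow,
          ← zpow_natCast, ← zpow_mul, mul_comm, zpow_mul, zpow_natCast, hγr, one_zpow,
          QuotientGroup.mk_one]
    obtain ⟨u, hu'⟩ := humem
    have hv1 : k ^ (orderOf k / r) ≠ 1 := fun h1 => hr.ne_one (by rw [← hv, h1, orderOf_one])
    have huF := hkey _ (hnot _ hv1 (by rw [hv]; exact (Nat.coprime_primes hr hp).mpr hrp)) u
      (by rw [hu']; exact hcuv)
    have : ι u = 1 := (QuotientGroup.eq_one_iff _).mpr (mem_subgroupOf.mpr (mem_sup_left huF))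
    rw [← hu', this, orderOf_one] at hu
    exact hp.ne_one hu.symm

end Cfsg.Agent.S4238
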