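import Cfsg.Statements.S4240
import Cfsg.Agent.S0205
import Cfsg.Agent.Lib.LocalEvenB.InvariantNilpotent
-- import your own Cfsg.Agent.* helpers here

set_option autoImplicit false
open Cfsg

namespace Cfsg.Agent.S4240

/-- Let a finite group A act by automorphisms on a finite group G of order coprime to that of A. Suppose every maximal A-invariant proper subgroup of G is nilpotent while G is not. Then G is solvable, the order of G has the form p^a·q^b for two distinct primes p and q, and G has a normal A-invariant Sylow subgroup for some prime dividing its order. -/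
theorem result {A G : Type*} [Group A] [Group G] [Finite A] [Finite G] [MulDistribMulAction A G]
    (hcop : (Nat.card A).Coprime (Nat.card G))
    (hmax : ∀ H : Subgroup G, H ≠ ⊤ → (∀ a : A, ∀ x ∈ H, a • x ∈ H) →
      (∀ K : Subgroup G, H < K → (∀ a : A, ∀ x ∈ K, a • x ∈ K) → K = ⊤) → Group.IsNilpotent H)
    (hG : ¬ Group.IsNilpotent G) :
    Group.IsSolvable G ∧
      (∃ p q a b : ℕ, p.Prime ∧ q.Prime ∧ p ≠ q ∧ Nat.card G = p ^ a * q ^ b) ∧
      ∃ (p : ℕ) (P : Sylow p G), p.Prime ∧ p ∣ Nat.card G ∧ (P : Subgroup G).Normal ∧ (∀ a : A, ∀ x ∈ (P : Subgroup G), a • x ∈ (P : Subgroup G)) := by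
  classical
  have hsolv : Group.IsSolvable A ∨ Group.IsSolvable G := by
    rcases Nat.even_or_odd (Nat.card A) with ha | ha
    · refine Or.inr (Cfsg.Agent.S0205.result ?_)
      rw [← Nat.not_even_iff_odd]
      intro hg
      have h2 := Nat.dvd_gcd ha.two_dvd hg.two_dvd
      rw [hcop.gcd_eq_one] at h2
      omega
    · exact Or.inl (Cfsg.Agent.S0205.result ha)
  have hsub : ∀ H : Subgroup G, H ≠ ⊤ → (∀ a : A, ∀ x ∈ H, a • x ∈ H) → Group.IsNilpotent H := by
    intro H hH hHA
    obtain ⟨K, hK, hKmax⟩ := ((Set.toFinite {K : Subgroup G | K ≠ ⊤ ∧ ∀ a : A, ∀ x ∈ K, a • x ∈ K}).exists_le_maximal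
      (show H ∈ {K : Subgroup G | K ≠ ⊤ ∧ ∀ a : A, ∀ x ∈ K, a • x ∈ K} from ⟨hH, hHA⟩))
    haveI : Group.IsNilpotent K := hmax K hKmax.prop.1 hKmax.prop.2 fun L hKL hLA => by
      by_contra hL
      exact hKL.not_ge (hKmax.2 ⟨hL, hLA⟩ hKL.le)
    exact Group.nilpotent_of_mulEquiv (Subgroup.subgroupOfEquivOfLe hK)
  exact CfsgLib.LocalEvenB.InvariantNilpotent.structure_theorem (MulDistribMulAction.toMulAut A G) hcop hsolv
    hsub hG

end Cfsg.Agent.S4240
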