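import Cfsg.Statements.S4242
import Mathlib
import Cfsg.Agent.Lib.OddOrder.Basic
import Cfsg.Agent.Lib.Fusion.Alperin
import Cfsg.Agent.Lib.Fusion.Thompson

set_option autoImplicit false
open Cfsg

namespace Cfsg.Agent.S4242

open Subgroup CfsgLib.OddOrder.Basic

theorem backward {G : Type*} [Group G] [Finite G] (p : ℕ) [Fact p.Prime] (hpG : p ∣ Nat.card G)
    (h : Group.IsNilpotent G ∨ Cfsg.IsMinimalNonNilpotent G ∨
      ∃ Z K : Subgroup G, Z.Normal ∧ K.Normal ∧ Z ⊓ K = ⊥ ∧ Z ⊔ K = ⊤ ∧ Nat.card Z = p ∧
        Cfsg.IsMinimalNonNilpotent K ∧ ¬ p ∣ Nat.card K) :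
    ∀ M : Subgroup G, IsCoatom M → p ∣ Nat.card M → Group.IsNilpotent M := by
  intro M hM hpM
  rcases h with h | h | ⟨Z, K, hZn, hKn, hd, hs, hZ, hK, hpK⟩
  · haveI := h; infer_instance
  · exact h.2 M hM.1
  haveI := hZn; haveI := hKn
  have hidx : Z.index = Nat.card K := by
    have h1 : IsComplement' K Z := isComplement'_of_disjoint_and_mul_eq_univ
      (disjoint_iff.mpr (by rw [inf_comm]; exact hd))
      (by rw [← normal_mul, sup_comm, hs]; rfl)
    rw [h1.index_eq_card]
  -- elements of order p lie in the normal Sylow subgroup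
  obtain ⟨x, hx⟩ := exists_prime_orderOf_dvd_card' p hpM
  have hxZ : (x : G) ∈ Z := by
    rw [← QuotientGroup.eq_one_iff, ← QuotientGroup.mk'_apply, ← orderOf_eq_one_iff]
    have h1 : orderOf (QuotientGroup.mk' Z (x : G)) ∣ p :=
      (orderOf_map_dvd _ _).trans (by rw [Subgroup.orderOf_coe, hx])
    have h2 : orderOf (QuotientGroup.mk' Z (x : G)) ∣ Nat.card K := hidx ▸ _root_.orderOf_dvd_natCard _
    exact Nat.dvd_one.mp ((((Fact.out : p.Prime).coprime_iff_not_dvd.mpr hpK) : Nat.gcd p _ = 1) ▸
      Nat.dvd_gcd h1 h2)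
  have hZM : Z ≤ M := by
    have hz : zpowers (x : G) = Z := eq_of_le_of_card_ge (zpowers_le.mpr hxZ)
      (by rw [Nat.card_zpowers, Subgroup.orderOf_coe, hx, hZ])
    rw [← hz, zpowers_le]; exact x.2
  have hMeq : M = Z ⊔ (M ⊓ K) := by
    refine le_antisymm (fun m hm => ?_) (sup_le hZM inf_le_left)
    obtain ⟨z, hz, k, hk, rfl⟩ := mem_sup_of_normal_right.mp
      (show m ∈ Z ⊔ K from hs ▸ mem_top m)
    refine mul_mem_sup hz ⟨?_, hk⟩
    have := mul_mem (inv_mem (hZM hz)) hm
    rwa [inv_mul_cancel_left] at this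
  haveI : IsCyclic Z := isCyclic_of_prime_card hZ
  letI : CommGroup Z := IsCyclic.commGroup
  haveI : Group.IsNilpotent (M ⊓ K : Subgroup G) := by
    have hne : (M ⊓ K).subgroupOf K ≠ ⊤ := by
      rw [Ne, subgroupOf_eq_top]
      intro hle
      exact hM.1 (top_le_iff.mp (hs ▸ sup_le hZM (hle.trans inf_le_left)))
    haveI := hK.2 _ hne
    exact Group.nilpotent_of_mulEquiv (subgroupOfEquivOfLe inf_le_right)
  rw [hMeq]
  exact isNilpotent_sup_of_commute fun a ha b hb =>
    commute_of_normal_of_disjoint Z K hZn hKn (disjoint_iff.mpr hd) a b ha hb.2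

theorem commute_of_nilpotent_sub {G : Type*} [Group G] {L : Subgroup G} (hL : Group.IsNilpotent L)
    {a b : G} (ha : a ∈ L) (hb : b ∈ L) (h : (orderOf a).Coprime (orderOf b)) : a * b = b * a := by
  haveI := hL
  exact congrArg Subtype.val (commute_of_coprime_orderOf (a := (⟨a, ha⟩ : L)) (b := ⟨b, hb⟩)
    (by rwa [Subgroup.orderOf_mk, Subgroup.orderOf_mk])).eq

theorem forward {G : Type*} [Group G] [Finite G] (p : ℕ) [Fact p.Prime] (hpG : p ∣ Nat.card G)
    (h : ∀ M : Subgroup G, IsCoatom M → p ∣ Nat.card M → Group.IsNilpotent M) :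
    Group.IsNilpotent G ∨ Cfsg.IsMinimalNonNilpotent G ∨
      ∃ Z K : Subgroup G, Z.Normal ∧ K.Normal ∧ Z ⊓ K = ⊥ ∧ Z ⊔ K = ⊤ ∧ Nat.card Z = p ∧
        Cfsg.IsMinimalNonNilpotent K ∧ ¬ p ∣ Nat.card K := by
  classical
  have hp : p.Prime := Fact.out
  by_cases hG : Group.IsNilpotent G
  · exact Or.inl hG
  by_cases hmin : Cfsg.IsMinimalNonNilpotent G
  · exact Or.inr (Or.inl hmin)
  refine Or.inr (Or.inr ?_)
  -- every proper subgroup of order divisible by p is nilpotent
  have hsub : ∀ L : Subgroup G, L ≠ ⊤ → p ∣ Nat.card L → Group.IsNilpotent L := by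
    intro L hL hpL
    obtain ⟨M, hM, hLM⟩ := (eq_top_or_exists_le_coatom L).resolve_left hL
    haveI := h M hM (hpL.trans (card_dvd_of_le hLM))
    exact Group.nilpotent_of_mulEquiv (subgroupOfEquivOfLe hLM)
  -- a non-nilpotent maximal subgroup
  obtain ⟨M, hM, hMn⟩ : ∃ M : Subgroup G, IsCoatom M ∧ ¬ Group.IsNilpotent M := by
    by_contra! hc
    refine hmin ⟨hG, fun L hL => ?_⟩
    obtain ⟨M, hM, hLM⟩ := (eq_top_or_exists_le_coatom L).resolve_left hL
    haveI := hc M hM
    exact Group.nilpotent_of_mulEquiv (subgroupOfEquivOfLe hLM)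
  have hpM : ¬ p ∣ Nat.card M := fun hd => hMn (h M hM hd)
  -- a non-trivial normal p-subgroup
  obtain ⟨R, hRn, hRp, hR⟩ : ∃ R : Subgroup G, R.Normal ∧ IsPGroup p R ∧ R ≠ ⊥ := by
    by_contra! hc
    have hnpc : Cfsg.HasNormalPComplement p G := by
      rw [CfsgLib.Fusion.Alperin.npc_iff_locals]
      intro Q hQ hQne
      have hne : normalizer (Q : Set G) ≠ ⊤ := fun he => hQne (hc Q (normalizer_eq_top_iff.mp he) hQ)
      have hd : p ∣ Nat.card (normalizer (Q : Set G)) := by
        obtain ⟨k, hk⟩ := hQ.exists_card_eq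
        have hk0 : k ≠ 0 := fun h0 => hQne (card_eq_one.mp (by rw [hk, h0, pow_zero]))
        exact (dvd_pow_self p hk0).trans (hk ▸ card_dvd_of_le le_normalizer)
      haveI := hsub _ hne hd
      obtain ⟨U⟩ : Nonempty (Sylow p (normalizer (Q : Set G))) := inferInstance
      refine CfsgLib.Fusion.Alperin.npc_of_frobenius U fun S hS g hg ho => ?_
      intro s hs
      exact (commute_of_coprime_orderOf (by
        obtain ⟨k, hk⟩ := (U.2.to_le hS) ⟨s, hs⟩
        exact (Nat.Coprime.pow_left k ho.symm).coprime_dvd_left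
          (orderOf_dvd_of_pow_eq_one (congrArg Subtype.val hk)))).eq
    set K := Cfsg.pResidual p G
    have hKp : (Nat.card K).Coprime p := CfsgLib.Fusion.Basic.npc_iff_coprime.mp hnpc
    obtain ⟨P⟩ : Nonempty (Sylow p G) := inferInstance
    have hKtop : K ≠ ⊤ := fun he => hp.not_dvd_one
      (hKp ▸ Nat.dvd_gcd (by rw [he, card_top]; exact hpG) dvd_rfl)
    have hMK : M = K := by
      refine ((hM.le_iff).mp ?_).resolve_left hKtop |>.symm
      intro m hm
      refine CfsgLib.Fusion.Basic.mem_pResidual_of_coprime ?_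
      exact ((hp.coprime_iff_not_dvd.mpr hpM).symm).coprime_dvd_left (Subgroup.orderOf_dvd_natCard _ hm)
    -- cyclic case: order p
    have hcent : ∀ u ∈ (P : Subgroup G), zpowers u ≠ (P : Subgroup G) →
        u ∈ centralizer (K : Set G) := by
      intro u hu hne k hk
      by_cases hu1 : u = 1
      · simp [hu1]
      have hkp : (orderOf k).Coprime p := hKp.coprime_dvd_left (Subgroup.orderOf_dvd_natCard _ hk)
      obtain ⟨j, hj⟩ := P.2 ⟨u, hu⟩
      have hou : orderOf u ∣ p ^ j := orderOf_dvd_of_pow_eq_one (congrArg Subtype.val hj)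
      obtain ⟨i, -, hi⟩ := (Nat.dvd_prime_pow hp).mp hou
      have hi0 : i ≠ 0 := fun h0 => hu1 (orderOf_eq_one_iff.mp (by rw [hi, h0, pow_zero]))
      have hlt : Nat.card (zpowers u) < Nat.card (P : Subgroup G) := by
        refine lt_of_le_of_ne (card_le_of_le (zpowers_le.mpr hu)) fun he => hne ?_
        exact eq_of_le_of_card_ge (zpowers_le.mpr hu) he.ge
      have hL : K ⊔ zpowers u ≠ ⊤ := by
        intro he
        have := CfsgLib.Solvable.Basic.card_sup_mul K (zpowers u)
        have h1 : Nat.card (K ⊔ zpowers u : Subgroup G) ≤ Nat.card K * Nat.card (zpowers u) := by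
          rw [mul_comm, ← this, sup_comm]; exact Nat.le_mul_of_pos_right _ Nat.card_pos
        have h2 : Nat.card K * Nat.card (P : Subgroup G) ≤ Nat.card G := by
          have := CfsgLib.Solvable.Basic.card_sup_mul K (P : Subgroup G)
          rw [CfsgLib.Fusion.Basic.inf_eq_bot_of_coprime P.2 hKp |> fun h => (inf_comm K _).trans h,
            card_bot, mul_one] at this
          rw [mul_comm, ← this]
          exact Subgroup.card_le_card_group _
        rw [he, card_top] at h1
        have := Nat.mul_lt_mul_of_pos_left hlt (Nat.card_pos (α := K))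
        omega
      exact commute_of_nilpotent_sub
        (hsub _ hL (((dvd_pow_self p hi0).trans (by rw [← hi, Nat.card_zpowers])).trans
          (card_dvd_of_le le_sup_right)))
        (mem_sup_left hk) (mem_sup_right (mem_zpowers u)) ((hi ▸ (Nat.Coprime.pow_right i hkp)))
    have hKP : K ⊔ (P : Subgroup G) = ⊤ := CfsgLib.Fusion.Basic.pResidual_sup_sylow P
    have hPne : (P : Subgroup G) ≠ ⊥ := P.ne_bot_of_dvd_card hpG
    by_cases hcyc : ∃ z ∈ (P : Subgroup G), zpowers z = (P : Subgroup G)
    · obtain ⟨z, hzP, hz⟩ := hcyc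
      have hzp : z ^ p = 1 := by
        by_contra hne
        have hord : p ∣ orderOf z := by
          rw [← Nat.card_zpowers, hz]
          obtain ⟨k, hk⟩ := P.2.exists_card_eq
          exact hk ▸ dvd_pow_self p fun h0 => hPne (card_eq_one.mp (by rw [hk, h0, pow_zero]))
        have hne' : zpowers (z ^ p) ≠ (P : Subgroup G) := by
          intro he
          have := congrArg (fun S : Subgroup G => Nat.card S) (he.trans hz.symm)
          simp only [Nat.card_zpowers, orderOf_pow, Nat.gcd_eq_right hord] at this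
          have := Nat.div_lt_self (orderOf_pos z) hp.one_lt
          omega
        have h1 := hcent _ (pow_mem hzP p) hne'
        have hcen : z ^ p ∈ center G := by
          rw [mem_center_iff]
          intro g
          obtain ⟨k, hk, u, hu, rfl⟩ := mem_sup_of_normal_left.mp
            (show g ∈ K ⊔ (P : Subgroup G) from hKP ▸ mem_top g)
          rw [← hz] at hu
          obtain ⟨i, rfl⟩ := mem_zpowers_iff.mp hu
          exact ((Commute.mul_left (h1 k hk) (((Commute.refl z).zpow_left i).pow_right p))).eq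
        refine hne (mem_bot.mp (hc (zpowers (z ^ p)) ?_ (P.2.to_le (zpowers_le.mpr (pow_mem hzP p))) ▸
          mem_zpowers (z ^ p)))
        exact ⟨fun a ha g => by
          rw [(mem_center_iff.mp (zpowers_le.mpr hcen ha) g), mul_inv_cancel_right]; exact ha⟩
      have hPcard : Nat.card (P : Subgroup G) = p := by
        rw [← hz, Nat.card_zpowers]
        exact orderOf_eq_prime hzp fun h1 => hPne (by rw [← hz, h1, zpowers_one_eq_bot])
      have hdvd : Nat.card G ∣ Nat.card (centralizer ((P : Subgroup G) : Set G)) := by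
        rw [Nat.dvd_iff_prime_pow_dvd_dvd]
        intro q k hq hqk
        haveI := Fact.mk hq
        by_cases hqp : q = p
        · subst hqp
          refine (P.pow_dvd_card_of_pow_dvd_card ?_).trans ?_
          · exact hqk
          · refine card_dvd_of_le ?_
            intro x hx y hy
            obtain ⟨i, rfl⟩ := mem_zpowers_iff.mp (hz ▸ hx)
            obtain ⟨j, rfl⟩ := mem_zpowers_iff.mp (show y ∈ zpowers z from hz ▸ hy)
            exact (Commute.zpow_zpow_self z j i).eq
        obtain ⟨Q⟩ : Nonempty (Sylow q K) := inferInstance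
        set Q' := (Q : Subgroup K).map K.subtype
        have hfr : normalizer (Q' : Set G) ⊔ K = ⊤ := Sylow.normalizer_sup_eq_top Q
        have hpN : p ∣ Nat.card (normalizer (Q' : Set G)) := by
          have := CfsgLib.Solvable.Basic.card_sup_mul K (normalizer (Q' : Set G))
          rw [hfr, card_top] at this
          refine (hp.dvd_mul.mp (this ▸ (dvd_mul_of_dvd_left hpG _))).resolve_right fun hd => ?_
          exact hp.not_dvd_one (hKp ▸ Nat.dvd_gcd hd dvd_rfl)
        obtain ⟨y, hy⟩ := exists_prime_orderOf_dvd_card' p hpN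
        have hQ'c : Nat.card Q' = Nat.card (Q : Subgroup K) :=
          card_map_of_injective K.subtype_injective
        have hL : Q' ⊔ zpowers (y : G) ≠ ⊤ := by
          intro he
          have h1 := CfsgLib.Fusion.Thompson.card_sup_mul_card_inf
            (N := Q') (K := zpowers (y : G)) (zpowers_le.mpr y.2)
          rw [he, card_top, Nat.card_zpowers, Subgroup.orderOf_coe, hy] at h1
          have h2 : Nat.card G = Nat.card K * p := by
            have := CfsgLib.Solvable.Basic.card_sup_mul K (P : Subgroup G)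
            rw [CfsgLib.Fusion.Basic.inf_eq_bot_of_coprime P.2 hKp |> fun h => (inf_comm K _).trans h,
              card_bot, mul_one, sup_comm, hKP, card_top, hPcard, mul_comm p] at this
            exact this
          have h3 : Nat.card G ≤ Nat.card Q' * p := h1 ▸ Nat.le_mul_of_pos_right _ Nat.card_pos
          rw [h2, hQ'c] at h3
          have h4 : (Q : Subgroup K) = ⊤ := eq_top_of_le_card _ (Nat.le_of_mul_le_mul_right h3 hp.pos)
          apply hMn
          rw [hMK]
          haveI := Q.2.isNilpotent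
          exact Group.nilpotent_of_mulEquiv ((MulEquiv.subgroupCongr h4).trans topEquiv)
        have hLn := hsub _ hL (by
          rw [← hy]
          exact (dvd_of_eq (by rw [Nat.card_zpowers, Subgroup.orderOf_coe])).trans
            (card_dvd_of_le (le_sup_right (a := Q'))))
        -- move the p-subgroup to `P`
        obtain ⟨g, hg⟩ : ∃ g : G, ∀ w ∈ (P : Subgroup G), g⁻¹ * w * g ∈ zpowers (y : G) := by
          have hyc : Nat.card (zpowers (y : G)) = p := by
            rw [Nat.card_zpowers, Subgroup.orderOf_coe, hy]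
          obtain ⟨S, hS⟩ := (IsPGroup.of_card (n := 1) (by rw [hyc, pow_one]) :
            IsPGroup p (zpowers (y : G))).exists_le_sylow
          have hS' : zpowers (y : G) = (S : Subgroup G) := eq_of_le_of_card_ge hS (by
            rw [hyc, Nat.card_congr (Sylow.equiv S P).toEquiv, hPcard])
          obtain ⟨g, hg⟩ := MulAction.exists_smul_eq G S P
          refine ⟨g, fun w hw => ?_⟩
          rw [← hg, Sylow.coe_subgroup_smul] at hw
          obtain ⟨v, hv, rfl⟩ := hw
          rw [hS']
          show g⁻¹ * (g * v * g⁻¹) * g ∈ (S : Subgroup G)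
          rwa [show g⁻¹ * (g * v * g⁻¹) * g = v by group]
        have hle : Q'.map (MulAut.conj g).toMonoidHom ≤ centralizer ((P : Subgroup G) : Set G) := by
          rintro _ ⟨u, hu, rfl⟩ w hw
          have hw' := hg w hw
          have hcop : (orderOf u).Coprime (orderOf (g⁻¹ * w * g)) := by
            obtain ⟨t, ht⟩ := (Q.2.map K.subtype) ⟨u, hu⟩
            refine Nat.Coprime.coprime_dvd_left (orderOf_dvd_of_pow_eq_one (congrArg Subtype.val ht)) ?_
            refine Nat.Coprime.coprime_dvd_right (Subgroup.orderOf_dvd_natCard _ hw') ?_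
            rw [Nat.card_zpowers, Subgroup.orderOf_coe, hy]
            exact Nat.Coprime.pow_left _ ((Nat.coprime_primes hq hp).mpr hqp)
          have := commute_of_nilpotent_sub hLn (mem_sup_left hu) (mem_sup_right hw') hcop
          show w * (g * u * g⁻¹) = g * u * g⁻¹ * w
          calc w * (g * u * g⁻¹) = g * ((g⁻¹ * w * g) * u) * g⁻¹ := by group
            _ = g * (u * (g⁻¹ * w * g)) * g⁻¹ := by rw [this]
            _ = _ := by group
        refine dvd_trans ?_ (card_dvd_of_le hle)
        rw [card_map_of_injective (MulAut.conj g).injective, hQ'c]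
        refine Q.pow_dvd_card_of_pow_dvd_card ?_
        have h2 : Nat.card G = Nat.card K * p := by
          have := CfsgLib.Solvable.Basic.card_sup_mul K (P : Subgroup G)
          rw [CfsgLib.Fusion.Basic.inf_eq_bot_of_coprime P.2 hKp |> fun h => (inf_comm K _).trans h,
            card_bot, mul_one, sup_comm, hKP, card_top, hPcard, mul_comm p] at this
          exact this
        exact (Nat.Coprime.pow_left _ ((Nat.coprime_primes hq hp).mpr hqp)).dvd_of_dvd_mul_right (h2 ▸ hqk)
      have htop : centralizer ((P : Subgroup G) : Set G) = ⊤ :=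
        eq_top_of_le_card _ (Nat.le_of_dvd Nat.card_pos hdvd)
      refine hPne (hc _ ⟨fun x hx g => ?_⟩ P.2)
      have : x * g = g * x := (htop ▸ mem_top g : g ∈ centralizer ((P : Subgroup G) : Set G)) x hx
      rw [← this, mul_inv_cancel_right]
      exact hx
    · push Not at hcyc
      refine hPne (hc _ ?_ P.2)
      rw [← normalizer_eq_top_iff, eq_top_iff, ← hKP]
      exact sup_le (fun k hk => centralizer_le_normalizer _ (fun u hu =>
        ((hcent u hu (hcyc u hu)) k hk).symm)) le_normalizer
  haveI := hRn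
  -- `R` is a minimal normal subgroup complementing `M`
  have hcompl : ∀ S : Subgroup G, S.Normal → IsPGroup p S → S ≠ ⊥ → S ⊔ M = ⊤ ∧ S ⊓ M = ⊥ := by
    intro S hSn hSp hS
    obtain ⟨k, hk⟩ := hSp.exists_card_eq
    refine ⟨?_, card_eq_one.mp ?_⟩
    · refine ((hM.le_iff).mp le_sup_right).resolve_right fun he => hpM ?_
      have hk0 : k ≠ 0 := fun h0 => hS (card_eq_one.mp (by rw [hk, h0, pow_zero]))
      exact (dvd_pow_self p hk0).trans (hk ▸ card_dvd_of_le (he ▸ le_sup_left))
    · exact Nat.dvd_one.mp (((Nat.Coprime.pow_left k (hp.coprime_iff_not_dvd.mpr hpM)) :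
        Nat.gcd (p ^ k) (Nat.card M) = 1) ▸
        Nat.dvd_gcd (hk ▸ card_dvd_of_le inf_le_left) (card_dvd_of_le inf_le_right))
  obtain ⟨hRM, hRd⟩ := hcompl R hRn hRp hR
  have hgenM : ∀ x ∈ M, x ∈ centralizer (R : Set G) := by
    intro x hx r hr
    have hne : R ⊔ zpowers x ≠ ⊤ := by
      intro he
      apply hMn
      have : zpowers x = M := by
        refine le_antisymm (zpowers_le.mpr hx) fun m hm => ?_
        obtain ⟨r', hr', y, hy, rfl⟩ := mem_sup_of_normal_left.mp
          (show m ∈ R ⊔ zpowers x from he ▸ mem_top m)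
        have : r' ∈ R ⊓ M := ⟨hr', by
          have := mul_mem hm (inv_mem (zpowers_le.mpr hx hy))
          rwa [mul_inv_cancel_right] at this⟩
        rw [hRd, mem_bot] at this
        simpa [this] using hy
      rw [← this]
      letI : CommGroup (zpowers x) := IsCyclic.commGroup
      infer_instance
    obtain ⟨k, hk⟩ := hRp.exists_card_eq
    have hk0 : k ≠ 0 := fun h0 => hR (card_eq_one.mp (by rw [hk, h0, pow_zero]))
    exact commute_of_nilpotent_sub (hsub _ hne ((dvd_pow_self p hk0).trans
      (hk ▸ card_dvd_of_le le_sup_left))) (mem_sup_left hr) (mem_sup_right (mem_zpowers x))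
      (Nat.Coprime.coprime_dvd_left (hk ▸ Subgroup.orderOf_dvd_natCard _ hr)
        (Nat.Coprime.coprime_dvd_right (Subgroup.orderOf_dvd_natCard _ hx)
          (Nat.Coprime.pow_left k (hp.coprime_iff_not_dvd.mpr hpM))))
  -- the centre of `R` is central, so there is a central subgroup of order p
  obtain ⟨z, hzc, hzo⟩ : ∃ z ∈ center G, orderOf z = p ∧ z ∈ R := by
    haveI : Nontrivial R := (nontrivial_iff_ne_bot R).mpr hR
    haveI := hRp.center_nontrivial
    obtain ⟨k, hk0, hk⟩ := (hRp.to_subgroup (center R)).nontrivial_iff_card.mp inferInstance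
    obtain ⟨w, hw⟩ := exists_prime_orderOf_dvd_card' (G := center R) p (hk ▸ dvd_pow_self p hk0.ne')
    refine ⟨((w : R) : G), mem_center_iff.mpr fun g => ?_,
      by rw [Subgroup.orderOf_coe, Subgroup.orderOf_coe, hw], (w : R).2⟩
    obtain ⟨r, hr, m, hm, rfl⟩ := mem_sup_of_normal_left.mp
      (show g ∈ R ⊔ M from hRM ▸ mem_top g)
    have h1 : Commute r ((w : R) : G) :=
      congrArg Subtype.val (mem_center_iff.mp w.2 ⟨r, hr⟩)
    have h2 : Commute m ((w : R) : G) := ((hgenM m hm) _ (w : R).2).symm
    exact (h1.mul_left h2).eq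
  obtain ⟨hzo, -⟩ := hzo
  have hZn : (zpowers z).Normal := ⟨fun a ha g => by
    rw [(mem_center_iff.mp (zpowers_le.mpr hzc ha) g), mul_inv_cancel_right]; exact ha⟩
  haveI := hZn
  have hZcard : Nat.card (zpowers z) = p := by rw [Nat.card_zpowers, hzo]
  obtain ⟨hZM, hZd⟩ := hcompl (zpowers z) hZn (IsPGroup.of_card (n := 1) (by rw [hZcard, pow_one]))
    (fun he => hp.ne_one (by rw [← hZcard, he, card_bot]))
  have hMnorm : M.Normal := by
    rw [← normalizer_eq_top_iff, eq_top_iff, ← hZM]
    refine sup_le (fun a ha => centralizer_le_normalizer _ fun m _ => ?_) le_normalizer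
    exact mem_center_iff.mp (zpowers_le.mpr hzc ha) m
  refine ⟨zpowers z, M, hZn, hMnorm, hZd, hZM, hZcard, ⟨hMn, fun L hL => ?_⟩, hpM⟩
  -- proper subgroups of `M` are nilpotent
  have hne : zpowers z ⊔ L.map M.subtype ≠ ⊤ := by
    intro he
    refine hL (eq_top_iff.mpr fun m _ => ?_)
    obtain ⟨a, ha, b, hb, hab⟩ := mem_sup_of_normal_left.mp
      (show (m : G) ∈ zpowers z ⊔ L.map M.subtype from he ▸ mem_top _)
    obtain ⟨l, hl, rfl⟩ := hb
    have : a ∈ zpowers z ⊓ M := ⟨ha, by
      have := mul_mem m.2 (inv_mem l.2)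
      rwa [← hab, Subgroup.coe_subtype, mul_inv_cancel_right] at this⟩
    rw [hZd, mem_bot] at this
    rw [this, one_mul] at hab
    exact (Subtype.ext hab : l = m) ▸ hl
  haveI := hsub _ hne ((dvd_of_eq hZcard.symm).trans (card_dvd_of_le le_sup_left))
  haveI : Group.IsNilpotent (L.map M.subtype) :=
    Group.nilpotent_of_mulEquiv (subgroupOfEquivOfLe (le_sup_right (a := zpowers z)))
  exact Group.nilpotent_of_mulEquiv (L.equivMapOfInjective _ M.subtype_injective).symm

/-- Let G be a finite group and p a prime dividing its order. Every maximal subgroup of G of order divisible by p is nilpotent if and only if G is nilpotent, or G is a minimal non-nilpotent group, or G is the internal direct product of a normal subgroup of order p and a normal minimal non-nilpotent subgroup of order prime to p. -/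
theorem result {G : Type*} [Group G] [Finite G] (p : ℕ) (hp : p.Prime) (hpG : p ∣ Nat.card G) :
    (∀ M : Subgroup G, IsCoatom M → p ∣ Nat.card M → Group.IsNilpotent M) ↔
      (Group.IsNilpotent G ∨ Cfsg.IsMinimalNonNilpotent G ∨
        ∃ Z K : Subgroup G, Z.Normal ∧ K.Normal ∧ Z ⊓ K = ⊥ ∧ Z ⊔ K = ⊤ ∧ Nat.card Z = p ∧
          Cfsg.IsMinimalNonNilpotent K ∧ ¬ p ∣ Nat.card K) := by
  haveI := Fact.mk hp
  exact ⟨forward p hpG, backward p hpG⟩

end Cfsg.Agent.S4242
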