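import Cfsg.Statements.S4244
import Mathlib

set_option autoImplicit false
open Cfsg

namespace Cfsg.Agent.S4244

/-- Let H be a subnormal subgroup of a finite group G. Then for every subgroup K of G the index of H ∩ K in H divides the index of K in G. -/
theorem result {G : Type*} [Group G] [Finite G] (H : Subgroup G) (hH : H.IsSubnormal) (K : Subgroup G) :
    (H ⊓ K).relIndex H ∣ K.index := by
  induction hH generalizing K with
  | top => rw [top_inf_eq, Subgroup.relIndex_top_right]
  | step H L hle _ hN ih =>
    have : (H.subgroupOf L).Normal := hN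
    refine dvd_trans ?_ (ih K)
    rw [inf_comm L K, Subgroup.inf_relIndex_right, inf_comm H K, Subgroup.inf_relIndex_right]
    set K' := K.subgroupOf L
    set H' := H.subgroupOf L
    have e : K.relIndex H = K'.relIndex H' := (Subgroup.relIndex_subgroupOf hle).symm
    rw [e]
    show K'.relIndex H' ∣ K'.index
    have h1 := Subgroup.relIndex_mul_relIndex K' (K' ⊔ H') ⊤ le_sup_left le_top
    rw [Subgroup.relIndex_top_right, Subgroup.relIndex_top_right] at h1
    refine dvd_trans (dvd_of_eq ?_) (Dvd.intro _ h1)
    have h2 : H'.relIndex (K' ⊔ H') = H'.relIndex K' := Subgroup.relIndex_sup_right K' H'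
    have h3 := Subgroup.relIndex_mul_relIndex (K' ⊓ H') H' (K' ⊔ H') inf_le_right le_sup_right
    have h4 := Subgroup.relIndex_mul_relIndex (K' ⊓ H') K' (K' ⊔ H') inf_le_left le_sup_left
    rw [← h3, Subgroup.inf_relIndex_right, Subgroup.inf_relIndex_left, h2, mul_comm (K'.relIndex H')] at h4
    exact (Nat.eq_of_mul_eq_mul_left (Nat.pos_of_ne_zero (H'.subgroupOf K').index_ne_zero_of_finite) h4).symm

end Cfsg.Agent.S4244
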