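import Cfsg.Statements.S4245
import Mathlib
import Cfsg.Agent.S0143
import Cfsg.Agent.Lib.Solvable.KegelWielandt
import Cfsg.Agent.Lib.LocalEvenB.HSubgroup

set_option autoImplicit false
open Cfsg

namespace Cfsg.Agent.S4245

open Subgroup

universe u

/-- `A` is cyclic by (cyclic of `2`-power order) -/
def Shape (A : Type*) [Group A] : Prop :=
  ∃ B : Subgroup A, ∃ _ : B.Normal, IsCyclic B ∧ IsCyclic (A ⧸ B) ∧ IsPGroup 2 (A ⧸ B)

theorem Shape.of_injective {A A' : Type*} [Group A] [Group A'] (f : A' →* A)
    (hf : Function.Injective f) (h : Shape A) : Shape A' := by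
  obtain ⟨B, hn, hB, hq, h2⟩ := h
  refine ⟨B.comap f, inferInstance, isCyclic_of_injective (f.subgroupComap B) ?_, ?_, ?_⟩
  · intro a b hab
    exact Subtype.ext (hf (congrArg Subtype.val hab))
  all_goals
    let g : A' ⧸ B.comap f →* A ⧸ B := QuotientGroup.map _ _ f le_rfl
    have hg : Function.Injective g := by
      rw [injective_iff_map_eq_one]
      intro x hx
      induction x using QuotientGroup.induction_on with
      | H a =>
        rw [QuotientGroup.map_mk, QuotientGroup.eq_one_iff] at hx
        exact (QuotientGroup.eq_one_iff a).mpr hx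
  · exact isCyclic_of_injective g hg
  · exact h2.of_injective g hg

theorem Shape.of_surjective {A A' : Type*} [Group A] [Group A'] (f : A →* A')
    (hf : Function.Surjective f) (h : Shape A) : Shape A' := by
  obtain ⟨B, hn, hB, hq, h2⟩ := h
  have : (B.map f).Normal := hn.map f hf
  refine ⟨B.map f, inferInstance,
    isCyclic_of_surjective (f.subgroupMap B) (MonoidHom.subgroupMap_surjective f B), ?_, ?_⟩
  all_goals
    let g : A ⧸ B →* A' ⧸ B.map f := QuotientGroup.map _ _ f (le_comap_map f B)
    have hg : Function.Surjective g := by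
      intro x
      induction x using QuotientGroup.induction_on with
      | H a => obtain ⟨b, rfl⟩ := hf a; exact ⟨QuotientGroup.mk b, rfl⟩
  · exact isCyclic_of_surjective g hg
  · exact h2.of_surjective g hg

theorem main (n : ℕ) : ∀ (G : Type u) [Group G] [Finite G], Nat.card G ≤ n → ∀ (A : Subgroup G)
    (p s : ℕ), p.Prime → A.index ∣ p ^ s → Shape A → Group.IsSolvable G := by
  induction n using Nat.strong_induction_on with
  | _ n ih =>
  intro G _ _ hn A p s hp hA hS
  by_cases hnorm : ∃ N : Subgroup G, N.Normal ∧ N ≠ ⊥ ∧ N ≠ ⊤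
  · obtain ⟨N, hN, hNb, hNt⟩ := hnorm
    have h1 : Group.IsSolvable N := by
      have hlt : Nat.card N < n := by
        refine lt_of_lt_of_le ?_ hn
        refine lt_of_le_of_ne (card_le_card_group N) fun e => hNt (card_eq_iff_eq_top N |>.mp e)
      refine ih _ hlt N le_rfl (A.subgroupOf N) p s hp ?_ ?_
      · refine dvd_trans ?_ hA
        show A.relIndex N ∣ A.index
        obtain ⟨d, hd⟩ : N.relIndex A ∣ N.index := relIndex_dvd_index_of_normal N A
        have h : A.relIndex N * N.index = N.relIndex A * A.index := by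
          rw [← inf_relIndex_right A N, ← inf_relIndex_right N A, inf_comm N A]
          exact (relIndex_mul_index inf_le_right).trans (relIndex_mul_index inf_le_left).symm
        refine ⟨d, Nat.eq_of_mul_eq_mul_left
          (Nat.pos_of_ne_zero (index_ne_zero_of_finite : (N.subgroupOf A).index ≠ 0)) ?_⟩
        rw [← relIndex, ← h, hd]; ring
      · exact Shape.of_injective
          (((N.subtype).comp (A.subgroupOf N).subtype).codRestrict A fun x => x.2)
          (fun a b hab => Subtype.ext (Subtype.ext (congrArg (fun z : A => (z : G)) hab))) hS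
    have h2 : Group.IsSolvable (G ⧸ N) := by
      have hlt : Nat.card (G ⧸ N) < n := by
        refine lt_of_lt_of_le ?_ hn
        have h := card_eq_card_quotient_mul_card_subgroup N
        have hN2 : 1 < Nat.card N := by
          rw [Finite.one_lt_card_iff_nontrivial]
          exact (nontrivial_iff_ne_bot N).mpr hNb
        have hq : 0 < Nat.card (G ⧸ N) := Nat.card_pos
        rw [h]
        nlinarith
      refine ih _ hlt _ le_rfl (A.map (QuotientGroup.mk' N)) p s hp ?_ ?_
      · exact (index_map_dvd A (QuotientGroup.mk'_surjective N)).trans hA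
      · exact Shape.of_surjective ((QuotientGroup.mk' N).subgroupMap A)
          (MonoidHom.subgroupMap_surjective _ A) hS
    exact Group.isSolvable_of_ker_le_range N.subtype (QuotientGroup.mk' N)
      (by rw [QuotientGroup.ker_mk', range_subtype])
  push Not at hnorm
  rcases subsingleton_or_nontrivial G with hsub | hnt
  · exact Group.isSolvable_of_comm fun a b => Subsingleton.elim _ _
  haveI : IsSimpleGroup G := ⟨fun N hN => or_iff_not_imp_left.2 fun hb => hnorm N hN hb⟩
  by_cases hprime : (Nat.card G).Prime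
  · haveI := Fact.mk hprime
    haveI := isCyclic_of_prime_card (α := G) rfl
    exact Group.isSolvable_of_comm fun a b => IsCyclic.commGroup.mul_comm a b
  haveI := Fact.mk hp
  obtain ⟨B, hBn, hB, hq, h2⟩ := hS
  obtain ⟨r, hr⟩ := h2.exists_card_eq
  obtain ⟨i, -, hi⟩ := (Nat.dvd_prime_pow hp).mp hA
  -- the centre of `A` is trivial
  have hcen : ∀ z : A, (∀ a : A, a * z = z * a) → z = 1 := by
    intro z hz
    by_contra hz1
    have hle : A ≤ centralizer ({(z : G)} : Set G) := fun a ha =>
      mem_centralizer_singleton_iff.mpr (congrArg Subtype.val (hz ⟨a, ha⟩))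
    obtain ⟨j, -, hj⟩ := (Nat.dvd_prime_pow hp).mp ((index_dvd_of_le hle).trans hA)
    exact hprime (Cfsg.Agent.S0143.result p j hp (z : G) (fun e => hz1 (Subtype.ext e)) hj)
  by_cases hA1 : A = ⊥
  · rw [hA1, index_bot] at hi
    have := (IsPGroup.of_card hi).isNilpotent
    infer_instance
  -- `B` is non-trivial of odd order
  have hBne : B ≠ ⊥ := by
    intro e
    subst e
    obtain ⟨g, hg⟩ := hq.exists_generator
    obtain ⟨a, rfl⟩ := QuotientGroup.mk'_surjective (⊥ : Subgroup A) g
    have hall : ∀ b : A, b ∈ zpowers a := by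
      intro b
      obtain ⟨m, hm⟩ := mem_zpowers_iff.mp (hg (QuotientGroup.mk' _ b))
      refine mem_zpowers_iff.mpr ⟨m, ?_⟩
      rw [← map_zpow, QuotientGroup.mk'_eq_mk'] at hm
      obtain ⟨c, hc, e⟩ := hm
      rwa [mem_bot.mp hc, mul_one] at e
    have hcomm : ∀ b c : A, b * c = c * b := by
      intro b c
      obtain ⟨i, rfl⟩ := mem_zpowers_iff.mp (hall b)
      obtain ⟨j, rfl⟩ := mem_zpowers_iff.mp (hall c)
      rw [← zpow_add, ← zpow_add, add_comm]
    exact hA1 ((eq_bot_iff_forall A).mpr fun x hx =>
      congrArg Subtype.val (hcen ⟨x, hx⟩ fun b => hcomm b _))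
  haveI : Fact (Nat.Prime 2) := ⟨Nat.prime_two⟩
  have hBodd : ¬ 2 ∣ Nat.card B := by
    intro hd
    obtain ⟨z, hz⟩ := exists_prime_orderOf_dvd_card' 2 hd
    have hz' : ∀ w : B, orderOf w = 2 → w = z := by
      intro w hw
      classical
      have := Fintype.ofFinite B
      have h1 := IsCyclic.card_orderOf_eq_totient (α := B) (d := 2)
        (by rw [← Nat.card_eq_fintype_card]; exact hd)
      rw [Nat.totient_two] at h1
      exact Finset.card_le_one.mp h1.le w (by simp [hw]) z (by simp [hz])
    have h1 : (z : A) = 1 := hcen z fun a => by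
      have hc := hz' ⟨a * z * a⁻¹, hBn.conj_mem z z.2 a⟩ (by
        rw [Subgroup.orderOf_mk, show a * (z : A) * a⁻¹ = MulAut.conj a (z : A) from rfl,
          MulEquiv.orderOf_eq, orderOf_coe, hz])
      exact mul_inv_eq_iff_eq_mul.mp (congrArg Subtype.val hc)
    rw [← orderOf_coe, h1, orderOf_one] at hz
    omega
  have hGcard : Nat.card G = Nat.card B * 2 ^ r * p ^ i := by
    rw [← hi, ← A.card_mul_index, card_eq_card_quotient_mul_card_subgroup B, hr]
    ring
  have hBcard : Nat.card (B.map A.subtype) = Nat.card B :=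
    card_map_of_injective A.subtype_injective
  by_cases hp2 : p = 2
  · -- a product of two nilpotent groups
    subst hp2
    obtain ⟨P⟩ : Nonempty (Sylow 2 G) := inferInstance
    have hP : Nat.card (P : Subgroup G) = 2 ^ r * 2 ^ i := by
      rw [P.card_eq_multiplicity, hGcard, mul_assoc, ← pow_add,
        Nat.factorization_mul Nat.card_pos.ne' (pow_ne_zero _ two_ne_zero)]
      simp [Nat.prime_two.factorization_self, Nat.factorization_eq_zero_of_not_dvd hBodd]
    have hco : (Nat.card (P : Subgroup G)).Coprime (Nat.card (B.map A.subtype)) := by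
      rw [hBcard, hP, ← pow_add]
      exact Nat.Coprime.pow_left _ (Nat.prime_two.coprime_iff_not_dvd.mpr hBodd)
    have hcompl : IsComplement' (P : Subgroup G) (B.map A.subtype) :=
      isComplement'_of_coprime (by rw [hBcard, hP, hGcard]; ring) hco
    have : IsCyclic (B.map A.subtype) :=
      isCyclic_of_surjective (A.subtype.subgroupMap B) (MonoidHom.subgroupMap_surjective _ B)
    refine CfsgLib.Solvable.KegelWielandt.isSolvable (P : Subgroup G) (B.map A.subtype)
      P.2.isNilpotent ?_ fun g => ?_
    · letI := IsCyclic.commGroup (α := (B.map A.subtype))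
      exact CommGroup.isNilpotent
    · obtain ⟨⟨a, b⟩, hab⟩ := hcompl.2 g
      exact ⟨a, a.2, b, b.2, hab.symm⟩
  -- a cyclic Sylow `2`-subgroup
  exfalso
  obtain ⟨S0⟩ : Nonempty (Sylow 2 A) := inferInstance
  have hS0 : Nat.card (S0 : Subgroup A) = 2 ^ r := by
    rw [S0.card_eq_multiplicity, card_eq_card_quotient_mul_card_subgroup B, hr,
      Nat.factorization_mul (pow_ne_zero _ two_ne_zero) Nat.card_pos.ne']
    simp [Nat.prime_two.factorization_self, Nat.factorization_eq_zero_of_not_dvd hBodd]
  have hS0c : IsCyclic (S0 : Subgroup A) := by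
    refine isCyclic_of_injective ((QuotientGroup.mk' B).comp (S0 : Subgroup A).subtype) ?_
    rw [injective_iff_map_eq_one]
    intro x hx
    rw [MonoidHom.comp_apply, QuotientGroup.mk'_apply, QuotientGroup.eq_one_iff] at hx
    rw [← orderOf_eq_one_iff, ← orderOf_coe]
    refine Nat.eq_one_of_dvd_coprimes ((Nat.prime_two.coprime_iff_not_dvd.mpr hBodd).pow_left r)
      (hS0 ▸ Subgroup.orderOf_dvd_natCard _ x.2) (Subgroup.orderOf_dvd_natCard _ hx)
  let S1 : Sylow 2 G := Sylow.ofCard ((S0 : Subgroup A).map A.subtype) (by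
    rw [card_map_of_injective A.subtype_injective, hS0, hGcard,
      Nat.factorization_mul (mul_ne_zero Nat.card_pos.ne' (pow_ne_zero _ two_ne_zero))
        (pow_ne_zero _ hp.ne_zero),
      Nat.factorization_mul Nat.card_pos.ne' (pow_ne_zero _ two_ne_zero)]
    simp [Nat.prime_two.factorization_self, Nat.factorization_eq_zero_of_not_dvd hBodd,
      hp.factorization, hp2])
  haveI : IsCyclic (S1 : Subgroup G) :=
    isCyclic_of_surjective (A.subtype.subgroupMap (S0 : Subgroup A))
      (MonoidHom.subgroupMap_surjective _ _)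
  obtain ⟨P, N, hN, hc⟩ := CfsgLib.LocalEvenB.HSubgroup.npc_of_cyclic
    (fun q hq _ => hq.two_le) S1
  have hPc : Nat.card (P : Subgroup G) = 2 ^ r := by
    rw [Nat.card_congr (Sylow.equiv P S1).toEquiv]
    show Nat.card ((S0 : Subgroup A).map A.subtype) = _
    rw [card_map_of_injective A.subtype_injective, hS0]
  have hNcard : Nat.card N = Nat.card B * p ^ i := by
    have h := hc.card_mul
    rw [hPc, hGcard] at h
    exact Nat.eq_of_mul_eq_mul_right (pow_pos two_pos r) (h.trans (by ring))
  by_cases hNb : N = ⊥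
  · have hcard1 : 1 < Nat.card B := by
      rw [Finite.one_lt_card_iff_nontrivial]
      exact (nontrivial_iff_ne_bot B).mpr hBne
    rw [hNb, card_bot] at hNcard
    have hpi : 0 < p ^ i := pow_pos hp.pos i
    nlinarith
  have hNt := hnorm N hN hNb
  rw [hNt, card_top, hGcard] at hNcard
  -- then `r = 0` and `A = B` is abelian
  have hr0 : 2 ^ r = 1 := by
    have h1 : Nat.card B * p ^ i * 2 ^ r = Nat.card B * p ^ i * 1 := by
      rw [mul_one]
      calc Nat.card B * p ^ i * 2 ^ r = Nat.card B * 2 ^ r * p ^ i := by ring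
        _ = _ := hNcard
    exact Nat.eq_of_mul_eq_mul_left (Nat.mul_pos Nat.card_pos (pow_pos hp.pos i)) h1
  have hBtop : B = ⊤ := index_eq_one.mp (hr.trans hr0)
  refine hA1 ((eq_bot_iff_forall A).mpr fun x hx => congrArg Subtype.val (hcen ⟨x, hx⟩ fun b => ?_))
  have hcomm := (IsCyclic.commGroup (α := B)).mul_comm ⟨b, hBtop ▸ mem_top _⟩
    ⟨⟨x, hx⟩, hBtop ▸ mem_top _⟩
  exact congrArg Subtype.val hcomm

/-- Let G be a finite group with a subgroup A of prime-power index. Suppose A has a normal cyclic subgroup B such that A/B is cyclic of order a power of 2. Then G is solvable. -/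
theorem result {G : Type*} [Group G] [Finite G] (A : Subgroup G) (p s : ℕ) (hp : p.Prime) (hA : A.index = p ^ s)
    (B : Subgroup A) [B.Normal] (hB : IsCyclic B) (hAB : IsCyclic (A ⧸ B)) (r : ℕ) (hr : Nat.card (A ⧸ B) = 2 ^ r) :
    Group.IsSolvable G := by
  haveI : IsCyclic (A ⧸ B) := hAB
  exact main (Nat.card G) G le_rfl A p s hp hA.dvd ⟨B, inferInstance, hB, hAB, IsPGroup.of_card hr⟩

end Cfsg.Agent.S4245
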