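import Cfsg.Statements.S4248
import Cfsg.Agent.Lib.Perm.Partition.NormalComp
import Cfsg.Agent.Lib.Perm.Partition.NoNormal
import Cfsg.Agent.Lib.Perm.Partition.Solvable
import Cfsg.Agent.Lib.Perm.Partition.Semisimple

set_option autoImplicit false
open Cfsg

namespace Cfsg.Agent.S4248

/-- Let G be a finite group admitting a nontrivial partition: a family of at least two nontrivial subgroups such that every non-identity element of G lies in exactly one member. Then G is isomorphic to the symmetric group of degree 4; or, for some prime p, the Hughes subgroup generated by the elements g with g^p ≠ 1 is proper (G a p-group or a group of Hughes–Thompson type); or G is a Frobenius group; or G is isomorphic to PSL(2, q) with q ≥ 4, to PGL(2, q) with q ≥ 5 odd, or to a Suzuki group. -/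
theorem result {G : Type*} [Group G] [Finite G] (S : Set (Subgroup G)) (hS2 : ∃ H ∈ S, ∃ K ∈ S, H ≠ K)
    (hS1 : ∀ H ∈ S, H ≠ ⊥) (hpart : ∀ g : G, g ≠ 1 → ∃! H : Subgroup G, H ∈ S ∧ g ∈ H) :
    Nonempty (G ≃* Equiv.Perm (Fin 4)) ∨
    (∃ p : ℕ, p.Prime ∧ Subgroup.closure {g : G | g ^ p ≠ 1} ≠ ⊤) ∨
    (∃ H : Subgroup G, Cfsg.IsFrobeniusComplement H) ∨
    (∃ (F : Type) (_ : Field F) (_ : Fintype F), 4 ≤ Fintype.card F ∧
        Nonempty (G ≃* Matrix.ProjectiveSpecialLinearGroup (Fin 2) F)) ∨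
    (∃ (F : Type) (_ : Field F) (_ : Fintype F), 5 ≤ Fintype.card F ∧ Odd (Fintype.card F) ∧
        Nonempty (G ≃* (GL (Fin 2) F ⧸ Subgroup.center (GL (Fin 2) F)))) ∨
    Cfsg.Lie.IsoSuzuki G := by
  classical
  obtain ⟨P⟩ := CfsgLib.Perm.Partition.exists_part S hS2 hS1 hpart
  haveI : Nontrivial G := by
    obtain ⟨H, hH, -⟩ := hS2
    obtain ⟨z, -, hz⟩ := H.bot_or_exists_ne_one.resolve_left (hS1 H hH)
    exact ⟨z, 1, hz⟩
  by_cases hN : P.NSN
  swap
  · exact Or.inr (Or.inr (Or.inl (P.frobenius_of_not_NSN hN)))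
  by_cases hp : ∃ p : ℕ, p.Prime ∧ IsPGroup p G
  · obtain ⟨p, hp, hG⟩ := hp
    exact Or.inr (Or.inl ⟨p, hp, P.hughes_of_isPGroup hp hG⟩)
  push Not at hp
  by_cases hR : ∀ N : Subgroup G, N.Normal → Group.IsSolvable N → N = ⊥
  · exact Or.inr (Or.inr (Or.inr (CfsgLib.Perm.Partition.semisimple_case P hN hR)))
  push Not at hR
  obtain ⟨N, hNn, hNs, hN1⟩ := hR
  by_cases hA : ∃ x : G, x ≠ 1 ∧ (P.comp x).Normal
  · obtain ⟨x, hx, hxn⟩ := hA
    rcases CfsgLib.Perm.Partition.Part.normal_case P hN hx hxn hp with h | h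
    · exact Or.inr (Or.inl h)
    · exact Or.inr (Or.inr (Or.inl h))
  · push Not at hA
    obtain ⟨M, hMn, hM1, hMc⟩ := CfsgLib.Perm.Partition.exists_abelian_normal N hNs hN1
    rcases CfsgLib.Perm.Partition.Part.no_normal_case P hN hA M hM1 hMc hp with h | h
    · exact Or.inr (Or.inr (Or.inl h))
    · exact Or.inl h

end Cfsg.Agent.S4248
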