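import Cfsg.Statements.S4249
import Mathlib
import Cfsg.Agent.Lib.PGroup.Hughes

set_option autoImplicit false
open Cfsg

namespace Cfsg.Agent.S4249

open Subgroup
open scoped IsMulCommutative

/-- Let G be a finite group and p a prime such that G is not a p-group, and suppose the Hughes subgroup H_p(G), generated by all elements g with g^p ≠ 1, is a proper subgroup. Then H_p(G) is nilpotent and has index p in G. -/
theorem result {G : Type*} [Group G] [Finite G] (p : ℕ) (hp : p.Prime) (hG : ¬ IsPGroup p G)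
    (hH : Subgroup.closure {g : G | g ^ p ≠ 1} ≠ ⊤) :
    Group.IsNilpotent (Subgroup.closure {g : G | g ^ p ≠ 1}) ∧ (Subgroup.closure {g : G | g ^ p ≠ 1}).index = p := by
  classical
  set H := Subgroup.closure {g : G | g ^ p ≠ 1} with hHdef
  have hout : ∀ g ∉ H, g ^ p = 1 := fun g hg => by
    by_contra h; exact hg (subset_closure h)
  haveI hHn : H.Normal := by
    refine ⟨fun y hy g => ?_⟩
    have hle : H ≤ H.comap (MulAut.conj g).toMonoidHom := by
      rw [hHdef, closure_le]
      intro z hz
      refine subset_closure ?_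
      show (g * z * g⁻¹) ^ p ≠ 1
      rw [conj_pow]
      exact fun h1 => hz (conj_eq_one_iff.mp h1)
    exact hle hy
  haveI := Fact.mk hp
  have hidx : H.index = p := by
    have hGH : IsPGroup p (G ⧸ H) := fun q => by
      obtain ⟨g, rfl⟩ := QuotientGroup.mk'_surjective H q
      refine ⟨1, ?_⟩
      rw [pow_one, ← map_pow]
      by_cases hg : g ∈ H
      · exact (QuotientGroup.eq_one_iff _).mpr (pow_mem hg p)
      · rw [hout g hg, map_one]
    obtain ⟨q, hq, hqd, hqp⟩ : ∃ q, q.Prime ∧ q ∣ Nat.card G ∧ q ≠ p := by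
      by_contra! h'
      exact hG (IsPGroup.of_card (n := (Nat.card G).primeFactorsList.length)
        (Nat.eq_prime_pow_of_unique_prime_dvd Nat.card_pos.ne' fun {d} hd hdvd => h' d hd hdvd))
    haveI := Fact.mk hq
    obtain ⟨Q⟩ : Nonempty (Sylow q H) := inferInstance
    have hQ1 : (Q : Subgroup H) ≠ ⊥ := by
      intro e
      obtain ⟨g, hg⟩ := exists_prime_orderOf_dvd_card' (G := G) q hqd
      have hgH : g ∈ H := subset_closure (fun h1 : g ^ p = 1 => hqp
        ((Nat.prime_dvd_prime_iff_eq hq hp).mp (hg ▸ orderOf_dvd_of_pow_eq_one h1)))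
      have := Q.not_dvd_index
      rw [e, index_bot] at this
      exact this (hg ▸ orderOf_dvd_natCard H hgH)
    set Q' := (Q : Subgroup H).map H.subtype with hQ'
    set N := normalizer (Q' : Set G) with hN
    have hsup : N ⊔ H = ⊤ := Sylow.normalizer_sup_eq_top Q
    set Q0 := Q'.subgroupOf N with hQ0
    have hQ0p : IsPGroup q Q0 := (Q.isPGroup'.map H.subtype).of_equiv (subgroupOfEquivOfLe le_normalizer).symm
    haveI : Q0.Normal := (normal_subgroupOf_iff_le_normalizer le_normalizer).mpr le_rfl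
    haveI : Nontrivial Q0 := by
      rw [nontrivial_iff_ne_bot, Ne, subgroupOf_eq_bot, disjoint_iff, inf_eq_left.mpr le_normalizer,
        map_eq_bot_iff_of_injective _ H.subtype_injective]
      exact hQ1
    set V := (center Q0).map Q0.subtype with hV
    haveI hVn : V.Normal := ConjAct.normal_of_characteristic_of_normal
    haveI hVc : IsMulCommutative V := by
      refine ⟨⟨fun a b => ?_⟩⟩
      obtain ⟨a', ha', ha⟩ := a.2
      obtain ⟨b', hb', hb⟩ := b.2
      refine Subtype.ext ?_
      rw [Subgroup.coe_mul, Subgroup.coe_mul, ← ha, ← hb, ← map_mul, ← map_mul,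
        (mem_center_iff.mp ha' b').symm]
    haveI := hQ0p.center_nontrivial
    haveI hVnt : Nontrivial V := by
      rw [nontrivial_iff_ne_bot, Ne, map_eq_bot_iff_of_injective _ Q0.subtype_injective,
        ← Ne, ← nontrivial_iff_ne_bot]
      infer_instance
    set H0 := H.subgroupOf N with hH0
    have hVH : V ≤ H0 := fun v hv => by
      obtain ⟨w, -, rfl⟩ := hv
      exact mem_subgroupOf.mpr (map_subtype_le _ w.2)
    have hout0 : ∀ g ∉ H0, g ^ p = 1 := fun g hg =>
      Subtype.ext (by rw [Subgroup.coe_pow, hout g hg, Subgroup.coe_one])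
    have hpV : ∀ v : V, v ^ p = 1 → v = 1 := fun v hv => by
      obtain ⟨k, hk⟩ := CfsgLib.PGroup.Basic.exists_orderOf_eq_pow_of_mem
        (hQ0p.to_le (map_subtype_le _)) v.2
      rw [Subgroup.orderOf_coe] at hk
      exact orderOf_eq_one_iff.mp (Nat.eq_one_of_dvd_coprimes (((Nat.coprime_primes hq hp).mpr hqp).pow_left k)
        hk.dvd (orderOf_dvd_of_pow_eq_one hv))
    let ρ : N →* MulAut V := MulAut.conjNormal
    let φ : N →* G ⧸ H := (QuotientGroup.mk' H).comp N.subtype
    have hφ : Function.Surjective φ := by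
      intro q
      obtain ⟨g, rfl⟩ := QuotientGroup.mk'_surjective H q
      have hg : g ∈ ((N ⊔ H : Subgroup G) : Set G) := by rw [hsup]; trivial
      rw [mul_normal] at hg
      obtain ⟨a, ha, b, hb, rfl⟩ := Set.mem_mul.mp hg
      refine ⟨⟨a, ha⟩, ?_⟩
      show QuotientGroup.mk' H a = _
      rw [map_mul, show QuotientGroup.mk' H b = 1 from (QuotientGroup.eq_one_iff b).mpr hb, mul_one]
    obtain ⟨P0⟩ : Nonempty (Sylow p N) := inferInstance
    have hPtop : (P0 : Subgroup N).map φ = ⊤ := by
      rw [← Sylow.coe_mapSurjective hφ]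
      exact ((P0.mapSurjective hφ).is_maximal' (Q := ⊤) (hGH.to_subgroup ⊤) le_top).symm
    obtain ⟨x, hxP, hxH⟩ : ∃ x ∈ (P0 : Subgroup N), x ∉ H0 := by
      by_contra! h'
      refine hH (eq_top_iff.mpr fun g _ => ?_)
      obtain ⟨y, hy, hyg⟩ : (g : G ⧸ H) ∈ (P0 : Subgroup N).map φ := hPtop ▸ mem_top _
      have h1 : φ y = 1 := (QuotientGroup.eq_one_iff _).mpr (mem_subgroupOf.mp (h' y hy))
      rw [h1] at hyg
      exact (QuotientGroup.eq_one_iff g).mp hyg.symm
    have hnontriv : ∀ g, g ∉ H0 → ρ g ≠ 1 := fun g hg h1 => by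
      obtain ⟨v, hv⟩ := exists_ne (1 : V)
      have h2 := CfsgLib.PGroup.Hughes.nrm_eq_one hout0 hVH hg v
      rw [show MulAut.conjNormal g = (1 : MulAut V) from h1] at h2
      simp only [CfsgLib.PGroup.Hughes.nrm, one_pow, MulAut.one_apply, Finset.prod_const,
        Finset.card_range] at h2
      exact hv (hpV v h2)
    set K := ((P0 : Subgroup N) ⊓ H0).map ρ with hK
    have hlt : K < (P0 : Subgroup N).map ρ := by
      refine lt_of_le_of_ne (map_mono inf_le_left) fun h' => ?_
      obtain ⟨y, hy, hyx⟩ : ρ x ∈ K := h' ▸ mem_map_of_mem ρ hxP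
      refine hnontriv (y⁻¹ * x) (fun h1 => hxH (by simpa using mul_mem hy.2 h1)) ?_
      rw [map_mul, map_inv, hyx, inv_mul_cancel]
    obtain ⟨hKbot, hcard⟩ := CfsgLib.PGroup.Hughes.split_pgroup hp hpV (P0.isPGroup'.map ρ) hlt
      ((map_mono (by
        intro y hy
        refine mem_normalizer_iff.mpr fun z => ?_
        simp only [mem_inf]
        exact and_congr (mem_normalizer_iff.mp (le_normalizer hy) z)
          (mem_normalizer_iff.mp (show y ∈ normalizer (H0 : Set N) by rw [normalizer_eq_top]; trivial) z))).trans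
        (le_normalizer_map ρ))
      (by
        rintro z ⟨g, hg, rfl⟩ hz v
        exact CfsgLib.PGroup.Hughes.nrm_eq_one hout0 hVH
          (fun hgH => hz (mem_map_of_mem ρ (show g ∈ (P0 : Subgroup N) ⊓ H0 from ⟨hg, hgH⟩))) v)
    let φ' := φ.comp (P0 : Subgroup N).subtype
    let ρ' := ρ.comp (P0 : Subgroup N).subtype
    have hker : φ'.ker = ρ'.ker := by
      ext y
      constructor
      · intro hy
        have hyH : (y : N) ∈ H0 := mem_subgroupOf.mpr ((QuotientGroup.eq_one_iff _).mp hy)
        exact mem_bot.mp (hKbot ▸ mem_map_of_mem ρ (show (y : N) ∈ (P0 : Subgroup N) ⊓ H0 from ⟨y.2, hyH⟩))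
      · intro hy
        refine (QuotientGroup.eq_one_iff _).mpr (mem_subgroupOf.mp ?_)
        by_contra hyH
        exact hnontriv _ hyH hy
    have h1 := index_ker φ'
    rw [hker, index_ker, MonoidHom.range_comp, MonoidHom.range_comp, range_subtype, hcard, hPtop,
      card_top, ← index_eq_card] at h1
    exact h1.symm
  exact ⟨CfsgLib.PGroup.Hughes.nilpotent_aux hp _ G rfl H hHn hidx hout, hidx⟩

end Cfsg.Agent.S4249
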