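import Cfsg.Statements.S4250
import Mathlib
import Cfsg.Agent.Lib.Fusion.Alperin

set_option autoImplicit false
open Cfsg

namespace Cfsg.Agent.S4250

open Subgroup CfsgLib.Fusion.Basic CfsgLib.Fusion.Alperin

open scoped commutatorElement in
theorem chain_step {G : Type*} [Group G] [Finite G] {p : ℕ} [Fact p.Prime] (P : Sylow p G)
    (K : Subgroup G) (n : ℕ)
    (h : ∀ Q : Sylow p G, Tame P Q → n ≤ Nat.card ((P : Subgroup G) ⊓ (Q : Subgroup G) : Subgroup G) →
      ∀ x ∈ normalizer (((P : Subgroup G) ⊓ (Q : Subgroup G) : Subgroup G) : Set G),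
      ∀ a ∈ (P : Subgroup G) ⊓ (Q : Subgroup G), a⁻¹ * (x⁻¹ * a * x) ∈ K)
    {A : Set G} {w : G} (hw : Chain P A w) (hA : n ≤ A.ncard ∨ n ≤ 1) :
    ∀ a ∈ A, a⁻¹ * (w⁻¹ * a * w) ∈ K := by
  induction hw with
  | nil A _ => intro a _; simp
  | cons A Q x w ht hx hAD _ ih =>
    intro a ha
    have hcard : n ≤ Nat.card ((P : Subgroup G) ⊓ (Q : Subgroup G) : Subgroup G) := by
      rcases hA with hA | hA
      · exact hA.trans ((Set.ncard_le_ncard hAD (Set.toFinite _)).trans
          (le_of_eq (Nat.card_coe_set_eq _).symm))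
      · exact hA.trans Nat.card_pos
    have h1 := h Q ht hcard x hx a (hAD ha)
    have h2 := ih (hA.imp_left fun hA => hA.trans (le_of_eq
      (Set.ncard_image_of_injective A fun b c hbc => by simpa using hbc).symm)) _ ⟨a, ha, rfl⟩
    have := K.mul_mem h1 h2
    rwa [show a⁻¹ * (x⁻¹ * a * x) * ((x⁻¹ * a * x)⁻¹ * (w⁻¹ * (x⁻¹ * a * x) * w)) =
      a⁻¹ * ((x * w)⁻¹ * a * (x * w)) by group] at this

open scoped commutatorElement in
theorem focal_le {G : Type*} [Group G] [Finite G] {p : ℕ} [Fact p.Prime] (P : Sylow p G)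
    {K : Subgroup G}
    (hp : ∀ Q : Sylow p G, Tame P Q →
      ∀ y ∈ normalizer (((P : Subgroup G) ⊓ (Q : Subgroup G) : Subgroup G) : Set G),
      ∀ k : ℕ, orderOf y = p ^ k → ⁅(P : Subgroup G) ⊓ (Q : Subgroup G), zpowers y⁆ ≤ K)
    (hN : ⁅(P : Subgroup G), normalizer ((P : Subgroup G) : Set G)⁆ ≤ K)
    (a : G) (ha : a ∈ (P : Subgroup G)) (g : G) (hga : g⁻¹ * a * g ∈ (P : Subgroup G)) :
    a⁻¹ * (g⁻¹ * a * g) ∈ K := by
  suffices hstep : ∀ k, ∀ Q : Sylow p G, Tame P Q →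
      Nat.card G - Nat.card ((P : Subgroup G) ⊓ (Q : Subgroup G) : Subgroup G) = k →
      ∀ x ∈ normalizer (((P : Subgroup G) ⊓ (Q : Subgroup G) : Subgroup G) : Set G),
      ∀ a ∈ (P : Subgroup G) ⊓ (Q : Subgroup G), a⁻¹ * (x⁻¹ * a * x) ∈ K by
    exact chain_step P K 0 (fun Q ht _ => hstep _ Q ht rfl)
      (chain_of_conj P {a} g (Set.singleton_subset_iff.mpr ha)
        (by rw [Set.image_singleton]; exact Set.singleton_subset_iff.mpr hga))
      (Or.inr zero_le_one) a rfl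
  intro k
  induction k using Nat.strong_induction_on with
  | h k ihk =>
  intro Q ht hk x hx a ha
  have hcomm : ∀ (A B : Subgroup G) (a y : G), a ∈ A → y ∈ B →
      a⁻¹ * (y⁻¹ * a * y) ∈ ⁅A, B⁆ := fun A B a y ha hy => by
    have := commutator_mem_commutator (A.inv_mem ha) (B.inv_mem hy)
    simpa [commutatorElement_def, mul_assoc] using this
  rcases (inf_le_left : (P : Subgroup G) ⊓ (Q : Subgroup G) ≤ P).eq_or_lt with hD | hD
  · rw [hD] at hx
    exact hN (hcomm _ _ a x ha.1 hx)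
  have hlt := exists_gt_of_lt_sylow P hD
  set D := (P : Subgroup G) ⊓ (Q : Subgroup G) with hDdef
  set N := normalizer (D : Set G) with hNdef
  let U : Sylow p N := sylowSubgroupOf (inf_le_right : (P : Subgroup G) ⊓ N ≤ N)
    (P.2.to_le inf_le_left) ht.1
  let M : Subgroup N := closure {y : N | ∃ k : ℕ, orderOf y = p ^ k}
  haveI : M.Normal := ⟨fun m hm z => by
    have hle : M ≤ M.comap (MulAut.conj z).toMonoidHom := by
      refine (closure_le _).mpr fun y hy => subset_closure ?_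
      show ∃ k : ℕ, orderOf ((MulAut.conj z) y) = p ^ k
      rwa [MulEquiv.orderOf_eq]
    exact hle hm⟩
  have hUM : (U : Subgroup N) ≤ M := fun u hu => subset_closure (by
    obtain ⟨j, hj⟩ := U.2 ⟨u, hu⟩
    obtain ⟨i, -, hi⟩ := (Nat.dvd_prime_pow (Fact.out : p.Prime)).mp
      (orderOf_dvd_of_pow_eq_one (congrArg Subtype.val hj : u ^ p ^ j = 1))
    exact ⟨i, hi⟩)
  have htop : normalizer (((U : Subgroup N)) : Set N) ⊔ M = ⊤ := by
    have := Sylow.normalizer_sup_eq_top (U.subtype hUM)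
    rwa [CfsgLib.Fusion.Transfer.map_sylow_subtype U hUM] at this
  obtain ⟨n, hn, m, hm, hnm⟩ : ∃ n ∈ normalizer (((U : Subgroup N)) : Set N), ∃ m ∈ M,
      n * m = (⟨x, hx⟩ : N) := by
    have : (⟨x, hx⟩ : N) ∈ normalizer (((U : Subgroup N)) : Set N) ⊔ M := htop ▸ mem_top _
    exact mem_sup_of_normal_right.mp this
  -- the factor generated by p-elements
  have hM : ∀ m ∈ M, ∀ b ∈ D, b⁻¹ * ((m : G)⁻¹ * b * m) ∈ K := by
    intro m hm
    induction hm using closure_induction'' with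
    | one => intro b _; simp
    | mem y hy =>
      obtain ⟨j, hj⟩ := hy
      intro b hb
      exact hp Q ht y y.2 j (by rw [Subgroup.orderOf_coe]; exact hj)
        (hcomm _ _ b (y : G) hb (mem_zpowers _))
    | inv_mem y hy =>
      obtain ⟨j, hj⟩ := hy
      intro b hb
      exact hp Q ht y y.2 j (by rw [Subgroup.orderOf_coe]; exact hj)
        (hcomm _ _ b ((y⁻¹ : N) : G) hb (inv_mem (mem_zpowers _)))
    | mul y z _ _ ihy ihz =>
      intro b hb
      have hyb : (y : G)⁻¹ * b * y ∈ D := by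
        have := (mem_normalizer_iff.mp (N.inv_mem y.2) b).mp hb
        rwa [inv_inv] at this
      have := K.mul_mem (ihy b hb) (ihz _ hyb)
      rw [Subgroup.coe_mul]
      rwa [show b⁻¹ * ((y : G)⁻¹ * b * y) *
        (((y : G)⁻¹ * b * y)⁻¹ * ((z : G)⁻¹ * ((y : G)⁻¹ * b * y) * z)) =
        b⁻¹ * (((y : G) * z)⁻¹ * b * ((y : G) * z)) by group] at this
  -- the factor normalizing `U`
  have hn1 : a⁻¹ * ((n : G)⁻¹ * a * n) ∈ K := by
    refine chain_step P K (Nat.card ((P : Subgroup G) ⊓ N : Subgroup G)) ?_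
      (chain_of_conj P (((P : Subgroup G) ⊓ N : Subgroup G) : Set G) (n : G)
        (fun u hu => hu.1) ?_) (Or.inl (le_of_eq (Nat.card_coe_set_eq _))) a
      ⟨ha.1, le_normalizer ha⟩
    · intro Q' ht' hcard
      refine ihk _ ?_ Q' ht' rfl
      have h1 := card_le_card_group ((P : Subgroup G) ⊓ (Q' : Subgroup G))
      have h2 : Nat.card D < Nat.card ((P : Subgroup G) ⊓ N : Subgroup G) := by
        by_contra hc
        exact hlt.ne (eq_of_le_of_card_ge hlt.le (not_lt.mp hc))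
      omega
    · rintro _ ⟨u, hu, rfl⟩
      exact ((mem_normalizer_iff.mp (inv_mem hn) (⟨u, hu.2⟩ : N)).mp hu).1 |> fun h => by
        simpa using h
  have hna : (n : G)⁻¹ * a * n ∈ D := by
    have := (mem_normalizer_iff.mp (N.inv_mem n.2) a).mp ha
    rwa [inv_inv] at this
  have hx' : x = (n : G) * m := (congrArg Subtype.val hnm).symm
  have := K.mul_mem hn1 (hM m hm _ hna)
  rw [hx']
  rwa [show a⁻¹ * ((n : G)⁻¹ * a * n) *
    (((n : G)⁻¹ * a * n)⁻¹ * ((m : G)⁻¹ * ((n : G)⁻¹ * a * n) * m)) =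
    a⁻¹ * (((n : G) * m)⁻¹ * a * ((n : G) * m)) by group] at this

/-- Let P be a Sylow p-subgroup of a finite group G. Call an intersection H = P ∩ Q with a Sylow p-subgroup Q tame when N_P(H) and N_Q(H) are Sylow p-subgroups of N_G(H). Then P ∩ G′ is generated by [P, N_G(P)] together with the commutator subgroups [P ∩ Q, ⟨x⟩] for all tame intersections P ∩ Q and all p-elements x of N_G(P ∩ Q). -/
theorem result {G : Type*} [Group G] [Finite G] (p : ℕ) [Fact p.Prime] (P : Sylow p G) :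
    (P : Subgroup G) ⊓ commutator G =
      ⁅(P : Subgroup G), Subgroup.normalizer ((P : Subgroup G) : Set G)⁆ ⊔
        ⨆ (Q : Sylow p G) (_ : (¬ p ∣ ((P : Subgroup G) ⊓ Subgroup.normalizer (((P : Subgroup G) ⊓ (Q : Subgroup G) : Subgroup G) : Set G)).relIndex (Subgroup.normalizer (((P : Subgroup G) ⊓ (Q : Subgroup G) : Subgroup G) : Set G)) ∧ ¬ p ∣ ((Q : Subgroup G) ⊓ Subgroup.normalizer (((P : Subgroup G) ⊓ (Q : Subgroup G) : Subgroup G) : Set G)).relIndex (Subgroup.normalizer (((P : Subgroup G) ⊓ (Q : Subgroup G) : Subgroup G) : Set G))))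
          (x : G) (_ : x ∈ Subgroup.normalizer (((P : Subgroup G) ⊓ (Q : Subgroup G) : Subgroup G) : Set G) ∧ ∃ k : ℕ, orderOf x = p ^ k),
          ⁅(P : Subgroup G) ⊓ (Q : Subgroup G), Subgroup.zpowers x⁆ := by
  apply le_antisymm
  · rw [inf_comm, Subgroup.commutator_inf_eq_focalSubgroup P, Subgroup.focalSubgroup_def,
      Subgroup.closure_le]
    rintro _ ⟨hz, x, hx, u, rfl⟩
    have h1 : u⁻¹⁻¹ * x⁻¹ * u⁻¹ ∈ (P : Subgroup G) := by
      have := (P : Subgroup G).mul_mem ((P : Subgroup G).inv_mem hx) hz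
      simpa [commutatorElement_def, mul_assoc] using this
    have h3 : x⁻¹⁻¹ * (u⁻¹⁻¹ * x⁻¹ * u⁻¹) = x * u * x⁻¹ * u⁻¹ := by group
    rw [SetLike.mem_coe, commutatorElement_def, ← h3]
    refine focal_le P (fun Q ht y hy k hk => ?_) ?_ x⁻¹ ((P : Subgroup G).inv_mem hx) u⁻¹ h1
    · have ht' := ht
      unfold Tame at ht'
      refine le_sup_of_le_right ?_
      refine le_iSup_of_le Q ?_
      refine le_iSup_of_le ht' ?_
      refine le_iSup_of_le y ?_
      exact le_iSup_of_le ⟨hy, k, hk⟩ le_rfl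
    · exact le_sup_left
  · refine sup_le (le_inf ?_ ?_) (iSup_le fun Q => iSup_le fun ht => iSup_le fun x =>
      iSup_le fun hx => le_inf ?_ ?_)
    · exact Subgroup.le_normalizer_iff_commutator_le_left.mp le_rfl
    · exact Subgroup.commutator_mono le_top le_top
    · exact (Subgroup.le_normalizer_iff_commutator_le_left.mp
        (Subgroup.zpowers_le.mpr hx.1)).trans inf_le_left
    · exact Subgroup.commutator_mono le_top le_top

end Cfsg.Agent.S4250
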