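import Cfsg.Statements.S4251
import Mathlib
import Cfsg.Agent.Lib.Fusion.Alperin

set_option autoImplicit false
open Cfsg

namespace Cfsg.Agent.S4251

open Subgroup CfsgLib.Fusion.Basic CfsgLib.Fusion.Transfer CfsgLib.Fusion.Alperin in
/-- Fusion inside `P` is controlled by `P`. -/
theorem controls_aux {G : Type*} [Group G] [Finite G] (p : ℕ) [Fact p.Prime] (P : Sylow p G)
    (h : ∀ Q : Sylow p G, (P : Subgroup G) ⊓ (Q : Subgroup G) ≠ ⊥ → Tame P Q →
      IsPGroup p (Subgroup.normalizer (((P : Subgroup G) ⊓ (Q : Subgroup G) : Subgroup G) : Set G) ⧸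
        (Subgroup.centralizer (((P : Subgroup G) ⊓ (Q : Subgroup G) : Subgroup G) : Set G)).subgroupOf
          (Subgroup.normalizer (((P : Subgroup G) ⊓ (Q : Subgroup G) : Subgroup G) : Set G))))
    (a : G) (ha : a ∈ (P : Subgroup G)) (g : G) (hga : g * a * g⁻¹ ∈ (P : Subgroup G)) :
    ∃ u ∈ (P : Subgroup G), u * a * u⁻¹ = g * a * g⁻¹ := by
  have hch := chain_of_conj P {a} g⁻¹ (Set.singleton_subset_iff.mpr ha)
    (by rw [Set.image_singleton, inv_inv]; exact Set.singleton_subset_iff.mpr hga)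
  suffices ∀ (A : Set G) (w : G), Chain P A w → ∃ u ∈ (P : Subgroup G),
      ∀ b ∈ A, u⁻¹ * b * u = w⁻¹ * b * w by
    obtain ⟨u, hu, hb⟩ := this _ _ hch
    refine ⟨u⁻¹, (P : Subgroup G).inv_mem hu, ?_⟩
    simpa using hb a rfl
  intro A w hw
  induction hw with
  | nil A _ => exact ⟨1, one_mem _, fun _ _ => rfl⟩
  | cons A Q x w ht hx hA _ ih =>
    obtain ⟨v, hv, hvb⟩ := ih
    by_cases hD : (P : Subgroup G) ⊓ (Q : Subgroup G) = ⊥
    · refine ⟨v, hv, fun b hb => ?_⟩
      have : b = 1 := by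
        have := hA hb
        rw [hD] at this
        exact this
      subst this
      simp
    set N := normalizer ((((P : Subgroup G) ⊓ (Q : Subgroup G)) : Subgroup G) : Set G)
    let U : Sylow p N := sylowSubgroupOf (inf_le_right : (P : Subgroup G) ⊓ N ≤ N)
      (P.2.to_le inf_le_left) ht.1
    obtain ⟨c, hc, u, hu, hxe⟩ := exists_eq_pResidual_mul U ⟨x, hx⟩
    have hu' : (u : G) ∈ (P : Subgroup G) ⊓ N := hu
    have hcC : (c : G) ∈
        centralizer ((((P : Subgroup G) ⊓ (Q : Subgroup G)) : Subgroup G) : Set G) :=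
      pResidual_le_of_isPGroup_quotient (h Q hD ht) hc
    refine ⟨(u : G) * v, mul_mem hu'.1 hv, fun b hb => ?_⟩
    have hcb : b * (c : G) = c * b := hcC b (hA hb)
    have hxc : x = (c : G) * u := congrArg Subtype.val hxe
    have h1 : x⁻¹ * b * x = (u : G)⁻¹ * b * u := by
      calc x⁻¹ * b * x = (u : G)⁻¹ * ((c : G)⁻¹ * (b * c)) * u := by rw [hxc]; group
        _ = _ := by rw [hcb, inv_mul_cancel_left]
    calc ((u : G) * v)⁻¹ * b * ((u : G) * v) = v⁻¹ * ((u : G)⁻¹ * b * u) * v := by group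
      _ = v⁻¹ * (x⁻¹ * b * x) * v := by rw [h1]
      _ = w⁻¹ * (x⁻¹ * b * x) * w := hvb _ ⟨b, hb, rfl⟩
      _ = _ := by group

/-- Let P be a Sylow p-subgroup of a finite group G. Call an intersection H = P ∩ Q with a Sylow p-subgroup Q tame when N_P(H) and N_Q(H) are Sylow p-subgroups of N_G(H). If N_G(H)/C_G(H) is a p-group for every nontrivial tame intersection H = P ∩ Q, then G has a normal p-complement. -/
theorem result {G : Type*} [Group G] [Finite G] (p : ℕ) [Fact p.Prime] (P : Sylow p G)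
    (h : ∀ Q : Sylow p G, (P : Subgroup G) ⊓ (Q : Subgroup G) ≠ ⊥ → (¬ p ∣ ((P : Subgroup G) ⊓ Subgroup.normalizer (((P : Subgroup G) ⊓ (Q : Subgroup G) : Subgroup G) : Set G)).relIndex (Subgroup.normalizer (((P : Subgroup G) ⊓ (Q : Subgroup G) : Subgroup G) : Set G)) ∧ ¬ p ∣ ((Q : Subgroup G) ⊓ Subgroup.normalizer (((P : Subgroup G) ⊓ (Q : Subgroup G) : Subgroup G) : Set G)).relIndex (Subgroup.normalizer (((P : Subgroup G) ⊓ (Q : Subgroup G) : Subgroup G) : Set G))) →
      IsPGroup p (Subgroup.normalizer (((P : Subgroup G) ⊓ (Q : Subgroup G) : Subgroup G) : Set G) ⧸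
        (Subgroup.centralizer (((P : Subgroup G) ⊓ (Q : Subgroup G) : Subgroup G) : Set G)).subgroupOf
          (Subgroup.normalizer (((P : Subgroup G) ⊓ (Q : Subgroup G) : Subgroup G) : Set G)))) :
    Cfsg.HasNormalPComplement p G := by
  exact CfsgLib.Fusion.Transfer.npc_of_controls_self P fun a ha g hga =>
    controls_aux p P h a ha g hga

end Cfsg.Agent.S4251
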