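import Cfsg.Statements.S4253


set_option autoImplicit false
open Cfsg

namespace Cfsg.Agent.S4253

open scoped Pointwise


/-- Let H be a Frobenius complement in a finite group G (a nontrivial proper subgroup meeting each conjugate gHg⁻¹ with g outside H trivially). Then in the action of G on the left cosets of H by left multiplication, no non-identity element of G fixes two distinct cosets. -/
theorem result {G : Type*} [Group G] [Finite G] (H : Subgroup G) (hH : Cfsg.IsFrobeniusComplement H)
    (g : G) (hg : g ≠ 1) (a b : G ⧸ H) (ha : g • a = a) (hb : g • b = b) : a = b := by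
  obtain ⟨x, rfl⟩ := QuotientGroup.mk_surjective a
  obtain ⟨y, rfl⟩ := QuotientGroup.mk_surjective b
  rw [MulAction.Quotient.smul_mk, QuotientGroup.eq] at ha hb
  rw [QuotientGroup.eq]
  by_contra hxy
  have hb' := H.inv_mem hb
  have ha' := H.inv_mem ha
  simp only [smul_eq_mul, mul_inv_rev, inv_inv] at ha hb ha' hb'
  have h := hH.2.2 _ hxy
  have hmem : x⁻¹ * g * x ∈ H ⊓ MulAut.conj (x⁻¹ * y) • H := by
    refine Subgroup.mem_inf.2 ⟨by simpa [mul_assoc] using ha', ?_⟩
    rw [Subgroup.mem_pointwise_smul_iff_inv_smul_mem, ← map_inv, MulAut.smul_def, MulAut.conj_apply]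
    simpa [mul_assoc] using hb'
  rw [h, Subgroup.mem_bot, mul_assoc, inv_mul_eq_one] at hmem
  exact hg (by simpa using hmem.symm)

end Cfsg.Agent.S4253
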