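import Cfsg.Statements.S4255
import Cfsg.Agent.Lib.Coprime.ClassSizeGraph
import Cfsg.Agent.S4160

set_option autoImplicit false
open Cfsg

namespace Cfsg.Agent.S4255

/-- Let G be a finite group. Call a prime a vertex if it divides some conjugacy class size of G, and two distinct vertices adjacent if their product divides some class size. Suppose this graph is disconnected: the vertices split into two nonempty parts with no vertex of one part adjacent to a vertex of the other. Then G/Z(G) is a Frobenius group with abelian Frobenius complement and with a Frobenius kernel all of whose elements commute. -/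
theorem result {G : Type*} [Group G] [Finite G] (S : Set ℕ) (hS : ∃ p ∈ S, (p.Prime ∧ ∃ g : G, p ∣ (Subgroup.centralizer ({g} : Set G)).index)) (hS' : ∃ q ∉ S, (q.Prime ∧ ∃ g : G, q ∣ (Subgroup.centralizer ({g} : Set G)).index))
    (hdisc : ∀ p q : ℕ, (p.Prime ∧ ∃ g : G, p ∣ (Subgroup.centralizer ({g} : Set G)).index) → (q.Prime ∧ ∃ g : G, q ∣ (Subgroup.centralizer ({g} : Set G)).index) → p ∈ S → q ∉ S → ¬ (∃ g : G, p * q ∣ (Subgroup.centralizer ({g} : Set G)).index)) :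
    ∃ H : Subgroup (G ⧸ Subgroup.center G), Cfsg.IsFrobeniusComplement H ∧ IsMulCommutative H ∧
      ∀ x ∈ Cfsg.frobeniusKernel H, ∀ y ∈ Cfsg.frobeniusKernel H, x * y = y * x := by
  classical
  let V : ℕ → Prop := fun p => p.Prime ∧ ∃ g : G, p ∣ (Subgroup.centralizer ({g} : Set G)).index
  have hmk : ∀ T : Set ℕ, (∃ p ∈ T, V p) → (∃ q ∉ T, V q) →
      (∀ p q : ℕ, V p → V q → p ∈ T → q ∉ T →
        ¬ ∃ g : G, p * q ∣ (Subgroup.centralizer ({g} : Set G)).index) →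
      (∀ p, V p ∧ p ∈ T → Cfsg.HasNormalPComplement p G) →
      CfsgLib.Coprime.ClassSizeGraph.Split G (fun p => V p ∧ p ∈ T) := by
    intro T hT hT' hd hnpc
    obtain ⟨p, hpT, hp, g, hg⟩ := hT
    obtain ⟨q, hqT, hq, k, hk⟩ := hT'
    refine ⟨fun r h => h.1.1, fun x => ?_, hnpc, ⟨g, p, ⟨⟨hp, g, hg⟩, hpT⟩, hg⟩,
      ⟨k, q, hq, fun h => hqT h.2, hk⟩⟩
    by_contra hcon
    push Not at hcon
    obtain ⟨⟨r, hr, hrd, hrn⟩, ⟨s, hs, hsd, hsA⟩⟩ := hcon
    have hrT : r ∉ T := fun h => hrn ⟨hr, x, hrd⟩ h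
    exact hd s r hsA.1 ⟨hr, x, hrd⟩ hsA.2 hrT ⟨x,
      ((Nat.coprime_primes hs hr).2 fun h => hrT (h ▸ hsA.2)).mul_dvd_of_dvd_of_dvd hsd hrd⟩
  by_cases h1 : ∀ p, V p ∧ p ∈ S → Cfsg.HasNormalPComplement p G
  · exact CfsgLib.Coprime.ClassSizeGraph.frobenius (hmk S hS hS' hdisc h1)
  push Not at h1
  obtain ⟨p, ⟨hpV, hpS⟩, hpn⟩ := h1
  refine CfsgLib.Coprime.ClassSizeGraph.frobenius (hmk Sᶜ ?_ ?_ ?_ ?_)
  · obtain ⟨q, hq, h⟩ := hS'
    exact ⟨q, hq, h⟩
  · obtain ⟨q, hq, h⟩ := hS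
    exact ⟨q, fun h' => h' hq, h⟩
  · intro a b ha hb haS hbS
    rw [mul_comm]
    exact hdisc b a hb ha (not_not.1 hbS) haS
  · rintro q ⟨hqV, hqS⟩
    exact (Cfsg.Agent.S4160.result p q hpV.1 hqV.1 (fun h => hqS (h ▸ hpS)) hpV.2 hqV.2
      (fun x hx => hdisc p q hpV hqV hpS hqS ⟨x, hx⟩)).resolve_left hpn

end Cfsg.Agent.S4255
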