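import Cfsg.Statements.S4257
import Cfsg.Agent.Lib.PGroup.CountPElements

set_option autoImplicit false
open Cfsg
open scoped Pointwise
open Subgroup

namespace Cfsg.Agent.S4257

variable {G : Type*} [Group G] {p : ℕ}

/-- Two numbers divide a common class size. -/
def Adj (G : Type*) [Group G] (t u : ℕ) : Prop :=
  ∃ g : G, t ∣ (centralizer ({g} : Set G)).index ∧ u ∣ (centralizer ({g} : Set G)).index

lemma Adj.symm {t u : ℕ} (h : Adj G t u) : Adj G u t := by
  obtain ⟨g, h1, h2⟩ := h; exact ⟨g, h2, h1⟩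

lemma index_dvd_mono {x y : G} (h : ∀ g, g * x = x * g → g * y = y * g) :
    (centralizer ({y} : Set G)).index ∣ (centralizer ({x} : Set G)).index :=
  index_dvd_of_le fun g hg => mem_centralizer_singleton_iff.2 (h g (mem_centralizer_singleton_iff.1 hg))

lemma index_centralizer_conj (g x : G) :
    (centralizer ({g * x * g⁻¹} : Set G)).index = (centralizer ({x} : Set G)).index := by
  rw [← index_map_equiv (centralizer ({x} : Set G)) (MulAut.conj g)]
  congr 1
  ext w
  rw [mem_centralizer_singleton_iff]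
  constructor
  · intro hw
    refine ⟨g⁻¹ * w * g, mem_centralizer_singleton_iff.2 ?_, by simp [mul_assoc]⟩
    calc g⁻¹ * w * g * x = g⁻¹ * (w * (g * x * g⁻¹)) * g := by group
      _ = x * (g⁻¹ * w * g) := by rw [hw]; group
  · rintro ⟨c, hc, rfl⟩
    have hc' : c * x = x * c := mem_centralizer_singleton_iff.1 hc
    show g * c * g⁻¹ * (g * x * g⁻¹) = g * x * g⁻¹ * (g * c * g⁻¹)
    calc g * c * g⁻¹ * (g * x * g⁻¹) = g * (c * x) * g⁻¹ := by group
      _ = g * x * g⁻¹ * (g * c * g⁻¹) := by rw [hc']; group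

/-- `p`- and `p'`-parts together with the centraliser inclusions. -/
lemma parts [Finite G] [Fact p.Prime] (x : G) : ∃ a b : G, a * b = x ∧ Commute a b ∧
    (∃ k, orderOf a = p ^ k) ∧ ¬ p ∣ orderOf b ∧
    (∀ g, g * x = x * g → g * a = a * g ∧ g * b = b * g) ∧ (p ∣ orderOf x → a ≠ 1) := by
  obtain ⟨a, b, hab, hc, ha, hb⟩ := CfsgLib.PGroup.CountPElements.exists_decomp (p := p) x
  refine ⟨a, b, hab, hc, ha, hb, fun g hg => ?_, fun hx h1 => hb (by rwa [← hab, h1, one_mul] at hx)⟩
  have h1 : a = g * a * g⁻¹ := CfsgLib.PGroup.CountPElements.decomp_left_unique hc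
    (hc.map (MulAut.conj g).toMonoidHom) ha
    (by obtain ⟨k, hk⟩ := ha; exact ⟨k, hk ▸ (MulAut.conj g).orderOf_eq a⟩) hb
    (by
      have : orderOf ((MulAut.conj g) b) = orderOf b := (MulAut.conj g).orderOf_eq b
      rw [MulAut.conj_apply] at this
      show ¬ p ∣ orderOf (g * b * g⁻¹)
      rwa [this])
    (by
      show a * b = g * a * g⁻¹ * (g * b * g⁻¹)
      rw [show g * a * g⁻¹ * (g * b * g⁻¹) = g * (a * b) * g⁻¹ by group, hab, hg, mul_inv_cancel_right])
  have h2 : g * a = a * g := (mul_inv_eq_iff_eq_mul.1 h1.symm)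
  refine ⟨h2, ?_⟩
  have hb' : b = a⁻¹ * x := by rw [← hab, inv_mul_cancel_left]
  have h3 : Commute g a⁻¹ := (show Commute g a from h2).inv_right
  rw [hb']
  exact (h3.mul_right (show Commute g x from hg)).eq

/-- The right stabiliser of a conjugacy class. -/
def classStab (y : G) : Subgroup G where
  carrier := {n | ∀ b, IsConj y b ↔ IsConj y (b * n)}
  one_mem' := fun b => by rw [mul_one]
  mul_mem' := fun {m n} hm hn b => by rw [← mul_assoc, ← hn (b * m)]; exact hm b
  inv_mem' := fun {n} hn b => by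
    have := hn (b * n⁻¹)
    rw [inv_mul_cancel_right] at this
    exact this.symm

instance classStab_normal (y : G) : (classStab y).Normal := ⟨fun n hn g b => by
  have hc : ∀ z w : G, IsConj y z → IsConj y (w * z * w⁻¹) := fun z w hz =>
    hz.trans (isConj_iff.2 ⟨w, rfl⟩)
  constructor <;> intro hb
  · have h := hc _ g ((hn _).1 (hc _ g⁻¹ hb))
    rwa [show g * (g⁻¹ * b * g⁻¹⁻¹ * n) * g⁻¹ = b * (g * n * g⁻¹) by group] at h
  · have h := hc _ g ((hn (g⁻¹ * b * g)).2 (by
      have h1 := hc _ g⁻¹ hb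
      rwa [show g⁻¹ * (b * (g * n * g⁻¹)) * g⁻¹⁻¹ = g⁻¹ * b * g * n by group] at h1))
    rwa [show g * (g⁻¹ * b * g) * g⁻¹ = b by group] at h⟩

lemma card_classStab_dvd [Finite G] (y : G) :
    Nat.card (classStab y) ∣ (centralizer ({y} : Set G)).index := by
  rw [← CfsgLib.PGroup.Basic.conj_card_eq_index]
  have h : ({b : G | IsConj y b} * (classStab y : Set G) : Set G) = {b : G | IsConj y b} := by
    refine Set.Subset.antisymm ?_ fun b hb => ⟨b, hb, 1, one_mem _, mul_one b⟩
    rintro _ ⟨b, hb, n, hn, rfl⟩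
    exact (hn b).1 hb
  have h2 := card_mul_eq_card_subgroup_mul_card_quotient (classStab y) {b : G | IsConj y b}
  rw [h] at h2
  exact ⟨_, h2⟩

variable [Finite G]

/-- Coprime class sizes: either centraliser is transitive on the other class. -/
lemma exists_mem_conj {x y : G}
    (h : (centralizer ({x} : Set G)).index.Coprime (centralizer ({y} : Set G)).index) :
    (centralizer ({x} : Set G) ⊓ centralizer ({y} : Set G)).index =
        (centralizer ({x} : Set G)).index * (centralizer ({y} : Set G)).index ∧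
      ∀ g : G, ∃ n : G, n * x = x * n ∧ g * y * g⁻¹ = n * y * n⁻¹ := by
  classical
  set D := centralizer ({x} : Set G)
  set C := centralizer ({y} : Set G) with hC
  have he : (D ⊓ C).index = D.index * C.index := by
    refine le_antisymm index_inf_le (Nat.le_of_dvd (Nat.pos_of_ne_zero index_ne_zero_of_finite) ?_)
    exact h.mul_dvd_of_dvd_of_dvd (index_dvd_of_le inf_le_left) (index_dvd_of_le inf_le_right)
  refine ⟨he, fun g => ?_⟩
  have h1 : C.relIndex D = C.index := by
    have h := relIndex_mul_index (inf_le_left (a := D) (b := C))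
    rw [inf_relIndex_left, he, mul_comm D.index] at h
    exact Nat.eq_of_mul_eq_mul_right (Nat.pos_of_ne_zero index_ne_zero_of_finite) h
  have h2 : C.index ≤ (MulAction.orbit D ((1 : G) : G ⧸ C)).ncard := by
    rw [← MulAction.index_stabilizer, ← h1]
    refine le_of_eq ?_
    show (C.subgroupOf D).index = _
    congr 1
    ext n
    rw [mem_subgroupOf, MulAction.mem_stabilizer_iff]
    show _ ↔ ((((n : G) * 1 : G)) : G ⧸ C) = ((1 : G) : G ⧸ C)
    rw [mul_one, QuotientGroup.eq, mul_one, inv_mem_iff]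
  have h3 : MulAction.orbit D ((1 : G) : G ⧸ C) = Set.univ :=
    Set.eq_of_subset_of_ncard_le (Set.subset_univ _) (by rw [Set.ncard_univ]; exact h2) Set.finite_univ
  obtain ⟨n, hn⟩ := h3.ge (Set.mem_univ (g : G ⧸ C))
  change ((((n : G) * 1 : G)) : G ⧸ C) = (g : G ⧸ C) at hn
  rw [mul_one, QuotientGroup.eq] at hn
  refine ⟨n, mem_centralizer_singleton_iff.1 n.2, ?_⟩
  have h := mem_centralizer_singleton_iff.1 hn
  calc g * y * g⁻¹ = (n : G) * ((n : G)⁻¹ * g * y) * g⁻¹ := by group
    _ = (n : G) * y * (n : G)⁻¹ := by rw [h]; group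

/-- If the class size of `x` is coprime to the larger class size of `y` and the class of `x * y`
is not linked to both, then commutators with `x` fix the class of `y`. -/
lemma comm_mem_classStab {x y : G}
    (hcop : (centralizer ({x} : Set G)).index.Coprime (centralizer ({y} : Set G)).index)
    (hlt : (centralizer ({x} : Set G)).index < (centralizer ({y} : Set G)).index)
    (hE : (centralizer ({x * y} : Set G)).index.Coprime (centralizer ({x} : Set G)).index ∨
      (centralizer ({x * y} : Set G)).index.Coprime (centralizer ({y} : Set G)).index) (g : G) :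
    g * x * g⁻¹ * x⁻¹ ∈ classStab y := by
  classical
  obtain ⟨hinf, htr⟩ := exists_mem_conj hcop
  have hconjclass : ∀ z : G, {w : G | IsConj z w}.ncard = (centralizer ({z} : Set G)).index :=
    fun z => by rw [← CfsgLib.PGroup.Basic.conj_card_eq_index]; exact (Nat.card_coe_set_eq _).symm
  set B := {w : G | IsConj y w} with hB
  set E := {w : G | IsConj (x * y) w} with hE'
  have hL : (x * ·) '' B ⊆ E := by
    rintro _ ⟨b, hb, rfl⟩
    obtain ⟨g, rfl⟩ := isConj_iff.1 hb
    obtain ⟨n, hnx, hn⟩ := htr g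
    rw [hn]
    refine isConj_iff.2 ⟨n, ?_⟩
    rw [show n * (x * y) * n⁻¹ = n * x * y * n⁻¹ by group, hnx]; group
  have hR : (· * x) '' B ⊆ E := by
    rintro _ ⟨b, hb, rfl⟩
    obtain ⟨g, rfl⟩ := isConj_iff.1 hb
    obtain ⟨n, hnx, hn⟩ := htr g
    rw [hn]
    refine (isConj_iff.2 ⟨x⁻¹, by group⟩ : IsConj (x * y) (y * x)).trans (isConj_iff.2 ⟨n, ?_⟩)
    have hnx' : n⁻¹ * x = x * n⁻¹ := ((show Commute n x from hnx).inv_left).eq
    show n * (y * x) * n⁻¹ = n * y * n⁻¹ * x
    rw [mul_assoc (n * y) n⁻¹, hnx']; group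
  have hEB : E.ncard ≤ B.ncard := by
    rw [hconjclass, hconjclass]
    have hdvd : (centralizer ({x * y} : Set G)).index ∣
        (centralizer ({x} : Set G)).index * (centralizer ({y} : Set G)).index :=
      hinf ▸ index_dvd_of_le fun w hw => mem_centralizer_singleton_iff.2
        ((show Commute w x from mem_centralizer_singleton_iff.1 hw.1).mul_right
          (show Commute w y from mem_centralizer_singleton_iff.1 hw.2)).eq
    rcases hE with h | h
    · exact Nat.le_of_dvd (Nat.pos_of_ne_zero index_ne_zero_of_finite) (h.dvd_of_dvd_mul_left hdvd)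
    · exact (Nat.le_of_dvd (Nat.pos_of_ne_zero index_ne_zero_of_finite)
        (h.dvd_of_dvd_mul_right hdvd)).trans hlt.le
  have hReq : (· * x) '' B = E := Set.eq_of_subset_of_ncard_le hR
    (by rw [Set.ncard_image_of_injective _ (mul_left_injective x)]; exact hEB) (Set.toFinite _)
  have hclass : ∀ z w : G, IsConj y z → IsConj y (w * z * w⁻¹) := fun z w hz =>
    hz.trans (isConj_iff.2 ⟨w, rfl⟩)
  have key : ∀ w b : G, IsConj (x * y) (b * (w * x * w⁻¹)) ↔ IsConj y b := by
    intro w b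
    constructor
    · intro h
      obtain ⟨b', hb', hbb⟩ := hReq.ge (show w⁻¹ * (b * (w * x * w⁻¹)) * w ∈ E from
        h.trans (isConj_iff.2 ⟨w⁻¹, by group⟩))
      have h' : b' * x = w⁻¹ * (b * (w * x * w⁻¹)) * w := hbb
      rw [show w⁻¹ * (b * (w * x * w⁻¹)) * w = w⁻¹ * b * w * x by group] at h'
      have h2 := hclass _ w (mul_right_cancel h' ▸ hb')
      rwa [show w * (w⁻¹ * b * w) * w⁻¹ = b by group] at h2
    · intro h
      have h2 : IsConj (x * y) (w⁻¹ * b * (w⁻¹)⁻¹ * x) :=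
        hR ⟨_, hclass _ w⁻¹ h, rfl⟩
      exact h2.trans (isConj_iff.2 ⟨w, by group⟩)
  intro b
  rw [← key 1 (b * (g * x * g⁻¹ * x⁻¹))]
  rw [show b * (g * x * g⁻¹ * x⁻¹) * (1 * x * 1⁻¹) = b * (g * x * g⁻¹) by group]
  exact (key g b).symm

/-- Two vertices are joined by a walk with at most three edges, provided the graph is connected. -/
theorem walk_of_le {r q : ℕ} (hr : r.Prime) (hq : q.Prime) {x y : G}
    (hrx : r ∣ (centralizer ({x} : Set G)).index) (hqy : q ∣ (centralizer ({y} : Set G)).index)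
    (hmax : ∀ z : G, r ∣ (centralizer ({z} : Set G)).index →
      (centralizer ({z} : Set G)).index ≤ (centralizer ({y} : Set G)).index)
    (hconn : ∀ S : Set ℕ, (∃ p ∈ S, (p.Prime ∧ ∃ g : G, p ∣ (centralizer ({g} : Set G)).index)) →
      (∃ q ∉ S, (q.Prime ∧ ∃ g : G, q ∣ (centralizer ({g} : Set G)).index)) →
      ∃ p q : ℕ, (p.Prime ∧ ∃ g : G, p ∣ (centralizer ({g} : Set G)).index) ∧
        (q.Prime ∧ ∃ g : G, q ∣ (centralizer ({g} : Set G)).index) ∧ p ∈ S ∧ q ∉ S ∧
        (∃ g : G, p * q ∣ (centralizer ({g} : Set G)).index)) :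
    ∃ t u : ℕ, t.Prime ∧ u.Prime ∧ Adj G r t ∧ Adj G t u ∧ Adj G u q := by
  classical
  by_contra hne
  push Not at hne
  -- the classes divisible by `r` have sizes coprime to that of `y`
  have hcop : ∀ z : G, r ∣ (centralizer ({z} : Set G)).index →
      (centralizer ({z} : Set G)).index.Coprime (centralizer ({y} : Set G)).index := by
    intro z hz
    refine Nat.coprime_of_dvd fun k hk hkz hky => ?_
    exact hne k q hk hq ⟨z, hz, hkz⟩ ⟨y, hky, hqy⟩ ⟨y, hqy, hqy⟩
  have hS : ∀ z : G, r ∣ (centralizer ({z} : Set G)).index → ∀ g : G,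
      g * z * g⁻¹ * z⁻¹ ∈ classStab y := by
    intro z hz
    refine comm_mem_classStab (hcop z hz) ((hmax z hz).lt_of_ne fun h => ?_) ?_
    · have h1 := hcop z hz
      rw [← h, Nat.coprime_self] at h1
      exact hr.ne_one (Nat.dvd_one.1 (h1 ▸ hz))
    by_contra hE
    push Not at hE
    obtain ⟨k, hk, hk1, hk2⟩ := Nat.Prime.not_coprime_iff_dvd.1 hE.1
    obtain ⟨l, hl, hl1, hl2⟩ := Nat.Prime.not_coprime_iff_dvd.1 hE.2
    exact hne k l hk hl ⟨z, hz, hk2⟩ ⟨z * y, hk1, hl1⟩ ⟨y, hl2, hqy⟩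
  have hcard := card_classStab_dvd y
  -- for primes outside the class size of `y` the corresponding parts are central
  have hpart : ∀ z : G, r ∣ (centralizer ({z} : Set G)).index → ∀ s : ℕ, s.Prime →
      ¬ s ∣ (centralizer ({y} : Set G)).index → ∀ a b : G, a * b = z → Commute a b →
      (∃ k, orderOf a = s ^ k) → ¬ s ∣ orderOf b → a ∈ center G := by
    intro z hz s hs hsy a b hab hc ha hb
    haveI := Fact.mk hs
    refine mem_center_iff.2 fun g => ?_
    set d := g * z * g⁻¹ * z⁻¹ with hd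
    have hdS : d ∈ classStab y := hS z hz g
    have hSC : classStab y ≤ centralizer ({z} : Set G) := by
      rw [← relIndex_eq_one]
      set C := centralizer ({z} : Set G)
      refine Nat.eq_one_of_dvd_coprimes (hcop z hz) ?_ ((relIndex_dvd_card _ _).trans hcard)
      have h1 := relIndex_mul_relIndex (C ⊓ classStab y) C (C ⊔ classStab y) inf_le_left le_sup_left
      have h2 := relIndex_mul_relIndex (C ⊓ classStab y) (classStab y) (C ⊔ classStab y)
        inf_le_right le_sup_right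
      rw [inf_relIndex_left] at h1
      rw [inf_relIndex_right, relIndex_sup_right, ← h1, mul_comm] at h2
      rw [Nat.eq_of_mul_eq_mul_left (Nat.pos_of_ne_zero (show ((classStab y).subgroupOf C).index ≠ 0 from index_ne_zero_of_finite)) h2]
      exact Dvd.intro _ (relIndex_mul_index le_sup_left)
    have hdz : d * z = z * d := mem_centralizer_singleton_iff.1 (hSC hdS)
    obtain ⟨a', b', he, hc', ha', hb', hcen, -⟩ := parts (p := s) z
    obtain rfl : a' = a := CfsgLib.PGroup.CountPElements.decomp_left_unique hc' hc ha' ha hb' hb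
      (he.trans hab.symm)
    obtain rfl : b' = b := mul_left_cancel (he.trans hab.symm)
    obtain ⟨hda, hdb⟩ := hcen d hdz
    have hds : ¬ s ∣ orderOf d := fun h => hsy
      ((h.trans (orderOf_dvd_natCard _ hdS)).trans hcard)
    have hdb' : ¬ s ∣ orderOf (d * b') := fun h => by
      rcases hs.dvd_mul.1 (h.trans ((show Commute d b' from hdb).orderOf_mul_dvd_mul_orderOf)) with h | h
      exacts [hds h, hb h]
    have h3 : g * a' * g⁻¹ = a' := by
      refine CfsgLib.PGroup.CountPElements.decomp_left_unique (p := s)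
        (hc.map (MulAut.conj g).toMonoidHom)
        ((show Commute a' d from hda.symm).mul_right hc) ?_ ha' ?_ hdb' ?_
      · obtain ⟨k, hk⟩ := ha'
        exact ⟨k, hk ▸ (MulAut.conj g).orderOf_eq a'⟩
      · show ¬ s ∣ orderOf (g * b' * g⁻¹)
        rwa [← MulAut.conj_apply, (MulAut.conj g).orderOf_eq]
      · show g * a' * g⁻¹ * (g * b' * g⁻¹) = a' * (d * b')
        calc g * a' * g⁻¹ * (g * b' * g⁻¹) = g * z * g⁻¹ := by rw [← he]; group
          _ = d * z := by rw [hd, inv_mul_cancel_right]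
          _ = a' * (d * b') := by rw [← he, ← mul_assoc, hda, mul_assoc]
    exact mul_inv_eq_iff_eq_mul.1 h3
  -- every vertex outside the class size of `y` divides the class size of `x`
  have hout : ∀ s : ℕ, s.Prime → ¬ s ∣ (centralizer ({y} : Set G)).index →
      (∃ g : G, s ∣ (centralizer ({g} : Set G)).index) → s ∣ (centralizer ({x} : Set G)).index := by
    intro s hs hsy hsv
    by_contra hsx
    haveI := Fact.mk hs
    obtain ⟨w, hw⟩ := hsv
    obtain ⟨a, b, he, hc, ha, hb, hcen, -⟩ := parts (p := s) x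
    have haZ : a ∈ center G := hpart x hrx s hs hsy a b he hc ha hb
    obtain ⟨R⟩ : Nonempty (Sylow s (centralizer ({x} : Set G))) := inferInstance
    have hR : ¬ s ∣ ((R : Subgroup _).map (centralizer ({x} : Set G)).subtype).index := by
      rw [index_map_subtype]; exact hs.not_dvd_mul R.not_dvd_index hsx
    refine hR (hw.trans (index_dvd_of_le ?_))
    rintro _ ⟨h, hh, rfl⟩
    refine mem_centralizer_singleton_iff.2 ?_
    suffices hz : ((h : centralizer ({x} : Set G)) : G) ∈ center G from (mem_center_iff.1 hz w).symm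
    set k := ((h : centralizer ({x} : Set G)) : G) with hk
    have hkx : k * x = x * k := mem_centralizer_singleton_iff.1 h.2
    obtain ⟨hka, hkb⟩ := hcen k hkx
    have hks : ∃ j, orderOf k = s ^ j := by
      obtain ⟨j, hj⟩ := IsPGroup.iff_orderOf.1 R.isPGroup' ⟨h, hh⟩
      exact ⟨j, by rw [← hj, hk, Subgroup.orderOf_coe]; exact (Subgroup.orderOf_coe (H := (R : Subgroup _)) ⟨h, hh⟩)⟩
    have hak : ∃ j, orderOf (a * k) = s ^ j := by
      obtain ⟨i, hi⟩ := ha
      obtain ⟨j, hj⟩ := hks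
      obtain ⟨l, -, hl⟩ := (Nat.dvd_prime_pow hs).1 ((show Commute a k from hka.symm).orderOf_mul_dvd_mul_orderOf.trans
        (show orderOf a * orderOf k ∣ s ^ (i + j) by rw [hi, hj, pow_add]))
      exact ⟨l, hl⟩
    have hcomm : Commute (a * k) b := (show Commute a b from hc).mul_left (show Commute k b from hkb)
    have hdiv : r ∣ (centralizer ({a * k * b} : Set G)).index := by
      obtain ⟨a', b', he', hc', ha', hb', hcen', -⟩ := parts (p := s) (a * k * b)
      obtain rfl : a' = a * k := CfsgLib.PGroup.CountPElements.decomp_left_unique hc' hcomm ha' hak hb' hb he'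
      obtain rfl : b' = b := mul_left_cancel he'
      refine hrx.trans (index_dvd_mono fun g hg => ?_)
      rw [← he]
      exact ((show Commute g a from mem_center_iff.1 haZ g).mul_right
        (show Commute g b' from (hcen' g hg).2)).eq
    have := hpart _ hdiv s hs hsy (a * k) b rfl hcomm hak hb
    exact ((center G).mul_mem_cancel_left haZ).1 this
  obtain ⟨w, s, ⟨hw, -⟩, ⟨hs, hsv⟩, hwS, hsS, g, hg⟩ :=
    hconn {n | n ∣ (centralizer ({y} : Set G)).index} ⟨q, hqy, hq, y, hqy⟩
      ⟨r, fun h => hr.ne_one (Nat.eq_one_of_dvd_coprimes (hcop x hrx) hrx h), hr, x, hrx⟩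
  exact hne s w hs hw ⟨x, hrx, hout s hs hsS hsv⟩
    ⟨g, (dvd_mul_left s w).trans hg, (dvd_mul_right w s).trans hg⟩ ⟨y, hwS, hqy⟩

/-- Let G be a finite group. Call a prime a vertex if it divides some conjugacy class size of G, and two distinct vertices adjacent if their product divides some class size. If this graph is connected, then its diameter is at most 3: any two distinct vertices p and q are adjacent, or joined through one or two intermediate vertices. -/
theorem result {G : Type*} [Group G] [Finite G]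
    (hconn : ∀ S : Set ℕ, (∃ p ∈ S, (p.Prime ∧ ∃ g : G, p ∣ (Subgroup.centralizer ({g} : Set G)).index)) → (∃ q ∉ S, (q.Prime ∧ ∃ g : G, q ∣ (Subgroup.centralizer ({g} : Set G)).index)) →
      ∃ p q : ℕ, (p.Prime ∧ ∃ g : G, p ∣ (Subgroup.centralizer ({g} : Set G)).index) ∧ (q.Prime ∧ ∃ g : G, q ∣ (Subgroup.centralizer ({g} : Set G)).index) ∧ p ∈ S ∧ q ∉ S ∧ (∃ g : G, p * q ∣ (Subgroup.centralizer ({g} : Set G)).index))
    (p q : ℕ) (hp : (p.Prime ∧ ∃ g : G, p ∣ (Subgroup.centralizer ({g} : Set G)).index)) (hq : (q.Prime ∧ ∃ g : G, q ∣ (Subgroup.centralizer ({g} : Set G)).index)) (hpq : p ≠ q) :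
    (∃ g : G, p * q ∣ (Subgroup.centralizer ({g} : Set G)).index) ∨ (∃ r : ℕ, (r.Prime ∧ ∃ g : G, r ∣ (Subgroup.centralizer ({g} : Set G)).index) ∧ r ≠ p ∧ r ≠ q ∧ (∃ g : G, p * r ∣ (Subgroup.centralizer ({g} : Set G)).index) ∧ (∃ g : G, r * q ∣ (Subgroup.centralizer ({g} : Set G)).index)) ∨
      (∃ r s : ℕ, (r.Prime ∧ ∃ g : G, r ∣ (Subgroup.centralizer ({g} : Set G)).index) ∧ (s.Prime ∧ ∃ g : G, s ∣ (Subgroup.centralizer ({g} : Set G)).index) ∧ r ≠ p ∧ s ≠ q ∧ r ≠ s ∧ r ≠ q ∧ s ≠ p ∧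
        (∃ g : G, p * r ∣ (Subgroup.centralizer ({g} : Set G)).index) ∧ (∃ g : G, r * s ∣ (Subgroup.centralizer ({g} : Set G)).index) ∧ (∃ g : G, s * q ∣ (Subgroup.centralizer ({g} : Set G)).index)) := by
  classical
  obtain ⟨y₀, hy₀⟩ := hp.2
  obtain ⟨z₀, hz₀⟩ := hq.2
  let I : G → ℕ := fun g => (Subgroup.centralizer ({g} : Set G)).index
  obtain ⟨m, hm, hmax⟩ := (Set.toFinite {g : G | p ∣ I g ∨ q ∣ I g}).exists_maximalFor I _ ⟨y₀, Or.inl hy₀⟩
  have hmax' : ∀ z : G, p ∣ I z ∨ q ∣ I z → I z ≤ I m := fun z hz =>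
    (le_total (I z) (I m)).elim id fun h => hmax hz h
  obtain ⟨t, u, htp, hup, hrt, htu, hus⟩ : ∃ t u : ℕ, t.Prime ∧ u.Prime ∧ Adj G p t ∧ Adj G t u ∧ Adj G u q := by
    rcases hm with hm | hm
    · obtain ⟨t, u, ht, hu, h1, h2, h3⟩ :=
        walk_of_le hq.1 hp.1 hz₀ hm (fun z hz => hmax' z (Or.inr hz)) hconn
      exact ⟨u, t, hu, ht, h3.symm, h2.symm, h1.symm⟩
    · exact walk_of_le hp.1 hq.1 hy₀ hm (fun z hz => hmax' z (Or.inl hz)) hconn
  have conv : ∀ a b : ℕ, a.Prime → b.Prime → a ≠ b → Adj G a b →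
      ∃ x : G, a * b ∣ (Subgroup.centralizer ({x} : Set G)).index := by
    rintro a b ha hb hab ⟨x, h1, h2⟩
    exact ⟨x, ((Nat.coprime_primes ha hb).2 hab).mul_dvd_of_dvd_of_dvd h1 h2⟩
  have hv : ∀ a b : ℕ, Adj G a b → b.Prime →
      (b.Prime ∧ ∃ x : G, b ∣ (Subgroup.centralizer ({x} : Set G)).index) :=
    fun a b h hb => ⟨hb, by obtain ⟨x, -, h2⟩ := h; exact ⟨x, h2⟩⟩
  by_cases hadj : Adj G p q
  · exact Or.inl (conv p q hp.1 hq.1 hpq hadj)
  have two : ∀ w : ℕ, Adj G p w → Adj G w q → w ≠ p ∧ w ≠ q :=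
    fun w h1 h2 => ⟨fun h => hadj (h ▸ h2), fun h => hadj (h ▸ h1)⟩
  have mid : ∀ w : ℕ, w.Prime → Adj G p w → Adj G w q → _ := fun w hw h1 h2 =>
    (⟨w, hv p w h1 hw, (two w h1 h2).1, (two w h1 h2).2,
      conv p w hp.1 hw (two w h1 h2).1.symm h1, conv w q hw hq.1 (two w h1 h2).2 h2⟩ :
      ∃ r : ℕ, (r.Prime ∧ ∃ g : G, r ∣ (Subgroup.centralizer ({g} : Set G)).index) ∧ r ≠ p ∧ r ≠ q ∧ (∃ g : G, p * r ∣ (Subgroup.centralizer ({g} : Set G)).index) ∧ (∃ g : G, r * q ∣ (Subgroup.centralizer ({g} : Set G)).index))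
  by_cases htr : t = p
  · exact Or.inr (Or.inl (mid u hup (htr ▸ htu) hus))
  by_cases hus' : u = q
  · exact Or.inr (Or.inl (mid t htp hrt (hus' ▸ htu)))
  by_cases htu' : t = u
  · exact Or.inr (Or.inl (mid t htp hrt (htu' ▸ hus)))
  have hur : u ≠ p := fun h => hadj (h ▸ hus)
  have hts : t ≠ q := fun h => hadj (h ▸ hrt)
  exact Or.inr (Or.inr ⟨t, u, hv p t hrt htp, hv t u htu hup, htr, hus', htu', hts, hur,
    conv p t hp.1 htp (Ne.symm htr) hrt, conv t u htp hup htu' htu, conv u q hup hq.1 hus' hus⟩)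

end Cfsg.Agent.S4257
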