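import Cfsg.Statements.S4260


set_option autoImplicit false
open Cfsg

namespace Cfsg.Agent.S4260

/-- Let H be a Hall subgroup of a finite group G (the order of H is coprime to its index) such that x^[G : H] lies in H for every x in G. Then H is normal in G. -/
theorem result {G : Type*} [Group G] [Finite G] (H : Subgroup G) (hHall : (Nat.card H).Coprime H.index)
    (hexp : ∀ x : G, x ^ H.index ∈ H) : H.Normal := by
  refine ⟨fun h hh g => ?_⟩
  set x := g * h * g⁻¹
  have hcop : (orderOf x).Coprime H.index := by
    have e : orderOf x = orderOf h :=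
      orderOf_injective (MulAut.conj g).toMonoidHom (MulAut.conj g).injective h
    rw [e]
    refine Nat.Coprime.coprime_dvd_left ?_ hHall
    rw [← Subgroup.orderOf_mk (H := H) h hh]
    exact orderOf_dvd_natCard _
  obtain ⟨k, hk⟩ := exists_pow_eq_self_of_coprime hcop.symm
  rw [← hk]
  exact H.pow_mem (hexp x) k

end Cfsg.Agent.S4260
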