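import Cfsg.Statements.S4261
import Cfsg.Agent.Lib.Solvable.Basic

set_option autoImplicit false
open Cfsg

namespace Cfsg.Agent.S4261


theorem normal_of_prime_pow_index {G : Type*} [Group G] [Finite G] (M : Subgroup G) (hM : IsCoatom M)
    {p a : ℕ} (hp : p.Prime) (hidx : M.index ∣ p ^ a) (hexp : ∀ x : G, x ^ M.index ∈ M) :
    M.Normal := by
  have := Fact.mk hp
  let K : Subgroup G := Subgroup.normalClosure {x : G | (orderOf x).Coprime p}
  have hK : ∀ x : G, (orderOf x).Coprime p → x ∈ M := by
    intro x hx
    obtain ⟨k, hk⟩ := exists_pow_eq_self_of_coprime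
      ((hx.pow_right a).coprime_dvd_right hidx).symm
    rw [← hk]
    exact M.pow_mem (hexp x) k
  have hKM : K ≤ M := by
    refine (Subgroup.closure_le _).2 fun x hx => hK x ?_
    obtain ⟨s, hs, hconj⟩ := Group.mem_conjugatesOfSet_iff.1 hx
    obtain ⟨c, rfl⟩ := isConj_iff.1 hconj
    have e : orderOf (c * s * c⁻¹) = orderOf s :=
      orderOf_injective (MulAut.conj c).toMonoidHom (MulAut.conj c).injective s
    rw [e]
    exact hs
  have hpg : IsPGroup p (G ⧸ K) := by
    intro x
    obtain ⟨x, rfl⟩ := QuotientGroup.mk_surjective x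
    obtain ⟨k, m, hm, hkm⟩ := Nat.exists_eq_pow_mul_and_not_dvd (orderOf_pos x).ne' p hp.ne_one
    refine ⟨k, ?_⟩
    rw [← QuotientGroup.mk_pow, QuotientGroup.eq_one_iff]
    refine Subgroup.subset_normalClosure ?_
    show (orderOf _).Coprime p
    rw [orderOf_pow' x (pow_ne_zero k hp.ne_zero),
      show (orderOf x).gcd (p ^ k) = p ^ k from Nat.gcd_eq_right ⟨m, hkm⟩, hkm,
      Nat.mul_div_cancel_left _ (pow_pos hp.pos k)]
    exact ((hp.coprime_iff_not_dvd).2 hm).symm
  have : Group.IsNilpotent (G ⧸ K) := hpg.isNilpotent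
  have hco : IsCoatom (M.map (QuotientGroup.mk' K)) := by
    refine ⟨fun h => hM.1 ?_, fun L hL => ?_⟩
    · rw [← Subgroup.comap_map_eq_self (f := QuotientGroup.mk' K) (H := M)
        (by rwa [QuotientGroup.ker_mk']), h, Subgroup.comap_top]
    · have h1 : M < L.comap (QuotientGroup.mk' K) := by
        rw [← Subgroup.comap_map_eq_self (f := QuotientGroup.mk' K) (H := M)
          (by rwa [QuotientGroup.ker_mk'])]
        exact (Subgroup.comap_lt_comap_of_surjective (QuotientGroup.mk'_surjective K)).2 hL
      rw [← Subgroup.map_comap_eq_self_of_surjective (QuotientGroup.mk'_surjective K) L, hM.2 _ h1,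
        Subgroup.map_top_of_surjective _ (QuotientGroup.mk'_surjective K)]
  have hn : (M.map (QuotientGroup.mk' K)).Normal :=
    Subgroup.NormalizerCondition.normal_of_coatom _ Group.normalizerCondition_of_isNilpotent hco
  have := hn.comap (QuotientGroup.mk' K)
  rwa [Subgroup.comap_map_eq_self (by rwa [QuotientGroup.ker_mk'])] at this

theorem normal_of_pow_index_mem : ∀ (n : ℕ) (G : Type*) [Group G] [Finite G], Nat.card G = n →
    Group.IsSolvable G → ∀ M : Subgroup G, IsCoatom M → (∀ x : G, x ^ M.index ∈ M) → M.Normal := by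
  intro n
  induction n using Nat.strong_induction_on with
  | _ n ih =>
    intro G _ _ hn hG M hM hexp
    have : Nontrivial G := by
      by_contra h
      rw [not_nontrivial_iff_subsingleton] at h
      exact hM.1 (Subsingleton.elim _ _)
    obtain ⟨N, p, hp, hNn, hN, -, hcomm, hpg, -⟩ :=
      CfsgLib.Solvable.Basic.exists_minimal_normal_pgroup (G := G) (H := ⊤) top_ne_bot
    by_cases hNM : N ≤ M
    · have hidx : (M.map (QuotientGroup.mk' N)).index = M.index :=
        Subgroup.index_map_eq M (QuotientGroup.mk'_surjective N) (by rwa [QuotientGroup.ker_mk'])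
      have hc : M = (M.map (QuotientGroup.mk' N)).comap (QuotientGroup.mk' N) :=
        (Subgroup.comap_map_eq_self (by rwa [QuotientGroup.ker_mk'])).symm
      have hco : IsCoatom (M.map (QuotientGroup.mk' N)) := by
        refine ⟨fun h => hM.1 (by rw [hc, h, Subgroup.comap_top]), fun L hL => ?_⟩
        have h1 : M < L.comap (QuotientGroup.mk' N) := by
          rw [hc]
          exact (Subgroup.comap_lt_comap_of_surjective (QuotientGroup.mk'_surjective N)).2 hL
        rw [← Subgroup.map_comap_eq_self_of_surjective (QuotientGroup.mk'_surjective N) L,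
          hM.2 _ h1, Subgroup.map_top_of_surjective _ (QuotientGroup.mk'_surjective N)]
      have hnorm := ih _ (hn ▸ CfsgLib.Solvable.Basic.card_quotient_lt N hN) (G ⧸ N) rfl
        inferInstance _ hco (fun x => by
          obtain ⟨x, rfl⟩ := QuotientGroup.mk_surjective x
          rw [hidx, ← QuotientGroup.mk_pow]
          exact ⟨_, hexp x, rfl⟩)
      rw [hc]
      exact hnorm.comap _
    · have htop : M ⊔ N = ⊤ := hM.2 _ (lt_of_le_of_ne le_sup_left fun h => hNM (h ▸ le_sup_right))
      have hdvd : M.index ∣ Nat.card N := by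
        have e := CfsgLib.Solvable.Basic.card_sup_mul N M
        rw [htop, Subgroup.card_top, ← M.card_mul_index, mul_assoc] at e
        exact Dvd.intro _ (Nat.eq_of_mul_eq_mul_left Nat.card_pos e)
      have := Fact.mk hp
      obtain ⟨a, ha⟩ := IsPGroup.iff_card.1 hpg
      exact normal_of_prime_pow_index M hM hp (ha ▸ hdvd) hexp


/-- Let M be a maximal subgroup of a finite solvable group G such that x^[G : M] lies in M for every x in G. Then M is normal in G. -/
theorem result {G : Type*} [Group G] [Finite G] (hG : Group.IsSolvable G) (M : Subgroup G) (hM : IsCoatom M)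
    (hexp : ∀ x : G, x ^ M.index ∈ M) : M.Normal := by
  exact normal_of_pow_index_mem _ G rfl hG M hM hexp

end Cfsg.Agent.S4261
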