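import Cfsg.Statements.S4263
import Cfsg.Agent.Lib.Solvable.Basic
import Cfsg.Agent.Lib.Solvable.Cores

set_option autoImplicit false
open Cfsg

namespace Cfsg.Agent.S4263


theorem pow_index_mem {G : Type*} [Group G] [Finite G] (F : Subgroup G) [Group.IsNilpotent F] :
    ∀ (n : ℕ) (D : Subgroup F), D.index = n → ∀ x : F, x ^ n ∈ D := by
  intro n
  induction n using Nat.strong_induction_on with
  | _ n ih =>
    intro D hD x
    by_cases htop : D = ⊤
    · simp [htop]
    have hlt := Group.normalizerCondition_of_isNilpotent D (lt_top_iff_ne_top.2 htop)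
    set N := Subgroup.normalizer (D : Set F) with hN
    have hmul : D.relIndex N * N.index = n := by
      rw [Subgroup.relIndex_mul_index hlt.le, hD]
    have h1 := ih N.index (hD ▸ Subgroup.index_strictAnti hlt) N rfl x
    rw [← hmul, mul_comm, pow_mul]
    have hn : (D.subgroupOf N).Normal :=
      (Subgroup.normal_subgroupOf_iff_le_normalizer hlt.le).2 le_rfl
    have h2 : (⟨x ^ N.index, h1⟩ : N) ^ (D.subgroupOf N).index ∈ D.subgroupOf N :=
      Subgroup.pow_index_mem _ _
    exact h2


/-- Let G be a finite group. An element x lies in the Fitting subgroup F(G) if and only if, for every subgroup H of G, the power x^[G : H] lies in H. -/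
theorem result {G : Type*} [Group G] [Finite G] (x : G) :
    x ∈ Cfsg.fittingSubgroup G ↔ ∀ H : Subgroup G, x ^ H.index ∈ H := by
  have hFn : (Cfsg.fittingSubgroup G).Normal := inferInstance
  constructor
  · intro hx H
    set F := Cfsg.fittingSubgroup G with hF
    have h1 := pow_index_mem F _ (H.subgroupOf F) rfl ⟨x, hx⟩
    rw [Subgroup.mem_subgroupOf] at h1
    have e := CfsgLib.Solvable.Basic.card_sup_mul F H
    have eF : Nat.card (H.subgroupOf F) * H.relIndex F = Nat.card F :=
      (H.subgroupOf F).card_mul_index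
    have eS : Nat.card (H.subgroupOf (H ⊔ F)) * H.relIndex (H ⊔ F) = Nat.card ↥(H ⊔ F) :=
      (H.subgroupOf (H ⊔ F)).card_mul_index
    rw [← Subgroup.inf_subgroupOf_right H F,
      Nat.card_congr (Subgroup.subgroupOfEquivOfLe (inf_le_right : H ⊓ F ≤ F)).toEquiv] at eF
    rw [Nat.card_congr (Subgroup.subgroupOfEquivOfLe (le_sup_left : H ≤ H ⊔ F)).toEquiv] at eS
    rw [inf_comm, ← eF, ← eS] at e
    have hrel : H.relIndex F = H.relIndex (H ⊔ F) := by
      have h0 : 0 < Nat.card H * Nat.card ↥(H ⊓ F) := Nat.mul_pos Nat.card_pos Nat.card_pos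
      refine Nat.eq_of_mul_eq_mul_left h0 ?_
      linarith
    obtain ⟨c, hc⟩ : H.relIndex F ∣ H.index := by
      rw [hrel]
      exact Subgroup.relIndex_dvd_index_of_le le_sup_left
    rw [hc, pow_mul]
    exact H.pow_mem (by simpa using! h1) c
  · intro h
    set F := Cfsg.fittingSubgroup G with hF
    rw [← QuotientGroup.eq_one_iff, ← orderOf_eq_one_iff]
    by_contra hne
    obtain ⟨p, hp, hpd⟩ := Nat.exists_prime_and_dvd hne
    have := Fact.mk hp
    obtain ⟨k, m, hm, hkm⟩ := Nat.exists_eq_pow_mul_and_not_dvd (orderOf_pos x).ne' p hp.ne_one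
    have hy : x ^ m ∈ F := by
      refine CfsgLib.Solvable.Cores.pCore_le_fittingSubgroup p ?_
      rw [CfsgLib.Solvable.Cores.pCore_eq_iInf, Subgroup.mem_iInf]
      intro P
      have hcop : (P : Subgroup G).index.Coprime (orderOf (x ^ m)) := by
        have hd : orderOf (x ^ m) ∣ p ^ k :=
          orderOf_dvd_of_pow_eq_one (by rw [← pow_mul, mul_comm, ← hkm, pow_orderOf_eq_one])
        exact Nat.Coprime.coprime_dvd_right hd
          ((hp.coprime_iff_not_dvd.2 P.not_dvd_index).symm.pow_right k)
      obtain ⟨j, hj⟩ := exists_pow_eq_self_of_coprime hcop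
      rw [← hj, pow_right_comm x m]
      exact Subgroup.pow_mem _ (Subgroup.pow_mem _ (h _) _) _
    have hdm : orderOf (x : G ⧸ F) ∣ m :=
      orderOf_dvd_of_pow_eq_one (by rw [← QuotientGroup.mk_pow, QuotientGroup.eq_one_iff]; exact hy)
    exact hm (hpd.trans hdm)

end Cfsg.Agent.S4263
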