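import Cfsg.Statements.S4265
import Cfsg.Agent.Lib.Solvable.LinearClasses.Complex

set_option autoImplicit false
open Cfsg

namespace Cfsg.Agent.S4265

/-- Let G be a finite solvable subgroup of GL_r(ℂ), r ≥ 1, with Fitting subgroup F(G) normal in G. Then for every subgroup H of G the quotient H/(H ∩ F(G)) has at most 3^{r−1} conjugacy classes. -/
theorem result (r : ℕ) (hr : 1 ≤ r) (G : Subgroup (GL (Fin r) ℂ)) [Finite ↥G] (hsolv : Group.IsSolvable ↥G) [hF : (Cfsg.fittingSubgroup ↥G).Normal] (H : Subgroup ↥G) : Nat.card (ConjClasses (↥H ⧸ (Cfsg.fittingSubgroup ↥G).subgroupOf H)) ≤ 3 ^ (r - 1) := by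
  classical
  open CfsgLib.Solvable.LinearClasses in
  have key : Nat.card (ConjClasses (↥H ⧸ (Cfsg.fittingSubgroup ↥G).subgroupOf H)) ≤ 3 ^ (r - 1) := by
    let ρ : ↥G →* Module.End ℂ (Fin r → ℂ) :=
      ((Matrix.toLinAlgEquiv' : Matrix (Fin r) (Fin r) ℂ ≃ₐ[ℂ] _).toMonoidHom.comp
        (Units.coeHom (Matrix (Fin r) (Fin r) ℂ))).comp G.subtype
    have hρ : Function.Injective ρ := fun a b hab =>
      Subtype.ext (Units.ext ((Matrix.toLinAlgEquiv' (R := ℂ) (n := Fin r)).injective hab))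
    have hr' : Module.finrank ℂ (Fin r → ℂ) = r := Module.finrank_fin_fun ℂ
    have hb := fitting_bound (r + 1) ↥G (Fin r → ℂ) ρ hρ hsolv (by omega)
    rw [hr'] at hb
    refine FB.top (FB.of_injective
      (QuotientGroup.map ((Cfsg.fittingSubgroup ↥G).subgroupOf H) (Cfsg.fittingSubgroup ↥G)
        H.subtype (fun x hx => hx)) ?_ hb)
    refine (injective_iff_map_eq_one _).2 fun q => QuotientGroup.induction_on q fun x hx => ?_
    exact (QuotientGroup.eq_one_iff x).2 ((QuotientGroup.eq_one_iff (x : ↥G)).1 hx)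
  exact key

end Cfsg.Agent.S4265
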