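import Cfsg.Statements.S4269


set_option autoImplicit false
open Cfsg

namespace Cfsg.Agent.S4269

open scoped commutatorElement

/-- Let G be a finite group, V an abelian normal subgroup and H a subgroup with HV = G. Then H is pronormal in G (H and gHg⁻¹ are conjugate inside the subgroup they generate, for every g) if and only if every H-invariant subgroup U of V satisfies U = N_U(H)·[H, U], that is, U is the join of U ∩ N_G(H) and the commutator subgroup [H, U]. -/
theorem result {G : Type*} [Group G] [Finite G]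
    (V : Subgroup G) [V.Normal] (hV : IsMulCommutative ↥V) (H : Subgroup G) (hHV : H ⊔ V = ⊤) :
    Cfsg.IsPronormal H ↔
      ∀ U : Subgroup G, U ≤ V → (∀ h ∈ H, U.map (MulAut.conj h).toMonoidHom = U) →
        U = (U ⊓ Subgroup.normalizer (H : Set G)) ⊔ ⁅H, U⁆ := by
  have hVn : V.Normal := inferInstance
  have hVc : ∀ a ∈ V, ∀ b ∈ V, a * b = b * a := fun a ha b hb =>
    congrArg Subtype.val (isMulCommutative_iff.1 hV ⟨a, ha⟩ ⟨b, hb⟩)
  have hcm : ∀ (g : G) (K : Subgroup G) (y : G), y ∈ K.map (MulAut.conj g).toMonoidHom ↔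
      g⁻¹ * y * g ∈ K := by
    intro g K y
    rw [Subgroup.mem_map]
    constructor
    · rintro ⟨z, hz, rfl⟩
      simpa [mul_assoc] using hz
    · intro hy
      exact ⟨_, hy, by simp [mul_assoc]⟩
  have hcmul : ∀ (a b : G) (K : Subgroup G), (K.map (MulAut.conj b).toMonoidHom).map
      (MulAut.conj a).toMonoidHom = K.map (MulAut.conj (a * b)).toMonoidHom := by
    intro a b K
    rw [Subgroup.map_map, map_mul]
    rfl
  have hnorm : ∀ n ∈ Subgroup.normalizer (H : Set G), H.map (MulAut.conj n).toMonoidHom = H :=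
    fun n hn => Subgroup.mem_normalizer_iff_map_conj_eq.1 hn
  constructor
  · intro hpro U hUV hUinv
    have hUconj : ∀ h ∈ H, ∀ u ∈ U, h * u * h⁻¹ ∈ U := fun h hh u hu => by
      have := hUinv h hh
      rw [← this]
      exact ⟨u, hu, rfl⟩
    have hHU : ⁅H, U⁆ ≤ U := by
      rw [Subgroup.commutator_le]
      intro h hh u hu
      rw [commutatorElement_def]
      exact U.mul_mem (hUconj h hh u hu) (U.inv_mem hu)
    refine le_antisymm (fun u hu => ?_) (sup_le inf_le_left hHU)
    obtain ⟨x, hx, hxe⟩ := hpro u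
    set C := ⁅H, U⁆ with hC
    have hHnC : H ≤ Subgroup.normalizer (C : Set G) := by
      intro h hh
      rw [Subgroup.mem_normalizer_iff_map_conj_eq]
      show C.map (MulAut.conj h).toMonoidHom = C
      rw [hC, Subgroup.map_commutator, hUinv h hh]
      congr 1
      exact Subgroup.mem_normalizer_iff_map_conj_eq.1 (Subgroup.le_normalizer hh)
    have hle : H.map (MulAut.conj u).toMonoidHom ≤ H ⊔ C := by
      rintro _ ⟨h, hh, rfl⟩
      show u * h * u⁻¹ ∈ H ⊔ C
      have e : u * h * u⁻¹ = ⁅h, u⁆⁻¹ * h := by rw [commutatorElement_def]; group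
      rw [e]
      exact mul_mem (inv_mem (Subgroup.mem_sup_right (Subgroup.commutator_mem_commutator hh hu)))
        (Subgroup.mem_sup_left hh)
    have hxs : x ∈ H ⊔ C := sup_le le_sup_left hle hx
    rw [sup_comm, ← SetLike.mem_coe, Subgroup.coe_mul_of_right_le_normalizer_left C H hHnC] at hxs
    obtain ⟨c, hc, h, hh, rfl⟩ := hxs
    have hHh : H.map (MulAut.conj h).toMonoidHom = H :=
      Subgroup.mem_normalizer_iff_map_conj_eq.1 (Subgroup.le_normalizer hh)
    rw [← hcmul, hHh] at hxe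
    have hn : c⁻¹ * u ∈ Subgroup.normalizer (H : Set G) := by
      rw [Subgroup.mem_normalizer_iff_map_conj_eq]
      show H.map (MulAut.conj (c⁻¹ * u)).toMonoidHom = H
      rw [← hcmul, hxe, hcmul, inv_mul_cancel, map_one]
      exact Subgroup.map_id H
    have e : u = c * (c⁻¹ * u) := by group
    rw [e]
    exact mul_mem (Subgroup.mem_sup_right hc)
      (Subgroup.mem_sup_left ⟨U.mul_mem (U.inv_mem (hHU hc)) hu, hn⟩)
  · intro hU g
    obtain ⟨v, hv, h, hh, hg⟩ : ∃ v ∈ V, ∃ h ∈ H, v * h = g := by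
      have hg : g ∈ V ⊔ H := by rw [sup_comm, hHV]; trivial
      exact Subgroup.mem_sup_of_normal_left.1 hg
    have hHg : H.map (MulAut.conj g).toMonoidHom = H.map (MulAut.conj v).toMonoidHom := by
      rw [← hg, ← hcmul, hnorm h (Subgroup.le_normalizer hh)]
    rw [hHg]
    set L := H ⊔ H.map (MulAut.conj v).toMonoidHom with hL
    -- the smallest `H`-invariant subgroup containing `v`
    set U := Subgroup.closure {w : G | ∃ k ∈ H, k * v * k⁻¹ = w} with hUdef
    have hUV : U ≤ V := by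
      rw [hUdef, Subgroup.closure_le]
      rintro _ ⟨k, -, rfl⟩
      exact hVn.conj_mem v hv k
    have hUinv : ∀ k ∈ H, U.map (MulAut.conj k).toMonoidHom = U := by
      intro k hk
      rw [hUdef, MonoidHom.map_closure]
      congr 1
      ext w
      simp only [Set.mem_image, Set.mem_ofPred_eq]
      constructor
      · rintro ⟨_, ⟨j, hj, rfl⟩, rfl⟩
        exact ⟨k * j, H.mul_mem hk hj, by simp [mul_assoc]⟩
      · rintro ⟨j, hj, rfl⟩
        exact ⟨_, ⟨k⁻¹ * j, H.mul_mem (H.inv_mem hk) hj, rfl⟩, by simp [mul_assoc]⟩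
    -- `L` contains `[H, U]`
    have hbase : ∀ k ∈ H, ⁅k, v⁆ ∈ L := by
      intro k hk
      have e : ⁅k, v⁆ = k * (v * k⁻¹ * v⁻¹) := by rw [commutatorElement_def]; group
      rw [e]
      exact mul_mem (Subgroup.mem_sup_left hk) (Subgroup.mem_sup_right ((hcm _ _ _).2 (by
        simpa [mul_assoc] using H.inv_mem hk)))
    have hHU : ⁅H, U⁆ ≤ L := by
      rw [Subgroup.commutator_le]
      intro k hk u hu
      revert k
      refine Subgroup.closure_induction
        (p := fun u _ => ∀ k ∈ H, ⁅k, u⁆ ∈ L) ?_ ?_ ?_ ?_ hu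
      · rintro _ ⟨j, hj, rfl⟩ k hk
        have e : ⁅k, j * v * j⁻¹⁆ = j * ⁅j⁻¹ * k * j, v⁆ * j⁻¹ := by
          simp only [commutatorElement_def]; group
        rw [e]
        exact mul_mem (mul_mem (Subgroup.mem_sup_left hj)
          (hbase _ (H.mul_mem (H.mul_mem (H.inv_mem hj) hk) hj))) (inv_mem (Subgroup.mem_sup_left hj))
      · intro k _
        simp
      · intro a b ha hb iha ihb k hk
        have e : ⁅k, a * b⁆ = ⁅k, a⁆ * ⁅k, b⁆ := by
          have hkb : ⁅k, b⁆ ∈ V := by
            rw [commutatorElement_def]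
            exact V.mul_mem (hVn.conj_mem b (hUV hb) k) (V.inv_mem (hUV hb))
          have e1 : ⁅k, a * b⁆ = ⁅k, a⁆ * (a * ⁅k, b⁆ * a⁻¹) := by
            simp only [commutatorElement_def]; group
          rw [e1, hVc a (hUV ha) _ hkb, mul_inv_cancel_right]
        rw [e]
        exact mul_mem (iha k hk) (ihb k hk)
      · intro a ha iha k hk
        have e : ⁅k, a⁻¹⁆ = ⁅k, a⁆⁻¹ := by
          have hka : ⁅k, a⁆⁻¹ ∈ V := by
            rw [commutatorElement_def]
            exact V.inv_mem (V.mul_mem (hVn.conj_mem a (hUV ha) k) (V.inv_mem (hUV ha)))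
          have e1 : ⁅k, a⁻¹⁆ = a⁻¹ * ⁅k, a⁆⁻¹ * a := by
            simp only [commutatorElement_def]; group
          rw [e1, hVc _ (V.inv_mem (hUV ha)) _ hka, inv_mul_cancel_right]
        rw [e]
        exact inv_mem (iha k hk)
    have hvU : v ∈ U := Subgroup.subset_closure ⟨1, H.one_mem, by simp⟩
    have hv' := hvU
    rw [hU U hUV hUinv] at hv'
    have hHUU : ⁅H, U⁆ ≤ U := by
      rw [Subgroup.commutator_le]
      intro k hk u hu
      rw [commutatorElement_def]
      have h1 : k * u * k⁻¹ ∈ U := by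
        rw [← hUinv k hk]
        exact ⟨u, hu, rfl⟩
      exact U.mul_mem h1 (U.inv_mem hu)
    have hsplit : ∃ n ∈ Subgroup.normalizer (H : Set G), ∃ c ∈ ⁅H, U⁆, c * n = v := by
      rw [Subgroup.sup_eq_closure] at hv'
      suffices h : ∃ n ∈ Subgroup.normalizer (H : Set G), n ∈ U ∧ ∃ c ∈ ⁅H, U⁆, c * n = v by
        obtain ⟨n, hn, -, r⟩ := h
        exact ⟨n, hn, r⟩
      refine Subgroup.closure_induction (p := fun w _ => ∃ n ∈ Subgroup.normalizer (H : Set G), n ∈ U ∧
        ∃ c ∈ ⁅H, U⁆, c * n = w) ?_ ?_ ?_ ?_ hv'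
      · rintro w (hw | hw)
        · exact ⟨w, (Subgroup.mem_inf.1 hw).2, (Subgroup.mem_inf.1 hw).1, 1, one_mem _, one_mul _⟩
        · exact ⟨1, one_mem _, one_mem _, w, hw, mul_one _⟩
      · exact ⟨1, one_mem _, one_mem _, 1, one_mem _, one_mul _⟩
      · rintro a b - - ⟨n, hn, hnU, c, hc, rfl⟩ ⟨m, hm, hmU, d, hd, rfl⟩
        refine ⟨n * m, mul_mem hn hm, U.mul_mem hnU hmU, c * d, mul_mem hc hd, ?_⟩
        calc c * d * (n * m) = c * (d * n) * m := by group
          _ = c * (n * d) * m := by rw [hVc d (hUV (hHUU hd)) n (hUV hnU)]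
          _ = c * n * (d * m) := by group
      · rintro a - ⟨n, hn, hnU, c, hc, rfl⟩
        refine ⟨n⁻¹, inv_mem hn, U.inv_mem hnU, c⁻¹, inv_mem hc, ?_⟩
        rw [mul_inv_rev]
        exact hVc _ (V.inv_mem (hUV (hHUU hc))) _ (V.inv_mem (hUV hnU))
    obtain ⟨n, hn, c, hc, rfl⟩ := hsplit
    refine ⟨c, hHU hc, ?_⟩
    rw [← hcmul, hnorm n hn]

end Cfsg.Agent.S4269
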