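import Cfsg.Statements.S4275


set_option autoImplicit false
open Cfsg

namespace Cfsg.Agent.S4275

/-- Let G be a transitive group of permutations of a finite set Ω, let o ∈ Ω, and let α be an automorphism of G. Then α is induced by conjugation by a permutation of Ω normalizing G if and only if the image under α of the stabilizer of o fixes some point of Ω. -/
theorem result {Ω : Type*} [Fintype Ω] (G : Subgroup (Equiv.Perm Ω)) (htr : MulAction.IsPretransitive G Ω) (o : Ω) (α : G ≃* G) : (∃ σ : Equiv.Perm Ω, σ ∈ Subgroup.normalizer (G : Set (Equiv.Perm Ω)) ∧ ∀ g : G, ((α g : G) : Equiv.Perm Ω) = σ * (g : Equiv.Perm Ω) * σ⁻¹) ↔ ∃ ω : Ω, ∀ g ∈ (MulAction.stabilizer G o).map α.toMonoidHom, g • ω = ω := by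
  constructor
  · rintro ⟨σ, -, hσ⟩
    refine ⟨σ o, fun g hg => ?_⟩
    obtain ⟨h, hh, rfl⟩ := Subgroup.mem_map.1 hg
    show ((α h : G) : Equiv.Perm Ω) (σ o) = σ o
    rw [hσ]
    have : (h : Equiv.Perm Ω) o = o := MulAction.mem_stabilizer_iff.1 hh
    simp [Equiv.Perm.mul_apply, this]
  · rintro ⟨ω, hω⟩
    choose t ht using fun β : Ω => htr.exists_smul_eq o β
    have key : ∀ g : G, α (t (g • o)) • ω = α g • ω := fun g => by
      have hs : g⁻¹ * t (g • o) ∈ MulAction.stabilizer G o := by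
        rw [MulAction.mem_stabilizer_iff, mul_smul, ht, inv_smul_smul]
      have := hω _ (Subgroup.mem_map.2 ⟨_, hs, rfl⟩)
      rw [MulEquiv.coe_toMonoidHom, map_mul, map_inv, mul_smul, inv_smul_eq_iff] at this
      exact this
    have hsurj : Function.Surjective (fun β => α (t β) • ω) := fun γ => by
      obtain ⟨g, hg⟩ := htr.exists_smul_eq ω γ
      exact ⟨α.symm g • o, by simp only [key, MulEquiv.apply_symm_apply, hg]⟩
    let σ : Equiv.Perm Ω := Equiv.ofBijective _ ⟨Finite.injective_iff_surjective.2 hsurj, hsurj⟩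
    have hσ : ∀ g : G, ∀ β : Ω, σ (g • β) = α g • σ β := fun g β => by
      show α (t (g • β)) • ω = α g • α (t β) • ω
      rw [← mul_smul, ← map_mul, ← key (g * t β), mul_smul, ht]
    have hconj : ∀ g : G, ((α g : G) : Equiv.Perm Ω) = σ * (g : Equiv.Perm Ω) * σ⁻¹ := fun g => by
      rw [eq_mul_inv_iff_mul_eq]
      ext β
      exact (hσ g β).symm
    refine ⟨σ, Subgroup.mem_normalizer_iff.2 fun h => ⟨fun hh => ?_, fun hh => ?_⟩, hconj⟩
    · show σ * h * σ⁻¹ ∈ G
      rw [← show ((α ⟨h, hh⟩ : G) : Equiv.Perm Ω) = σ * h * σ⁻¹ from hconj ⟨h, hh⟩]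
      exact (α ⟨h, hh⟩).2
    · have hh' : σ * h * σ⁻¹ ∈ G := hh
      have e := hconj (α.symm ⟨_, hh'⟩)
      rw [MulEquiv.apply_symm_apply] at e
      have e2 : h = ((α.symm ⟨_, hh'⟩ : G) : Equiv.Perm Ω) := mul_left_cancel (mul_right_cancel e)
      rw [e2]
      exact (α.symm ⟨_, hh'⟩).2

end Cfsg.Agent.S4275
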