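import Cfsg.Statements.S4278
import Cfsg.Agent.Lib.Chevalley.G2InvClass
-- import your own Cfsg.Agent.* helpers here

set_option autoImplicit false
open Cfsg
open CfsgLib.Chevalley

namespace Cfsg.Agent.S4278

/-- In the Chevalley group of type G₂ over a finite field of odd order, any two involutions are conjugate. -/
theorem result {F : Type*} [Field F] [Fintype F] (hF : Odd (Fintype.card F)) (s t : ↥(Cfsg.Lie.chevG2.group F)) (hs : orderOf s = 2) (ht : orderOf t = 2) : IsConj s t := by
  revert s t
  rw [← CfsgLib.Chevalley.Data.G2.datum_eq]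
  intro s t hs ht
  have key : ∀ g : G2Inv.GG F, orderOf g = 2 → IsConj G2Inv.z g := fun g hg =>
    G2Inv.isConj_z hF (by rw [← pow_two, ← hg]; exact pow_orderOf_eq_one g)
      (fun h => by rw [h, orderOf_one] at hg; omega)
  exact (key s hs).symm.trans (key t ht)

end Cfsg.Agent.S4278
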