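import Cfsg.Statements.S4279
import Cfsg.Agent.Lib.Chevalley.G2InvClass
-- import your own Cfsg.Agent.* helpers here

set_option autoImplicit false
open Cfsg
open CfsgLib.Chevalley

namespace Cfsg.Agent.S4279

/-- In the Chevalley group G of type G₂ over a finite field F of odd order q, the centralizer of an involution t has order q²(q² − 1)² and contains two elementwise commuting subgroups, each isomorphic to SL(2, F), which meet exactly in the subgroup generated by t and whose join has index 2 in the centralizer. -/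
theorem result {F : Type*} [Field F] [Fintype F] (hF : Odd (Fintype.card F)) (t : ↥(Cfsg.Lie.chevG2.group F)) (ht : orderOf t = 2) : Nat.card (Subgroup.centralizer ({t} : Set ↥(Cfsg.Lie.chevG2.group F))) = Fintype.card F ^ 2 * (Fintype.card F ^ 2 - 1) ^ 2 ∧ ∃ L₁ L₂ : Subgroup ↥(Cfsg.Lie.chevG2.group F), Nonempty (L₁ ≃* Matrix.SpecialLinearGroup (Fin 2) F) ∧ Nonempty (L₂ ≃* Matrix.SpecialLinearGroup (Fin 2) F) ∧ (∀ x ∈ L₁, ∀ y ∈ L₂, x * y = y * x) ∧ L₁ ⊓ L₂ = Subgroup.zpowers t ∧ L₁ ⊔ L₂ ≤ Subgroup.centralizer ({t} : Set ↥(Cfsg.Lie.chevG2.group F)) ∧ (L₁ ⊔ L₂).relIndex (Subgroup.centralizer ({t} : Set ↥(Cfsg.Lie.chevG2.group F))) = 2 := by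
  classical
  revert t
  rw [← CfsgLib.Chevalley.Data.G2.datum_eq]
  intro t ht
  have h2 := G2Inv.odd_char hF
  obtain ⟨c, hc⟩ := isConj_iff.mp (G2Inv.isConj_z hF
    (by rw [← pow_two, ← ht]; exact pow_orderOf_eq_one t)
    (fun h => by rw [h, orderOf_one] at ht; omega : t ≠ 1))
  let φ : G2Inv.GG F ≃* G2Inv.GG F := MulAut.conj c
  have hφ : φ G2Inv.z = t := hc
  have hC : Subgroup.centralizer ({t} : Set (G2Inv.GG F)) = G2Inv.K.map φ.toMonoidHom := by
    rw [← G2Inv.centralizer_z h2]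
    ext g
    rw [Subgroup.mem_map_equiv, Subgroup.mem_centralizer_singleton_iff,
      Subgroup.mem_centralizer_singleton_iff, ← φ.injective.eq_iff (a := φ.symm g * _), map_mul,
      map_mul, MulEquiv.apply_symm_apply, hφ]
  have hsup : G2Inv.fa.range.map φ.toMonoidHom ⊔ G2Inv.fb.range.map φ.toMonoidHom =
      (G2Inv.L (F := F)).map φ.toMonoidHom := by rw [G2Inv.L_eq_sup, Subgroup.map_sup]
  refine ⟨?_, G2Inv.fa.range.map φ.toMonoidHom, G2Inv.fb.range.map φ.toMonoidHom, ?_, ?_, ?_, ?_, ?_, ?_⟩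
  · rw [hC, Nat.card_congr (Subgroup.equivMapOfInjective _ _ φ.injective).symm.toEquiv,
      G2Inv.card_K h2]
  · exact ⟨(Subgroup.equivMapOfInjective _ _ φ.injective).symm.trans
      (MonoidHom.ofInjective G2Inv.fa_injective).symm⟩
  · exact ⟨(Subgroup.equivMapOfInjective _ _ φ.injective).symm.trans
      (MonoidHom.ofInjective G2Inv.fb_injective).symm⟩
  · rintro _ ⟨_, ⟨x, rfl⟩, rfl⟩ _ ⟨_, ⟨y, rfl⟩, rfl⟩
    rw [← map_mul, ← map_mul, (G2Inv.fa_fb_commute x y).eq]
  · rw [← Subgroup.map_inf _ _ _ φ.injective, G2Inv.fa_inf_fb, MonoidHom.map_zpowers]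
    exact congrArg Subgroup.zpowers hφ
  · rw [hsup, hC]; exact Subgroup.map_mono G2Inv.L_le_K
  · rw [hsup, hC, Subgroup.relIndex_map_map_of_injective _ _ φ.injective]
    exact G2Inv.relIndex_L_K h2

end Cfsg.Agent.S4279
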