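import Cfsg.Statements.S4282
import Cfsg.Agent.Lib.Solvable.FPFOperators.HallHigmanB
-- import your own Cfsg.Agent.* helpers here

set_option autoImplicit false
open Cfsg
open scoped commutatorElement

namespace Cfsg.Agent.S4282

/-- A critical case behind the Hall–Higman theorem. Let p ≠ q be primes and G a finite group generated by a normal q-subgroup Q and a cyclic p-subgroup generated by x, such that the centralizer of every non-identity element of that cyclic subgroup is its product with the centre of G. Let K be an algebraically closed field of characteristic p and ρ a faithful representation of G on a nonzero finite-dimensional K-space whose restriction to Q is irreducible. If s is the least exponent with (ρ(x) − 1)^s = 0, then |⟨x⟩| − 1 ≤ s ≤ |⟨x⟩|; and if s = |⟨x⟩| − 1 then |⟨x⟩| − 1 is a power of q and Q is non-abelian. -/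
theorem result {G : Type*} [Group G] [Finite G] (p q : ℕ) [Fact p.Prime] [Fact q.Prime] (hpq : p ≠ q) (Q : Subgroup G) [Q.Normal] (hQ : IsPGroup q Q) (x : G) (hx : IsPGroup p (Subgroup.zpowers x)) (hgen : Q ⊔ Subgroup.zpowers x = ⊤) (hC : ∀ y ∈ Subgroup.zpowers x, y ≠ 1 → Subgroup.centralizer ({y} : Set G) = Subgroup.zpowers x ⊔ Subgroup.center G) {K : Type*} [Field K] [IsAlgClosed K] [CharP K p] {V : Type*} [AddCommGroup V] [Module K V] [FiniteDimensional K V] [Nontrivial V] (ρ : Representation K G V) (hfaith : Function.Injective ρ) (hirr : ∀ W : Submodule K V, (∀ g ∈ Q, Submodule.map (ρ g) W ≤ W) → W = ⊥ ∨ W = ⊤) (s : ℕ) (hs : (ρ x - 1) ^ s = 0) (hmin : ∀ k < s, (ρ x - 1) ^ k ≠ 0) : Nat.card (Subgroup.zpowers x) - 1 ≤ s ∧ s ≤ Nat.card (Subgroup.zpowers x) ∧ (s = Nat.card (Subgroup.zpowers x) - 1 → (∃ b : ℕ, Nat.card (Subgroup.zpowers x) - 1 = q ^ b) ∧ ¬ IsMulCommutative Q) := by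
  classical
  have hp : p.Prime := Fact.out
  -- Schur
  have hschur : ∀ f : Module.End K V, (∀ g ∈ Q, f * ρ g = ρ g * f) → ∃ κ : K, f = κ • 1 := by
    intro f hf
    obtain ⟨κ, hκ⟩ := Module.End.exists_eigenvalue f
    refine ⟨κ, ?_⟩
    rcases hirr (Module.End.eigenspace f κ) (fun g hg => by
      rintro _ ⟨v, hv, rfl⟩
      rw [SetLike.mem_coe, Module.End.mem_eigenspace_iff] at hv
      rw [Module.End.mem_eigenspace_iff]
      have h1 := LinearMap.congr_fun (hf g hg) v
      simp only [Module.End.mul_apply] at h1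
      rw [h1, hv, map_smul]) with h | h
    · exact absurd h hκ
    · refine LinearMap.ext fun v => ?_
      have h1 : v ∈ Module.End.eigenspace f κ := h ▸ Submodule.mem_top
      rw [Module.End.mem_eigenspace_iff] at h1
      simpa using h1
  have hcen : ∀ y ∈ Q, (∀ z ∈ Q, y * z = z * y) → y ∈ Subgroup.center G := by
    intro y hy hc
    obtain ⟨κ, hκ⟩ := hschur (ρ y) (fun g hg => by rw [← map_mul, ← map_mul, hc g hg])
    refine Subgroup.mem_center_iff.2 fun g => hfaith ?_
    rw [map_mul, map_mul, hκ]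
    simp
  obtain ⟨N, hN⟩ := IsPGroup.iff_card.mp hx
  have hxN : x ^ p ^ N = 1 := by rw [← hN, Nat.card_zpowers, pow_orderOf_eq_one]
  rw [hN]
  haveI : CharP (Module.End K V) p := charP_of_injective_algebraMap
    (FaithfulSMul.algebraMap_injective K (Module.End K V)) p
  have hle : s ≤ p ^ N := by
    by_contra hlt
    push Not at hlt
    refine hmin _ hlt ?_
    rw [sub_pow_char_pow_of_commute p N (Commute.one_right _), ← map_pow, hxN, map_one, one_pow,
      sub_self]
  have hs0 : 1 ≤ s := Nat.one_le_iff_ne_zero.2 fun h0 => by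
    rw [h0, pow_zero] at hs
    exact one_ne_zero hs
  rcases N with _ | n
  · rw [pow_zero] at hle ⊢
    exact ⟨by omega, hle, fun h => by omega⟩
  set τ := x ^ p ^ n with hτ
  have hτ1 : τ ≠ 1 := by
    intro h
    have h1 := Nat.le_of_dvd (pow_pos hp.pos n) (orderOf_dvd_of_pow_eq_one h)
    rw [← Nat.card_zpowers, hN] at h1
    exact absurd h1 (not_le.2 (Nat.pow_lt_pow_right hp.one_lt (Nat.lt_succ_self n)))
  have hτx : τ ∈ Subgroup.zpowers x := Subgroup.npow_mem_zpowers x _
  set Z := Q ⊓ Subgroup.center G with hZ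
  have hZc : ∀ z ∈ Z, ∀ g, g * z = z * g := fun z hz g => Subgroup.mem_center_iff.1 hz.2 g
  have hfix : ∀ y ∈ Q, (τ * y = y * τ ↔ y ∈ Z) := by
    intro y hy
    refine ⟨fun h => ⟨hy, ?_⟩, fun h => hZc y h τ⟩
    have h1 : y ∈ Subgroup.zpowers x ⊔ Subgroup.center G := by
      rw [← hC τ hτx hτ1]; exact Subgroup.mem_centralizer_singleton_iff.2 h.symm
    obtain ⟨a, ha, z, hz, rfl⟩ := Subgroup.mem_sup_of_normal_right.1 h1
    obtain ⟨i, rfl⟩ := Subgroup.mem_zpowers_iff.1 ha
    have h2 : (x ^ i * z) ^ p ^ (n + 1) = z ^ p ^ (n + 1) := by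
      have hc : Commute (x ^ i) z := Subgroup.mem_center_iff.1 hz _
      rw [hc.mul_pow, ← zpow_natCast, ← zpow_mul, mul_comm, zpow_mul, zpow_natCast, hxN, one_zpow,
        one_mul]
    obtain ⟨b, hb⟩ := hQ ⟨_, hy⟩
    have hb' : (x ^ i * z) ^ q ^ b = 1 := congrArg Subtype.val hb
    obtain ⟨k, hk⟩ := exists_pow_eq_self_of_coprime (x := x ^ i * z) (n := p ^ (n + 1))
      ((((Nat.coprime_primes hp Fact.out).2 hpq).pow (n + 1) b).coprime_dvd_right
        (orderOf_dvd_of_pow_eq_one hb'))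
    rw [← hk, h2]
    exact pow_mem (pow_mem hz _) k
  have hnab : ¬ IsMulCommutative Q := by
    intro hab
    have hQc : Q ≤ Subgroup.center G := fun y hy => hcen y hy fun z hz =>
      congrArg Subtype.val (isMulCommutative_iff.1 hab ⟨y, hy⟩ ⟨z, hz⟩)
    obtain ⟨κ, hκ⟩ := hschur (ρ x) (fun g hg => by
      rw [← map_mul, ← map_mul, Subgroup.mem_center_iff.1 (hQc hg) x])
    have h1 : κ ^ p ^ (n + 1) = 1 := by
      have h2 := congrArg ρ hxN
      rw [map_pow, hκ, map_one, smul_pow, one_pow] at h2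
      have h3 : algebraMap K (Module.End K V) (κ ^ p ^ (n + 1)) = algebraMap K (Module.End K V) 1 := by
        rw [Algebra.algebraMap_eq_smul_one, h2, map_one]
      exact FaithfulSMul.algebraMap_injective K (Module.End K V) h3
    have h4 : κ = 1 := by
      apply sub_eq_zero.1
      exact pow_eq_zero_iff (pow_ne_zero _ hp.ne_zero) |>.1 (by rw [sub_pow_char_pow, one_pow, h1, sub_self])
    rw [h4, one_smul] at hκ
    have h5 : x = 1 := hfaith (hκ.trans ρ.map_one.symm)
    exact hτ1 (by rw [hτ, h5, one_pow])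
  set mk := QuotientGroup.mk' Z
  set B := Q ⊓ (Subgroup.centralizer ((Q.map mk : Subgroup (G ⧸ Z)) : Set (G ⧸ Z))).comap mk with hB
  haveI : (Q.map mk).Normal := Subgroup.Normal.map inferInstance mk (QuotientGroup.mk'_surjective _)
  haveI : B.Normal := inferInstance
  have hBc : ∀ a ∈ B, ∀ b ∈ B, ⁅a, b⁆ ∈ Z := by
    intro a ha b hb
    rw [← QuotientGroup.eq_one_iff]
    exact (map_commutatorElement mk a b).trans (commutatorElement_eq_one_iff_mul_comm.2
      ((Subgroup.mem_centralizer_iff.1 ha.2 (mk b) (Subgroup.mem_map_of_mem mk hb.1)).symm))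
  have hex : ∃ y ∈ B, y ∉ Z := by
    have hne : Q.map mk ≠ ⊥ := fun h0 => hnab (isMulCommutative_iff.2 fun a b => Subtype.ext (by
      have : (a : G) ∈ Z := by
        rw [← QuotientGroup.eq_one_iff]
        exact (Subgroup.mem_bot (G := G ⧸ Z)).1 (h0 ▸ Subgroup.mem_map_of_mem mk a.2)
      exact (hZc _ this b).symm))
    haveI : Nontrivial (Q.map mk) := (Subgroup.nontrivial_iff_ne_bot _).2 hne
    haveI := (hQ.map mk).center_nontrivial
    obtain ⟨⟨⟨c, hc⟩, hcc⟩, hc1⟩ := exists_ne (1 : Subgroup.center (Q.map mk))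
    obtain ⟨y, hy, rfl⟩ := hc
    refine ⟨y, ⟨hy, Subgroup.mem_centralizer_iff.2 fun g hg => ?_⟩, fun hyZ => hc1 ?_⟩
    · exact congrArg Subtype.val (Subgroup.mem_center_iff.1 hcc ⟨g, hg⟩)
    · exact Subtype.ext (Subtype.ext ((QuotientGroup.eq_one_iff _).2 hyZ))
  obtain ⟨y₀, hy₀, hy₀Z⟩ := hex
  haveI : Fintype Z := Fintype.ofFinite _
  have hZB : Z ≤ B := fun z hz => ⟨hz.1, by
    refine Subgroup.mem_comap.2 ?_
    rw [show mk z = 1 from (QuotientGroup.eq_one_iff z).2 hz]; exact one_mem _⟩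
  rcases CfsgLib.Solvable.FPFOperators.theoremB_block (n := n) (r := s) hpq.symm ρ B Z
      (hQ.to_le inf_le_left) hZB (fun z hz y _ => hZc z hz y) hBc hxN
      (fun y hy => hfix y hy.1)
      ⟨y₀, hy₀, fun h => hy₀Z ((hfix y₀ hy₀.1).1 (hfaith h))⟩ hs with
    h | ⟨n₀, m, h1, h2, h3, h4, h5, h6, h7⟩
  · refine ⟨by omega, hle, fun h8 => ?_⟩
    have := Nat.one_le_pow (n + 1) p hp.pos
    omega
  · obtain rfl := h7 fun z hz => hZc z hz x
    rw [Nat.sub_self, pow_zero, one_mul] at h5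
    exact ⟨h5, hle, fun _ => ⟨⟨m, h4⟩, hnab⟩⟩

end Cfsg.Agent.S4282
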