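import Cfsg.Statements.S4283
import Cfsg.Agent.Lib.Solvable.Basic

set_option autoImplicit false
open Cfsg

namespace Cfsg.Agent.S4283

open scoped Pointwise


/-- Let G be a finite group with centre Z and let K, H be abelian subgroups of G containing Z such that G/Z is a Frobenius group with complement H/Z and kernel K/Z. Then the conjugacy class sizes of G are exactly 1, [G : K] and [G : H], and these two indices are coprime. (This is the converse half of the characterization of finite groups whose conjugacy class sizes are exactly 1, m and n with m and n coprime.) -/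
theorem result {G : Type*} [Group G] [Finite G] (K H : Subgroup G) (hZK : Subgroup.center G ≤ K) (hZH : Subgroup.center G ≤ H) (hK : IsMulCommutative K) (hH : IsMulCommutative H) (hFrob : Cfsg.IsFrobeniusComplement (H.map (QuotientGroup.mk' (Subgroup.center G)))) (hker : Cfsg.frobeniusKernel (H.map (QuotientGroup.mk' (Subgroup.center G))) = (K.map (QuotientGroup.mk' (Subgroup.center G)) : Set (G ⧸ Subgroup.center G))) : Set.range (fun x : G => (Subgroup.centralizer ({x} : Set G)).index) = ({1, K.index, H.index} : Set ℕ) ∧ K.index.Coprime H.index := by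
  set π := QuotientGroup.mk' (Subgroup.center G)
  set Hb := H.map π with hHb
  set Kb := K.map π with hKb
  have hπs : Function.Surjective π := QuotientGroup.mk'_surjective _
  have hKc : Kb.comap π = K := Subgroup.comap_map_eq_self (by rwa [QuotientGroup.ker_mk'])
  have hHc : Hb.comap π = H := Subgroup.comap_map_eq_self (by rwa [QuotientGroup.ker_mk'])
  obtain ⟨hne, hnt, hTI⟩ := hFrob
  have hmemK : ∀ z, z ∈ Kb ↔ z = 1 ∨ ∀ c, z ∉ MulAut.conj c • Hb := fun z => by
    rw [← SetLike.mem_coe, ← hker]
    rfl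
  have hconj : ∀ (c z : G ⧸ Subgroup.center G), z ∈ MulAut.conj c • Hb ↔ c⁻¹ * z * c ∈ Hb :=
    fun c z => by
      rw [Subgroup.mem_pointwise_smul_iff_inv_smul_mem, ← map_inv, MulAut.smul_def,
        MulAut.conj_apply, inv_inv]
  have hKn : Kb.Normal := by
    refine ⟨fun z hz d => (hmemK _).2 ?_⟩
    rcases (hmemK z).1 hz with rfl | h
    · simp
    · refine Or.inr fun c hc => h (d⁻¹ * c) ?_
      rw [hconj] at hc ⊢
      simpa [mul_assoc] using hc
  have hKHb : Kb ⊓ Hb = ⊥ := by
    rw [eq_bot_iff]
    intro z hz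
    obtain ⟨hz1, hz2⟩ := Subgroup.mem_inf.1 hz
    rcases (hmemK z).1 hz1 with h | h
    · exact h
    · exact absurd ((hconj 1 z).2 (by simpa using hz2)) (h 1)
  -- centralisers in the quotient
  have hcent : ∀ (c z w : G ⧸ Subgroup.center G), z ∈ MulAut.conj c • Hb → z ≠ 1 →
      w * z = z * w → w ∈ MulAut.conj c • Hb := by
    intro c z w hz hz1 hw
    rw [hconj] at hz ⊢
    by_contra hw'
    have hb := hTI _ hw'
    have hmem : c⁻¹ * z * c ∈ Hb ⊓ MulAut.conj (c⁻¹ * w * c) • Hb := by
      refine Subgroup.mem_inf.2 ⟨hz, ?_⟩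
      rw [hconj]
      have e : (c⁻¹ * w * c)⁻¹ * (c⁻¹ * z * c) * (c⁻¹ * w * c) = c⁻¹ * (w⁻¹ * (z * w)) * c := by
        group
      rw [e, ← hw, inv_mul_cancel_left]
      exact hz
    rw [hb, Subgroup.mem_bot, mul_assoc, inv_mul_eq_one] at hmem
    exact hz1 (by simpa using hmem.symm)
  -- `Hb` is a Hall subgroup
  have hHall : Hb.index.Coprime (Nat.card Hb) := by
    refine Nat.coprime_of_dvd fun p hp h1 h2 => ?_
    have := Fact.mk hp
    obtain ⟨P, hP⟩ : ∃ P : Sylow p Hb, True := ⟨default, trivial⟩
    set Q := (P : Subgroup Hb).map Hb.subtype with hQ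
    have hQp : IsPGroup p Q := P.isPGroup'.map _
    have hQ1 : Q ≠ ⊥ := by
      rw [hQ, Ne, Subgroup.map_eq_bot_iff_of_injective _ Hb.subtype_injective]
      exact P.ne_bot_of_dvd_card h2
    obtain ⟨k, hk⟩ := IsPGroup.iff_card.1 hQp
    obtain ⟨L, hL, hle⟩ := Sylow.exists_subgroup_card_pow_succ (p := p) (n := k) (by
      rw [← Hb.card_mul_index, pow_succ, ← hk]
      exact mul_dvd_mul (Subgroup.card_dvd_of_le (Subgroup.map_subtype_le _)) h1) hk
    have hLp : IsPGroup p L := IsPGroup.of_card hL
    have hLH : ¬ L ≤ Hb := by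
      intro hLH
      have hdvd := Subgroup.card_dvd_of_le (le_refl L)
      have h4 : Nat.card L ∣ Nat.card Hb := Subgroup.card_dvd_of_le hLH
      have h5 : Nat.card Q = Nat.card P := Subgroup.card_map_of_injective Hb.subtype_injective
      rw [hL, hp.pow_dvd_iff_le_factorization Nat.card_pos.ne'] at h4
      rw [Sylow.card_eq_multiplicity, hk] at h5
      have := Nat.pow_right_injective hp.two_le h5
      omega
    -- a normal subgroup of index `p`
    have hQn : (Q.subgroupOf L).Normal := by
      have hidx : (Q.subgroupOf L).index = p := by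
        have := (Q.subgroupOf L).card_mul_index
        rw [Nat.card_congr (Subgroup.subgroupOfEquivOfLe hle).toEquiv, hk, hL, pow_succ] at this
        exact Nat.eq_of_mul_eq_mul_left (pow_pos hp.pos k) this
      refine Subgroup.normal_of_index_eq_minFac_card ?_
      rw [hidx, hL, Nat.pow_minFac (Nat.succ_ne_zero k), hp.minFac_eq]
    obtain ⟨l, hlL, hlH⟩ := SetLike.not_le_iff_exists.1 hLH
    refine hQ1 (eq_bot_iff.2 ((le_inf (Subgroup.map_subtype_le _) ?_).trans (hTI l hlH).le))
    intro q hq
    rw [hconj]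
    have hl := (Subgroup.normal_subgroupOf_iff_le_normalizer hle).1 hQn (L.inv_mem hlL)
    exact Subgroup.map_subtype_le (P : Subgroup Hb) (by
      rw [← hQ]; simpa using (Subgroup.mem_normalizer_iff.1 hl q).1 hq)
  have hidxdvd : Hb.index ∣ Nat.card Kb := by
    rw [← Nat.factorization_le_iff_dvd Subgroup.index_ne_zero_of_finite Nat.card_pos.ne']
    intro p
    by_cases hp : p.Prime
    · by_cases hpd : p ∣ Hb.index
      · have := Fact.mk hp
        obtain ⟨P, -⟩ : ∃ P : Sylow p (G ⧸ Subgroup.center G), True := ⟨default, trivial⟩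
        have hPK : (P : Subgroup _) ≤ Kb := by
          intro z hz
          refine (hmemK z).2 ?_
          by_cases hz1 : z = 1
          · exact Or.inl hz1
          refine Or.inr fun c hc => hz1 ?_
          rw [hconj] at hc
          obtain ⟨k, hk⟩ := IsPGroup.iff_orderOf.1 P.isPGroup' ⟨z, hz⟩
          rw [Subgroup.orderOf_mk] at hk
          have e : orderOf (c⁻¹ * z * c) = orderOf z := by
            have := orderOf_injective (MulAut.conj c⁻¹).toMonoidHom (MulAut.conj c⁻¹).injective z
            simpa using this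
          have hd : p ^ k ∣ Nat.card Hb := by
            rw [← hk, ← e, ← Subgroup.orderOf_mk (H := Hb) _ hc]
            exact orderOf_dvd_natCard _
          rcases Nat.eq_zero_or_pos k with rfl | hk0
          · rwa [pow_zero, orderOf_eq_one_iff] at hk
          · exact absurd (Nat.Coprime.eq_one_of_dvd (Nat.Coprime.coprime_dvd_left hpd hHall)
              ((dvd_pow_self p hk0.ne').trans hd)) hp.one_lt.ne'
        have h3 := Subgroup.card_dvd_of_le hPK
        rw [Sylow.card_eq_multiplicity, hp.pow_dvd_iff_le_factorization Nat.card_pos.ne'] at h3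
        refine le_trans ?_ h3
        exact (Nat.factorization_le_iff_dvd Subgroup.index_ne_zero_of_finite Nat.card_pos.ne').2
          Hb.index_dvd_card p
      · simp [Nat.factorization_eq_zero_of_not_dvd hpd]
    · simp [Nat.factorization_eq_zero_of_not_prime _ hp]
  have hKcard : Nat.card Kb = Hb.index := by
    refine Nat.dvd_antisymm ?_ hidxdvd
    have h1 : Nat.card (Hb ⊔ Kb : Subgroup _) = Nat.card Hb * Nat.card Kb :=
      CfsgLib.Solvable.Basic.card_sup_of_disjoint Kb Hb hKHb
    have h2 := Subgroup.card_subgroup_dvd_card (Hb ⊔ Kb)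
    rw [h1, ← Hb.card_mul_index] at h2
    exact (Nat.mul_dvd_mul_iff_left Nat.card_pos).1 h2
  have hKidx : Kb.index = Nat.card Hb := by
    have h1 := Kb.card_mul_index
    rw [hKcard, ← Hb.card_mul_index, mul_comm (Nat.card Hb)] at h1
    exact Nat.eq_of_mul_eq_mul_left (Nat.pos_of_ne_zero Subgroup.index_ne_zero_of_finite) h1
  have hiK : K.index = Kb.index := by rw [← hKc, Subgroup.index_comap_of_surjective _ hπs]
  have hiH : H.index = Hb.index := by rw [← hHc, Subgroup.index_comap_of_surjective _ hπs]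
  have hKcomm := isMulCommutative_iff.1 hK
  have hHcomm := isMulCommutative_iff.1 hH
  -- centraliser of an element of `K`
  have hcK : ∀ x : G, x ∈ K → x ∉ Subgroup.center G → Subgroup.centralizer ({x} : Set G) = K := by
    intro x hx hxZ
    refine le_antisymm (fun y hy => ?_) fun y hy =>
      Subgroup.mem_centralizer_singleton_iff.2 (congrArg Subtype.val (hKcomm ⟨y, hy⟩ ⟨x, hx⟩))
    rw [← hKc, Subgroup.mem_comap]
    rw [Subgroup.mem_centralizer_singleton_iff] at hy
    rcases Classical.em (π y ∈ Kb) with h | h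
    · exact h
    exfalso
    rw [hmemK] at h
    simp only [not_or, not_forall, not_not] at h
    obtain ⟨hy1, c, hc⟩ := h
    have hxc := hcent c (π y) (π x) hc hy1 (by rw [← map_mul, ← map_mul, hy])
    rcases (hmemK (π x)).1 ⟨x, hx, rfl⟩ with h' | h'
    · exact hxZ ((QuotientGroup.eq_one_iff x).1 h')
    · exact h' c hxc
  have hcH : ∀ x : G, x ∉ K → ∃ g : G, Subgroup.centralizer ({x} : Set G) = MulAut.conj g • H := by
    intro x hx
    have hx' : π x ∉ Kb := fun h => hx (hKc ▸ h)
    rw [hmemK] at hx'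
    simp only [not_or, not_forall, not_not] at hx'
    obtain ⟨hx1, c, hc⟩ := hx'
    obtain ⟨g, rfl⟩ := hπs c
    have hcH' : ∀ y, y ∈ MulAut.conj g • H ↔ g⁻¹ * y * g ∈ H := fun y => by
      rw [Subgroup.mem_pointwise_smul_iff_inv_smul_mem, ← map_inv, MulAut.smul_def,
        MulAut.conj_apply, inv_inv]
    have hiff : ∀ y, π y ∈ MulAut.conj (π g) • Hb ↔ y ∈ MulAut.conj g • H := fun y => by
      rw [hconj, hcH', ← map_inv, ← map_mul, ← map_mul, ← Subgroup.mem_comap, hHc]
    refine ⟨g, le_antisymm (fun y hy => ?_) fun y hy => ?_⟩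
    · rw [Subgroup.mem_centralizer_singleton_iff] at hy
      exact (hiff y).1 (hcent _ _ _ hc hx1 (by rw [← map_mul, ← map_mul, hy]))
    · have hxg := (hiff x).1 hc
      rw [hcH'] at hy hxg
      have h3 := congrArg Subtype.val (hHcomm ⟨_, hy⟩ ⟨_, hxg⟩)
      simp only [Subgroup.coe_mul] at h3
      rw [Subgroup.mem_centralizer_singleton_iff]
      calc y * x = g * ((g⁻¹ * y * g) * (g⁻¹ * x * g)) * g⁻¹ := by group
        _ = x * y := by rw [h3]; group
  refine ⟨?_, ?_⟩
  · ext n
    simp only [Set.mem_range, Set.mem_insert_iff, Set.mem_singleton_iff]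
    constructor
    · rintro ⟨x, rfl⟩
      by_cases hxZ : x ∈ Subgroup.center G
      · left
        rw [Subgroup.index_eq_one]
        exact Subgroup.centralizer_eq_top_iff_subset.2 (by simpa using hxZ)
      by_cases hx : x ∈ K
      · exact Or.inr (Or.inl (by rw [hcK x hx hxZ]))
      · obtain ⟨g, hg⟩ := hcH x hx
        exact Or.inr (Or.inr (by rw [hg, CfsgLib.Solvable.Basic.index_conj_smul]))
    · rintro (rfl | rfl | rfl)
      · exact ⟨1, by simp⟩
      · obtain ⟨z, hz, hz1⟩ : ∃ z ∈ Kb, z ≠ 1 := by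
          suffices h : Kb ≠ ⊥ by
            obtain ⟨z, hz⟩ := Subgroup.ne_bot_iff_exists_ne_one.1 h
            exact ⟨z, z.2, by simpa using hz⟩
          intro h
          rw [h, Subgroup.card_bot] at hKcard
          exact hnt (Subgroup.index_eq_one.1 hKcard.symm)
        obtain ⟨x, hx, rfl⟩ := hz
        exact ⟨x, by rw [hcK x hx fun h => hz1 ((QuotientGroup.eq_one_iff x).2 h)]⟩
      · obtain ⟨z, hz⟩ := Subgroup.ne_bot_iff_exists_ne_one.1 hne
        obtain ⟨x, hx, hxz⟩ := z.2
        have hxK : x ∉ K := fun h => hz (Subtype.ext (by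
          have : π x ∈ Kb ⊓ Hb := ⟨⟨x, h, rfl⟩, ⟨x, hx, rfl⟩⟩
          rw [hKHb, Subgroup.mem_bot] at this
          rw [← hxz, this]
          rfl))
        obtain ⟨g, hg⟩ := hcH x hxK
        exact ⟨x, by rw [hg, CfsgLib.Solvable.Basic.index_conj_smul]⟩
  · rw [hiK, hiH, hKidx]
    exact hHall.symm

end Cfsg.Agent.S4283
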