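import Cfsg.Statements.S4292
import Cfsg.Agent.Lib.FrobRealize.Transfer

set_option autoImplicit false
open Cfsg

namespace Cfsg.Agent.S4292

/-- Let A and B be nontrivial finite groups. Then the direct product A × B occurs as a Frobenius complement if and only if A and B both occur as Frobenius complements and the orders of A and B are coprime. -/
theorem result {A B : Type*} [Group A] [Finite A] [Nontrivial A] [Group B] [Finite B] [Nontrivial B] :
    (∃ (L : Type) (_ : Group L) (_ : Finite L) (H : Subgroup L), Cfsg.IsFrobeniusComplement H ∧ Nonempty ((A × B) ≃* H)) ↔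
    ((∃ (L : Type) (_ : Group L) (_ : Finite L) (H : Subgroup L), Cfsg.IsFrobeniusComplement H ∧ Nonempty (A ≃* H)) ∧
     (∃ (L : Type) (_ : Group L) (_ : Finite L) (H : Subgroup L), Cfsg.IsFrobeniusComplement H ∧ Nonempty (B ≃* H)) ∧
     (Nat.card A).Coprime (Nat.card B)) := by
  classical
  let _ : Fintype A := Fintype.ofFinite A
  let _ : Fintype B := Fintype.ofFinite B
  constructor
  · intro h
    have hf := CfsgLib.FrobRealize.Transfer.complement_iff.1 h
    refine ⟨CfsgLib.FrobRealize.Transfer.complement_iff.2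
        (CfsgLib.FrobRealize.Transfer.free_of_injective (MonoidHom.inl A B)
          (fun a b hab => congrArg Prod.fst hab) hf),
      CfsgLib.FrobRealize.Transfer.complement_iff.2
        (CfsgLib.FrobRealize.Transfer.free_of_injective (MonoidHom.inr A B)
          (fun a b hab => congrArg Prod.snd hab) hf), ?_⟩
    obtain ⟨L, iL, iF, H, hH, ⟨e⟩⟩ := h
    have := iF
    refine Nat.coprime_of_dvd fun r hr hrA hrB => ?_
    have := Fact.mk hr
    obtain ⟨a, ha⟩ := exists_prime_orderOf_dvd_card' r hrA
    obtain ⟨b, hb⟩ := exists_prime_orderOf_dvd_card' r hrB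
    obtain ⟨N, -, hN1, hHN, hfpf, -, -⟩ := CfsgLib.FrobRealize.FPF.exists_fpf_kernel hH
    let S : Subgroup (A × B) := (Subgroup.zpowers a).prod (Subgroup.zpowers b)
    let f : A × B →* L := H.subtype.comp e.toMonoidHom
    have hinj : Function.Injective f := H.subtype_injective.comp e.injective
    let S' : Subgroup L := S.map f
    have hle : S' ≤ H := by rintro _ ⟨x, -, rfl⟩; exact (e x).2
    have hc : IsMulCommutative S' := IsMulCommutative.of_comm (by
      rintro ⟨_, x, hx, rfl⟩ ⟨_, y, hy, rfl⟩
      refine Subtype.ext ?_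
      show f x * f y = f y * f x
      rw [← map_mul, ← map_mul]
      congr 1
      obtain ⟨i, hi⟩ := Subgroup.mem_zpowers_iff.1 hx.1
      obtain ⟨j, hj⟩ := Subgroup.mem_zpowers_iff.1 hx.2
      obtain ⟨k, hk⟩ := Subgroup.mem_zpowers_iff.1 hy.1
      obtain ⟨l, hl⟩ := Subgroup.mem_zpowers_iff.1 hy.2
      exact Prod.ext (by rw [Prod.fst_mul, Prod.fst_mul, ← hi, ← hk]; exact ((Commute.refl a).zpow_zpow i k).eq)
        (by rw [Prod.snd_mul, Prod.snd_mul, ← hj, ← hl]; exact ((Commute.refl b).zpow_zpow j l).eq))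
    have hcyc := CfsgLib.FrobRealize.FPF.isCyclic_of_comm hN1 (hle.trans hHN)
      (fun x hx => hfpf x (hle hx)) hc
    have hcyc' : IsCyclic S :=
      isCyclic_of_surjective (S.equivMapOfInjective f hinj).symm (MulEquiv.surjective _)
    obtain ⟨g, hg⟩ := hcyc'.exists_generator
    have hgr : g ^ r = 1 := by
      refine Subtype.ext (Prod.ext ?_ ?_)
      · obtain ⟨i, hi⟩ := Subgroup.mem_zpowers_iff.1 g.2.1
        show (g.1.1) ^ r = 1
        rw [← hi, ← zpow_natCast, ← zpow_mul, mul_comm, zpow_mul, zpow_natCast, ← ha,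
          pow_orderOf_eq_one, one_zpow]
      · obtain ⟨i, hi⟩ := Subgroup.mem_zpowers_iff.1 g.2.2
        show (g.1.2) ^ r = 1
        rw [← hi, ← zpow_natCast, ← zpow_mul, mul_comm, zpow_mul, zpow_natCast, ← hb,
          pow_orderOf_eq_one, one_zpow]
    have h1 : Nat.card S ≤ r := by
      rw [← orderOf_eq_card_of_forall_mem_zpowers hg]
      exact orderOf_le_of_pow_eq_one hr.pos hgr
    rw [Nat.card_congr (Subgroup.prodEquiv (Subgroup.zpowers a) (Subgroup.zpowers b)).toEquiv,
      Nat.card_prod, Nat.card_zpowers, Nat.card_zpowers, ha, hb] at h1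
    have := hr.two_le
    nlinarith
  · rintro ⟨hA, hB, hcop⟩
    exact CfsgLib.FrobRealize.Transfer.complement_iff.2 (CfsgLib.FrobRealize.Transfer.free_prod hcop
      (CfsgLib.FrobRealize.Transfer.complement_iff.1 hA)
      (CfsgLib.FrobRealize.Transfer.complement_iff.1 hB))
end Cfsg.Agent.S4292
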