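import Cfsg.Statements.S4294
import Cfsg.Agent.S4293
import Cfsg.Agent.S3359
import Cfsg.Agent.Lib.KnownC.DivisionRing.SL25

set_option autoImplicit false
open Cfsg
open CfsgLib.KnownC.DivisionRing

namespace Cfsg.Agent.S4294

theorem charZero {D : Type*} [DivisionRing D] (H : Subgroup Dˣ) [Finite H] (hH : ¬ Group.IsSolvable H) :
    CharZero D := by
  obtain ⟨p, hp⟩ := CharP.exists D
  rcases CharP.char_is_prime_or_zero D p with hpr | rfl
  · exfalso
    haveI := hp
    haveI : Fact p.Prime := ⟨hpr⟩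
    letI : Algebra (ZMod p) D := ZMod.algebra D p
    set F := MonoidAlgebra.lift (ZMod p) D H ((Units.coeHom D).comp H.subtype) with hF
    haveI : Finite F.range := by
      haveI : Fintype H := Fintype.ofFinite H
      haveI : Module.Finite (ZMod p) (MonoidAlgebra (ZMod p) H) := Module.Finite.of_basis (MonoidAlgebra.basis H (ZMod p))
      haveI : Finite (MonoidAlgebra (ZMod p) H) := Module.finite_of_finite (ZMod p)
      exact (Set.finite_range F).to_subtype
    have hmem : ∀ h : H, ((h : Dˣ) : D) ∈ F.range := fun h => ⟨MonoidAlgebra.single h 1, by simp [hF]⟩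
    have hcomm : ∀ a b : H, a * b = b * a := fun a b => by
      have := (Finite.isDomain_to_isField F.range).mul_comm ⟨_, hmem a⟩ ⟨_, hmem b⟩
      exact Subtype.ext (Units.ext (congrArg Subtype.val this))
    exact hH (Group.isSolvable_of_comm fun a b => hcomm a b)
  · exact CharP.charP_to_charZero D

theorem central_cases : ∀ p q r s : ZMod 5, p * s - q * r = 1 →
    !![p, q; r, s] * !![1, 1; 0, 1] = !![1, 1; 0, 1] * !![p, q; r, s] →
    !![p, q; r, s] * !![0, 1; -1, 0] = !![0, 1; -1, 0] * !![p, q; r, s] →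
    !![p, q; r, s] = (1 : Matrix (Fin 2) (Fin 2) (ZMod 5)) ∨
      !![p, q; r, s] = (-1 : Matrix (Fin 2) (Fin 2) (ZMod 5)) := by decide

theorem central {X : S5} (hU : Commute X gU) (hA : Commute X gA) : X = 1 ∨ X = -1 := by
  have e := Matrix.eta_fin_two X.1
  have hd := X.2
  have h1 := congrArg (fun Y : S5 => Y.1) hU.eq
  have h2 := congrArg (fun Y : S5 => Y.1) hA.eq
  rw [e, Matrix.det_fin_two_of] at hd
  simp only [val_mul] at h1 h2
  rw [e] at h1 h2
  rcases central_cases _ _ _ _ hd h1 h2 with h | h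
  · exact Or.inl (Subtype.ext (e.trans h))
  · exact Or.inr (Subtype.ext (e.trans h))

theorem outer_id :
    let U' := gA * gU ^ 2 * gA⁻¹
    let A' := gA * -(gA * gJ) * gA⁻¹
    A' * U' ^ 2 * A'⁻¹ = gU ∧
      A' * (A' * A' * A' * (U' * U' * A' * (U' * U')⁻¹ * A'⁻¹ * (U' * U') * A'⁻¹)) * A'⁻¹ = gA ∧
      -(gA * gJ) = gA * gA * gA * gJ := by decide

/-- A finite non-solvable subgroup of the multiplicative group of a division ring is isomorphic to the binary icosahedral group SL(2,5). -/
theorem result {D : Type*} [DivisionRing D] (H : Subgroup Dˣ) [Finite H] (hH : ¬ Group.IsSolvable H) :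
    Nonempty (H ≃* Matrix.SpecialLinearGroup (Fin 2) (ZMod 5)) := by
  classical
  haveI := charZero H hH
  have hne : H ≠ ⊥ := fun e => hH (Group.isSolvable_of_comm fun a b => by
    have : Subsingleton H := by rw [e]; infer_instance
    exact Subsingleton.elim _ _)
  obtain ⟨G₀, hN, hidx, S, M, hSM, -, hcomm, ⟨e⟩, -, hcop⟩ :=
    Cfsg.Agent.S3359.result hH (Cfsg.Agent.S4293.result H hne)
  let j : H →* D := (Units.coeHom D).comp H.subtype
  have hj : Function.Injective j := Units.val_injective.comp Subtype.val_injective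
  let σ : S5 →* H := S.subtype.comp e.symm.toMonoidHom
  have hσ : Function.Injective σ := Subtype.val_injective.comp e.symm.injective
  let ι : S5 →* D := j.comp σ
  have hι : Function.Injective ι := hj.comp hσ
  have hσS : ∀ t, σ t ∈ S := fun t => (e.symm t).2
  have hM : M = ⊥ := by
    by_contra hM
    have h1 : Nat.card M ≠ 1 := fun h => hM (Subgroup.card_eq_one.1 h)
    obtain ⟨r, hr, hdvd⟩ := Nat.exists_prime_and_dvd h1
    haveI : Fact r.Prime := ⟨hr⟩
    have h7 : 7 ≤ r := by
      have hc : r.Coprime 30 := hcop.coprime_dvd_left hdvd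
      by_contra h
      have := hr.two_le
      interval_cases r
      all_goals revert hc hr; decide
    obtain ⟨m, hm⟩ := exists_prime_orderOf_dvd_card' (G := M) r hdvd
    have hmr : (m : H) ^ r = 1 := by rw [← SubmonoidClass.coe_pow, ← hm, pow_orderOf_eq_one]; rfl
    have hm1 : (m : H) ≠ 1 := fun h => hr.ne_one (by rw [← hm, orderOf_eq_one_iff]; exact Subtype.ext h)
    have hc : ∀ t, Commute (j m) (ι t) := fun t =>
      ((show Commute (σ t) (m : H) from hcomm _ (hσS t) _ m.2).symm).map j
    exact no_commuting_prime ι hι hr h7 (by rw [← map_pow, hmr, map_one])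
      (fun h => hm1 (hj (h.trans (map_one j).symm))) (hc gA) (hc gU) (hc gJ)
  rw [hM, sup_bot_eq] at hSM
  subst hSM
  rcases hidx with hidx | hidx
  · exact ⟨((MulEquiv.subgroupCongr (Subgroup.index_eq_one.1 hidx)).trans Subgroup.topEquiv).symm.trans e⟩
  exfalso
  obtain ⟨x, hx⟩ : ∃ x : H, x ∉ S := by
    by_contra! h
    rw [(Subgroup.eq_top_iff' S).2 h, Subgroup.index_top] at hidx
    omega
  let φ : S5 →* S5 := e.toMonoidHom.comp ((((MulAut.conj x).toMonoidHom.comp S.subtype).codRestrict S
    fun s => hN.conj_mem _ s.2 x).comp e.symm.toMonoidHom)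
  have hφσ : ∀ t, σ (φ t) = x * σ t * x⁻¹ := fun t => by simp [σ, φ]
  have hφ : Function.Injective φ := fun a b h => by
    have := congrArg σ h
    rw [hφσ, hφσ] at this
    exact hσ (mul_left_cancel (mul_right_cancel this))
  obtain ⟨g, hg⟩ := inner_or_outer hφ
  set z : H := σ g * x with hz
  have hzS : z ∉ S := fun h => hx ((S.mul_mem_cancel_left (hσS g)).1 h)
  have hconj : ∀ t, z * σ t * z⁻¹ = σ (g * φ t * g⁻¹) := fun t => by
    rw [map_mul, map_mul, map_inv, hφσ, hz]; group
  rcases hg with ⟨hgU, hgA⟩ | ⟨hgU, hgA⟩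
  · have hcU : Commute z (σ gU) := mul_inv_eq_iff_eq_mul.1 ((hconj gU).trans (by rw [hgU]))
    have hcA : Commute z (σ gA) := mul_inv_eq_iff_eq_mul.1 ((hconj gA).trans (by rw [hgA]))
    have hcJ : Commute z (σ gJ) := by
      rw [word_J]
      simp only [map_mul, map_inv]
      exact ((((((hcU.mul_right hcU).mul_right hcA).mul_right (hcU.mul_right hcU).inv_right).mul_right
        hcA.inv_right).mul_right (hcU.mul_right hcU)).mul_right hcA.inv_right)
    obtain ⟨k, m, hm, hk⟩ := Nat.exists_eq_two_pow_mul_odd (orderOf_pos z).ne'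
    have h1 : (z ^ m) ^ 2 ^ k = 1 := by rw [← pow_mul, mul_comm, ← hk, pow_orderOf_eq_one]
    have hzm : z ^ m ∈ S := by
      rcases two_power_centralizer ι hι (w := j (z ^ m)) (k := k) (by rw [← map_pow, h1, map_one])
        ((hcA.pow_left m).map j) ((hcJ.pow_left m).map j) with h | h
      · rw [show z ^ m = 1 from hj (h.trans (map_one j).symm)]; exact S.one_mem
      · rw [show z ^ m = σ (-1) from hj (h.trans (map_neg_one ι hι).symm)]; exact hσS _
    obtain ⟨t, rfl⟩ := hm
    rw [pow_succ, pow_mul] at hzm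
    exact hzS ((S.mul_mem_cancel_left (S.pow_mem (Subgroup.sq_mem_of_index_two hidx z) t)).1 hzm)
  · set y : H := σ gA * z with hy
    have hyS : y ∉ S := fun h => hzS ((S.mul_mem_cancel_left (hσS gA)).1 h)
    have hyU : y * σ gU * y⁻¹ = σ (gA * gU ^ 2 * gA⁻¹) := by
      have := hconj gU
      rw [hgU] at this
      rw [map_mul, map_mul, map_inv, ← this, hy]; group
    have hyA : y * σ gA * y⁻¹ = σ (gA * -(gA * gJ) * gA⁻¹) := by
      have := hconj gA
      rw [hgA] at this
      rw [map_mul, map_mul, map_inv, ← this, hy]; group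
    set U' := gA * gU ^ 2 * gA⁻¹ with hU'
    set A' := gA * -(gA * gJ) * gA⁻¹ with hA'
    let c : S5 →* H := (MulAut.conj y).toMonoidHom.comp σ
    have hc : ∀ t, c t = y * σ t * y⁻¹ := fun t => rfl
    have cU : c gU = σ U' := hyU
    have cA : c gA = σ A' := hyA
    have cJ : c gJ = σ (U' * U' * A' * (U' * U')⁻¹ * A'⁻¹ * (U' * U') * A'⁻¹) := by
      simp only [word_J, map_mul, map_inv, cU, cA]
    obtain ⟨w, hw⟩ : ∃ w : S5, σ w = y * y := by
      refine ⟨e ⟨y * y, ?_⟩, by simp [σ]⟩
      rw [← pow_two]; exact Subgroup.sq_mem_of_index_two hidx y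
    obtain ⟨o1, o2, o3⟩ := outer_id
    have hyU2 : c U' = σ (A' * U' ^ 2 * A'⁻¹) := by
      conv_lhs => rw [hU']
      simp only [map_mul, map_inv, map_pow, cU, cA]
    have hyA2 : c A' = σ (A' * (A' * A' * A' * (U' * U' * A' * (U' * U')⁻¹ * A'⁻¹ * (U' * U') * A'⁻¹)) * A'⁻¹) := by
      conv_lhs => rw [hA', o3]
      simp only [map_mul, map_inv, cJ, cA]
    have hwgen : ∀ t t' : S5, c t = σ t' → c t' = σ t → Commute w t := fun t t' h1 h2 => by
      refine mul_inv_eq_iff_eq_mul.1 (hσ ?_)
      rw [map_mul, map_mul, map_inv, hw]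
      calc y * y * σ t * (y * y)⁻¹ = y * c t * y⁻¹ := by rw [hc]; group
        _ = c t' := by rw [h1, ← hc]
        _ = σ t := h2
    have hwU : Commute w gU := hwgen gU U' cU (by rw [hyU2, o1])
    have hwA : Commute w gA := hwgen gA A' cA (by rw [hyA2, o2])
    -- `y` has square `-1`
    have hy2 : j y * j y = -1 := by
      rcases central hwU hwA with h | h
      · exfalso
        have h' : j y * j y = 1 := by rw [← map_mul, ← hw, h, map_one, map_one]
        rcases mul_self_eq_one_iff.1 h' with h' | h'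
        · exact hyS (by rw [show y = 1 from hj (h'.trans (map_one j).symm)]; exact S.one_mem)
        · exact hyS (by rw [show y = σ (-1) from hj (h'.trans (map_neg_one ι hι).symm)]; exact hσS _)
      · rw [← map_mul, ← hw, h]; exact map_neg_one ι hι
    set τ := tau ι with hτ
    have hcy : ∀ t, j y * ι t = j (y * σ t * y⁻¹) * j y := fun t => by
      show j y * j (σ t) = _
      rw [← map_mul, ← map_mul, inv_mul_cancel_right]
    have hrel := tau_rel ι hι
    have hcA := (tau_commute ι hι).1
    have hyτ : j y * τ = (-1 - τ) * j y := by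
      let C : S5 →* H := (MulAut.conj y).toMonoidHom.comp σ
      have h1 : j y * ι gU = ι gA * (ι gU * ι gU) * ι gA⁻¹ * j y := by
        rw [hcy, hyU, hU', ← map_mul ι, ← map_mul ι, ← map_mul ι, pow_two]
        rfl
      have h2 : j y * ι gU⁻¹ = ι gA * (ι gU⁻¹ * ι gU⁻¹) * ι gA⁻¹ * j y := by
        rw [hcy, show y * σ gU⁻¹ * y⁻¹ = C gU⁻¹ from rfl, map_inv C, show C gU = σ U' from hyU, ← map_inv σ, hU',
          ← map_mul ι, ← map_mul ι, ← map_mul ι]
        show ι _ * j y = _
        congr 2
        group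
      have h3 : ι gU * ι gU + ι gU⁻¹ * ι gU⁻¹ = -1 - τ := by
        have hcd : ι gU * ι gU⁻¹ = 1 := by rw [← map_mul, mul_inv_cancel, map_one]
        have hdc : ι gU⁻¹ * ι gU = 1 := by rw [← map_mul, inv_mul_cancel, map_one]
        rw [← sub_eq_zero, ← hrel]
        rw [hτ, tau]
        noncomm_ring
        rw [hcd, hdc]
        abel
      have h4 : ι gA * (-1 - τ) * ι gA⁻¹ = -1 - τ := by
        rw [← (((Commute.one_left (ι gA)).neg_left).sub_left hcA).eq, mul_assoc, ← map_mul, mul_inv_cancel,
          map_one, mul_one]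
      calc j y * τ = j y * ι gU + j y * ι gU⁻¹ := mul_add _ _ _
        _ = ι gA * (ι gU * ι gU + ι gU⁻¹ * ι gU⁻¹) * ι gA⁻¹ * j y := by rw [h1, h2, mul_add, add_mul, add_mul]
        _ = (-1 - τ) * j y := by rw [h3, h4]
    set s := 2 * τ + 1 with hs
    have hys : j y * s = -(s * j y) := by
      rw [hs, two_mul, mul_add, mul_add, hyτ]
      noncomm_ring
    have hs2 : s * s = 5 := by
      have e : (2 * τ + 1) * (2 * τ + 1) =
          (τ * τ + τ - 1) + (τ * τ + τ - 1) + (τ * τ + τ - 1) + (τ * τ + τ - 1) + (1 + 1 + 1 + 1 + 1) := by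
        noncomm_ring
      rw [hs, e, hrel]; norm_num
    have hsq : (s + 2 * j y) * (s + 2 * j y) = 1 := by
      have e : (s + 2 * j y) * (s + 2 * j y) =
          s * s + (j y * s + s * j y) + (j y * s + s * j y) + (j y * j y + j y * j y + j y * j y + j y * j y) := by
        noncomm_ring
      rw [e, hys, hs2, hy2]; norm_num
    have hc : Commute (j y) s := by
      have h0 : Commute (2 * j y) s := by
        have hh : ∀ c : D, (c = 1 ∨ c = -1) → Commute (c - s) s := fun c hc => by
          refine Commute.sub_left ?_ (Commute.refl s)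
          rcases hc with rfl | rfl
          · exact Commute.one_left s
          · exact (Commute.one_left s).neg_left
        rcases mul_self_eq_one_iff.1 hsq with h | h
        · rw [eq_sub_of_add_eq' h]; exact hh 1 (Or.inl rfl)
        · rw [eq_sub_of_add_eq' h]; exact hh (-1) (Or.inr rfl)
      have h2 : (2 : D) ≠ 0 := two_ne_zero
      refine mul_left_cancel₀ h2 ?_
      rw [← mul_assoc, h0.eq, ← mul_assoc, ← mul_assoc, (Commute.ofNat_left 2 s).eq]
    rw [hc.eq] at hys
    have h0 : s * j y = 0 := add_self_eq_zero.1 (eq_neg_iff_add_eq_zero.1 hys)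
    rcases mul_eq_zero.1 h0 with h | h
    · rw [h, mul_zero] at hs2; norm_num at hs2
    · rw [h, mul_zero] at hy2; simp at hy2

end Cfsg.Agent.S4294
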