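import Cfsg.Statements.S4295
import Cfsg.Agent.Lib.FrobRealize.Basic
import Cfsg.Agent.Lib.FrobRealize.EvenSquare

set_option autoImplicit false
open Cfsg

namespace Cfsg.Agent.S4295

open scoped Pointwise

/-- The homomorphism from the quaternion group of order eight given by a pair of elements. -/
def quatHom {M : Type*} [Group M] (x y : M) (hx : x ^ 4 = 1) (hy : y * y = x * x)
    (hxy : y * x * y⁻¹ = x⁻¹) : QuaternionGroup 2 →* M where
  toFun q := match q with
    | .a i => x ^ i.val
    | .xa i => y * x ^ i.val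
  map_one' := by show x ^ (0 : ZMod (2 * 2)).val = 1; simp
  map_mul' := by
    have he : ∀ i j : ZMod (2 * 2), x ^ (i + j).val = x ^ i.val * x ^ j.val := fun i j => by
      rw [← pow_add, ZMod.val_add]
      conv_rhs => rw [← Nat.mod_add_div (i.val + j.val) (2 * 2), pow_add, pow_mul, show x ^ (2 * 2) = 1 from hx,
        one_pow, mul_one]
    have hneg : ∀ i : ZMod (2 * 2), x ^ (-i).val = (x ^ i.val)⁻¹ := fun i => by
      refine eq_inv_of_mul_eq_one_left ?_
      rw [← he, neg_add_cancel]
      simp
    have hc : ∀ k : ℕ, x ^ k * y = y * (x ^ k)⁻¹ := fun k => by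
      have h : y * (x ^ k)⁻¹ * y⁻¹ = x ^ k := by
        calc y * (x ^ k)⁻¹ * y⁻¹ = ((y * x * y⁻¹) ^ k)⁻¹ := by rw [conj_pow]; group
          _ = x ^ k := by rw [hxy, inv_pow, inv_inv]
      exact (mul_inv_eq_iff_eq_mul.1 h).symm
    rintro (i | i) (j | j)
    · exact he i j
    · show y * x ^ (j - i).val = x ^ i.val * (y * x ^ j.val)
      rw [← mul_assoc, hc, mul_assoc, sub_eq_add_neg, add_comm, he, hneg]
    · show y * x ^ (i + j).val = y * x ^ i.val * x ^ j.val
      rw [he, mul_assoc]
    · show x ^ (((2 : ℕ) : ZMod (2 * 2)) + j - i).val = y * x ^ i.val * (y * x ^ j.val)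
      have h1 : y * x ^ i.val * (y * x ^ j.val) = y * y * ((x ^ i.val)⁻¹ * x ^ j.val) := by
        rw [mul_assoc, ← mul_assoc (x ^ i.val), hc, mul_assoc, ← mul_assoc y y]
      rw [h1, hy, show ((2 : ℕ) : ZMod (2 * 2)) + j - i = 2 + (-i + j) by push_cast; ring,
        he, he, hneg, show (2 : ZMod (2 * 2)).val = 2 from rfl, pow_two]

variable {R : Type} [CommRing R]

/-- `(x, y) ↦ (y, -x)`. -/
def addI : (R × R) ≃+ (R × R) where
  toFun v := (v.2, -v.1)
  invFun v := (-v.2, v.1)
  left_inv v := by simp
  right_inv v := by simp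
  map_add' v w := by simp [add_comm]

/-- `(x, y) ↦ (a x + b y, b x - a y)`. -/
def addJ (a b : R) (h : a * a + b * b = -1) : (R × R) ≃+ (R × R) where
  toFun v := (a * v.1 + b * v.2, b * v.1 - a * v.2)
  invFun v := (-(a * v.1 + b * v.2), -(b * v.1 - a * v.2))
  left_inv v := by
    refine Prod.ext ?_ ?_
    · linear_combination (-v.1) * h
    · linear_combination (-v.2) * h
  right_inv v := by
    refine Prod.ext ?_ ?_
    · linear_combination (-v.1) * h
    · linear_combination (-v.2) * h
  map_add' v w := by
    refine Prod.ext ?_ ?_ <;> simp <;> ring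

/-- `actI` on the multiplicative copy. -/
def actI : MulAut (Multiplicative (R × R)) := AddEquiv.toMultiplicative addI

/-- `actJ` on the multiplicative copy. -/
def actJ (a b : R) (h : a * a + b * b = -1) : MulAut (Multiplicative (R × R)) :=
  AddEquiv.toMultiplicative (addJ a b h)

theorem actI_apply (v : Multiplicative (R × R)) :
    actI v = Multiplicative.ofAdd (v.toAdd.2, -v.toAdd.1) := rfl

theorem actJ_apply (a b : R) (h : a * a + b * b = -1) (v : Multiplicative (R × R)) :
    actJ a b h v =
      Multiplicative.ofAdd (a * v.toAdd.1 + b * v.toAdd.2, b * v.toAdd.1 - a * v.toAdd.2) := rfl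

theorem exists_realisation [Finite R] [Nontrivial R] (a b : R) (h : a * a + b * b = -1)
    (h2 : ∀ x : R, x + x = 0 → x = 0) :
    ∃ (L : Type) (_ : Group L) (_ : Finite L) (H : Subgroup L), Cfsg.IsFrobeniusComplement H ∧
        Nonempty (H ≃* QuaternionGroup 2) ∧
        Nat.card (Cfsg.frobeniusKernel H) = Nat.card R * Nat.card R := by
  have hI2 : ∀ v, (actI * actI : MulAut (Multiplicative (R × R))) v = v⁻¹ := fun v => by
    apply Multiplicative.toAdd.injective
    refine Prod.ext ?_ ?_ <;> simp [MulAut.mul_apply, actI_apply]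
  have hJ2 : ∀ v, (actJ a b h * actJ a b h : MulAut (Multiplicative (R × R))) v = v⁻¹ := fun v => by
    apply Multiplicative.toAdd.injective
    refine Prod.ext ?_ ?_ <;> simp [MulAut.mul_apply, actJ_apply]
    · linear_combination v.toAdd.1 * h
    · linear_combination v.toAdd.2 * h
  have hI4 : (actI : MulAut (Multiplicative (R × R))) ^ 4 = 1 := by
    refine MulEquiv.ext fun v => ?_
    rw [show (4 : ℕ) = 2 + 2 from rfl, pow_add, pow_two, MulAut.mul_apply, hI2, hI2, inv_inv]
    rfl
  have hJI : actJ a b h * actI * (actJ a b h)⁻¹ = (actI : MulAut (Multiplicative (R × R)))⁻¹ := by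
    rw [mul_inv_eq_iff_eq_mul, eq_inv_mul_iff_mul_eq]
    refine MulEquiv.ext fun v => ?_
    apply Multiplicative.toAdd.injective
    refine Prod.ext ?_ ?_ <;> simp [MulAut.mul_apply, actI_apply, actJ_apply] <;> ring
  let φ : QuaternionGroup 2 →* MulAut (Multiplicative (R × R)) := quatHom actI (actJ a b h) hI4
    (MulEquiv.ext fun v => by rw [hJ2, hI2]) hJI
  have hz : ∀ q : QuaternionGroup 2, q ≠ 1 → ∃ k : ℕ, q ^ k = QuaternionGroup.a 2 := by
    intro q hq
    have h8 : ∀ q : QuaternionGroup 2, q ≠ 1 →
        q ^ 1 = QuaternionGroup.a 2 ∨ q ^ 2 = QuaternionGroup.a 2 := by decide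
    rcases h8 q hq with h' | h' <;> exact ⟨_, h'⟩
  have hψz : ∀ v, φ (QuaternionGroup.a 2) v = v⁻¹ := fun v => by
    show ((actI : MulAut (Multiplicative (R × R))) ^ (2 : ZMod (2 * 2)).val) v = v⁻¹
    rw [show (2 : ZMod (2 * 2)).val = 2 from rfl, pow_two, hI2]
  have hfpf : ∀ q : QuaternionGroup 2, q ≠ 1 → ∀ v, φ q v = v → v = 1 := by
    intro q hq v hv
    obtain ⟨k, hk⟩ := hz q hq
    have hpow : ∀ n : ℕ, φ (q ^ n) v = v := by
      intro n
      induction n with
      | zero => rw [pow_zero, map_one]; rfl
      | succ n ih => rw [pow_succ, map_mul, MulAut.mul_apply, hv, ih]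
    have h1 := hpow k
    rw [hk] at h1
    rw [hψz] at h1
    have h3 : -v.toAdd = v.toAdd := congrArg Multiplicative.toAdd h1
    have h4 : v.toAdd = 0 := by
      refine Prod.ext (h2 _ ?_) (h2 _ ?_)
      · have := congrArg Prod.fst h3
        rw [Prod.fst_neg] at this
        linear_combination -this
      · have := congrArg Prod.snd h3
        rw [Prod.snd_neg] at this
        linear_combination -this
    exact toAdd_eq_zero.1 h4
  have : Finite (Multiplicative (R × R) ⋊[φ] QuaternionGroup 2) :=
    Finite.of_equiv _ SemidirectProduct.equivProd.symm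
  have hF := CfsgLib.FrobRealize.isFrobeniusComplement_inr φ hfpf
  refine ⟨_, inferInstance, this, _, hF,
    ⟨(MonoidHom.ofInjective SemidirectProduct.inr_injective).symm⟩, ?_⟩
  rw [CfsgLib.FrobRealize.Kernel.card_frobeniusKernel hF]
  have h1 := Subgroup.card_mul_index
    (SemidirectProduct.inr : QuaternionGroup 2 →* Multiplicative (R × R) ⋊[φ] QuaternionGroup 2).range
  rw [← Nat.card_congr (MonoidHom.ofInjective (SemidirectProduct.inr_injective (φ := φ))).toEquiv,
    SemidirectProduct.card, mul_comm (Nat.card (Multiplicative (R × R)))] at h1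
  rw [Nat.eq_of_mul_eq_mul_left Nat.card_pos h1]
  exact (Nat.card_congr Multiplicative.toAdd).trans (Nat.card_prod R R)


/-- For a natural number m the following are equivalent: (a) some finite group has a Frobenius complement isomorphic to the quaternion group of order 8 whose Frobenius kernel (the identity together with the elements lying in no conjugate of the complement) has exactly m elements; (b) m is an odd perfect square greater than 1. -/
theorem result (m : ℕ) :
    (∃ (L : Type) (_ : Group L) (_ : Finite L) (H : Subgroup L), Cfsg.IsFrobeniusComplement H ∧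
        Nonempty (H ≃* QuaternionGroup 2) ∧ Nat.card (Cfsg.frobeniusKernel H) = m) ↔
    (Odd m ∧ IsSquare m ∧ 1 < m) := by
  constructor
  · rintro ⟨L, iL, iF, H, hH, ⟨e⟩, hm⟩
    have := iF
    set f : QuaternionGroup 2 →* L := H.subtype.comp e.symm.toMonoidHom with hf
    have hinj : Function.Injective f := H.subtype_injective.comp e.symm.injective
    have hij : f (QuaternionGroup.a 1) * f (QuaternionGroup.xa 0) =
        f (QuaternionGroup.a 2) * (f (QuaternionGroup.xa 0) * f (QuaternionGroup.a 1)) := by
      rw [← map_mul, ← map_mul, ← map_mul]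
      exact congrArg f (by decide)
    have hz1 : f (QuaternionGroup.a 2) ≠ 1 := fun h =>
      absurd (hinj (h.trans (map_one f).symm)) (by decide)
    have hz2 : f (QuaternionGroup.a 2) * f (QuaternionGroup.a 2) = 1 := by
      rw [← map_mul, ← map_one f]
      exact congrArg f (by decide)
    obtain ⟨h1, h2⟩ := CfsgLib.FrobRealize.EvenSquare.odd_and_square hH
      (e.symm (QuaternionGroup.a 2)).2 hz1 hz2 hij
    rw [hm] at h1 h2
    refine ⟨h1, h2, ?_⟩
    rw [← hm, CfsgLib.FrobRealize.Kernel.card_frobeniusKernel hH]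
    exact Subgroup.one_lt_index_of_ne_top hH.2.1
  · rintro ⟨hodd, ⟨n, rfl⟩, h1⟩
    have hn : Odd n := (Nat.odd_mul.1 hodd).1
    have hn1 : 1 < n := by
      by_contra hc
      interval_cases n <;> omega
    let l := n.primeFactorsList
    have hp : ∀ i : Fin l.length, (l.get i).Prime := fun i =>
      Nat.prime_of_mem_primeFactorsList (List.get_mem l i)
    have hodd' : ∀ i : Fin l.length, l.get i ≠ 2 := fun i h => by
      have hd : l.get i ∣ n := Nat.dvd_of_mem_primeFactorsList (List.get_mem l i)
      rw [h] at hd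
      exact absurd (even_iff_two_dvd.2 hd) (Nat.not_even_iff_odd.2 hn)
    have : ∀ i : Fin l.length, Fact (l.get i).Prime := fun i => ⟨hp i⟩
    have : ∀ i : Fin l.length, NeZero (l.get i) := fun i => ⟨(hp i).ne_zero⟩
    have hcard : Nat.card ((i : Fin l.length) → ZMod (l.get i)) = n := by
      rw [Nat.card_pi]
      simp only [Nat.card_zmod]
      simp only [List.get_eq_getElem]
      rw [Fin.prod_univ_getElem]
      exact Nat.prod_primeFactorsList (by omega)
    have : Nontrivial ((i : Fin l.length) → ZMod (l.get i)) :=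
      Finite.one_lt_card_iff_nontrivial.1 (by rw [hcard]; exact hn1)
    choose a b hab using fun i : Fin l.length => ZMod.sq_add_sq (l.get i) (-1)
    obtain ⟨L, iL, iF, H, hH, e, hk⟩ := exists_realisation a b
      (funext fun i => by simpa [sq] using hab i) (fun x hx => funext fun i => by
        have h := congrFun hx i
        rw [Pi.add_apply, Pi.zero_apply, ← two_mul, mul_eq_zero] at h
        refine h.resolve_left fun h2 => hodd' i ?_
        rw [show (2 : ZMod (l.get i)) = ((2 : ℕ) : ZMod (l.get i)) by norm_num,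
          ZMod.natCast_eq_zero_iff] at h2
        exact (Nat.prime_dvd_prime_iff_eq (hp i) Nat.prime_two).1 h2)
    rw [hcard] at hk
    exact ⟨L, iL, iF, H, hH, e, hk⟩
end Cfsg.Agent.S4295
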