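import Cfsg.Statements.S4296
import Cfsg.Agent.Lib.FrobRealize.FixedPointFree
import Cfsg.Agent.Lib.FrobRealize.EvenSquare

set_option autoImplicit false
open Cfsg

namespace Cfsg.Agent.S4296

/-- Let H be a Frobenius complement in a finite group, and suppose some Sylow subgroup of H is not cyclic. Then the number of elements of the Frobenius kernel (the identity together with the elements lying in no conjugate of H) is an odd perfect square. -/
theorem result {L : Type*} [Group L] [Finite L] (H : Subgroup L) (hF : Cfsg.IsFrobeniusComplement H)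
    (hZ : ∃ (p : ℕ) (_ : Fact p.Prime) (P : Sylow p H), ¬ IsCyclic P) :
    Odd (Nat.card (Cfsg.frobeniusKernel H)) ∧ IsSquare (Nat.card (Cfsg.frobeniusKernel H)) := by
  obtain ⟨p, hp, P, hP⟩ := hZ
  obtain ⟨N, -, hN1, hHN, hfpf, -, -⟩ := CfsgLib.FrobRealize.FPF.exists_fpf_kernel hF
  let P' : Subgroup L := (P : Subgroup H).map H.subtype
  have hle : P' ≤ H := Subgroup.map_subtype_le _
  let e : (P : Subgroup H) ≃* P' := Subgroup.equivMapOfInjective _ H.subtype H.subtype_injective
  have hP' : IsPGroup p P' := P.isPGroup'.of_equiv e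
  have hfew := CfsgLib.FrobRealize.FPF.card_roots_le hN1 (hle.trans hHN)
    (fun a ha => hfpf a (hle ha)) hP'
  have hncyc : ¬ IsCyclic P' := fun h => hP (isCyclic_of_surjective e.symm e.symm.surjective)
  have hnc : ¬ ∀ a b : P', a * b = b * a := fun h => hncyc
    (CfsgLib.FrobRealize.EvenSquare.isCyclic_of_few_roots _ P' rfl hP' (Or.inr h) hfew)
  obtain rfl : p = 2 := by
    rcases hp.out.eq_two_or_odd' with h | h
    · exact h
    · exact absurd (CfsgLib.FrobRealize.EvenSquare.isCyclic_of_few_roots _ P' rfl hP' (Or.inl h)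
        hfew) hncyc
  obtain ⟨a, b, hab⟩ := CfsgLib.FrobRealize.EvenSquare.exists_commutator_order_p hP' hnc
  have h2 := pow_orderOf_eq_one (a * b * a⁻¹ * b⁻¹)
  rw [hab, pow_two] at h2
  refine CfsgLib.FrobRealize.EvenSquare.odd_and_square hF (i := (a : L)) (j := (b : L))
    (z := ((a * b * a⁻¹ * b⁻¹ : P') : L)) (hle (a * b * a⁻¹ * b⁻¹ : P').2) ?_
    (congrArg Subtype.val h2) ?_
  · intro h
    rw [show a * b * a⁻¹ * b⁻¹ = 1 from Subtype.ext h, orderOf_one] at hab
    omega
  · simp only [Subgroup.coe_mul, Subgroup.coe_inv]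
    group
end Cfsg.Agent.S4296
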