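import Cfsg.Statements.S4297
import Cfsg.Agent.Lib.FrobRealize.Basic
import Mathlib.GroupTheory.SpecificGroups.Quaternion

set_option autoImplicit false
open Cfsg

namespace Cfsg.Agent.S4297


theorem exists_hom (n : ℕ) [NeZero n] {F : Type*} [Field F] {ζ : F} (hζ : IsPrimitiveRoot ζ (2 * n)) :
    ∃ f : QuaternionGroup n →* Matrix.SpecialLinearGroup (Fin 2) F, Function.Injective f := by
  have hn := NeZero.ne n
  let z : ZMod (2 * n) → F := fun i => ζ ^ i.val
  have z0 : z 0 = 1 := by simp [z]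
  have zadd : ∀ i j, z (i + j) = z i * z j := fun i j => by
    simp only [z]
    rw [← pow_add, ZMod.val_add, ← pow_eq_pow_mod _ hζ.pow_eq_one]
  have zinj : Function.Injective z := fun i j h =>
    ZMod.val_injective _ (hζ.pow_inj (ZMod.val_lt i) (ZMod.val_lt j) h)
  have zneg : ∀ i, z i * z (-i) = 1 := fun i => by rw [← zadd, add_neg_cancel, z0]
  have hval : (n : ZMod (2 * n)).val = n := ZMod.val_natCast_of_lt (by omega)
  have zn : z n = -1 := by
    have h2 : z n * z n = 1 := by
      simp only [z, hval, ← pow_add, ← two_mul, hζ.pow_eq_one]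
    refine (mul_self_eq_one_iff.1 h2).resolve_left fun h1 => ?_
    simp only [z, hval] at h1
    exact hζ.pow_ne_one_of_pos_of_lt hn (by omega) h1
  have znn : -(n : ZMod (2 * n)) = n := by
    rw [neg_eq_iff_add_eq_zero, ← Nat.cast_add, ← two_mul, ZMod.natCast_self]
  let mat : QuaternionGroup n → Matrix.SpecialLinearGroup (Fin 2) F := fun g => match g with
    | QuaternionGroup.a i => ⟨!![z i, 0; 0, z (-i)], by simp [Matrix.det_fin_two, zneg i]⟩
    | QuaternionGroup.xa i => ⟨!![0, z (-i); -z i, 0],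
        by simp [Matrix.det_fin_two, mul_comm (z (-i)), zneg i]⟩
  refine ⟨MonoidHom.mk' mat fun g h => ?_, fun g h e => ?_⟩
  · rcases g with i | i <;> rcases h with j | j
    all_goals refine Subtype.ext ?_
    · show !![z (i + j), 0; 0, z (-(i + j))] = !![z i, 0; 0, z (-i)] * !![z j, 0; 0, z (-j)]
      rw [Matrix.mul_fin_two, neg_add, zadd, zadd]; simp
    · show !![0, z (-(j - i)); -z (j - i), 0] = !![z i, 0; 0, z (-i)] * !![0, z (-j); -z j, 0]
      rw [Matrix.mul_fin_two, sub_eq_add_neg, neg_add, neg_neg, zadd, zadd]; simp [mul_comm]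
    · show !![0, z (-(i + j)); -z (i + j), 0] = !![0, z (-i); -z i, 0] * !![z j, 0; 0, z (-j)]
      rw [Matrix.mul_fin_two, neg_add, zadd, zadd]; simp
    · show !![z ((n : ZMod (2 * n)) + j - i), 0; 0, z (-((n : ZMod (2 * n)) + j - i))] =
        !![0, z (-i); -z i, 0] * !![0, z (-j); -z j, 0]
      rw [Matrix.mul_fin_two, sub_eq_add_neg, neg_add, neg_add, neg_neg, znn, zadd, zadd, zadd, zadd,
        zn]
      simp [mul_comm]
  · have hne : ∀ i, z i ≠ 0 := fun i => pow_ne_zero _ (hζ.ne_zero (by omega))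
    have e' := congrArg (fun M : Matrix.SpecialLinearGroup (Fin 2) F => (M.1 0 0, M.1 1 0)) e
    rcases g with i | i <;> rcases h with j | j <;> simp [mat] at e'
    · rw [zinj e']
    · exact absurd e'.1 (hne i)
    · exact absurd e'.1.symm (hne j)
    · rw [zinj e']


/-- For every n ≥ 2 the dicyclic group of order 4n (generated by an element a of order 2n and an element x with x² = aⁿ and x a x⁻¹ = a⁻¹) occurs as a Frobenius complement of some finite Frobenius group. -/
theorem result (n : ℕ) (hn : 2 ≤ n) :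
    ∃ (L : Type) (_ : Group L) (_ : Finite L) (H : Subgroup L), Cfsg.IsFrobeniusComplement H ∧ Nonempty (H ≃* QuaternionGroup n) := by
  obtain ⟨p, hp, hgt, hmod⟩ := Nat.exists_prime_gt_modEq_one (k := 2 * n) (4 * n) (by omega)
  have := Fact.mk hp
  have : NeZero n := ⟨by omega⟩
  have hdvd : 2 * n ∣ p - 1 := (Nat.modEq_iff_dvd' hp.one_lt.le).1 hmod.symm
  have hcardU : Nat.card (ZMod p)ˣ = p - 1 := by
    rw [Nat.card_eq_fintype_card, ZMod.card_units]
  obtain ⟨u, hu⟩ := IsCyclic.exists_ofOrder_eq_natCard (α := (ZMod p)ˣ)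
  rw [hcardU] at hu
  obtain ⟨c, hc⟩ := hdvd
  obtain ⟨v, hv⟩ : ∃ v : (ZMod p)ˣ, orderOf v = 2 * n :=
    ⟨u ^ c, by
      have hc0 : c ≠ 0 := by
        rintro rfl
        rw [mul_zero] at hc
        omega
      rw [orderOf_pow' _ hc0, hu, hc, Nat.gcd_eq_right ⟨2 * n, mul_comm _ _⟩,
        Nat.mul_div_cancel _ (Nat.pos_of_ne_zero hc0)]⟩
  have hprim : IsPrimitiveRoot (v : ZMod p) (2 * n) := by
    rw [IsPrimitiveRoot.coe_units_iff, ← hv]
    exact IsPrimitiveRoot.orderOf v
  obtain ⟨f, hf⟩ := exists_hom n hprim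
  have : Nontrivial (QuaternionGroup n) :=
    ⟨QuaternionGroup.xa 0, 1, by rw [QuaternionGroup.one_def]; exact fun h => nomatch h⟩
  obtain ⟨L, i1, i2, H, h1, ⟨e⟩⟩ := CfsgLib.FrobRealize.exists_frobenius_of_hom f hf
    (fun h => by
      rw [Nat.card_eq_fintype_card, QuaternionGroup.card] at h
      exact absurd (Nat.le_of_dvd (by omega) h) (by omega))
  exact ⟨L, i1, i2, H, h1, ⟨e.symm⟩⟩

end Cfsg.Agent.S4297
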