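import Cfsg.Statements.S4298
import Cfsg.Agent.Lib.FrobRealize.Basic

set_option autoImplicit false
open Cfsg

namespace Cfsg.Agent.S4298


/-- Images of the 2 by 2 matrices over `ZMod 3` (only those of determinant 1 matter). -/
def embTable : List (Fin 5 × Fin 5 × Fin 5 × Fin 5) :=
  [(1,0,0,1), (1,0,0,1), (1,0,0,1), (1,0,0,1), (1,0,0,1), (1,0,0,1), (1,0,0,1), (1,0,0,1), (1,0,0,1), (1,0,0,1), (1,0,0,1), (1,0,0,1), (1,0,0,1), (1,0,0,1), (1,0,0,1), (3,0,1,2), (2,2,1,4), (0,3,3,4), (1,0,0,1), (1,0,0,1), (1,0,0,1), (2,0,4,3), (0,2,2,1), (3,3,4,1), (1,0,0,1), (1,0,0,1), (1,0,0,1), (1,0,0,1), (1,0,0,1), (1,0,0,1), (1,0,0,1), (2,1,3,2), (1,0,0,1), (1,0,0,1), (2,4,2,2), (1,0,0,1), (1,0,0,1), (0,1,4,4), (1,0,0,1), (1,0,0,1), (1,0,0,1), (4,1,3,1), (1,3,3,0), (1,0,0,1), (1,0,0,1), (1,0,0,1), (4,4,1,0), (1,0,0,1), (4,3,4,2), (1,0,0,1), (1,0,0,1), (1,0,0,1), (1,0,0,1), (2,3,0,3), (1,0,0,1), (1,0,0,1), (4,0,0,4),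 (1,0,0,1), (1,0,0,1), (3,1,3,3), (1,0,0,1), (1,0,0,1), (3,4,2,3), (1,0,0,1), (1,0,0,1), (1,1,4,0), (1,0,0,1), (3,2,0,2), (1,0,0,1), (1,2,1,3), (1,0,0,1), (1,0,0,1), (1,0,0,1), (1,0,0,1), (0,4,1,1), (4,2,2,0), (1,0,0,1), (1,0,0,1), (1,0,0,1), (1,4,2,4), (1,0,0,1)]

/-- The embedding of `SL(2,3)` in `SL(2,5)`, on entries. -/
def emb (a b c d : ZMod 3) : Matrix (Fin 2) (Fin 2) (ZMod 5) :=
  let r := embTable.getD (27 * a.val + 9 * b.val + 3 * c.val + d.val) (1, 0, 0, 1)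
  Matrix.of fun i j => if i = 0 then (if j = 0 then r.1 else r.2.1)
    else (if j = 0 then r.2.2.1 else r.2.2.2)

theorem emb_det : ∀ a b c d : ZMod 3, (emb a b c d).det = 1 := by
  simp only [Matrix.det_fin_two]
  decide +kernel

theorem emb_mul : ∀ a b c d : ZMod 3, a * d - b * c = 1 → ∀ e f g h : ZMod 3, e * h - f * g = 1 →
    emb (a * e + b * g) (a * f + b * h) (c * e + d * g) (c * f + d * h) =
      emb a b c d * emb e f g h := by
  decide +kernel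

theorem emb_one : ∀ a b c d : ZMod 3, a * d - b * c = 1 → emb a b c d = 1 →
    a = 1 ∧ b = 0 ∧ c = 0 ∧ d = 1 := by
  decide +kernel


/-- The group SL(2,3) of order 24 (the binary tetrahedral group) occurs as a Frobenius complement of some finite Frobenius group. -/
theorem result :
    ∃ (L : Type) (_ : Group L) (_ : Finite L) (H : Subgroup L), Cfsg.IsFrobeniusComplement H ∧ Nonempty (H ≃* Matrix.SpecialLinearGroup (Fin 2) (ZMod 3)) := by
  have : Fact (Nat.Prime 5) := ⟨by norm_num⟩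
  let f : Matrix.SpecialLinearGroup (Fin 2) (ZMod 3) →* Matrix.SpecialLinearGroup (Fin 2) (ZMod 5) :=
    MonoidHom.mk' (fun A => ⟨emb (A.1 0 0) (A.1 0 1) (A.1 1 0) (A.1 1 1),
      emb_det _ _ _ _⟩) fun A B => by
      have hA := A.prop
      have hB := B.prop
      rw [Matrix.det_fin_two] at hA hB
      have key := emb_mul _ _ _ _ hA _ _ _ _ hB
      refine Subtype.ext ?_
      show emb _ _ _ _ = emb _ _ _ _ * emb _ _ _ _
      rw [← key]
      simp [Matrix.mul_apply, Fin.sum_univ_two]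
  have hf : Function.Injective f := by
    rw [injective_iff_map_eq_one]
    intro A hA
    have hA' := A.prop
    rw [Matrix.det_fin_two] at hA'
    obtain ⟨h1, h2, h3, h4⟩ := emb_one _ _ _ _ hA' (congrArg Subtype.val hA)
    ext i j
    fin_cases i <;> fin_cases j <;> simp [h1, h2, h3, h4]
  have : Nontrivial (Matrix.SpecialLinearGroup (Fin 2) (ZMod 3)) :=
    ⟨⟨!![1, 1; 0, 1], by simp [Matrix.det_fin_two]⟩, 1, fun h => by
      have h' := congrArg (fun M : Matrix.SpecialLinearGroup (Fin 2) (ZMod 3) => M.1 0 1) h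
      simp at h'⟩
  have hnd : ¬ 5 ∣ Nat.card (Matrix.SpecialLinearGroup (Fin 2) (ZMod 3)) := by
    intro h
    have h1 : Nat.card (Matrix.SpecialLinearGroup (Fin 2) (ZMod 3)) = 24 := by
      rw [Nat.card_eq_fintype_card]
      decide +kernel
    omega
  obtain ⟨L, i1, i2, H, h1, ⟨e⟩⟩ := CfsgLib.FrobRealize.exists_frobenius_of_hom f hf hnd
  exact ⟨L, i1, i2, H, h1, ⟨e.symm⟩⟩

end Cfsg.Agent.S4298
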