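import Cfsg.Statements.S4299
import Cfsg.Agent.Lib.FrobRealize.Basic

set_option autoImplicit false
open Cfsg

namespace Cfsg.Agent.S4299

/-- Every nontrivial finite cyclic group occurs as a Frobenius complement of some finite Frobenius group. -/
theorem result {C : Type*} [Group C] [Finite C] [IsCyclic C] [Nontrivial C] :
    ∃ (L : Type) (_ : Group L) (_ : Finite L) (H : Subgroup L), Cfsg.IsFrobeniusComplement H ∧ Nonempty (C ≃* H) := by
  obtain ⟨p, hp, -, hmod⟩ := Nat.exists_prime_gt_modEq_one (k := Nat.card C) 0 Nat.card_pos.ne'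
  have := Fact.mk hp
  have hdvd : Nat.card C ∣ p - 1 := (Nat.modEq_iff_dvd' hp.one_lt.le).1 hmod.symm
  have hcardU : Nat.card (ZMod p)ˣ = p - 1 := by
    rw [Nat.card_eq_fintype_card, ZMod.card_units]
  obtain ⟨u, hu⟩ := IsCyclic.exists_ofOrder_eq_natCard (α := (ZMod p)ˣ)
  rw [hcardU] at hu
  obtain ⟨c, hc⟩ := hdvd
  obtain ⟨v, hv⟩ : ∃ v : (ZMod p)ˣ, orderOf v = Nat.card C :=
    ⟨u ^ c, by
      have hc0 : c ≠ 0 := by
        rintro rfl
        rw [mul_zero] at hc
        have := hp.two_le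
        omega
      rw [orderOf_pow' _ hc0, hu, hc, Nat.gcd_eq_right ⟨Nat.card C, mul_comm _ _⟩,
        Nat.mul_div_cancel _ (Nat.pos_of_ne_zero hc0)]⟩
  let d : (ZMod p)ˣ →* Matrix.SpecialLinearGroup (Fin 2) (ZMod p) :=
    { toFun := fun w => ⟨!![(w : ZMod p), 0; 0, ((w⁻¹ : (ZMod p)ˣ) : ZMod p)],
        by rw [Matrix.det_fin_two_of, mul_zero, sub_zero, ← Units.val_mul, mul_inv_cancel, Units.val_one]⟩
      map_one' := by
        refine Subtype.ext ?_
        show !![((1 : (ZMod p)ˣ) : ZMod p), 0; 0, (((1 : (ZMod p)ˣ)⁻¹ : (ZMod p)ˣ) : ZMod p)] = 1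
        rw [inv_one, Units.val_one, Matrix.one_fin_two]
      map_mul' := fun a b => by
        refine Subtype.ext ?_
        show !![((a * b : (ZMod p)ˣ) : ZMod p), 0; 0, (((a * b)⁻¹ : (ZMod p)ˣ) : ZMod p)] =
          !![(a : ZMod p), 0; 0, ((a⁻¹ : (ZMod p)ˣ) : ZMod p)] *
            !![(b : ZMod p), 0; 0, ((b⁻¹ : (ZMod p)ˣ) : ZMod p)]
        rw [Matrix.mul_fin_two, mul_inv, Units.val_mul, Units.val_mul]
        simp only [mul_zero, zero_mul, add_zero, zero_add] }
  have hd : Function.Injective d := fun a b h => by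
    have h' := congrArg (fun M : Matrix.SpecialLinearGroup (Fin 2) (ZMod p) => M.1 0 0) h
    exact Units.ext h'
  let e : C ≃* Subgroup.zpowers v := mulEquivOfCyclicCardEq (by rw [Nat.card_zpowers, hv])
  have hnd : ¬ p ∣ Nat.card C := fun h => by
    have h1 := Nat.le_of_dvd Nat.card_pos h
    have h2 := Nat.le_of_dvd (by have := hp.two_le; omega) (Dvd.intro c hc.symm)
    have := hp.two_le
    omega
  exact CfsgLib.FrobRealize.exists_frobenius_of_hom
    ((d.comp (Subgroup.zpowers v).subtype).comp e.toMonoidHom)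
    ((hd.comp Subtype.val_injective).comp e.injective) hnd

end Cfsg.Agent.S4299
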