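import Cfsg.Statements.S4300


set_option autoImplicit false
open Cfsg

namespace Cfsg.Agent.S4300

/-- Let G act faithfully and primitively on a set X, and suppose the stabilizer of some point is a simple group. Then either G is simple, or G has a normal subgroup, neither trivial nor the whole group, that acts regularly on X (transitively with trivial point stabilizers). -/
theorem result {G : Type*} [Group G] {X : Type*} [MulAction G X] [FaithfulSMul G X]
    (hprim : MulAction.IsPreprimitive G X) (x : X) (hsimple : IsSimpleGroup (MulAction.stabilizer G x)) :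
    IsSimpleGroup G ∨ ∃ N : Subgroup G, N.Normal ∧ N ≠ ⊥ ∧ N ≠ ⊤ ∧
      MulAction.IsPretransitive N X ∧ ∀ y : X, MulAction.stabilizer N y = ⊥ := by
  by_cases hG : ∀ N : Subgroup G, N.Normal → N = ⊥ ∨ N = ⊤
  · left
    have : Nontrivial G := by
      have := hsimple.toNontrivial
      obtain ⟨a, b, hab⟩ := exists_pair_ne (MulAction.stabilizer G x)
      exact ⟨a, b, fun h => hab (Subtype.ext h)⟩
    exact ⟨fun N hN => hG N hN⟩
  · right
    simp only [not_forall, not_or] at hG
    obtain ⟨N, hN, hb, ht⟩ := hG
    have hfix : MulAction.fixedPoints N X ≠ Set.univ := by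
      intro h
      apply hb
      rw [eq_bot_iff]
      intro n hn
      rw [Subgroup.mem_bot]
      refine FaithfulSMul.eq_of_smul_eq_smul (α := X) fun y => ?_
      rw [one_smul]
      exact (h.symm ▸ Set.mem_univ y : y ∈ MulAction.fixedPoints N X) ⟨n, hn⟩
    have htr : MulAction.IsPretransitive N X := by
      have := hprim
      exact MulAction.IsQuasiPreprimitive.isPretransitive_of_normal hfix
    rcases hsimple.eq_bot_or_eq_top_of_normal (N.subgroupOf (MulAction.stabilizer G x))
      inferInstance with h | h
    · refine ⟨N, hN, hb, ht, htr, fun y => ?_⟩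
      obtain ⟨m, rfl⟩ := htr.exists_smul_eq x y
      rw [eq_bot_iff]
      intro n hn
      rw [Subgroup.mem_bot]
      have h1 : m⁻¹ * n * m ∈ MulAction.stabilizer N x := by
        rw [MulAction.mem_stabilizer_iff, mul_smul, mul_smul, MulAction.mem_stabilizer_iff.1 hn,
          inv_smul_smul]
      have h2 : ((m⁻¹ * n * m : N) : G) ∈ MulAction.stabilizer G x :=
        MulAction.mem_stabilizer_iff.2 (MulAction.mem_stabilizer_iff.1 h1)
      have h3 : (⟨_, h2⟩ : MulAction.stabilizer G x) ∈ N.subgroupOf (MulAction.stabilizer G x) :=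
        Subgroup.mem_subgroupOf.2 (m⁻¹ * n * m : N).2
      rw [h, Subgroup.mem_bot, Subtype.ext_iff] at h3
      have h4 : m⁻¹ * n * m = 1 := Subtype.ext h3
      rw [mul_assoc, inv_mul_eq_one] at h4
      exact (mul_eq_right.1 h4.symm)
    · exfalso
      rw [Subgroup.subgroupOf_eq_top] at h
      refine ht (eq_top_iff.2 fun g _ => ?_)
      obtain ⟨n, hn⟩ := htr.exists_smul_eq x (g • x)
      have h5 : (n : G)⁻¹ * g ∈ MulAction.stabilizer G x := by
        rw [MulAction.mem_stabilizer_iff, mul_smul, ← hn]
        exact inv_smul_smul (n : G) x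
      simpa using N.mul_mem n.2 (h h5)

end Cfsg.Agent.S4300
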