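import Cfsg.Statements.S4301


set_option autoImplicit false
open Cfsg

namespace Cfsg.Agent.S4301

/-- One-point extension of a multiply transitive group. Let X be a set and G a group of permutations of Option X (the set X with one extra point ∗ = none) all of whose elements fix ∗, such that G is k-transitive on the points of X for some k ≥ 2, X having at least k points. Suppose a permutation h of Option X and an element g of G satisfy: h interchanges ∗ with a point x of X and fixes a point y of X; g interchanges x and y; (g h)³ and h² lie in G; and for every f in G fixing x, the product h f h lies in G and fixes x. Then an element of the group generated by G and h fixes ∗ exactly when it lies in G, and that group acts (k+1)-transitively on Option X. -/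
theorem result {X : Type*} (G : Subgroup (Equiv.Perm (Option X))) (hfix : ∀ f ∈ G, f none = none)
    (k : ℕ) (hk : 2 ≤ k) (hkX : Nonempty (Fin k ↪ X))
    (htrans : ∀ a b : Fin k ↪ X, ∃ f ∈ G, ∀ i, f (some (a i)) = some (b i))
    (h g : Equiv.Perm (Option X)) (hg : g ∈ G) (x y : X)
    (h1 : h none = some x) (h2 : h (some x) = none) (h3 : h (some y) = some y)
    (h4 : g (some x) = some y) (h5 : g (some y) = some x)
    (h6 : (g * h) ^ 3 ∈ G) (h7 : h ^ 2 ∈ G)
    (h8 : ∀ f ∈ G, f (some x) = some x → h * f * h ∈ G ∧ (h * f * h) (some x) = some x) :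
    (∀ f ∈ Subgroup.closure ((G : Set (Equiv.Perm (Option X))) ∪ {h}), f none = none ↔ f ∈ G) ∧
      MulAction.IsMultiplyPretransitive (Subgroup.closure ((G : Set (Equiv.Perm (Option X))) ∪ {h})) (Option X) (k + 1) := by
  classical
  have hGh : ∀ a ∈ G, ∀ b ∈ G, (a * h * b) none ≠ none := fun a ha b hb e => by
    simp only [Equiv.Perm.mul_apply, hfix b hb, h1] at e
    exact Option.some_ne_none x (a.injective (e.trans (hfix a ha).symm))
  have hyx : y ≠ x := by
    intro e
    rw [e, h2] at h3
    exact Option.some_ne_none x h3.symm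
  -- decomposition `G = G_x ∪ G_x g G_x`
  have hdec : ∀ f ∈ G, f (some x) ≠ some x → ∃ a ∈ G, a (some x) = some x ∧
      ∃ b ∈ G, b (some x) = some x ∧ f = a * g * b := by
    intro f hf hfx
    obtain ⟨w, hw⟩ : ∃ w, f (some x) = some w := by
      rcases he : f (some x) with _ | w
      · exact absurd (f.injective (he.trans (hfix f hf).symm)) (Option.some_ne_none x)
      · exact ⟨w, rfl⟩
    obtain ⟨emb⟩ := hkX
    have hwx : w ≠ x := fun e => hfx (by rw [hw, e])
    -- an element of `G` with `x ↦ x`, `y ↦ w`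
    obtain ⟨a, ha, hax, hay⟩ : ∃ a ∈ G, a (some x) = some x ∧ a (some y) = some w := by
      let i0 : Fin k := ⟨0, by omega⟩
      let i1 : Fin k := ⟨1, by omega⟩
      have hi : i0 ≠ i1 := fun e => absurd (congrArg Fin.val e) (by simp [i0, i1])
      have hex : ∀ c d : X, c ≠ d → ∃ e : Fin k ↪ X, e i0 = c ∧ e i1 = d := by
        intro c d hcd
        let e1 : X ≃ X := Equiv.swap (emb i0) c
        have hd' : e1 (emb i1) ≠ c := fun e => by
          have h' : e1 (emb i1) = e1 (emb i0) := by rw [e, Equiv.swap_apply_left]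
          exact hi (emb.injective (e1.injective h')).symm
        refine ⟨emb.trans (e1.trans (Equiv.swap (e1 (emb i1)) d)).toEmbedding, ?_, ?_⟩
        · simp only [Function.Embedding.trans_apply, Equiv.coe_toEmbedding, Equiv.trans_apply, e1,
            Equiv.swap_apply_left]
          exact Equiv.swap_apply_of_ne_of_ne (fun e => hd' e.symm) hcd
        · simp [Function.Embedding.trans_apply, e1]
      obtain ⟨e1, he1, he1'⟩ := hex x y hyx.symm
      obtain ⟨e2, he2, he2'⟩ := hex x w (Ne.symm hwx)
      obtain ⟨a, ha, hea⟩ := htrans e1 e2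
      exact ⟨a, ha, by rw [← he1, hea, he2, he1], by rw [← he1', hea, he2']⟩
    refine ⟨a, ha, hax, (a * g)⁻¹ * f, mul_mem (inv_mem (mul_mem ha hg)) hf, ?_, by group⟩
    rw [Equiv.Perm.mul_apply, hw, Equiv.Perm.inv_eq_iff_eq, Equiv.Perm.mul_apply, h4, hay]
  have hgh : ∀ {u : Equiv.Perm (Option X)}, u ∈ G → u⁻¹ ∈ G := fun h => inv_mem h
  -- `h G h ⊆ G ∪ G h G`
  have hclosed : ∀ f ∈ G, h * f * h ∈ G ∨ ∃ a ∈ G, ∃ b ∈ G, h * f * h = a * h * b := by
    intro f hf
    by_cases hfx : f (some x) = some x
    · exact Or.inl (h8 f hf hfx).1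
    · obtain ⟨a, ha, hax, b, hb, hbx, rfl⟩ := hdec f hf hfx
      have ha' := (h8 a ha hax).1
      have hb' := (h8 b hb hbx).1
      set c := (h ^ 2)⁻¹ with hc
      have hcG : c ∈ G := inv_mem h7
      set kk := (g * h) ^ 3 with hkk
      refine Or.inr ⟨(h * a * h) * (c * (g⁻¹ * kk) * c), mul_mem ha'
        (mul_mem (mul_mem hcG (mul_mem (inv_mem hg) h6)) hcG), g⁻¹ * c * (h * b * h),
        mul_mem (mul_mem (inv_mem hg) hcG) hb', ?_⟩
      simp only [hc, hkk, pow_succ, pow_zero, one_mul]
      group
  let S : Subgroup (Equiv.Perm (Option X)) :=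
    { carrier := {f | f ∈ G ∨ ∃ a ∈ G, ∃ b ∈ G, f = a * h * b}
      one_mem' := Or.inl (one_mem G)
      mul_mem' := by
        rintro u v (hu | ⟨a, ha, b, hb, rfl⟩) (hv | ⟨c, hc, d, hd, rfl⟩)
        · exact Or.inl (mul_mem hu hv)
        · exact Or.inr ⟨u * c, mul_mem hu hc, d, hd, by group⟩
        · exact Or.inr ⟨a, ha, b * v, mul_mem hb hv, by group⟩
        · have e : a * h * b * (c * h * d) = a * (h * (b * c) * h) * d := by group
          rcases hclosed _ (mul_mem hb hc) with hm | ⟨r, hr, s, hs, hm⟩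
          · exact Or.inl (by rw [e]; exact mul_mem (mul_mem ha hm) hd)
          · exact Or.inr ⟨a * r, mul_mem ha hr, s * d, mul_mem hs hd, by rw [e, hm]; group⟩
      inv_mem' := by
        rintro u (hu | ⟨a, ha, b, hb, rfl⟩)
        · exact Or.inl (inv_mem hu)
        · exact Or.inr ⟨b⁻¹, inv_mem hb, (h ^ 2)⁻¹ * a⁻¹, mul_mem (inv_mem h7) (inv_mem ha),
            by rw [pow_two]; group⟩ }
  have hle : Subgroup.closure ((G : Set (Equiv.Perm (Option X))) ∪ {h}) ≤ S := by
    rw [Subgroup.closure_le]
    rintro u (hu | hu)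
    · exact Or.inl hu
    · rw [Set.mem_singleton_iff] at hu
      exact Or.inr ⟨1, one_mem G, 1, one_mem G, by rw [hu, one_mul, mul_one]⟩
  refine ⟨fun f hf => ⟨fun hn => ?_, fun hG => hfix f hG⟩, ?_⟩
  · rcases hle hf with h0 | ⟨a, ha, b, hb, rfl⟩
    · exact h0
    · exact absurd hn (hGh a ha b hb)
  · set M := Subgroup.closure ((G : Set (Equiv.Perm (Option X))) ∪ {h})
    have hGM : ∀ {u}, u ∈ G → u ∈ M := fun hu => Subgroup.subset_closure (Or.inl hu)
    have hhM : h ∈ M := Subgroup.subset_closure (Or.inr rfl)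
    have hone : ∀ z : Option X, ∃ m ∈ M, m z = none := by
      intro z
      rcases z with _ | z
      · exact ⟨1, one_mem M, rfl⟩
      · obtain ⟨emb⟩ := hkX
        obtain ⟨f, hf, hfz⟩ := htrans
          (emb.trans (Equiv.swap (emb ⟨0, by omega⟩) z).toEmbedding)
          (emb.trans (Equiv.swap (emb ⟨0, by omega⟩) x).toEmbedding)
        have hfz' := hfz ⟨0, by omega⟩
        simp only [Function.Embedding.trans_apply, Equiv.coe_toEmbedding, Equiv.swap_apply_left] at hfz'
        exact ⟨h * f, mul_mem hhM (hGM hf), by rw [Equiv.Perm.mul_apply, hfz', h2]⟩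
    refine (MulAction.isMultiplyPretransitive_iff).2 fun a b => ?_
    obtain ⟨u, hu, hu'⟩ := hone (a 0)
    obtain ⟨v, hv, hv'⟩ := hone (b 0)
    have haux : ∀ (c : Fin (k + 1) ↪ Option X) (w : Equiv.Perm (Option X)), w (c 0) = none →
        ∃ e : Fin k ↪ X, ∀ i, w (c i.succ) = some (e i) := by
      intro c w hw
      have hne : ∀ i : Fin k, w (c i.succ) ≠ none := fun i e =>
        Fin.succ_ne_zero i (c.injective (w.injective (e.trans hw.symm)))
      refine ⟨⟨fun i => (w (c i.succ)).get (Option.ne_none_iff_isSome.1 (hne i)), fun i j e => ?_⟩,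
        fun i => (Option.some_get _).symm⟩
      have e2 : w (c i.succ) = w (c j.succ) := by
        rw [← Option.some_get (Option.ne_none_iff_isSome.1 (hne i)),
          ← Option.some_get (Option.ne_none_iff_isSome.1 (hne j))]
        exact congrArg some e
      exact Fin.succ_injective _ (c.injective (w.injective e2))
    obtain ⟨ea, hea⟩ := haux a u hu'
    obtain ⟨eb, heb⟩ := haux b v hv'
    obtain ⟨f, hf, hfab⟩ := htrans ea eb
    refine ⟨⟨v⁻¹ * f * u, mul_mem (mul_mem (inv_mem hv) (hGM hf)) hu⟩, ?_⟩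
    refine Function.Embedding.ext fun i => ?_
    show (v⁻¹ * f * u : Equiv.Perm (Option X)) (a i) = b i
    rw [Equiv.Perm.mul_apply, Equiv.Perm.mul_apply, Equiv.Perm.inv_eq_iff_eq]
    refine Fin.cases ?_ (fun j => ?_) i
    · rw [hu', hv', hfix f hf]
    · rw [hea, heb, hfab]

end Cfsg.Agent.S4301
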