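import Cfsg.Statements.S4302
import Cfsg.Agent.Lib.LocalEven.SolvableOffender
import Cfsg.Agent.Lib.Fusion.FailureFactor
import Cfsg.Agent.Lib.LocalEven.PushingUpClosure
import Cfsg.Agent.Lib.LocalEven.SylowIn
import Cfsg.Agent.Lib.Coprime.Sylow

set_option autoImplicit false
open Cfsg

namespace Cfsg.Agent.S4302

/-- Let `X` be a finite solvable group whose Fitting subgroup is a 2-group (equivalently `F(X) = O₂(X)`), `T` a Sylow 2-subgroup of `X`, `J(T)` the subgroup generated by the abelian subgroups of `T` of largest order, `C` the largest normal subgroup of `X` centralizing the centre `Z(T)`, and `Y` the normal closure of `J(T)` in `X`. Then `X = C · Y · N_X(J(T))`, and either `Y ≤ C`, or `CY/C` is isomorphic to a direct product of at least one copy of the symmetric group of degree 3. -/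
theorem result {X : Type*} [Group X] [Finite X]
    [Group.IsSolvable X] (hF : Cfsg.fittingSubgroup X = Cfsg.pCore 2 X) (T : Sylow 2 X) :
    ((Subgroup.centralizer (((T : Subgroup X) ⊓ Subgroup.centralizer ((T : Subgroup X) : Set X) : Subgroup X) : Set X)).normalCore
        ⊔ Subgroup.normalClosure (Cfsg.thompsonSubgroupAOf (T : Subgroup X) : Set X)
        ⊔ Subgroup.normalizer (Cfsg.thompsonSubgroupAOf (T : Subgroup X) : Set X) = ⊤) ∧
    (Subgroup.normalClosure (Cfsg.thompsonSubgroupAOf (T : Subgroup X) : Set X)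
        ≤ (Subgroup.centralizer (((T : Subgroup X) ⊓ Subgroup.centralizer ((T : Subgroup X) : Set X) : Subgroup X) : Set X)).normalCore
      ∨ ∃ n : ℕ, 1 ≤ n ∧
        Nonempty (↥(Subgroup.normalClosure (Cfsg.thompsonSubgroupAOf (T : Subgroup X) : Set X)) ⧸
            ((Subgroup.centralizer (((T : Subgroup X) ⊓ Subgroup.centralizer ((T : Subgroup X) : Set X) : Subgroup X) : Set X)).normalCore).subgroupOf
              (Subgroup.normalClosure (Cfsg.thompsonSubgroupAOf (T : Subgroup X) : Set X))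
          ≃* (Fin n → Equiv.Perm (Fin 3)))) := by
  classical
  haveI : Fact (Nat.Prime 2) := ⟨Nat.prime_two⟩
  set TT : Subgroup X := (T : Subgroup X) with hTT
  set Z : Subgroup X := TT ⊓ Subgroup.centralizer (TT : Set X) with hZ
  set C : Subgroup X := (Subgroup.centralizer (Z : Set X)).normalCore with hC
  set J : Subgroup X := Cfsg.thompsonSubgroupAOf TT with hJ
  set L : Subgroup X := Subgroup.normalClosure (J : Set X) with hL
  haveI hCn : C.Normal := Subgroup.normalCore_normal _
  haveI hLn : L.Normal := Subgroup.normalClosure_normal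
  set O := Cfsg.pCore 2 X with hO
  haveI hOn : O.Normal := CfsgLib.Solvable.Cores.pCore_normal 2
  have hOT : O ≤ TT := CfsgLib.Solvable.Cores.pCore_le_sylow T
  have hCO : Subgroup.centralizer (O : Set X) ≤ O := by
    rw [← hF]; exact CfsgLib.Solvable.Cores.centralizer_fittingSubgroup_le
  have hZO : Z ≤ O ⊓ Subgroup.centralizer (O : Set X) := fun z hz =>
    have h := Subgroup.centralizer_le (SetLike.coe_subset_coe.2 hOT) hz.2
    ⟨hCO h, h⟩
  set V : Subgroup X := Subgroup.normalClosure (Z : Set X) with hV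
  haveI hVn : V.Normal := Subgroup.normalClosure_normal
  have hVO : V ≤ O ⊓ Subgroup.centralizer (O : Set X) := Subgroup.normalClosure_le_normal hZO
  have hVc : ∀ x ∈ V, ∀ y ∈ V, x * y = y * x := fun x hx y hy =>
    Subgroup.mem_centralizer_iff.1 (hVO hy).2 x (hVO hx).1
  have hCV : C = Subgroup.centralizer (V : Set X) := by
    refine le_antisymm ?_ (Subgroup.normal_le_normalCore.2
      (Subgroup.centralizer_le Subgroup.subset_normalClosure))
    refine Subgroup.le_centralizer_iff.1 (Subgroup.normalClosure_le_normal fun z hz => ?_)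
    exact Subgroup.le_centralizer_iff.1 (Subgroup.normalCore_le _) hz
  -- the involutions of `V`
  set W : Subgroup X :=
    { carrier := {x | x ∈ V ∧ x ^ 2 = 1}
      one_mem' := ⟨one_mem V, one_pow 2⟩
      mul_mem' := fun {a b} ha hb => ⟨mul_mem ha.1 hb.1, by
        rw [(show Commute a b from hVc a ha.1 b hb.1).mul_pow, ha.2, hb.2, one_mul]⟩
      inv_mem' := fun {a} ha => ⟨inv_mem ha.1, by rw [inv_pow, ha.2, inv_one]⟩ } with hW
  have hWV : W ≤ V := fun x hx => hx.1
  have hWT : W ≤ TT := hWV.trans ((hVO.trans inf_le_left).trans hOT)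
  haveI hWn : W.Normal := ⟨fun x hx g => ⟨hVn.conj_mem x hx.1 g, by rw [conj_pow, hx.2, mul_one, mul_inv_cancel]⟩⟩
  have hWea : Cfsg.IsElementaryAbelian 2 W :=
    ⟨CfsgLib.Solvable.Basic.isMulCommutative_subgroup_iff.2 fun x hx y hy => hVc x hx.1 y hy.1,
      fun x hx => hx.2⟩
  -- `O₂(X/C) = 1`
  have hO2 : Cfsg.pCore 2 (X ⧸ C) = ⊥ := by
    set U := (Cfsg.pCore 2 (X ⧸ C)).comap (QuotientGroup.mk' C) with hU
    haveI : (Cfsg.pCore 2 (X ⧸ C)).Normal := CfsgLib.Solvable.Cores.pCore_normal 2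
    haveI : U.Normal := Subgroup.Normal.comap inferInstance _
    have hUC : U ≤ C := by
      refine Subgroup.normal_le_normalCore.2 ?_
      have h1 := CfsgLib.Solvable.Cores.pCore_le_sylow (T.mapSurjective (QuotientGroup.mk'_surjective C))
      rw [Sylow.coe_mapSurjective] at h1
      refine (Subgroup.comap_mono h1).trans ?_
      rw [Subgroup.comap_map_eq, QuotientGroup.ker_mk']
      refine sup_le ?_ (Subgroup.normalCore_le _)
      rw [Subgroup.le_centralizer_iff]
      exact fun z hz => hz.2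
    rw [eq_bot_iff]
    intro x hx
    obtain ⟨g, rfl⟩ := QuotientGroup.mk'_surjective C x
    exact Subgroup.mem_bot.2 ((QuotientGroup.eq_one_iff g).2 (hUC hx))
  -- `C = C_X(W)`
  have hCW : Subgroup.centralizer (W : Set X) = C := by
    refine le_antisymm ?_ (hCV.le.trans (Subgroup.centralizer_le (SetLike.coe_subset_coe.2 hWV)))
    have hodd : ∀ x ∈ Subgroup.centralizer (W : Set X), ∀ m : ℕ, Odd m → x ^ m = 1 → x ∈ C := by
      intro x hx m hm hxm
      rw [hCV, Subgroup.mem_centralizer_iff]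
      have key : ∀ k : ℕ, ∀ v ∈ V, v ^ 2 ^ k = 1 → v * x = x * v := by
        intro k
        induction k with
        | zero => intro v _ hv; rw [pow_zero, pow_one] at hv; rw [hv, one_mul, mul_one]
        | succ k ih =>
          intro v hv hvk
          have h2 : v ^ 2 * x = x * v ^ 2 := ih _ (pow_mem hv 2) (by rw [← pow_mul, ← pow_succ']; exact hvk)
          set d := x * v * x⁻¹ * v⁻¹ with hd
          have hc : x * v * x⁻¹ ∈ V := hVn.conj_mem v hv x
          have hdW : d ∈ W := ⟨mul_mem hc (inv_mem hv), by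
            rw [hd, (show Commute (x * v * x⁻¹) v⁻¹ from hVc _ hc _ (inv_mem hv)).mul_pow, conj_pow, ← h2,
              mul_inv_cancel_right, inv_pow, mul_inv_cancel]⟩
          have e := CfsgLib.LocalEven.SolvableOffender.pow_comm_of_quadratic (c := x) (v := v) (d := d)
            (by rw [hd]; group) (Subgroup.mem_centralizer_iff.1 hx d hdW).symm m
          rw [hxm, one_mul, inv_one, mul_one] at e
          have hdm : d ^ m = 1 := by simpa using e.symm
          obtain ⟨j, rfl⟩ := hm
          rw [pow_succ, pow_mul, hdW.2, one_pow, one_mul] at hdm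
          have h3 : x * v * x⁻¹ * v⁻¹ = 1 := hdm
          rw [mul_inv_eq_one, mul_inv_eq_iff_eq_mul] at h3
          exact h3.symm
      intro v hv
      obtain ⟨k, hk⟩ := (CfsgLib.Solvable.Cores.isPGroup_pCore (G := X) 2) ⟨v, (hVO hv).1⟩
      exact key k v hv (congrArg Subtype.val hk)
    set q := QuotientGroup.mk' C with hq
    haveI : (Subgroup.centralizer (W : Set X)).Normal := Subgroup.normal_centralizer
    haveI : ((Subgroup.centralizer (W : Set X)).map q).Normal :=
      Subgroup.Normal.map inferInstance q (QuotientGroup.mk'_surjective C)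
    have hp : IsPGroup 2 ((Subgroup.centralizer (W : Set X)).map q) := by
      rintro ⟨_, g, hg, rfl⟩
      obtain ⟨k, m, hm, hkm⟩ := Nat.exists_eq_pow_mul_and_not_dvd (orderOf_pos g).ne' 2 (by norm_num)
      refine ⟨k, Subtype.ext ?_⟩
      show q g ^ 2 ^ k = 1
      rw [← map_pow]
      refine (QuotientGroup.eq_one_iff _).2 (hodd _ (pow_mem hg _) m (Nat.odd_iff.2 (by omega)) ?_)
      rw [← pow_mul, ← hkm, pow_orderOf_eq_one]
    have h := CfsgLib.Solvable.Cores.le_pCore hp
    rw [hO2, le_bot_iff, Subgroup.map_eq_bot_iff, hq, QuotientGroup.ker_mk'] at h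
    exact h
  -- the induced group and its offenders
  have hO' : Cfsg.pCore 2 (X ⧸ Subgroup.centralizer (W : Set X)) = ⊥ := by
    have gen : ∀ (A B : Subgroup X) [A.Normal] [B.Normal], A = B → Cfsg.pCore 2 (X ⧸ A) = ⊥ →
        Cfsg.pCore 2 (X ⧸ B) = ⊥ := by
      intro A B _ _ e h; subst e; exact h
    exact gen C _ hCW.symm hO2
  have S := CfsgLib.Fusion.FailureFactor.setup W (CfsgLib.Fusion.PSolvable.psolvable_of_solvable (p := 2))
    hWea hO' L
  set ρ := CfsgLib.Fusion.FailureFactor.rho W with hρ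
  have hbest : ∀ g : X, ∀ A : Subgroup X, CfsgLib.LocalEven.PushingUpClosure.IsMaxAb TT A →
      (A.map (MulAut.conj g).toMonoidHom).map ρ ≤ L.map ρ ∧
      Cfsg.IsBestOffenderOn 2 (CfsgLib.Fusion.FailureFactor.vv W)
        ((A.map (MulAut.conj g).toMonoidHom).map ρ) := by
    intro g A hA
    set A' := A.map (MulAut.conj g).toMonoidHom with hA'
    have hA'L : A' ≤ L := by
      rintro _ ⟨a, ha, rfl⟩
      exact hLn.conj_mem a (Subgroup.subset_normalClosure (CfsgLib.LocalEven.PushingUpClosure.le_thompson hA ha)) g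
    have hA'c : ∀ a ∈ A', ∀ b ∈ A', a * b = b * a := by
      rintro _ ⟨a, ha, rfl⟩ _ ⟨b, hb, rfl⟩
      rw [← map_mul, ← map_mul, hA.2.1 hb a ha]
    refine ⟨Subgroup.map_mono hA'L, CfsgLib.LocalEven.SolvableOffender.isBest_of_abelian S (Subgroup.map_mono hA'L)
      ?_ (((T.isPGroup'.to_le hA.1).map _).map _) fun B hB => ?_⟩
    · rintro _ ⟨a, ha, rfl⟩ _ ⟨b, hb, rfl⟩
      rw [← map_mul, ← map_mul, hA'c a ha b hb]
    set B₀ := A' ⊓ B.comap ρ with hB₀
    have hBeq : B₀.map ρ = B := by
      refine le_antisymm (by rintro _ ⟨x, hx, rfl⟩; exact hx.2) fun y hy => ?_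
      obtain ⟨x, hx, rfl⟩ := hB hy
      exact ⟨x, ⟨hx, hy⟩, rfl⟩
    have hCeq : B₀ ⊓ Subgroup.centralizer (W : Set X) = A' ⊓ Subgroup.centralizer (W : Set X) := by
      refine le_antisymm (inf_le_inf_right _ inf_le_left) fun x hx => ⟨⟨hx.1, ?_⟩, hx.2⟩
      show ρ x ∈ B
      rw [hρ, (CfsgLib.Fusion.FailureFactor.rho_eq_one W).2 hx.2]
      exact one_mem B
    set D := W ⊓ Subgroup.centralizer (B₀ : Set X) with hD
    have hBD : B₀ ≤ Subgroup.centralizer (D : Set X) := Subgroup.le_centralizer_iff.1 inf_le_right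
    have hBn : B₀ ≤ Subgroup.normalizer (D : Set X) := hBD.trans (Subgroup.centralizer_le_normalizer _)
    have hTg : W ≤ TT.map (MulAut.conj g).toMonoidHom := fun w hw =>
      ⟨g⁻¹ * w * g⁻¹⁻¹, hWT (hWn.conj_mem w hw g⁻¹), by simp [mul_assoc]⟩
    have habel : D ⊔ B₀ ≤ Subgroup.centralizer ((D ⊔ B₀ : Subgroup X) : Set X) :=
      CfsgLib.LocalEven.PushingUpClosure.abelian_sup (fun x hx y hy => hVc y hy.1.1 x hx.1.1)
        (fun x hx y hy => hA'c y hy.1 x hx.1) (Subgroup.le_centralizer_iff.1 hBD)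
    have h1 : Nat.card ↥(D ⊔ B₀) ≤ Nat.card A' := by
      have hle : D ⊔ B₀ ≤ TT.map (MulAut.conj g).toMonoidHom :=
        sup_le (inf_le_left.trans hTg) (inf_le_left.trans (Subgroup.map_mono hA.1))
      rw [hA', Subgroup.card_map_of_injective (MulAut.conj g).injective,
        ← Subgroup.card_map_of_injective (f := (MulAut.conj g).symm.toMonoidHom) (MulAut.conj g).symm.injective
          (K := D ⊔ B₀)]
      refine hA.2.2 _ ?_ ?_
      · rintro _ ⟨x, hx, rfl⟩
        obtain ⟨t, ht, rfl⟩ := hle hx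
        show (MulAut.conj g).symm ((MulAut.conj g) t) ∈ TT
        rw [MulEquiv.symm_apply_apply]
        exact ht
      · rintro _ ⟨x, hx, rfl⟩ _ ⟨y, hy, rfl⟩
        rw [← map_mul, ← map_mul, habel hx y hy]
    have h2 := CfsgLib.Fusion.Thompson.card_sup_mul_card_inf hBn
    have h3 : Nat.card ↥(D ⊓ B₀) ≤ Nat.card ↥(W ⊓ Subgroup.centralizer (A' : Set X)) :=
      Subgroup.card_le_of_le fun x hx => ⟨hx.1.1, fun a ha => hA'c a ha x hx.2.1⟩
    have h : Nat.card B₀ * Nat.card D ≤
        Nat.card A' * Nat.card ↥(W ⊓ Subgroup.centralizer (A' : Set X)) := by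
      calc Nat.card B₀ * Nat.card D = Nat.card ↥(D ⊔ B₀) * Nat.card ↥(D ⊓ B₀) := by rw [h2, mul_comm]
        _ ≤ _ := Nat.mul_le_mul h1 h3
    show Nat.card B * _ ≤ Nat.card (A'.map ρ) * _
    rw [← CfsgLib.Fusion.FailureFactor.card_map_mul W B₀, ← CfsgLib.Fusion.FailureFactor.card_map_mul W A',
      hCeq, ← hρ, hBeq, hD] at h
    rw [← hBeq, hρ, CfsgLib.Fusion.FailureFactor.card_fix, CfsgLib.Fusion.FailureFactor.card_fix, hBeq]
    refine Nat.le_of_mul_le_mul_left ?_
      (Nat.card_pos (α := (A' ⊓ Subgroup.centralizer (W : Set X) : Subgroup X)))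
    calc _ = Nat.card B * Nat.card ↥(A' ⊓ Subgroup.centralizer (W : Set X)) *
          Nat.card ↥(W ⊓ Subgroup.centralizer (B₀ : Set X)) := by ring
      _ ≤ _ := h
      _ = _ := by ring
  refine ⟨?_, ?_⟩
  · -- factorisation
    haveI : (C ⊔ L).Normal := Subgroup.sup_normal C L
    obtain ⟨P, hP⟩ : ∃ P : Sylow 2 ↥(C ⊔ L), (P : Subgroup ↥(C ⊔ L)).map (C ⊔ L).subtype = TT ⊓ (C ⊔ L) := by
      exact CfsgLib.Coprime.exists_sylow_map_eq inf_le_right
        (CfsgLib.Coprime.card_sylow_inf_normal T (C ⊔ L))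
    have hF' := Sylow.normalizer_sup_eq_top P
    rw [hP] at hF'
    refine eq_top_iff.2 (hF'.ge.trans (sup_le ?_ le_sup_left))
    refine le_trans ?_ le_sup_right
    have hAP : ∀ A, CfsgLib.LocalEven.PushingUpClosure.IsMaxAb TT A → A ≤ TT ⊓ (C ⊔ L) := fun A hA =>
      le_inf hA.1 (((CfsgLib.LocalEven.PushingUpClosure.le_thompson hA).trans
        Subgroup.subset_normalClosure).trans le_sup_right)
    have hmove : ∀ g ∈ Subgroup.normalizer ((TT ⊓ (C ⊔ L) : Subgroup X) : Set X),
        ∀ x ∈ J, g * x * g⁻¹ ∈ J := by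
      intro g hg
      suffices h : J ≤ J.comap (MulAut.conj g).toMonoidHom from h
      rw [hJ, CfsgLib.LocalEven.PushingUpClosure.thompson_le_iff]
      intro A hA
      rw [← Subgroup.map_le_iff_le_comap]
      have hle : A.map (MulAut.conj g).toMonoidHom ≤ TT := by
        rintro _ ⟨a, ha, rfl⟩
        exact ((Subgroup.mem_normalizer_iff.1 hg a).1 (hAP A hA ha)).1
      refine CfsgLib.LocalEven.PushingUpClosure.le_thompson ⟨hle, ?_, fun B hB hB' => ?_⟩
      · rintro _ ⟨a, ha, rfl⟩ _ ⟨b, hb, rfl⟩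
        rw [← map_mul, ← map_mul, hA.2.1 ha b hb]
      · rw [Subgroup.card_map_of_injective (MulAut.conj g).injective]
        exact hA.2.2 B hB hB'
    exact fun g hg => Subgroup.mem_normalizer_iff.2 fun x => ⟨hmove g hg x, fun hx => by
      simpa [mul_assoc] using hmove g⁻¹ (inv_mem hg) _ hx⟩
  · by_cases hYC : L ≤ C
    · exact Or.inl hYC
    right
    set H := L.map ρ with hH
    have hgen : H ≤ Subgroup.closure
        {c | CfsgLib.Fusion.OffenderTv.Tv 2 (CfsgLib.Fusion.FailureFactor.vv W) H c} := by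
      refine CfsgLib.Fusion.OffenderFamily.gen_of_offenders S (le_antisymm ?_ (iSup_le fun A => A.2.1))
      rw [hH, Subgroup.map_le_iff_le_comap, hL]
      refine (Subgroup.closure_le _).2 fun y hy => ?_
      obtain ⟨x, hx, hxy⟩ := Group.mem_conjugatesOfSet_iff.1 hy
      obtain ⟨g, rfl⟩ := isConj_iff.1 hxy
      revert x
      suffices h : J ≤ (Subgroup.comap ρ (⨆ A : {A : Subgroup (CfsgLib.Fusion.FailureFactor.Amb W) //
          A ≤ H ∧ Cfsg.IsBestOffenderOn 2 (CfsgLib.Fusion.FailureFactor.vv W) A},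
            (A : Subgroup (CfsgLib.Fusion.FailureFactor.Amb W)))).comap (MulAut.conj g).toMonoidHom from
        fun x hx _ _ => h hx
      rw [hJ, CfsgLib.LocalEven.PushingUpClosure.thompson_le_iff]
      intro A hA
      rw [← Subgroup.map_le_iff_le_comap, ← Subgroup.map_le_iff_le_comap]
      exact le_iSup (fun A : {A : Subgroup (CfsgLib.Fusion.FailureFactor.Amb W) //
          A ≤ H ∧ Cfsg.IsBestOffenderOn 2 (CfsgLib.Fusion.FailureFactor.vv W) A} =>
            (A : Subgroup (CfsgLib.Fusion.FailureFactor.Amb W))) ⟨_, hbest g A hA⟩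
    obtain ⟨n, hn, ⟨e⟩⟩ := CfsgLib.LocalEven.SolvableOffender.exists_pi_equiv S hgen
    have hker : (ρ.comp L.subtype).ker = C.subgroupOf L := by
      rw [← MonoidHom.comap_ker, hρ, CfsgLib.Fusion.FailureFactor.ker_rho, hCW]; rfl
    refine ⟨n, hn fun h => hYC ?_, ?_⟩
    · rw [hH, Subgroup.map_eq_bot_iff, hρ, CfsgLib.Fusion.FailureFactor.ker_rho, hCW] at h
      exact h
    obtain ⟨s⟩ := CfsgLib.LocalEven.SolvableOffender.exists_sl_two_equiv_perm
    have hr : (ρ.comp L.subtype).range = H := by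
      rw [MonoidHom.range_comp, Subgroup.range_subtype]
    exact ⟨(QuotientGroup.quotientMulEquivOfEq hker.symm).trans <|
      (QuotientGroup.quotientKerEquivRange (ρ.comp L.subtype)).trans <|
      (MulEquiv.subgroupCongr hr).trans <| e.trans (MulEquiv.piCongrRight fun _ => s)⟩

end Cfsg.Agent.S4302
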