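import Cfsg.Statements.S4303
import Cfsg.Agent.Lib.NumberTheory.SylowCount

set_option autoImplicit false
universe u
open Cfsg

namespace Cfsg.Agent.S4303

open CfsgLib.NT.SylowCount

theorem coprimeList {p : ℕ} [Fact p.Prime] {n : ℕ} (hn : n ≠ 0)
    (h : ∀ r : ℕ, r.Prime → r ^ n.factorization r ≡ 1 [MOD p]) :
    ∃ l : List ℕ, l.prod = n ∧ ∀ m ∈ l, IsPrimePow m ∧ m % p = 1 := by
  refine ⟨n.primeFactors.toList.map fun r => r ^ n.factorization r, ?_, ?_⟩
  · rw [Finset.prod_map_toList]
    conv_rhs => rw [← Nat.prod_factorization_pow_eq_self hn]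
    rfl
  · intro m hm
    obtain ⟨r, hr, rfl⟩ := List.mem_map.1 hm
    rw [Finset.mem_toList, Nat.mem_primeFactors] at hr
    refine ⟨?_, ?_⟩
    · exact (hr.1.isPrimePow).pow (hr.1.factorization_pos_of_dvd hn hr.2.1).ne'
    · have := h r hr.1
      rw [Nat.ModEq, Nat.one_mod_eq_one.2 (Fact.out : p.Prime).one_lt.ne'] at this
      exact this

theorem aux {p : ℕ} [Fact p.Prime] : ∀ (n : ℕ) (G : Type u) [Group G] [Finite G],
    Nat.card G = n → ∃ l : List ℕ, l.prod = Nat.card (Sylow p G) ∧
      ∀ m ∈ l, (IsPrimePow m ∧ m % p = 1) ∨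
        ∃ (S : Type u) (_ : Group S) (_ : Finite S), IsSimpleGroup S ∧ m = Nat.card (Sylow p S) := by
  intro n
  induction n using Nat.strong_induction_on with
  | _ n ih =>
    intro G _ _ hn
    rcases subsingleton_or_nontrivial G with hs | hnt
    · have : Subsingleton (Sylow p G) := ⟨fun a b => Sylow.ext (Subsingleton.elim _ _)⟩
      exact ⟨[], by rw [Nat.card_of_subsingleton (default : Sylow p G)]; rfl, by simp⟩
    by_cases hsimp : IsSimpleGroup G
    · refine ⟨[Nat.card (Sylow p G)], by simp, fun m hm => Or.inr ⟨G, ‹_›, ‹_›, hsimp, ?_⟩⟩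
      simpa using hm
    obtain ⟨K, hKn, hK1, hKt⟩ : ∃ K : Subgroup G, K.Normal ∧ K ≠ ⊥ ∧ K ≠ ⊤ := by
      by_contra hc
      exact hsimp ⟨fun H hH => or_iff_not_imp_left.2 fun h1 => not_not.1 fun h2 =>
        hc ⟨H, hH, h1, h2⟩⟩
    have := hKn
    obtain ⟨P⟩ := (inferInstance : Nonempty (Sylow p G))
    obtain ⟨l1, hl1, hm1⟩ := ih _ (hn ▸ CfsgLib.Solvable.Basic.card_quotient_lt K hK1) (G ⧸ K) rfl
    obtain ⟨l2, hl2, hm2⟩ := ih _ (hn ▸ CfsgLib.Solvable.Basic.card_subgroup_lt K hKt) K rfl
    set N := ((P : Subgroup G) ⊔ K) ⊓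
      Subgroup.normalizer (((P : Subgroup G) ⊓ K : Subgroup G) : Set G) with hN
    have hNn : (((P : Subgroup G) ⊓ K).subgroupOf N).Normal := by
      rw [← Subgroup.inf_subgroupOf_right, inf_eq_left.2 (le_inf (inf_le_right.trans le_sup_right)
        Subgroup.le_normalizer : (P : Subgroup G) ⊓ K ≤ N)]
      exact (Subgroup.normal_subgroupOf_iff_le_normalizer (le_inf (inf_le_right.trans le_sup_right)
        Subgroup.le_normalizer)).2 inf_le_right
    have hcount := card_sylow_three P K N hN
    by_cases hsmall : Nat.card (N ⧸ ((P : Subgroup G) ⊓ K).subgroupOf N) < n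
    · obtain ⟨l3, hl3, hm3⟩ := ih _ hsmall _ rfl
      refine ⟨l1 ++ l2 ++ l3, by rw [List.prod_append, List.prod_append, hl1, hl2, hl3, hcount], ?_⟩
      intro m hm
      rw [List.mem_append, List.mem_append] at hm
      rcases hm with (h | h) | h
      exacts [hm1 m h, hm2 m h, hm3 m h]
    · have hcN : Nat.card N ≤ n := hn ▸ Subgroup.card_le_card_group N
      have hmul := Subgroup.card_mul_index (((P : Subgroup G) ⊓ K).subgroupOf N)
      rw [Subgroup.index_eq_card, Nat.card_congr (Subgroup.subgroupOfEquivOfLe (le_inf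
        (inf_le_right.trans le_sup_right) Subgroup.le_normalizer : (P : Subgroup G) ⊓ K ≤ N)).toEquiv]
        at hmul
      have h0 : 0 < Nat.card (N ⧸ ((P : Subgroup G) ⊓ K).subgroupOf N) := Nat.card_pos
      have hQ : Nat.card ↥((P : Subgroup G) ⊓ K) = 1 := by
        have h1 : 1 ≤ Nat.card ↥((P : Subgroup G) ⊓ K) := Nat.card_pos
        by_contra hne
        have h2 := Nat.mul_le_mul_right (Nat.card (N ⧸ ((P : Subgroup G) ⊓ K).subgroupOf N))
          (show 2 ≤ Nat.card ↥((P : Subgroup G) ⊓ K) by omega)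
        omega
      have htop : (P : Subgroup G) ⊔ K = ⊤ := by
        refine eq_top_iff.2 (le_trans (le_of_eq (Subgroup.eq_top_of_le_card N ?_).symm) inf_le_left)
        rw [hQ, one_mul] at hmul
        omega
      have hpK : ¬ p ∣ Nat.card K := by
        intro hd
        have h := CfsgLib.Coprime.card_sylow_inf_normal P K
        rw [hQ] at h
        exact absurd h.symm (Nat.one_lt_pow
          ((Fact.out : p.Prime).factorization_pos_of_dvd Nat.card_pos.ne' hd).ne'
          (Fact.out : p.Prime).one_lt).ne'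
      obtain ⟨l, hl, hm⟩ := coprimeList Nat.card_pos.ne'
        (fun r hr => ordProj_modEq_of_coprime P K hpK htop hr)
      exact ⟨l, hl, fun m h => Or.inl (hm m h)⟩


/-- For a finite group `G` and a prime `p`, the number of Sylow `p`-subgroups of `G` is a product of natural numbers each of which is either a prime power congruent to 1 modulo `p` or the number of Sylow `p`-subgroups of some finite simple group. -/
theorem result {G : Type u} [Group G] [Finite G]
    (p : ℕ) [Fact p.Prime] :
    ∃ l : List ℕ, l.prod = Nat.card (Sylow p G) ∧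
      ∀ m ∈ l, (IsPrimePow m ∧ m % p = 1) ∨
        ∃ (S : Type u) (_ : Group S) (_ : Finite S), IsSimpleGroup S ∧ m = Nat.card (Sylow p S) := by
  exact aux _ G rfl
end Cfsg.Agent.S4303
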