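import Cfsg.Statements.S4304
import Cfsg.Agent.S4303
import Cfsg.Agent.Lib.NumberTheory.SylowFifteen

set_option autoImplicit false
open Cfsg

namespace Cfsg.Agent.S4304

/-- No finite group has exactly 15 Sylow 7-subgroups. -/
theorem result {G : Type*} [Group G] [Finite G] : Nat.card (Sylow 7 G) ≠ 15 := by
  have : Fact (Nat.Prime 7) := ⟨by norm_num⟩
  intro h15
  obtain ⟨l, hl, hm⟩ := Cfsg.Agent.S4303.result (G := G) 7
  rw [h15] at hl
  have hall : ∀ m ∈ l, m = 1 := by
    intro m hml
    have hd : m ∣ 15 := hl ▸ List.dvd_prod hml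
    have hmem : m ∈ ({1, 3, 5, 15} : Finset ℕ) := by
      have : m ∈ Nat.divisors 15 := Nat.mem_divisors.2 ⟨hd, by norm_num⟩
      simpa [show Nat.divisors 15 = {1, 3, 5, 15} by decide] using this
    simp only [Finset.mem_insert, Finset.mem_singleton] at hmem
    rcases hm m hml with ⟨hpp, hmod⟩ | ⟨S, _, _, hS, rfl⟩
    · rcases hmem with rfl | rfl | rfl | rfl
      · rfl
      · norm_num at hmod
      · norm_num at hmod
      · obtain ⟨p, k, hp, hk, he⟩ := (isPrimePow_nat_iff _).1 hpp
        have h3 : p = 3 := ((Nat.prime_dvd_prime_iff_eq Nat.prime_three hp).1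
          (Nat.prime_three.dvd_of_dvd_pow (he ▸ (by norm_num : 3 ∣ 15)))).symm
        have h5 : p = 5 := ((Nat.prime_dvd_prime_iff_eq Nat.prime_five hp).1
          (Nat.prime_five.dvd_of_dvd_pow (he ▸ (by norm_num : 5 ∣ 15)))).symm
        omega
    · have hmod : Nat.card (Sylow 7 S) % 7 = 1 := card_sylow_modEq_one 7 S
      rcases hmem with h | h | h | h
      · exact h
      · omega
      · omega
      · exact (CfsgLib.NT.SylowFifteen.false_of_simple h).elim
  rw [List.prod_eq_one hall] at hl
  norm_num at hl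
end Cfsg.Agent.S4304
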