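import Cfsg.Statements.S4306
import Cfsg.Agent.Lib.Solvable.FPFOperators.PQHeight
-- import your own Cfsg.Agent.* helpers here

set_option autoImplicit false
open Cfsg

namespace Cfsg.Agent.S4306

/-- Let `A` be a non-abelian group of order `pq` with `p, q` distinct primes, acting by automorphisms on a finite solvable group `G` of order prime to `pq`, so that only the identity of `G` is fixed by all of `A`. Then `G` has Fitting height at most 2: there is a normal nilpotent subgroup `F` of `G` with `G/F` nilpotent. -/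
theorem result {G A : Type*} [Group G] [Finite G]
    [Group.IsSolvable G] [Group A] [Finite A] [MulDistribMulAction A G] (p q : ℕ) (hp : p.Prime) (hq : q.Prime) (hpq : p ≠ q)
    (hA : Nat.card A = p * q) (hAna : ¬ IsMulCommutative A) (hcop : (Nat.card G).Coprime (p * q))
    (hfpf : ∀ g : G, (∀ a : A, a • g = g) → g = 1) :
    ∃ F : Subgroup G, ∃ hF : F.Normal, Group.IsNilpotent ↥F ∧ Group.IsNilpotent (G ⧸ F) := by
  classical
  open CfsgLib.Solvable.FPFOperators in
  have key : ∃ k, (⊤ : Subgroup G).lowerCentralSeries k ≤ Cfsg.fittingSubgroup G := by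
    rcases hpq.lt_or_gt with hlt | hlt
    · exact exists_nilpotent_pq_action inferInstance hp hq hlt hA hAna hcop hfpf
    · exact exists_nilpotent_pq_action inferInstance hq hp hlt (hA.trans (mul_comm p q)) hAna
        (mul_comm p q ▸ hcop) hfpf
  obtain ⟨k, hk⟩ := key
  refine ⟨Cfsg.fittingSubgroup G, inferInstance, ?_, ?_⟩
  · rw [CfsgLib.Solvable.Cores.fittingSubgroup_eq_iSup_pCore]
    exact CfsgLib.Solvable.Cores.iSup_pCore_isNilpotent
  suffices h0 : (⊤ : Subgroup (G ⧸ Cfsg.fittingSubgroup G)).lowerCentralSeries k = ⊥ from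
    haveI := (Subgroup.isNilpotent_iff_lowerCentralSeries _).mpr ⟨k, h0⟩
    Group.nilpotent_of_mulEquiv Subgroup.topEquiv
  have h1 := Subgroup.map_lowerCentralSeries (S := (⊤ : Subgroup G)) (QuotientGroup.mk' (Cfsg.fittingSubgroup G)) k
  rw [Subgroup.map_top_of_surjective _ (QuotientGroup.mk'_surjective _)] at h1
  rw [← h1, Subgroup.map_eq_bot_iff, QuotientGroup.ker_mk']
  exact hk

end Cfsg.Agent.S4306
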