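import Cfsg.Statements.S4314
import Cfsg.Agent.Lib.Derangements.Basic

set_option autoImplicit false
open Cfsg

namespace Cfsg.Agent.S4314

open Subgroup
open scoped commutatorElement

section
variable {G : Type*} [Group G] [Finite G]

local notation "Cz" g => Subgroup.centralizer ({g} : Set _)

theorem cz_le_pow (g : G) (n : ℕ) : (Cz g) ≤ Cz (g ^ n) := fun b hb => by
  rw [mem_centralizer_singleton_iff] at hb ⊢
  exact ((show Commute b g from hb).pow_right n).eq

theorem cz_top {g : G} (h : (Cz g).index = 1) : g ∈ center G := by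
  rw [index_eq_one] at h
  exact mem_center_iff.2 fun b => mem_centralizer_singleton_iff.1 (h ▸ mem_top b)

theorem prime_index (h : ∀ x : G, (Cz x).index = 1 ∨ (Cz x).index.Prime) {g : G}
    (hg : g ∉ center G) : (Cz g).index.Prime :=
  (h g).resolve_left fun e => hg (cz_top e)

theorem cz_eq_of_le (h : ∀ x : G, (Cz x).index = 1 ∨ (Cz x).index.Prime) {g k : G}
    (hg : g ∉ center G) (hk : k ∉ center G) (hle : (Cz g) ≤ Cz k) : (Cz g) = Cz k := by
  refine le_antisymm hle ?_
  rw [← relIndex_eq_one]
  have h1 := relIndex_mul_index hle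
  rcases (Nat.prime_dvd_prime_iff_eq (prime_index h hk) (prime_index h hg)).1 ⟨_, by
    rw [← h1, mul_comm]⟩ with e
  rw [e] at h1
  exact (mul_eq_right₀ (prime_index h hg).ne_zero).1 h1

theorem exists_powers {n : ℕ} (P : ℕ → Prop) (h0 : ∀ a, IsPrimePow a → a ∣ n → P a) (h1 : P 1)
    (hmul : ∀ a b, a.Coprime b → 1 < a → 1 < b → a * b ∣ n → P a → P b → P (a * b)) (hn : n ≠ 0) :
    P n := by
  suffices ∀ m, m ∣ n → P m from this n dvd_rfl
  intro m
  induction m using Nat.recOnPosPrimePosCoprime with
  | prime_pow q k hq hk => exact fun hd => h0 _ ⟨q, k, hq.prime, hk, rfl⟩ hd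
  | zero => exact fun hd => absurd (Nat.eq_zero_of_zero_dvd hd) hn
  | one => exact fun _ => h1
  | coprime a b ha hb hab iha ihb =>
    exact fun hd => hmul a b hab ha hb hd (iha (dvd_of_mul_right_dvd hd)) (ihb (dvd_of_mul_left_dvd hd))

/-- A noncentral element has a noncentral power of prime power order. -/
theorem exists_part {g : G} (hg : g ∉ center G) :
    ∃ m : ℕ, g ^ m ∉ center G ∧ IsPrimePow (orderOf (g ^ m)) := by
  by_contra hne
  simp only [not_exists, not_and] at hne
  have key : ∀ k : G, (∃ m : ℕ, k = g ^ m) → k ∈ center G := by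
    suffices ∀ n : ℕ, ∀ k : G, orderOf k = n → (∃ m : ℕ, k = g ^ m) → k ∈ center G from
      fun k => this _ k rfl
    intro n
    induction n using Nat.recOnPosPrimePosCoprime with
    | prime_pow q j hq hj =>
      rintro k hk ⟨m, rfl⟩
      by_contra hc
      exact hne m hc (hk ▸ ⟨q, j, hq.prime, hj, rfl⟩)
    | zero => exact fun k hk => absurd hk (orderOf_pos k).ne'
    | one =>
      intro k hk _
      rw [orderOf_eq_one_iff.1 hk]
      exact one_mem _
    | coprime a b ha hb hab iha ihb =>
      rintro k hk ⟨m, rfl⟩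
      have e1 : orderOf ((g ^ m) ^ b) = a := by
        rw [orderOf_pow' _ (by omega), hk, Nat.gcd_eq_right (dvd_mul_left b a),
          Nat.mul_div_cancel _ (by omega)]
      have e2 : orderOf ((g ^ m) ^ a) = b := by
        rw [orderOf_pow' _ (by omega), hk, Nat.gcd_eq_right (dvd_mul_right a b),
          Nat.mul_div_cancel_left _ (by omega)]
      have i1 := iha _ e1 ⟨m * b, by rw [pow_mul]⟩
      have i2 := ihb _ e2 ⟨m * a, by rw [pow_mul]⟩
      have hb' := Nat.gcd_eq_gcd_ab b a
      rw [Nat.coprime_comm.1 hab] at hb'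
      rw [← zpow_one (g ^ m), show (1 : ℤ) = _ from hb', zpow_add, zpow_mul, zpow_mul, zpow_natCast,
        zpow_natCast]
      exact mul_mem (zpow_mem i1 _) (zpow_mem i2 _)
  exact hg (key g ⟨1, (pow_one g).symm⟩)

theorem cz_eq_of_coprime (h : ∀ x : G, (Cz x).index = 1 ∨ (Cz x).index.Prime) {g k : G}
    (hg : g ∉ center G) (hk : k ∉ center G) (hc : Commute g k)
    (hco : (orderOf g).Coprime (orderOf k)) : (Cz g) = Cz k := by
  obtain ⟨i, hi⟩ := exists_pow_eq_self_of_coprime (x := g) hco.symm
  obtain ⟨j, hj⟩ := exists_pow_eq_self_of_coprime (x := k) hco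
  have hgp : g = (g * k) ^ (orderOf k * i) := by
    rw [hc.mul_pow, pow_mul k, pow_orderOf_eq_one, one_pow, mul_one, pow_mul, hi]
  have hkp : k = (g * k) ^ (orderOf g * j) := by
    rw [hc.mul_pow, pow_mul g, pow_orderOf_eq_one, one_pow, one_mul, pow_mul, hj]
  have hgk : g * k ∉ center G := fun hm => hg (hgp ▸ pow_mem hm _)
  have h1 : (Cz (g * k)) ≤ Cz g := (cz_le_pow (g * k) (orderOf k * i)).trans_eq (by rw [← hgp])
  have h2 : (Cz (g * k)) ≤ Cz k := (cz_le_pow (g * k) (orderOf g * j)).trans_eq (by rw [← hkp])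
  rw [← cz_eq_of_le h hgk hg h1, ← cz_eq_of_le h hgk hk h2]

/-- The part of `g` of order prime to `r`. -/
theorem exists_coprime_pow (g : G) {r : ℕ} (hr : r.Prime) :
    ∃ k : ℕ, (orderOf (g ^ r ^ k)).Coprime r := by
  refine ⟨(orderOf g).factorization r, ?_⟩
  rw [orderOf_pow' g (pow_ne_zero _ hr.ne_zero), Nat.gcd_eq_right (Nat.ordProj_dvd _ _)]
  exact (Nat.coprime_ordCompl hr (orderOf_pos g).ne').symm

theorem commuting_same_index (h : ∀ x : G, (Cz x).index = 1 ∨ (Cz x).index.Prime) {x t : G}
    (hx : x ∉ center G) (ht : t ∉ center G) (hxo : IsPrimePow (orderOf x))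
    (hto : IsPrimePow (orderOf t)) (hc : Commute x t) : (Cz x).index = (Cz t).index := by
  obtain ⟨r, i, hr, hi, hxr⟩ := hxo
  obtain ⟨s, j, hs, hj, hts⟩ := hto
  rw [← Nat.prime_iff] at hr hs
  by_cases hrs : r = s
  swap
  · rw [cz_eq_of_coprime h hx ht hc (by
      rw [← hxr, ← hts]; exact Nat.Coprime.pow i j ((Nat.coprime_primes hr hs).2 hrs))]
  subst hrs
  by_contra hne
  have : Fact r.Prime := ⟨hr⟩
  have hexp : ∀ u : G, ∀ a b : G, a ∉ center G → b ∉ center G → IsPrimePow (orderOf b) →
      orderOf a = r ^ i ∧ orderOf b = r ^ j ∨ orderOf a = r ^ j ∧ orderOf b = r ^ i →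
      (Cz a).index ≠ (Cz b).index → Commute a b → u ∈ (Cz a) → ∃ k : ℕ, u ^ r ^ k ∈ center G := by
    intro u a b ha hb _ ho hab hcab hu
    obtain ⟨k, hk⟩ := exists_coprime_pow u hr
    refine ⟨k, ?_⟩
    by_contra hw
    set w := u ^ r ^ k with hwdef
    obtain ⟨e, hea⟩ : ∃ e, orderOf a = r ^ e := by rcases ho with ho | ho <;> exact ⟨_, ho.1⟩
    obtain ⟨e', heb⟩ : ∃ e, orderOf b = r ^ e := by rcases ho with ho | ho <;> exact ⟨_, ho.2⟩
    have hwa : Commute w a := (show Commute u a from mem_centralizer_singleton_iff.1 hu).pow_left _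
    have e1 := cz_eq_of_coprime h hw ha hwa (hea ▸ hk.pow_right e)
    have hwb : Commute b w := by
      rw [Commute, SemiconjBy, ← mem_centralizer_singleton_iff, e1, mem_centralizer_singleton_iff]
      exact hcab.eq.symm
    have e2 := cz_eq_of_coprime h hw hb hwb.symm (heb ▸ hk.pow_right e')
    exact hab (by rw [← e1, ← e2])
  have hcard : ∀ a : G, (∀ u ∈ (Cz a), ∃ k : ℕ, u ^ r ^ k ∈ center G) →
      ∃ e, (center G).index = r ^ e * (Cz a).index := by
    intro a ha
    have hle : center G ≤ (Cz a) := fun b hb =>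
      mem_centralizer_singleton_iff.2 (mem_center_iff.1 hb a).symm
    have hp : IsPGroup r ((Cz a) ⧸ (center G).subgroupOf (Cz a)) := by
      intro q
      obtain ⟨⟨u, hu⟩, rfl⟩ := QuotientGroup.mk_surjective q
      obtain ⟨k, hk⟩ := ha u hu
      exact ⟨k, by rw [← QuotientGroup.mk_pow, QuotientGroup.eq_one_iff, mem_subgroupOf]; exact hk⟩
    obtain ⟨e, he⟩ := IsPGroup.iff_card.1 hp
    refine ⟨e, ?_⟩
    rw [← relIndex_mul_index hle, ← he, relIndex, index_eq_card]
  obtain ⟨e, he⟩ := hcard x fun u hu => hexp u x t hx ht ⟨r, j, hs.prime, hj, hts⟩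
    (Or.inl ⟨hxr.symm, hts.symm⟩) hne hc hu
  obtain ⟨e', he'⟩ := hcard t fun u hu => hexp u t x ht hx ⟨r, i, hr.prime, hi, hxr⟩
    (Or.inr ⟨hts.symm, hxr.symm⟩) (Ne.symm hne) hc.symm hu
  have hp := prime_index h hx
  have hq := prime_index h ht
  have key : ∀ {p q a b : ℕ}, p.Prime → q.Prime → r ^ a * p = r ^ b * q → p ≠ r → p = q := by
    intro p q a b hp hq he hpr
    refine (Nat.prime_dvd_prime_iff_eq hp hq).1 ?_
    exact (((Nat.coprime_primes hp hr).2 hpr).pow_right b).dvd_of_dvd_mul_left ⟨r ^ a, by rw [← he, mul_comm]⟩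
  by_cases hpr : (Cz x).index = r
  · exact hne (key hq hp (he'.symm.trans he) (fun e => hne (hpr.trans e.symm))).symm
  · exact hne (key hp hq (he.symm.trans he') hpr)

theorem eq_top_of_meets (H : Subgroup G) (h : ∀ g : G, ∃ a : G, a⁻¹ * g * a ∈ H) : H = ⊤ := by
  by_contra hne
  have : Nontrivial (G ⧸ H) := QuotientGroup.nontrivial_iff.2 hne
  obtain ⟨g, hg⟩ := CfsgLib.Derangements.Basic.exists_derangement (G := G) (Ω := G ⧸ H)
  obtain ⟨a, ha⟩ := h g
  refine hg (a : G ⧸ H) ?_
  rw [MulAction.Quotient.smul_coe, smul_eq_mul, QuotientGroup.eq]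
  have e : (g * a)⁻¹ * a = (a⁻¹ * g * a)⁻¹ := by group
  rw [e]
  exact inv_mem ha

end


/-- Let `G` be a finite group every conjugacy class of which has size 1 or a prime. Then either `G` is nilpotent of class at most 2, or `G/Z(G)` is a non-abelian group of order `pq` for distinct primes `p, q` (a Frobenius group of order `pq`). -/
theorem result {G : Type*} [Group G] [Finite G]
    (h : ∀ x : G, (Subgroup.centralizer ({x} : Set G)).index = 1 ∨ ((Subgroup.centralizer ({x} : Set G)).index).Prime) :
    Subgroup.upperCentralSeries G 2 = ⊤ ∨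
      ∃ p q : ℕ, p.Prime ∧ q.Prime ∧ p ≠ q ∧ Nat.card (G ⧸ Subgroup.center G) = p * q ∧ ¬ IsMulCommutative (G ⧸ Subgroup.center G) := by
  by_cases hab : ∃ x y : G, x ∉ Subgroup.center G ∧ y ∉ Subgroup.center G ∧
      (centralizer ({x} : Set G)).index ≠ (centralizer ({y} : Set G)).index
  · obtain ⟨x, y, hx, hy, hne⟩ := hab
    by_cases hA : IsMulCommutative (G ⧸ center G)
    · left
      rw [eq_top_iff']
      intro g
      rw [show (2 : ℕ) = 1 + 1 from rfl, Subgroup.mem_upperCentralSeries_succ_iff]
      intro b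
      rw [Subgroup.upperCentralSeries_one, ← QuotientGroup.eq_one_iff]
      simp only [commutatorElement_def, QuotientGroup.mk_mul, QuotientGroup.mk_inv]
      rw [hA.is_comm.comm (g : G ⧸ center G) (b : G ⧸ center G)]
      group
    right
    set p := (centralizer ({x} : Set G)).index with hp
    set q := (centralizer ({y} : Set G)).index with hq
    refine ⟨p, q, prime_index h hx, prime_index h hy, hne, ?_, hA⟩
    set D := centralizer ({x} : Set G) ⊓ centralizer ({y} : Set G) with hD
    have hDZ : D = center G := by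
      refine le_antisymm (fun t ht => ?_) (le_inf ?_ ?_)
      · by_contra htc
        obtain ⟨m, htm, hmo⟩ := exists_part htc
        have htd : t ^ m ∈ D := pow_mem ht m
        have key : ∀ a : G, a ∉ center G → t ^ m ∈ centralizer ({a} : Set G) →
            (centralizer ({a} : Set G)).index = (centralizer ({t ^ m} : Set G)).index := by
          intro a ha hta
          obtain ⟨l, hal, hlo⟩ := exists_part ha
          rw [cz_eq_of_le h ha hal (cz_le_pow a l)]
          exact commuting_same_index h hal htm hlo hmo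
            (mem_centralizer_singleton_iff.1 (cz_le_pow a l hta) : Commute (t ^ m) (a ^ l)).symm
        exact hne ((key x hx (mem_inf.1 htd).1).trans (key y hy (mem_inf.1 htd).2).symm)
      · exact fun b hb => mem_centralizer_singleton_iff.2 (mem_center_iff.1 hb x).symm
      · exact fun b hb => mem_centralizer_singleton_iff.2 (mem_center_iff.1 hb y).symm
    rw [← index_eq_card, ← hDZ]
    have h1 : D.index ≤ p * q := index_inf_le
    have h2 : p * q ∣ D.index := ((Nat.coprime_primes (prime_index h hx) (prime_index h hy)).2 hne).mul_dvd_of_dvd_of_dvd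
      (index_dvd_of_le inf_le_left) (index_dvd_of_le inf_le_right)
    exact le_antisymm h1 (Nat.le_of_dvd (Nat.pos_of_ne_zero index_ne_zero_of_finite) h2)
  left
  simp only [not_exists, not_and, not_not] at hab
  -- all noncentral classes have the same prime length
  by_cases hz : ∀ g : G, g ∈ center G
  · rw [eq_top_iff']
    intro g
    rw [show (2 : ℕ) = 1 + 1 from rfl, Subgroup.mem_upperCentralSeries_succ_iff]
    intro b
    rw [Subgroup.upperCentralSeries_one]
    exact hz _
  simp only [not_forall] at hz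
  obtain ⟨x0, hx0⟩ := hz
  have hp0 := prime_index h hx0
  set p := (centralizer ({x0} : Set G)).index with hpdef
  have : Fact p.Prime := ⟨hp0⟩
  have hsyl : ∀ s : ℕ, s.Prime → s ≠ p → ¬ s ∣ (center G).index := by
    intro s hs hsp
    have : Fact s.Prime := ⟨hs⟩
    let Q : Sylow s G := default
    have hQ : (Q : Subgroup G) ≤ center G := by
      suffices centralizer ((Q : Subgroup G) : Set G) = ⊤ by
        intro b hb
        refine mem_center_iff.2 fun g => ?_
        exact (mem_centralizer_iff.1 (this ▸ mem_top g) b hb).symm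
      refine eq_top_of_meets _ fun g => ?_
      set C := centralizer ({g} : Set G)
      have hni : ¬ s ∣ C.index := by
        intro hd
        rcases h g with e | e
        · rw [e] at hd
          exact hs.one_lt.ne' (Nat.dvd_one.1 hd)
        · refine hsp ((Nat.prime_dvd_prime_iff_eq hs hp0).1 ?_)
          rw [hpdef, ← hab g x0 (fun hg => e.ne_one (index_eq_one.2 (eq_top_iff.2 fun b _ =>
            mem_centralizer_singleton_iff.2 (mem_center_iff.1 hg b)))) hx0]
          exact hd
      let R : Sylow s C := default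
      have hRp : IsPGroup s ((R : Subgroup C).map C.subtype) := R.isPGroup'.map _
      have hcard : Nat.card ((R : Subgroup C).map C.subtype) = s ^ (Nat.card G).factorization s := by
        rw [card_map_of_injective C.subtype_injective, R.card_eq_multiplicity, ← C.card_mul_index,
          Nat.factorization_mul Nat.card_pos.ne' index_ne_zero_of_finite]
        simp [Nat.factorization_eq_zero_of_not_dvd hni]
      let R' : Sylow s G := Sylow.ofCard _ hcard
      obtain ⟨a, ha⟩ := MulAction.exists_smul_eq G Q R'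
      refine ⟨a, mem_centralizer_iff.2 fun b hb => ?_⟩
      have hm : a * b * a⁻¹ ∈ (R' : Subgroup G) := by
        rw [← ha]
        show a * b * a⁻¹ ∈ ((a • Q : Sylow s G) : Subgroup G)
        rw [Sylow.coe_subgroup_smul]
        exact mem_map_of_mem _ hb
      obtain ⟨⟨c, hc⟩, -, hce⟩ := (show a * b * a⁻¹ ∈ (R : Subgroup C).map C.subtype from hm)
      have hcomm := mem_centralizer_singleton_iff.1 hc
      have hce' : c = a * b * a⁻¹ := hce
      rw [hce'] at hcomm
      calc b * (a⁻¹ * g * a) = a⁻¹ * ((a * b * a⁻¹) * g) * a := by group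
        _ = a⁻¹ * (g * (a * b * a⁻¹)) * a := by rw [hcomm]
        _ = a⁻¹ * g * a * b := by group
    exact fun hd => Q.not_dvd_index (hd.trans (index_dvd_of_le hQ))
  have hQp : IsPGroup p (G ⧸ center G) := by
    refine IsPGroup.iff_card.2 ⟨_, Nat.eq_prime_pow_of_unique_prime_dvd Nat.card_pos.ne' ?_⟩
    intro d hd hdd
    by_contra hdp
    exact hsyl d hd hdp (index_eq_card (center G) ▸ hdd)
  have hnil : Group.IsNilpotent G := Group.of_quotient_center_nilpotent hQp.isNilpotent
  rw [eq_top_iff']
  intro g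
  rw [show (2 : ℕ) = 1 + 1 from rfl, Subgroup.mem_upperCentralSeries_succ_iff]
  intro b
  rw [Subgroup.upperCentralSeries_one, mem_center_iff]
  intro z
  -- the commutator centralises `z`
  rcases h z with hz1 | hzp
  · exact (mem_center_iff.1 (cz_top hz1) _).symm
  set C := centralizer ({z} : Set G)
  have hCn : C.Normal := by
    rcases eq_or_ne (normalizer (C : Set G)) ⊤ with e | e
    · exact normalizer_eq_top_iff.1 e
    · have hlt : C < normalizer (C : Set G) := Group.normalizerCondition_of_isNilpotent C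
        (lt_top_iff_ne_top.2 fun e => hzp.ne_one (index_eq_one.2 e))
      have h1 := relIndex_mul_index hlt.le
      rcases hzp.eq_one_or_self_of_dvd _ (index_dvd_of_le hlt.le) with e1 | e1
      · exact absurd (index_eq_one.1 e1) e
      · rw [e1] at h1
        exact absurd (relIndex_eq_one.1 ((mul_eq_right₀ hzp.ne_zero).1 h1)) (not_le_of_gt hlt)
  have : Fact C.index.Prime := ⟨hzp⟩
  have hcyc : IsCyclic (G ⧸ C) := isCyclic_of_prime_card (p := C.index) (index_eq_card C).symm
  have hm : ⁅g, b⁆ ∈ C := by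
    rw [← QuotientGroup.eq_one_iff]
    simp only [commutatorElement_def, QuotientGroup.mk_mul, QuotientGroup.mk_inv]
    rw [hcyc.isMulCommutative.is_comm.comm (g : G ⧸ C) (b : G ⧸ C)]
    group
  exact (mem_centralizer_singleton_iff.1 hm).symm

end Cfsg.Agent.S4314
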