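import Cfsg.Statements.S4321
import Cfsg.Agent.Lib.PGroup.CountPElements
import Cfsg.Agent.Lib.PGroup.Frattini
import Cfsg.Agent.Lib.Coprime.Action
import Cfsg.Agent.Lib.Solvable.Cores
import Cfsg.Agent.Lib.Solvable.FrattiniFitting

set_option autoImplicit false
open Cfsg
open scoped Pointwise commutatorElement
open Subgroup

namespace Cfsg.Agent.S4321

variable {G : Type*} [Group G] {p : ℕ}

/-- Two numbers divide the size of the class of one `p`-singular element. -/
def Adj (G : Type*) [Group G] (p t u : ℕ) : Prop :=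
  ∃ x : G, p ∣ orderOf x ∧ t ∣ (centralizer ({x} : Set G)).index ∧ u ∣ (centralizer ({x} : Set G)).index

lemma Adj.symm {t u : ℕ} (h : Adj G p t u) : Adj G p u t := by
  obtain ⟨x, h1, h2, h3⟩ := h; exact ⟨x, h1, h3, h2⟩

lemma index_dvd_mono {x y : G} (h : ∀ g, g * x = x * g → g * y = y * g) :
    (centralizer ({y} : Set G)).index ∣ (centralizer ({x} : Set G)).index :=
  index_dvd_of_le fun g hg => mem_centralizer_singleton_iff.2 (h g (mem_centralizer_singleton_iff.1 hg))

lemma index_centralizer_conj (g x : G) :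
    (centralizer ({g * x * g⁻¹} : Set G)).index = (centralizer ({x} : Set G)).index := by
  rw [← index_map_equiv (centralizer ({x} : Set G)) (MulAut.conj g)]
  congr 1
  ext w
  rw [mem_centralizer_singleton_iff]
  constructor
  · intro hw
    refine ⟨g⁻¹ * w * g, mem_centralizer_singleton_iff.2 ?_, by simp [mul_assoc]⟩
    calc g⁻¹ * w * g * x = g⁻¹ * (w * (g * x * g⁻¹)) * g := by group
      _ = x * (g⁻¹ * w * g) := by rw [hw]; group
  · rintro ⟨c, hc, rfl⟩
    have hc' : c * x = x * c := mem_centralizer_singleton_iff.1 hc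
    show g * c * g⁻¹ * (g * x * g⁻¹) = g * x * g⁻¹ * (g * c * g⁻¹)
    calc g * c * g⁻¹ * (g * x * g⁻¹) = g * (c * x) * g⁻¹ := by group
      _ = g * x * g⁻¹ * (g * c * g⁻¹) := by rw [hc']; group

/-- `p`- and `p'`-parts together with the centraliser inclusions. -/
lemma parts [Finite G] [Fact p.Prime] (x : G) : ∃ a b : G, a * b = x ∧ Commute a b ∧
    (∃ k, orderOf a = p ^ k) ∧ ¬ p ∣ orderOf b ∧
    (∀ g, g * x = x * g → g * a = a * g ∧ g * b = b * g) ∧ (p ∣ orderOf x → a ≠ 1) := by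
  obtain ⟨a, b, hab, hc, ha, hb⟩ := CfsgLib.PGroup.CountPElements.exists_decomp (p := p) x
  refine ⟨a, b, hab, hc, ha, hb, fun g hg => ?_, fun hx h1 => hb (by rwa [← hab, h1, one_mul] at hx)⟩
  have h1 : a = g * a * g⁻¹ := CfsgLib.PGroup.CountPElements.decomp_left_unique hc
    (hc.map (MulAut.conj g).toMonoidHom) ha
    (by obtain ⟨k, hk⟩ := ha; exact ⟨k, hk ▸ (MulAut.conj g).orderOf_eq a⟩) hb
    (by
      have : orderOf ((MulAut.conj g) b) = orderOf b := (MulAut.conj g).orderOf_eq b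
      rw [MulAut.conj_apply] at this
      show ¬ p ∣ orderOf (g * b * g⁻¹)
      rwa [this])
    (by
      show a * b = g * a * g⁻¹ * (g * b * g⁻¹)
      rw [show g * a * g⁻¹ * (g * b * g⁻¹) = g * (a * b) * g⁻¹ by group, hab, hg, mul_inv_cancel_right])
  have h2 : g * a = a * g := (mul_inv_eq_iff_eq_mul.1 h1.symm)
  refine ⟨h2, ?_⟩
  have hb' : b = a⁻¹ * x := by rw [← hab, inv_mul_cancel_left]
  have h3 : Commute g a⁻¹ := (show Commute g a from h2).inv_right
  rw [hb']
  exact (h3.mul_right (show Commute g x from hg)).eq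

variable [Finite G] [Fact p.Prime] (P : Sylow p G)

lemma mem_sylow {a : G} (ha : ∃ k, orderOf a = p ^ k) (hc : ∀ g ∈ (P : Subgroup G), g * a = a * g) :
    a ∈ (P : Subgroup G) := by
  obtain ⟨k, hk⟩ := ha
  have hZ : IsPGroup p (zpowers a) := IsPGroup.of_card ((Nat.card_zpowers a).trans hk)
  have hle : (P : Subgroup G) ≤ normalizer (zpowers a : Set G) :=
    le_trans (fun g hg => mem_centralizer_iff.2 fun w hw => by
      obtain ⟨i, rfl⟩ := mem_zpowers_iff.1 hw
      exact ((show Commute g a from hc g hg).zpow_right i).symm.eq) (centralizer_le_normalizer _)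
  have h := P.is_maximal' (hZ.to_sup_of_normal_left' P.isPGroup' hle) le_sup_right
  exact h ▸ mem_sup_left (mem_zpowers a)

/-- An element whose class size is prime to `p` has a conjugate centralised by `P`. -/
lemma exists_conj {x : G} (hx : ¬ p ∣ (centralizer ({x} : Set G)).index) :
    ∃ g : G, ∀ w ∈ (P : Subgroup G), w * (g * x * g⁻¹) = g * x * g⁻¹ * w := by
  obtain ⟨R⟩ : Nonempty (Sylow p (centralizer ({x} : Set G))) := inferInstance
  have hR : ¬ p ∣ ((R : Subgroup _).map (centralizer ({x} : Set G)).subtype).index := by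
    rw [index_map_subtype]
    exact (Fact.out : p.Prime).not_dvd_mul R.not_dvd_index hx
  obtain ⟨g, hg⟩ := MulAction.exists_smul_eq G ((R.isPGroup'.map _).toSylow hR) P
  refine ⟨g, fun w hw => ?_⟩
  rw [← hg, Sylow.coe_subgroup_smul, mem_pointwise_smul_iff_inv_smul_mem] at hw
  obtain ⟨c, -, hc⟩ := hw
  have h := mem_centralizer_singleton_iff.1 c.2
  have hw' : w = g * (c : G) * g⁻¹ := by
    rw [show (c : G) = _ from hc]; simp [MulAut.smul_def, mul_assoc]
  rw [hw']
  calc g * (c : G) * g⁻¹ * (g * x * g⁻¹) = g * ((c : G) * x) * g⁻¹ := by group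
    _ = g * x * g⁻¹ * (g * (c : G) * g⁻¹) := by rw [h]; group

lemma exists_mem_ne_one {H : Type*} [Group H] {K : Subgroup H} (h : K ≠ ⊥) : ∃ x ∈ K, x ≠ 1 := by
  by_contra hne
  push Not at hne
  exact h ((eq_bot_iff_forall _).2 hne)

lemma pel_mem {H : Subgroup G} (hH : IsPGroup p H) {y : G} (hy : y ∈ H) : ∃ k, orderOf y = p ^ k :=
  CfsgLib.PGroup.Basic.exists_orderOf_eq_pow_of_mem hH hy

/-- A product of commuting `p`- and `p'`-elements, with its parts. -/
lemma prod_parts {a b : G} (ha : ∃ k, orderOf a = p ^ k) (ha1 : a ≠ 1) (hb : ¬ p ∣ orderOf b)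
    (hab : a * b = b * a) : p ∣ orderOf (a * b) ∧
      ∀ g, g * (a * b) = a * b * g → g * a = a * g ∧ g * b = b * g := by
  have hp : p.Prime := Fact.out
  obtain ⟨a', b', he, hc', ha', hb', hcen, -⟩ := parts (p := p) (a * b)
  obtain rfl : a' = a :=
    CfsgLib.PGroup.CountPElements.decomp_left_unique hc' hab ha' ha hb' hb he
  obtain rfl : b' = b := mul_left_cancel he
  refine ⟨?_, hcen⟩
  obtain ⟨k, hk⟩ := ha
  rw [Commute.orderOf_mul_eq_mul_orderOf_of_coprime hab
    (hk ▸ (hp.coprime_iff_not_dvd.2 hb).pow_left k), hk]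
  refine (dvd_pow_self p ?_).mul_right _
  rintro rfl
  exact ha1 (orderOf_eq_one_iff.1 (by simpa using hk))

/-- Under the hypothesis `hK`, an element with no mixed companions commutes only with central
`p'`-elements. -/
lemma central_of_no_mixed (hK : ∀ b : G, ¬ p ∣ orderOf b →
      (∀ w ∈ (P : Subgroup G), w * b = b * w) → b ∈ center G)
    {a : G} (ha : ∃ k, orderOf a = p ^ k) (ha1 : a ≠ 1)
    (hmix : ∀ c : G, ¬ p ∣ orderOf c → c * a = a * c → ¬ p ∣ (centralizer ({a * c} : Set G)).index) :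
    ∀ c : G, ¬ p ∣ orderOf c → c * a = a * c → c ∈ center G := by
  intro c hc hca
  obtain ⟨g, hg⟩ := exists_conj P (hmix c hc hca)
  have hcen := (prod_parts ha ha1 hc hca.symm).2
  have hmem : g * c * g⁻¹ ∈ center G := by
    refine hK _ (by rw [← MulAut.conj_apply, (MulAut.conj g).orderOf_eq]; exact hc) fun w hw => ?_
    have h1 : (g⁻¹ * w * g) * (a * c) = a * c * (g⁻¹ * w * g) := by
      have h := hg w hw
      calc g⁻¹ * w * g * (a * c) = g⁻¹ * (w * (g * (a * c) * g⁻¹)) * g := by group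
        _ = a * c * (g⁻¹ * w * g) := by rw [h]; group
    have h2 := (hcen _ h1).2
    calc w * (g * c * g⁻¹) = g * ((g⁻¹ * w * g) * c) * g⁻¹ := by group
      _ = g * c * g⁻¹ * w := by rw [h2]; group
  have := (inferInstance : (center G).Normal).conj_mem _ hmem g⁻¹
  rwa [show g⁻¹ * (g * c * g⁻¹) * (g⁻¹)⁻¹ = c by group] at this

/-- If the class of `y ∈ P` has `p`-power size, `P` is already transitive on it. -/
lemma exists_conj_eq {y : G} {k : ℕ} (hk : (centralizer ({y} : Set G)).index = p ^ k) (g : G) :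
    ∃ n ∈ (P : Subgroup G), g * y * g⁻¹ = n * y * n⁻¹ := by
  classical
  set C := centralizer ({y} : Set G) with hC
  have hp : p.Prime := Fact.out
  have h1 : C.index ∣ C.relIndex (P : Subgroup G) := by
    have h := index_dvd_of_le (inf_le_left : C ⊓ (P : Subgroup G) ≤ C)
    rw [← relIndex_mul_index (inf_le_right (a := C) (b := (P : Subgroup G))), inf_relIndex_right] at h
    exact ((hk ▸ (hp.coprime_iff_not_dvd.2 P.not_dvd_index).pow_left k : Nat.Coprime C.index (P : Subgroup G).index)).dvd_of_dvd_mul_right h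
  have h2 : C.index ≤ (MulAction.orbit (P : Subgroup G) ((1 : G) : G ⧸ C)).ncard := by
    rw [← MulAction.index_stabilizer]
    refine Nat.le_of_dvd (Nat.pos_of_ne_zero index_ne_zero_of_finite) (h1.trans (dvd_of_eq ?_))
    show (C.subgroupOf (P : Subgroup G)).index = _
    congr 1
    ext n
    rw [mem_subgroupOf, MulAction.mem_stabilizer_iff]
    show _ ↔ ((((n : G) * 1 : G)) : G ⧸ C) = ((1 : G) : G ⧸ C)
    rw [mul_one, QuotientGroup.eq, mul_one, inv_mem_iff]
  have h3 : MulAction.orbit (P : Subgroup G) ((1 : G) : G ⧸ C) = Set.univ :=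
    Set.eq_of_subset_of_ncard_le (Set.subset_univ _) (by rw [Set.ncard_univ]; exact h2) Set.finite_univ
  obtain ⟨n, hn⟩ := h3.ge (Set.mem_univ (g : G ⧸ C))
  change ((((n : G) * 1 : G)) : G ⧸ C) = (g : G ⧸ C) at hn
  rw [mul_one, QuotientGroup.eq] at hn
  refine ⟨n, n.2, ?_⟩
  have h := mem_centralizer_singleton_iff.1 hn
  calc g * y * g⁻¹ = (n : G) * ((n : G)⁻¹ * g * y) * g⁻¹ := by group
    _ = (n : G) * y * (n : G)⁻¹ := by rw [h]; group

/-- The prime `p` is not isolated. -/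
lemma false_of_isolated (hnc : ∀ a : G, (∃ k, orderOf a = p ^ k) → a ≠ 1 → a ∉ center G)
    (hK : ∀ b : G, ¬ p ∣ orderOf b → (∀ w ∈ (P : Subgroup G), w * b = b * w) → b ∈ center G)
    (hne : ∀ w : ℕ, w.Prime → w ≠ p → ¬ Adj G p p w)
    (hv : ∃ x : G, p ∣ orderOf x ∧ p ∣ (centralizer ({x} : Set G)).index) : False := by
  classical
  have hp : p.Prime := Fact.out
  have hpow : ∀ x : G, p ∣ orderOf x → p ∣ (centralizer ({x} : Set G)).index →
      ∃ k, (centralizer ({x} : Set G)).index = p ^ k := fun x hx hpx =>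
    ⟨_, Nat.eq_prime_pow_of_unique_prime_dvd index_ne_zero_of_finite fun {q} hq hqd =>
      by_contra fun hqp => hne q hq hqp ⟨x, hx, hpx, hqd⟩⟩
  have hsing : ∀ a : G, (∃ k, orderOf a = p ^ k) → a ≠ 1 → p ∣ orderOf a := fun a ha ha1 => by
    simpa using (prod_parts ha ha1 (b := (1 : G)) (by simpa using hp.one_lt.ne') (by simp)).1
  -- elements whose class size is prime to `p`
  have hA : ∀ y : G, (∃ k, orderOf y = p ^ k) → y ≠ 1 → ¬ p ∣ (centralizer ({y} : Set G)).index →
      ∀ c : G, ¬ p ∣ orderOf c → c * y = y * c → c ∈ center G := by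
    intro y hy hy1 hpy
    refine central_of_no_mixed P hK hy hy1 fun c hc hcy hpc => ?_
    obtain ⟨q, hq, hqd⟩ := Nat.exists_prime_and_dvd (n := (centralizer ({y} : Set G)).index) fun h =>
      hnc y hy hy1 (mem_center_iff.2 fun g =>
        mem_centralizer_singleton_iff.1 (index_eq_one.1 h ▸ mem_top g))
    obtain ⟨h1, h2⟩ := prod_parts hy hy1 hc hcy.symm
    exact hne q hq (fun h => hpy (h ▸ hqd))
      ⟨y * c, h1, hpc, hqd.trans (index_dvd_mono fun g hg => (h2 g hg).1)⟩
  -- an element of `P` whose class has non-trivial `p`-power size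
  obtain ⟨x, hx, hpx⟩ := hv
  obtain ⟨a, b, hab, hc, ha, hb, hcen, ha1⟩ := parts (p := p) x
  have hpa : p ∣ (centralizer ({a} : Set G)).index := by
    by_contra h
    refine h (hpx.trans (index_dvd_mono fun g hg => ?_))
    rw [← hab]
    exact ((show Commute g a from hg).mul_right (show Commute g b from
      mem_center_iff.1 (hA a ha (ha1 hx) h b hb hc.symm.eq) g)).eq
  obtain ⟨k, hk⟩ := hpow a (hsing a ha (ha1 hx)) hpa
  obtain ⟨Q, hQ⟩ := CfsgLib.PGroup.Basic.mem_sylow_of_orderOf ha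
  obtain ⟨g₀, hg₀⟩ := MulAction.exists_smul_eq G Q P
  set u := g₀ * a * g₀⁻¹ with hu
  have huP : u ∈ (P : Subgroup G) := by
    rw [← hg₀, Sylow.coe_subgroup_smul]; exact ⟨a, hQ, rfl⟩
  have huI : (centralizer ({u} : Set G)).index = p ^ k := by rw [hu, index_centralizer_conj, hk]
  set M := normalClosure ({u} : Set G) with hM
  have hMP : M ≤ (P : Subgroup G) := by
    refine (closure_le _).2 fun z hz => ?_
    obtain ⟨v, hv, hvz⟩ := Group.mem_conjugatesOfSet_iff.1 hz
    rw [Set.mem_singleton_iff] at hv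
    subst hv
    obtain ⟨g, hg⟩ := isConj_iff.1 hvz
    obtain ⟨n, hn, hgn⟩ := exists_conj_eq P huI g
    rw [← hg, hgn]
    exact mul_mem (mul_mem hn huP) (inv_mem hn)
  haveI := P.isPGroup'.isNilpotent
  have hMne : M.subgroupOf (P : Subgroup G) ≠ ⊥ := fun h => by
    have h1 : u ∈ M := subset_normalClosure rfl
    have h2 : (⟨u, huP⟩ : (P : Subgroup G)) ∈ M.subgroupOf (P : Subgroup G) := mem_subgroupOf.2 h1
    rw [h, mem_bot] at h2
    refine ha1 hx ?_
    have h3 : g₀ * a * g₀⁻¹ = 1 := congrArg Subtype.val h2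
    exact conj_eq_one_iff.1 h3
  obtain ⟨⟨d, hdP⟩, hd, hdne⟩ := exists_mem_ne_one
    (CfsgLib.Solvable.FrattiniFitting.inf_center_ne_bot _ hMne)
  obtain ⟨hdM, hdZ⟩ := mem_inf.1 hd
  replace hdM : d ∈ M := hdM
  replace hdne : d ≠ 1 := fun h => hdne (Subtype.ext h)
  have hdC : ∀ w ∈ (P : Subgroup G), w * d = d * w := fun w hw =>
    congrArg Subtype.val (mem_center_iff.1 hdZ ⟨w, hw⟩)
  have hdp := pel_mem P.isPGroup' hdP
  have hdI : ¬ p ∣ (centralizer ({d} : Set G)).index := by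
    refine CfsgLib.PGroup.Basic.not_dvd_index_of_sylow_le (P := P) fun w hw => ?_
    exact mem_centralizer_singleton_iff.2 (hdC w hw)
  -- `P` is the normal Sylow subgroup of `C(d)`
  set H := centralizer ({d} : Set G) with hH
  have hPH : (P : Subgroup G) ≤ H := fun w hw => mem_centralizer_singleton_iff.2 (hdC w hw)
  have hHP : H ≤ normalizer ((P : Subgroup G) : Set G) := by
    rw [← subgroupOf_eq_top]
    refine CfsgLib.Solvable.Cores.eq_top_of_sylow_le _ fun r hr => ?_
    haveI := Fact.mk hr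
    by_cases hrp : r = p
    · subst hrp
      refine ⟨P.subtype hPH, fun w hw => ?_⟩
      exact mem_subgroupOf.2 (le_normalizer (show (w : G) ∈ (P : Subgroup G) from hw))
    · obtain ⟨R⟩ : Nonempty (Sylow r H) := inferInstance
      refine ⟨R, fun w hw => mem_subgroupOf.2 (centralizer_le_normalizer _ ?_)⟩
      obtain ⟨j, hj⟩ := R.isPGroup' ⟨w, hw⟩
      have h1 : (w : G) ^ (r ^ j) = 1 := congrArg (fun v : (R : Subgroup H) => ((v : H) : G)) hj
      have h2 : (w : G) ∈ center G := hA d hdp hdne hdI _ (fun hd => hrp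
        ((Nat.prime_dvd_prime_iff_eq hp hr).1
          (hp.dvd_of_dvd_pow (hd.trans (orderOf_dvd_of_pow_eq_one h1)))).symm)
        (mem_centralizer_singleton_iff.1 w.2)
      exact center_le_centralizer _ h2
  have hinP : ∀ z ∈ H, (∃ j, orderOf z = p ^ j) → z ∈ (P : Subgroup G) := by
    rintro z hz ⟨j, hj⟩
    have hZ : IsPGroup p (zpowers z) := IsPGroup.of_card ((Nat.card_zpowers z).trans hj)
    have h := P.is_maximal' (hZ.to_sup_of_normal_right' P.isPGroup'
      (zpowers_le.2 (hHP hz))) le_sup_right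
    exact h ▸ mem_sup_left (mem_zpowers z)
  -- `P` is normal
  have hconj : ∀ y ∈ (P : Subgroup G), ∀ g : G, g * y * g⁻¹ ∈ (P : Subgroup G) := by
    intro y hy g
    by_cases hy1 : y = 1
    · simp [hy1]
    by_cases hpy : p ∣ (centralizer ({y} : Set G)).index
    · obtain ⟨j, hj⟩ := hpow y (hsing y (pel_mem P.isPGroup' hy) hy1) hpy
      obtain ⟨n, hn, hgn⟩ := exists_conj_eq P hj g
      rw [hgn]; exact mul_mem (mul_mem hn hy) (inv_mem hn)
    · obtain ⟨e, he⟩ := pel_mem P.isPGroup' hy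
      refine hinP _ (mem_centralizer_singleton_iff.2 ?_)
        ⟨e, by rw [← MulAut.conj_apply, (MulAut.conj g).orderOf_eq]; exact he⟩
      obtain ⟨h, hh⟩ := exists_conj P (x := g * y * g⁻¹) (by rwa [index_centralizer_conj])
      have hdM' : h * d * h⁻¹ ∈ (P : Subgroup G) :=
        hMP ((inferInstance : M.Normal).conj_mem d hdM h)
      have h4 := hh _ hdM'
      have h5 : (g * y * g⁻¹) * d = d * (g * y * g⁻¹) := by
        have h6 := congrArg (fun v => h⁻¹ * v * h) h4
        simp only [mul_assoc, inv_mul_cancel_left, inv_mul_cancel, mul_one] at h6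
        simp only [mul_assoc] at h6 ⊢
        exact h6.symm
      exact h5
  haveI hPn : (P : Subgroup G).Normal := ⟨fun y hy g => hconj y hy g⟩
  -- `p'`-elements centralise `P`
  have hcentral : ∀ c : G, ¬ p ∣ orderOf c → c ∈ center G := by
    intro c hc
    by_contra hcZ
    refine hcZ (hK c hc fun w hw => ?_)
    have hPp := P.isPGroup'
    refine (mem_centralizer_iff.1 (CfsgLib.Coprime.le_centralizer_of_frattini (A := zpowers c)
      (K := (P : Subgroup G)) (by rw [normalizer_eq_top]; exact le_top) ?_ ?_ (mem_zpowers c)) w hw)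
    · obtain ⟨i, hi⟩ := IsPGroup.iff_card.mp (hPp.to_subgroup (frattini (P : Subgroup G)))
      rw [Nat.card_zpowers, hi]
      exact ((hp.coprime_iff_not_dvd.2 hc).symm).pow_right i
    intro c' hc' y hy
    have hc'p : ¬ p ∣ orderOf c' := fun h => hc (h.trans (orderOf_dvd_of_mem_zpowers hc'))
    have hD : ∀ n ∈ (P : Subgroup G), ∀ v ∈ (P : Subgroup G),
        ⁅n, v⁆ ∈ (frattini (P : Subgroup G)).map (P : Subgroup G).subtype := fun n hn v hv =>
      ⟨⁅(⟨n, hn⟩ : (P : Subgroup G)), ⟨v, hv⟩⁆,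
        CfsgLib.PGroup.Frattini.commutatorElement_mem_frattini hPp _ _, rfl⟩
    have hgood : ∀ v ∈ (P : Subgroup G), p ∣ (centralizer ({v} : Set G)).index →
        ⁅c', v⁆ ∈ (frattini (P : Subgroup G)).map (P : Subgroup G).subtype := by
      intro v hv hpv
      have hv1 : v ≠ 1 := by
        rintro rfl
        refine hp.ne_one (Nat.dvd_one.1 (hpv.trans (dvd_of_eq (index_eq_one.2 (top_le_iff.1 fun w _ => ?_)))))
        exact mem_centralizer_singleton_iff.2 (by simp)
      obtain ⟨j, hj⟩ := hpow v (hsing v (pel_mem hPp hv) hv1) hpv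
      obtain ⟨n, hn, hgn⟩ := exists_conj_eq P hj c'
      rw [commutatorElement_def, hgn, ← commutatorElement_def]
      exact hD n hn v hv
    by_cases hpy : p ∣ (centralizer ({y} : Set G)).index
    · exact hgood y hy hpy
    have hyC : ∀ w ∈ (P : Subgroup G), w * y = y * w := by
      intro w hw
      obtain ⟨h, hh⟩ := exists_conj P hpy
      have h4 := hh _ (hconj w hw h)
      have h6 := congrArg (fun v => h⁻¹ * v * h) h4
      simp only [mul_assoc, inv_mul_cancel_left, inv_mul_cancel, mul_one] at h6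
      exact h6
    have hpuy : p ∣ (centralizer ({u * y} : Set G)).index := by
      by_contra h
      obtain ⟨h', hh⟩ := exists_conj P h
      have hpu : p ∣ (centralizer ({u} : Set G)).index := by rw [hu, index_centralizer_conj]; exact hpa
      refine CfsgLib.PGroup.Basic.not_dvd_index_of_sylow_le (P := P) (fun w hw => ?_) hpu
      have h4 := hh _ (hconj w hw h')
      have h6 := congrArg (fun v => h'⁻¹ * v * h') h4
      simp only [mul_assoc, inv_mul_cancel_left, inv_mul_cancel, mul_one] at h6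
      refine mem_centralizer_singleton_iff.2 (mul_right_cancel (b := y) ?_)
      calc w * u * y = u * (y * w) := by rw [mul_assoc]; exact h6
        _ = u * w * y := (congrArg (u * ·) (hyC w hw).symm).trans (mul_assoc u w y).symm
    have h1 := hgood u huP (by rw [hu, index_centralizer_conj]; exact hpa)
    have h2 := hgood (u * y) (mul_mem huP hy) hpuy
    have e1 : ⁅c', u * y⁆ = ⁅c', u⁆ * ⁅c', y⁆ * ⁅⁅c', y⁆⁻¹, u⁆ := by
      simp only [commutatorElement_def]; group
    have hcy : ⁅c', y⁆ ∈ (P : Subgroup G) := by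
      rw [commutatorElement_def]; exact mul_mem (hconj y hy c') (inv_mem hy)
    have h3 := hD _ (inv_mem hcy) u huP
    rw [e1] at h2
    exact ((Subgroup.mul_mem_cancel_left _ h1).1 ((Subgroup.mul_mem_cancel_right _ h3).1 h2))
  refine hnc d hdp hdne (mem_center_iff.2 fun g => ?_)
  obtain ⟨g₁, g₂, hg, -, hg₁, hg₂, -, -⟩ := parts (p := p) g
  obtain ⟨Q', hQ'⟩ := CfsgLib.PGroup.Basic.mem_sylow_of_orderOf hg₁
  haveI := Sylow.unique_of_normal P hPn
  rw [Subsingleton.elim Q' P] at hQ'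
  rw [← hg]
  exact ((show Commute g₁ d from hdC g₁ hQ').mul_left
    (show Commute g₂ d from (mem_center_iff.1 (hcentral g₂ hg₂) d).symm)).eq

include P in
/-- The key connectivity statement. -/
theorem walk (hZ : ¬ p ∣ Nat.card (center G)) {r s : ℕ} (hr : r.Prime) (hs : s.Prime) (hrs : r ≠ s)
    (hrv : ∃ x : G, p ∣ orderOf x ∧ r ∣ (centralizer ({x} : Set G)).index)
    (hsv : ∃ x : G, p ∣ orderOf x ∧ s ∣ (centralizer ({x} : Set G)).index) :
    ∃ t u : ℕ, t.Prime ∧ u.Prime ∧ Adj G p r t ∧ Adj G p t u ∧ Adj G p u s := by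
  have hp : p.Prime := Fact.out
  have hnc : ∀ a : G, (∃ k, orderOf a = p ^ k) → a ≠ 1 → a ∉ center G := by
    rintro a ⟨k, hk⟩ ha hac
    rcases Nat.eq_zero_or_pos k with rfl | hk0
    · exact ha (orderOf_eq_one_iff.1 (by simpa using hk))
    · exact hZ (((dvd_pow_self p hk0.ne').trans hk.symm.dvd).trans (orderOf_dvd_natCard _ hac))
  have hne1 : ∀ z : G, z ∉ center G → (centralizer ({z} : Set G)).index ≠ 1 := fun z hz h =>
    hz (mem_center_iff.2 fun g => mem_centralizer_singleton_iff.1 (index_eq_one.1 h ▸ mem_top g))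
  have hsing : ∀ a : G, (∃ k, orderOf a = p ^ k) → a ≠ 1 → p ∣ orderOf a := by
    rintro a ⟨k, hk⟩ ha
    rcases Nat.eq_zero_or_pos k with rfl | hk0
    · exact absurd (orderOf_eq_one_iff.1 (by simpa using hk)) ha
    · exact hk ▸ dvd_pow_self p hk0.ne'
  -- an element of `P` and a commuting `p'`-element
  have hcomb : ∀ a b : G, (∃ k, orderOf a = p ^ k) → a ≠ 1 → ¬ p ∣ orderOf b → a * b = b * a →
      ∀ t u : ℕ, t ∣ (centralizer ({a} : Set G)).index → u ∣ (centralizer ({b} : Set G)).index →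
      Adj G p t u := by
    intro a b ha ha1 hb hab t u ht hu
    have hcop : (orderOf a).Coprime (orderOf b) := by
      obtain ⟨k, hk⟩ := ha
      exact hk ▸ (hp.coprime_iff_not_dvd.2 hb).pow_left k
    obtain ⟨a', b', he, hc', ha', hb', hcen, -⟩ := parts (p := p) (a * b)
    obtain rfl : a' = a :=
      CfsgLib.PGroup.CountPElements.decomp_left_unique hc' hab ha' ha hb' hb he
    obtain rfl : b' = b := mul_left_cancel he
    refine ⟨a' * b', ?_, ht.trans (index_dvd_mono fun g hg => (hcen g hg).1),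
      hu.trans (index_dvd_mono fun g hg => (hcen g hg).2)⟩
    rw [Commute.orderOf_mul_eq_mul_orderOf_of_coprime hab hcop]
    exact (hsing a' ha ha1).mul_right _
  -- each vertex is adjacent to every prime of a non-trivial element of `P`
  have hbase : ∀ x : G, p ∣ orderOf x → ∃ a ∈ (P : Subgroup G), a ≠ 1 ∧
      (centralizer ({a} : Set G)).index ∣ (centralizer ({x} : Set G)).index := by
    intro x hx
    obtain ⟨a, b, -, -, ⟨k, hk⟩, -, hcen, ha1⟩ := parts (p := p) x
    obtain ⟨Q, hQ⟩ := (IsPGroup.of_card ((Nat.card_zpowers a).trans hk)).exists_le_sylow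
    obtain ⟨g, hg⟩ := MulAction.exists_smul_eq G Q P
    refine ⟨g * a * g⁻¹, ?_, fun h => ha1 hx (conj_eq_one_iff.1 h), ?_⟩
    · rw [← hg, Sylow.coe_subgroup_smul]
      exact ⟨a, hQ (mem_zpowers a), rfl⟩
    · rw [index_centralizer_conj]
      exact index_dvd_mono fun w hw => (hcen w hw).1
  -- elements with class size prime to `p`
  have hB : ∀ x : G, p ∣ orderOf x → ¬ p ∣ (centralizer ({x} : Set G)).index →
      ∃ a b : G, (∃ k, orderOf a = p ^ k) ∧ a ≠ 1 ∧ ¬ p ∣ orderOf b ∧ a * b = b * a ∧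
        a ∈ (P : Subgroup G) ∧ (∀ w ∈ (P : Subgroup G), w * a = a * w) ∧
        (∀ w ∈ (P : Subgroup G), w * b = b * w) ∧
        (centralizer ({x} : Set G)).index = (centralizer ({a * b} : Set G)).index := by
    intro x hx hpx
    obtain ⟨g, hg⟩ := exists_conj P hpx
    obtain ⟨a, b, he, hc, ha, hb, hcen, ha1⟩ := parts (p := p) (g * x * g⁻¹)
    refine ⟨a, b, ha, ha1 (by rw [← MulAut.conj_apply, (MulAut.conj g).orderOf_eq]; exact hx), hb,
      hc.eq, mem_sylow P ha (fun w hw => (hcen w (hg w hw)).1), fun w hw => (hcen w (hg w hw)).1,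
      fun w hw => (hcen w (hg w hw)).2, ?_⟩
    rw [he, index_centralizer_conj]
  have hPel : ∀ a ∈ (P : Subgroup G), ∃ k, orderOf a = p ^ k := fun a ha => by
    obtain ⟨j, hj⟩ := P.isPGroup' ⟨a, ha⟩
    obtain ⟨k, -, hk⟩ := (Nat.dvd_prime_pow hp).1 (orderOf_dvd_of_pow_eq_one (congrArg Subtype.val hj))
    exact ⟨k, hk⟩
  obtain ⟨xr, hxr, hrx⟩ := hrv
  obtain ⟨xs, hxs, hsx⟩ := hsv
  have hpart : ∀ z : G, z ∉ center G → ∃ t : ℕ, t.Prime ∧ t ∣ (centralizer ({z} : Set G)).index :=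
    fun z hz => Nat.exists_prime_and_dvd (hne1 z hz)
  by_cases hI : ∃ b₀ : G, ¬ p ∣ orderOf b₀ ∧ (∀ w ∈ (P : Subgroup G), w * b₀ = b₀ * w) ∧ b₀ ∉ center G
  · obtain ⟨b₀, hb₀, hb₀P, hb₀Z⟩ := hI
    have hS : ∀ v : ℕ, ∀ x : G, p ∣ orderOf x → v ∣ (centralizer ({x} : Set G)).index →
        ¬ p ∣ (centralizer ({x} : Set G)).index →
        ∃ b : G, ∃ t : ℕ, ¬ p ∣ orderOf b ∧ (∀ w ∈ (P : Subgroup G), w * b = b * w) ∧ t.Prime ∧
          t ∣ (centralizer ({b} : Set G)).index ∧ Adj G p v t := by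
      intro v x hx hvx hpx
      obtain ⟨a, b, ha, ha1, hb, hab, haP, -, hbP, hidx⟩ := hB x hx hpx
      rw [hidx] at hvx
      by_cases hbZ : b ∈ center G
      · obtain ⟨t, ht, htd⟩ := hpart b₀ hb₀Z
        refine ⟨b₀, t, hb₀, hb₀P, ht, htd, hcomb a b₀ ha ha1 hb₀ (hb₀P a haP) v t
          (hvx.trans (index_dvd_mono fun g hg => ?_)) htd⟩
        exact ((show Commute g a from hg).mul_right (show Commute g b from mem_center_iff.1 hbZ g)).eq
      · obtain ⟨t, ht, htd⟩ := hpart b hbZ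
        obtain ⟨a', b', he, hc', ha', hb', hcen, -⟩ := parts (p := p) (a * b)
        obtain rfl : a' = a :=
          CfsgLib.PGroup.CountPElements.decomp_left_unique hc' hab ha' ha hb' hb he
        obtain rfl : b' = b := mul_left_cancel he
        refine ⟨b', t, hb, hbP, ht, htd, a' * b', ?_, hvx,
          htd.trans (index_dvd_mono fun g hg => (hcen g hg).2)⟩
        obtain ⟨k, hk⟩ := ha
        rw [Commute.orderOf_mul_eq_mul_orderOf_of_coprime hab
          (hk ▸ (hp.coprime_iff_not_dvd.2 hb).pow_left k)]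
        exact (hsing a' ⟨k, hk⟩ ha1).mul_right _
    have hU : ∀ v : ℕ, ∀ x : G, p ∣ orderOf x → v ∣ (centralizer ({x} : Set G)).index →
        ∀ b : G, ∀ t : ℕ, ¬ p ∣ orderOf b → (∀ w ∈ (P : Subgroup G), w * b = b * w) →
          t ∣ (centralizer ({b} : Set G)).index → ∃ u : ℕ, u.Prime ∧ Adj G p v u ∧ Adj G p u t := by
      intro v x hx hvx b t hb hbP htd
      obtain ⟨a, haP, ha1, had⟩ := hbase x hx
      obtain ⟨u, hu, hud⟩ := hpart a (hnc a (hPel a haP) ha1)
      exact ⟨u, hu, ⟨x, hx, hvx, hud.trans had⟩, hcomb a b (hPel a haP) ha1 hb (hbP a haP) u t hud htd⟩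
    by_cases hpr : p ∣ (centralizer ({xr} : Set G)).index
    · by_cases hps : p ∣ (centralizer ({xs} : Set G)).index
      · exact ⟨p, p, hp, hp, ⟨xr, hxr, hrx, hpr⟩, ⟨xr, hxr, hpr, hpr⟩, ⟨xs, hxs, hps, hsx⟩⟩
      · obtain ⟨b, t, hb, hbP, ht, htd, hst⟩ := hS s xs hxs hsx hps
        obtain ⟨u, hu, hru, hut⟩ := hU r xr hxr hrx b t hb hbP htd
        exact ⟨u, t, hu, ht, hru, hut, hst.symm⟩
    · obtain ⟨b, t, hb, hbP, ht, htd, hrt⟩ := hS r xr hxr hrx hpr
      obtain ⟨u, hu, hsu, hut⟩ := hU s xs hxs hsx b t hb hbP htd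
      exact ⟨t, u, ht, hu, hrt, hut.symm, hsu.symm⟩
  · push Not at hI
    have hS : ∀ v : ℕ, ∀ x : G, p ∣ orderOf x → v ∣ (centralizer ({x} : Set G)).index →
        Adj G p v p ∨ (v ≠ p ∧ ∃ a : G, a ∈ (P : Subgroup G) ∧ a ≠ 1 ∧
          (∀ w ∈ (P : Subgroup G), w * a = a * w) ∧ v ∣ (centralizer ({a} : Set G)).index ∧
          (∀ c : G, ¬ p ∣ orderOf c → c * a = a * c → c ∈ center G)) := by
      intro v x hx hvx
      by_cases hpx : p ∣ (centralizer ({x} : Set G)).index
      · exact Or.inl ⟨x, hx, hvx, hpx⟩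
      obtain ⟨a, b, ha, ha1, hb, hab, haP, haC, hbP, hidx⟩ := hB x hx hpx
      have hva : v ∣ (centralizer ({a} : Set G)).index := by
        rw [hidx] at hvx
        refine hvx.trans (index_dvd_mono fun g hg => ?_)
        exact ((show Commute g a from hg).mul_right
          (show Commute g b from mem_center_iff.1 (hI b hb hbP) g)).eq
      by_cases hv : ∃ c : G, ¬ p ∣ orderOf c ∧ c * a = a * c ∧
          p ∣ (centralizer ({a * c} : Set G)).index
      · obtain ⟨c, hc, hca, hpc⟩ := hv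
        obtain ⟨h1, hcen⟩ := prod_parts ha ha1 hc hca.symm
        exact Or.inl ⟨a * c, h1, hva.trans (index_dvd_mono fun g hg => (hcen g hg).1), hpc⟩
      · push Not at hv
        exact Or.inr ⟨fun h => hpx (h ▸ hvx), a, haP, ha1, haC, hva,
          central_of_no_mixed P hI ha ha1 hv⟩
    -- the elements `a` above carry every vertex other than `p`
    have hclique : ∀ a : G, (∀ c : G, ¬ p ∣ orderOf c → c * a = a * c → c ∈ center G) →
        ∀ q : ℕ, q.Prime → q ≠ p → (∃ x : G, q ∣ (centralizer ({x} : Set G)).index) →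
        q ∣ (centralizer ({a} : Set G)).index := by
      intro a ha q hq hqp hqv
      by_contra hqa
      haveI := Fact.mk hq
      obtain ⟨x, hx⟩ := hqv
      obtain ⟨R⟩ : Nonempty (Sylow q (centralizer ({a} : Set G))) := inferInstance
      have hR : ¬ q ∣ ((R : Subgroup _).map (centralizer ({a} : Set G)).subtype).index := by
        rw [index_map_subtype]
        exact hq.not_dvd_mul R.not_dvd_index hqa
      refine hR (hx.trans (index_dvd_of_le fun w hw => ?_))
      obtain ⟨c, hc, rfl⟩ := hw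
      refine mem_centralizer_singleton_iff.2 (mem_center_iff.1 (ha c ?_
        (mem_centralizer_singleton_iff.1 c.2)) x).symm
      obtain ⟨j, hj⟩ := R.isPGroup' ⟨c, hc⟩
      intro hd
      have h1 : (c : G) ^ (q ^ j) = 1 := congrArg (fun w => ((w.1 : _) : G)) hj
      exact hqp ((Nat.prime_dvd_prime_iff_eq hp hq).1
        (hp.dvd_of_dvd_pow (hd.trans (orderOf_dvd_of_pow_eq_one h1)))).symm
    have hside : ∀ v₁ v₂ : ℕ, v₁.Prime → v₂.Prime → ∀ x₁ x₂ : G, p ∣ orderOf x₁ →
        v₁ ∣ (centralizer ({x₁} : Set G)).index → p ∣ orderOf x₂ →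
        v₂ ∣ (centralizer ({x₂} : Set G)).index → ¬ Adj G p v₂ p →
        ∃ t u : ℕ, t.Prime ∧ u.Prime ∧ Adj G p v₁ t ∧ Adj G p t u ∧ Adj G p u v₂ := by
      intro v₁ v₂ hv₁ hv₂ x₁ x₂ hx₁ hd₁ hx₂ hd₂ hnp
      obtain h | ⟨hv₂p, a, haP, ha1, haC, hva, hac⟩ := hS v₂ x₂ hx₂ hd₂
      · exact absurd h hnp
      have hsa := hsing a (hPel a haP) ha1
      obtain ⟨w, hw, hwp, hwx⟩ : ∃ w : ℕ, w.Prime ∧ w ≠ p ∧ Adj G p v₁ w := by
        by_cases hv₁p : v₁ = p
        swap
        · exact ⟨v₁, hv₁, hv₁p, x₁, hx₁, hd₁, hd₁⟩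
        subst hv₁p
        by_contra hne
        push Not at hne
        exact false_of_isolated P hnc hI hne ⟨x₁, hx₁, hd₁⟩
      exact ⟨w, v₂, hw, hv₂, hwx, ⟨a, hsa, hclique a hac w hw hwp (by
        obtain ⟨x, -, -, h⟩ := hwx; exact ⟨x, h⟩), hva⟩, ⟨a, hsa, hva, hva⟩⟩
    by_cases hps : Adj G p s p
    · by_cases hpr : Adj G p r p
      · exact ⟨p, p, hp, hp, hpr, ⟨hps.choose, hps.choose_spec.1, hps.choose_spec.2.2, hps.choose_spec.2.2⟩, hps.symm⟩
      · obtain ⟨t, u, ht, hu, h1, h2, h3⟩ := hside s r hs hr xs xr hxs hsx hxr hrx hpr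
        exact ⟨u, t, hu, ht, h3.symm, h2.symm, h1.symm⟩
    · exact hside r s hr hs xr xs hxr hrx hxs hsx hps

/-- Let `G` be a finite group and `p` a prime not dividing the order of the centre of `G`. Consider the primes dividing the size of some conjugacy class of a `p`-singular element (an element of order divisible by `p`), two of them adjacent when their product divides such a class size. Then any two distinct such primes are joined by a path with at most 3 edges (the graph is connected of diameter at most 3). -/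
theorem result {G : Type*} [Group G] [Finite G] (p : ℕ) [Fact p.Prime]
    (hZ : ¬ p ∣ Nat.card ↥(Subgroup.center G)) (r s : ℕ) (hr : (r.Prime ∧ ∃ x : G, p ∣ orderOf x ∧ r ∣ (Subgroup.centralizer ({x} : Set G)).index)) (hs : (s.Prime ∧ ∃ x : G, p ∣ orderOf x ∧ s ∣ (Subgroup.centralizer ({x} : Set G)).index)) (hrs : r ≠ s) :
    (∃ x : G, p ∣ orderOf x ∧ r * s ∣ (Subgroup.centralizer ({x} : Set G)).index) ∨ (∃ t : ℕ, (t.Prime ∧ ∃ x : G, p ∣ orderOf x ∧ t ∣ (Subgroup.centralizer ({x} : Set G)).index) ∧ t ≠ r ∧ t ≠ s ∧ (∃ x : G, p ∣ orderOf x ∧ r * t ∣ (Subgroup.centralizer ({x} : Set G)).index) ∧ (∃ x : G, p ∣ orderOf x ∧ t * s ∣ (Subgroup.centralizer ({x} : Set G)).index)) ∨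
      (∃ t u : ℕ, (t.Prime ∧ ∃ x : G, p ∣ orderOf x ∧ t ∣ (Subgroup.centralizer ({x} : Set G)).index) ∧ (u.Prime ∧ ∃ x : G, p ∣ orderOf x ∧ u ∣ (Subgroup.centralizer ({x} : Set G)).index) ∧ t ≠ r ∧ u ≠ s ∧ t ≠ u ∧ (∃ x : G, p ∣ orderOf x ∧ r * t ∣ (Subgroup.centralizer ({x} : Set G)).index) ∧ (∃ x : G, p ∣ orderOf x ∧ t * u ∣ (Subgroup.centralizer ({x} : Set G)).index) ∧ (∃ x : G, p ∣ orderOf x ∧ u * s ∣ (Subgroup.centralizer ({x} : Set G)).index)) := by
  obtain ⟨t, u, htp, hup, hrt, htu, hus⟩ :=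
    walk (Classical.arbitrary (Sylow p G)) hZ hr.1 hs.1 hrs hr.2 hs.2
  have conv : ∀ a b : ℕ, a.Prime → b.Prime → a ≠ b → Adj G p a b →
      ∃ x : G, p ∣ orderOf x ∧ a * b ∣ (Subgroup.centralizer ({x} : Set G)).index := by
    rintro a b ha hb hab ⟨x, hx, h1, h2⟩
    exact ⟨x, hx, ((Nat.coprime_primes ha hb).2 hab).mul_dvd_of_dvd_of_dvd h1 h2⟩
  have hv : ∀ a b : ℕ, Adj G p a b → b.Prime →
      (b.Prime ∧ ∃ x : G, p ∣ orderOf x ∧ b ∣ (Subgroup.centralizer ({x} : Set G)).index) :=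
    fun a b h hb => ⟨hb, by obtain ⟨x, hx, -, h2⟩ := h; exact ⟨x, hx, h2⟩⟩
  by_cases hadj : Adj G p r s
  · exact Or.inl (conv r s hr.1 hs.1 hrs hadj)
  have two : ∀ w : ℕ, w.Prime → Adj G p r w → Adj G p w s → w ≠ r ∧ w ≠ s :=
    fun w hw h1 h2 => ⟨fun h => hadj (h ▸ h2), fun h => hadj (h ▸ h1)⟩
  have mid : ∀ w : ℕ, w.Prime → Adj G p r w → Adj G p w s → ∃ t : ℕ,
      (t.Prime ∧ ∃ x : G, p ∣ orderOf x ∧ t ∣ (Subgroup.centralizer ({x} : Set G)).index) ∧ t ≠ r ∧ t ≠ s ∧
      (∃ x : G, p ∣ orderOf x ∧ r * t ∣ (Subgroup.centralizer ({x} : Set G)).index) ∧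
      (∃ x : G, p ∣ orderOf x ∧ t * s ∣ (Subgroup.centralizer ({x} : Set G)).index) :=
    fun w hw h1 h2 => ⟨w, hv r w h1 hw, (two w hw h1 h2).1, (two w hw h1 h2).2,
      conv r w hr.1 hw (two w hw h1 h2).1.symm h1, conv w s hw hs.1 (two w hw h1 h2).2 h2⟩
  by_cases htr : t = r
  · exact Or.inr (Or.inl (mid u hup (htr ▸ htu) hus))
  by_cases hus' : u = s
  · exact Or.inr (Or.inl (mid t htp hrt (hus' ▸ htu)))
  by_cases htu' : t = u
  · exact Or.inr (Or.inl (mid t htp hrt (htu' ▸ hus)))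
  exact Or.inr (Or.inr ⟨t, u, hv r t hrt htp, hv t u htu hup, htr, hus', htu',
    conv r t hr.1 htp (Ne.symm htr) hrt, conv t u htp hup htu' htu, conv u s hup hs.1 hus' hus⟩)

end Cfsg.Agent.S4321
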