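import Cfsg.Statements.S4325
import Cfsg.Agent.Lib.NumberTheory.SwapClosure

set_option autoImplicit false
open Cfsg

namespace Cfsg.Agent.S4325

/-- Let r be a prime and m a natural number with m + 1 < r, and let π be a set of primes containing every prime below r but not r itself. Then in the symmetric group of degree r any m transpositions generate a π-subgroup, while O_π of the symmetric group is trivial. (So no bound on the number of conjugates that works for all π exists in the π-radical analogue of the Baer–Suzuki Theorem.) -/
theorem result (r m : ℕ) (hr : r.Prime)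
    (hm : m + 1 < r) (π : Set ℕ) (hπ : ∀ q : ℕ, q.Prime → q < r → q ∈ π) (hrπ : r ∉ π)
    (t : Fin m → Equiv.Perm (Fin r)) (ht : ∀ i, (t i).IsSwap) :
    Cfsg.IsPiSubgroup π (Subgroup.closure (Set.range t)) ∧ Cfsg.piCore π (Equiv.Perm (Fin r)) = ⊥ := by
  classical
  refine ⟨fun q hq hd => hπ q hq ?_, ?_⟩
  · have := CfsgLib.NumberTheory.SwapClosure.prime_le t ht hq hd
    omega
  · rw [Cfsg.piCore, sSup_eq_bot]
    rintro N ⟨hN, hNπ⟩
    by_contra hne
    apply hrπ
    have hfix : MulAction.fixedPoints N (Fin r) ≠ Set.univ := by
      intro h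
      apply hne
      rw [Subgroup.eq_bot_iff_forall]
      intro g hg
      ext x
      exact congrArg Fin.val ((h.symm ▸ Set.mem_univ x : x ∈ MulAction.fixedPoints N (Fin r)) ⟨g, hg⟩)
    have htr : MulAction.IsPretransitive N (Fin r) :=
      MulAction.IsQuasiPreprimitive.isPretransitive_of_normal hfix
    refine hNπ r hr ?_
    have x : Fin r := ⟨0, hr.pos⟩
    have h := MulAction.index_stabilizer_of_transitive N x
    rw [Nat.card_eq_fintype_card, Fintype.card_fin] at h
    have h2 := Subgroup.index_dvd_card (MulAction.stabilizer N x)
    rwa [h] at h2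

end Cfsg.Agent.S4325
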