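import Cfsg.Statements.S4326


set_option autoImplicit false
open Pointwise
open Cfsg

namespace Cfsg.Agent.S4326

open scoped Pointwise


/-- Let G be a finite group, p a prime, x an automorphism of G of p-power order and M the subgroup of fixed points of x. Suppose that p divides the index of M and that either M is self-normalizing or M has trivial center. Then some conjugate of M is mapped onto itself by x but is not fixed elementwise by x. -/
theorem result {G : Type*} [Group G] [Finite G]
    (p : ℕ) [Fact p.Prime] (x : MulAut G) (hx : ∃ k : ℕ, orderOf x = p ^ k) (M : Subgroup G)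
    (hM : ∀ g : G, g ∈ M ↔ x g = g) (hp : p ∣ M.index)
    (hself : Subgroup.normalizer (M : Set G) = M ∨ Subgroup.center M = ⊥) :
    ∃ g : G, (∀ y ∈ MulAut.conj g • M, x y ∈ MulAut.conj g • M) ∧ ∃ y ∈ MulAut.conj g • M, x y ≠ y := by
  classical
  let P : Subgroup (MulAut G) := Subgroup.zpowers x
  have hfix : ∀ a ∈ P, ∀ m ∈ M, a m = m := by
    intro a ha m hm
    have hxs : x ∈ MulAction.stabilizer (MulAut G) m := MulAction.mem_stabilizer_iff.2 ((hM m).1 hm)
    exact MulAction.mem_stabilizer_iff.1 ((Subgroup.zpowers_le.2 hxs) ha)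
  have hmap : ∀ a ∈ P, ∀ g h : G, g⁻¹ * h ∈ M → (a g)⁻¹ * a h ∈ M := by
    intro a ha g h hgh
    rw [← map_inv, ← map_mul, hfix a ha _ hgh]
    exact hgh
  let act : MulAction P (G ⧸ M) :=
    { smul := fun a => Quotient.map' (fun g => (a : MulAut G) g) fun g h hgh => by
        rw [QuotientGroup.leftRel_apply] at hgh ⊢
        exact hmap a a.2 g h hgh
      one_smul := fun q => by
        induction q using QuotientGroup.induction_on
        rfl
      mul_smul := fun a b q => by
        induction q using QuotientGroup.induction_on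
        rfl }
  have hP : IsPGroup p P := by
    obtain ⟨k, hk⟩ := hx
    exact IsPGroup.of_card (n := k) (by rw [Nat.card_zpowers, hk])
  have hone : ((1 : G) : G ⧸ M) ∈ MulAction.fixedPoints P (G ⧸ M) := fun a => by
    show (((a : MulAut G) 1 : G) : G ⧸ M) = _
    rw [map_one]
  obtain ⟨q, hq, hne⟩ := hP.exists_fixed_point_of_prime_dvd_card_of_fixed_point (G ⧸ M) hp hone
  obtain ⟨g, rfl⟩ := QuotientGroup.mk_surjective q
  have hgM : g ∉ M := fun h => hne (QuotientGroup.eq.2 (by simpa using h))
  have hxg : g⁻¹ * x g ∈ M := by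
    have h' : ((x g : G) : G ⧸ M) = (g : G ⧸ M) := hq ⟨x, Subgroup.mem_zpowers x⟩
    exact QuotientGroup.eq.1 h'.symm
  have hmem : ∀ y : G, y ∈ MulAut.conj g • M ↔ g⁻¹ * y * g ∈ M := fun y => by
    rw [Subgroup.mem_pointwise_smul_iff_inv_smul_mem, ← map_inv, MulAut.smul_def, MulAut.conj_apply,
      inv_inv]
  refine ⟨g, fun y hy => ?_, ?_⟩
  · rw [hmem] at hy ⊢
    have e : g⁻¹ * x y * g = (g⁻¹ * x g) * x (g⁻¹ * y * g) * (g⁻¹ * x g)⁻¹ := by
      simp only [map_mul, map_inv]
      group
    rw [e, (hM _).1 hy]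
    exact mul_mem (mul_mem hxg hy) (inv_mem hxg)
  · by_contra hall
    simp only [not_exists, not_and, not_not] at hall
    have hle : MulAut.conj g • M ≤ M := fun y hy => (hM y).2 (hall y hy)
    have hg : g ∈ Subgroup.normalizer (M : Set G) := by
      rw [Subgroup.mem_normalizer_iff_map_conj_eq]
      exact Subgroup.eq_of_le_of_card_ge hle
        (Nat.card_congr (Subgroup.equivSMul (MulAut.conj g) M).toEquiv).le
    rcases hself with h | h
    · exact hgM (h ▸ hg)
    · have hc : (⟨g⁻¹ * x g, hxg⟩ : M) ∈ Subgroup.center M := by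
        rw [Subgroup.mem_center_iff]
        intro m
        have hy : g * (m : G) * g⁻¹ ∈ MulAut.conj g • M := by
          rw [hmem]
          simp [mul_assoc]
        have e := hall _ hy
        rw [map_mul, map_mul, (hM _).1 m.2, map_inv] at e
        refine Subtype.ext ?_
        show (m : G) * (g⁻¹ * x g) = g⁻¹ * x g * m
        calc (m : G) * (g⁻¹ * x g) = g⁻¹ * (g * m * g⁻¹) * x g := by group
          _ = g⁻¹ * (x g * m * (x g)⁻¹) * x g := by rw [e]
          _ = g⁻¹ * x g * m := by group
      rw [h, Subgroup.mem_bot, Subtype.ext_iff] at hc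
      exact hgM ((hM g).2 (inv_mul_eq_one.1 hc).symm)

end Cfsg.Agent.S4326
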