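import Cfsg.Statements.S4331
import Cfsg.Agent.S0064
import Cfsg.Agent.Lib.Solvable.Cores

set_option autoImplicit false
open Cfsg

namespace Cfsg.Agent.S4331

abbrev Vm : Type := Multiplicative (ZMod 3 × ZMod 3)

open Multiplicative

abbrev mk (x y : ZMod 3) : Vm := ofAdd (x, y)

/-- The map with columns `p`, `q`. -/
def M (p q u : Vm) : Vm :=
  mk ((toAdd u).1 * (toAdd p).1 + (toAdd u).2 * (toAdd q).1)
    ((toAdd u).1 * (toAdd p).2 + (toAdd u).2 * (toAdd q).2)

/-- Multiplication by a square root of `-1`. -/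
def J (u : Vm) : Vm := mk (-(toAdd u).2) (toAdd u).1

/-- Semilinearity of the map with columns `p`, `q`. -/
abbrev Semi (p q : Vm) : Prop :=
  (∀ u, M p q (J u) = J (M p q u)) ∨ ∀ u, M p q (J u) = (J (M p q u))⁻¹

theorem J_mul : ∀ u v, J (u * v) = J u * J v := by decide

theorem M_mul : ∀ p q u v, M p q (u * v) = M p q u * M p q v := by decide

theorem mulAut_apply (A : MulAut Vm) (u : Vm) : A u = M (A (mk 1 0)) (A (mk 0 1)) u := by
  have h1 : ∀ u : Vm, mk 1 0 ^ (toAdd u).1.val * mk 0 1 ^ (toAdd u).2.val = u := by decide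
  have h2 : ∀ p q u : Vm, p ^ (toAdd u).1.val * q ^ (toAdd u).2.val = M p q u := by decide
  conv_lhs => rw [← h1 u]
  rw [map_mul, map_pow, map_pow, h2]

/-- The semidihedral group of order 16 of semilinear maps. -/
def H : Subgroup (MulAut Vm) where
  carrier := {A | (∀ u, A (J u) = J (A u)) ∨ ∀ u, A (J u) = (J (A u))⁻¹}
  one_mem' := Or.inl fun u => rfl
  mul_mem' := by
    intro A B hA hB
    have hJi : ∀ u, J u⁻¹ = (J u)⁻¹ := by decide
    rcases hA with hA | hA <;> rcases hB with hB | hB
    · exact Or.inl fun u => by simp [hA, hB]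
    · exact Or.inr fun u => by simp [hA, hB]
    · exact Or.inr fun u => by simp [hA, hB]
    · exact Or.inl fun u => by simp [hA, hB]
  inv_mem' := by
    intro A hA
    rcases hA with hA | hA
    · exact Or.inl fun u => A.injective (by simp [hA])
    · exact Or.inr fun u => A.injective (by simp [hA])

theorem semi_of_mem {A : MulAut Vm} (hA : A ∈ H) : Semi (A (mk 1 0)) (A (mk 0 1)) := by
  rcases hA with hA | hA
  · exact Or.inl fun u => by rw [← mulAut_apply, ← mulAut_apply, hA]
  · exact Or.inr fun u => by rw [← mulAut_apply, ← mulAut_apply, hA]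

def M2 (p q u : Vm) : Vm := M p q (M p q u)

set_option synthInstance.maxSize 1024 in
theorem semi_order : ∀ p q u : Vm, Semi p q → M p q (J (mk 1 0)) ≠ (1 : Vm) →
    M2 p q (M2 p q (M2 p q (M2 p q u))) = u := by decide

theorem isPGroup_H : IsPGroup 2 H := by
  intro A
  refine ⟨3, Subtype.ext (MulEquiv.ext fun u => ?_)⟩
  have h : ∀ n : ℕ, ∀ u, ((A : MulAut Vm) ^ n) u =
      ((M ((A : MulAut Vm) (mk 1 0)) ((A : MulAut Vm) (mk 0 1))) ^[n]) u := by
    intro n
    induction n with
    | zero => intro u; rfl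
    | succ n ih =>
      intro u
      rw [pow_succ', MulAut.mul_apply, Function.iterate_succ', Function.comp_apply, ← ih,
        ← mulAut_apply]
  show ((A : MulAut Vm) ^ 8) u = u
  rw [h]
  refine semi_order _ _ u (semi_of_mem A.2) ?_
  rw [← mulAut_apply]
  exact fun h => absurd ((A : MulAut Vm).map_eq_one_iff.1 h) (by decide)

set_option synthInstance.maxSize 1024 in
theorem classify : ∀ p q : Vm, M p q (J (mk 1 0)) ≠ 1 → Semi p q → ∀ v : Vm,
    ∃ u : Vm, v * u * (M p q u)⁻¹ = 1 ∨
      ((∀ z, M p q (M (v * u * (M p q u)⁻¹) (J (v * u * (M p q u)⁻¹)) z) =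
          M (v * u * (M p q u)⁻¹) (J (v * u * (M p q u)⁻¹)) (M (mk 1 0) (mk 0 (-1)) z)) ∨
        ∀ z, M p q z = z) := by decide

theorem exists_lin (w : Vm) (hw : w ≠ 1) : ∃ k : H, ∀ u, (k : MulAut Vm) u = M w (J w) u := by
  have hb : ∀ w : Vm, w ≠ 1 → Function.Bijective (M w (J w)) := by decide
  have hl : ∀ w u : Vm, M w (J w) (J u) = J (M w (J w) u) := by decide
  exact ⟨⟨MulEquiv.ofBijective (MonoidHom.mk' (M w (J w)) (M_mul w (J w))) (hb w hw),
    Or.inl (hl w)⟩, fun u => rfl⟩

theorem exists_refl : ∃ a : H, ∀ u, (a : MulAut Vm) u = M (mk 1 0) (mk 0 (-1)) u := by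
  have hb : Function.Bijective (M (mk 1 0) (mk 0 (-1))) := by decide
  have hl : ∀ u : Vm, M (mk 1 0) (mk 0 (-1)) (J u) = (J (M (mk 1 0) (mk 0 (-1)) u))⁻¹ := by decide
  exact ⟨⟨MulEquiv.ofBijective (MonoidHom.mk' _ (M_mul _ _)) hb, Or.inr hl⟩, fun u => rfl⟩


/-- There is a finite solvable group G with a subgroup A of order 2 such that every conjugacy class of G contains an element g for which A is subnormal in the subgroup generated by A and g, and yet A is not contained in O_2(G). (So the corresponding criteria for odd primes fail at the prime 2, even for solvable groups.) -/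
theorem result :
    ∃ (G : Type) (_ : Group G) (_ : Finite G) (A : Subgroup G), Group.IsSolvable G ∧ Nat.card A = 2 ∧
      (∀ c : G, ∃ g : G, IsConj c g ∧ (A.subgroupOf (A ⊔ Subgroup.zpowers g)).IsSubnormal) ∧
      ¬ A ≤ Cfsg.pCore 2 G := by
  obtain ⟨a, ha⟩ := exists_refl
  let φ : H →* MulAut Vm := H.subtype
  let G := Vm ⋊[φ] H
  let s : H →* G := SemidirectProduct.inr
  let t : Vm →* G := SemidirectProduct.inl
  have hH := isPGroup_H
  have ha2 : a * a = 1 := by
    refine Subtype.ext (MulEquiv.ext fun u => ?_)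
    show (a : MulAut Vm) ((a : MulAut Vm) u) = u
    rw [ha, ha]
    exact (by decide : ∀ u, M (mk 1 0) (mk 0 (-1)) (M (mk 1 0) (mk 0 (-1)) u) = u) u
  have ha1 : a ≠ 1 := by
    intro h
    have h' := ha (mk 0 1)
    rw [h] at h'
    exact absurd (show mk 0 1 = _ from h') (by decide)
  have haord : orderOf a = 2 := orderOf_eq_prime (by rw [sq, ha2]) ha1
  have : Finite H := inferInstance
  have : Finite G := Finite.of_equiv _ SemidirectProduct.equivProd.symm
  refine ⟨G, inferInstance, inferInstance, Subgroup.zpowers (s a), ?_, ?_, ?_, ?_⟩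
  · have h1 : Group.IsNilpotent H := hH.isNilpotent
    have h2 : Group.IsSolvable H := inferInstance
    exact Group.isSolvable_of_ker_le_range (t : Vm →* G) (SemidirectProduct.rightHom : G →* H)
      (le_of_eq SemidirectProduct.range_inl_eq_ker_rightHom.symm)
  · rw [Nat.card_zpowers, orderOf_injective s SemidirectProduct.inr_injective, haord]
  · intro c
    -- subnormality, once both generators lie in a nilpotent group
    have hsub : ∀ g : G, (g ∈ s.range ∨ Commute g (s a)) →
        ((Subgroup.zpowers (s a)).subgroupOf (Subgroup.zpowers (s a) ⊔ Subgroup.zpowers g)).IsSubnormal := by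
      intro g hg
      set K := Subgroup.zpowers (s a) ⊔ Subgroup.zpowers g with hK
      have : Group.IsNilpotent K := by
        rcases hg with hg | hg
        · have hle : K ≤ s.range := sup_le (Subgroup.zpowers_le.2 ⟨a, rfl⟩) (Subgroup.zpowers_le.2 hg)
          exact ((hH.of_surjective s.rangeRestrict s.rangeRestrict_surjective).to_le hle).isNilpotent
        · have hle : K ≤ Subgroup.closure {s a, g} := sup_le
            (Subgroup.zpowers_le.2 (Subgroup.subset_closure (by simp)))
            (Subgroup.zpowers_le.2 (Subgroup.subset_closure (by simp)))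
          have hc : IsMulCommutative (Subgroup.closure {s a, g}) := Subgroup.isMulCommutative_closure
            (by
              rintro x (rfl | rfl) y (rfl | rfl)
              exacts [rfl, hg.eq.symm, hg.eq, rfl])
          have hxy : ∀ x y : K, x * y = y * x := fun x y => Subtype.ext
            (show (x : G) * y = y * x from congrArg Subtype.val (hc.is_comm.comm ⟨(x : G), hle x.2⟩ ⟨(y : G), hle y.2⟩))
          let _ : CommGroup K := { (inferInstance : Group K) with mul_comm := hxy }
          exact CommGroup.isNilpotent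
      exact Cfsg.Agent.S0064.result.1 this _
    obtain ⟨v, h⟩ := c
    have he1 : M ((h : MulAut Vm) (mk 1 0)) ((h : MulAut Vm) (mk 0 1)) (J (mk 1 0)) ≠ 1 := by
      rw [← mulAut_apply]
      exact fun e => absurd ((h : MulAut Vm).map_eq_one_iff.1 e) (by decide)
    obtain ⟨u, hu⟩ := classify _ _ he1 (semi_of_mem h.2) v
    rw [← mulAut_apply] at hu
    set w := v * u * ((h : MulAut Vm) u)⁻¹ with hw
    have hc : IsConj (⟨v, h⟩ : G) ⟨w, h⟩ := by
      refine isConj_iff.2 ⟨t u, ?_⟩
      show t u * (⟨v, h⟩ : G) * (t u)⁻¹ = _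
      ext1
      · show (t u).left * φ 1 v * φ (1 * h) (φ (1 : H)⁻¹ u⁻¹) = w
        rw [inv_one, map_one φ, one_mul, hw]
        show u * v * (h : MulAut Vm) u⁻¹ = _
        rw [map_inv, mul_comm u v]
      · show 1 * h * (1 : H)⁻¹ = h
        group
    by_cases hw1 : w = 1
    · refine ⟨⟨w, h⟩, hc, hsub _ (Or.inl ⟨h, ?_⟩)⟩
      rw [hw1]
      rfl
    obtain ⟨k, hk⟩ := exists_lin w hw1
    have hz : (∀ z, (h : MulAut Vm) ((k : MulAut Vm) z) = (k : MulAut Vm) ((a : MulAut Vm) z)) ∨
        ∀ z, (h : MulAut Vm) z = z := by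
      rcases hu.resolve_left hw1 with H' | H'
      · refine Or.inl fun z => ?_
        rw [hk, hk, ha, mulAut_apply (h : MulAut Vm)]
        exact H' z
      · refine Or.inr fun z => ?_
        rw [mulAut_apply (h : MulAut Vm)]
        exact H' z
    refine ⟨(s k)⁻¹ * ⟨w, h⟩ * s k, hc.trans (isConj_iff.2 ⟨(s k)⁻¹, by rw [inv_inv]⟩),
      hsub _ (Or.inr ?_)⟩
    -- the conjugate is fixed by the reflection
    have hkw : ((k : MulAut Vm))⁻¹ w = mk 1 0 := by
      apply (k : MulAut Vm).injective
      rw [MulAut.apply_inv_self, hk]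
      exact (by decide : ∀ w, w = M w (J w) (mk 1 0)) w
    have hka : Commute (k⁻¹ * h * k) a := by
      rcases hz with hz | hz
      · have : h * k = k * a := Subtype.ext (MulEquiv.ext fun z => hz z)
        rw [mul_assoc, this, inv_mul_cancel_left]
      · have : h = 1 := Subtype.ext (MulEquiv.ext fun z => hz z)
        rw [this, mul_one, inv_mul_cancel]
        exact Commute.one_left a
    have hg : (s k)⁻¹ * ⟨w, h⟩ * s k = t (mk 1 0) * s (k⁻¹ * h * k) := by
      clear_value w
      rw [SemidirectProduct.mk_eq_inl_mul_inr, map_mul, map_mul, map_inv, ← hkw]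
      show _ = SemidirectProduct.inl (φ k⁻¹ w) * _
      rw [SemidirectProduct.inl_aut, inv_inv]
      simp [s, t, mul_assoc]
    rw [hg]
    refine Commute.mul_left ?_ (hka.map s)
    refine Commute.symm ?_
    show s a * t (mk 1 0) = t (mk 1 0) * s a
    have h1 : φ a (mk 1 0) = mk 1 0 := by
      show (a : MulAut Vm) (mk 1 0) = _
      rw [ha]
      decide
    conv_rhs => rw [← h1]
    show _ = SemidirectProduct.inl (φ a (mk 1 0)) * _
    rw [SemidirectProduct.inl_aut, map_inv, inv_mul_cancel_right]
  · intro hle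
    have hT : Cfsg.pCore 2 G ⊓ t.range = ⊥ := by
      have h2 : IsPGroup 2 (Cfsg.pCore 2 G) := CfsgLib.Solvable.Cores.isPGroup_pCore 2
      have h3 : IsPGroup 3 t.range := by
        refine (?_ : IsPGroup 3 Vm).of_surjective t.rangeRestrict t.rangeRestrict_surjective
        exact IsPGroup.of_card (n := 2) (by simp [Nat.card_eq_fintype_card])
      have : Fact (Nat.Prime 3) := ⟨by norm_num⟩
      exact (IsPGroup.disjoint_of_ne 2 3 (by norm_num) _ _ h2 h3).eq_bot
    have hn : (t.range).Normal := by
      rw [SemidirectProduct.range_inl_eq_ker_rightHom]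
      infer_instance
    have hm := hle (Subgroup.mem_zpowers (s a))
    have : (Cfsg.pCore 2 G).Normal := inferInstance
    have h1 := Subgroup.commute_of_normal_of_disjoint _ _ inferInstance hn (disjoint_iff.2 hT)
      (s a) (t (mk 0 1)) hm ⟨_, rfl⟩
    have h2 := congrArg SemidirectProduct.left h1.eq
    replace h2 : (1 : Vm) * (a : MulAut Vm) (mk 0 1) = mk 0 1 * φ 1 1 := h2
    rw [ha, map_one φ] at h2
    exact absurd h2 (by decide)

end Cfsg.Agent.S4331
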