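import Cfsg.Statements.S4332


set_option autoImplicit false
open Pointwise
open Cfsg

namespace Cfsg.Agent.S4332

open scoped Pointwise
open Equiv

theorem conj_swap3 (c : Perm (Fin 8)) (a b d : Fin 8) :
    c * (swap a b * swap a d) * c⁻¹ = swap (c a) (c b) * swap (c a) (c d) := by
  rw [Equiv.swap_apply_apply, Equiv.swap_apply_apply]
  group

theorem rot3 : ∀ a b d : Fin 8, a ≠ b → a ≠ d → b ≠ d →
    swap b d * swap b a = swap a b * swap a d := by
  decide +kernel

theorem exists_commuting (c : Perm (Fin 8)) :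
    ∃ τ : Perm (Fin 8), τ.IsThreeCycle ∧ Commute τ (c * τ * c⁻¹) := by
  -- three fixed points
  have of_fixed : ∀ a b d, a ≠ b → a ≠ d → b ≠ d → c a = a → c b = b → c d = d →
      ∃ τ : Perm (Fin 8), τ.IsThreeCycle ∧ Commute τ (c * τ * c⁻¹) := fun a b d h1 h2 h3 ha hb hd =>
    ⟨swap a b * swap a d, Perm.isThreeCycle_swap_mul_swap_same h1 h2 h3,
      by rw [conj_swap3, ha, hb, hd]⟩
  -- three points moved to three other points
  have of_disjoint : ∀ a b d, a ≠ b → a ≠ d → b ≠ d →
      (∀ u ∈ ({a, b, d} : Finset (Fin 8)), c u ∉ ({a, b, d} : Finset (Fin 8))) →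
      ∃ τ : Perm (Fin 8), τ.IsThreeCycle ∧ Commute τ (c * τ * c⁻¹) := by
    intro a b d h1 h2 h3 hd
    refine ⟨swap a b * swap a d, Perm.isThreeCycle_swap_mul_swap_same h1 h2 h3, ?_⟩
    refine (Perm.Disjoint.commute ?_)
    intro w
    by_cases hw : w ∈ ({a, b, d} : Finset (Fin 8))
    · right
      rw [conj_swap3]
      have hne : ∀ u ∈ ({a, b, d} : Finset (Fin 8)), w ≠ c u := fun u hu e => hd u hu (e ▸ hw)
      simp only [Perm.mul_apply]
      rw [swap_apply_of_ne_of_ne (hne a (by simp)) (hne d (by simp)),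
        swap_apply_of_ne_of_ne (hne a (by simp)) (hne b (by simp))]
    · left
      simp only [Finset.mem_insert, Finset.mem_singleton, not_or] at hw
      simp only [Perm.mul_apply]
      rw [swap_apply_of_ne_of_ne hw.1 hw.2.2, swap_apply_of_ne_of_ne hw.1 hw.2.1]
  -- a point outside five given ones
  have pick : ∀ M : Finset (Fin 8), 6 ≤ M.card → ∀ p q r s t : Fin 8,
      ∃ z ∈ M, z ≠ p ∧ z ≠ q ∧ z ≠ r ∧ z ≠ s ∧ z ≠ t := by
    intro M hM p q r s t
    by_contra hc
    have hsub : M ⊆ {p, q, r, s, t} := fun z hz => by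
      by_contra hz'
      simp only [Finset.mem_insert, Finset.mem_singleton, not_or] at hz'
      exact hc ⟨z, hz, hz'.1, hz'.2.1, hz'.2.2.1, hz'.2.2.2.1, hz'.2.2.2.2⟩
    have := Finset.card_le_card hsub
    have : ({p, q, r, s, t} : Finset (Fin 8)).card ≤ 5 := Finset.card_le_five
    omega
  by_cases hmv : 6 ≤ c.support.card
  · obtain ⟨x, hx, -⟩ := pick c.support hmv 0 0 0 0 0
    rw [Perm.mem_support] at hx
    by_cases h3 : c (c (c x)) = x
    · have h12 : c (c x) ≠ x := fun e => hx (by rw [e] at h3; exact h3)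
      refine ⟨swap x (c x) * swap x (c (c x)), Perm.isThreeCycle_swap_mul_swap_same (Ne.symm hx)
        (Ne.symm h12) (fun e => hx (c.injective e.symm)), ?_⟩
      rw [conj_swap3, h3]
      have e : swap (c x) (c (c x)) * swap (c x) x = swap x (c x) * swap x (c (c x)) :=
        rot3 _ _ _ (Ne.symm hx) (Ne.symm h12) (fun e => hx (c.injective e.symm))
      rw [e]
    by_cases h2 : c (c x) = x
    · obtain ⟨y, hy, hy1, hy2, -⟩ := pick c.support hmv x (c x) x x x
      rw [Perm.mem_support] at hy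
      obtain ⟨z, hz, hz1, hz2, hz3, hz4, hz5⟩ := pick c.support hmv x (c x) y (c y) (c⁻¹ y)
      rw [Perm.mem_support] at hz
      refine of_disjoint x y z (Ne.symm hy1) (Ne.symm hz1) (Ne.symm hz3) ?_
      have hcy : c y ≠ x := fun e => hy2 (c.injective (e.trans h2.symm))
      have hcz : c z ≠ x := fun e => hz2 (c.injective (e.trans h2.symm))
      have hcz' : c z ≠ y := fun e => hz5 (by rw [← e]; exact (c.symm_apply_apply z).symm)
      simp only [Finset.mem_insert, Finset.mem_singleton]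
      rintro u (rfl | rfl | rfl) <;> simp only [not_or]
      · exact ⟨hx, Ne.symm hy2, Ne.symm hz2⟩
      · exact ⟨hcy, hy, Ne.symm hz4⟩
      · exact ⟨hcz, hcz', hz⟩
    · obtain ⟨z, hz, hz1, hz2, hz3, hz4, hz5⟩ :=
        pick c.support hmv (c⁻¹ x) x (c x) (c (c x)) (c (c (c x)))
      rw [Perm.mem_support] at hz
      refine of_disjoint x (c (c x)) z (Ne.symm h2) (Ne.symm hz2) (Ne.symm hz4) ?_
      have hcz : c z ≠ x := fun e => hz1 (by rw [← e]; exact (c.symm_apply_apply z).symm)
      have hcz' : c z ≠ c (c x) := fun e => hz3 (c.injective e)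
      simp only [Finset.mem_insert, Finset.mem_singleton]
      rintro u (rfl | rfl | rfl) <;> simp only [not_or]
      · exact ⟨hx, fun e => hx (c.injective e.symm), Ne.symm hz3⟩
      · exact ⟨h3, fun e => hx (c.injective (c.injective e)), Ne.symm hz5⟩
      · exact ⟨hcz, hcz', hz⟩
  · have hc : 3 ≤ (Finset.univ \ c.support).card := by
      rw [Finset.card_univ_sdiff, Fintype.card_fin]
      omega
    obtain ⟨T, hT, hTc⟩ := Finset.exists_subset_card_eq hc
    obtain ⟨a, b, d, hab, had, hbd, rfl⟩ := Finset.card_eq_three.1 hTc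
    have hfixT : ∀ u ∈ ({a, b, d} : Finset (Fin 8)), c u = u := fun u hu => by
      have := (Finset.mem_sdiff.1 (hT hu)).2
      simpa using this
    exact of_fixed a b d hab had hbd (hfixT a (by simp)) (hfixT b (by simp)) (hfixT d (by simp))


/-- In the symmetric group of degree 8, let A be the subgroup generated by a 3-cycle. Then every conjugacy class contains an element g for which A is subnormal in the subgroup generated by A and its conjugate by g, although O_3 of the symmetric group of degree 8 is trivial. -/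
theorem result
    (σ : Equiv.Perm (Fin 8)) (hσ : σ.IsThreeCycle) :
    (∀ c : Equiv.Perm (Fin 8), ∃ g : Equiv.Perm (Fin 8), IsConj c g ∧
      ((Subgroup.zpowers σ).subgroupOf (Subgroup.zpowers σ ⊔ MulAut.conj g • Subgroup.zpowers σ)).IsSubnormal) ∧
    Cfsg.pCore 3 (Equiv.Perm (Fin 8)) = ⊥ := by
  classical
  refine ⟨fun c => ?_, ?_⟩
  · obtain ⟨τ, hτ, hcomm⟩ := exists_commuting c
    have ht : IsConj σ τ := by
      rw [Equiv.Perm.isConj_iff_cycleType_eq, show σ.cycleType = {3} from hσ,
        show τ.cycleType = {3} from hτ]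
    obtain ⟨t, rfl⟩ := isConj_iff.1 ht
    refine ⟨t⁻¹ * c * t, isConj_iff.2 ⟨t⁻¹, by group⟩, ?_⟩
    set g := t⁻¹ * c * t with hg
    have hcom : Commute σ (g * σ * g⁻¹) := by
      have e : g * σ * g⁻¹ = t⁻¹ * (c * (t * σ * t⁻¹) * c⁻¹) * t := by rw [hg]; group
      rw [e]
      show σ * _ = _ * σ
      have h' := hcomm.eq
      calc σ * (t⁻¹ * (c * (t * σ * t⁻¹) * c⁻¹) * t)
          = t⁻¹ * ((t * σ * t⁻¹) * (c * (t * σ * t⁻¹) * c⁻¹)) * t := by group
        _ = t⁻¹ * ((c * (t * σ * t⁻¹) * c⁻¹) * (t * σ * t⁻¹)) * t := by rw [h']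
        _ = _ := by group
    have hn : ((Subgroup.zpowers σ).subgroupOf
        (Subgroup.zpowers σ ⊔ MulAut.conj g • Subgroup.zpowers σ)).Normal := by
      rw [Subgroup.normal_subgroupOf_iff_le_normalizer le_sup_left]
      refine sup_le Subgroup.le_normalizer ?_
      intro y hy
      obtain ⟨z, hz, rfl⟩ := hy
      obtain ⟨i, rfl⟩ := Subgroup.mem_zpowers_iff.1 hz
      refine Subgroup.mem_normalizer_iff.2 fun w => ?_
      show w ∈ _ ↔ MulAut.conj g (σ ^ i) * w * (MulAut.conj g (σ ^ i))⁻¹ ∈ _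
      rw [map_zpow, MulAut.conj_apply]
      have hk : Commute σ ((g * σ * g⁻¹) ^ i) := hcom.zpow_right i
      constructor <;> intro hw
      · obtain ⟨j, rfl⟩ := Subgroup.mem_zpowers_iff.1 hw
        rw [← (hk.zpow_left j).eq, mul_inv_cancel_right]
        exact ⟨j, rfl⟩
      · obtain ⟨j, hj⟩ := Subgroup.mem_zpowers_iff.1 hw
        have e : w = ((g * σ * g⁻¹) ^ i)⁻¹ * σ ^ j * (g * σ * g⁻¹) ^ i := by rw [hj]; group
        rw [e, mul_assoc, (hk.zpow_left j).eq, inv_mul_cancel_left]
        exact ⟨j, rfl⟩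
    exact Subgroup.Normal.isSubnormal hn
  · rw [Cfsg.pCore, sSup_eq_bot]
    rintro N ⟨hN, hN3⟩
    by_contra hne
    have hfix : MulAction.fixedPoints N (Fin 8) ≠ Set.univ := by
      intro h
      apply hne
      rw [Subgroup.eq_bot_iff_forall]
      intro g hg
      ext x
      exact congrArg Fin.val ((h.symm ▸ Set.mem_univ x : x ∈ MulAction.fixedPoints N (Fin 8)) ⟨g, hg⟩)
    have htr : MulAction.IsPretransitive N (Fin 8) :=
      MulAction.IsQuasiPreprimitive.isPretransitive_of_normal hfix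
    have h := MulAction.index_stabilizer_of_transitive N (0 : Fin 8)
    rw [Nat.card_eq_fintype_card, Fintype.card_fin] at h
    have h2 := Subgroup.index_dvd_card (MulAction.stabilizer N (0 : Fin 8))
    rw [h] at h2
    have : Fact (Nat.Prime 3) := ⟨Nat.prime_three⟩
    obtain ⟨k, hk⟩ := IsPGroup.iff_card.1 hN3
    rw [hk] at h2
    have h3 : Nat.Coprime 8 (3 ^ k) := (by norm_num : Nat.Coprime 8 3).pow_right k
    have h4 := h3.eq_one_of_dvd h2
    norm_num at h4

end Cfsg.Agent.S4332
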