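import Cfsg.Statements.S4333
import Cfsg.Agent.Lib.Frobenius.Zipper

set_option autoImplicit false
open Pointwise
open Cfsg

namespace Cfsg.Agent.S4333

open Subgroup
open scoped Pointwise

universe u

theorem aux : ∀ (n : ℕ) {G : Type u} [Group G] [Finite G], Nat.card G = n → ∀ A : Subgroup G,
    (∀ a ∈ A, ∀ g : G, (A.subgroupOf (A ⊔ MulAut.conj (g⁻¹ * a * g) • A)).IsSubnormal) →
      A.IsSubnormal := by
  intro n
  induction n using Nat.strong_induction_on with
  | _ n ih =>
    intro G _ _ hn A h
    have hsub : ∀ K : Subgroup G, A ≤ K → K ≠ ⊤ → (A.subgroupOf K).IsSubnormal := by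
      intro K hAK hK
      refine ih (Nat.card K) ?_ rfl (A.subgroupOf K) ?_
      · rw [← hn]
        refine lt_of_le_of_ne (Nat.le_of_dvd Nat.card_pos (card_subgroup_dvd_card K)) fun e => hK ?_
        exact eq_top_of_card_eq K e
      intro a ha g
      set x := g⁻¹ * a * g with hx
      set W := A ⊔ MulAut.conj ((x : K) : G) • A with hW
      set W' := A.subgroupOf K ⊔ MulAut.conj x • A.subgroupOf K with hW'
      have hle : W' ≤ W.comap K.subtype := by
        refine sup_le (fun b hb => mem_sup_left (T := MulAut.conj ((x : K) : G) • A) hb) ?_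
        intro b hb
        obtain ⟨c, hc, rfl⟩ := hb
        exact mem_sup_right (S := A) ⟨((c : K) : G), hc, rfl⟩
      have hW0 : (A.subgroupOf W).IsSubnormal := h ((a : K) : G) ha ((g : K) : G)
      let f : W' →* W :=
        { toFun := fun b => ⟨((b : K) : G), hle b.2⟩
          map_one' := rfl
          map_mul' := fun _ _ => rfl }
      exact hW0.comap f
    by_contra hns
    obtain ⟨M, ⟨hM, hAM⟩, huniq⟩ := CfsgLib.Frobenius.Zipper.existsUnique_coatom hsub hns
    have hin : ∀ K : Subgroup G, A ≤ K → K ≠ ⊤ → K ≤ M := by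
      intro K hAK hK
      obtain ⟨M', hM', hKM'⟩ := (eq_top_or_exists_le_coatom K).resolve_left hK
      exact huniq M' ⟨hM', hAK.trans hKM'⟩ ▸ hKM'
    -- every conjugate by `g⁻¹ a g` stays inside `M`
    have hconj : ∀ a ∈ A, ∀ g : G, MulAut.conj (g⁻¹ * a * g) • A ≤ M := by
      intro a ha g
      refine le_sup_right.trans (hin _ le_sup_left fun e => hns ?_)
      have h1 := h a ha g
      rw [e] at h1
      have h2 := h1.map (f := (⊤ : Subgroup G).subtype) (fun x => ⟨⟨x, trivial⟩, rfl⟩)
      rwa [map_subgroupOf_eq_of_le le_top] at h2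
    by_cases hMn : M.Normal
    · exact hns (Subgroup.IsSubnormal.trans hAM (hsub M hAM hM.1) hMn.isSubnormal)
    -- hence these elements normalise `M`
    have hall : ∀ g : G, ∀ a ∈ A, g⁻¹ * a * g ∈ M := by
      intro g a ha
      have hnorm : normalizer (M : Set G) = M := by
        refine ((hM.le_iff.1 le_normalizer).resolve_left fun e => hMn ?_)
        exact normalizer_eq_top_iff.1 e
      set x := g⁻¹ * a * g with hx
      rw [← hnorm, Subgroup.mem_normalizer_iff_map_conj_eq]
      refine huniq _ ⟨?_, ?_⟩
      · exact (MulEquiv.mapSubgroup (MulAut.conj x)).isCoatom_iff M |>.2 hM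
      · intro b hb
        refine ⟨x⁻¹ * b * x, ?_, by simp [mul_assoc]⟩
        refine hconj a⁻¹ (inv_mem ha) g ⟨b, hb, ?_⟩
        simp [hx, mul_assoc]
    have hN : normalClosure (A : Set G) ≤ M := by
      refine (closure_le M).2 fun y hy => ?_
      obtain ⟨a, ha, hay⟩ := Group.mem_conjugatesOfSet_iff.1 hy
      obtain ⟨g, rfl⟩ := isConj_iff.1 hay
      simpa using hall g⁻¹ a ha
    exact hns (Subgroup.IsSubnormal.trans le_normalClosure
      (hsub _ le_normalClosure fun e => hM.1 (top_le_iff.1 (e ▸ hN))) normalClosure_normal.isSubnormal)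


/-- Let A be a subgroup of a finite group G. If A is subnormal in the subgroup generated by A and its conjugate by g⁻¹ a g, for every a ∈ A and every g ∈ G, then A is subnormal in G. (A sharpening of Wielandt's subnormality criterion: only conjugates of A by conjugates of elements of A are needed.) -/
theorem result {G : Type*} [Group G] [Finite G]
    (A : Subgroup G)
    (h : ∀ a ∈ A, ∀ g : G, (A.subgroupOf (A ⊔ MulAut.conj (g⁻¹ * a * g) • A)).IsSubnormal) :
    A.IsSubnormal := by
  exact aux (Nat.card G) rfl A h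

end Cfsg.Agent.S4333
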