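import Cfsg.Statements.S4334
import Cfsg.Agent.Lib.Fusion.Alperin
import Cfsg.Agent.Lib.OddOrder.Basic
import Cfsg.Agent.Lib.Coprime.SchurZassenhaus

set_option autoImplicit false
open Cfsg

namespace Cfsg.Agent.S4334

open Subgroup CfsgLib

variable {G : Type*} [Group G] [Finite G]

/-- Conjugation as a homomorphism. -/
abbrev cj (g : G) : G →* G := (MulAut.conj g).toMonoidHom

theorem cj_apply (g x : G) : cj g x = g * x * g⁻¹ := rfl

theorem map_cj_cj (a b : G) (K : Subgroup G) : (K.map (cj a)).map (cj b) = K.map (cj (b * a)) := by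
  rw [Subgroup.map_map]
  congr 1
  ext x
  simp [cj_apply, mul_assoc]

/-- In `Hs × Ht` a `p`-element commutes with every element of order prime to `p`. -/
theorem commute_in (σ τ : Set ℕ) (hd : Disjoint σ τ) (Hs Ht : Subgroup G)
    (hs : IsPiSubgroup σ Hs) (ht : IsPiSubgroup τ Ht) (hsn : Group.IsNilpotent Hs)
    (hcomm : ∀ a ∈ Hs, ∀ b ∈ Ht, a * b = b * a) {p : ℕ} (hp : p.Prime) (hpσ : p ∈ σ)
    {x h : G} (hx : x ∈ Hs ⊔ Ht) (hh : h ∈ Hs ⊔ Ht) (hxo : ∃ k, orderOf x = p ^ k)
    (hho : (orderOf h).Coprime p) : Commute x h := by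
  have hle : Hs ≤ centralizer (Ht : Set G) := fun a ha =>
    mem_centralizer_iff.mpr fun b hb => (hcomm a ha b hb).symm
  have hdec : ∀ z ∈ Hs ⊔ Ht, ∃ a ∈ Hs, ∃ b ∈ Ht, z = a * b := by
    intro z hz
    rw [sup_comm, CfsgLib.Coprime.mem_sup_of_le_normalizer (hle.trans (centralizer_le_normalizer (Ht : Set G)))] at hz
    obtain ⟨b, hb, a, ha, rfl⟩ := hz
    exact ⟨a, ha, b, hb, (hcomm a ha b hb).symm⟩
  have hord : ∀ a ∈ Hs, ∀ b ∈ Ht, orderOf (a * b) = orderOf a * orderOf b := by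
    intro a ha b hb
    refine Commute.orderOf_mul_eq_mul_orderOf_of_coprime (hcomm a ha b hb) ?_
    refine Nat.coprime_of_dvd fun r hr hra hrb => ?_
    exact Set.disjoint_left.mp hd (hs r hr (hra.trans (orderOf_dvd_natCard Hs ha)))
      (ht r hr (hrb.trans (orderOf_dvd_natCard Ht hb)))
  obtain ⟨a, ha, b, hb, rfl⟩ := hdec x hx
  obtain ⟨c, hc, d, hd', rfl⟩ := hdec h hh
  obtain ⟨k, hk⟩ := hxo
  rw [hord a ha b hb] at hk
  rw [hord c hc d hd'] at hho
  have hb1 : b = 1 := by
    obtain ⟨i, -, hi⟩ := (Nat.dvd_prime_pow hp).mp (Dvd.intro_left _ hk : orderOf b ∣ p ^ k)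
    rcases i with _ | i
    · exact orderOf_eq_one_iff.mp (by rw [hi, pow_zero])
    · refine absurd (ht p hp (dvd_trans ?_ (orderOf_dvd_natCard Ht hb))) (Set.disjoint_left.mp hd hpσ)
      rw [hi]; exact dvd_pow_self p (Nat.succ_ne_zero i)
  subst hb1
  rw [mul_one]
  rw [orderOf_one, mul_one] at hk
  have hac : Commute a c := OddOrder.Basic.commute_of_mem_nilpotent (K := Hs) ha hc (by
    rw [hk]; exact (hho.coprime_dvd_left (dvd_mul_right _ _)).symm.pow_left k)
  exact hac.mul_right (hcomm a ha d hd')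


/-- Let σ and τ be disjoint sets of primes with union π. Suppose a finite group G has a Hall π-subgroup H which is the direct product of a nilpotent σ-subgroup and a τ-subgroup (two elementwise-commuting subgroups generating H), and that the maximal τ-subgroups of G are pairwise conjugate. Then the maximal π-subgroups of G are pairwise conjugate. -/
theorem result {G : Type*} [Group G] [Finite G]
    (σ τ π : Set ℕ) (hπ : π = σ ∪ τ) (hd : Disjoint σ τ) (H Hs Ht : Subgroup G) (hH : Cfsg.IsPiHall π H)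
    (hs : Cfsg.IsPiSubgroup σ Hs) (ht : Cfsg.IsPiSubgroup τ Ht) (hsn : Group.IsNilpotent Hs)
    (hjoin : Hs ⊔ Ht = H) (hcomm : ∀ a ∈ Hs, ∀ b ∈ Ht, a * b = b * a) (hD : Cfsg.IsDPiGroup τ G) :
    Cfsg.IsDPiGroup π G := by
  classical
  haveI : Group.IsNilpotent Hs := hsn
  subst hπ
  subst hjoin
  -- Sylow subgroups of `H` are Sylow subgroups of `G`
  have hsyl : ∀ q : ℕ, q.Prime → q ∈ σ ∪ τ → ∃ Q : Subgroup G, Q ≤ Hs ⊔ Ht ∧ IsPGroup q Q ∧ ¬ q ∣ Q.index := by
    intro q hq hqπ
    haveI := Fact.mk hq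
    obtain ⟨Q⟩ : Nonempty (Sylow q ↥(Hs ⊔ Ht)) := inferInstance
    refine ⟨(Q : Subgroup ↥(Hs ⊔ Ht)).map (Hs ⊔ Ht).subtype, Subgroup.map_subtype_le _, Q.2.map _, ?_⟩
    rw [Subgroup.index_map_subtype, hq.dvd_mul]
    exact not_or.mpr ⟨Q.not_dvd_index, hH.2 q hq hqπ⟩
  -- step 1: the elements of order prime to `p` normalising a `p`-subgroup centralise it
  have key : ∀ p : ℕ, p.Prime → p ∈ σ → ∀ U : Subgroup G, IsPGroup p U → ∀ y : G,
      y ∈ normalizer (U : Set G) → (orderOf y).Coprime p →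
      (∀ r : ℕ, r.Prime → r ∣ orderOf y → r ∈ σ ∪ τ) → y ∈ centralizer (U : Set G) := by
    intro p hp hpσ U hU y hy hyo hyπ
    haveI := Fact.mk hp
    obtain ⟨Q, hQH, hQp, hQi⟩ := hsyl p hp (Or.inl hpσ)
    obtain ⟨S, hS⟩ := hU.exists_le_sylow
    obtain ⟨g, hg⟩ := MulAction.exists_smul_eq G S (hQp.toSylow hQi)
    have hgS : ∀ u ∈ U, g * u * g⁻¹ ∈ Hs ⊔ Ht := by
      intro u hu
      refine hQH ?_
      have h1 : MulAut.conj g u ∈ ((g • S : Sylow p G) : Subgroup G) := by
        rw [Sylow.coe_subgroup_smul]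
        exact Subgroup.smul_mem_pointwise_smul u (MulAut.conj g) _ (hS hu)
      rw [hg] at h1
      exact h1
    by_contra hyC
    obtain ⟨r, hr, hrd⟩ := Nat.exists_prime_and_dvd (n := orderOf (QuotientGroup.mk'
      ((centralizer (U : Set G)).subgroupOf (normalizer (U : Set G))) ⟨y, hy⟩)) (by
        intro h
        rw [orderOf_eq_one_iff] at h
        exact hyC (Subgroup.mem_subgroupOf.mp ((QuotientGroup.eq_one_iff _).mp h)))
    have hry : r ∣ orderOf y :=
      (hrd.trans (orderOf_map_dvd _ _)).trans (by rw [Subgroup.orderOf_mk])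
    have hrp : r ≠ p := by
      rintro rfl
      exact hr.one_lt.ne' (Nat.dvd_one.mp (hyo ▸ Nat.dvd_gcd hry dvd_rfl))
    haveI := Fact.mk hr
    obtain ⟨R, hRH, hRr, hRi⟩ := hsyl r hr (hyπ r hr hry)
    have hRC : R.map (cj g⁻¹) ≤ centralizer (U : Set G) := by
      rintro _ ⟨x, hx, rfl⟩
      refine mem_centralizer_iff.mpr fun u hu => ?_
      obtain ⟨k, hk⟩ := IsPGroup.iff_orderOf.mp hU ⟨u, hu⟩
      obtain ⟨j, hj⟩ := IsPGroup.iff_orderOf.mp hRr ⟨x, hx⟩
      have hc : Commute (g * u * g⁻¹) x := commute_in σ τ hd Hs Ht hs ht hsn hcomm hp hpσ (hgS u hu)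
        (hRH hx) ⟨k, by rw [← hk, Subgroup.orderOf_mk]; exact (MulAut.conj g).orderOf_eq u⟩ (by
          rw [Subgroup.orderOf_mk] at hj
          rw [hj]
          exact ((Nat.coprime_primes hr hp).mpr hrp).pow_left j)
      calc u * cj g⁻¹ x = g⁻¹ * ((g * u * g⁻¹) * x) * g := by simp [cj_apply, mul_assoc]
        _ = g⁻¹ * (x * (g * u * g⁻¹)) * g := by rw [hc.eq]
        _ = cj g⁻¹ x * u := by simp [cj_apply, mul_assoc]
    refine hRi ?_
    have h2 : r ∣ (centralizer (U : Set G)).relIndex (normalizer (U : Set G)) :=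
      hrd.trans (orderOf_dvd_natCard _)
    have h3 : (centralizer (U : Set G)).relIndex (normalizer (U : Set G)) ∣ (centralizer (U : Set G)).index :=
      Subgroup.relIndex_dvd_index_of_le (centralizer_le_normalizer _)
    have h4 := Subgroup.index_dvd_of_le hRC
    rw [Subgroup.index_map_of_bijective (f := cj g⁻¹) (MulAut.conj g⁻¹).bijective] at h4
    exact (h2.trans h3).trans h4
  -- step 2
  have hnpc : ∀ p : ℕ, p.Prime → p ∈ σ → ∀ L : Subgroup G, IsPiSubgroup (σ ∪ τ) L →
      Cfsg.HasNormalPComplement p L := by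
    intro p hp hpσ L hL
    haveI := Fact.mk hp
    obtain ⟨P⟩ : Nonempty (Sylow p L) := inferInstance
    refine Fusion.Alperin.npc_of_frobenius P fun Q hQ y hy hyo => ?_
    have h := key p hp hpσ (Q.map L.subtype) ((P.2.to_le hQ).map _) (y : G)
      (Subgroup.le_normalizer_map L.subtype ⟨y, hy, rfl⟩) (by rwa [Subgroup.orderOf_coe])
      (fun r hr hrd => hL r hr (hrd.trans (Subgroup.orderOf_dvd_natCard L y.2)))
    exact mem_centralizer_iff.mpr fun q hq =>
      Subtype.ext (mem_centralizer_iff.mp h (q : G) ⟨q, hq, rfl⟩)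
  -- step 3
  have main : ∀ s : Finset ℕ, (∀ p ∈ s, p.Prime ∧ p ∈ σ) → ∀ L : Subgroup G,
      IsPiSubgroup (τ ∪ ↑s) L → ∃ g : G, L.map (cj g) ≤ Hs ⊔ Ht := by
    intro s
    induction s using Finset.induction_on with
    | empty =>
      intro _ L hL
      simp only [Finset.coe_empty, Set.union_empty] at hL
      obtain ⟨M, hLM, hM⟩ := Finite.exists_le_maximal (p := IsPiSubgroup τ) hL
      have hHtmax : Maximal (IsPiSubgroup τ) Ht := by
        refine ⟨ht, fun K hK hle => ?_⟩
        rw [← Subgroup.relIndex_eq_one]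
        by_contra hne
        obtain ⟨r, hr, hrd⟩ := Nat.exists_prime_and_dvd hne
        have hrτ : r ∈ τ := hK r hr (hrd.trans (Dvd.intro_left _ (Subgroup.card_mul_index (Ht.subgroupOf K))))
        have h1 : r ∣ Ht.relIndex (Hs ⊔ Ht) * (Hs ⊔ Ht).index := by
          rw [Subgroup.relIndex_mul_index le_sup_right]
          exact hrd.trans (Subgroup.relIndex_dvd_index_of_le hle)
        rcases hr.dvd_mul.mp h1 with h | h
        · have hle' : Hs ≤ centralizer (Ht : Set G) := fun a ha =>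
            mem_centralizer_iff.mpr fun b hb => (hcomm a ha b hb).symm
          have hdis : Disjoint Ht Hs := Subgroup.disjoint_of_coprime_natCard
            (Nat.coprime_of_dvd fun r hr hra hrb => Set.disjoint_left.mp hd (hs r hr hrb) (ht r hr hra))
          have h5 := CfsgLib.Coprime.card_mul_relIndex' (le_sup_right : Ht ≤ Hs ⊔ Ht)
          rw [sup_comm, CfsgLib.Coprime.card_sup_of_le_normalizer (hle'.trans (centralizer_le_normalizer _)) hdis] at h5
          rw [sup_comm, Nat.eq_of_mul_eq_mul_left Nat.card_pos h5] at h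
          exact Set.disjoint_left.mp hd (hs r hr h) hrτ
        · exact hH.2 r hr (Or.inr hrτ) h
      obtain ⟨g, hg⟩ := hD M Ht hM hHtmax
      exact ⟨g, (Subgroup.map_mono hLM).trans (hg ▸ le_sup_right)⟩
    | @insert p s hps ih =>
      intro hsp L hL
      obtain ⟨hp, hpσ⟩ := hsp p (Finset.mem_insert_self p s)
      haveI := Fact.mk hp
      have hLπ : IsPiSubgroup (σ ∪ τ) L := fun r hr hrd => by
        rcases hL r hr hrd with h | h
        · exact Or.inr h
        · exact Or.inl (hsp r h).2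
      obtain ⟨P, N, hNn, hcompl⟩ := hnpc p hp hpσ L hLπ
      have hcop : ¬ p ∣ Nat.card N := by
        rw [← hcompl.index_eq_card]
        exact P.not_dvd_index
      have hN' : IsPiSubgroup (τ ∪ ↑s) (N.map L.subtype) := by
        intro r hr hrd
        rw [Subgroup.card_map_of_injective L.subtype_injective] at hrd
        rcases hL r hr (hrd.trans (Subgroup.card_subgroup_dvd_card N)) with h | h
        · exact Or.inl h
        · rcases Finset.mem_insert.mp h with rfl | h'
          · exact absurd hrd hcop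
          · exact Or.inr h'
      obtain ⟨g, hg⟩ := ih (fun r hr => hsp r (Finset.mem_insert_of_mem hr)) _ hN'
      set N₁ := (N.map L.subtype).map (cj g) with hN₁
      set P₁ := ((P : Subgroup L).map L.subtype).map (cj g) with hP₁
      have hP₁N : P₁ ≤ normalizer (N₁ : Set G) := by
        refine le_trans (Subgroup.map_mono ?_) (Subgroup.le_normalizer_map (cj g))
        exact le_trans (Subgroup.map_mono (le_top.trans (ge_of_eq (Subgroup.normalizer_eq_top (H := N)))))
          (Subgroup.le_normalizer_map L.subtype)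
      obtain ⟨Q, hQH, hQp, hQi⟩ := hsyl p hp (Or.inl hpσ)
      have hQC : Q ≤ normalizer (N₁ : Set G) := by
        refine le_trans ?_ (centralizer_le_normalizer (N₁ : Set G))
        intro x hx
        refine mem_centralizer_iff.mpr fun h hh => ?_
        obtain ⟨k, hk⟩ := IsPGroup.iff_orderOf.mp hQp ⟨x, hx⟩
        refine (commute_in σ τ hd Hs Ht hs ht hsn hcomm hp hpσ (hQH hx) (hg hh)
          ⟨k, by rw [← hk, Subgroup.orderOf_mk]⟩ ?_).eq.symm
        obtain ⟨_, ⟨n, hn, rfl⟩, rfl⟩ := hh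
        have h1 : orderOf (cj g (L.subtype n)) ∣ Nat.card N :=
          ((orderOf_map_dvd _ _).trans (orderOf_map_dvd _ _)).trans (Subgroup.orderOf_dvd_natCard N hn)
        exact Nat.Coprime.coprime_dvd_left h1 ((hp.coprime_iff_not_dvd.mpr hcop).symm)
      set M := normalizer (N₁ : Set G) with hM
      have hQi' : ¬ p ∣ (Q.subgroupOf M).index := fun h =>
        hQi (h.trans (Subgroup.relIndex_dvd_index_of_le hQC))
      obtain ⟨T, hT⟩ := (((P.2.map L.subtype).map (cj g)).comap_subtype (K := M)).exists_le_sylow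
      obtain ⟨m, hm⟩ := MulAction.exists_smul_eq M T ((hQp.comap_subtype (K := M)).toSylow hQi')
      refine ⟨(m : G) * g, ?_⟩
      have hsup : L = N.map L.subtype ⊔ (P : Subgroup L).map L.subtype := by
        rw [← Subgroup.map_sup, hcompl.sup_eq_top, ← MonoidHom.range_eq_map, Subgroup.range_subtype]
      rw [hsup, Subgroup.map_sup, ← map_cj_cj, ← map_cj_cj, ← hN₁, ← hP₁]
      refine sup_le ?_ ?_
      · rintro _ ⟨n, hn, rfl⟩
        exact hg ((mem_normalizer_iff.mp m.2 n).mp hn)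
      · rintro _ ⟨x, hx, rfl⟩
        refine hQH ?_
        have h1 : MulAut.conj m ⟨x, hP₁N hx⟩ ∈ ((m • T : Sylow p M) : Subgroup M) := by
          rw [Sylow.coe_subgroup_smul]
          exact Subgroup.smul_mem_pointwise_smul (⟨x, hP₁N hx⟩ : M) (MulAut.conj m) _
            (hT (Subgroup.mem_comap.mpr hx))
        rw [hm] at h1
        exact h1
  -- conclusion
  intro A B hA hB
  have hfin : ∀ L : Subgroup G, Maximal (IsPiSubgroup (σ ∪ τ)) L → ∃ g : G, L.map (cj g) = Hs ⊔ Ht := by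
    intro L hL
    obtain ⟨g, hg⟩ := main ((Nat.card G).primeFactors.filter (· ∈ σ))
      (fun p hp => ⟨Nat.prime_of_mem_primeFactors (Finset.mem_filter.mp hp).1, (Finset.mem_filter.mp hp).2⟩) L
      (fun r hr hrd => by
        rcases hL.1 r hr hrd with h | h
        · exact Or.inr (Finset.mem_coe.mpr (Finset.mem_filter.mpr
            ⟨Nat.mem_primeFactors.mpr ⟨hr, hrd.trans (Subgroup.card_subgroup_dvd_card L), Nat.card_pos.ne'⟩, h⟩))
        · exact Or.inl h)
    refine ⟨g, le_antisymm hg ?_⟩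
    have hpi : IsPiSubgroup (σ ∪ τ) ((Hs ⊔ Ht).map (cj g⁻¹)) := fun r hr hrd =>
      hH.1 r hr (hrd.trans (Subgroup.card_map_dvd _ _))
    have hle : L ≤ (Hs ⊔ Ht).map (cj g⁻¹) := fun x hx =>
      ⟨cj g x, hg ⟨x, hx, rfl⟩, by simp [cj_apply, mul_assoc]⟩
    intro x hx
    exact ⟨cj g⁻¹ x, hL.2 hpi hle ⟨x, hx, rfl⟩, by simp [cj_apply, mul_assoc]⟩
  obtain ⟨a, ha⟩ := hfin A hA
  obtain ⟨b, hb⟩ := hfin B hB
  refine ⟨b⁻¹ * a, ?_⟩
  show B = A.map (cj (b⁻¹ * a))
  rw [← map_cj_cj, ha, ← hb, map_cj_cj, inv_mul_cancel]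
  ext x
  simp [cj_apply]

end Cfsg.Agent.S4334
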