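import Cfsg.Statements.S4337
import Cfsg.Agent.Lib.NumberTheory.SwapClosure

set_option autoImplicit false
open Cfsg

namespace Cfsg.Agent.S4337

/-- In a finite symmetric group, any three transpositions generate a solvable subgroup. -/
theorem result (n : ℕ) (a b c : Equiv.Perm (Fin n))
    (ha : a.IsSwap) (hb : b.IsSwap) (hc : c.IsSwap) :
    Group.IsSolvable (Subgroup.closure ({a, b, c} : Set (Equiv.Perm (Fin n)))) := by
  have h := CfsgLib.NumberTheory.SwapClosure.isSolvable_three ![a, b, c]
    (fun i => by fin_cases i <;> assumption)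
  have e : Set.range ![a, b, c] = ({a, b, c} : Set (Equiv.Perm (Fin n))) := by
    ext x
    simp [eq_comm]
    tauto
  rwa [e] at h

end Cfsg.Agent.S4337
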