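import Cfsg.Statements.S4342


set_option autoImplicit false
open Cfsg

namespace Cfsg.Agent.S4342

/-- Let H be a normal subgroup of a finite group G and p a prime not dividing the index of H. Then the number of Sylow p-subgroups of H/Z(H) equals the number of Sylow p-subgroups of G. -/
theorem result {G : Type*} [Group G] [Finite G]
    (p : ℕ) [Fact p.Prime] (H : Subgroup G) [H.Normal] (hp : ¬ p ∣ H.index) :
    Nat.card (Sylow p (H ⧸ Subgroup.center H)) = Nat.card (Sylow p G) := by
  classical
  have hle : ∀ P : Sylow p G, (P : Subgroup G) ≤ H := fun P y hy => by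
    by_contra hyH
    have h2 : orderOf (y : G ⧸ H) ∣ H.index := by
      rw [Subgroup.index_eq_card]
      exact orderOf_dvd_natCard _
    obtain ⟨k, hk⟩ := IsPGroup.iff_orderOf.1 P.isPGroup' ⟨y, hy⟩
    rw [Subgroup.orderOf_mk] at hk
    have h1 : orderOf (y : G ⧸ H) ∣ p ^ k := hk ▸ orderOf_map_dvd (QuotientGroup.mk' H) y
    obtain ⟨j, -, hj⟩ := (Nat.dvd_prime_pow (Fact.out : p.Prime)).1 h1
    rcases Nat.eq_zero_or_pos j with rfl | hj0
    · rw [pow_zero, orderOf_eq_one_iff, QuotientGroup.eq_one_iff] at hj
      exact hyH hj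
    · exact hp ((dvd_pow_self p hj0.ne').trans (hj ▸ h2))
  have e1 : Nat.card (Sylow p H) = Nat.card (Sylow p G) := by
    refine (Nat.card_eq_of_bijective (fun P : Sylow p G => P.subtype (hle P)) ⟨?_, ?_⟩).symm
    · exact fun P Q h => Sylow.subtype_injective h
    · intro Q
      obtain ⟨P, hP⟩ := Sylow.exists_comap_subtype_eq Q
      exact ⟨P, Sylow.ext hP⟩
  rw [← e1]
  set π := QuotientGroup.mk' (Subgroup.center H)
  refine (Nat.card_eq_of_bijective
    (Sylow.mapSurjective (f := π) (QuotientGroup.mk'_surjective _) : Sylow p H → _) ⟨?_, ?_⟩).symm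
  · intro P Q h
    have hK : (P : Subgroup H) ⊔ Subgroup.center H = (Q : Subgroup H) ⊔ Subgroup.center H := by
      have := congrArg (fun S : Sylow p (H ⧸ Subgroup.center H) => (S : Subgroup _).comap π) h
      simp only [Sylow.coe_mapSurjective, Subgroup.comap_map_eq, π, QuotientGroup.ker_mk'] at this
      exact this
    set K := (P : Subgroup H) ⊔ Subgroup.center H with hKdef
    have hPK : (P : Subgroup H) ≤ K := le_sup_left
    have hQK : (Q : Subgroup H) ≤ K := hK.ge.trans' le_sup_left
    have hn : ((P.subtype hPK : Sylow p K) : Subgroup K).Normal := by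
      rw [Sylow.coe_subtype]
      refine (Subgroup.normal_subgroupOf_iff_le_normalizer hPK).2 (sup_le Subgroup.le_normalizer ?_)
      intro z hz
      rw [Subgroup.mem_normalizer_iff]
      intro y
      have hc : z * y * z⁻¹ = y := by
        rw [← Subgroup.mem_center_iff.1 hz y, mul_inv_cancel_right]
      exact Iff.of_eq (by simp [hc])
    have := Sylow.unique_of_normal (P.subtype hPK) hn
    exact Sylow.subtype_injective (Subsingleton.elim (P.subtype hPK) (Q.subtype hQK))
  · exact Sylow.mapSurjective_surjective _ p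

end Cfsg.Agent.S4342
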