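import Cfsg.Statements.S4343


set_option autoImplicit false
open Cfsg

namespace Cfsg.Agent.S4343

open Subgroup
open scoped Pointwise

theorem orbit_lt {S : Type*} [Group S] [Finite S] {p : ℕ} [Fact p.Prime] (P Q : Sylow p S)
    (hne : Q ≠ P) (hn : Nat.card (Sylow p S) < p ^ 2) :
    ((P : Subgroup S) ⊓ Q).relIndex P = p := by
  classical
  have hst : MulAction.stabilizer (P : Subgroup S) Q =
      ((P : Subgroup S) ⊓ Q).subgroupOf (P : Subgroup S) := by
    ext x
    rw [MulAction.mem_stabilizer_iff, mem_subgroupOf, ← P.isPGroup'.inf_normalizer_sylow Q, mem_inf]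
    show (x : S) • Q = Q ↔ _
    rw [Sylow.smul_eq_iff_mem_normalizer]
    exact ⟨fun h => ⟨x.2, h⟩, fun h => h.2⟩
  have horb : Nat.card (MulAction.orbit (P : Subgroup S) Q) = ((P : Subgroup S) ⊓ Q).relIndex P := by
    rw [Nat.card_congr (MulAction.orbitEquivQuotientStabilizer (P : Subgroup S) Q),
      ← Subgroup.index_eq_card, hst]
    rfl
  have hle : Nat.card (MulAction.orbit (P : Subgroup S) Q) ≤ Nat.card (Sylow p S) :=
    Nat.card_le_card_of_injective Subtype.val Subtype.val_injective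
  obtain ⟨k, hk⟩ := P.isPGroup'.index (((P : Subgroup S) ⊓ Q).subgroupOf (P : Subgroup S))
  change ((P : Subgroup S) ⊓ Q).relIndex P = p ^ k at hk
  rw [horb, hk] at hle
  have hk2 : k < 2 := (Nat.pow_lt_pow_iff_right (Fact.out : p.Prime).one_lt).1 (hle.trans_lt hn)
  interval_cases k
  · exfalso
    rw [pow_zero, Subgroup.relIndex_eq_one] at hk
    exact hne (Sylow.ext (P.is_maximal' Q.isPGroup' (hk.trans inf_le_right)))
  · rw [hk, pow_one]

theorem not_le_all {S : Type*} [Group S] [Finite S] [IsSimpleGroup S] {p : ℕ} [Fact p.Prime]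
    {D : Subgroup S} (h2 : ∃ P Q : Sylow p S, Q ≠ P) (hD : D ≠ ⊥) :
    ∃ R : Sylow p S, ¬ D ≤ R := by
  by_contra hc
  simp only [not_exists, not_not] at hc
  set I : Subgroup S := ⨅ R : Sylow p S, (R : Subgroup S) with hI
  have hnorm : I.Normal := by
    refine ⟨fun x hx g => ?_⟩
    rw [hI, mem_iInf] at hx ⊢
    intro R
    have h := hx (g⁻¹ • R)
    rw [Sylow.coe_subgroup_smul, mem_pointwise_smul_iff_inv_smul_mem] at h
    simpa [MulAut.smul_def, mul_assoc] using h
  rcases hnorm.eq_bot_or_eq_top with h | h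
  · exact hD (eq_bot_iff.2 (h ▸ le_iInf hc))
  · obtain ⟨P, Q, hQP⟩ := h2
    exact hQP (Sylow.ext (by
      rw [(eq_top_iff.2 (h ▸ iInf_le _ P) : (P : Subgroup S) = ⊤),
        (eq_top_iff.2 (h ▸ iInf_le _ Q) : (Q : Subgroup S) = ⊤)]))

theorem aux {S : Type*} [Group S] [Finite S] [IsSimpleGroup S] (hS : ¬ IsMulCommutative S)
    {p : ℕ} [Fact p.Prime] (hp : p ∣ Nat.card S) (hn : Nat.card (Sylow p S) < p ^ 2) (P : Sylow p S) :
    Nat.card P = p := by
  classical
  have hpp : p.Prime := Fact.out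
  have hPne : (P : Subgroup S) ≠ ⊥ := P.ne_bot_of_dvd_card hp
  have hnn : ¬ (P : Subgroup S).Normal := by
    intro hN
    have htop := hN.eq_bot_or_eq_top.resolve_left hPne
    have hnil : IsPGroup p S := by
      have := P.isPGroup'
      rw [htop] at this
      exact this.of_equiv Subgroup.topEquiv
    have := hnil.isNilpotent
    exact hS (IsMulCommutative.of_comm (IsSimpleGroup.comm_iff_isSolvable.2 inferInstance))
  have h2 : ∀ A : Sylow p S, ∃ B : Sylow p S, B ≠ A := by
    intro A
    by_contra hc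
    simp only [not_exists, not_not] at hc
    have : Subsingleton (Sylow p S) := ⟨fun a b => (hc a).trans (hc b).symm⟩
    exact hnn P.normal_of_subsingleton
  have h2' : ∃ A B : Sylow p S, B ≠ A := ⟨P, h2 P⟩
  -- the Sylow subgroups are abelian
  have hcomm : ∀ A : Sylow p S, ∀ a ∈ (A : Subgroup S), ∀ b ∈ (A : Subgroup S), a * b = b * a := by
    intro A a ha b hb
    by_contra hne
    obtain ⟨R, hR⟩ := not_le_all h2' (D := zpowers (a * b * a⁻¹ * b⁻¹)) (by
      rw [Ne, zpowers_eq_bot, mul_inv_eq_one, mul_inv_eq_iff_eq_mul]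
      exact hne)
    apply hR
    rw [zpowers_le]
    by_cases hRA : R = A
    · rw [hRA]
      exact mul_mem (mul_mem (mul_mem ha hb) (inv_mem ha)) (inv_mem hb)
    have hidx : (((A : Subgroup S) ⊓ R).subgroupOf (A : Subgroup S)).index = p :=
      orbit_lt A R hRA hn
    have hnor : (((A : Subgroup S) ⊓ R).subgroupOf (A : Subgroup S)).Normal := by
      refine Subgroup.normal_of_index_eq_minFac_card ?_
      rw [hidx, A.card_eq_multiplicity, Nat.pow_minFac (hpp.factorization_pos_of_dvd
        Nat.card_pos.ne' hp).ne', hpp.minFac_eq]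
    have : IsCyclic ((A : Subgroup S) ⧸ ((A : Subgroup S) ⊓ R).subgroupOf (A : Subgroup S)) :=
      isCyclic_of_prime_card (p := p) hidx
    have hq := (this.isMulCommutative).is_comm.comm
      ((⟨a, ha⟩ : (A : Subgroup S)) : (A : Subgroup S) ⧸ _) ((⟨b, hb⟩ : (A : Subgroup S)))
    have hmem : (⟨a, ha⟩ * ⟨b, hb⟩ * (⟨a, ha⟩)⁻¹ * (⟨b, hb⟩)⁻¹ : (A : Subgroup S)) ∈
        ((A : Subgroup S) ⊓ R).subgroupOf (A : Subgroup S) := by
      rw [← QuotientGroup.eq_one_iff]
      simp only [QuotientGroup.mk_mul, QuotientGroup.mk_inv]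
      rw [hq]
      group
    exact (mem_inf.1 (mem_subgroupOf.1 hmem)).2
  -- Brodkey: some two of them meet trivially
  obtain ⟨D, ⟨A, B, hBA, rfl⟩, hmin⟩ := Set.Finite.exists_minimal
    (Set.toFinite {D : Subgroup S | ∃ A B : Sylow p S, B ≠ A ∧ D = (A : Subgroup S) ⊓ B})
    ⟨_, P, _, (h2 P).choose_spec, rfl⟩
  have hbot : (A : Subgroup S) ⊓ B = ⊥ := by
    by_contra hD
    obtain ⟨R, hR⟩ := not_le_all h2' hD
    apply hR
    set N := normalizer (((A : Subgroup S) ⊓ B : Subgroup S) : Set S) with hN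
    have hnor : ∀ T : Sylow p S, (A : Subgroup S) ⊓ B ≤ T → (T : Subgroup S) ≤ N := by
      intro T hT x hx
      rw [hN, mem_normalizer_iff]
      intro y
      constructor
      · intro hy
        rwa [hcomm T x hx y (hT hy), mul_inv_cancel_right]
      · intro hy
        have h := hcomm T x⁻¹ (inv_mem hx) _ (hT hy)
        simp only [inv_mul_cancel_left, mul_assoc] at h
        have e : y = x * y * x⁻¹ := by
          have := h
          calc y = (y * x⁻¹) * x := by group
            _ = (x * (y * (x⁻¹ * x⁻¹))) * x := by rw [this]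
            _ = _ := by group
        rwa [← e] at hy
    have hAN := hnor A inf_le_left
    have hBN := hnor B inf_le_right
    obtain ⟨R', hR'⟩ := ((R.isPGroup'.to_le inf_le_left).of_equiv
      (subgroupOfEquivOfLe (inf_le_right : (R : Subgroup S) ⊓ N ≤ N)).symm).exists_le_sylow
    obtain ⟨x, hx⟩ := MulAction.exists_smul_eq N R' (A.subtype hAN)
    set R'' : Sylow p S := (x : S) • R with hR''
    have hle : (R'' : Subgroup S) ⊓ N ≤ A := by
      intro y hy
      obtain ⟨hy1, hy2⟩ := mem_inf.1 hy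
      rw [hR'', Sylow.coe_subgroup_smul, mem_pointwise_smul_iff_inv_smul_mem, ← map_inv,
        MulAut.smul_def, MulAut.conj_apply, inv_inv] at hy1
      have hyN : (x : S)⁻¹ * y * x ∈ N := mul_mem (mul_mem (inv_mem x.2) hy2) x.2
      have h1 : (⟨(x : S)⁻¹ * y * x, hyN⟩ : N) ∈ R' := hR' (mem_subgroupOf.2 (mem_inf.2 ⟨hy1, hyN⟩))
      have h2 : (⟨y, hy2⟩ : N) ∈ (x • R' : Sylow p N) := by
        show (⟨y, hy2⟩ : N) ∈ ((x • R' : Sylow p N) : Subgroup N)
        rw [Sylow.coe_subgroup_smul, mem_pointwise_smul_iff_inv_smul_mem, ← map_inv,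
          MulAut.smul_def, MulAut.conj_apply, inv_inv]
        exact h1
      rw [hx] at h2
      exact mem_subgroupOf.1 h2
    have hDR : (A : Subgroup S) ⊓ B ≤ R'' := by
      by_cases hBR : B = R''
      · rw [← hBR]; exact inf_le_right
      have hle' : (R'' : Subgroup S) ⊓ B ≤ (A : Subgroup S) ⊓ B :=
        le_inf ((inf_le_inf_left _ hBN).trans hle) inf_le_right
      exact (hmin (y := (R'' : Subgroup S) ⊓ B) ⟨R'', B, hBR, rfl⟩ hle').trans inf_le_left
    intro y hy
    have hxy : (x : S) * y * (x : S)⁻¹ ∈ (A : Subgroup S) ⊓ B :=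
      (mem_normalizer_iff.1 x.2 y).1 hy
    have := hDR hxy
    rw [hR'', Sylow.coe_subgroup_smul, mem_pointwise_smul_iff_inv_smul_mem, ← map_inv,
      MulAut.smul_def, MulAut.conj_apply, inv_inv] at this
    simpa [mul_assoc] using this
  have h := orbit_lt A B hBA hn
  rw [hbot, relIndex_bot_left] at h
  rw [P.card_eq_multiplicity, ← A.card_eq_multiplicity, h]


/-- Let S be a finite non-abelian simple group and p a prime dividing its order. If S has fewer than p² Sylow p-subgroups, then its Sylow p-subgroups have order p. -/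
theorem result {S : Type*} [Group S] [Finite S]
    [IsSimpleGroup S] (hS : ¬ IsMulCommutative S) (p : ℕ) [Fact p.Prime] (hp : p ∣ Nat.card S)
    (hn : Nat.card (Sylow p S) < p ^ 2) (P : Sylow p S) : Nat.card P = p := by
  exact aux hS hp hn P
end Cfsg.Agent.S4343
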