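import Cfsg.Statements.S4344


set_option autoImplicit false
open Cfsg

namespace Cfsg.Agent.S4344

/-- Let S be a finite non-abelian simple group, M a maximal subgroup of S and C a cyclic normal subgroup of M. If a Sylow p-subgroup P of S (for a prime p dividing the order of S) is contained in C, then the number of Sylow p-subgroups of S equals the index of M. -/
theorem result {S : Type*} [Group S] [Finite S]
    [IsSimpleGroup S] (hS : ¬ IsMulCommutative S) (p : ℕ) [Fact p.Prime] (hp : p ∣ Nat.card S)
    (M : Subgroup S) (hM : IsCoatom M) (C : Subgroup S) (hCM : C ≤ M) (hCn : (C.subgroupOf M).Normal)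
    (hC : IsCyclic C) (P : Sylow p S) (hP : (P : Subgroup S) ≤ C) :
    Nat.card (Sylow p S) = M.index := by
  rw [Sylow.card_eq_index_normalizer P]
  congr 1
  have hle : M ≤ Subgroup.normalizer ((P : Subgroup S) : Set S) := by
    intro m hm
    rw [Subgroup.mem_normalizer_iff_map_conj_eq]
    have hn := (Subgroup.normal_subgroupOf_iff_le_normalizer hCM).1 hCn hm
    rw [Subgroup.mem_normalizer_iff_map_conj_eq] at hn
    have hQ : (P : Subgroup S).map (MulAut.conj m).toMonoidHom ≤ C :=
      (Subgroup.map_mono hP).trans hn.le
    have hcard : Nat.card ((P : Subgroup S).map (MulAut.conj m).toMonoidHom) = Nat.card P :=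
      Subgroup.card_map_of_injective (MulAut.conj m).injective
    let P' : Sylow p C := P.subtype hP
    let Q : Sylow p S := m • P
    have hQC : (Q : Subgroup S) ≤ C := hQ
    have hnP : (P' : Subgroup C).Normal := by
      have : IsMulCommutative C := hC.isMulCommutative
      exact Subgroup.normal_of_comm _
    have := Sylow.unique_of_normal P' hnP
    have e : Q = P := Sylow.subtype_injective (Subsingleton.elim (Q.subtype hQC) P')
    exact congrArg (fun R : Sylow p S => (R : Subgroup S)) e
  rcases eq_or_lt_of_le hle with h | h
  · exact h.symm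
  · exfalso
    have hn : (P : Subgroup S).Normal := Subgroup.normalizer_eq_top_iff.1 (hM.2 _ h)
    rcases IsSimpleGroup.eq_bot_or_eq_top_of_normal (P : Subgroup S) hn with h1 | h1
    · exact P.ne_bot_of_dvd_card hp h1
    · have := hC
      exact hM.1 (eq_top_iff.2 (h1 ▸ hP.trans hCM))

end Cfsg.Agent.S4344
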