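import Cfsg.Statements.S4346
import Mathlib
import Cfsg.Agent.S4303
import Cfsg.Agent.Lib.SmallGroups.SimpleTools
import Cfsg.Agent.NumberTheory.OrbitTools
import Cfsg.Agent.NumberTheory.DegreeTwentyTwo

set_option autoImplicit false
open Cfsg

namespace Cfsg.Agent.S4346

open CfsgLib.NumberTheory.OrbitTools MulAction
open scoped Pointwise

universe w

theorem orb_mul {G : Type*} [Group G] [Finite G] {X : Type*} [MulAction G X] (K : Subgroup G) (y : X) :
    (orb K y).ncard * Nat.card ↥(stabilizer G y ⊓ K) = Nat.card K := by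
  rw [ncard_orb, ← Subgroup.inf_relIndex_right, mul_comm, ← Subgroup.relIndex_bot_left,
    ← Subgroup.relIndex_bot_left K]
  exact Subgroup.relIndex_mul_relIndex _ _ _ bot_le inf_le_right

/-- A subgroup of index three in a 3-group is normal in it. -/
theorem le_normalizer_of_index_three {G : Type*} [Group G] [Finite G] {R K : Subgroup G}
    (hK : IsPGroup 3 K) (hRK : R ≤ K) (hc : Nat.card K = 3 * Nat.card R) :
    K ≤ Subgroup.normalizer (R : Set G) := by
  refine (Subgroup.normal_subgroupOf_iff_le_normalizer hRK).1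
    (Subgroup.normal_of_index_eq_minFac_card ?_)
  have h1 := Subgroup.card_mul_index (R.subgroupOf K)
  rw [Nat.card_congr (Subgroup.subgroupOfEquivOfLe hRK).toEquiv, hc, mul_comm 3] at h1
  rw [Nat.eq_of_mul_eq_mul_left Nat.card_pos h1]
  haveI : Fact (Nat.Prime 3) := ⟨by norm_num⟩
  obtain ⟨k, hk⟩ := hK.exists_card_eq
  have hk0 : k ≠ 0 := by
    rintro rfl
    rw [pow_zero, hc] at hk
    omega
  rw [hk, Nat.pow_minFac hk0, Nat.Prime.minFac_eq (by norm_num)]

theorem sign_even_support {X : Type*} [Fintype X] [DecidableEq X] (s : Equiv.Perm X) (h2 : s * s = 1)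
    (hs : Equiv.Perm.sign s = 1) {m : ℕ} (hm : {y | s y ≠ y}.ncard = 2 * m) : Even m := by
  have hall : ∀ k ∈ s.cycleType, k = 2 := by
    intro k hk
    have h1 := Equiv.Perm.two_le_of_mem_cycleType hk
    have h3 : k ∣ orderOf s := Equiv.Perm.dvd_of_mem_cycleType hk
    have h4 : orderOf s ∣ 2 := orderOf_dvd_of_pow_eq_one (by rw [pow_two, h2])
    have := Nat.le_of_dvd (by norm_num) (h3.trans h4)
    omega
  have hrep := Multiset.eq_replicate_card.2 hall
  have hsum : s.cycleType.sum = 2 * m := by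
    rw [Equiv.Perm.sum_cycleType, ← hm, ← Set.ncard_coe_finset]
    congr 1
    ext y
    simp
  have hcard : Multiset.card s.cycleType = m := by
    rw [hrep, Multiset.sum_replicate, smul_eq_mul] at hsum
    omega
  rw [Equiv.Perm.sign_of_cycleType, hsum, hcard] at hs
  rcases Nat.even_or_odd m with h | h
  · exact h
  · have h5 : Odd (2 * m + m) := by obtain ⟨e, rfl⟩ := h; exact ⟨3 * e + 1, by ring⟩
    rw [h5.neg_one_pow] at hs
    exact absurd hs (by decide)

/-- An element of order `5` or `7` normalising a transitive 3-group on nine points is trivial. -/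
theorem nine {G : Type*} [Group G] [Finite G] {X : Type*} [MulAction G X] [Finite X]
    (P : Subgroup G) (hP : IsPGroup 3 P) {x : G} (hxP : x ∈ Subgroup.normalizer (P : Set G))
    {q : ℕ} (hq : q.Prime) (hq57 : q = 5 ∨ q = 7) (hxq : x ^ q = 1) (D : Set X) (hD : D.ncard = 9)
    (hxD : ∀ d ∈ D, x • d ∈ D) (hPD : ∀ p ∈ P, ∀ d ∈ D, p • d ∈ D)
    (htr : ∀ d ∈ D, orb P d = D) : ∀ d ∈ D, x • d = d := by
  haveI : Fact (Nat.Prime 3) := ⟨by norm_num⟩
  have hxN' : ∀ m : ℕ, ∀ d ∈ D, x ^ m • d ∈ D := by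
    intro m
    induction m with
    | zero => intro d hd; rwa [pow_zero, one_smul]
    | succ m ih => intro d hd; rw [pow_succ', mul_smul]; exact hxD _ (ih d hd)
  have hxi : ∀ d ∈ D, x⁻¹ • d ∈ D := fun d hd => by
    rw [inv_eq_of_mul_eq_one_right (show x * x ^ (q - 1) = 1 by
      rw [← pow_succ', Nat.sub_add_cancel hq.one_le, hxq])]
    exact hxN' _ d hd
  let Z : Subgroup G :=
    { carrier := {p | p ∈ P ∧ ∀ p' ∈ P, ∀ d ∈ D, p • p' • d = p' • p • d}
      one_mem' := ⟨one_mem _, fun p' _ d _ => by rw [one_smul, one_smul]⟩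
      mul_mem' := fun {a b} ha hb => ⟨mul_mem ha.1 hb.1, fun p' hp' d hd => by
        rw [mul_smul, mul_smul, hb.2 p' hp' d hd, ha.2 p' hp' _ (hPD b hb.1 d hd)]⟩
      inv_mem' := fun {a} ha => ⟨inv_mem ha.1, fun p' hp' d hd => by
        have h := ha.2 p' hp' _ (hPD a⁻¹ (inv_mem ha.1) d hd)
        rw [smul_inv_smul] at h
        rw [← h, inv_smul_smul]⟩ }
  have hZP : Z ≤ P := fun p hp => hp.1
  have hZN : ∀ p ∈ P, p ∈ Subgroup.normalizer (Z : Set G) := by
    have key : ∀ p ∈ P, ∀ z ∈ Z, p * z * p⁻¹ ∈ Z := by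
      intro p hp z hz
      have hact : ∀ d ∈ D, (p * z * p⁻¹) • d = z • d := fun d hd => by
        rw [mul_smul, mul_smul, ← hz.2 p hp _ (hPD _ (inv_mem hp) d hd), smul_inv_smul]
      refine ⟨mul_mem (mul_mem hp hz.1) (inv_mem hp), fun p' hp' d hd => ?_⟩
      rw [hact _ (hPD p' hp' d hd), hact d hd, hz.2 p' hp' d hd]
    intro p hp
    refine Subgroup.mem_normalizer_iff.2 fun z => ⟨key p hp z, fun h => ?_⟩
    have := key p⁻¹ (inv_mem hp) _ h
    rwa [show p⁻¹ * (p * z * p⁻¹) * p⁻¹⁻¹ = z by group] at this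
  have hxZ : x ∈ Subgroup.normalizer (Z : Set G) := by
    have key : ∀ y : G, y ∈ Subgroup.normalizer (P : Set G) → (∀ d ∈ D, y • d ∈ D) →
        (∀ d ∈ D, y⁻¹ • d ∈ D) → ∀ z ∈ Z, y * z * y⁻¹ ∈ Z := by
      intro y hy hyD hyD' z hz
      refine ⟨(Subgroup.mem_normalizer_iff.1 hy z).1 hz.1, fun p' hp' d hd => ?_⟩
      have hp'' : y⁻¹ * p' * y ∈ P := by
        refine (Subgroup.mem_normalizer_iff.1 hy _).2 ?_
        rwa [show y * (y⁻¹ * p' * y) * y⁻¹ = p' by group]
      have h := congrArg (y • ·) (hz.2 _ hp'' _ (hyD' d hd))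
      simp only [← mul_smul] at h ⊢
      convert h using 2 <;> group
    refine Subgroup.mem_normalizer_iff.2 fun z => ⟨key x hxP hxD hxi z, fun h => ?_⟩
    have := key x⁻¹ (inv_mem hxP) hxi (fun d hd => by rw [inv_inv]; exact hxD d hd) _ h
    rwa [show x⁻¹ * (x * z * x⁻¹) * x⁻¹⁻¹ = z by group] at this
  -- `Z` moves some point
  obtain ⟨z, hzZ, d₁, hd₁, hzd⟩ : ∃ z ∈ Z, ∃ d ∈ D, z • d ≠ d := by
    letI : MulAction P D :=
      { smul := fun p d => ⟨(p : G) • (d : X), hPD p p.2 d d.2⟩
        one_smul := fun d => Subtype.ext (one_smul G (d : X))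
        mul_smul := fun a b d => Subtype.ext (mul_smul (a : G) (b : G) (d : X)) }
    let f : P →* Equiv.Perm D := MulAction.toPermHom P D
    have hI : IsPGroup 3 f.range := hP.of_surjective f.rangeRestrict f.rangeRestrict_surjective
    obtain ⟨d₀, hd₀⟩ : D.Nonempty := Set.nonempty_of_ncard_ne_zero (by omega)
    haveI : Nontrivial f.range := by
      rw [Subgroup.nontrivial_iff_ne_bot]
      intro hb
      have h1 : orb P d₀ ⊆ {d₀} := by
        rintro _ ⟨p, hp, rfl⟩
        have h2 : f ⟨p, hp⟩ = 1 := Subgroup.mem_bot.1 (hb ▸ ⟨_, rfl⟩)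
        exact congrArg Subtype.val (DFunLike.congr_fun h2 ⟨d₀, hd₀⟩)
      rw [htr d₀ hd₀] at h1
      have := Set.ncard_le_ncard h1 (Set.toFinite _)
      rw [Set.ncard_singleton] at this
      omega
    haveI := hI.center_nontrivial
    obtain ⟨⟨⟨c, p, rfl⟩, hc⟩, hc1⟩ := exists_ne (1 : Subgroup.center f.range)
    have hne : f p ≠ 1 := fun h => hc1 (Subtype.ext (Subtype.ext h))
    obtain ⟨⟨d, hd⟩, hdne⟩ : ∃ d, f p d ≠ d := by
      by_contra hh
      exact hne (Equiv.ext fun d => by_contra fun hn => hh ⟨d, hn⟩)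
    refine ⟨p, ⟨p.2, fun p' hp' e he => ?_⟩, d, hd, fun h => hdne (Subtype.ext h)⟩
    have hcomm := congrArg Subtype.val (Subgroup.mem_center_iff.1 hc ⟨f ⟨p', hp'⟩, _, rfl⟩)
    exact congrArg Subtype.val (DFunLike.congr_fun hcomm ⟨e, he⟩).symm
  have hsz : ∀ d ∈ D, (orb Z d).ncard = (orb Z d₁).ncard := by
    intro d hd
    obtain ⟨p, hp, rfl⟩ : d ∈ orb P d₁ := by rw [htr d₁ hd₁]; exact hd
    rw [← smul_orb (hZN p hp)]
    exact Set.ncard_image_of_injective _ (MulAction.injective p)
  have hsub : ∀ d ∈ D, orb Z d ⊆ D := fun d hd => by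
    rintro _ ⟨c, hc, rfl⟩; exact hPD c hc.1 d hd
  have hZ3 : IsPGroup 3 Z := hP.to_le hZP
  obtain ⟨k, hk⟩ : ∃ k, (orb Z d₁).ncard = 3 ^ k := by
    obtain ⟨n, hn⟩ := hZ3.exists_card_eq
    obtain ⟨k, -, hk⟩ := (Nat.dvd_prime_pow (by norm_num)).1 (hn ▸ ncard_orb_dvd Z d₁)
    exact ⟨k, hk⟩
  have hk9 : (orb Z d₁).ncard ≤ 9 := hD ▸ Set.ncard_le_ncard (hsub d₁ hd₁) (Set.toFinite _)
  have hk1 : k ≠ 0 := by
    rintro rfl
    rw [pow_zero, Set.ncard_eq_one] at hk
    obtain ⟨a, ha⟩ := hk
    have h1 : d₁ ∈ orb Z d₁ := self_mem_orb _ _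
    have h2 : z • d₁ ∈ orb Z d₁ := ⟨z, hzZ, rfl⟩
    rw [ha, Set.mem_singleton_iff] at h1 h2
    exact hzd (h2.trans h1.symm)
  have hk2 : k ≤ 2 := by
    by_contra hk'
    have h27 : 3 ^ 3 ≤ 3 ^ k := Nat.pow_le_pow_right (by norm_num) (by omega)
    rw [hk] at hk9
    norm_num at h27
    omega
  obtain rfl | rfl : k = 1 ∨ k = 2 := by omega
  · exact fix_of_small hq hxq hxZ hxD (fun p hp => hPD p hp.1)
      (s := 3) (fun d hd => by rw [hsz d hd, hk]; norm_num)
      (fun d hd => by rw [hsz d hd, hk]; omega) (by omega)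
  -- `Z` is regular on `D`
  have hZtr : ∀ d ∈ D, orb Z d = D := fun d hd =>
    Set.eq_of_subset_of_ncard_le (hsub d hd) (by rw [hsz d hd, hk, hD]; norm_num) (Set.toFinite _)
  set F := {d ∈ D | x • d = d} with hF
  have hFc : q ∣ (D \ F).ncard := by
    refine dvd_ncard (P := Subgroup.zpowers x) _ ?_ ?_
    · intro p hp d hd
      obtain ⟨m, rfl⟩ : p ∈ Submonoid.powers x := mem_powers_iff_mem_zpowers.2 hp
      refine ⟨hxN' m d hd.1, fun h => hd.2 ⟨hd.1, ?_⟩⟩
      apply MulAction.injective (x ^ m)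
      show x ^ m • x • d = x ^ m • d
      rw [← mul_smul, ← pow_succ, pow_succ', mul_smul]
      exact h.2
    · intro d hd
      have h := ncard_orb_dvd (Subgroup.zpowers x) d
      rw [Nat.card_zpowers, orderOf_eq_prime (hp := ⟨hq⟩) hxq (fun h1 => hd.2 ⟨hd.1, by
        rw [h1, one_smul]⟩)] at h
      rcases (Nat.dvd_prime hq).1 h with h1 | h1
      · exfalso
        obtain ⟨a, ha⟩ := Set.ncard_eq_one.1 h1
        have h2 : d ∈ orb (Subgroup.zpowers x) d := self_mem_orb _ _
        have h3 : x • d ∈ orb (Subgroup.zpowers x) d := ⟨x, Subgroup.mem_zpowers x, rfl⟩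
        rw [ha, Set.mem_singleton_iff] at h2 h3
        exact hd.2 ⟨hd.1, h3.trans h2.symm⟩
      · rw [h1]
  have hFD : F ⊆ D := fun d hd => hd.1
  have hFn := Set.ncard_sdiff_add_ncard_of_subset hFD (Set.toFinite _)
  rw [hD] at hFn
  have hFd : F.ncard ∣ 9 ∧ True ∨ F.ncard = 0 := by
    rcases F.eq_empty_or_nonempty with h | ⟨δ, hδ⟩
    · exact Or.inr (by rw [h, Set.ncard_empty])
    left
    refine ⟨?_, trivial⟩
    let Zx : Subgroup G :=
      { carrier := {c | c ∈ Z ∧ ∀ d ∈ D, x • c • d = c • x • d}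
        one_mem' := ⟨one_mem _, fun d _ => by rw [one_smul, one_smul]⟩
        mul_mem' := fun {a b} ha hb => ⟨mul_mem ha.1 hb.1, fun d hd => by
          rw [mul_smul, mul_smul, ha.2 _ (hPD b (hZP hb.1) d hd), hb.2 d hd]⟩
        inv_mem' := fun {a} ha => ⟨inv_mem ha.1, fun d hd => by
          have h := ha.2 _ (hPD a⁻¹ (inv_mem (hZP ha.1)) d hd)
          rw [smul_inv_smul] at h
          rw [h, inv_smul_smul]⟩ }
    have hForb : F = orb Zx δ := by
      ext e
      constructor
      · intro he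
        obtain ⟨c, hc, rfl⟩ : e ∈ orb Z δ := by rw [hZtr δ hδ.1]; exact he.1
        refine ⟨c, ⟨hc, fun d hd => ?_⟩, rfl⟩
        obtain ⟨p, hp, rfl⟩ : d ∈ orb P δ := by rw [htr δ hδ.1]; exact hd
        have hc' : x * c * x⁻¹ ∈ Z := (Subgroup.mem_normalizer_iff.1 hxZ c).1 hc
        have hkey : ∀ d ∈ D, (x * c * x⁻¹) • d = c • d := by
          intro d hd
          obtain ⟨p', hp', rfl⟩ : d ∈ orb P δ := by rw [htr δ hδ.1]; exact hd
          rw [hc'.2 p' hp' δ hδ.1, hc.2 p' hp' δ hδ.1]
          congr 1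
          rw [mul_smul, mul_smul, show x⁻¹ • δ = δ from inv_smul_eq_iff.2 hδ.2.symm]
          exact he.2
        rw [← hkey _ (hxD _ (hPD p hp δ hδ.1)), mul_smul, mul_smul, inv_smul_smul]
      · rintro ⟨c, hc, rfl⟩
        exact ⟨hPD c (hZP hc.1) δ hδ.1, by rw [hc.2 δ hδ.1, hδ.2]⟩
    obtain ⟨n, hn⟩ := (hZ3.to_le (show Zx ≤ Z from fun c hc => hc.1)).exists_card_eq
    obtain ⟨j, -, hj⟩ := (Nat.dvd_prime_pow (by norm_num)).1 (hn ▸ ncard_orb_dvd Zx δ)
    rw [← hForb] at hj
    rw [hj, show 9 = 3 ^ 2 by norm_num]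
    refine Nat.pow_dvd_pow 3 ?_
    by_contra hj'
    have h27 : 3 ^ 3 ≤ 3 ^ j := Nat.pow_le_pow_right (by norm_num) (by omega)
    have := Set.ncard_le_ncard hFD (Set.toFinite _)
    norm_num at h27
    omega
  have hF9 : F.ncard = 9 := by
    rcases hFd with ⟨h, -⟩ | h
    · have hd9 : F.ncard = 1 ∨ F.ncard = 3 ∨ F.ncard = 9 := by
        have hm : F.ncard ∈ Nat.divisors 9 := Nat.mem_divisors.2 ⟨h, by norm_num⟩
        rw [show Nat.divisors 9 = {1, 3, 9} by decide] at hm
        simpa using hm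
      rcases hd9 with h' | h' | h'
      · rcases hq57 with rfl | rfl <;> omega
      · rcases hq57 with rfl | rfl <;> omega
      · exact h'
    · rcases hq57 with rfl | rfl <;> omega
  intro d hd
  have := Set.eq_of_subset_of_ncard_le hFD (by omega) (Set.toFinite _)
  exact (this.symm ▸ hd : d ∈ F).2

set_option synthInstance.maxSize 2000 in
theorem arith : ∀ t < 8, ∀ m < 8, ∀ h < 23, t * m ≤ 7 → h % 3 = 1 → 2 ≤ h → h ≤ 1 + 3 * m →
    h ∣ 22 * t → 22 * t ≠ h → t % 2 = 0 := by decide +kernel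

theorem arith560 : ∀ i ∈ Nat.divisors 560, i % 11 = 2 → i = 2 ∨ i = 35 ∨ i = 112 := by decide +kernel

/-- The case of Sylow 3-subgroups of order three. -/
theorem case_three {G : Type*} [Group G] [Finite G] [IsSimpleGroup G]
    (hX : Nat.card (Sylow 3 G) = 22) (hG : ¬ IsMulCommutative G) (P0 : Sylow 3 G)
    (hP : Nat.card (P0 : Subgroup G) = 3) {σ : G}
    (hC : Nat.card (Subgroup.centralizer ({σ} : Set G)) = 11) (hσ : orderOf σ = 11)
    (hG121 : ¬ 11 ^ 2 ∣ Nat.card G)
    (h11N : ¬ 11 ∣ Nat.card (Subgroup.normalizer ((P0 : Subgroup G) : Set G)))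
    (hfaith : ∀ g : G, (∀ y : Sylow 3 G, g • y = y) → g = 1)
    (hinv2 : ∀ (g : G) (m : ℕ), g * g = 1 → {y : Sylow 3 G | g • y ≠ y}.ncard = 2 * m → Even m)
    (q : ℕ) (hq57 : q = 5 ∨ q = 7) :
    ¬ q ∣ Nat.card (Subgroup.normalizer ((P0 : Subgroup G) : Set G)) := by
  classical
  haveI : Fact (Nat.Prime 3) := ⟨by norm_num⟩
  haveI : Fact (Nat.Prime 5) := ⟨by norm_num⟩
  haveI : Fact (Nat.Prime 7) := ⟨by norm_num⟩
  haveI : Fact (Nat.Prime 11) := ⟨by norm_num⟩
  set P : Subgroup G := (P0 : Subgroup G) with hPdef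
  set N : Subgroup G := Subgroup.normalizer (P : Set G) with hNdef
  have hNfix : ∀ g, g ∈ N ↔ g • P0 = P0 := fun g => Sylow.smul_eq_iff_mem_normalizer.symm
  have hP3 : IsPGroup 3 P := P0.isPGroup'
  have hindex : N.index = 22 := by rw [← hX]; exact (Sylow.card_eq_index_normalizer P0).symm
  have hcardG : Nat.card G = 22 * Nat.card N := by rw [← hindex, mul_comm]; exact (Subgroup.card_mul_index N).symm
  set S0 : Set (Sylow 3 G) := {y | y ≠ P0} with hS0def
  have hS0c : S0.ncard = 21 := by
    have h := Set.ncard_add_ncard_compl ({P0} : Set (Sylow 3 G))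
    rw [Set.ncard_singleton, hX] at h
    have e : S0 = ({P0} : Set (Sylow 3 G))ᶜ := by ext y; simp [S0]
    rw [e]
    omega
  have hS0N : ∀ g ∈ N, ∀ y ∈ S0, g • y ∈ S0 := fun g hg y hy h => hy (by
    rw [← (hNfix g).1 hg] at h; exact MulAction.injective g h)
  have hS0P : ∀ p ∈ P, ∀ y ∈ S0, p • y ∈ S0 := fun p hp => hS0N p (Subgroup.le_normalizer hp)
  have horb3 : ∀ y ∈ S0, (orb P y).ncard = 3 := by
    intro y hy
    have h := ncard_orb_dvd P y
    rw [hP] at h
    rcases (Nat.dvd_prime (by norm_num)).1 h with h1 | h1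
    · exfalso
      apply hy
      have h2 : ∀ p ∈ P, p • y = y := fun p hp => by
        obtain ⟨a, ha⟩ := Set.ncard_eq_one.1 h1
        have h3 : y ∈ orb P y := self_mem_orb _ _
        have h4 : p • y ∈ orb P y := ⟨p, hp, rfl⟩
        rw [ha, Set.mem_singleton_iff] at h3 h4
        exact h4.trans h3.symm
      have hle : P ≤ (y : Subgroup G) := by
        intro p hp
        have : p ∈ P ⊓ Subgroup.normalizer ((y : Subgroup G) : Set G) :=
          ⟨hp, Sylow.smul_eq_iff_mem_normalizer.1 (h2 p hp)⟩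
        have h5 := hP3.inf_normalizer_sylow y
        simp only [Sylow.coe_coe] at h5 this
        rw [h5] at this
        exact this.2
      exact (Sylow.ext (Subgroup.eq_of_le_of_card_ge hle (le_of_eq (by
        rw [Sylow.card_eq_multiplicity, Sylow.card_eq_multiplicity])))).symm
    · exact h1
  have hp3 : ∀ p ∈ P, p ^ 3 = 1 := fun p hp => by
    have h : (⟨p, hp⟩ : P) ^ Nat.card P = 1 := pow_card_eq_one'
    rw [hP] at h
    exact congrArg Subtype.val h
  set C : Subgroup G := Subgroup.centralizer (P : Set G) with hCdef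
  have hCN : C ≤ N := fun c hc => Subgroup.mem_normalizer_iff.2 fun p => by
    have key : ∀ p ∈ P, c * p * c⁻¹ = p := fun p hp => by
      rw [← Subgroup.mem_centralizer_iff.1 hc p hp, mul_inv_cancel_right]
    refine ⟨fun hp => by rw [key p hp]; exact hp, fun h => ?_⟩
    have h2 := key _ h
    have h3 : c * p * c⁻¹ = p := by
      have h4 := congrArg (fun x => c⁻¹ * x * c) h2
      simpa [mul_assoc] using h4
    rwa [h3] at h
  have hinvP : ∀ g ∈ N, ∀ p ∈ P, g * p * g⁻¹ = p ∨ g * p * g⁻¹ = p⁻¹ := by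
    intro g hg p hp
    have hgp : g * p * g⁻¹ ∈ P := (Subgroup.mem_normalizer_iff.1 hg p).1 hp
    by_cases hp1 : p = 1
    · left; simp [hp1]
    have hz : Subgroup.zpowers p = P := Subgroup.eq_of_le_of_card_ge (Subgroup.zpowers_le.2 hp) (by
      rw [Nat.card_zpowers, orderOf_eq_prime (hp3 p hp) hp1, hP])
    rw [← hz] at hgp
    obtain ⟨i, hi⟩ : g * p * g⁻¹ ∈ Submonoid.powers p := mem_powers_iff_mem_zpowers.2 hgp
    simp only at hi
    rw [← hi, ← Nat.div_add_mod i 3, pow_add, pow_mul, hp3 p hp, one_pow, one_mul]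
    have h3 : i % 3 < 3 := Nat.mod_lt _ (by norm_num)
    interval_cases hr : i % 3
    · exfalso
      rw [← Nat.div_add_mod i 3, hr, add_zero, pow_mul, hp3 p hp, one_pow] at hi
      exact hp1 (by simpa using (conj_eq_one_iff.1 hi.symm))
    · left; rw [pow_one]
    · right
      refine eq_inv_of_mul_eq_one_left ?_
      rw [← pow_succ]; exact hp3 p hp
  have hsqC : ∀ g ∈ N, g ^ 2 ∈ C := fun g hg => Subgroup.mem_centralizer_iff.2 fun p hp => by
    have h : g ^ 2 * p * (g ^ 2)⁻¹ = p := by
      rw [pow_two, mul_inv_rev, show g * g * p * (g⁻¹ * g⁻¹) = g * (g * p * g⁻¹) * g⁻¹ by group]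
      rcases hinvP g hg p hp with h | h
      · rw [h, h]
      · rw [h, ← conj_inv, h, inv_inv]
    exact (mul_inv_eq_iff_eq_mul.1 h).symm
  have horbfix : ∀ c ∈ C, ∀ y ∈ S0, c • orb P y = orb P y → c ^ 3 • y = y := by
    intro c hc y hy h
    obtain ⟨p, hp, hpe⟩ : c • y ∈ orb P y := h ▸ Set.smul_mem_smul_set (self_mem_orb P y)
    have hcp : Commute c p := (Subgroup.mem_centralizer_iff.1 hc p hp).symm
    have hcn : ∀ n : ℕ, c ^ n • y = p ^ n • y := by
      intro n
      induction n with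
      | zero => simp
      | succ n ih =>
        rw [pow_succ', mul_smul, ih, ← mul_smul, (hcp.pow_right n).eq, mul_smul, ← hpe, ← mul_smul,
          ← pow_succ]
    rw [hcn 3, hp3 p hp, one_smul]
  set T : Set (Set (Sylow 3 G)) := orb P '' S0 with hTdef
  have hTc : T.ncard = 7 := by
    have h := ncard_eq_mul S0 hS0P horb3
    rw [hS0c, ← hTdef] at h
    omega
  have hTN : ∀ g ∈ N, ∀ O ∈ T, g • O ∈ T := by
    rintro g hg _ ⟨y, hy, rfl⟩
    exact ⟨g • y, hS0N g hg y hy, (smul_orb hg y).symm⟩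
  letI : MulAction C T :=
    { smul := fun c O => ⟨(c : G) • (O : Set (Sylow 3 G)), hTN c (hCN c.2) O O.2⟩
      one_smul := fun O => Subtype.ext (one_smul G (O : Set (Sylow 3 G)))
      mul_smul := fun a b O => Subtype.ext (mul_smul (a : G) (b : G) (O : Set (Sylow 3 G))) }
  haveI : Fintype T := Fintype.ofFinite T
  let ψ : C →* Equiv.Perm T := MulAction.toPermHom C T
  have hψker : ∀ c : C, ψ c = 1 ↔ (c : G) ∈ P := by
    intro c
    constructor
    · intro h
      have hfix : ∀ y ∈ S0, (c : G) • orb P y = orb P y := fun y hy =>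
        congrArg Subtype.val (DFunLike.congr_fun h (⟨orb P y, y, hy, rfl⟩ : T))
      have h3 : (c : G) ^ 3 = 1 := hfaith _ fun y => by
        by_cases hy : y = P0
        · rw [hy]; exact (hNfix _).1 (pow_mem (hCN c.2) 3)
        · exact horbfix c c.2 y hy (hfix y hy)
      have hpg : IsPGroup 3 (Subgroup.zpowers (c : G)) := by
        rintro ⟨d, hd⟩
        refine ⟨1, Subtype.ext ?_⟩
        obtain ⟨i, rfl⟩ := Subgroup.mem_zpowers_iff.1 hd
        show ((c : G) ^ i) ^ (3 ^ 1) = 1
        rw [pow_one, ← zpow_natCast, ← zpow_mul, mul_comm, zpow_mul, zpow_natCast, h3, one_zpow]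
      have hm : (c : G) ∈ Subgroup.zpowers (c : G) ⊓ N := ⟨Subgroup.mem_zpowers _, hCN c.2⟩
      have h5 := hpg.inf_normalizer_sylow P0
      simp only [hNdef, hPdef, Sylow.coe_coe] at h5 hm
      rw [h5] at hm
      exact hm.2
    · intro hc
      refine Equiv.ext fun O => Subtype.ext ?_
      obtain ⟨y, hy, he⟩ := O.2
      show (c : G) • (O : Set (Sylow 3 G)) = O
      rw [← he, smul_orb (hCN c.2)]
      exact orb_eq_of_mem ⟨c, hc, rfl⟩
  set I := ψ.range with hIdef
  have hPC : P ≤ C := by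
    intro p hp
    refine Subgroup.mem_centralizer_iff.2 fun r hr => ?_
    haveI : IsCyclic P := isCyclic_of_prime_card hP
    letI := IsCyclic.commGroup (α := P)
    exact congrArg Subtype.val (mul_comm (⟨r, hr⟩ : P) ⟨p, hp⟩)
  have hCI : Nat.card C = 3 * Nat.card I := by
    have h := Subgroup.card_mul_index ψ.ker
    rw [Subgroup.index_ker, show ψ.ker = P.subgroupOf C by ext c; exact hψker c,
      Nat.card_congr (Subgroup.subgroupOfEquivOfLe hPC).toEquiv, hP] at h
    exact h.symm
  have hI5040 : Nat.card I ∣ 5040 := by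
    have h := Subgroup.card_subgroup_dvd_card I
    rwa [Nat.card_perm, Nat.card_coe_set_eq, hTc] at h
  have hfac : (Nat.card G).factorization 3 = 1 := by
    have h := Sylow.card_eq_multiplicity P0
    rw [← hPdef, hP] at h
    exact (Nat.pow_right_injective (le_refl 2 |>.trans (by norm_num)) (h.symm.trans (pow_one 3).symm))
  have hnot9 : ¬ 3 ^ 2 ∣ Nat.card G := by
    rw [Nat.Prime.pow_dvd_iff_le_factorization (by norm_num) Nat.card_pos.ne', hfac]
    omega
  have hI3 : ¬ 3 ∣ Nat.card I := by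
    rintro ⟨e, he⟩
    exact hnot9 ((show 3 ^ 2 ∣ Nat.card C from ⟨e, by rw [hCI, he]; ring⟩).trans (Subgroup.card_subgroup_dvd_card C))
  have h3G : 3 ∣ Nat.card G := hP ▸ Subgroup.card_subgroup_dvd_card P
  obtain ⟨g1, hg1N, hg1C⟩ := SetLike.not_le_iff_exists.1 (CfsgLib.SmallGroups.SimpleTools.not_normalizer_le hG h3G P0)
  have hNC : Nat.card N = 2 * Nat.card C := by
    have hmul := Subgroup.card_mul_index (C.subgroupOf N)
    rw [Nat.card_congr (Subgroup.subgroupOfEquivOfLe hCN).toEquiv] at hmul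
    have h2 : (C.subgroupOf N).index = 2 := by
      rw [Subgroup.index_eq_two_iff]
      refine ⟨⟨g1, hg1N⟩, fun b => ?_⟩
      simp only [Subgroup.mem_subgroupOf, Subgroup.coe_mul]
      -- the action on `P` has only two possibilities
      obtain ⟨p, hp, hp1⟩ : ∃ p ∈ P, g1 * p * g1⁻¹ ≠ p := by
        by_contra hh
        push Not at hh
        exact hg1C (Subgroup.mem_centralizer_iff.2 fun p hp => (mul_inv_eq_iff_eq_mul.1 (hh p hp)).symm)
      have hg1p : g1 * p * g1⁻¹ = p⁻¹ := (hinvP g1 hg1N p hp).resolve_left hp1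
      have hcrit : ∀ g ∈ N, g ∈ C ↔ g * p * g⁻¹ = p := by
        intro g hg
        refine ⟨fun h => mul_inv_eq_iff_eq_mul.2 (Subgroup.mem_centralizer_iff.1 h p hp).symm, fun h => ?_⟩
        have hpne : p ≠ 1 := fun h1 => hp1 (by rw [h1]; group)
        have hz : Subgroup.zpowers p = P := Subgroup.eq_of_le_of_card_ge (Subgroup.zpowers_le.2 hp) (by
          rw [Nat.card_zpowers, orderOf_eq_prime (hp3 p hp) hpne, hP])
        refine Subgroup.mem_centralizer_iff.2 fun r hr => ?_
        rw [SetLike.mem_coe, ← hz, Subgroup.mem_zpowers_iff] at hr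
        obtain ⟨i, rfl⟩ := hr
        exact ((show Commute g p from mul_inv_eq_iff_eq_mul.1 h).zpow_right i).eq.symm
      rw [hcrit _ b.2, hcrit _ (mul_mem b.2 hg1N)]
      have e : (b : G) * g1 * p * ((b : G) * g1)⁻¹ = ((b : G) * p * (b : G)⁻¹)⁻¹ := by
        rw [mul_inv_rev, show (b : G) * g1 * p * (g1⁻¹ * (b : G)⁻¹) = b * (g1 * p * g1⁻¹) * (b : G)⁻¹ by group,
          hg1p, conj_inv]
      rw [e]
      rcases hinvP b b.2 p hp with h | h
      · exact Or.inr ⟨h, fun h' => hp1 (by rw [hg1p]; rw [h] at h'; exact h')⟩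
      · exact Or.inl ⟨by rw [h, inv_inv], fun h' => hp1 (by rw [hg1p]; exact h.symm.trans h')⟩
    rw [h2] at hmul
    omega
  have hcG : Nat.card G = 132 * Nat.card I := by rw [hcardG, hNC, hCI]; ring
  have h25 : ¬ 5 ^ 2 ∣ Nat.card G := fun h => by
    have h' := h.trans (hcG ▸ Nat.mul_dvd_mul_left 132 hI5040)
    norm_num at h'
  -- elements of order five of `N` fix many points
  have hfive : ∀ x ∈ N, x ^ 5 = 1 → 7 ≤ {y : Sylow 3 G | x • y = y}.ncard := by
    intro x hxN hx5
    have hxC : x ∈ C := by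
      have e : (x ^ 2) ^ 3 = x := by rw [← pow_mul, show 2 * 3 = 5 + 1 by norm_num, pow_succ, hx5, one_mul]
      exact e ▸ pow_mem (hsqC x hxN) 3
    set M : Set (Set (Sylow 3 G)) := {O ∈ T | x • O ≠ O} with hM
    have hxT : ∀ n : ℕ, ∀ O ∈ T, x ^ n • O ∈ T := fun n => hTN _ (pow_mem hxN n)
    have hM5 : 5 ∣ M.ncard := by
      refine dvd_ncard (P := Subgroup.zpowers x) M ?_ ?_
      · intro p hp O hO
        obtain ⟨n, rfl⟩ : p ∈ Submonoid.powers x := mem_powers_iff_mem_zpowers.2 hp
        refine ⟨hxT n O hO.1, fun h => hO.2 ?_⟩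
        apply MulAction.injective (x ^ n)
        show x ^ n • x • O = x ^ n • O
        rw [← mul_smul, ← pow_succ, pow_succ', mul_smul]
        exact h
      · intro O hO
        have h := ncard_orb_dvd (Subgroup.zpowers x) O
        rw [Nat.card_zpowers, orderOf_eq_prime hx5 (fun h1 => hO.2 (by rw [h1, one_smul]))] at h
        rcases (Nat.dvd_prime (by norm_num)).1 h with h1 | h1
        · exfalso
          obtain ⟨a, ha⟩ := Set.ncard_eq_one.1 h1
          have h2 : O ∈ orb (Subgroup.zpowers x) O := self_mem_orb _ _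
          have h3 : x • O ∈ orb (Subgroup.zpowers x) O := ⟨x, Subgroup.mem_zpowers x, rfl⟩
          rw [ha, Set.mem_singleton_iff] at h2 h3
          exact hO.2 (h3.trans h2.symm)
        · rw [h1]
    set F : Set (Sylow 3 G) := {y ∈ S0 | x • orb P y = orb P y} with hF
    have hFP : ∀ p ∈ P, ∀ y ∈ F, p • y ∈ F := fun p hp y hy =>
      ⟨hS0P p hp y hy.1, by
        have he : orb P (p • y) = orb P y := orb_eq_of_mem ⟨p, hp, rfl⟩
        rw [he]; exact hy.2⟩
    have hFc := ncard_eq_mul F hFP (k := 3) fun y hy => horb3 y hy.1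
    have hTF : orb P '' F = T \ M := by
      ext O
      constructor
      · rintro ⟨y, hy, rfl⟩
        exact ⟨⟨y, hy.1, rfl⟩, fun h => h.2 hy.2⟩
      · rintro ⟨⟨y, hy, rfl⟩, hn⟩
        exact ⟨y, ⟨hy, by_contra fun h => hn ⟨⟨y, hy, rfl⟩, h⟩⟩, rfl⟩
    have hsub : M ⊆ T := fun O hO => hO.1
    have hTM := Set.ncard_sdiff_add_ncard_of_subset hsub (Set.toFinite _)
    rw [hTc, ← hTF] at hTM
    have hFfix : insert P0 F ⊆ {y : Sylow 3 G | x • y = y} := by
      rintro y (rfl | hy)
      · exact (hNfix x).1 hxN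
      · have h1 := horbfix x hxC y hy.1 hy.2
        have h2 : x ^ 6 • y = y := by rw [show (6 : ℕ) = 3 + 3 by norm_num, pow_add, mul_smul, h1, h1]
        show x • y = y
        rwa [show (6 : ℕ) = 5 + 1 by norm_num, pow_succ, hx5, one_mul] at h2
    have hle := Set.ncard_le_ncard hFfix (Set.toFinite _)
    rw [Set.ncard_insert_of_notMem (fun h => h.1 rfl) (Set.toFinite _)] at hle
    obtain ⟨c, hc⟩ := hM5
    omega
  -- elements of order five normalising `⟨σ⟩` fix at most two points
  set Qc := Subgroup.zpowers σ with hQc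
  have hstabc : ∀ y : Sylow 3 G, Nat.card (stabilizer G y) = Nat.card N := by
    intro y
    have h := Subgroup.card_mul_index (stabilizer G y)
    rw [MulAction.index_stabilizer_of_transitive, hX, hcardG, mul_comm] at h
    omega
  have hσpow : ∀ (i : ℕ) (y : Sylow 3 G), σ ^ i • y = y → 11 ∣ i := by
    intro i y h
    by_contra hi
    apply h11N
    have ho : orderOf (σ ^ i) = 11 := by
      rw [Nat.Coprime.orderOf_pow]
      · exact hσ
      · rw [hσ]; exact (Nat.Prime.coprime_iff_not_dvd (by norm_num)).2 hi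
    rw [← hstabc y, ← ho]
    exact Subgroup.orderOf_dvd_natCard _ h
  have hσeq : ∀ (a b : ℕ) (y : Sylow 3 G), σ ^ a • y = σ ^ b • y → (a : ZMod 11) = b := by
    have aux : ∀ (a b : ℕ) (y : Sylow 3 G), a ≤ b → σ ^ a • y = σ ^ b • y → (a : ZMod 11) = b := by
      intro a b y hab h
      obtain ⟨d, rfl⟩ := Nat.le.dest hab
      rw [pow_add, mul_smul] at h
      have hd := hσpow d y (MulAction.injective _ h).symm
      rw [Nat.cast_add, (ZMod.natCast_eq_zero_iff d 11).2 hd, add_zero]
    intro a b y h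
    rcases le_total a b with hab | hab
    exacts [aux a b y hab h, (aux b a y hab h.symm).symm]
  have hQorb : ∀ y : Sylow 3 G, (orb Qc y).ncard = 11 := by
    intro y
    have h := ncard_orb_dvd Qc y
    rw [Nat.card_zpowers, hσ] at h
    rcases (Nat.dvd_prime (by norm_num)).1 h with h1 | h1
    · exfalso
      obtain ⟨a, ha⟩ := Set.ncard_eq_one.1 h1
      have h2 : y ∈ orb Qc y := self_mem_orb _ _
      have h3 : σ ^ 1 • y ∈ orb Qc y := ⟨σ ^ 1, pow_mem (Subgroup.mem_zpowers σ) 1, rfl⟩
      rw [ha, Set.mem_singleton_iff] at h2 h3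
      exact absurd (hσpow 1 y (h3.trans h2.symm)) (by norm_num)
    · exact h1
  have hno5 : ∀ f ∈ Subgroup.normalizer (Qc : Set G), orderOf f ≠ 5 := by
    intro f hf hfo
    have hf5 : f ^ 5 = 1 := by rw [← hfo]; exact pow_orderOf_eq_one f
    have h5G : 5 ∣ Nat.card N := by
      have h1 : 5 ∣ 22 * Nat.card N := hcardG ▸ hfo ▸ orderOf_dvd_natCard f
      exact (Nat.Coprime.dvd_mul_left (by norm_num)).1 h1
    obtain ⟨⟨x, hxN⟩, hxo⟩ := exists_prime_orderOf_dvd_card' 5 h5G
    rw [Subgroup.orderOf_mk] at hxo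
    have hx7 := hfive x hxN (by rw [← hxo]; exact pow_orderOf_eq_one x)
    -- conjugate `f` into `⟨x⟩`
    have hsyl : ∀ u : G, orderOf u = 5 → ∃ S : Sylow 5 G, (S : Subgroup G) = Subgroup.zpowers u := by
      intro u hu
      obtain ⟨S, hS⟩ := (IsPGroup.of_card (n := 1) (by rw [Nat.card_zpowers, hu, pow_one]) :
        IsPGroup 5 (Subgroup.zpowers u)).exists_le_sylow
      refine ⟨S, (Subgroup.eq_of_le_of_card_ge hS ?_).symm⟩
      obtain ⟨k, hk⟩ := S.isPGroup'.exists_card_eq
      rw [hk, Nat.card_zpowers, hu]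
      calc 5 ^ k ≤ 5 ^ 1 := Nat.pow_le_pow_right (by norm_num) (by
            by_contra hk2
            exact h25 ((Nat.pow_dvd_pow 5 (by omega : 2 ≤ k)).trans (hk ▸ Subgroup.card_subgroup_dvd_card _)))
        _ = 5 := pow_one 5
    obtain ⟨Sx, hSx⟩ := hsyl x hxo
    obtain ⟨Sf, hSf⟩ := hsyl f hfo
    obtain ⟨g, hg⟩ := MulAction.exists_smul_eq G Sx Sf
    have hfm : g⁻¹ * f * g ∈ Subgroup.zpowers x := by
      have h1 : f ∈ ((g • Sx : Sylow 5 G) : Subgroup G) := by rw [hg, hSf]; exact Subgroup.mem_zpowers f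
      rw [Sylow.coe_subgroup_smul, Subgroup.mem_pointwise_smul_iff_inv_smul_mem, hSx] at h1
      have h2 : (MulAut.conj g)⁻¹ f ∈ Subgroup.zpowers x := h1
      rwa [MulAut.conj_inv_apply] at h2
    obtain ⟨j, hj⟩ : g⁻¹ * f * g ∈ Submonoid.powers x := mem_powers_iff_mem_zpowers.2 hfm
    simp only at hj
    have himg : (fun y => g • y) '' {y : Sylow 3 G | x • y = y} ⊆ {y | f • y = y} := by
      rintro _ ⟨y, hy, rfl⟩
      have hxy : ∀ n : ℕ, x ^ n • y = y := by
        intro n
        induction n with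
        | zero => simp
        | succ n ih => rw [pow_succ, mul_smul, show x • y = y from hy, ih]
      show f • g • y = g • y
      rw [← mul_smul, show f * g = g * (g⁻¹ * f * g) by group, ← hj, mul_smul, hxy]
    have h7 := Set.ncard_le_ncard himg (Set.toFinite _)
    rw [Set.ncard_image_of_injective _ (MulAction.injective g)] at h7
    -- but at most one fixed point in each orbit
    have hfσ : f * σ * f⁻¹ ∈ Qc := (Subgroup.mem_normalizer_iff.1 hf σ).1 (Subgroup.mem_zpowers σ)
    obtain ⟨k, hk⟩ : f * σ * f⁻¹ ∈ Submonoid.powers σ := mem_powers_iff_mem_zpowers.2 hfσ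
    simp only at hk
    have hk1 : (k : ZMod 11) ≠ 1 := by
      intro h1
      have hh : f * σ * f⁻¹ = σ := by
        rw [← hk]
        nth_rewrite 2 [← pow_one σ]
        rw [pow_eq_pow_iff_modEq, hσ, ← ZMod.natCast_eq_natCast_iff, h1, Nat.cast_one]
      have hfc : f ∈ Subgroup.centralizer ({σ} : Set G) :=
        Subgroup.mem_centralizer_singleton_iff.2 (mul_inv_eq_iff_eq_mul.1 hh)
      have hd := Subgroup.orderOf_dvd_natCard _ hfc
      rw [hfo, hC] at hd
      norm_num at hd
    have huniq : ∀ a b : Sylow 3 G, f • a = a → f • b = b → b ∈ orb Qc a → b = a := by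
      rintro a _ ha hb ⟨p, hp, rfl⟩
      obtain ⟨i, rfl⟩ : p ∈ Submonoid.powers σ := mem_powers_iff_mem_zpowers.2 hp
      have hb' : f • σ ^ i • a = σ ^ i • a := hb
      have h1 : f • σ ^ i • a = σ ^ (k * i) • a := by
        rw [pow_mul, hk, conj_pow]
        simp only [mul_smul]
        rw [show f⁻¹ • a = a from inv_smul_eq_iff.2 ha.symm]
      have h2 := hσeq (k * i) i a (h1.symm.trans hb')
      rw [Nat.cast_mul] at h2
      have h3 : ((k : ZMod 11) - 1) * (i : ZMod 11) = 0 := by rw [sub_mul, one_mul, h2, sub_self]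
      rcases mul_eq_zero.1 h3 with h4 | h4
      · exact absurd (sub_eq_zero.1 h4) hk1
      · obtain ⟨j, rfl⟩ := (ZMod.natCast_eq_zero_iff i 11).1 h4
        show σ ^ (11 * j) • a = a
        rw [pow_mul, ← hσ, pow_orderOf_eq_one, one_pow, one_smul]
    have htwoF : {y : Sylow 3 G | f • y = y}.ncard ≤ 2 := by
      rcases Set.eq_empty_or_nonempty {y : Sylow 3 G | f • y = y} with h | ⟨a, ha⟩
      · rw [h, Set.ncard_empty]; norm_num
      have hrest : ({y : Sylow 3 G | f • y = y} \ {a}).ncard ≤ 1 := by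
        refine (Set.ncard_le_one (Set.toFinite _)).2 fun b hb c hc => ?_
        by_contra hbc
        have hba : b ∉ orb Qc a := fun h => hb.2 (huniq a b ha hb.1 h)
        have hca : c ∉ orb Qc a := fun h => hc.2 (huniq a c ha hc.1 h)
        have hcb : c ∉ orb Qc b := fun h => hbc (huniq b c hb.1 hc.1 h).symm
        have hd1 : Disjoint (orb Qc a) (orb Qc b) := Set.disjoint_left.2 fun w h1 h2 => hba (by
          rw [← orb_eq_of_mem h1, orb_eq_of_mem h2]; exact self_mem_orb _ _)
        have h22 : (insert c (orb Qc a ∪ orb Qc b)).ncard ≤ 22 := by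
          rw [← hX]; exact Set.ncard_le_card _
        rw [Set.ncard_insert_of_notMem (fun h => h.elim hca hcb) (Set.toFinite _),
          Set.ncard_union_eq hd1 (Set.toFinite _) (Set.toFinite _), hQorb, hQorb] at h22
        omega
      have := Set.ncard_sdiff_singleton_add_one ha (Set.toFinite _)
      omega
    omega
  -- the normaliser of `⟨σ⟩`
  obtain ⟨Q0, hQ0⟩ : ∃ Q0 : Sylow 11 G, Qc ≤ (Q0 : Subgroup G) :=
    (IsPGroup.of_card (n := 1) (by rw [Nat.card_zpowers, hσ, pow_one]) : IsPGroup 11 Qc).exists_le_sylow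
  have hQ0c : (Q0 : Subgroup G) = Qc := by
    refine (Subgroup.eq_of_le_of_card_ge hQ0 ?_).symm
    rw [Nat.card_zpowers, hσ]
    obtain ⟨k, hk⟩ := Q0.isPGroup'.exists_card_eq
    rw [hk]
    calc 11 ^ k ≤ 11 ^ 1 := Nat.pow_le_pow_right (by norm_num) (by
          by_contra hk2
          exact hG121 ((Nat.pow_dvd_pow 11 (by omega : 2 ≤ k)).trans (hk ▸ Subgroup.card_subgroup_dvd_card _)))
      _ = 11 := pow_one 11
  set NQ := Subgroup.normalizer (Qc : Set G) with hNQdef
  set CQ := Subgroup.centralizer (Qc : Set G) with hCQdef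
  have hCQ : CQ = Subgroup.centralizer ({σ} : Set G) := by
    rw [hCQdef, hQc, Subgroup.zpowers_eq_closure, Subgroup.centralizer_closure]
  have hNQ : Nat.card NQ = 22 := by
    have hmul := Subgroup.card_mul_index (CQ.subgroupOf NQ)
    have hle : CQ ≤ NQ := Subgroup.centralizer_le_normalizer _
    rw [Nat.card_congr (Subgroup.subgroupOfEquivOfLe hle).toEquiv, hCQ, hC, ← hCQ] at hmul
    have hd : (CQ.subgroupOf NQ).index ∣ 10 := by
      haveI : IsCyclic Qc := by rw [hQc]; infer_instance
      rw [← Subgroup.normalizerMonoidHom_ker, Subgroup.index_ker]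
      refine (Subgroup.card_subgroup_dvd_card _).trans (dvd_of_eq ?_)
      rw [IsCyclic.card_mulAut, Nat.card_zpowers, hσ]
      decide
    have hne1 : (CQ.subgroupOf NQ).index ≠ 1 := by
      intro h1
      have hnle := CfsgLib.SmallGroups.SimpleTools.not_normalizer_le hG
        (by rw [hcardG]; exact Dvd.dvd.mul_right (by norm_num) _ : 11 ∣ Nat.card G) Q0
      simp only [← Sylow.coe_coe, hQ0c] at hnle
      exact hnle (Subgroup.subgroupOf_eq_top.1 (Subgroup.index_eq_one.1 h1))
    have h5 : ¬ 5 ∣ Nat.card NQ := fun h => by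
      obtain ⟨⟨f, hf⟩, hfo⟩ := exists_prime_orderOf_dvd_card' 5 h
      rw [Subgroup.orderOf_mk] at hfo
      exact hno5 f hf hfo
    have hm := Nat.mem_divisors.2 ⟨hd, (by norm_num : (10 : ℕ) ≠ 0)⟩
    rw [show Nat.divisors 10 = {1, 2, 5, 10} by decide] at hm
    simp only [Finset.mem_insert, Finset.mem_singleton] at hm
    rcases hm with h | h | h | h
    · exact absurd h hne1
    · rw [h] at hmul; omega
    · rw [h] at hmul; exact absurd ⟨11, by omega⟩ h5
    · rw [h] at hmul; exact absurd ⟨22, by omega⟩ h5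
  have hmod : Nat.card I % 11 = 2 := by
    have h1 := Sylow.card_eq_index_normalizer Q0
    simp only [← Sylow.coe_coe, hQ0c, ← hNQdef] at h1
    have h2 := card_sylow_modEq_one 11 G
    rw [Nat.ModEq, h1] at h2
    have h3 := Subgroup.card_mul_index NQ
    rw [hNQ, hcG] at h3
    omega
  have hI560 : Nat.card I ∈ Nat.divisors 560 := by
    refine Nat.mem_divisors.2 ⟨?_, by norm_num⟩
    have h : Nat.card I ∣ 9 * 560 := by rw [show 9 * 560 = 5040 by norm_num]; exact hI5040
    refine (Nat.Coprime.dvd_mul_left ?_).1 h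
    rw [show (9 : ℕ) = 3 ^ 2 by norm_num]
    exact ((Nat.Prime.coprime_iff_not_dvd (by norm_num)).2 hI3).symm.pow_right 2
  rcases arith560 _ hI560 hmod with h2 | h35 | h112
  · intro hd
    rw [hNC, hCI, h2] at hd
    rcases hq57 with rfl | rfl <;> norm_num at hd
  · exfalso
    obtain ⟨a, ha⟩ := exists_prime_orderOf_dvd_card' (G := I) 5 (by rw [h35]; norm_num)
    obtain ⟨b, hb⟩ := exists_prime_orderOf_dvd_card' (G := I) 7 (by rw [h35]; norm_num)
    have hcop : Nat.Coprime (orderOf a) (orderOf b) := by rw [ha, hb]; norm_num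
    have hnorm : ∀ (p : ℕ) [Fact p.Prime] (u : I) (m : ℕ), orderOf u = p → 35 = p * m → ¬ p ∣ m →
        (∀ n ∈ Nat.divisors m, n % p = 1 → n = 1) → (Subgroup.zpowers u).Normal := by
      intro p _ u m hu hm hpm hn
      obtain ⟨S, hS⟩ := (IsPGroup.of_card (n := 1) (by rw [Nat.card_zpowers, hu, pow_one]) :
        IsPGroup p (Subgroup.zpowers u)).exists_le_sylow
      have hS' : Subgroup.zpowers u = (S : Subgroup I) := by
        refine Subgroup.eq_of_le_of_card_ge hS ?_
        rw [Nat.card_zpowers, hu, S.card_eq_multiplicity, h35, hm, Nat.factorization_mul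
          (Fact.out : p.Prime).ne_zero (by rintro rfl; simp at hpm), Finsupp.add_apply,
          (Fact.out : p.Prime).factorization_self, Nat.factorization_eq_zero_of_not_dvd hpm, add_zero, pow_one]
      have hidx : (S : Subgroup I).index = m := by
        have h := Subgroup.card_mul_index (S : Subgroup I)
        rw [← hS', Nat.card_zpowers, hu, h35, hm] at h
        rw [← hS']
        exact Nat.eq_of_mul_eq_mul_left (Fact.out : p.Prime).pos h
      have h1 : Nat.card (Sylow p I) ∈ Nat.divisors m := Nat.mem_divisors.2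
        ⟨hidx ▸ Sylow.card_dvd_index S, by rintro rfl; simp at hpm⟩
      have h2 := card_sylow_modEq_one p I
      rw [Nat.ModEq, Nat.mod_eq_of_lt (Fact.out : p.Prime).one_lt] at h2
      haveI : Subsingleton (Sylow p I) := (Nat.card_eq_one_iff_unique.1 (hn _ h1 h2)).1
      rw [hS']
      exact Sylow.normal_of_subsingleton S
    have hna := hnorm 5 a 7 ha (by norm_num) (by norm_num) (by decide)
    have hnb := hnorm 7 b 5 hb (by norm_num) (by norm_num) (by decide)
    have hdis : Disjoint (Subgroup.zpowers a) (Subgroup.zpowers b) := by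
      rw [disjoint_iff]
      apply Subgroup.inf_eq_bot_of_coprime
      rwa [Nat.card_zpowers, Nat.card_zpowers]
    have hab : Commute a b := Subgroup.commute_of_normal_of_disjoint _ _ hna hnb hdis a b
      (Subgroup.mem_zpowers a) (Subgroup.mem_zpowers b)
    have hord : orderOf ((a * b : I) : Equiv.Perm T) = 35 := by
      rw [Subgroup.orderOf_coe, hab.orderOf_mul_eq_mul_orderOf_of_coprime hcop, ha, hb]
    set s : Equiv.Perm T := ((a * b : I) : Equiv.Perm T)
    have hsum : s.cycleType.sum ≤ 7 := by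
      rw [Equiv.Perm.sum_cycleType]
      refine le_trans (Finset.card_le_univ _) ?_
      rw [← Nat.card_eq_fintype_card, Nat.card_coe_set_eq, hTc]
    have hall : ∀ k ∈ s.cycleType, k = 5 ∨ k = 7 := by
      intro k hk
      have h1 := Equiv.Perm.two_le_of_mem_cycleType hk
      have h3 : k ∣ 35 := hord ▸ Equiv.Perm.dvd_of_mem_cycleType hk
      have h4 : k ≤ 7 := le_trans (Multiset.single_le_sum (fun x _ => Nat.zero_le x) k hk) hsum
      interval_cases k <;> norm_num at h3 <;> simp
    have hl := Equiv.Perm.lcm_cycleType s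
    rw [hord] at hl
    rcases Multiset.empty_or_exists_mem s.cycleType with h | ⟨k, hk⟩
    · rw [h] at hl; simp at hl
    · obtain ⟨r, hr⟩ := Multiset.exists_cons_of_mem hk
      rcases Multiset.empty_or_exists_mem r with h | ⟨l, hl2⟩
      · rw [hr, h] at hl
        simp at hl
        rcases hall k hk with h5 | h5 <;> omega
      · have h1 := hall k hk
        have h2 := hall l (hr ▸ Multiset.mem_cons_of_mem hl2)
        rw [hr, Multiset.sum_cons] at hsum
        have := Multiset.single_le_sum (fun x _ => Nat.zero_le x) l hl2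
        omega
  · exfalso
    haveI : Fact (Nat.Prime 2) := ⟨Nat.prime_two⟩
    obtain ⟨S⟩ := (inferInstance : Nonempty (Sylow 2 I))
    have hS16 : Nat.card ((S : Subgroup I).map I.subtype) = 16 := by
      rw [Subgroup.card_map_of_injective I.subtype_injective, S.card_eq_multiplicity, h112,
        show 112 = 2 ^ 4 * 7 by norm_num, Nat.factorization_mul (by norm_num) (by norm_num), Finsupp.add_apply,
        Nat.prime_two.factorization_pow, Finsupp.single_eq_same,
        Nat.factorization_eq_zero_of_not_dvd (by norm_num : ¬ 2 ∣ 7)]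
      all_goals norm_num
    obtain ⟨S', hS'⟩ := (IsPGroup.of_card (n := 4) (hS16.trans (by norm_num)) :
      IsPGroup 2 ((S : Subgroup I).map I.subtype)).exists_le_sylow
    have hS'eq : (S : Subgroup I).map I.subtype = (S' : Subgroup (Equiv.Perm T)) := by
      refine Subgroup.eq_of_le_of_card_ge hS' (le_of_eq ?_)
      rw [hS16, S'.card_eq_multiplicity, Nat.card_perm, Nat.card_coe_set_eq, hTc,
        show Nat.factorial 7 = 2 ^ 4 * 315 by decide, Nat.factorization_mul (by norm_num) (by norm_num),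
        Finsupp.add_apply, Nat.prime_two.factorization_pow, Finsupp.single_eq_same,
        Nat.factorization_eq_zero_of_not_dvd (by norm_num : ¬ 2 ∣ 315)]
      all_goals norm_num
    have hT2 : 1 < Fintype.card T := by rw [← Nat.card_eq_fintype_card, Nat.card_coe_set_eq, hTc]; norm_num
    obtain ⟨a0, b0, hab0⟩ := Fintype.exists_pair_of_one_lt_card hT2
    obtain ⟨S'', hS''⟩ := (IsPGroup.of_card (n := 1) (by
      rw [Nat.card_zpowers, pow_one, orderOf_eq_prime (by rw [pow_two, Equiv.swap_mul_self])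
        (fun h => hab0 (Equiv.swap_eq_one_iff.1 h))]) :
      IsPGroup 2 (Subgroup.zpowers (Equiv.swap a0 b0))).exists_le_sylow
    obtain ⟨π, hπ⟩ := MulAction.exists_smul_eq (Equiv.Perm T) S'' S'
    have hmemI : Equiv.swap (π a0) (π b0) ∈ I := by
      have h1 : MulAut.conj π (Equiv.swap a0 b0) ∈ (S' : Subgroup (Equiv.Perm T)) := by
        rw [← hπ, Sylow.coe_subgroup_smul]
        exact Subgroup.smul_mem_pointwise_smul _ _ _ (hS'' (Subgroup.mem_zpowers _))
      rw [MulAut.conj_apply, ← hS'eq, ← Equiv.swap_apply_apply] at h1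
      obtain ⟨u, -, hu⟩ := h1
      exact hu ▸ u.2
    obtain ⟨c0, hc0⟩ := hmemI
    set a := π a0
    set b := π b0
    have hab : a ≠ b := fun h => hab0 (π.injective h)
    have hc2 : ((c0 ^ 2 : C) : G) ∈ P := (hψker _).1 (by
      rw [map_pow, hc0, pow_two, Equiv.swap_mul_self])
    set g : G := (c0 : G) ^ 3 with hgdef
    have hg2 : g * g = 1 := by
      rw [hgdef, ← pow_add, show 3 + 3 = 2 * 3 by norm_num, pow_mul]
      exact hp3 _ hc2
    have hgC : g ∈ C := pow_mem c0.2 3
    have hψg : ∀ O : T, g • (O : Set (Sylow 3 G)) = ((Equiv.swap a b O : T) : Set (Sylow 3 G)) := by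
      intro O
      have h1 : ψ (c0 ^ 3) = Equiv.swap a b := by
        rw [map_pow, hc0, pow_succ, pow_two, Equiv.swap_mul_self, one_mul]
      exact congrArg Subtype.val (DFunLike.congr_fun h1 O)
    have hmoved : {y : Sylow 3 G | g • y ≠ y} = (a : Set (Sylow 3 G)) ∪ (b : Set (Sylow 3 G)) := by
      ext y
      by_cases hy : y = P0
      · subst hy
        simp only [Set.mem_setOf_eq, ne_eq, (hNfix g).1 (hCN hgC), not_true_eq_false, Set.mem_union, false_iff]
        rintro (h | h)
        · obtain ⟨z, hz, he⟩ := a.2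
          exact orb_subset hS0P hz (he ▸ h) rfl
        · obtain ⟨z, hz, he⟩ := b.2
          exact orb_subset hS0P hz (he ▸ h) rfl
      · set O : T := ⟨orb P y, y, hy, rfl⟩ with hO
        have hmem : ∀ c : T, y ∈ (c : Set (Sylow 3 G)) ↔ c = O := by
          intro c
          refine ⟨fun h => Subtype.ext ?_, fun h => by rw [h]; exact self_mem_orb P y⟩
          obtain ⟨z, hz, he⟩ := c.2
          show (c : Set (Sylow 3 G)) = orb P y
          rw [← he] at h ⊢
          exact (orb_eq_of_mem h).symm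
        simp only [Set.mem_setOf_eq, Set.mem_union, hmem]
        constructor
        · intro h
          by_contra hn
          rw [not_or] at hn
          apply h
          have h1 := hψg O
          rw [Equiv.swap_apply_of_ne_of_ne (Ne.symm hn.1) (Ne.symm hn.2)] at h1
          have h2 := horbfix g hgC y hy h1
          rwa [pow_succ, pow_two, hg2, one_mul] at h2
        · intro h hgy
          have h1 := hψg O
          rw [show g • (O : Set (Sylow 3 G)) = O by
            show g • orb P y = orb P y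
            rw [smul_orb (hCN hgC), hgy]] at h1
          have h2 : O = Equiv.swap a b O := Subtype.ext h1
          rcases h with h | h
          · rw [← h, Equiv.swap_apply_left] at h2; exact hab h2
          · rw [← h, Equiv.swap_apply_right] at h2; exact hab h2.symm
    have hc6 : {y : Sylow 3 G | g • y ≠ y}.ncard = 2 * 3 := by
      have h3 : ∀ c : T, (c : Set (Sylow 3 G)).ncard = 3 := fun c => by
        obtain ⟨z, hz, he⟩ := c.2
        rw [← he]; exact horb3 z hz
      rw [hmoved, Set.ncard_union_eq (Set.disjoint_left.2 fun w h1 h2 => hab (Subtype.ext ?_))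
        (Set.toFinite _) (Set.toFinite _), h3, h3]
      obtain ⟨z, -, he⟩ := a.2
      obtain ⟨z', -, he'⟩ := b.2
      rw [← he] at h1
      rw [← he'] at h2
      rw [← he, ← he', ← orb_eq_of_mem h1, orb_eq_of_mem h2]
    exact absurd (hinv2 g 3 hg2 hc6) (by decide)


/-- No simple group has exactly 22 Sylow 3-subgroups. -/
theorem core {G : Type w} [Group G] [Finite G] [IsSimpleGroup G]
    (hX : Nat.card (Sylow 3 G) = 22) : False := by
  classical
  haveI : Fact (Nat.Prime 3) := ⟨by norm_num⟩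
  haveI := Fintype.ofFinite G
  haveI := Fintype.ofFinite (Sylow 3 G)
  have hG : ¬ IsMulCommutative G := by
    intro hc
    haveI : ∀ H : Subgroup G, H.Normal := fun H => ⟨fun a ha g => by
      rw [IsMulCommutative.is_comm.comm g a, mul_inv_cancel_right]; exact ha⟩
    haveI : Subsingleton (Sylow 3 G) := ⟨fun a b => by
      obtain ⟨g, rfl⟩ := MulAction.exists_smul_eq G a b
      exact (Sylow.smul_eq_iff_mem_normalizer.2 (by rw [← Sylow.coe_coe, Subgroup.normalizer_eq_top]; trivial)).symm⟩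
    have := (Finite.card_le_one_iff_subsingleton).2 ‹Subsingleton (Sylow 3 G)›
    omega
  have hker : ∀ {M : Type w} [Group M] (f : G →* M), (∀ a b, f a * f b = f b * f a) → ∀ g, f g = 1 := by
    intro M _ f hf g
    rcases (inferInstance : f.ker.Normal).eq_bot_or_eq_top with h | h
    · exact absurd ⟨⟨fun a b => (MonoidHom.ker_eq_bot_iff _).1 h (by rw [map_mul, map_mul, hf])⟩⟩ hG
    · exact MonoidHom.mem_ker.1 (h ▸ Subgroup.mem_top g)
  obtain ⟨P0⟩ := (inferInstance : Nonempty (Sylow 3 G))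
  set P : Subgroup G := (P0 : Subgroup G) with hPdef
  set N : Subgroup G := Subgroup.normalizer (P : Set G) with hNdef
  have hNfix : ∀ g, g ∈ N ↔ g • P0 = P0 := fun g => Sylow.smul_eq_iff_mem_normalizer.symm
  have hNst : stabilizer G P0 = N := Sylow.stabilizer_eq_normalizer P0
  have hP3 : IsPGroup 3 P := P0.isPGroup'
  have hindex : N.index = 22 := by rw [← hX]; exact (Sylow.card_eq_index_normalizer P0).symm
  have hcardG : Nat.card G = 22 * Nat.card N := by rw [← hindex, mul_comm]; exact (Subgroup.card_mul_index N).symm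
  have hfaith : ∀ g : G, (∀ y : Sylow 3 G, g • y = y) → g = 1 := by
    intro g hg
    rcases (inferInstance : (MulAction.toPermHom G (Sylow 3 G)).ker.Normal).eq_bot_or_eq_top with h | h
    · have hm : g ∈ (MulAction.toPermHom G (Sylow 3 G)).ker := MonoidHom.mem_ker.2 (Equiv.ext hg)
      rwa [h, Subgroup.mem_bot] at hm
    · exfalso
      haveI : Subsingleton (Sylow 3 G) := ⟨fun a b => by
        obtain ⟨k, rfl⟩ := MulAction.exists_smul_eq G a b
        have hk : MulAction.toPermHom G (Sylow 3 G) k = 1 := MonoidHom.mem_ker.1 (h ▸ Subgroup.mem_top k)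
        exact (congrArg (fun s : Equiv.Perm (Sylow 3 G) => s a) hk).symm⟩
      have := (Finite.card_le_one_iff_subsingleton).2 ‹Subsingleton (Sylow 3 G)›
      omega
  have heven : ∀ g : G, Equiv.Perm.sign (MulAction.toPermHom G (Sylow 3 G) g) = 1 := by
    intro g
    rcases (inferInstance : (Equiv.Perm.sign.comp (MulAction.toPermHom G (Sylow 3 G))).ker.Normal).eq_bot_or_eq_top with h | h
    · exact absurd ⟨⟨fun a b => (MonoidHom.ker_eq_bot_iff _).1 h (by rw [map_mul, map_mul, mul_comm])⟩⟩ hG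
    · exact MonoidHom.mem_ker.1 (h ▸ Subgroup.mem_top g :
        g ∈ (Equiv.Perm.sign.comp (MulAction.toPermHom G (Sylow 3 G))).ker)
  have hinv2 : ∀ (g : G) (m : ℕ), g * g = 1 → {y : Sylow 3 G | g • y ≠ y}.ncard = 2 * m → Even m := by
    intro g m h2 hm
    refine sign_even_support (MulAction.toPermHom G (Sylow 3 G) g) ?_ (heven g) hm
    rw [← map_mul, h2, map_one]
  have hmem : ∀ (y : Sylow 3 G), stabilizer G y ⊓ P = P ⊓ (y : Subgroup G) := fun y => by
    rw [Sylow.stabilizer_eq_normalizer, inf_comm]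
    exact hP3.inf_normalizer_sylow y
  have horb : ∀ y : Sylow 3 G, (orb P y).ncard * Nat.card ↥(P ⊓ (y : Subgroup G)) = Nat.card P :=
    fun y => by rw [← hmem]; exact orb_mul P y
  have hP0fix : ∀ p ∈ P, p • P0 = P0 := fun p hp => (hNfix p).1 (Subgroup.le_normalizer hp)
  obtain ⟨kP, hkP⟩ := hP3.exists_card_eq
  have horb1 : ∀ y : Sylow 3 G, (orb P y).ncard = 1 → y = P0 := by
    intro y hy
    have h := horb y
    rw [hy, one_mul] at h
    have hle : P ≤ (y : Subgroup G) :=
      inf_eq_left.1 (Subgroup.eq_of_le_of_card_ge inf_le_left h.ge)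
    exact (Sylow.ext (Subgroup.eq_of_le_of_card_ge hle (le_of_eq (by
      rw [Sylow.card_eq_multiplicity, Sylow.card_eq_multiplicity])))).symm
  set S0 : Set (Sylow 3 G) := {y | y ≠ P0} with hS0def
  have hS0c : S0.ncard = 21 := by
    have h := Set.ncard_add_ncard_compl ({P0} : Set (Sylow 3 G))
    rw [Set.ncard_singleton, hX] at h
    have e : S0 = ({P0} : Set (Sylow 3 G))ᶜ := by ext y; simp [S0]
    rw [e]
    omega
  have hS0N : ∀ g ∈ N, ∀ y ∈ S0, g • y ∈ S0 := fun g hg y hy h => hy (by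
    rw [← (hNfix g).1 hg] at h; exact MulAction.injective g h)
  have hS0P : ∀ p ∈ P, ∀ y ∈ S0, p • y ∈ S0 := fun p hp => hS0N p (Subgroup.le_normalizer hp)
  have hsize : ∀ y ∈ S0, (orb P y).ncard = 3 ∨ (orb P y).ncard = 9 := by
    intro y hy
    obtain ⟨i, -, hi⟩ := (Nat.dvd_prime_pow (by norm_num)).1 (hkP ▸ ncard_orb_dvd P y)
    have hle : (orb P y).ncard ≤ 21 := hS0c ▸ Set.ncard_le_ncard (orb_subset hS0P hy) (Set.toFinite _)
    rw [hi] at hle ⊢
    have : i ≤ 2 := by
      by_contra h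
      have h27 : 3 ^ 3 ≤ 3 ^ i := Nat.pow_le_pow_right (by norm_num) (by omega)
      norm_num at h27
      omega
    interval_cases i
    · exact absurd (horb1 y (by rw [hi, pow_zero])) hy
    · norm_num
    · norm_num
  set B : Set (Sylow 3 G) := {y | (orb P y).ncard = 3} with hBdef
  have hBS0 : B ⊆ S0 := by
    intro y hy h
    have h1 : orb P P0 = {P0} := by
      ext z
      exact ⟨fun ⟨p, hp, e⟩ => by rw [← e, hP0fix p hp]; rfl, fun hz => by rw [hz]; exact self_mem_orb _ _⟩
    rw [hBdef, Set.mem_setOf_eq, h, h1, Set.ncard_singleton] at hy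
    omega
  have hBN : ∀ g ∈ N, ∀ y ∈ B, g • y ∈ B := fun g hg y hy => by
    show (orb P (g • y)).ncard = 3
    rw [← smul_orb hg]
    exact (Set.ncard_image_of_injective _ (MulAction.injective g)).trans hy
  have hBP : ∀ p ∈ P, ∀ y ∈ B, p • y ∈ B := fun p hp => hBN p (Subgroup.le_normalizer hp)
  have hDc : 9 ∣ (S0 \ B).ncard := by
    refine dvd_ncard (P := P) _ (fun p hp y hy => ⟨hS0P p hp y hy.1, fun h => hy.2 ?_⟩) fun y hy => ?_
    · have := hBP p⁻¹ (inv_mem hp) _ h
      rwa [inv_smul_smul] at this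
    · rcases hsize y hy.1 with h | h
      · exact absurd h hy.2
      · rw [h]
  have hBc := Set.ncard_sdiff_add_ncard_of_subset hBS0 (Set.toFinite _)
  rw [hS0c] at hBc
  -- primes of the normaliser
  have hN11 : ∀ q : ℕ, q.Prime → q ∣ Nat.card N → q ≤ 7 := by
    intro q hq hd
    by_contra h7
    haveI : Fact q.Prime := ⟨hq⟩
    obtain ⟨⟨x, hxN⟩, hx⟩ := exists_prime_orderOf_dvd_card' q hd
    rw [Subgroup.orderOf_mk] at hx
    have hxq : x ^ q = 1 := by rw [← hx]; exact pow_orderOf_eq_one x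
    have hq11 : 11 ≤ q := by
      by_contra hlt
      interval_cases q <;> first | omega | exact absurd hq (by norm_num)
    have hfix := fix_of_small hq hxq hxN (hS0N x hxN) hS0P (s := 3)
      (fun y hy => by rcases hsize y hy with h | h <;> omega)
      (fun y hy => by rcases hsize y hy with h | h <;> omega) (by omega)
    have hx1 := hfaith x fun y => by
      by_cases hy : y = P0
      · rw [hy]; exact (hNfix x).1 hxN
      · exact hfix y hy
    rw [hx1, orderOf_one] at hx
    exact hq.ne_one hx.symm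
  have h11N : ¬ 11 ∣ Nat.card N := fun h => absurd (hN11 11 (by norm_num) h) (by norm_num)
  haveI h11 : Fact (Nat.Prime 11) := ⟨by norm_num⟩
  obtain ⟨σ, hσ⟩ := exists_prime_orderOf_dvd_card' (G := G) 11 (hcardG ▸ Dvd.dvd.mul_right (by norm_num) _)
  have hstabc : ∀ y : Sylow 3 G, Nat.card (stabilizer G y) = Nat.card N := by
    intro y
    have h := Subgroup.card_mul_index (stabilizer G y)
    rw [MulAction.index_stabilizer_of_transitive, hX, hcardG, mul_comm] at h
    omega
  have hσpow : ∀ (i : ℕ) (y : Sylow 3 G), σ ^ i • y = y → 11 ∣ i := by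
    intro i y h
    by_contra hi
    apply h11N
    have ho : orderOf (σ ^ i) = 11 := by
      rw [Nat.Coprime.orderOf_pow]
      · exact hσ
      · rw [hσ]; exact (Nat.Prime.coprime_iff_not_dvd (by norm_num)).2 hi
    rw [← hstabc y, ← ho]
    exact Subgroup.orderOf_dvd_natCard _ h
  set Qc := Subgroup.zpowers σ with hQc
  have hQorb : ∀ y : Sylow 3 G, (orb Qc y).ncard = 11 := by
    intro y
    have h := ncard_orb_dvd Qc y
    rw [Nat.card_zpowers, hσ] at h
    rcases (Nat.dvd_prime (by norm_num)).1 h with h1 | h1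
    · exfalso
      obtain ⟨a, ha⟩ := Set.ncard_eq_one.1 h1
      have h2 : y ∈ orb Qc y := self_mem_orb _ _
      have h3 : σ ^ 1 • y ∈ orb Qc y := ⟨σ ^ 1, pow_mem (Subgroup.mem_zpowers σ) 1, rfl⟩
      rw [ha, Set.mem_singleton_iff] at h2 h3
      exact absurd (hσpow 1 y (h3.trans h2.symm)) (by norm_num)
    · exact h1
  have htwo : ∀ a b : Sylow 3 G, b ∉ orb Qc a → ∀ c, c ∉ orb Qc b → c ∈ orb Qc a := by
    intro a b hb c hc
    by_contra hca
    have hd1 : Disjoint (orb Qc a) (orb Qc b) := Set.disjoint_left.2 fun w h1 h2 => hb (by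
      rw [← orb_eq_of_mem h1, orb_eq_of_mem h2]; exact self_mem_orb _ _)
    have h22 : (insert c (orb Qc a ∪ orb Qc b)).ncard ≤ 22 := by
      rw [← hX]; exact Set.ncard_le_card _
    rw [Set.ncard_insert_of_notMem (fun h => h.elim hca hc) (Set.toFinite _),
      Set.ncard_union_eq hd1 (Set.toFinite _) (Set.toFinite _), hQorb, hQorb] at h22
    omega
  -- the centraliser of `σ`
  have hcent : ∀ g : G, g ∈ Subgroup.centralizer ({σ} : Set G) → ∀ r : ℕ, r.Prime → r ≠ 11 →
      g ^ r = 1 → g = 1 := by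
    intro g hg r hr hr11 hgr
    have hsame : ∀ c : G, Commute c σ → c ^ r = 1 → ∀ z : Sylow 3 G, c • z ∈ orb Qc z → c • z = z := by
      intro c hc hcr z hz
      obtain ⟨p, hp, he⟩ := hz
      obtain ⟨i, rfl⟩ : p ∈ Submonoid.powers σ := mem_powers_iff_mem_zpowers.2 hp
      have he' : c • z = σ ^ i • z := he.symm
      have hcn : ∀ n : ℕ, c ^ n • z = σ ^ (i * n) • z := by
        intro n
        induction n with
        | zero => simp
        | succ n ih =>
          rw [pow_succ', mul_smul, ih, ← mul_smul, (hc.pow_right (i * n)).eq, mul_smul, he', ← mul_smul,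
            ← pow_add, Nat.mul_succ]
      have h1 := hcn r
      rw [hcr, one_smul] at h1
      obtain h2 | h2 := (Nat.Prime.dvd_mul (by norm_num)).1 (hσpow _ z h1.symm)
      · obtain ⟨j, rfl⟩ := h2
        rw [he', pow_mul, ← hσ, pow_orderOf_eq_one, one_pow, one_smul]
      · exact absurd ((Nat.prime_dvd_prime_iff_eq (by norm_num) hr).1 h2).symm hr11
    have hcomm : Commute g σ := (Subgroup.mem_centralizer_singleton_iff.1 hg)
    have hpropag : ∀ y z : Sylow 3 G, g • y = y → z ∈ orb Qc y → g • z = z := by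
      rintro y _ hy ⟨p, hp, rfl⟩
      obtain ⟨i, rfl⟩ : p ∈ Submonoid.powers σ := mem_powers_iff_mem_zpowers.2 hp
      show g • σ ^ i • y = σ ^ i • y
      rw [← mul_smul, (hcomm.pow_right i).eq, mul_smul, hy]
    by_cases hfix : ∃ y : Sylow 3 G, g • y = y
    · obtain ⟨y, hy⟩ := hfix
      refine hfaith g fun z => ?_
      by_cases hz : z ∈ orb Qc y
      · exact hpropag y z hy hz
      · refine hsame g hcomm hgr z ?_
        by_contra hgz
        have h1 := htwo y z hz (g • z) hgz
        have h2 := hpropag y _ hy h1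
        exact hz (by rwa [MulAction.injective g h2] at h1)
    · exfalso
      simp only [not_exists] at hfix
      have hnot : ∀ z : Sylow 3 G, g • z ∉ orb Qc z := fun z hz => hfix z (hsame g hcomm hgr z hz)
      have hgg : g * g = 1 := by
        refine hfaith _ fun z => hsame (g * g) (hcomm.mul_left hcomm) ?_ z ?_
        · rw [← pow_two, ← pow_mul, mul_comm, pow_mul, hgr, one_pow]
        · rw [mul_smul]
          exact htwo z (g • z) (hnot z) _ (hnot (g • z))
      have hall : {y : Sylow 3 G | g • y ≠ y}.ncard = 2 * 11 := by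
        rw [show {y : Sylow 3 G | g • y ≠ y} = Set.univ from Set.eq_univ_of_forall hfix, Set.ncard_univ, hX]
      exact absurd (hinv2 g 11 hgg hall) (by decide)
  have hQcent : Qc ≤ Subgroup.centralizer ({σ} : Set G) := by
    rw [hQc, Subgroup.zpowers_le]; exact Subgroup.mem_centralizer_singleton_iff.2 rfl
  have hG121 : ¬ 11 ^ 2 ∣ Nat.card G := by
    rw [hcardG, show 22 * Nat.card N = 11 * (2 * Nat.card N) by ring, pow_two,
      Nat.mul_dvd_mul_iff_left (by norm_num : 0 < 11)]
    intro h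
    rcases (Nat.Prime.dvd_mul (by norm_num)).1 h with h | h
    · norm_num at h
    · exact h11N h
  have hC : Nat.card (Subgroup.centralizer ({σ} : Set G)) = 11 := by
    set C := Subgroup.centralizer ({σ} : Set G) with hCdef
    have hne : Nat.card C ≠ 0 := Nat.card_pos.ne'
    have hprimes : ∀ r : ℕ, r.Prime → r ∣ Nat.card C → r = 11 := by
      intro r hr hd
      by_contra hne11
      haveI : Fact r.Prime := ⟨hr⟩
      obtain ⟨⟨g, hg⟩, hgo⟩ := exists_prime_orderOf_dvd_card' r hd
      rw [Subgroup.orderOf_mk] at hgo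
      have := hcent g hg r hr hne11 (by rw [← hgo]; exact pow_orderOf_eq_one g)
      rw [this, orderOf_one] at hgo
      exact hr.ne_one hgo.symm
    have heq := Nat.eq_prime_pow_of_unique_prime_dvd hne (fun {r} hr hd => hprimes r hr hd)
    have h1 : 11 ∣ Nat.card C := by
      have := Subgroup.card_dvd_of_le hQcent
      rwa [Nat.card_zpowers, hσ] at this
    rw [heq] at h1 ⊢
    have hle : (Nat.card C).primeFactorsList.length ≤ 1 := by
      by_contra h
      apply hG121
      refine dvd_trans ?_ (Subgroup.card_subgroup_dvd_card C)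
      rw [heq]
      exact Nat.pow_dvd_pow 11 (by omega)
    rcases Nat.eq_zero_or_pos (Nat.card C).primeFactorsList.length with h | h
    · rw [h, pow_zero] at h1; norm_num at h1
    · rw [show (Nat.card C).primeFactorsList.length = 1 by omega, pow_one]
  -- the only primes of `N` are `2` and `3`
  suffices hq57 : ∀ q : ℕ, q = 5 ∨ q = 7 → ¬ q ∣ Nat.card N by
    have hprimes : ∀ q : ℕ, q.Prime → q ∣ Nat.card G → q = 2 ∨ q = 3 ∨ q = 11 := by
      intro q hq hd
      rw [hcardG, show 22 * Nat.card N = 2 * (11 * Nat.card N) by ring, Nat.Prime.dvd_mul hq,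
        Nat.Prime.dvd_mul hq] at hd
      rcases hd with h | h | h
      · exact Or.inl ((Nat.prime_dvd_prime_iff_eq hq Nat.prime_two).1 h)
      · exact Or.inr (Or.inr ((Nat.prime_dvd_prime_iff_eq hq (by norm_num)).1 h))
      · have h7 := hN11 q hq h
        have := hq57 q
        interval_cases q <;> first | (simp; done) | exact absurd h (this (Or.inl rfl)) | exact absurd h (this (Or.inr rfl)) | norm_num at hq
    obtain ⟨Q0, hQ0⟩ : ∃ Q0 : Sylow 11 G, Qc ≤ (Q0 : Subgroup G) :=
      (IsPGroup.of_card (n := 1) (by rw [Nat.card_zpowers, hσ, pow_one]) : IsPGroup 11 Qc).exists_le_sylow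
    have hQ0c : (Q0 : Subgroup G) = Qc := by
      refine (Subgroup.eq_of_le_of_card_ge hQ0 ?_).symm
      rw [Nat.card_zpowers, hσ]
      obtain ⟨k, hk⟩ := Q0.isPGroup'.exists_card_eq
      rw [hk]
      calc 11 ^ k ≤ 11 ^ 1 := Nat.pow_le_pow_right (by norm_num) (by
            by_contra hk2
            exact hG121 ((Nat.pow_dvd_pow 11 (by omega : 2 ≤ k)).trans (hk ▸ Subgroup.card_subgroup_dvd_card _)))
        _ = 11 := pow_one 11
    obtain ⟨g, hgN, hgC⟩ := SetLike.not_le_iff_exists.1 (CfsgLib.SmallGroups.SimpleTools.not_normalizer_le hG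
      (by rw [hcardG]; exact Dvd.dvd.mul_right (by norm_num) _ : 11 ∣ Nat.card G) Q0)
    simp only [← Sylow.coe_coe, hQ0c] at hgN hgC
    have hgσ : g * σ * g⁻¹ ∈ Qc := (Subgroup.mem_normalizer_iff.1 hgN σ).1 (Subgroup.mem_zpowers σ)
    obtain ⟨k, hk⟩ : g * σ * g⁻¹ ∈ Submonoid.powers σ := mem_powers_iff_mem_zpowers.2 hgσ
    simp only at hk
    have hiter : ∀ m : ℕ, g ^ m * σ * (g ^ m)⁻¹ = σ ^ k ^ m := by
      intro m
      induction m with
      | zero => simp
      | succ m ih =>
        rw [pow_succ' g m, mul_inv_rev, show g * g ^ m * σ * ((g ^ m)⁻¹ * g⁻¹) = g * (g ^ m * σ * (g ^ m)⁻¹) * g⁻¹ by group,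
          ih, ← conj_pow, ← hk, ← pow_mul, ← pow_succ']
    have hkpow : (k : ZMod 11) ^ orderOf g = 1 := by
      have h := hiter (orderOf g)
      rw [pow_orderOf_eq_one, one_mul, inv_one, mul_one] at h
      nth_rewrite 1 [← pow_one σ] at h
      rw [pow_eq_pow_iff_modEq, hσ] at h
      exact_mod_cast ((ZMod.natCast_eq_natCast_iff _ _ _).2 h).symm
    have hk0 : (k : ZMod 11) ≠ 0 := fun h => by
      rw [h, zero_pow (orderOf_pos g).ne'] at hkpow
      exact zero_ne_one hkpow
    have hk10 : (k : ZMod 11) ^ 10 = 1 := ZMod.pow_card_sub_one_eq_one hk0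
    have hgcd : Nat.gcd (orderOf g) 10 ∣ 2 := by
      have h1 : Nat.gcd (orderOf g) 10 ∈ Nat.divisors 10 :=
        Nat.mem_divisors.2 ⟨Nat.gcd_dvd_right _ _, by norm_num⟩
      rw [show Nat.divisors 10 = {1, 2, 5, 10} by decide] at h1
      simp only [Finset.mem_insert, Finset.mem_singleton] at h1
      have h5 : ¬ 5 ∣ orderOf g := fun h => by
        rcases hprimes 5 (by norm_num) (h.trans (orderOf_dvd_natCard g)) with h | h | h <;> omega
      rcases h1 with h | h | h | h
      · rw [h]; norm_num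
      · rw [h]
      · exact absurd (h ▸ Nat.gcd_dvd_left (orderOf g) 10) h5
      · exact absurd ((by norm_num : 5 ∣ 10).trans (h ▸ Nat.gcd_dvd_left (orderOf g) 10)) h5
    have hk2 : (k : ZMod 11) ^ 2 = 1 := by
      obtain ⟨c, hc⟩ := hgcd
      rw [hc, pow_mul, pow_gcd_eq_one.2 ⟨hkpow, hk10⟩, one_pow]
    rcases (sq_eq_one_iff).1 hk2 with h | h
    · refine hgC ?_
      rw [Subgroup.mem_centralizer_iff]
      intro s hs
      obtain ⟨i, rfl⟩ : s ∈ Submonoid.powers σ := mem_powers_iff_mem_zpowers.2 hs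
      have h1 : g * σ * g⁻¹ = σ := by
        rw [← hk]
        nth_rewrite 2 [← pow_one σ]
        rw [pow_eq_pow_iff_modEq, hσ, ← ZMod.natCast_eq_natCast_iff, h, Nat.cast_one]
      show σ ^ i * g = g * σ ^ i
      exact ((show Commute g σ from mul_inv_eq_iff_eq_mul.1 h1).pow_right i).eq.symm
    · have hinv : g * σ * g⁻¹ = σ⁻¹ := by
        rw [← hk, eq_inv_iff_mul_eq_one, ← pow_succ, ← orderOf_dvd_iff_pow_eq_one, hσ,
          ← ZMod.natCast_eq_zero_iff]
        push_cast
        rw [h, neg_add_cancel]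
      refine CfsgLib.NumberTheory.DegreeTwentyTwo.false_of_index hG hσ hC hinv N hindex h11N ?_
      intro d hd hd21
      have hbad : ∀ p : ℕ, p.Prime → p ∣ d → p = 2 ∨ p = 3 ∨ p = 11 := fun p hp h =>
        hprimes p hp (h.trans hd)
      have hd0 : 0 < d := Nat.pos_of_dvd_of_pos hd Nat.card_pos
      have := hbad 5 (by norm_num)
      have := hbad 7 (by norm_num)
      have := hbad 13 (by norm_num)
      have := hbad 17 (by norm_num)
      have := hbad 19 (by norm_num)
      interval_cases d <;> first | decide | omega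
  intro q hq57
  have hq : q.Prime := by rcases hq57 with rfl | rfl <;> norm_num
  haveI : Fact q.Prime := ⟨hq⟩
  by_cases hP9 : Nat.card P = 3
  swap
  · -- large Sylow subgroups
    intro hd
    have hP9' : 9 ≤ Nat.card P := by
      rw [hkP] at hP9 ⊢
      have : 2 ≤ kP := by
        by_contra h
        interval_cases kP
        · have h1 : Nat.card P = 1 := by rw [hkP, pow_zero]
          have := horb1
          obtain ⟨y, hy⟩ : S0.Nonempty := Set.nonempty_of_ncard_ne_zero (by omega)
          rcases hsize y hy with h2 | h2 <;>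
            · have := Nat.le_of_dvd (by norm_num) (h1 ▸ ncard_orb_dvd P y)
              omega
        · exact hP9 (by norm_num)
      calc 9 = 3 ^ 2 := by norm_num
        _ ≤ 3 ^ kP := Nat.pow_le_pow_right (by norm_num) this
    have hconj : ∀ g ∈ N, ∀ z : Sylow 3 G,
        P ⊓ ((g • z : Sylow 3 G) : Subgroup G) = MulAut.conj g • (P ⊓ (z : Subgroup G)) := by
      intro g hg z
      rw [Subgroup.smul_inf]
      congr 1
      have h := congrArg (fun s : Sylow 3 G => (s : Subgroup G)) ((hNfix g).1 hg)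
      exact h.symm
    have hW : ∀ y ∈ B, ∃ W : Set (Sylow 3 G), y ∈ W ∧ W ⊆ B ∧ 6 ∣ W.ncard ∧
        (∀ z ∈ W, ∀ w ∈ B, P ⊓ (w : Subgroup G) = P ⊓ (z : Subgroup G) → w ∈ W) ∧
        (∀ z ∈ W, ∀ g ∈ N, g • z ∈ W) ∧
        ∀ z ∈ W, ∃ g ∈ N, P ⊓ (z : Subgroup G) = MulAut.conj g • (P ⊓ (y : Subgroup G)) := by
      intro y hy
      set R := P ⊓ (y : Subgroup G) with hR
      have hR3 : Nat.card P = 3 * Nat.card R := by rw [← horb y, show (orb P y).ncard = 3 from hy]
      set H := Subgroup.normalizer (R : Set G) with hH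
      have hPH : P ≤ H := le_normalizer_of_index_three hP3 inf_le_left hR3
      have hyH : (y : Subgroup G) ≤ H := le_normalizer_of_index_three y.isPGroup' inf_le_right
        (by rw [Sylow.card_eq_multiplicity y, ← hR3, hPdef, Sylow.card_eq_multiplicity])
      set BR : Set (Sylow 3 G) := {z | z ∈ B ∧ P ⊓ (z : Subgroup G) = R} with hBR
      have hyBR : y ∈ BR := ⟨hy, rfl⟩
      set Ho := orb H P0 with hHo
      have hyHo : y ∈ Ho := by
        obtain ⟨k, hk⟩ := MulAction.exists_smul_eq H (P0.subtype hPH) (y.subtype hyH)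
        simp_rw [Sylow.smul_subtype, Subgroup.smul_def] at hk
        exact ⟨k, k.2, Sylow.subtype_injective hk⟩
      have hHoR : Ho ⊆ insert P0 BR := by
        rintro _ ⟨g, hg, rfl⟩
        by_cases hz : g • P0 = P0
        · exact Or.inl hz
        refine Or.inr ?_
        have hle : R ≤ P ⊓ ((g • P0 : Sylow 3 G) : Subgroup G) := by
          refine le_inf inf_le_left fun r hr => ?_
          rw [Sylow.coe_subgroup_smul, Subgroup.mem_pointwise_smul_iff_inv_smul_mem]
          show (MulAut.conj g)⁻¹ r ∈ P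
          rw [MulAut.conj_inv_apply]
          refine (inf_le_left : R ≤ P) ((Subgroup.mem_normalizer_iff.1 hg _).2 ?_)
          rwa [show g * (g⁻¹ * r * g) * g⁻¹ = r by group]
        have hcle : Nat.card R ≤ Nat.card ↥(P ⊓ ((g • P0 : Sylow 3 G) : Subgroup G)) :=
          Subgroup.card_le_of_le hle
        have hmul := horb (g • P0)
        have hzB : (orb P (g • P0)).ncard = 3 := by
          rcases hsize _ hz with h | h
          · exact h
          · rw [h, hR3] at hmul
            have : 0 < Nat.card R := Nat.card_pos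
            omega
        refine ⟨hzB, (Subgroup.eq_of_le_of_card_ge hle ?_).symm⟩
        rw [hzB, hR3] at hmul
        omega
      have hh3 : 3 ∣ (Ho \ {P0}).ncard := by
        refine dvd_ncard (P := P) _ ?_ ?_
        · rintro p hp z ⟨hz, hz0⟩
          exact ⟨by rw [hHo, ← orb_eq_of_mem hz]; exact ⟨p, hPH hp, rfl⟩, hS0P p hp z hz0⟩
        · rintro z ⟨-, hz0⟩
          rcases hsize z hz0 with h | h <;> rw [h] <;> norm_num
      have hP0Ho : P0 ∈ Ho := self_mem_orb _ _
      have hh := Set.ncard_sdiff_add_ncard_of_subset (Set.singleton_subset_iff.2 hP0Ho) (Set.toFinite _)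
      rw [Set.ncard_singleton] at hh
      have hh2 : 2 ≤ Ho.ncard := by
        have h2 := Set.ncard_le_ncard (Set.insert_subset hyHo (Set.singleton_subset_iff.2 hP0Ho)) (Set.toFinite _)
        rwa [Set.ncard_pair (hBS0 hy)] at h2
      have hhle : Ho.ncard ≤ 1 + BR.ncard := by
        refine (Set.ncard_le_ncard hHoR (Set.toFinite _)).trans ((Set.ncard_insert_le _ _).trans ?_)
        omega
      have hBRP : ∀ p ∈ P, ∀ z ∈ BR, p • z ∈ BR := by
        intro p hp z hz
        refine ⟨hBP p hp z hz.1, ?_⟩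
        rw [hconj p (Subgroup.le_normalizer hp), hz.2]
        refine SetLike.ext fun r => ?_
        rw [Subgroup.mem_pointwise_smul_iff_inv_smul_mem]
        show (MulAut.conj p)⁻¹ r ∈ R ↔ _
        rw [MulAut.conj_inv_apply]
        have := Subgroup.mem_normalizer_iff.1 (inv_mem (hPH hp)) r
        rw [inv_inv] at this
        exact this.symm
      have hBRm := ncard_eq_mul BR hBRP (k := 3) fun z hz => hz.1
      set m := (orb P '' BR).ncard
      -- the translates of `BR`
      set U : Set (Set (Sylow 3 G)) := orb N BR with hU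
      have hstU : stabilizer G BR ⊓ N = stabilizer G P0 ⊓ H := by
        rw [hNst]
        ext g
        simp only [Subgroup.mem_inf, MulAction.mem_stabilizer_iff]
        constructor
        · rintro ⟨hgB, hgN⟩
          refine ⟨hgN, ?_⟩
          have hgy : g • y ∈ BR := hgB ▸ Set.smul_mem_smul_set hyBR
          have h1 := hgy.2
          rw [hconj g hgN] at h1
          rw [hH, Subgroup.mem_normalizer_iff]
          intro r
          have h2 := SetLike.ext_iff.1 h1 (g * r * g⁻¹)
          rw [Subgroup.mem_pointwise_smul_iff_inv_smul_mem] at h2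
          refine Iff.trans ?_ h2
          show r ∈ R ↔ (MulAut.conj g)⁻¹ (g * r * g⁻¹) ∈ R
          rw [MulAut.conj_inv_apply, show g⁻¹ * (g * r * g⁻¹) * g = r by group]
        · rintro ⟨hgN, hgH⟩
          refine ⟨Set.eq_of_subset_of_ncard_le ?_ ?_ (Set.toFinite _), hgN⟩
          · rintro _ ⟨z, hz, rfl⟩
            refine ⟨hBN g hgN z hz.1, ?_⟩
            rw [hconj g hgN, hz.2]
            refine SetLike.ext fun r => ?_
            rw [Subgroup.mem_pointwise_smul_iff_inv_smul_mem]
            show (MulAut.conj g)⁻¹ r ∈ R ↔ _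
            rw [MulAut.conj_inv_apply]
            have := Subgroup.mem_normalizer_iff.1 (inv_mem hgH) r
            rw [inv_inv] at this
            exact this.symm
          · exact le_of_eq (Set.ncard_image_of_injective _ (MulAction.injective g)).symm
      have hUc : U.ncard * Nat.card ↥(stabilizer G P0 ⊓ H) = Nat.card N := by
        rw [← hstU, hU]; exact orb_mul N BR
      have hHoc : Ho.ncard * Nat.card ↥(stabilizer G P0 ⊓ H) = Nat.card H := orb_mul H P0
      have hnh : H.index * Ho.ncard = 22 * U.ncard := by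
        apply Nat.eq_of_mul_eq_mul_right (Nat.card_pos : 0 < Nat.card ↥(stabilizer G P0 ⊓ H))
        rw [mul_assoc, hHoc, mul_assoc, hUc, mul_comm, Subgroup.card_mul_index, hcardG]
      have hn1 : H.index ≠ 1 := by
        intro h1
        have hn : R.Normal := Subgroup.normalizer_eq_top_iff.1 (Subgroup.index_eq_one.1 h1)
        rcases hn.eq_bot_or_eq_top with h | h
        · rw [h, Subgroup.card_bot] at hR3; omega
        · have h2 := hR3
          rw [h, Subgroup.card_top] at h2
          have := Subgroup.card_le_card_group P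
          have : 0 < Nat.card G := Nat.card_pos
          omega
      set W := ⋃₀ U with hWdef
      have hWin : ∀ z, z ∈ W ↔ ∃ g ∈ N, g⁻¹ • z ∈ BR := by
        intro z
        constructor
        · rintro ⟨u, ⟨g, hg, rfl⟩, hz⟩
          exact ⟨g, hg, Set.mem_smul_set_iff_inv_smul_mem.1 hz⟩
        · rintro ⟨g, hg, hz⟩
          exact ⟨_, ⟨g, hg, rfl⟩, Set.mem_smul_set_iff_inv_smul_mem.2 hz⟩
      have hWR : ∀ z ∈ W, ∃ g ∈ N, P ⊓ (z : Subgroup G) = MulAut.conj g • R := by
        intro z hz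
        obtain ⟨g, hg, hz'⟩ := (hWin z).1 hz
        refine ⟨g, hg, ?_⟩
        rw [← hz'.2, ← hconj g hg, smul_inv_smul]
      have hWB : W ⊆ B := fun z hz => by
        obtain ⟨g, hg, hz'⟩ := (hWin z).1 hz
        have := hBN g hg _ hz'.1
        rwa [smul_inv_smul] at this
      have hWsat : ∀ z ∈ W, ∀ w ∈ B, P ⊓ (w : Subgroup G) = P ⊓ (z : Subgroup G) → w ∈ W := by
        intro z hz w hw he
        obtain ⟨g, hg, hR'⟩ := hWR z hz
        refine (hWin w).2 ⟨g, hg, hBN _ (inv_mem hg) w hw, ?_⟩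
        rw [hconj _ (inv_mem hg), he, hR', map_inv, inv_smul_smul]
      have hWN : ∀ z ∈ W, ∀ g ∈ N, g • z ∈ W := by
        intro z hz g hg
        obtain ⟨g', hg', hz'⟩ := (hWin z).1 hz
        refine (hWin _).2 ⟨g * g', mul_mem hg hg', ?_⟩
        rwa [mul_inv_rev, mul_smul, inv_smul_smul]
      have hWc : W.ncard = U.ncard * BR.ncard := by
        have hsame : ∀ u ∈ U, u.ncard = BR.ncard := by
          rintro u ⟨g, hg, rfl⟩
          exact Set.ncard_image_of_injective _ (MulAction.injective g)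
        have hdisj : ∀ u ∈ U, ∀ v ∈ U, ∀ z, z ∈ u → z ∈ v → u = v := by
          have hback : ∀ g ∈ N, ∀ z, z ∈ g • BR → P ⊓ (z : Subgroup G) = MulAut.conj g • R := by
            rintro g hg _ ⟨w, hw, rfl⟩
            rw [hconj g hg, hw.2]
          rintro u ⟨g, hg, rfl⟩ v ⟨g', hg', rfl⟩ z hz hz'
          have he := (hback g hg z hz).symm.trans (hback g' hg' z hz')
          have hsub : ∀ (a b : G), a ∈ N → b ∈ N → MulAut.conj a • R = MulAut.conj b • R →
              a • BR ⊆ b • BR := by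
            rintro a b ha hb hab _ ⟨w, hw, rfl⟩
            rw [Set.mem_smul_set_iff_inv_smul_mem]
            refine ⟨hBN _ (inv_mem hb) _ (hBN a ha w hw.1), ?_⟩
            rw [hconj _ (inv_mem hb), hconj a ha, hw.2, hab, map_inv, inv_smul_smul]
          exact Set.Subset.antisymm (hsub g g' hg hg' he) (hsub g' g hg' hg he.symm)
        haveI : Fintype U := Fintype.ofFinite _
        rw [hWdef, Set.sUnion_eq_iUnion, Set.ncard_iUnion_of_finite (fun i => Set.toFinite _)
          (fun i j hij => Set.disjoint_left.2 fun z hz hz' => hij (Subtype.ext (hdisj _ i.2 _ j.2 z hz hz'))),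
          finsum_eq_sum_of_fintype, Finset.sum_congr rfl (fun i _ => hsame _ i.2), Finset.sum_const,
          Finset.card_univ, smul_eq_mul, ← Nat.card_eq_fintype_card, Nat.card_coe_set_eq]
      have hWle : W.ncard ≤ 21 := hS0c ▸ Set.ncard_le_ncard (hWB.trans hBS0) (Set.toFinite _)
      rw [hWc, hBRm] at hWle
      have hm1 : 1 ≤ m := by
        by_contra h
        rw [show m = 0 by omega, mul_zero] at hBRm
        have := (Set.ncard_pos (Set.toFinite BR)).2 ⟨y, hyBR⟩
        omega
      have ht1 : 1 ≤ U.ncard := ncard_orb_pos N BR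
      have htm : U.ncard * m ≤ 7 := by
        have e : U.ncard * (3 * m) = 3 * (U.ncard * m) := by ring
        omega
      have ht7 : U.ncard < 8 := by
        have := Nat.le_mul_of_pos_right U.ncard (show 0 < m by omega)
        omega
      have hm7 : m < 8 := by
        have := Nat.le_mul_of_pos_left m (show 0 < U.ncard by omega)
        omega
      have hparity : U.ncard % 2 = 0 := by
        refine arith U.ncard ht7 m hm7 Ho.ncard ?_ htm ?_ hh2 (by omega) ⟨H.index, by rw [← hnh, mul_comm]⟩ ?_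
        · omega
        · omega
        · intro he
          apply hn1
          apply Nat.eq_of_mul_eq_mul_right (show 0 < Ho.ncard by omega)
          rw [hnh, he, one_mul]
      refine ⟨W, ⟨BR, self_mem_orb _ _, hyBR⟩, hWB, ?_, hWsat, hWN, hWR⟩
      rw [hWc, hBRm]
      obtain ⟨c, hc⟩ := Nat.dvd_of_mod_eq_zero hparity
      exact ⟨c * m, by rw [hc]; ring⟩
    have hB6 : ∀ n, ∀ S : Set (Sylow 3 G), S.ncard = n → S ⊆ B → (∀ z ∈ S, ∀ g ∈ N, g • z ∈ S) →
        (∀ z ∈ S, ∀ w ∈ B, P ⊓ (w : Subgroup G) = P ⊓ (z : Subgroup G) → w ∈ S) → 6 ∣ n := by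
      intro n
      induction n using Nat.strong_induction_on with
      | _ n ih =>
        intro S hn hSB hSN hSsat
        rcases S.eq_empty_or_nonempty with h | ⟨y, hy⟩
        · rw [← hn, h, Set.ncard_empty]; exact dvd_zero 6
        obtain ⟨W, hyW, hWB, hW6, hWsat, hWN, hWR⟩ := hW y (hSB hy)
        have hWS : W ⊆ S := fun z hz => by
          obtain ⟨g, hg, he⟩ := hWR z hz
          exact hSsat _ (hSN y hy g hg) z (hWB hz) (he.trans (hconj g hg y).symm)
        have hd2 := Set.ncard_sdiff_add_ncard_of_subset hWS (Set.toFinite _)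
        have hWpos : 0 < W.ncard := (Set.ncard_pos (Set.toFinite _)).2 ⟨y, hyW⟩
        rw [← hn, ← hd2]
        refine dvd_add (ih _ (by omega) _ rfl (fun z hz => hSB hz.1) ?_ ?_) hW6
        · intro z hz g hg
          refine ⟨hSN z hz.1 g hg, fun hgz => hz.2 ?_⟩
          have := hWN _ hgz g⁻¹ (inv_mem hg)
          rwa [inv_smul_smul] at this
        · intro z hz w hw he
          exact ⟨hSsat z hz.1 w hw he, fun hwW => hz.2 (hWsat w hwW z (hSB hz.1) he.symm)⟩
    have hB6' : 6 ∣ B.ncard := hB6 _ B rfl subset_rfl (fun z hz g hg => hBN g hg z hz) (fun z _ w hw _ => hw)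
    obtain ⟨c6, hc6⟩ := hB6'
    obtain ⟨c9, hc9⟩ := hDc
    have hB12 : B.ncard = 12 := by omega
    have hD9 : (S0 \ B).ncard = 9 := by omega
    obtain ⟨⟨x, hxN⟩, hx⟩ := exists_prime_orderOf_dvd_card' q hd
    rw [Subgroup.orderOf_mk] at hx
    have hxq : x ^ q = 1 := by rw [← hx]; exact pow_orderOf_eq_one x
    have hq5 : 5 ≤ q := by rcases hq57 with rfl | rfl <;> norm_num
    have hfixB := fix_of_small hq hxq hxN (hBN x hxN) hBP (s := 3)
      (fun y hy => le_of_eq (hy : (orb P y).ncard = 3).symm)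
      (fun y hy => by rw [show (orb P y).ncard = 3 from hy]; omega) (by omega)
    have hDP : ∀ p ∈ N, ∀ d ∈ S0 \ B, p • d ∈ S0 \ B := fun p hp d hd =>
      ⟨hS0N p hp d hd.1, fun h => hd.2 (by
        have := hBN p⁻¹ (inv_mem hp) _ h
        rwa [inv_smul_smul] at this)⟩
    have hfixD := nine P hP3 hxN hq hq57 hxq (S0 \ B) hD9 (hDP x hxN)
      (fun p hp => hDP p (Subgroup.le_normalizer hp)) fun d hd => by
        refine Set.eq_of_subset_of_ncard_le (fun z ⟨p, hp, e⟩ => e ▸ hDP p (Subgroup.le_normalizer hp) d hd) ?_ (Set.toFinite _)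
        rcases hsize d hd.1 with h | h
        · exact absurd h hd.2
        · rw [h, hD9]
    have hx1 := hfaith x fun y => by
      by_cases hy : y = P0
      · rw [hy]; exact (hNfix x).1 hxN
      · by_cases hyB : y ∈ B
        · exact hfixB y hyB
        · exact hfixD y ⟨hy, hyB⟩
    rw [hx1, orderOf_one] at hx
    exact hq.ne_one hx.symm
  -- Sylow subgroups of order three
  exact case_three hX hG P0 hP9 hC hσ hG121 h11N hfaith hinv2 q hq57


/-- No finite group has exactly 22 Sylow 3-subgroups. -/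
theorem result {G : Type*} [Group G] [Finite G] : Nat.card (Sylow 3 G) ≠ 22 := by
  intro hc
  haveI : Fact (Nat.Prime 3) := ⟨by norm_num⟩
  obtain ⟨l, hl, hm⟩ := Cfsg.Agent.S4303.result (G := G) 3
  have hd : ∀ m ∈ l, m ∣ 22 := fun m hm' => hc ▸ hl ▸ List.dvd_prod hm'
  have hone : ∀ m ∈ l, m = 1 := by
    intro m hm'
    have hmem : m ∈ Nat.divisors 22 := Nat.mem_divisors.2 ⟨hd m hm', by norm_num⟩
    rw [show Nat.divisors 22 = {1, 2, 11, 22} by decide] at hmem
    simp only [Finset.mem_insert, Finset.mem_singleton] at hmem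
    rcases hm m hm' with ⟨hp, hp1⟩ | ⟨S, _, _, hS, rfl⟩
    · rcases hmem with h | h | h | h
      · exact h
      · omega
      · omega
      · exfalso
        subst h
        obtain ⟨p, k, hp, hk, he⟩ := hp
        rw [← Nat.prime_iff] at hp
        have h2 : 2 ∣ p ^ k := he ▸ by norm_num
        have h11 : 11 ∣ p ^ k := he ▸ by norm_num
        have e2 := (Nat.prime_dvd_prime_iff_eq Nat.prime_two hp).1 (Nat.prime_two.dvd_of_dvd_pow h2)
        have e11 := (Nat.prime_dvd_prime_iff_eq (by norm_num) hp).1 ((by norm_num : Nat.Prime 11).dvd_of_dvd_pow h11)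
        omega
    · have hmod := card_sylow_modEq_one 3 S
      rw [Nat.ModEq] at hmod
      rcases hmem with h | h | h | h
      · exact h
      · omega
      · omega
      · haveI := hS
        exact (core h).elim
  rw [List.prod_eq_one hone, hc] at hl
  norm_num at hl

end Cfsg.Agent.S4346
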