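import Cfsg.Statements.S4347


set_option autoImplicit false
open Cfsg

namespace Cfsg.Agent.S4347

open scoped Pointwise


/-- Let G be a finite group and p a prime. Say a Sylow p-subgroup Q is redundant when every element of p-power order lies in some Sylow p-subgroup other than Q. Then G has no redundant Sylow p-subgroup if and only if some element of p-power order lies in exactly one Sylow p-subgroup. -/
theorem result {G : Type*} [Group G] [Finite G]
    (p : ℕ) [Fact p.Prime] :
    (¬ ∃ Q : Sylow p G, ∀ x : G, (∃ k : ℕ, orderOf x = p ^ k) → ∃ P : Sylow p G, P ≠ Q ∧ x ∈ P) ↔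
      ∃ x : G, (∃ k : ℕ, orderOf x = p ^ k) ∧ ∃! P : Sylow p G, x ∈ P := by
  constructor
  · intro h
    obtain ⟨P⟩ : Nonempty (Sylow p G) := inferInstance
    simp only [not_exists, not_forall, not_and] at h
    obtain ⟨x, hx, hxP⟩ := h P
    have hx' : ∀ Q : Sylow p G, x ∈ Q → Q = P := fun Q hQ => by
      by_contra hne
      exact hxP Q hne hQ
    have hpg : IsPGroup p (Subgroup.zpowers x) := by
      obtain ⟨k, hk⟩ := hx
      exact IsPGroup.of_card (n := k) (by rw [Nat.card_zpowers, hk])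
    obtain ⟨Q, hQ⟩ := hpg.exists_le_sylow
    have hxQ : x ∈ Q := hQ (Subgroup.mem_zpowers x)
    exact ⟨x, hx, P, hx' Q hxQ ▸ hxQ, hx'⟩
  · rintro ⟨x, ⟨k, hk⟩, P, hP, huniq⟩ ⟨Q, hQ⟩
    obtain ⟨g, rfl⟩ := MulAction.exists_smul_eq G P Q
    have ho : orderOf (g * x * g⁻¹) = orderOf x :=
      orderOf_injective (MulAut.conj g).toMonoidHom (MulAut.conj g).injective x
    obtain ⟨R, hR, hxR⟩ := hQ (g * x * g⁻¹) ⟨k, by rw [ho, hk]⟩
    have h2 : x ∈ (g⁻¹ • R : Sylow p G) := by
      show x ∈ MulAut.conj g⁻¹ • (R : Subgroup G)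
      rw [Subgroup.mem_pointwise_smul_iff_inv_smul_mem, ← map_inv, MulAut.smul_def,
        MulAut.conj_apply, inv_inv]
      exact hxR
    exact hR (by rw [← huniq _ h2, smul_inv_smul])

end Cfsg.Agent.S4347
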