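import Cfsg.Statements.S4348


set_option autoImplicit false
open Cfsg

namespace Cfsg.Agent.S4348

/-- Let G be a finite group, p a prime and P a Sylow p-subgroup of G, and let O_p(G) be the largest normal p-subgroup of G. If P/O_p(G) is cyclic, then some element of p-power order of G lies in exactly one Sylow p-subgroup. -/
theorem result {G : Type*} [Group G] [Finite G]
    (p : ℕ) [Fact p.Prime] (P : Sylow p G)
    [hn : ((Cfsg.pCore p G).subgroupOf (P : Subgroup G)).Normal]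
    (hc : IsCyclic ((P : Subgroup G) ⧸ (Cfsg.pCore p G).subgroupOf (P : Subgroup G))) :
    ∃ x : G, (∃ k : ℕ, orderOf x = p ^ k) ∧ ∃! Q : Sylow p G, x ∈ Q := by
  obtain ⟨g, hg⟩ := hc.exists_generator
  obtain ⟨x, rfl⟩ := QuotientGroup.mk_surjective g
  obtain ⟨k, hk⟩ := IsPGroup.iff_orderOf.1 P.isPGroup' x
  refine ⟨x, ⟨k, by rw [Subgroup.orderOf_coe]; exact hk⟩, P, x.2, fun Q hQ => ?_⟩
  have hO : Cfsg.pCore p G ≤ Q := sSup_le fun N hN => by
    have := hN.1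
    exact IsPGroup.le_sylow_of_normal hN.2 Q
  apply Sylow.ext
  refine (Subgroup.eq_of_le_of_card_ge (fun y hy => ?_) (Nat.card_congr (Sylow.equiv Q P).toEquiv).le).symm
  obtain ⟨i, hi⟩ := Subgroup.mem_zpowers_iff.1 (hg (⟨y, hy⟩ : (P : Subgroup G)))
  rw [← QuotientGroup.mk_zpow, QuotientGroup.eq, Subgroup.mem_subgroupOf] at hi
  have h2 : ((x ^ i)⁻¹ * ⟨y, hy⟩ : (P : Subgroup G)).1 ∈ (Q : Subgroup G) := hO hi
  have h3 : (x : G) ^ i * ((x ^ i)⁻¹ * ⟨y, hy⟩ : (P : Subgroup G)).1 ∈ (Q : Subgroup G) :=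
    mul_mem (zpow_mem hQ i) h2
  simpa using h3

end Cfsg.Agent.S4348
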