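import Cfsg.Statements.S4354
import Mathlib
-- import your own Cfsg.Agent.* helpers here

set_option autoImplicit false
open Cfsg

namespace Cfsg.Agent.S4354

open scoped Pointwise

/-- If every element of `p`-power order centralises a Sylow `p`-subgroup and both `N` and `G/N` have
abelian Sylow `p`-subgroups, then so has `G`. -/
theorem comm_of_extension {G : Type*} [Group G] [Finite G] (p : ℕ) [Fact p.Prime]
    (hprop : ∀ x : G, (∃ k : ℕ, orderOf x = p ^ k) → ¬ p ∣ (Subgroup.centralizer ({x} : Set G)).index)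
    (P : Sylow p G) (N : Subgroup G) [N.Normal]
    (hN : ∀ a ∈ (P : Subgroup G), ∀ b ∈ (P : Subgroup G), a ∈ N → b ∈ N → a * b = b * a)
    (hQ : ∀ a ∈ (P : Subgroup G), ∀ b ∈ (P : Subgroup G),
      QuotientGroup.mk' N (a * b) = QuotientGroup.mk' N (b * a)) :
    IsMulCommutative (P : Subgroup G) := by
  set π := QuotientGroup.mk' N
  set P' := P.mapSurjective (QuotientGroup.mk'_surjective N) with hP'
  haveI : IsMulCommutative (P' : Subgroup (G ⧸ N)) := by
    refine ⟨⟨fun u v => Subtype.ext ?_⟩⟩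
    obtain ⟨a, ha, hae⟩ := (show (u : G ⧸ N) ∈ (P : Subgroup G).map π from u.2)
    obtain ⟨b, hb, hbe⟩ := (show (v : G ⧸ N) ∈ (P : Subgroup G).map π from v.2)
    show (u : G ⧸ N) * v = v * u
    rw [← hae, ← hbe, ← map_mul, ← map_mul, hQ a ha b hb]
  have hdec : ∀ x ∈ (P : Subgroup G), ∃ z ∈ (P : Subgroup G), ∃ m ∈ (P : Subgroup G),
      (∀ q ∈ (P : Subgroup G), q * z = z * q) ∧ m ∈ N ∧ x = z * m := by
    intro x hx
    have hxp : ∃ k, orderOf x = p ^ k := by
      obtain ⟨k, hk⟩ := IsPGroup.iff_orderOf.1 P.isPGroup' ⟨x, hx⟩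
      exact ⟨k, by rwa [← Subgroup.orderOf_coe] at hk⟩
    set C := Subgroup.centralizer ({x} : Set G)
    obtain ⟨Q0⟩ := (inferInstance : Nonempty (Sylow p C))
    have hidx : ¬ p ∣ ((Q0 : Subgroup C).map C.subtype).index := by
      rw [Subgroup.index_map_subtype]
      exact fun h => ((Fact.out : p.Prime).dvd_mul.1 h).elim Q0.not_dvd_index (hprop x hxp)
    set Q := (Q0.isPGroup'.map C.subtype).toSylow hidx
    have hQC : (Q : Subgroup G) ≤ C := Subgroup.map_subtype_le _
    have hxQ : x ∈ (Q : Subgroup G) := by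
      have hle : Subgroup.zpowers x ≤ Subgroup.normalizer ((Q : Subgroup G) : Set G) :=
        Subgroup.zpowers_le.2 (Subgroup.centralizer_le_normalizer _ (Subgroup.mem_centralizer_iff.2
          fun q hq => Subgroup.mem_centralizer_singleton_iff.1 (hQC hq)))
      have hp : IsPGroup p (Subgroup.zpowers x) := by
        obtain ⟨k, hk⟩ := hxp
        exact IsPGroup.of_card (n := k) (by rw [Nat.card_zpowers, hk])
      have h := Q.3 (hp.to_sup_of_normal_right' Q.isPGroup' hle) le_sup_right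
      exact h ▸ Subgroup.mem_sup_left (Subgroup.mem_zpowers x)
    obtain ⟨g, hg⟩ := MulAction.exists_smul_eq G Q P
    have hy : g * x * g⁻¹ ∈ (P : Subgroup G) ∧ ∀ q ∈ (P : Subgroup G), q * (g * x * g⁻¹) = (g * x * g⁻¹) * q := by
      rw [← hg, Sylow.coe_subgroup_smul]
      refine ⟨Subgroup.smul_mem_pointwise_smul x (MulAut.conj g) _ hxQ, ?_⟩
      intro q hq
      obtain ⟨w, hw, rfl⟩ := hq
      have h1 : Commute w x := Subgroup.mem_centralizer_singleton_iff.1 (hQC hw)
      exact (h1.map (MulAut.conj g).toMonoidHom).eq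
    -- fusion in the quotient
    obtain ⟨n', hn', hne⟩ := P'.conj_eq_normalizer_conj_of_mem (π x) (π g⁻¹)
      (Subgroup.mem_map_of_mem π hx)
      (by rw [← map_inv, inv_inv, ← map_mul, ← map_mul]; exact Subgroup.mem_map_of_mem π hy.1)
    obtain ⟨n, rfl⟩ := QuotientGroup.mk'_surjective N n'
    set K := (P : Subgroup G) ⊔ N
    have hKmap : K.map π = (P : Subgroup G).map π := by
      rw [Subgroup.map_sup, (Subgroup.map_eq_bot_iff _).2 (QuotientGroup.ker_mk' N).ge, sup_bot_eq]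
    have hnK : ((n • P : Sylow p G) : Subgroup G) ≤ K := by
      intro u hu
      rw [Sylow.coe_subgroup_smul] at hu
      obtain ⟨w, hw, rfl⟩ := hu
      have h1 : π (n * w * n⁻¹) ∈ (P : Subgroup G).map π := by
        rw [map_mul, map_mul, map_inv]
        exact (Subgroup.mem_normalizer_iff.1 hn' (π w)).1 (Subgroup.mem_map_of_mem π hw)
      rw [← hKmap] at h1
      obtain ⟨k, hk, hke⟩ := h1
      have h2 : k⁻¹ * (n * w * n⁻¹) ∈ K := Subgroup.mem_sup_right (QuotientGroup.eq.1 hke)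
      show n * w * n⁻¹ ∈ K
      simpa using mul_mem hk h2
    obtain ⟨k, hk⟩ := MulAction.exists_smul_eq K (P.subtype (le_sup_left : (P : Subgroup G) ≤ K))
      ((n • P).subtype hnK)
    rw [Sylow.smul_subtype] at hk
    have hk' : (k : G) • P = n • P := Sylow.subtype_injective hk
    have hm : n⁻¹ * (k : G) ∈ Subgroup.normalizer ((P : Subgroup G) : Set G) :=
      Sylow.smul_eq_iff_mem_normalizer.1 (by rw [mul_smul, hk', inv_smul_smul])
    set m := n⁻¹ * (k : G)
    obtain ⟨k0, hk0, hk0e⟩ : π (k : G) ∈ (P : Subgroup G).map π := hKmap ▸ Subgroup.mem_map_of_mem π k.2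
    have hkx : π x * π (k : G) = π (k : G) * π x := by
      rw [← hk0e, ← map_mul, ← map_mul, hQ x hx k0 hk0]
    -- `m` moves `x` to the image of the central conjugate
    have hmx : π (m * x * m⁻¹) = π (g * x * g⁻¹) := by
      have e1 : π (g * x * g⁻¹) = (π n)⁻¹ * π x * π n := by
        rw [← hne]; simp [mul_assoc]
      rw [e1]
      simp only [m, map_mul, map_inv, mul_inv_rev, inv_inv]
      rw [show (π n)⁻¹ * π (k : G) * π x * ((π (k : G))⁻¹ * π n)
        = (π n)⁻¹ * (π (k : G) * π x) * (π (k : G))⁻¹ * π n by group, ← hkx]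
      group
    refine ⟨m⁻¹ * (g * x * g⁻¹) * m, ?_, m⁻¹ * ((g * x * g⁻¹)⁻¹ * (m * x * m⁻¹)) * m, ?_, ?_, ?_, by group⟩
    · simpa using (Subgroup.mem_normalizer_iff.1 (inv_mem hm) _).1 hy.1
    · have h1 : (g * x * g⁻¹)⁻¹ * (m * x * m⁻¹) ∈ (P : Subgroup G) :=
        mul_mem (inv_mem hy.1) ((Subgroup.mem_normalizer_iff.1 hm x).1 hx)
      simpa using (Subgroup.mem_normalizer_iff.1 (inv_mem hm) _).1 h1
    · intro q hq
      have hc : Commute (m * q * m⁻¹) (g * x * g⁻¹) := hy.2 _ ((Subgroup.mem_normalizer_iff.1 hm q).1 hq)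
      have := hc.map (MulAut.conj m⁻¹).toMonoidHom
      simpa [Commute, SemiconjBy, mul_assoc] using this
    · have h1 : (g * x * g⁻¹)⁻¹ * (m * x * m⁻¹) ∈ N := QuotientGroup.eq.1 hmx.symm
      simpa using ‹N.Normal›.conj_mem _ h1 m⁻¹
  refine ⟨⟨fun u v => Subtype.ext ?_⟩⟩
  obtain ⟨z, hz, a, ha, hzc, haN, hu⟩ := hdec u u.2
  obtain ⟨w, hw, b, hb, hwc, hbN, hv⟩ := hdec v v.2
  show (u : G) * v = v * u
  rw [hu, hv]
  have h1 : Commute z w := hwc z hz
  have h2 : Commute a w := hwc a ha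
  have h3 : Commute b z := hzc b hb
  have h4 : Commute a b := hN a ha b hb haN hbN
  exact ((h1.mul_left h2).mul_right (h3.symm.mul_left h4)).eq



/-- Let G be a finite group and p a prime such that the Sylow p-subgroups of G are non-abelian while every element of p-power order has conjugacy class size prime to p, and suppose no nontrivial proper normal subgroup N of G has this property and no quotient G/N by such an N has it. Then G is simple. -/
theorem result {G : Type*} [Group G] [Finite G]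
    (p : ℕ) [Fact p.Prime] (h : ((∃ P : Sylow p G, ¬ IsMulCommutative P) ∧ ∀ x : G, (∃ k : ℕ, orderOf x = p ^ k) → ¬ p ∣ (Subgroup.centralizer ({x} : Set G)).index))
    (hmin : ∀ (N : Subgroup G) [N.Normal], N ≠ ⊥ → N ≠ ⊤ →
      ¬ ((∃ P : Sylow p N, ¬ IsMulCommutative P) ∧ ∀ x : N, (∃ k : ℕ, orderOf x = p ^ k) → ¬ p ∣ (Subgroup.centralizer ({x} : Set N)).index) ∧
      ¬ ((∃ P : Sylow p (G ⧸ N), ¬ IsMulCommutative P) ∧ ∀ x : (G ⧸ N), (∃ k : ℕ, orderOf x = p ^ k) → ¬ p ∣ (Subgroup.centralizer ({x} : Set (G ⧸ N))).index)) :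
    IsSimpleGroup G := by
  obtain ⟨⟨P, hP⟩, hprop⟩ := h
  haveI : Nontrivial G := by
    by_contra hn
    rw [not_nontrivial_iff_subsingleton] at hn
    exact hP ⟨⟨fun u v => Subsingleton.elim _ _⟩⟩
  refine ⟨fun N hNn => ?_⟩
  by_contra hne
  obtain ⟨hne1, hne2⟩ := not_or.1 hne
  haveI := hNn
  obtain ⟨h1, h2⟩ := hmin N hne1 hne2
  have hpropN : ∀ x : N, (∃ k : ℕ, orderOf x = p ^ k) → ¬ p ∣ (Subgroup.centralizer ({x} : Set N)).index := by
    intro x hx hd
    rw [← Subgroup.orderOf_coe] at hx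
    set C := Subgroup.centralizer ({(x : G)} : Set G)
    have hC : Subgroup.centralizer ({x} : Set N) = C.subgroupOf N := by
      ext y
      simp [C, Subgroup.mem_subgroupOf, Subgroup.mem_centralizer_singleton_iff, Subtype.ext_iff]
    rw [hC] at hd
    refine hprop x hx (hd.trans ?_)
    change C.relIndex N ∣ C.index
    have e1 := Subgroup.relIndex_mul_index (inf_le_right : C ⊓ N ≤ N)
    have e2 := Subgroup.relIndex_mul_index (inf_le_left : C ⊓ N ≤ C)
    rw [Subgroup.inf_relIndex_right] at e1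
    rw [Subgroup.inf_relIndex_left] at e2
    obtain ⟨c, hc⟩ : N.relIndex C ∣ N.index := Subgroup.relIndex_dvd_index_of_normal N C
    refine ⟨c, Nat.eq_of_mul_eq_mul_left (Nat.pos_of_ne_zero
      (show N.relIndex C ≠ 0 from Subgroup.index_ne_zero_of_finite)) ?_⟩
    rw [e2, ← e1, hc]; ring
  have hpropQ : ∀ x : G ⧸ N, (∃ k : ℕ, orderOf x = p ^ k) →
      ¬ p ∣ (Subgroup.centralizer ({x} : Set (G ⧸ N))).index := by
    intro x hx hd
    obtain ⟨T, hT⟩ : ∃ T : Sylow p (G ⧸ N), x ∈ (T : Subgroup (G ⧸ N)) := by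
      obtain ⟨k, hk⟩ := hx
      obtain ⟨T, hT⟩ := (IsPGroup.of_card (show Nat.card (Subgroup.zpowers x) = p ^ k by
        rw [Nat.card_zpowers, hk])).exists_le_sylow
      exact ⟨T, hT (Subgroup.mem_zpowers x)⟩
    obtain ⟨T0, rfl⟩ := Sylow.mapSurjective_surjective (QuotientGroup.mk'_surjective N) p T
    obtain ⟨y, hy, rfl⟩ := hT
    refine hprop y ?_ (hd.trans ((Subgroup.index_dvd_of_le ?_).trans
      (Subgroup.index_map_dvd _ (QuotientGroup.mk'_surjective N))))
    · obtain ⟨k, hk⟩ := IsPGroup.iff_orderOf.1 T0.isPGroup' ⟨y, hy⟩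
      exact ⟨k, by rwa [← Subgroup.orderOf_coe] at hk⟩
    · rintro _ ⟨c, hc, rfl⟩
      rw [Subgroup.mem_centralizer_singleton_iff, ← map_mul, ← map_mul,
        Subgroup.mem_centralizer_singleton_iff.1 hc]
  have hNc : ∀ T : Sylow p N, IsMulCommutative T := fun T => by
    by_contra hc; exact h1 ⟨⟨T, hc⟩, hpropN⟩
  have hQc : ∀ T : Sylow p (G ⧸ N), IsMulCommutative T := fun T => by
    by_contra hc; exact h2 ⟨⟨T, hc⟩, hpropQ⟩
  refine hP (comm_of_extension p hprop P N ?_ ?_)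
  · intro a ha b hb haN hbN
    obtain ⟨T, hT⟩ := ((P.isPGroup'.to_le (inf_le_left : (P : Subgroup G) ⊓ N ≤ P)).comap_subtype).exists_le_sylow
    haveI := hNc T
    exact congrArg (fun w : (T : Subgroup N) => ((w : N) : G)) (mul_comm'
      (⟨⟨a, haN⟩, hT ⟨ha, haN⟩⟩ : (T : Subgroup N)) ⟨⟨b, hbN⟩, hT ⟨hb, hbN⟩⟩)
  · intro a ha b hb
    set T := P.mapSurjective (QuotientGroup.mk'_surjective N)
    haveI := hQc T
    rw [map_mul, map_mul]
    exact congrArg Subtype.val (mul_comm'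
      (⟨QuotientGroup.mk' N a, Subgroup.mem_map_of_mem _ ha⟩ : (T : Subgroup (G ⧸ N)))
      ⟨QuotientGroup.mk' N b, Subgroup.mem_map_of_mem _ hb⟩)

end Cfsg.Agent.S4354
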