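import Cfsg.Statements.S4363
import Cfsg.Agent.Lib.Solvable.TurullHeight.Main

set_option autoImplicit false
open Cfsg
open CfsgLib CfsgLib.Solvable.TurullHeight
open scoped commutatorElement

namespace Cfsg.Agent.S4363

/-- Let G be a finite solvable group and σ an automorphism of G of prime order r not dividing the order of G, with fixed-point subgroup C. Then the Fitting height of G exceeds that of C by at most 2: if C has a chain of normal subgroups 1 = C₀ ≤ ⋯ ≤ Cₙ = C with nilpotent factors, then G has such a chain of length n + 2. -/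
theorem result {G : Type*} [Group G] [Finite G]
    (hG : Group.IsSolvable G) (σ : MulAut G) (r : ℕ) (hr : r.Prime) (hσ : orderOf σ = r) (hcop : ¬ r ∣ Nat.card G)
    (C : Subgroup G) (hC : ∀ g : G, g ∈ C ↔ σ g = g) (n : ℕ) (hn : (∃ F : Fin (n + 1) → Subgroup ↥C, F 0 = ⊥ ∧ F (Fin.last n) = ⊤ ∧ Monotone F ∧ (∀ i, (F i).Normal) ∧ ∀ i : Fin n, ∃ k : ℕ, (F i.succ).lowerCentralSeries k ≤ F i.castSucc)) :
    (∃ F : Fin ((n + 2) + 1) → Subgroup G, F 0 = ⊥ ∧ F (Fin.last (n + 2)) = ⊤ ∧ Monotone F ∧ (∀ i, (F i).Normal) ∧ ∀ i : Fin (n + 2), ∃ k : ℕ, (F i.succ).lowerCentralSeries k ≤ F i.castSucc) := by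
  classical
  haveI := hG
  set A := Subgroup.zpowers σ with hA
  let ι : G →* G ⋊[A.subtype] A := SemidirectProduct.inl
  let κ : A →* G ⋊[A.subtype] A := SemidirectProduct.inr
  have hι : Function.Injective ι := SemidirectProduct.inl_injective
  haveI : Finite (G ⋊[A.subtype] A) := Finite.of_equiv _ SemidirectProduct.equivProd.symm
  haveI : ι.range.Normal := by
    show (SemidirectProduct.inl : G →* G ⋊[A.subtype] A).range.Normal
    rw [SemidirectProduct.range_inl_eq_ker_rightHom]; infer_instance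
  let s := κ ⟨σ, Subgroup.mem_zpowers σ⟩
  have hconj : ∀ g, ι (σ g) = s * ι g * s⁻¹ := fun g => by
    show SemidirectProduct.inl ((A.subtype ⟨σ, Subgroup.mem_zpowers σ⟩) g) = _
    rw [SemidirectProduct.inl_aut, map_inv]
  have hfix : ∀ g, s * ι g = ι g * s ↔ g ∈ C := fun g => by
    rw [hC]
    constructor
    · intro h
      exact hι (by rw [hconj, h, mul_inv_cancel_right])
    · intro h
      have h1 := hconj g
      rw [h] at h1
      exact (eq_mul_inv_iff_mul_eq.1 h1).symm
  obtain ⟨Fc, h0, h1, hm, hnrm, hk⟩ := hn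
  let f : C →* G ⋊[A.subtype] A := ι.comp C.subtype
  let i : ℕ → Fin (n + 1) := fun m => ⟨min m n, by omega⟩
  let F : ℕ → Subgroup (G ⋊[A.subtype] A) := fun m => (Fc (i m)).map f
  have hs : s ^ r = 1 := by
    show κ ⟨σ, Subgroup.mem_zpowers σ⟩ ^ r = 1
    rw [← map_pow, show (⟨σ, Subgroup.mem_zpowers σ⟩ : A) ^ r = 1 from
      Subtype.ext (by show σ ^ r = 1; rw [← hσ, pow_orderOf_eq_one]), map_one]
  have hcard : (Nat.card ι.range).Coprime r := by
    rw [← Nat.card_congr (MonoidHom.ofInjective hι).toEquiv]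
    exact ((hr.coprime_iff_not_dvd).2 hcop).symm
  have hsol : Group.IsSolvable ι.range :=
    Group.isSolvable_of_surjective (f := (MonoidHom.ofInjective hι).toMonoidHom)
      (MonoidHom.ofInjective hι).surjective
  have hchain : HasChain ι.range (n + 2) := by
    refine hasChain_add_two ι.range hsol s hr hs hcard F ?_ ?_ ?_ ?_
    · show (Fc (i 0)).map f = ⊥
      rw [show i 0 = 0 from Fin.ext (Nat.zero_min n), h0, Subgroup.map_bot]
    · rintro m hm' _ ⟨g, rfl⟩ hgs
      refine ⟨⟨g, (hfix g).1 hgs⟩, ?_, rfl⟩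
      rw [show i m = Fin.last n from Fin.ext (Nat.min_eq_right hm'), h1]
      trivial
    · rintro m _ ⟨c, hc, rfl⟩ _ ⟨g, rfl⟩ hgs
      refine ⟨⁅(⟨g, (hfix g).1 hgs⟩ : C), c⁆, ?_, map_commutatorElement f _ _⟩
      haveI := hnrm (i m)
      rw [SetLike.mem_coe, commutatorElement_def]
      exact mul_mem ((hnrm (i m)).conj_mem c hc _) (inv_mem hc)
    · rintro m _ ⟨x, hx, rfl⟩ _ ⟨y, hy, rfl⟩ hxy
      refine ⟨⁅x, y⁆, ?_, map_commutatorElement f _ _⟩
      rcases Nat.lt_or_ge m n with hmn | hmn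
      · haveI := hnrm (i m)
        obtain ⟨k, hk⟩ := hk ⟨m, hmn⟩
        have e1 : i m = (⟨m, hmn⟩ : Fin n).castSucc := Fin.ext (Nat.min_eq_left hmn.le)
        have e2 : i (m + 1) = (⟨m, hmn⟩ : Fin n).succ := Fin.ext (Nat.min_eq_left hmn)
        rw [← e1, ← e2] at hk
        have hf : Function.Injective f := hι.comp C.subtype_injective
        rw [orderOf_injective f hf, orderOf_injective f hf] at hxy
        exact commutator_mem_of_lowerCentralSeries hk hx hy hxy
      · rw [show i m = Fin.last n from Fin.ext (Nat.min_eq_right hmn), h1]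
        trivial
  exact hchain.of_equiv (MonoidHom.ofInjective hι).symm

end Cfsg.Agent.S4363
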