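import Cfsg.Statements.S4364
import Cfsg.Agent.Lib.CharDeep.PrimePowerClass
import Cfsg.Agent.Lib.Components.SFT.Criterion
import Cfsg.Agent.Lib.Solvable.Cores
-- import your own Cfsg.Agent.* helpers here

set_option autoImplicit false
open Cfsg

namespace Cfsg.Agent.S4364

theorem conj_commute_of_pCore_eq_bot {Q : Type*} [Group Q] [Finite Q] (p : ℕ) [hp : Fact p.Prime]
    (hQ : Cfsg.pCore p Q = ⊥) (x : Q) {a : ℕ} (hx : (Subgroup.centralizer ({x} : Set Q)).index = p ^ a)
    (g h : Q) : Commute (g * x * g⁻¹) (h * x * h⁻¹) := by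
  set L := Subgroup.normalClosure ({x} : Set Q)
  haveI : L.Normal := Subgroup.normalClosure_normal
  haveI : Group.IsSolvable L := CfsgLib.CharDeep.PrimePowerClass.isSolvable_normalClosure x hp.out a hx
  have hxL : x ∈ L := Subgroup.subset_normalClosure rfl
  have hcop : (Nat.card (Cfsg.fittingSubgroup L)).Coprime p := by
    have hle : Cfsg.fittingSubgroup L ≤ Cfsg.pPrimeCore p L := by
      rw [CfsgLib.Solvable.Cores.fittingSubgroup_eq_iSup_pCore]
      refine iSup_le fun q => ?_
      by_cases hq : (q : ℕ) = p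
      · rw [hq]
        have h := CfsgLib.Solvable.Cores.map_pCore_le (G := Q) p L
        rw [hQ, le_bot_iff, Subgroup.map_eq_bot_iff, Subgroup.ker_subtype, le_bot_iff] at h
        rw [h]; exact bot_le
      · haveI := Fact.mk q.2
        exact CfsgLib.Solvable.Cores.pCore_le_pPrimeCore hp.out hq
    exact (CfsgLib.Solvable.Cores.coprime_card_pPrimeCore p).coprime_dvd_left (Subgroup.card_dvd_of_le hle)
  set F := (Cfsg.fittingSubgroup L).map L.subtype
  haveI : F.Normal := inferInstance
  have hFc : (Nat.card F).Coprime p := by rwa [Subgroup.card_subtype]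
  set C := Subgroup.centralizer ({x} : Set Q)
  have hdvd : C.relIndex F ∣ C.index := by
    have h1 := Subgroup.relIndex_mul_index (inf_le_right : C ⊓ F ≤ F)
    have h2 := Subgroup.relIndex_mul_index (inf_le_left : C ⊓ F ≤ C)
    rw [Subgroup.inf_relIndex_right] at h1
    rw [Subgroup.inf_relIndex_left] at h2
    obtain ⟨c, hc⟩ : F.relIndex C ∣ F.index := Subgroup.relIndex_dvd_index_of_normal F C
    refine ⟨c, Nat.eq_of_mul_eq_mul_left (Nat.pos_of_ne_zero
      (show F.relIndex C ≠ 0 from Subgroup.index_ne_zero_of_finite)) ?_⟩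
    rw [h2, ← h1, hc]; ring
  rw [hx] at hdvd
  have hFC : F ≤ C := Subgroup.relIndex_eq_one.1
    (Nat.dvd_one.1 ((hFc.pow_right a).gcd_eq_one ▸ Nat.dvd_gcd (C.relIndex_dvd_card F) hdvd))
  have hxF : x ∈ F := by
    refine ⟨⟨x, hxL⟩, CfsgLib.Solvable.Cores.centralizer_fittingSubgroup_le
      (Subgroup.mem_centralizer_iff.2 fun f hf => ?_), rfl⟩
    have := hFC (Subgroup.mem_map_of_mem L.subtype hf)
    exact Subtype.ext (Subgroup.mem_centralizer_singleton_iff.1 this)
  have hy : g⁻¹ * (h * x * h⁻¹) * g ∈ F := by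
    have h1 : h * x * h⁻¹ ∈ F := ‹F.Normal›.conj_mem x hxF h
    simpa using ‹F.Normal›.conj_mem _ h1 g⁻¹
  have hc : Commute (g⁻¹ * (h * x * h⁻¹) * g) x := Subgroup.mem_centralizer_singleton_iff.1 (hFC hy)
  have := hc.symm.map (MulAut.conj g).toMonoidHom
  simpa [mul_assoc] using this



/-- Let G be a finite group, p a prime and x an element whose conjugacy class has p-power size. Then for any two conjugates y and z of x, the commutator y z y⁻¹ z⁻¹ lies in O_p(G), the largest normal p-subgroup of G. -/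
theorem result {G : Type*} [Group G] [Finite G] (p : ℕ) [Fact p.Prime]
    (x : G) (hx : ∃ a : ℕ, (Subgroup.centralizer ({x} : Set G)).index = p ^ a) (g h : G) :
    (g * x * g⁻¹) * (h * x * h⁻¹) * (g * x * g⁻¹)⁻¹ * (h * x * h⁻¹)⁻¹ ∈ Cfsg.pCore p G := by
  obtain ⟨a, ha⟩ := hx
  haveI : (Cfsg.pCore p G).Normal := CfsgLib.Solvable.Cores.pCore_normal p
  set π := QuotientGroup.mk' (Cfsg.pCore p G)
  have hdvd : (Subgroup.centralizer ({π x} : Set (G ⧸ Cfsg.pCore p G))).index ∣ p ^ a := by
    rw [← ha]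
    refine (Subgroup.index_dvd_of_le ?_).trans
      (Subgroup.index_map_dvd _ (QuotientGroup.mk'_surjective _))
    rintro _ ⟨c, hc, rfl⟩
    rw [Subgroup.mem_centralizer_singleton_iff, ← map_mul, ← map_mul,
      Subgroup.mem_centralizer_singleton_iff.1 hc]
  obtain ⟨i, -, hi⟩ := (Nat.dvd_prime_pow (Fact.out : p.Prime)).1 hdvd
  have hc := conj_commute_of_pCore_eq_bot p (CfsgLib.Components.SFT.pCore_quotient_eq_bot p G) (π x) hi (π g) (π h)
  rw [← QuotientGroup.eq_one_iff]
  show π _ = 1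
  simp only [map_mul, map_inv]
  rw [hc.eq]
  group

end Cfsg.Agent.S4364
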