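import Cfsg.Statements.S4365


set_option autoImplicit false
open Cfsg

namespace Cfsg.Agent.S4365

open Subgroup

theorem aux {P : Type*} [Group P] [Finite P] {p : ℕ} [Fact p.Prime] (hP : IsPGroup p P) (a : ℕ)
    (hcs : ∀ g : P, g ∉ center P → (centralizer ({g} : Set P)).index = p ^ a) (x : P) :
    x ^ p ∈ center P := by
  classical
  have hp : p.Prime := Fact.out
  by_contra hxp
  have hxc : x ∉ center P := fun h => hxp (pow_mem h p)
  have hmono : ∀ (g : P) (n : ℕ), g ^ n ∉ center P →
      centralizer ({g} : Set P) = centralizer ({g ^ n} : Set P) := by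
    intro g n hn
    have hle : centralizer ({g} : Set P) ≤ centralizer ({g ^ n} : Set P) := fun b hb => by
      rw [mem_centralizer_singleton_iff] at hb ⊢
      exact ((show Commute b g from hb).pow_right n).eq
    refine eq_of_le_of_card_ge hle ?_
    have h1 := (centralizer ({g} : Set P)).card_mul_index
    have h2 := (centralizer ({g ^ n} : Set P)).card_mul_index
    rw [hcs g fun hg => hn (pow_mem hg n)] at h1
    rw [hcs _ hn, ← h1] at h2
    exact (Nat.eq_of_mul_eq_mul_right (pow_pos hp.pos a) h2).le
  rcases Nat.lt_or_ge a 2 with ha | ha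
  · apply hxp
    have hnorm : ∀ g : P, (centralizer ({g} : Set P)).Normal ∧
        ∀ u : P, u ^ p ∈ centralizer ({g} : Set P) ∧
          ∀ v : P, u * v * u⁻¹ * v⁻¹ ∈ centralizer ({g} : Set P) := by
      intro g
      by_cases hg : g ∈ center P
      · have htop : centralizer ({g} : Set P) = ⊤ := by
          refine eq_top_iff.2 fun b _ => ?_
          exact mem_centralizer_singleton_iff.2 (mem_center_iff.1 hg b)
        rw [htop]
        exact ⟨inferInstance, fun u => ⟨mem_top _, fun v => mem_top _⟩⟩
      have hidx := hcs g hg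
      interval_cases a
      · exfalso
        rw [pow_zero, index_eq_one] at hidx
        exact hg (mem_center_iff.2 fun b =>
          mem_centralizer_singleton_iff.1 (hidx ▸ mem_top b))
      · rw [pow_one] at hidx
        have hN : (centralizer ({g} : Set P)).Normal := by
          refine Subgroup.normal_of_index_eq_minFac_card ?_
          rw [hidx]
          obtain ⟨n, hn⟩ := hP.exists_card_eq
          have hn0 : n ≠ 0 := by
            rintro rfl
            have h1 := (centralizer ({g} : Set P)).index_dvd_card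
            rw [hidx, hn, pow_zero] at h1
            exact hp.one_lt.ne' (Nat.dvd_one.1 h1)
          rw [hn, Nat.pow_minFac hn0, hp.minFac_eq]
        refine ⟨hN, fun u => ⟨hidx ▸ (centralizer ({g} : Set P)).pow_index_mem u, fun v => ?_⟩⟩
        have : IsCyclic (P ⧸ centralizer ({g} : Set P)) := isCyclic_of_prime_card (p := p) hidx
        have hq := (this.isMulCommutative).is_comm.comm (u : P ⧸ centralizer ({g} : Set P)) (v : P ⧸ centralizer ({g} : Set P))
        rw [← QuotientGroup.eq_one_iff]
        simp only [QuotientGroup.mk_mul, QuotientGroup.mk_inv]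
        rw [hq]
        group
    rw [mem_center_iff]
    intro y
    set c := x * y * x⁻¹ * y⁻¹ with hc
    have hcx : Commute c x := mem_centralizer_singleton_iff.1 (((hnorm x).2 x).2 y)
    have hcy : Commute c y := mem_centralizer_singleton_iff.1 (((hnorm y).2 x).2 y)
    have hxy : ∀ i : ℕ, x ^ i * y * (x ^ i)⁻¹ = c ^ i * y := by
      intro i
      induction i with
      | zero => simp
      | succ i ih =>
        calc x ^ (i + 1) * y * (x ^ (i + 1))⁻¹ = x * (x ^ i * y * (x ^ i)⁻¹) * x⁻¹ := by
              rw [pow_succ']; group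
          _ = (x * c ^ i) * y * x⁻¹ := by rw [ih]; group
          _ = c ^ (i + 1) * y := by rw [← (hcx.pow_left i).eq, pow_succ, hc]; group
    have hyx : ∀ i : ℕ, x * y ^ i * x⁻¹ = c ^ i * y ^ i := by
      intro i
      rw [← conj_pow, show x * y * x⁻¹ = c * y by rw [hc]; group, hcy.mul_pow]
    have h1 : Commute (y ^ p) x :=
      (mem_centralizer_singleton_iff.1 ((hnorm x).2 y).1)
    have h2 := hyx p
    rw [← h1.eq, mul_inv_cancel_right, eq_comm, mul_eq_right] at h2
    have h3 := hxy p
    rw [h2, one_mul, mul_inv_eq_iff_eq_mul] at h3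
    exact h3.symm
  -- now the class size is at least `p ^ 2`
  have hC : centralizer ({x ^ p} : Set P) = centralizer ({x} : Set P) := (hmono x p hxp).symm
  set C := centralizer ({x} : Set P) with hCdef
  -- an element of the second centre
  obtain ⟨z, hzc, hzp, hzn⟩ : ∃ z : P, (∀ g : P, g * z * g⁻¹ * z⁻¹ ∈ center P) ∧
      z ^ p ∈ center P ∧ z ∉ center P := by
    have : Nontrivial (P ⧸ center P) := by
      rw [QuotientGroup.nontrivial_iff, Ne, Subgroup.eq_top_iff']
      exact fun h => hxc (h x)
    have hQ := hP.to_quotient (center P)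
    have := hQ.center_nontrivial
    obtain ⟨n, hn, hcard⟩ := (hQ.to_subgroup (center (P ⧸ center P))).nontrivial_iff_card.1 inferInstance
    obtain ⟨⟨q, hq⟩, hqo⟩ := exists_prime_orderOf_dvd_card' p (G := center (P ⧸ center P))
      (hcard ▸ dvd_pow_self p (by omega))
    rw [Subgroup.orderOf_mk] at hqo
    obtain ⟨z, rfl⟩ := QuotientGroup.mk_surjective q
    refine ⟨z, fun g => ?_, ?_, fun h => ?_⟩
    · rw [← QuotientGroup.eq_one_iff]
      simp only [QuotientGroup.mk_mul, QuotientGroup.mk_inv]
      rw [mem_center_iff.1 hq (g : P ⧸ center P)]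
      group
    · rw [← QuotientGroup.eq_one_iff, QuotientGroup.mk_pow, ← hqo, pow_orderOf_eq_one]
    · rw [(QuotientGroup.eq_one_iff z).2 h, orderOf_one] at hqo
      exact hp.one_lt.ne hqo
  have hCz : centralizer ({z} : Set P) = C := by
    have hcomm : Commute (x : P ⧸ center P) (z : P ⧸ center P) := by
      have h1 := (QuotientGroup.eq_one_iff _).2 (hzc x)
      simp only [QuotientGroup.mk_mul, QuotientGroup.mk_inv] at h1
      rw [mul_inv_eq_one, mul_inv_eq_iff_eq_mul] at h1
      exact h1
    have hw : (x ^ p)⁻¹ * (x * z) ^ p ∈ center P := by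
      rw [← QuotientGroup.eq_one_iff]
      simp only [QuotientGroup.mk_mul, QuotientGroup.mk_inv, QuotientGroup.mk_pow]
      rw [hcomm.mul_pow, inv_mul_cancel_left, ← QuotientGroup.mk_pow,
        (QuotientGroup.eq_one_iff _).2 hzp]
    have hcent : centralizer ({(x * z) ^ p} : Set P) = C := by
      rw [← hC]
      ext b
      rw [mem_centralizer_singleton_iff, mem_centralizer_singleton_iff]
      have h1 : Commute b ((x ^ p)⁻¹ * (x * z) ^ p) := mem_center_iff.1 hw b
      constructor
      · intro h2
        have := (show Commute b ((x * z) ^ p) from h2).mul_right h1.inv_right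
        simpa [mul_inv_rev, mul_assoc] using this.eq
      · intro h2
        have := (show Commute b (x ^ p) from h2).mul_right h1
        simpa using this.eq
    have hxzp : (x * z) ^ p ∉ center P := fun h => hxp (by
      simpa using mul_mem h (inv_mem hw))
    have hxz : centralizer ({x * z} : Set P) = C := (hmono _ p hxzp).trans hcent
    have hle : C ≤ centralizer ({z} : Set P) := fun b hb => by
      have h1 : Commute b x := mem_centralizer_singleton_iff.1 hb
      have h2 : Commute b (x * z) := mem_centralizer_singleton_iff.1 (hxz.symm ▸ hb)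
      have h3 := h1.inv_right.mul_right h2
      rw [inv_mul_cancel_left] at h3
      exact mem_centralizer_singleton_iff.2 h3.eq
    refine (eq_of_le_of_card_ge hle ?_).symm
    have h1 := C.card_mul_index
    have h2 := (centralizer ({z} : Set P)).card_mul_index
    rw [hCdef, hcs x hxc] at h1
    rw [hcs z hzn, ← h1] at h2
    exact (Nat.eq_of_mul_eq_mul_right (pow_pos hp.pos a) h2).le
  let f : P →* center P :=
    { toFun := fun g => ⟨g * z * g⁻¹ * z⁻¹, hzc g⟩
      map_one' := Subtype.ext (by simp)
      map_mul' := fun g h => Subtype.ext (by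
        show g * h * z * (g * h)⁻¹ * z⁻¹ = g * z * g⁻¹ * z⁻¹ * (h * z * h⁻¹ * z⁻¹)
        have hc : Commute g (h * z * h⁻¹ * z⁻¹) := mem_center_iff.1 (hzc h) g
        have hc' : Commute (z * g⁻¹ * z⁻¹) (h * z * h⁻¹ * z⁻¹) := mem_center_iff.1 (hzc h) _
        calc g * h * z * (g * h)⁻¹ * z⁻¹ = g * (h * z * h⁻¹ * z⁻¹) * (z * g⁻¹ * z⁻¹) := by group
          _ = g * ((z * g⁻¹ * z⁻¹) * (h * z * h⁻¹ * z⁻¹)) := by rw [hc'.eq]; group
          _ = _ := by group) }
  have hker : f.ker = C := by
    rw [← hCz]
    ext g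
    rw [MonoidHom.mem_ker, mem_centralizer_singleton_iff, Subtype.ext_iff]
    show g * z * g⁻¹ * z⁻¹ = 1 ↔ _
    rw [mul_inv_eq_one, mul_inv_eq_iff_eq_mul]
  have hCn : C.Normal := hker ▸ f.normal_ker
  have hcommC : ∀ g h : P, g * h * g⁻¹ * h⁻¹ ∈ C := fun g h => by
    rw [← hker, MonoidHom.mem_ker, map_mul, map_mul, map_mul, map_inv, map_inv,
      show f g * f h = f h * f g from Subtype.ext (mem_center_iff.1 (f h).2 _), mul_inv_cancel_right, mul_inv_cancel]
  have hpC : ∀ g : P, g ^ p ∈ C := fun g => by
    have h1 : ∀ i : ℕ, g * z ^ i * g⁻¹ = (g * z * g⁻¹ * z⁻¹) ^ i * z ^ i := fun i => by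
      rw [← conj_pow]
      have hc : Commute (g * z * g⁻¹ * z⁻¹) z := (mem_center_iff.1 (hzc g) z).symm
      rw [← hc.mul_pow, inv_mul_cancel_right]
    have h2 := h1 p
    rw [mem_center_iff.1 hzp g, mul_inv_cancel_right] at h2
    rw [← hker, MonoidHom.mem_ker, map_pow, Subtype.ext_iff, SubmonoidClass.coe_pow]
    exact mul_eq_right.1 h2.symm
  set U := C ⊓ centralizer (C : Set P) with hU
  have hxU : x ∈ U := mem_inf.2 ⟨mem_centralizer_singleton_iff.2 rfl,
    mem_centralizer_iff.2 fun b hb => mem_centralizer_singleton_iff.1 hb⟩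
  have hout : ∀ y : P, y ∉ C → y ^ p ∈ center P := by
    intro y hy
    by_contra hyp
    apply hy
    have h1 : x ∈ centralizer ({y ^ p} : Set P) :=
      mem_centralizer_singleton_iff.2 (mem_centralizer_iff.1 (mem_inf.1 hxU).2 _ (hpC y)).symm
    rw [← hmono y p hyp, mem_centralizer_singleton_iff] at h1
    exact mem_centralizer_singleton_iff.2 h1.symm
  -- the action on `U` modulo the centre
  have hCU : (centralizer (C : Set P)).Normal := inferInstance
  have hUn : U.Normal := inferInstance
  let q := QuotientGroup.mk' (center P)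
  set W := U.map q with hW
  have hWn : W.Normal := hUn.map q (QuotientGroup.mk'_surjective _)
  have hWc : ∀ u v : W, u * v = v * u := by
    rintro ⟨_, u, hu, rfl⟩ ⟨_, v, hv, rfl⟩
    refine Subtype.ext ?_
    show q u * q v = q v * q u
    rw [← map_mul, ← map_mul, (mem_centralizer_iff.1 (mem_inf.1 hv).2 u (mem_inf.1 hu).1)]
  let _ : CommGroup W := { (inferInstance : Group W) with mul_comm := hWc }
  let φ : (P ⧸ center P) →* AddMonoid.End (Additive W) :=
    { toFun := fun g => MonoidHom.toAdditive
        (MonoidHom.mk' (fun w : W => (⟨g * w * g⁻¹, hWn.conj_mem _ w.2 g⟩ : W))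
          fun u v => Subtype.ext (by
            show g * ((u : P ⧸ center P) * v) * g⁻¹ = g * u * g⁻¹ * (g * v * g⁻¹)
            group))
      map_one' := by
        refine AddMonoidHom.ext fun v => ?_
        apply Additive.toMul.injective
        refine Subtype.ext ?_
        show (1 : P ⧸ center P) * ((Additive.toMul v : W) : P ⧸ center P) * (1 : P ⧸ center P)⁻¹ = ((Additive.toMul v : W) : P ⧸ center P)
        simp
      map_mul' := fun g h => by
        refine AddMonoidHom.ext fun v => ?_
        apply Additive.toMul.injective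
        refine Subtype.ext ?_
        show (g * h) * ((Additive.toMul v : W) : P ⧸ center P) * (g * h)⁻¹ =
          g * (h * ((Additive.toMul v : W) : P ⧸ center P) * h⁻¹) * g⁻¹
        group }
  have hφC : ∀ c : P, c ∈ C → φ (q c) = 1 := by
    intro c hc
    refine AddMonoidHom.ext fun v => ?_
    apply Additive.toMul.injective
    refine Subtype.ext ?_
    obtain ⟨u, hu, e⟩ := (Additive.toMul v : W).2
    show q c * ((Additive.toMul v : W) : P ⧸ center P) * (q c)⁻¹ = ((Additive.toMul v : W) : P ⧸ center P)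
    rw [← e, ← map_mul, ← map_inv, ← map_mul,
      mem_centralizer_iff.1 (mem_inf.1 hu).2 c hc, mul_inv_cancel_right]
  set w : Additive W := Additive.ofMul ⟨q x, mem_map_of_mem q hxU⟩ with hw
  -- norms vanish
  have hnormzero : ∀ y : P, y ∉ C → ∑ i ∈ Finset.range p, φ (q y ^ i) w = 0 := by
    intro y hy
    have hxy : x * y ∉ C := fun h => hy (by simpa using mul_mem (inv_mem (mem_inf.1 hxU).1) h)
    have hrec : ∀ i : ℕ, (q x * q y) ^ i =
        ((Additive.toMul (∑ j ∈ Finset.range i, φ (q y ^ j) w) : W) : P ⧸ center P) * q y ^ i := by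
      intro i
      induction i with
      | zero => simp
      | succ i ih =>
        rw [pow_succ, ih, Finset.sum_range_succ, toMul_add, Subgroup.coe_mul, pow_succ]
        show _ = _ * (q y ^ i * q x * (q y ^ i)⁻¹) * (q y ^ i * q y)
        group
    have h1 := hrec p
    rw [← map_mul, ← map_pow, ← map_pow,
      show q ((x * y) ^ p) = 1 from (QuotientGroup.eq_one_iff _).2 (hout _ hxy),
      show q (y ^ p) = 1 from (QuotientGroup.eq_one_iff _).2 (hout _ hy), mul_one] at h1
    exact Additive.toMul.injective (Subtype.ext h1.symm)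
  obtain ⟨y2, hy2⟩ : ∃ y, y ∉ C := by
    by_contra hne
    simp only [not_exists, not_not] at hne
    exact hxc (mem_center_iff.2 fun b => mem_centralizer_singleton_iff.1 (hne b))
  obtain ⟨y1, hy1⟩ : ∃ y, y ∉ C ⊔ zpowers y2 := by
    by_contra hne
    simp only [not_exists, not_not] at hne
    have htop : C ⊔ zpowers y2 = ⊤ := eq_top_iff.2 fun b _ => hne b
    have hzq : zpowers (y2 : P ⧸ C) = ⊤ := by
      refine eq_top_iff.2 fun b _ => ?_
      obtain ⟨b, rfl⟩ := QuotientGroup.mk_surjective b
      obtain ⟨c, hc, d, hd, rfl⟩ := mem_sup_of_normal_left.1 (htop ▸ mem_top b)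
      obtain ⟨k, rfl⟩ := mem_zpowers_iff.1 hd
      rw [QuotientGroup.mk_mul, (QuotientGroup.eq_one_iff c).2 hc, one_mul, QuotientGroup.mk_zpow]
      exact zpow_mem (mem_zpowers _) k
    have h1 : Nat.card (P ⧸ C) ≤ p := by
      rw [← Subgroup.card_top (G := P ⧸ C), ← hzq, Nat.card_zpowers]
      refine orderOf_le_of_pow_eq_one hp.pos ?_
      rw [← QuotientGroup.mk_pow]
      exact (QuotientGroup.eq_one_iff _).2 (hpC y2)
    rw [← Subgroup.index_eq_card, hCdef, hcs x hxc] at h1
    have h2 : p ^ 2 ≤ p ^ a := Nat.pow_le_pow_right hp.pos ha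
    nlinarith [hp.two_le]
  have hk : ∀ k : ℕ, y1 * y2 ^ k ∉ C := fun k h => hy1 (by
    have := mul_mem (mem_sup_left (T := zpowers y2) h)
      (inv_mem (mem_sup_right (S := C) (pow_mem (mem_zpowers y2) k)))
    simpa using this)
  have hsum : ∑ i ∈ Finset.range p, ∑ k ∈ Finset.range p, φ ((q (y1 * y2 ^ k)) ^ i) w = 0 := by
    rw [Finset.sum_comm]
    exact Finset.sum_eq_zero fun k _ => hnormzero _ (hk k)
  have hcommφ : ∀ g h : P, φ (q g) * φ (q h) = φ (q h) * φ (q g) := fun g h => by
    have e : q (g * h) = q (g * h * g⁻¹ * h⁻¹) * q (h * g) := by rw [← map_mul]; congr 1; group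
    rw [← map_mul, ← map_mul, ← map_mul, ← map_mul, e, map_mul φ, hφC _ (hcommC g h), one_mul]
  rw [Finset.sum_eq_single 0] at hsum
  · simp only [pow_zero, map_one, Finset.sum_const, Finset.card_range] at hsum
    have h1 : p • w = 0 := hsum
    have h2 : (q x) ^ p = 1 := congrArg (fun v : Additive W => ((Additive.toMul v : W) : P ⧸ center P)) h1
    rw [← map_pow] at h2
    exact hxp ((QuotientGroup.eq_one_iff _).1 h2)
  · intro i hi hi0
    have hi' := Finset.mem_range.1 hi
    have hpow : ∀ k : ℕ, φ ((q (y1 * y2 ^ k)) ^ i) = φ (q y1 ^ i) * φ (q y2 ^ (k * i)) := by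
      intro k
      have hc : Commute (φ (q y1)) (φ (q y2 ^ k)) := by
        rw [← map_pow]
        exact hcommφ _ _
      rw [map_pow, map_mul, map_pow, map_mul φ, hc.mul_pow, ← map_pow φ (q y1), ← map_pow φ (q y2 ^ k), ← pow_mul]
    rw [Finset.sum_congr rfl fun k _ => by rw [hpow k]]
    have hper : ∀ k : ℕ, φ (q y2 ^ k) = φ (q y2 ^ (k % p)) := fun k => by
      conv_lhs => rw [← Nat.div_add_mod k p, pow_add, pow_mul, ← map_pow, hout y2 hy2 |>
        (QuotientGroup.eq_one_iff _).2 |> fun h => (show q (y2 ^ p) = 1 from h), one_pow, one_mul]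
    have hbij : ∑ k ∈ Finset.range p, φ (q y2 ^ (k * i)) w =
        ∑ k ∈ Finset.range p, φ (q y2 ^ k) w := by
      refine Finset.sum_bij (fun k _ => k * i % p) (fun k _ => Finset.mem_range.2 (Nat.mod_lt _ hp.pos))
        ?_ ?_ (fun k _ => by rw [hper])
      · intro k hk k' hk' he
        have hcop : Nat.gcd p i = 1 := (hp.coprime_iff_not_dvd).2 fun h =>
          absurd (Nat.le_of_dvd (Nat.pos_of_ne_zero hi0) h) (not_le.2 hi')
        exact (Nat.ModEq.cancel_right_of_coprime hcop he).eq_of_lt_of_lt (Finset.mem_range.1 hk)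
          (Finset.mem_range.1 hk')
      · intro b hb
        have hcop : Nat.gcd i p = 1 := ((hp.coprime_iff_not_dvd).2 fun h =>
          absurd (Nat.le_of_dvd (Nat.pos_of_ne_zero hi0) h) (not_le.2 hi')).symm
        obtain ⟨m, hm⟩ := Nat.exists_mul_mod_eq_one_of_coprime hcop hp.one_lt
        refine ⟨b * m % p, Finset.mem_range.2 (Nat.mod_lt _ hp.pos), ?_⟩
        show b * m % p * i % p = b
        rw [Nat.mod_mul_mod, mul_assoc, mul_comm m i, Nat.mul_mod, hm.2, mul_one, Nat.mod_mod,
          Nat.mod_eq_of_lt (Finset.mem_range.1 hb)]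
    show ∑ k ∈ Finset.range p, φ (q y1 ^ i) (φ (q y2 ^ (k * i)) w) = 0
    rw [← map_sum, hbij, hnormzero _ hy2, map_zero]
  · intro h
    exact absurd (Finset.mem_range.2 hp.pos) h


/-- Let P be a finite p-group whose conjugacy class sizes are exactly 1 and pᵃ for some a ≥ 1. Then every element of P has its p-th power in the center of P (P/Z(P) has exponent p). -/
theorem result {P : Type*} [Group P] [Finite P] (p : ℕ) [Fact p.Prime]
    (hP : IsPGroup p P) (a : ℕ) (ha : 1 ≤ a)
    (hcs : {k : ℕ | ∃ x : P, (Subgroup.centralizer ({x} : Set P)).index = k} = {1, p ^ a}) (x : P) :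
    x ^ p ∈ Subgroup.center P := by
  refine aux hP a (fun g hg => ?_) x
  have h1 : (Subgroup.centralizer ({g} : Set P)).index ∈
      {k : ℕ | ∃ x : P, (Subgroup.centralizer ({x} : Set P)).index = k} := ⟨g, rfl⟩
  rw [hcs] at h1
  rcases h1 with h1 | h1
  · refine absurd (Subgroup.mem_center_iff.2 fun b => ?_) hg
    rw [Subgroup.index_eq_one] at h1
    exact Subgroup.mem_centralizer_singleton_iff.1 (h1 ▸ Subgroup.mem_top b)
  · exact h1
end Cfsg.Agent.S4365
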