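import Cfsg.Statements.S4370
import Cfsg.Agent.S4314
import Cfsg.Agent.Lib.FrobRealize.Quaternion

set_option autoImplicit false
open Cfsg

namespace Cfsg.Agent.S4370

open Subgroup

theorem two_torsion {n : ℕ} [NeZero n] {x : ZMod (2 * n)} (h : x + x = 0) :
    x = 0 ∨ x = (n : ZMod (2 * n)) := by
  have h1 : ((x.val + x.val : ℕ) : ZMod (2 * n)) = 0 := by
    rw [Nat.cast_add, ZMod.natCast_zmod_val, h]
  rw [ZMod.natCast_eq_zero_iff] at h1
  obtain ⟨c, hc⟩ := h1
  have h2 := ZMod.val_lt x
  have hn := NeZero.pos n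
  rcases c with _ | _ | c
  · exact Or.inl ((ZMod.val_eq_zero x).1 (by omega))
  · exact Or.inr (by rw [← ZMod.natCast_zmod_val x, show x.val = n by omega])
  · exfalso
    nlinarith

open QuaternionGroup in
/-- The centraliser of a noncentral element of a quaternion group is cyclic. -/
theorem quaternion_centralizer {n : ℕ} [NeZero n] (q : QuaternionGroup n)
    (hq : q ∉ center (QuaternionGroup n)) : IsCyclic (centralizer ({q} : Set (QuaternionGroup n))) := by
  suffices h : ∃ g : QuaternionGroup n, centralizer ({q} : Set (QuaternionGroup n)) ≤ zpowers g by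
    obtain ⟨g, hg⟩ := h
    exact isCyclic_of_injective (inclusion hg) (inclusion_injective hg)
  cases q with
  | a i =>
    refine ⟨a 1, fun b hb => ?_⟩
    rw [mem_centralizer_singleton_iff] at hb
    cases b with
    | a j => exact ⟨(j.val : ℤ), by show a 1 ^ (j.val : ℤ) = a j; rw [zpow_natCast, a_one_pow, ZMod.natCast_zmod_val]⟩
    | xa j =>
      exfalso
      rw [xa_mul_a, a_mul_xa] at hb
      injection hb with hb
      apply hq
      have h2 : i + i = 0 := by
        calc i + i = (j + i) - (j - i) := by abel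
          _ = 0 := by rw [hb, sub_self]
      have h3 : i = -i := eq_neg_of_add_eq_zero_left h2
      refine mem_center_iff.2 fun c => ?_
      cases c with
      | a k => rw [a_mul_a, a_mul_a, add_comm]
      | xa k =>
        rw [xa_mul_a, a_mul_xa]
        congr 1
        conv_lhs => rw [h3, ← sub_eq_add_neg]
  | xa i =>
    refine ⟨xa i, fun b hb => ?_⟩
    rw [mem_centralizer_singleton_iff] at hb
    cases b with
    | a j =>
      rw [a_mul_xa, xa_mul_a] at hb
      injection hb with hb
      have h2 : j + j = 0 := by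
        calc j + j = (i + j) - (i - j) := by abel
          _ = 0 := by rw [hb, sub_self]
      rcases two_torsion h2 with rfl | rfl
      · rw [a_zero]; exact one_mem _
      · exact ⟨((2 : ℕ) : ℤ), by simp⟩
    | xa j =>
      rw [xa_mul_xa, xa_mul_xa] at hb
      injection hb with hb
      have h2 : (j - i) + (j - i) = 0 := by
        calc (j - i) + (j - i) = ((n : ZMod (2 * n)) + j - i) - ((n : ZMod (2 * n)) + i - j) := by abel
          _ = 0 := by rw [hb, sub_self]
      rcases two_torsion h2 with e | e
      · rw [sub_eq_zero.1 e]; exact mem_zpowers _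
      · refine ⟨((3 : ℕ) : ℤ), ?_⟩
        simp only [zpow_natCast]
        rw [pow_succ', xa_sq, xa_mul_a, ← e, add_sub_cancel]

/-- At most `p` solutions of `t ^ p = 1` when these are central and the centre is cyclic. -/
theorem few_roots {G : Type*} [Group G] [Finite G] (hZ : IsCyclic (center G)) {p : ℕ} (hp : 0 < p)
    (P : Subgroup G) (h : ∀ t ∈ P, t ^ p = 1 → t ∈ center G) :
    Nat.card {t : P // t ^ p = 1} ≤ p := by
  classical
  haveI : Fintype (center G) := Fintype.ofFinite _
  have h1 : Nat.card {z : center G // z ^ p = 1} ≤ p := by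
    rw [Nat.card_eq_fintype_card, Fintype.card_subtype]
    exact IsCyclic.card_pow_eq_one_le hp
  refine le_trans (Nat.card_le_card_of_injective
    (fun t : {t : P // t ^ p = 1} => (⟨⟨((t : P) : G), h _ t.1.2 (by
      rw [← SubmonoidClass.coe_pow, t.2]; rfl)⟩, Subtype.ext (by
      show (((t : P) : G)) ^ p = 1
      rw [← SubmonoidClass.coe_pow, t.2]; rfl)⟩ : {z : center G // z ^ p = 1})) ?_) h1
  intro t t' e
  apply Subtype.ext; apply Subtype.ext
  exact congrArg (fun z : {z : center G // z ^ p = 1} => ((z : center G) : G)) e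

/-- The forward direction. -/
theorem forward {G : Type*} [Group G] [Finite G] (hG : Group.IsNilpotent G)
    (hna : ¬ IsMulCommutative G)
    (hcyc : ∀ x : G, x ∉ center G → IsCyclic (centralizer ({x} : Set G))) :
    ∃ (k m : ℕ), 1 ≤ k ∧ Odd m ∧ Nonempty (G ≃* QuaternionGroup (2 ^ k) × Multiplicative (ZMod m)) := by
  obtain ⟨x0, hx0⟩ : ∃ x : G, x ∉ center G := by
    by_contra hne
    simp only [not_exists, not_not] at hne
    exact hna ⟨⟨fun a b => (mem_center_iff.1 (hne b) a)⟩⟩
  obtain ⟨l, hxc, p, i, hp, hi, hxo⟩ := S4314.exists_part hx0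
  set x := x0 ^ l with hx
  rw [← Nat.prime_iff] at hp
  have : Fact p.Prime := ⟨hp⟩
  have hZ : IsCyclic (center G) := by
    have hle : center G ≤ centralizer ({x} : Set G) := fun b hb =>
      mem_centralizer_singleton_iff.2 (mem_center_iff.1 hb x).symm
    have := hcyc x hxc
    exact isCyclic_of_injective (inclusion hle) (inclusion_injective hle)
  have hnorm : ∀ (q : ℕ) (_ : Fact q.Prime) (Q : Sylow q G), (Q : Subgroup G).Normal :=
    fun q hq Q => by
      have := ((Group.isNilpotent_of_finite_tfae (G := G)).out 0 3).mp hG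
      exact @this q hq Q
  obtain ⟨P, hxP⟩ := (IsPGroup.of_card (n := i) (G := zpowers x)
    (by rw [Nat.card_zpowers, ← hxo])).exists_le_sylow
  replace hxP : x ∈ (P : Subgroup G) := hxP (mem_zpowers x)
  have hPn := hnorm p inferInstance P
  obtain ⟨H, hH⟩ := exists_right_complement'_of_coprime (P.card_coprime_index)
  have hH' : (Nat.card (P : Subgroup G)).Coprime (Nat.card H) := by
    rw [← hH.symm.index_eq_card]
    exact P.card_coprime_index
  -- elements outside `p` centralise `P`
  have hHP : ∀ b ∈ H, ∀ a ∈ (P : Subgroup G), Commute a b := by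
    set C := centralizer ((P : Subgroup G) : Set G) with hC
    obtain ⟨e, he⟩ : ∃ e, C.index = p ^ e := by
      refine ⟨_, Nat.eq_prime_pow_of_unique_prime_dvd index_ne_zero_of_finite ?_⟩
      intro q hq hqd
      by_contra hqp
      have : Fact q.Prime := ⟨hq⟩
      let Q : Sylow q G := default
      have hQn := hnorm q inferInstance Q
      refine Q.not_dvd_index (hqd.trans (index_dvd_of_le ?_))
      have hd : Disjoint (P : Subgroup G) (Q : Subgroup G) :=
        IsPGroup.disjoint_of_ne p q (Ne.symm hqp) _ _ P.isPGroup' Q.isPGroup'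
      exact fun b hb => mem_centralizer_iff.2 fun a ha =>
        commute_of_normal_of_disjoint _ _ hPn hQn hd a b ha hb
    intro b hb a ha
    have h1 : b ^ p ^ e ∈ C := he ▸ C.pow_index_mem b
    obtain ⟨j, hj⟩ := exists_pow_eq_self_of_coprime (x := b) (n := p ^ e) (by
      refine (Nat.Coprime.pow_left e ?_).coprime_dvd_right (Subgroup.orderOf_dvd_natCard H hb)
      exact (hp.coprime_iff_not_dvd).2 fun hd => P.not_dvd_index (hH.symm.index_eq_card ▸ hd))
    exact mem_centralizer_iff.1 (hj ▸ pow_mem h1 j) a ha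
  have hHc : IsCyclic H := by
    have hle : H ≤ centralizer ({x} : Set G) := fun b hb =>
      mem_centralizer_singleton_iff.2 (hHP b hb x hxP).eq.symm
    have := hcyc x hxc
    exact isCyclic_of_injective (inclusion hle) (inclusion_injective hle)
  let f : ↥(P : Subgroup G) × H →* G := MonoidHom.noncommCoprod (P : Subgroup G).subtype H.subtype
    fun a b => hHP b b.2 a a.2
  have hf : Function.Bijective f := hH
  let e := MulEquiv.ofBijective f hf
  -- `P` is not abelian
  have hxPc : ¬ ∀ b : (P : Subgroup G), Commute (b : G) x := by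
    intro h
    apply hxc
    refine mem_center_iff.2 fun g => ?_
    obtain ⟨⟨a, b⟩, rfl⟩ := hf.2 g
    show ((a : G) * b) * x = x * ((a : G) * b)
    exact ((h a).mul_left (hHP b b.2 x hxP).symm).eq
  -- roots of unity are central
  have hroot : ∀ t ∈ (P : Subgroup G), t ^ p = 1 → t ∈ center G := by
    intro t ht htp
    by_contra htc
    have := hcyc t htc
    have hPnt : Nontrivial (P : Subgroup G) := ⟨⟨⟨x, hxP⟩, 1, fun e => hxc (by
      rw [show x = 1 from congrArg Subtype.val e]; exact one_mem _)⟩⟩
    have := P.isPGroup'.center_nontrivial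
    obtain ⟨j, hj0, hj⟩ := (P.isPGroup'.to_subgroup (center (P : Subgroup G))).nontrivial_iff_card.1 inferInstance
    obtain ⟨⟨⟨z, hzP⟩, hzc⟩, hzo⟩ := exists_prime_orderOf_dvd_card' p (G := center (P : Subgroup G))
      (hj ▸ dvd_pow_self p (by omega))
    rw [Subgroup.orderOf_mk, Subgroup.orderOf_mk] at hzo
    have hzZ : z ∈ center G := by
      refine mem_center_iff.2 fun g => ?_
      obtain ⟨⟨a, b⟩, rfl⟩ := hf.2 g
      show ((a : G) * b) * z = z * ((a : G) * b)
      have h1 : Commute (a : G) z := congrArg Subtype.val (mem_center_iff.1 hzc a)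
      exact (h1.mul_left (hHP b b.2 z hzP).symm).eq
    set C := centralizer ({t} : Set G)
    haveI : Fintype C := Fintype.ofFinite _
    have htC : t ∈ C := mem_centralizer_singleton_iff.2 rfl
    have hzC : z ∈ C := mem_centralizer_singleton_iff.2 (mem_center_iff.1 hzZ t).symm
    classical
    have h1 : ((zpowers (⟨z, hzC⟩ : C)) : Set C).toFinset ⊆ Finset.univ.filter fun u => u ^ p = 1 := by
      intro u hu
      rw [Set.mem_toFinset] at hu
      obtain ⟨m, rfl⟩ := hu
      refine Finset.mem_filter.2 ⟨Finset.mem_univ _, Subtype.ext ?_⟩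
      show ((z ^ m) ^ p : G) = 1
      rw [← zpow_natCast, zpow_comm, zpow_natCast, ← hzo, pow_orderOf_eq_one, one_zpow]
    have h2 := Finset.eq_of_subset_of_card_le h1 ((IsCyclic.card_pow_eq_one_le hp.pos).trans (by
      rw [Set.toFinset_card, ← Nat.card_eq_fintype_card]
      refine le_of_eq ?_
      show p = Nat.card (zpowers (⟨z, hzC⟩ : C))
      rw [Nat.card_zpowers, Subgroup.orderOf_mk, hzo]))
    have h3 : (⟨t, htC⟩ : C) ∈ ((zpowers (⟨z, hzC⟩ : C)) : Set C).toFinset := by
      rw [h2]; exact Finset.mem_filter.2 ⟨Finset.mem_univ _, Subtype.ext htp⟩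
    rw [Set.mem_toFinset] at h3
    obtain ⟨m, hm⟩ := h3
    exact htc ((show z ^ m = t from congrArg Subtype.val hm) ▸ zpow_mem hzZ m)
  have hPnc : ∀ h : IsMulCommutative (P : Subgroup G), False := fun h =>
    hxPc fun b => congrArg Subtype.val (h.is_comm.comm b ⟨x, hxP⟩)
  rcases CfsgLib.FrobRealize.Quaternion.cyclic_or_quaternion P.isPGroup'
    (few_roots hZ hp.pos _ hroot) with hc | ⟨rfl, k, ⟨eQ⟩⟩
  · exact (hPnc hc.isMulCommutative).elim
  have hk : 1 ≤ k := by
    by_contra hk
    obtain rfl : k = 0 := by omega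
    refine hPnc ?_
    have h1 : IsCyclic (QuaternionGroup (2 ^ 0)) := QuaternionGroup.quaternionGroup_one_isCyclic
    exact (eQ.isCyclic.2 h1).isMulCommutative
  refine ⟨k, Nat.card H, hk, ?_, ⟨e.symm.trans (eQ.prodCongr (zmodCyclicMulEquiv hHc).symm)⟩⟩
  rw [Nat.odd_iff, ← Nat.two_dvd_ne_zero]
  exact fun hd => P.not_dvd_index (hH.symm.index_eq_card ▸ hd)

/-- The backward direction. -/
theorem backward {G : Type*} [Group G] [Finite G] {k m : ℕ} (hm : Odd m)
    (e : G ≃* QuaternionGroup (2 ^ k) × Multiplicative (ZMod m)) (x : G) (hx : x ∉ center G) :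
    IsCyclic (centralizer ({x} : Set G)) := by
  obtain ⟨⟨q, c⟩, rfl⟩ := e.symm.surjective x
  have hq : q ∉ center (QuaternionGroup (2 ^ k)) := fun h => hx (mem_center_iff.2 fun g => by
    apply e.injective
    rw [map_mul, map_mul, MulEquiv.apply_symm_apply]
    exact Prod.ext (mem_center_iff.1 h _) (mul_comm _ _))
  have : NeZero (2 ^ k) := ⟨by positivity⟩
  have : NeZero m := ⟨hm.pos.ne'⟩
  have := quaternion_centralizer q hq
  have hcop : (Nat.card (centralizer ({q} : Set (QuaternionGroup (2 ^ k))))).Coprime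
      (Nat.card (Multiplicative (ZMod m))) := by
    refine Nat.Coprime.coprime_dvd_left (card_subgroup_dvd_card _) ?_
    rw [Nat.card_eq_fintype_card, QuaternionGroup.card, Nat.card_eq_fintype_card,
      Fintype.card_multiplicative, ZMod.card, show 4 * 2 ^ k = 2 ^ (k + 2) by ring]
    exact (Nat.coprime_two_left.2 hm).pow_left _
  have := Group.isCyclic_prod_iff.2 ⟨this, inferInstance, hcop⟩
  let g : centralizer ({e.symm (q, c)} : Set G) →*
      centralizer ({q} : Set (QuaternionGroup (2 ^ k))) × Multiplicative (ZMod m) :=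
    MonoidHom.prod
      (((MonoidHom.fst _ _).comp (e.toMonoidHom.comp (Subgroup.subtype _))).codRestrict _ fun b => by
        rw [mem_centralizer_singleton_iff]
        have h1 := congrArg e (mem_centralizer_singleton_iff.1 b.2)
        rw [map_mul, map_mul, MulEquiv.apply_symm_apply] at h1
        exact congrArg Prod.fst h1)
      ((MonoidHom.snd _ _).comp (e.toMonoidHom.comp (Subgroup.subtype _)))
  refine isCyclic_of_injective g fun a b hab => Subtype.ext (e.injective (Prod.ext ?_ ?_))
  · exact congrArg Subtype.val (congrArg Prod.fst hab :)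
  · exact (congrArg Prod.snd hab :)


/-- Let G be a finite non-abelian nilpotent group. Then the centralizer of every non-central element of G is cyclic if and only if G is isomorphic to the direct product of a generalized quaternion group and a cyclic group of odd order. -/
theorem result {G : Type*} [Group G] [Finite G] (hG : Group.IsNilpotent G)
    (hna : ¬ IsMulCommutative G) :
    (∀ x : G, x ∉ Subgroup.center G → IsCyclic (Subgroup.centralizer ({x} : Set G))) ↔
      ∃ (k m : ℕ), 1 ≤ k ∧ Odd m ∧ Nonempty (G ≃* QuaternionGroup (2 ^ k) × Multiplicative (ZMod m)) := by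
  refine ⟨forward hG hna, ?_⟩
  rintro ⟨k, m, -, hm, ⟨e⟩⟩ x hx
  exact backward hm e x hx

end Cfsg.Agent.S4370
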