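import Cfsg.Statements.S4375
import Cfsg.Agent.Lib.Perm.OddBase.Main

set_option autoImplicit false
open Cfsg

namespace Cfsg.Agent.S4375

/-- Let the finite group A of odd order act faithfully on the finite additive group V by group automorphisms, completely reducibly (every A-invariant subgroup has an A-invariant complement). Then there are v, w ∈ V such that only the identity of A fixes both. -/
theorem result {A V : Type*} [Group A] [Finite A]
    [AddCommGroup V] [Finite V] [DistribMulAction A V] [FaithfulSMul A V] (hA : Odd (Nat.card A))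
    (hcr : (∀ U : AddSubgroup V, (∀ a : A, ∀ v ∈ U, a • v ∈ U) → ∃ W : AddSubgroup V, (∀ a : A, ∀ w ∈ W, a • w ∈ W) ∧ U ⊓ W = ⊥ ∧ U ⊔ W = ⊤)) :
    ∃ v w : V, ∀ a : A, a • v = v → a • w = w → a = 1 := by
  classical
  let φ : A →* (AddMonoid.End V)ˣ := (DistribMulAction.toAddMonoidEnd A V).toHomUnits
  letI : DistribMulAction φ.range V :=
    DistribMulAction.compHom V ((Units.coeHom (AddMonoid.End V)).comp φ.range.subtype)
  haveI : Finite φ.range := Finite.of_surjective φ.rangeRestrict φ.rangeRestrict_surjective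
  have hcr' : CfsgLib.Perm.OddBase.IsCR φ.range V := by
    intro U hU
    obtain ⟨W, hW, h1, h2⟩ := hcr U fun a v hv => hU ⟨φ a, a, rfl⟩ v hv
    refine ⟨W, ?_, h1, h2⟩
    rintro ⟨_, a, rfl⟩ w hw
    exact hW a w hw
  obtain ⟨v, w, h⟩ := CfsgLib.Perm.OddBase.exists_pair φ.range V
    (Odd.of_dvd_nat hA (Subgroup.card_range_dvd φ)) hcr'
  exact ⟨v, w, fun a hv hw => FaithfulSMul.eq_of_smul_eq_smul (α := V) fun x => by
    rw [one_smul]; exact h ⟨φ a, a, rfl⟩ hv hw x⟩

end Cfsg.Agent.S4375
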