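import Cfsg.Statements.S4376
import Mathlib

set_option autoImplicit false
open Cfsg

namespace Cfsg.Agent.S4376

set_option synthInstance.maxSize 4000

structure Act (V H : Type) [AddCommGroup V] [Group H] where
  act : H → V → V
  add : ∀ h a b, act h (a + b) = act h a + act h b
  one : ∀ a, act 1 a = a
  mul : ∀ h k a, act (h * k) a = act h (act k a)

@[ext] structure Ext {V H : Type} [AddCommGroup V] [Group H] (A : Act V H) where
  v : V
  h : H
deriving DecidableEq

variable {V H : Type} [AddCommGroup V] [Group H] {A : Act V H}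
theorem Act.zero (A : Act V H) (h : H) : A.act h 0 = 0 := by
  have := A.add h 0 0
  rw [add_zero] at this
  exact left_eq_add.1 this
theorem Act.neg (A : Act V H) (h : H) (a : V) : A.act h (-a) = -A.act h a := by
  refine eq_neg_of_add_eq_zero_left ?_
  rw [← A.add, neg_add_cancel, A.zero]
instance : Mul (Ext A) := ⟨fun x y => ⟨x.v + A.act x.h y.v, x.h * y.h⟩⟩
instance : One (Ext A) := ⟨⟨0, 1⟩⟩
instance : Inv (Ext A) := ⟨fun x => ⟨-A.act x.h⁻¹ x.v, x.h⁻¹⟩⟩
@[simp] theorem mul_v (x y : Ext A) : (x * y).v = x.v + A.act x.h y.v := rfl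
@[simp] theorem mul_h (x y : Ext A) : (x * y).h = x.h * y.h := rfl
@[simp] theorem one_v : (1 : Ext A).v = 0 := rfl
@[simp] theorem one_h : (1 : Ext A).h = 1 := rfl
@[simp] theorem inv_v (x : Ext A) : x⁻¹.v = -A.act x.h⁻¹ x.v := rfl
@[simp] theorem inv_h (x : Ext A) : x⁻¹.h = x.h⁻¹ := rfl
instance : Group (Ext A) where
  mul_assoc x y z := by ext <;> simp [mul_assoc, A.add, A.mul, add_assoc]
  one_mul x := by ext <;> simp [A.one]
  mul_one x := by ext <;> simp [A.zero]
  inv_mul_cancel x := by ext <;> simp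
instance [Fintype V] [Fintype H] : Fintype (Ext A) :=
  Fintype.ofEquiv (V × H) ⟨fun p => ⟨p.1, p.2⟩, fun x => (x.v, x.h), fun _ => rfl, fun _ => rfl⟩

def chr (a b : ℕ) [NeZero a] [NeZero b] (R : Type) [CommRing R] (u w : R)
    (hc : ∀ p q : ZMod a × ZMod b, u ^ (p + q).1.val * w ^ (p + q).2.val = (u ^ p.1.val * w ^ p.2.val) * (u ^ q.1.val * w ^ q.2.val)) :
    Act R (Multiplicative (ZMod a × ZMod b)) where
  act h x := u ^ h.toAdd.1.val * w ^ h.toAdd.2.val * x
  add h x y := mul_add _ _ _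
  one x := by simp
  mul h k x := by rw [toAdd_mul, hc, mul_assoc]

/-- Powers by short chains. -/
def q2 {G : Type} [Monoid G] (x : G) : G := x * x
def q3 {G : Type} [Monoid G] (x : G) : G := x * x * x
def q4 {G : Type} [Monoid G] (x : G) : G := q2 (q2 x)
def q6 {G : Type} [Monoid G] (x : G) : G := q2 (q3 x)
def q7 {G : Type} [Monoid G] (x : G) : G := q6 x * x
def q12 {G : Type} [Monoid G] (x : G) : G := q2 (q6 x)
def q14 {G : Type} [Monoid G] (x : G) : G := q2 (q7 x)
def q21 {G : Type} [Monoid G] (x : G) : G := q3 (q7 x)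
def q28 {G : Type} [Monoid G] (x : G) : G := q2 (q14 x)
def q42 {G : Type} [Monoid G] (x : G) : G := q2 (q21 x)
def q84 {G : Type} [Monoid G] (x : G) : G := q2 (q42 x)

/-- The number of solutions of `x ^ n = 1` depends only on `gcd n 84`, as tabulated by `f`. -/
def Cnt (G : Type) [Monoid G] (f : ℕ → ℕ) : Prop :=
  ∀ n : ℕ, Nat.card {x : G // x ^ n = 1} = f (Nat.gcd n 84)

def tbl (a1 a2 a3 a4 a6 a7 a12 a14 a21 a28 a42 a84 : ℕ) : ℕ → ℕ
  | 1 => a1 | 2 => a2 | 3 => a3 | 4 => a4 | 6 => a6 | 7 => a7 | 12 => a12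
  | 14 => a14 | 21 => a21 | 28 => a28 | 42 => a42 | 84 => a84 | _ => 0

theorem Cnt.mk' {G : Type} [Group G] [Fintype G] [DecidableEq G] {a2 a3 a4 a6 a7 a12 a14 a21 a28 a42 N : ℕ}
    (h84 : ∀ x : G, q84 x = 1) (hN : Fintype.card G = N)
    (h2 : (Finset.univ.filter fun x : G => q2 x = 1).card = a2)
    (h3 : (Finset.univ.filter fun x : G => q3 x = 1).card = a3)
    (h4 : (Finset.univ.filter fun x : G => q4 x = 1).card = a4)
    (h6 : (Finset.univ.filter fun x : G => q6 x = 1).card = a6)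
    (h7 : (Finset.univ.filter fun x : G => q7 x = 1).card = a7)
    (h12 : (Finset.univ.filter fun x : G => q12 x = 1).card = a12)
    (h14 : (Finset.univ.filter fun x : G => q14 x = 1).card = a14)
    (h21 : (Finset.univ.filter fun x : G => q21 x = 1).card = a21)
    (h28 : (Finset.univ.filter fun x : G => q28 x = 1).card = a28)
    (h42 : (Finset.univ.filter fun x : G => q42 x = 1).card = a42) :
    Cnt G (tbl 1 a2 a3 a4 a6 a7 a12 a14 a21 a28 a42 N) := by
  have e2 : ∀ x : G, q2 x = x ^ 2 := fun x => by simp [q2, pow_succ]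
  have e3 : ∀ x : G, q3 x = x ^ 3 := fun x => by simp [q3, pow_succ]
  have e4 : ∀ x : G, q4 x = x ^ 4 := fun x => by rw [q4, e2, e2, ← pow_mul]
  have e6 : ∀ x : G, q6 x = x ^ 6 := fun x => by rw [q6, e2, e3, ← pow_mul]
  have e7 : ∀ x : G, q7 x = x ^ 7 := fun x => by rw [q7, e6, ← pow_succ]
  have e12 : ∀ x : G, q12 x = x ^ 12 := fun x => by rw [q12, e2, e6, ← pow_mul]
  have e14 : ∀ x : G, q14 x = x ^ 14 := fun x => by rw [q14, e2, e7, ← pow_mul]
  have e21 : ∀ x : G, q21 x = x ^ 21 := fun x => by rw [q21, e3, e7, ← pow_mul]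
  have e28 : ∀ x : G, q28 x = x ^ 28 := fun x => by rw [q28, e2, e14, ← pow_mul]
  have e42 : ∀ x : G, q42 x = x ^ 42 := fun x => by rw [q42, e2, e21, ← pow_mul]
  have e84 : ∀ x : G, q84 x = x ^ 84 := fun x => by rw [q84, e2, e42, ← pow_mul]
  intro n
  have hn : ∀ x : G, x ^ n = 1 ↔ x ^ Nat.gcd n 84 = 1 := by
    intro x
    constructor
    · intro h
      exact pow_gcd_eq_one.2 ⟨h, by rw [← e84]; exact h84 x⟩
    · intro h
      obtain ⟨k, hk⟩ := Nat.gcd_dvd_left n 84
      rw [hk, pow_mul, h, one_pow]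
  rw [Nat.card_congr (Equiv.subtypeEquivRight hn)]
  have hd : Nat.gcd n 84 ∈ Nat.divisors 84 := Nat.mem_divisors.2 ⟨Nat.gcd_dvd_right _ _, by norm_num⟩
  rw [show Nat.divisors 84 = {1, 2, 3, 4, 6, 7, 12, 14, 21, 28, 42, 84} by decide +kernel] at hd
  simp only [Finset.mem_insert, Finset.mem_singleton] at hd
  rcases hd with h | h | h | h | h | h | h | h | h | h | h | h <;>
    rw [h, Nat.card_eq_fintype_card, Fintype.card_subtype]
  · rw [show (Finset.univ.filter fun x : G => x ^ 1 = 1) = {1} by ext x; simp]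
    rfl
  · simp only [← e2, h2]
    rfl
  · simp only [← e3, h3]
    rfl
  · simp only [← e4, h4]
    rfl
  · simp only [← e6, h6]
    rfl
  · simp only [← e7, h7]
    rfl
  · simp only [← e12, h12]
    rfl
  · simp only [← e14, h14]
    rfl
  · simp only [← e21, h21]
    rfl
  · simp only [← e28, h28]
    rfl
  · simp only [← e42, h42]
    rfl
  · rw [Finset.filter_true_of_mem (fun x _ => by rw [← e84]; exact h84 x), Finset.card_univ, hN]
    rfl

theorem Cnt.prod {A B : Type} [Monoid A] [Monoid B] {f g : ℕ → ℕ} (hA : Cnt A f) (hB : Cnt B g) :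
    Cnt (A × B) (fun d => f d * g d) := fun n => by
  show _ = f (Nat.gcd n 84) * g (Nat.gcd n 84)
  rw [← hA n, ← hB n, ← Nat.card_prod]
  exact Nat.card_congr ⟨fun x => (⟨x.1.1, congrArg Prod.fst x.2⟩, ⟨x.1.2, congrArg Prod.snd x.2⟩),
    fun p => ⟨(p.1.1, p.2.1), Prod.ext p.1.2 p.2.2⟩, fun _ => rfl, fun _ => rfl⟩

theorem Cnt.pow {A : Type} [Monoid A] {f : ℕ → ℕ} (hA : Cnt A f) (k : ℕ) :
    Cnt (Fin k → A) (fun d => f d ^ k) := fun n => by
  show _ = f (Nat.gcd n 84) ^ k
  calc Nat.card {x : Fin k → A // x ^ n = 1} = Nat.card (Fin k → {a : A // a ^ n = 1}) :=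
        Nat.card_congr ⟨fun x i => ⟨x.1 i, congrFun x.2 i⟩, fun y => ⟨fun i => (y i).1, funext fun i => (y i).2⟩,
          fun _ => rfl, fun _ => rfl⟩
    _ = f (Nat.gcd n 84) ^ k := by rw [Nat.card_fun, Nat.card_fin, hA n]

theorem same_orders {A B : Type} [Group A] [Finite A] [Group B] [Finite B]
    (h : ∀ n : ℕ, Nat.card {x : A // x ^ n = 1} = Nat.card {x : B // x ^ n = 1}) (n : ℕ) :
    Nat.card {x : A // orderOf x = n} = Nat.card {x : B // orderOf x = n} := by
  classical
  rcases Nat.eq_zero_or_pos n with rfl | hn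
  · haveI : IsEmpty {x : A // orderOf x = 0} := ⟨fun x => (orderOf_pos x.1).ne' x.2⟩
    haveI : IsEmpty {x : B // orderOf x = 0} := ⟨fun x => (orderOf_pos x.1).ne' x.2⟩
    rw [Nat.card_of_isEmpty, Nat.card_of_isEmpty]
  haveI := Fintype.ofFinite A
  haveI := Fintype.ofFinite B
  have key : ∀ (C : Type) [Group C] [Fintype C] (m : ℕ), 0 < m → Nat.card {x : C // x ^ m = 1} =
      ∑ d ∈ m.divisors, Nat.card {x : C // orderOf x = d} := by
    intro C _ _ m hm
    rw [Nat.card_eq_fintype_card, Fintype.card_subtype,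
      Finset.card_eq_sum_card_fiberwise (f := orderOf) (t := m.divisors) (fun x hx => by
        simp only [Finset.coe_filter, Finset.mem_univ, true_and, Set.mem_setOf_eq] at hx
        exact Finset.mem_coe.2 (Nat.mem_divisors.2 ⟨orderOf_dvd_of_pow_eq_one hx, hm.ne'⟩))]
    refine Finset.sum_congr rfl fun d hd => ?_
    rw [Nat.card_eq_fintype_card, Fintype.card_subtype]
    congr 1
    ext x
    simp only [Finset.mem_filter, Finset.mem_univ, true_and]
    exact ⟨fun h => h.2, fun h => ⟨orderOf_dvd_iff_pow_eq_one.1 (h ▸ (Nat.mem_divisors.1 hd).1), h⟩⟩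
  induction n using Nat.strong_induction_on with
  | _ n ih =>
    have e := (key A n hn).symm.trans ((h n).trans (key B n hn))
    rw [← Finset.sum_erase_add _ _ (Nat.mem_divisors_self n hn.ne'),
      ← Finset.sum_erase_add _ _ (Nat.mem_divisors_self n hn.ne')] at e
    have e' : ∑ d ∈ n.divisors.erase n, Nat.card {x : A // orderOf x = d} =
        ∑ d ∈ n.divisors.erase n, Nat.card {x : B // orderOf x = d} :=
      Finset.sum_congr rfl fun d hd => by
        obtain ⟨h1, h2⟩ := Finset.mem_erase.1 hd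
        exact ih d (lt_of_le_of_ne (Nat.divisor_le h2) h1) (Nat.pos_of_mem_divisors h2)
    omega

instance {V H : Type} [AddCommGroup V] [Group H] {A : Act V H} [Finite V] [Finite H] : Finite (Ext A) :=
  Finite.of_injective (fun x => (x.v, x.h)) fun x y e => Ext.ext (congrArg Prod.fst e) (congrArg Prod.snd e)

instance {V H : Type} [AddCommGroup V] [Group H] {A : Act V H} [Group.IsSolvable H] : Group.IsSolvable (Ext A) := by
  let i : Multiplicative V →* Ext A :=
    { toFun := fun v => ⟨v.toAdd, 1⟩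
      map_one' := rfl
      map_mul' := fun a b => Ext.ext (by simp [A.one]) (by simp) }
  let p : Ext A →* H := { toFun := Ext.h, map_one' := rfl, map_mul' := fun _ _ => rfl }
  exact Group.isSolvable_of_ker_le_range i p fun x hx => ⟨Multiplicative.ofAdd x.v, Ext.ext rfl (MonoidHom.mem_ker.1 hx).symm⟩

theorem solvable_pow {A : Type} [Group A] [Group.IsSolvable A] : ∀ k : ℕ, Group.IsSolvable (Fin k → A)
  | 0 => inferInstance
  | k + 1 => by
    haveI := solvable_pow (A := A) k
    let f : A × (Fin k → A) →* (Fin (k + 1) → A) :=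
      { toFun := fun p => Fin.cons p.1 p.2
        map_one' := funext fun i => by cases i using Fin.cases <;> rfl
        map_mul' := fun _ _ => funext fun i => by cases i using Fin.cases <;> rfl }
    exact Group.isSolvable_of_surjective (f := f) fun x => ⟨(x 0, fun i => x i.succ), Fin.cons_self_tail x⟩

instance {A : Type} [Group A] [Group.IsSolvable A] (k : ℕ) : Group.IsSolvable (Fin k → A) := solvable_pow k

def fr : Act (ZMod 7) (Multiplicative (ZMod 3 × ZMod 1)) := chr 3 1 (ZMod 7) 2 1 (by decide +kernel)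

def bA (v : ZMod 2 × ZMod 2 × ZMod 2) : ZMod 2 × ZMod 2 × ZMod 2 := (v.2.2, v.1 + v.2.2, v.2.1)
def bB (v : ZMod 2 × ZMod 2 × ZMod 2) : ZMod 2 × ZMod 2 × ZMod 2 := (v.1, v.2.2, v.2.1 + v.2.2)

def e0 : Act (ZMod 2 × ZMod 2 × ZMod 2) (Ext fr) where
  act h v := bA^[h.v.val] (bB^[h.h.toAdd.1.val] v)
  add := by decide +kernel
  one := by decide +kernel
  mul := by decide +kernel

theorem e0_cnt : Cnt (Ext e0) (tbl 1 8 57 8 120 49 120 56 105 56 168 168) :=
  Cnt.mk' (by decide +kernel) (by decide +kernel) (by decide +kernel) (by decide +kernel) (by decide +kernel) (by decide +kernel) (by decide +kernel) (by decide +kernel) (by decide +kernel) (by decide +kernel) (by decide +kernel) (by decide +kernel)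

def e1 : Act (ZMod 4 × ZMod 2) (Multiplicative (ZMod 2 × ZMod 1)) :=
  chr 2 1 (ZMod 4 × ZMod 2) (3, 1) (1, 1) (by decide +kernel)

theorem e1_cnt : Cnt (Ext e1) (tbl 1 12 1 16 12 1 16 12 1 16 12 16) :=
  Cnt.mk' (by decide +kernel) (by decide +kernel) (by decide +kernel) (by decide +kernel) (by decide +kernel) (by decide +kernel) (by decide +kernel) (by decide +kernel) (by decide +kernel) (by decide +kernel) (by decide +kernel) (by decide +kernel)

def e2 : Act (ZMod 4 × ZMod 4) (Multiplicative (ZMod 2 × ZMod 1)) :=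
  chr 2 1 (ZMod 4 × ZMod 4) (1, 3) (1, 1) (by decide +kernel)

theorem e2_cnt : Cnt (Ext e2) (tbl 1 12 1 32 12 1 32 12 1 32 12 32) :=
  Cnt.mk' (by decide +kernel) (by decide +kernel) (by decide +kernel) (by decide +kernel) (by decide +kernel) (by decide +kernel) (by decide +kernel) (by decide +kernel) (by decide +kernel) (by decide +kernel) (by decide +kernel) (by decide +kernel)

def e3 : Act (ZMod 3 × ZMod 3 × ZMod 7) (Multiplicative (ZMod 2 × ZMod 2)) :=
  chr 2 2 (ZMod 3 × ZMod 3 × ZMod 7) (1, 1, 1) (2, 2, 1) (by decide +kernel)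

theorem e3_cnt : Cnt (Ext e3) (tbl 1 20 9 20 36 7 36 140 63 140 252 252) :=
  Cnt.mk' (by decide +kernel) (by decide +kernel) (by decide +kernel) (by decide +kernel) (by decide +kernel) (by decide +kernel) (by decide +kernel) (by decide +kernel) (by decide +kernel) (by decide +kernel) (by decide +kernel) (by decide +kernel)

def e4 : Act (ZMod 7 × ZMod 7) (Multiplicative (ZMod 3 × ZMod 1)) :=
  chr 3 1 (ZMod 7 × ZMod 7) (1, 2) (1, 1) (by decide +kernel)

theorem e4_cnt : Cnt (Ext e4) (tbl 1 1 15 1 15 49 15 49 147 49 147 147) :=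
  Cnt.mk' (by decide +kernel) (by decide +kernel) (by decide +kernel) (by decide +kernel) (by decide +kernel) (by decide +kernel) (by decide +kernel) (by decide +kernel) (by decide +kernel) (by decide +kernel) (by decide +kernel) (by decide +kernel)

def e5 : Act (ZMod 7 × ZMod 4) (Multiplicative (ZMod 3 × ZMod 1)) :=
  chr 3 1 (ZMod 7 × ZMod 4) (2, 1) (1, 1) (by decide +kernel)

theorem e5_cnt : Cnt (Ext e5) (tbl 1 2 15 4 30 7 60 14 21 28 42 84) :=
  Cnt.mk' (by decide +kernel) (by decide +kernel) (by decide +kernel) (by decide +kernel) (by decide +kernel) (by decide +kernel) (by decide +kernel) (by decide +kernel) (by decide +kernel) (by decide +kernel) (by decide +kernel) (by decide +kernel)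

def e6 : Act (ZMod 7 × ZMod 7 × ZMod 2) (Multiplicative (ZMod 4 × ZMod 1)) :=
  chr 4 1 (ZMod 7 × ZMod 7 × ZMod 2) (6, 6, 1) (1, 1, 1) (by decide +kernel)

theorem e6_cnt : Cnt (Ext e6) (tbl 1 4 1 200 4 49 200 196 49 392 196 392) :=
  Cnt.mk' (by decide +kernel) (by decide +kernel) (by decide +kernel) (by decide +kernel) (by decide +kernel) (by decide +kernel) (by decide +kernel) (by decide +kernel) (by decide +kernel) (by decide +kernel) (by decide +kernel) (by decide +kernel)

def e7 : Act (ZMod 7 × ZMod 7) (Multiplicative (ZMod 12 × ZMod 1)) :=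
  chr 12 1 (ZMod 7 × ZMod 7) (3, 6) (1, 1) (by decide +kernel)

theorem e7_cnt : Cnt (Ext e7) (tbl 1 2 15 100 30 49 324 98 147 196 294 588) :=
  Cnt.mk' (by decide +kernel) (by decide +kernel) (by decide +kernel) (by decide +kernel) (by decide +kernel) (by decide +kernel) (by decide +kernel) (by decide +kernel) (by decide +kernel) (by decide +kernel) (by decide +kernel) (by decide +kernel)

def e8 : Act (ZMod 3 × ZMod 3 × ZMod 3) (Multiplicative (ZMod 2 × ZMod 12)) :=
  chr 2 12 (ZMod 3 × ZMod 3 × ZMod 3) (2, 2, 2) (1, 1, 2) (by decide +kernel)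

theorem e8_cnt : Cnt (Ext e8) (tbl 1 56 81 80 324 1 648 56 81 80 324 648) :=
  Cnt.mk' (by decide +kernel) (by decide +kernel) (by decide +kernel) (by decide +kernel) (by decide +kernel) (by decide +kernel) (by decide +kernel) (by decide +kernel) (by decide +kernel) (by decide +kernel) (by decide +kernel) (by decide +kernel)

def e9 : Act (ZMod 3 × ZMod 7) (Multiplicative (ZMod 2 × ZMod 6)) :=
  chr 2 6 (ZMod 3 × ZMod 7) (1, 6) (2, 2) (by decide +kernel)

theorem e9_cnt : Cnt (Ext e9) (tbl 1 32 45 32 216 7 216 56 63 56 252 252) :=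
  Cnt.mk' (by decide +kernel) (by decide +kernel) (by decide +kernel) (by decide +kernel) (by decide +kernel) (by decide +kernel) (by decide +kernel) (by decide +kernel) (by decide +kernel) (by decide +kernel) (by decide +kernel) (by decide +kernel)

def e10 : Act (ZMod 3 × ZMod 4 × ZMod 2) (Multiplicative (ZMod 2 × ZMod 1)) :=
  chr 2 1 (ZMod 3 × ZMod 4 × ZMod 2) (2, 3, 1) (1, 1, 1) (by decide +kernel)

theorem e10_cnt : Cnt (Ext e10) (tbl 1 28 3 32 36 1 48 28 3 32 36 48) :=
  Cnt.mk' (by decide +kernel) (by decide +kernel) (by decide +kernel) (by decide +kernel) (by decide +kernel) (by decide +kernel) (by decide +kernel) (by decide +kernel) (by decide +kernel) (by decide +kernel) (by decide +kernel) (by decide +kernel)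

def e11 : Act (ZMod 7 × ZMod 7 × ZMod 4) (Multiplicative (ZMod 2 × ZMod 2)) :=
  chr 2 2 (ZMod 7 × ZMod 7 × ZMod 4) (1, 6, 3) (6, 1, 3) (by decide +kernel)

theorem e11_cnt : Cnt (Ext e11) (tbl 1 156 1 256 156 49 256 588 49 784 588 784) :=
  Cnt.mk' (by decide +kernel) (by decide +kernel) (by decide +kernel) (by decide +kernel) (by decide +kernel) (by decide +kernel) (by decide +kernel) (by decide +kernel) (by decide +kernel) (by decide +kernel) (by decide +kernel) (by decide +kernel)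

def e12 : Act (ZMod 7 × ZMod 2 × ZMod 2) (Multiplicative (ZMod 4 × ZMod 1)) :=
  chr 4 1 (ZMod 7 × ZMod 2 × ZMod 2) (6, 1, 1) (1, 1, 1) (by decide +kernel)

theorem e12_cnt : Cnt (Ext e12) (tbl 1 8 1 64 8 7 64 56 7 112 56 112) :=
  Cnt.mk' (by decide +kernel) (by decide +kernel) (by decide +kernel) (by decide +kernel) (by decide +kernel) (by decide +kernel) (by decide +kernel) (by decide +kernel) (by decide +kernel) (by decide +kernel) (by decide +kernel) (by decide +kernel)

def e13 : Act (ZMod 7 × ZMod 7 × ZMod 2) (Multiplicative (ZMod 6 × ZMod 1)) :=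
  chr 6 1 (ZMod 7 × ZMod 7 × ZMod 2) (3, 6, 1) (1, 1, 1) (by decide +kernel)

theorem e13_cnt : Cnt (Ext e13) (tbl 1 100 15 100 324 49 324 196 147 196 588 588) :=
  Cnt.mk' (by decide +kernel) (by decide +kernel) (by decide +kernel) (by decide +kernel) (by decide +kernel) (by decide +kernel) (by decide +kernel) (by decide +kernel) (by decide +kernel) (by decide +kernel) (by decide +kernel) (by decide +kernel)

def e14 : Act (ZMod 3 × ZMod 3 × ZMod 7) (Multiplicative (ZMod 2 × ZMod 4)) :=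
  chr 2 4 (ZMod 3 × ZMod 3 × ZMod 7) (2, 2, 6) (1, 1, 6) (by decide +kernel)

theorem e14_cnt : Cnt (Ext e14) (tbl 1 128 9 160 144 7 288 140 63 280 252 504) :=
  Cnt.mk' (by decide +kernel) (by decide +kernel) (by decide +kernel) (by decide +kernel) (by decide +kernel) (by decide +kernel) (by decide +kernel) (by decide +kernel) (by decide +kernel) (by decide +kernel) (by decide +kernel) (by decide +kernel)

def e15 : Act (ZMod 3 × ZMod 3 × ZMod 7) (Multiplicative (ZMod 2 × ZMod 2)) :=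
  chr 2 2 (ZMod 3 × ZMod 3 × ZMod 7) (1, 2, 6) (2, 1, 6) (by decide +kernel)

theorem e15_cnt : Cnt (Ext e15) (tbl 1 52 9 52 144 7 144 112 63 112 252 252) :=
  Cnt.mk' (by decide +kernel) (by decide +kernel) (by decide +kernel) (by decide +kernel) (by decide +kernel) (by decide +kernel) (by decide +kernel) (by decide +kernel) (by decide +kernel) (by decide +kernel) (by decide +kernel) (by decide +kernel)

def e16 : Act (ZMod 3 × ZMod 3 × ZMod 7) (Multiplicative (ZMod 2 × ZMod 4)) :=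
  chr 2 4 (ZMod 3 × ZMod 3 × ZMod 7) (1, 2, 6) (2, 1, 6) (by decide +kernel)

theorem e16_cnt : Cnt (Ext e16) (tbl 1 44 9 104 144 7 288 56 63 224 252 504) :=
  Cnt.mk' (by decide +kernel) (by decide +kernel) (by decide +kernel) (by decide +kernel) (by decide +kernel) (by decide +kernel) (by decide +kernel) (by decide +kernel) (by decide +kernel) (by decide +kernel) (by decide +kernel) (by decide +kernel)

def e17 : Act (ZMod 3 × ZMod 2) (Multiplicative (ZMod 4 × ZMod 1)) :=
  chr 4 1 (ZMod 3 × ZMod 2) (2, 1) (1, 1) (by decide +kernel)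

theorem e17_cnt : Cnt (Ext e17) (tbl 1 4 3 16 12 1 24 4 3 16 12 24) :=
  Cnt.mk' (by decide +kernel) (by decide +kernel) (by decide +kernel) (by decide +kernel) (by decide +kernel) (by decide +kernel) (by decide +kernel) (by decide +kernel) (by decide +kernel) (by decide +kernel) (by decide +kernel) (by decide +kernel)

/-- `GL(3, 2)`. -/
abbrev LL := Matrix.SpecialLinearGroup (Fin 3) (ZMod 2)

@[ext] structure R3 where
  a : ZMod 2
  b : ZMod 2
  c : ZMod 2
deriving DecidableEq

@[ext] structure T9 where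
  x : R3
  y : R3
  z : R3
deriving DecidableEq

def R3.dot (r : R3) (M : T9) : R3 :=
  ⟨r.a * M.x.a + r.b * M.y.a + r.c * M.z.a, r.a * M.x.b + r.b * M.y.b + r.c * M.z.b,
    r.a * M.x.c + r.b * M.y.c + r.c * M.z.c⟩

instance : Mul T9 := ⟨fun M N => ⟨M.x.dot N, M.y.dot N, M.z.dot N⟩⟩
instance : One T9 := ⟨⟨⟨1, 0, 0⟩, ⟨0, 1, 0⟩, ⟨0, 0, 1⟩⟩⟩
theorem T9.mul_def (M N : T9) : M * N = ⟨M.x.dot N, M.y.dot N, M.z.dot N⟩ := rfl
theorem T9.one_def : (1 : T9) = ⟨⟨1, 0, 0⟩, ⟨0, 1, 0⟩, ⟨0, 0, 1⟩⟩ := rfl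

instance : Monoid T9 where
  mul_assoc M N K := by ext <;> simp only [T9.mul_def, R3.dot] <;> ring
  one_mul M := by ext <;> simp [T9.mul_def, T9.one_def, R3.dot]
  mul_one M := by ext <;> simp [T9.mul_def, T9.one_def, R3.dot]

def enc : LL →* T9 where
  toFun g := ⟨⟨g.1 0 0, g.1 0 1, g.1 0 2⟩, ⟨g.1 1 0, g.1 1 1, g.1 1 2⟩, ⟨g.1 2 0, g.1 2 1, g.1 2 2⟩⟩
  map_one' := by decide +kernel
  map_mul' g h := by
    ext <;> simp [T9.mul_def, R3.dot, Matrix.mul_apply, Fin.sum_univ_three]

theorem enc_inj : Function.Injective enc := by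
  intro g h e
  apply Subtype.ext
  ext i j
  simp only [enc, MonoidHom.coe_mk, OneHom.coe_mk, T9.mk.injEq, R3.mk.injEq] at e
  fin_cases i <;> fin_cases j <;> tauto

theorem enc_iff {a : T9} {b : LL} (h : a = enc b) : b = 1 ↔ a = 1 := by
  rw [h, ← map_one enc, enc_inj.eq_iff]

theorem enc2 (x : LL) : q2 (enc x) = enc (q2 x) := by simp [q2, q3, q4, q6, q7, q12, q14, q21, q28, q42, q84]
theorem enc3 (x : LL) : q3 (enc x) = enc (q3 x) := by simp [q2, q3, q4, q6, q7, q12, q14, q21, q28, q42, q84]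
theorem enc4 (x : LL) : q4 (enc x) = enc (q4 x) := by simp [q2, q3, q4, q6, q7, q12, q14, q21, q28, q42, q84]
theorem enc6 (x : LL) : q6 (enc x) = enc (q6 x) := by simp [q2, q3, q4, q6, q7, q12, q14, q21, q28, q42, q84]
theorem enc7 (x : LL) : q7 (enc x) = enc (q7 x) := by simp [q2, q3, q4, q6, q7, q12, q14, q21, q28, q42, q84]
theorem enc12 (x : LL) : q12 (enc x) = enc (q12 x) := by simp [q2, q3, q4, q6, q7, q12, q14, q21, q28, q42, q84]
theorem enc14 (x : LL) : q14 (enc x) = enc (q14 x) := by simp [q2, q3, q4, q6, q7, q12, q14, q21, q28, q42, q84]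
theorem enc21 (x : LL) : q21 (enc x) = enc (q21 x) := by simp [q2, q3, q4, q6, q7, q12, q14, q21, q28, q42, q84]
theorem enc28 (x : LL) : q28 (enc x) = enc (q28 x) := by simp [q2, q3, q4, q6, q7, q12, q14, q21, q28, q42, q84]
theorem enc42 (x : LL) : q42 (enc x) = enc (q42 x) := by simp [q2, q3, q4, q6, q7, q12, q14, q21, q28, q42, q84]
theorem enc84 (x : LL) : q84 (enc x) = enc (q84 x) := by simp [q2, q3, q4, q6, q7, q12, q14, q21, q28, q42, q84]
set_option maxHeartbeats 4000000 in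
theorem ll_cnt : Cnt LL (tbl 1 22 57 64 78 49 120 70 105 112 126 168) :=
  Cnt.mk'
    (fun x => enc_inj ((enc84 x).symm.trans ((show ∀ x : LL, q84 (enc x) = 1 by decide +kernel) x) |>.trans (map_one enc).symm))
    (by decide +kernel)
    (by simp only [fun x => enc_iff (enc2 x)]; decide +kernel)
    (by simp only [fun x => enc_iff (enc3 x)]; decide +kernel)
    (by simp only [fun x => enc_iff (enc4 x)]; decide +kernel)
    (by simp only [fun x => enc_iff (enc6 x)]; decide +kernel)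
    (by simp only [fun x => enc_iff (enc7 x)]; decide +kernel)
    (by simp only [fun x => enc_iff (enc12 x)]; decide +kernel)
    (by simp only [fun x => enc_iff (enc14 x)]; decide +kernel)
    (by simp only [fun x => enc_iff (enc21 x)]; decide +kernel)
    (by simp only [fun x => enc_iff (enc28 x)]; decide +kernel)
    (by simp only [fun x => enc_iff (enc42 x)]; decide +kernel)


def tr (i j : Fin 3) : Matrix (Fin 3) (Fin 3) (ZMod 2) := fun a b => if a = b ∨ (a = i ∧ b = j) then 1 else 0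

theorem ll_not_solvable : ¬ Group.IsSolvable LL := by
  let T : Fin 3 → Fin 3 → LL := fun i j =>
    if h : i = j then 1 else ⟨tr i j, (show ∀ i j : Fin 3, i ≠ j → (tr i j).det = 1 by decide +kernel) i j h⟩
  have hk : ∀ i j k : Fin 3, i ≠ j → i ≠ k → k ≠ j → T i j = T i k * T k j * T i k * T k j := by
    decide +kernel
  have hinv : ∀ i j : Fin 3, T i j * T i j = 1 := by decide +kernel
  have hm : ∀ n : ℕ, ∀ i j : Fin 3, i ≠ j → T i j ∈ derivedSeries LL n := by
    intro n
    induction n with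
    | zero => intros; exact Subgroup.mem_top _
    | succ n ih =>
      intro i j hij
      obtain ⟨k, hik, hkj⟩ := (show ∀ i j : Fin 3, i ≠ j → ∃ k, i ≠ k ∧ k ≠ j by decide) i j hij
      rw [derivedSeries_succ]
      have := Subgroup.commutator_mem_commutator (ih i k hik) (ih k j hkj)
      rwa [commutatorElement_def, inv_eq_of_mul_eq_one_right (hinv i k), inv_eq_of_mul_eq_one_right (hinv k j),
        ← hk i j k hij hik hkj] at this
  exact not_isSolvable_of_mem_derivedSeries (g := T 0 1) (by decide +kernel) (fun n => hm n 0 1 (by decide))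

abbrev GS : Type := (Fin 3 → Ext e0) × ((Fin 8 → Ext e2) × ((Fin 6 → Ext e3) × ((Fin 1 → Ext e5) × ((Fin 2 → Ext e6) × ((Fin 1 → Ext e7) × ((Fin 6 → Ext e9) × ((Fin 3 → Ext e10) × ((Fin 3 → Ext e11) × ((Fin 3 → Ext e16))))))))))

abbrev HS : Type := (Fin 3 → LL) × ((Fin 11 → Ext e1) × ((Fin 5 → Ext e4) × ((Fin 3 → Ext e8) × ((Fin 6 → Ext e12) × ((Fin 3 → Ext e13) × ((Fin 3 → Ext e14) × ((Fin 3 → Ext e15) × ((Fin 3 → Ext e17)))))))))

theorem gs_cnt : Cnt GS (fun d => tbl 1 8 57 8 120 49 120 56 105 56 168 168 d ^ 3 * (tbl 1 12 1 32 12 1 32 12 1 32 12 32 d ^ 8 * (tbl 1 20 9 20 36 7 36 140 63 140 252 252 d ^ 6 * (tbl 1 2 15 4 30 7 60 14 21 28 42 84 d ^ 1 * (tbl 1 4 1 200 4 49 200 196 49 392 196 392 d ^ 2 * (tbl 1 2 15 100 30 49 324 98 147 196 294 588 d ^ 1 * (tbl 1 32 45 32 216 7 216 56 63 56 252 252 d ^ 6 * (tbl 1 28 3 32 36 1 48 28 3 32 36 48 d ^ 3 * (tbl 1 156 1 256 156 49 256 588 49 784 588 784 d ^ 3 * (tbl 1 44 9 104 144 7 288 56 63 224 252 504 d ^ 3))))))))))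 :=
  (Cnt.prod (e0_cnt.pow 3) (Cnt.prod (e2_cnt.pow 8) (Cnt.prod (e3_cnt.pow 6) (Cnt.prod (e5_cnt.pow 1) (Cnt.prod (e6_cnt.pow 2) (Cnt.prod (e7_cnt.pow 1) (Cnt.prod (e9_cnt.pow 6) (Cnt.prod (e10_cnt.pow 3) (Cnt.prod (e11_cnt.pow 3) (e16_cnt.pow 3))))))))))

theorem hs_cnt : Cnt HS (fun d => tbl 1 22 57 64 78 49 120 70 105 112 126 168 d ^ 3 * (tbl 1 12 1 16 12 1 16 12 1 16 12 16 d ^ 11 * (tbl 1 1 15 1 15 49 15 49 147 49 147 147 d ^ 5 * (tbl 1 56 81 80 324 1 648 56 81 80 324 648 d ^ 3 * (tbl 1 8 1 64 8 7 64 56 7 112 56 112 d ^ 6 * (tbl 1 100 15 100 324 49 324 196 147 196 588 588 d ^ 3 * (tbl 1 128 9 160 144 7 288 140 63 280 252 504 d ^ 3 * (tbl 1 52 9 52 144 7 144 112 63 112 252 252 d ^ 3 * (tbl 1 4 3 16 12 1 24 4 3 16 12 24 d ^ 3))))))))) :=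
  (Cnt.prod (ll_cnt.pow 3) (Cnt.prod (e1_cnt.pow 11) (Cnt.prod (e4_cnt.pow 5) (Cnt.prod (e8_cnt.pow 3) (Cnt.prod (e12_cnt.pow 6) (Cnt.prod (e13_cnt.pow 3) (Cnt.prod (e14_cnt.pow 3) (Cnt.prod (e15_cnt.pow 3) (e17_cnt.pow 3)))))))))


/-- There are finite groups G and H having the same number of elements of each order (the same order type) with G solvable and H not solvable. -/
theorem result :
    ∃ (G : Type) (_ : Group G) (_ : Finite G) (H : Type) (_ : Group H) (_ : Finite H),
      Group.IsSolvable G ∧ ¬ Group.IsSolvable H ∧ ∀ n : ℕ, Nat.card {g : G // orderOf g = n} = Nat.card {h : H // orderOf h = n} := by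
  refine ⟨GS, inferInstance, inferInstance, HS, inferInstance, inferInstance, inferInstance, ?_, same_orders ?_⟩
  · intro hs
    haveI : Group.IsSolvable (Fin 3 → LL) := Group.isSolvable_of_surjective (G := HS) (f := MonoidHom.fst (Fin 3 → LL) _)
      (fun a => ⟨(a, 1), rfl⟩)
    exact ll_not_solvable (Group.isSolvable_of_surjective (f := Pi.evalMonoidHom (fun _ : Fin 3 => LL) 0)
      (fun a => ⟨fun _ => a, rfl⟩))
  · intro n
    rw [gs_cnt n, hs_cnt n]
    have hd : Nat.gcd n 84 ∈ Nat.divisors 84 := Nat.mem_divisors.2 ⟨Nat.gcd_dvd_right _ _, by norm_num⟩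
    revert hd
    generalize Nat.gcd n 84 = d
    revert d
    decide +kernel

end Cfsg.Agent.S4376
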