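import Cfsg.Statements.S4377


set_option autoImplicit false
open Cfsg

namespace Cfsg.Agent.S4377


theorem count_eq (K : Type*) [Group K] [Fintype K] (n N : ℕ) (hN : Nat.card K ≤ N) :
    Nat.card {g : K // g ^ n = 1} =
      ∑ d ∈ (Finset.range (N + 1)).filter (· ∣ n), Nat.card {g : K // orderOf g = d} := by
  classical
  simp only [Nat.card_eq_fintype_card, Fintype.card_subtype]
  rw [← Finset.card_biUnion]
  · congr 1
    ext g
    simp only [Finset.mem_filter, Finset.mem_univ, true_and, Finset.mem_biUnion, Finset.mem_range,
      exists_eq_right, orderOf_dvd_iff_pow_eq_one]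
    refine ⟨fun h => ⟨g |> orderOf, ⟨?_, orderOf_dvd_iff_pow_eq_one.2 h⟩, rfl⟩,
      fun ⟨d, ⟨_, hd⟩, hg⟩ => orderOf_dvd_iff_pow_eq_one.1 (hg ▸ hd)⟩
    exact Nat.lt_succ_of_le ((orderOf_le_card_univ).trans (by rwa [← Nat.card_eq_fintype_card]))
  · intro a _ b _ hab
    simp only [Function.onFun, Finset.disjoint_left, Finset.mem_filter, Finset.mem_univ, true_and]
    exact fun g ha hb => hab (ha.symm.trans hb)

theorem count_div (K : Type*) [Group K] [Fintype K] (n : ℕ) (hn : 0 < n) :
    Nat.card {g : K // g ^ n = 1} = ∑ d ∈ n.divisors, Nat.card {g : K // orderOf g = d} := by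
  rw [count_eq K n (Nat.card K + n) (Nat.le_add_right _ _)]
  refine Finset.sum_congr ?_ fun _ _ => rfl
  ext d
  simp only [Finset.mem_filter, Finset.mem_range, Nat.mem_divisors]
  exact ⟨fun h => ⟨h.2, hn.ne'⟩, fun h => ⟨by have := Nat.le_of_dvd hn h.1; omega, h.1⟩⟩


/-- Two finite groups have the same number of elements of each order if and only if, for every n, they have the same number of elements g with gⁿ = 1. -/
theorem result {G H : Type*} [Group G] [Finite G] [Group H] [Finite H] :
    (∀ n : ℕ, Nat.card {g : G // orderOf g = n} = Nat.card {h : H // orderOf h = n}) ↔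
      ∀ n : ℕ, Nat.card {g : G // g ^ n = 1} = Nat.card {h : H // h ^ n = 1} := by
  classical
  constructor
  · intro h n
    have := Fintype.ofFinite G
    have := Fintype.ofFinite H
    rw [count_eq G n (Nat.card G + Nat.card H) (Nat.le_add_right _ _),
      count_eq H n (Nat.card G + Nat.card H) (Nat.le_add_left _ _)]
    exact Finset.sum_congr rfl fun d _ => by rw [h d]
  · intro h n
    induction n using Nat.strong_induction_on with
    | _ n ih =>
      rcases Nat.eq_zero_or_pos n with rfl | hn
      · have : IsEmpty {g : G // orderOf g = 0} := ⟨fun g => (orderOf_pos g.1).ne' g.2⟩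
        have : IsEmpty {g : H // orderOf g = 0} := ⟨fun g => (orderOf_pos g.1).ne' g.2⟩
        rw [Nat.card_of_isEmpty, Nat.card_of_isEmpty]
      have e := h n
      have := Fintype.ofFinite G
      have := Fintype.ofFinite H
      rw [count_div G n hn, count_div H n hn, ← Nat.insert_self_properDivisors hn.ne',
        Finset.sum_insert Nat.self_notMem_properDivisors,
        Finset.sum_insert Nat.self_notMem_properDivisors,
        Finset.sum_congr rfl (fun d hd => ih d (Nat.mem_properDivisors.1 hd).2)] at e
      exact Nat.add_right_cancel e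

end Cfsg.Agent.S4377
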