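import Cfsg.Statements.S4381
import Mathlib
import Cfsg.Agent.Lib.Coprime.Sylow
import Cfsg.Agent.Lib.PGroup.Frattini
import Cfsg.Agent.Lib.PGroup.Kulakoff
import Cfsg.Agent.S3775
-- import your own Cfsg.Agent.* helpers here

set_option autoImplicit false
open Pointwise
open Cfsg

namespace Cfsg.Agent.S4381

open scoped Pointwise commutatorElement

section
variable {A G : Type*} [Group A] [Finite A] [Group G] [Finite G] [MulDistribMulAction A G]

/-- An invariant subgroup of full `p`-part order. -/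
theorem exists_invariant_ordProj (hcop : (Nat.card A).Coprime (Nat.card G))
    (hsol : Group.IsSolvable A ∨ Group.IsSolvable G) (p : ℕ) [Fact p.Prime] :
    ∃ P : Subgroup G, Nat.card P = p ^ (Nat.card G).factorization p ∧
      ∀ a : A, ∀ x ∈ P, a • x ∈ P := by
  let φ := MulDistribMulAction.toMulAut A G
  let X := SemidirectProduct G A φ
  haveI : Finite X := Finite.of_equiv _ SemidirectProduct.equivProd.symm
  set K : Subgroup X := (SemidirectProduct.inl : G →* X).range with hK
  set A' : Subgroup X := (SemidirectProduct.inr : A →* X).range with hA'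
  haveI hKn : K.Normal := by
    rw [hK, SemidirectProduct.range_inl_eq_ker_rightHom]
    infer_instance
  have hnorm : A' ≤ Subgroup.normalizer (K : Set X) := by
    rw [Subgroup.normalizer_eq_top]; exact le_top
  let eK := MonoidHom.ofInjective (SemidirectProduct.inl_injective (φ := φ))
  let eA := MonoidHom.ofInjective (SemidirectProduct.inr_injective (φ := φ))
  have hKc : Nat.card K = Nat.card G := (Nat.card_congr eK.toEquiv).symm
  have hAc : Nat.card A' = Nat.card A := (Nat.card_congr eA.toEquiv).symm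
  obtain ⟨P, hP⟩ := CfsgLib.Coprime.exists_invariant_sylow hnorm (by rw [hKc, hAc]; exact hcop)
    (hsol.imp (fun h => @Group.isSolvable_of_surjective _ _ _ _ eA.toMonoidHom eA.surjective h)
      (fun h => @Group.isSolvable_of_surjective _ _ _ _ eK.toMonoidHom eK.surjective h)) p
  refine ⟨(P : Subgroup K).map eK.symm.toMonoidHom, ?_, ?_⟩
  · rw [Subgroup.card_map_of_injective eK.symm.injective, P.card_eq_multiplicity, hKc]
  · rintro a _ ⟨k, hk, rfl⟩
    have h1 := (Subgroup.mem_normalizer_iff.1 (hP (⟨a, rfl⟩ : SemidirectProduct.inr a ∈ A'))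
      (k : X)).1 ⟨k, hk, rfl⟩
    obtain ⟨k', hk', he⟩ := h1
    refine ⟨k', hk', eK.injective (Subtype.ext ?_)⟩
    change ((eK (eK.symm k') : K) : X) = SemidirectProduct.inl (φ a (eK.symm k))
    rw [eK.apply_symm_apply, SemidirectProduct.inl_aut]
    change (k' : X) = _
    rw [show SemidirectProduct.inl (eK.symm k) = ((eK (eK.symm k) : K) : X) from rfl, eK.apply_symm_apply,
      map_inv]
    exact he

omit [Finite A] in
/-- A proper invariant subgroup lies in a maximal one. -/
theorem exists_maxInv {H : Subgroup G} (hH : H ≠ ⊤) (hinv : ∀ a : A, ∀ x ∈ H, a • x ∈ H) :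
    ∃ M : Subgroup G, H ≤ M ∧ M ≠ ⊤ ∧ (∀ a : A, ∀ x ∈ M, a • x ∈ M) ∧
      ∀ L : Subgroup G, M < L → (∀ a : A, ∀ x ∈ L, a • x ∈ L) → L = ⊤ := by
  obtain ⟨M, hHM, hM⟩ := Finite.exists_le_maximal
    (p := fun M : Subgroup G => M ≠ ⊤ ∧ ∀ a : A, ∀ x ∈ M, a • x ∈ M) ⟨hH, hinv⟩
  refine ⟨M, hHM, hM.prop.1, hM.prop.2, fun L hL hLi => ?_⟩
  by_contra hne
  exact hL.not_ge (hM.le_of_ge ⟨hne, hLi⟩ hL.le)

omit [Finite A] in
theorem frattini_le_maxInv {M : Subgroup G} (hM : M ≠ ⊤) (hinv : ∀ a : A, ∀ x ∈ M, a • x ∈ M)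
    (hmax : ∀ L : Subgroup G, M < L → (∀ a : A, ∀ x ∈ L, a • x ∈ L) → L = ⊤) :
    frattini G ≤ M := by
  by_contra h
  refine hM (frattini_nongenerating (K := M) ?_)
  refine hmax _ (left_lt_sup.2 h) fun a x hx => ?_
  have hc := Subgroup.characteristic_iff_map_le.1 (inferInstance : (frattini G).Characteristic)
    (MulDistribMulAction.toMulAut A G a)
  have hle : (M ⊔ frattini G).map (MulDistribMulAction.toMulAut A G a).toMonoidHom
      ≤ M ⊔ frattini G := by
    rw [Subgroup.map_sup]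
    refine sup_le_sup ?_ hc
    rintro _ ⟨y, hy, rfl⟩
    exact hinv a y hy
  exact hle ⟨x, hx, rfl⟩

/-- An abelian exponent `p` invariant section has no room for a unique maximal invariant subgroup. -/
theorem eq_frattini_of_unique {p : ℕ} [Fact p.Prime] (hG : IsPGroup p G)
    (hcop : (Nat.card A).Coprime (Nat.card G)) (hne : Nontrivial G) {M : Subgroup G} (hM : M ≠ ⊤)
    (hinv : ∀ a : A, ∀ x ∈ M, a • x ∈ M) (hΦ : frattini G ≤ M)
    (hall : ∀ L : Subgroup G, L ≠ ⊤ → (∀ a : A, ∀ x ∈ L, a • x ∈ L) → L ≤ M) :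
    M = frattini G := by
  classical
  by_contra hMΦ
  letI : CommGroup (G ⧸ frattini G) :=
    { (inferInstance : Group (G ⧸ frattini G)) with
      mul_comm := fun x y => by
        obtain ⟨x, rfl⟩ := QuotientGroup.mk_surjective x
        obtain ⟨y, rfl⟩ := QuotientGroup.mk_surjective y
        rw [← QuotientGroup.mk_mul, ← QuotientGroup.mk_mul]
        refine QuotientGroup.eq.2 ?_
        rw [show (x * y)⁻¹ * (y * x) = ⁅y⁻¹, x⁻¹⁆ by rw [commutatorElement_def]; group]
        exact CfsgLib.PGroup.Kulakoff.commutator_le_frattini hG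
          (Subgroup.commutator_mem_commutator (Subgroup.mem_top _) (Subgroup.mem_top _)) }
  have hexp : ∀ z : G ⧸ frattini G, z ^ p ^ (0 + 1) = 1 := fun z => by
    obtain ⟨z, rfl⟩ := QuotientGroup.mk_surjective z
    rw [zero_add, pow_one, ← QuotientGroup.mk_pow, QuotientGroup.eq_one_iff]
    exact CfsgLib.PGroup.Frattini.pow_mem_frattini hG z
  let act : A →* MulAut (G ⧸ frattini G) :=
    { toFun := fun a => QuotientGroup.congr (frattini G) (frattini G) (MulDistribMulAction.toMulAut A G a)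
        (Subgroup.characteristic_iff_map_eq.1 inferInstance _)
      map_one' := MulEquiv.ext fun x => by
        induction x using QuotientGroup.induction_on with
        | H y => exact congrArg QuotientGroup.mk (one_smul A y)
      map_mul' := fun a b => MulEquiv.ext fun x => by
        induction x using QuotientGroup.induction_on with
        | H y => exact congrArg QuotientGroup.mk (mul_smul a b y) }
  have hX : (Nat.card act.range).Coprime p := by
    refine Nat.Coprime.coprime_dvd_left (Subgroup.card_range_dvd act) ?_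
    obtain ⟨k, hk, hc⟩ := hG.nontrivial_iff_card.1 hne
    rw [hc] at hcop
    exact (Nat.coprime_pow_right_iff hk _ _).1 hcop
  set U := M.map (QuotientGroup.mk' (frattini G)) with hU
  have hcomap : U.comap (QuotientGroup.mk' (frattini G)) = M := by
    rw [hU, Subgroup.comap_map_eq_self]
    rwa [QuotientGroup.ker_mk']
  have hU0 : U ≠ ⊥ := fun h => hMΦ (by
    rw [← hcomap, h, MonoidHom.comap_bot, QuotientGroup.ker_mk'])
  have hUinv : ∀ x ∈ act.range, ∀ u ∈ U, x u ∈ U := by
    rintro _ ⟨a, rfl⟩ _ ⟨y, hy, rfl⟩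
    exact ⟨a • y, hinv a y hy, rfl⟩
  obtain ⟨z₀, hz₀⟩ : ∃ z₀ : G ⧸ frattini G, z₀ ∉ U := by
    by_contra h
    push Not at h
    exact hM (by rw [← hcomap, (Subgroup.eq_top_iff' U).2 h, Subgroup.comap_top])
  obtain ⟨B, C, hB, hC, hBi, hCi, hd, hs⟩ := Cfsg.Agent.S3775.decompose hexp act.range hX U hU0 hUinv
    (fun u _ => ⟨u, by rw [pow_zero, pow_one]⟩) z₀ (by simpa using hexp z₀) hz₀
  have key : ∀ D : Subgroup (G ⧸ frattini G), D ≠ ⊤ →
      (∀ x ∈ act.range, D.map x.toMonoidHom = D) → D ≤ U := by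
    intro D hD hDi
    have h1 := hall (D.comap (QuotientGroup.mk' (frattini G)))
      (fun h => hD (Subgroup.comap_injective (QuotientGroup.mk'_surjective _)
        (h.trans (Subgroup.comap_top _).symm)))
      (fun a x hx => (hDi (act a) ⟨a, rfl⟩).le ⟨_, hx, rfl⟩)
    intro d hdd
    obtain ⟨x, rfl⟩ := QuotientGroup.mk'_surjective _ d
    exact ⟨x, h1 hdd, rfl⟩
  have hBt : B ≠ ⊤ := fun h => hC (by rw [← hd, h, top_inf_eq])
  have hCt : C ≠ ⊤ := fun h => hB (by rw [← hd, h, inf_top_eq])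
  exact hz₀ ((hs ▸ sup_le (key B hBt hBi) (key C hCt hCi) : ⊤ ≤ U) (Subgroup.mem_top _))

end

/-- Let the finite group A act by automorphisms on the finite group G with the orders of A and G coprime, and assume that A or G is solvable. Call a proper A-invariant subgroup of G maximal A-invariant when no A-invariant subgroup lies strictly between it and G. Then all maximal A-invariant subgroups of G are conjugate under elements of the fixed-point subgroup C_G(A) if and only if G is a p-group for some prime p and A leaves invariant no subgroup strictly between the Frattini subgroup of G and G. In that case, if G is nontrivial, the Frattini subgroup is the only maximal A-invariant subgroup (a trivial G has none). -/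
theorem result {A G : Type*} [Group A] [Finite A]
    [Group G] [Finite G] [MulDistribMulAction A G] (hcop : (Nat.card A).Coprime (Nat.card G)) (hsol : Group.IsSolvable A ∨ Group.IsSolvable G) :
    ((∀ M N : Subgroup G, (M ≠ ⊤ ∧ (∀ a : A, ∀ x ∈ M, a • x ∈ M) ∧ ∀ L : Subgroup G, M < L → (∀ a : A, ∀ x ∈ L, a • x ∈ L) → L = ⊤) → (N ≠ ⊤ ∧ (∀ a : A, ∀ x ∈ N, a • x ∈ N) ∧ ∀ L : Subgroup G, N < L → (∀ a : A, ∀ x ∈ L, a • x ∈ L) → L = ⊤) →
        ∃ c : G, (∀ a : A, a • c = c) ∧ N = MulAut.conj c • M) ↔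
      ((∃ p : ℕ, p.Prime ∧ IsPGroup p G) ∧ ∀ L : Subgroup G, frattini G < L → (∀ a : A, ∀ x ∈ L, a • x ∈ L) → L = ⊤)) ∧
    (((∃ p : ℕ, p.Prime ∧ IsPGroup p G) ∧ ∀ L : Subgroup G, frattini G < L → (∀ a : A, ∀ x ∈ L, a • x ∈ L) → L = ⊤) →
      ∀ M : Subgroup G, (M ≠ ⊤ ∧ (∀ a : A, ∀ x ∈ M, a • x ∈ M) ∧ ∀ L : Subgroup G, M < L → (∀ a : A, ∀ x ∈ L, a • x ∈ L) → L = ⊤) ↔ (M = frattini G ∧ M ≠ ⊤)) := by
  classical
  set Inv : Subgroup G → Prop := fun M => ∀ a : A, ∀ x ∈ M, a • x ∈ M with hInv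
  have hback : ((∃ p : ℕ, p.Prime ∧ IsPGroup p G) ∧ ∀ L : Subgroup G, frattini G < L → Inv L → L = ⊤) →
      ∀ M : Subgroup G, (M ≠ ⊤ ∧ Inv M ∧ ∀ L : Subgroup G, M < L → Inv L → L = ⊤) ↔
        (M = frattini G ∧ M ≠ ⊤) := by
    rintro ⟨-, hL⟩ M
    constructor
    · rintro ⟨hne, hi, hmax⟩
      rcases (frattini_le_maxInv hne hi hmax).eq_or_lt with h | h
      · exact ⟨h.symm, hne⟩
      · exact absurd (hL M h hi) hne
    · rintro ⟨rfl, hne⟩
      refine ⟨hne, fun a x hx => ?_, hL⟩
      exact Subgroup.characteristic_iff_map_le.1 (inferInstance : (frattini G).Characteristic)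
        (MulDistribMulAction.toMulAut A G a) ⟨x, hx, rfl⟩
  refine ⟨⟨fun hconj => ?_, fun h M N hM hN => ?_⟩, hback⟩
  · have hcardeq : ∀ M N : Subgroup G, (M ≠ ⊤ ∧ Inv M ∧ ∀ L : Subgroup G, M < L → Inv L → L = ⊤) →
        (N ≠ ⊤ ∧ Inv N ∧ ∀ L : Subgroup G, N < L → Inv L → L = ⊤) →
        Nat.card N = Nat.card M := by
      intro M N hM hN
      obtain ⟨c, -, rfl⟩ := hconj M N hM hN
      exact Nat.card_congr (Subgroup.equivSMul (MulAut.conj c) M).toEquiv.symm
    have hpg : ∃ p : ℕ, p.Prime ∧ IsPGroup p G := by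
      by_contra hnp
      push Not at hnp
      have hP : ∀ p : ℕ, p.Prime → ∀ P : Subgroup G, Nat.card P = p ^ (Nat.card G).factorization p →
          P ≠ ⊤ := fun p hp P hc h => hnp p hp (IsPGroup.of_card (by rw [← hc, h, Subgroup.card_top]))
      obtain ⟨P2, hP2c, hP2i⟩ := @exists_invariant_ordProj A G _ _ _ _ _ hcop hsol 2 ⟨Nat.prime_two⟩
      obtain ⟨M0, -, hM0⟩ := exists_maxInv (hP 2 Nat.prime_two P2 hP2c) hP2i
      refine hM0.1 (Subgroup.eq_top_of_card_eq _ (Nat.dvd_antisymm (Subgroup.card_subgroup_dvd_card _) ?_))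
      rw [← Nat.factorization_prime_le_iff_dvd Nat.card_pos.ne' Nat.card_pos.ne']
      intro p hp
      haveI := Fact.mk hp
      obtain ⟨P, hPc, hPi⟩ := exists_invariant_ordProj (A := A) (G := G) hcop hsol p
      obtain ⟨N, hPN, hN⟩ := exists_maxInv (hP p hp P hPc) hPi
      have h1 : p ^ (Nat.card G).factorization p ∣ Nat.card M0 := by
        rw [← hcardeq M0 N hM0 hN, ← hPc]
        exact Subgroup.card_dvd_of_le hPN
      exact (hp.pow_dvd_iff_le_factorization Nat.card_pos.ne').1 h1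
    refine ⟨hpg, fun L hL hLi => ?_⟩
    obtain ⟨p, hp, hG⟩ := hpg
    haveI := Fact.mk hp
    by_contra hne
    obtain ⟨M, hLM, hM⟩ := exists_maxInv hne hLi
    have huniq : ∀ K : Subgroup G, K ≠ ⊤ → Inv K → K ≤ M := by
      intro K hK hKi
      obtain ⟨N, hKN, hN⟩ := exists_maxInv hK hKi
      obtain ⟨c, -, he⟩ := hconj M N hM hN
      haveI : (M).Normal := by
        refine ⟨fun x hx g => ?_⟩
        have h1 : ⁅g, x⁆ ∈ M := frattini_le_maxInv hM.1 hM.2.1 hM.2.2
          (CfsgLib.PGroup.Kulakoff.commutator_le_frattini hG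
            (Subgroup.commutator_mem_commutator (Subgroup.mem_top _) (Subgroup.mem_top _)))
        rw [show g * x * g⁻¹ = ⁅g, x⁆ * x by rw [commutatorElement_def]; group]
        exact mul_mem h1 hx
      rw [show MulAut.conj c • M = M from Subgroup.Normal.conj_smul_eq_self c M] at he
      exact he ▸ hKN
    have hnt : Nontrivial G := by
      by_contra hs
      rw [not_nontrivial_iff_subsingleton] at hs
      exact hne (Subsingleton.elim _ _)
    have := eq_frattini_of_unique hG hcop hnt hM.1 hM.2.1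
      (frattini_le_maxInv hM.1 hM.2.1 hM.2.2) huniq
    exact hL.not_ge (this ▸ hLM)
  · obtain ⟨rfl, -⟩ := (hback h M).1 hM
    obtain ⟨rfl, -⟩ := (hback h N).1 hN
    exact ⟨1, fun a => smul_one a, by rw [map_one, one_smul]⟩

end Cfsg.Agent.S4381
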