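import Cfsg.Statements.S4387


set_option autoImplicit false
open Pointwise
open Cfsg

namespace Cfsg.Agent.S4387

open scoped Pointwise


/-- Let G be a non-trivial finite group in which any two maximal subgroups are conjugate. Then G is cyclic of prime-power order. -/
theorem result {G : Type*} [Group G] [Finite G] [Nontrivial G]
    (h : ∀ M N : Subgroup G, IsCoatom M → IsCoatom N → ∃ g : G, N = MulAut.conj g • M) :
    IsCyclic G ∧ IsPrimePow (Nat.card G) := by
  classical
  obtain ⟨M, hM⟩ : ∃ M : Subgroup G, IsCoatom M := (IsCoatomic.exists_coatom _)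
  have huniv : ∃ g : G, ∀ a : G, a * g * a⁻¹ ∉ M := by
    by_contra hc
    simp only [not_exists, not_forall, not_not] at hc
    have := Fintype.ofFinite G
    have hs := MulAction.sum_card_fixedBy_eq_card_orbits_mul_card_group G (G ⧸ M)
    have h1 : Fintype.card (Quotient (MulAction.orbitRel G (G ⧸ M))) = 1 := by
      have := MulAction.pretransitive_iff_subsingleton_quotient G (G ⧸ M) |>.1 inferInstance
      exact le_antisymm (Fintype.card_le_one_iff_subsingleton.2 this) Fintype.card_pos
    rw [h1, one_mul, Fintype.card_eq_sum_ones (α := G)] at hs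
    refine absurd hs (ne_of_gt (Finset.sum_lt_sum (fun x _ => ?_) ⟨1, Finset.mem_univ _, ?_⟩))
    · obtain ⟨a, ha⟩ := hc x
      refine Fintype.card_pos_iff.2 ⟨⟨((a⁻¹ : G) : G ⧸ M), ?_⟩⟩
      rw [MulAction.mem_fixedBy, MulAction.Quotient.smul_coe, QuotientGroup.eq]
      simpa [mul_assoc] using M.inv_mem ha
    · rw [Fintype.one_lt_card_iff_nontrivial]
      obtain ⟨y, hy⟩ := SetLike.exists_not_mem_of_ne_top M hM.1
      exact ⟨⟨((1 : G) : G ⧸ M), by simp⟩, ⟨((y : G) : G ⧸ M), by simp⟩, fun e => hy (by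
        have e' : ((1 : G) : G ⧸ M) = (y : G ⧸ M) := congrArg Subtype.val e
        simpa using QuotientGroup.eq.1 e')⟩
  obtain ⟨g, hg⟩ := huniv
  have hcyc : Subgroup.zpowers g = ⊤ := by
    rcases eq_top_or_exists_le_coatom (Subgroup.zpowers g) with h1 | ⟨N, hN, hle⟩
    · exact h1
    · exfalso
      obtain ⟨a, rfl⟩ := h M N hM hN
      have h2 := hle (Subgroup.mem_zpowers g)
      rw [Subgroup.mem_pointwise_smul_iff_inv_smul_mem, ← map_inv, MulAut.smul_def,
        MulAut.conj_apply] at h2
      exact hg a⁻¹ h2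
  have hC : IsCyclic G := ⟨g, fun y => by
    have hy : y ∈ Subgroup.zpowers g := hcyc ▸ Subgroup.mem_top y
    exact hy⟩
  refine ⟨hC, ?_⟩
  have hn1 : Nat.card G ≠ 1 := (Finite.one_lt_card).ne'
  by_contra hpp
  have hall : ∀ p, p.Prime → ∀ P : Sylow p G, (P : Subgroup G) ≠ ⊤ := by
    intro p hp P hP
    have := Fact.mk hp
    apply hpp
    obtain ⟨k, hk⟩ := IsPGroup.iff_card.1 (P.isPGroup')
    have hPG : Nat.card P = Nat.card G := by
      rw [← Subgroup.card_top (G := G), ← hP]
    rw [hPG] at hk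
    rw [hk]
    exact hp.isPrimePow.pow fun h0 => hn1 (by rw [hk, h0, pow_zero])
  have hcomm := hC.isMulCommutative
  have hMuniq : ∀ N : Subgroup G, IsCoatom N → N = M := fun N hN => by
    obtain ⟨a, rfl⟩ := h M N hM hN
    have : M.Normal := Subgroup.normal_of_comm M
    exact Subgroup.Normal.conjAct this (ConjAct.toConjAct a)
  refine hM.1 (Subgroup.eq_top_of_card_eq M (Nat.dvd_antisymm (Subgroup.card_subgroup_dvd_card M) ?_))
  rw [← Nat.factorization_le_iff_dvd Nat.card_pos.ne' Nat.card_pos.ne']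
  intro p
  by_cases hp : p.Prime
  · have := Fact.mk hp
    obtain ⟨P⟩ : Nonempty (Sylow p G) := inferInstance
    obtain ⟨N, hN, hle⟩ := (eq_top_or_exists_le_coatom (P : Subgroup G)).resolve_left (hall p hp P)
    rw [hMuniq N hN] at hle
    have h3 := Subgroup.card_dvd_of_le hle
    rw [Sylow.card_eq_multiplicity, hp.pow_dvd_iff_le_factorization Nat.card_pos.ne'] at h3
    exact h3
  · simp [Nat.factorization_eq_zero_of_not_prime _ hp]

end Cfsg.Agent.S4387
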