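import Cfsg.Statements.S4394
import Cfsg.Agent.Lib.Solvable.SchmidtSylow
import Cfsg.Agent.Lib.Solvable.FPFOperators.PLength
import Cfsg.Agent.Lib.Components.SFT.Criterion
import Cfsg.Agent.Lib.Fusion.FailureFactor

set_option autoImplicit false
open Cfsg
open scoped Pointwise
open Subgroup CfsgLib CfsgLib.Solvable.FPFOperators CfsgLib.Solvable.SchmidtSylow

namespace Cfsg.Agent.S4394

/-- Let X be a finite minimal non-nilpotent group (not nilpotent, every proper subgroup nilpotent) with a nontrivial normal Sylow p-subgroup P. If G is a finite p-solvable group whose Sylow p-subgroups are isomorphic to P, then G has p-length at most 1. -/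
theorem result {G X : Type*} [Group G] [Finite G] [Group X] [Finite X] (p : ℕ) [Fact p.Prime]
    (hX : Cfsg.IsMinimalNonNilpotent X) (P : Sylow p X) (hPn : (P : Subgroup X).Normal) (hP1 : (P : Subgroup X) ≠ ⊥)
    (hG : Cfsg.IsPSolvable p G) (Q : Sylow p G) (hQ : Nonempty (↥(Q : Subgroup G) ≃* ↥(P : Subgroup X))) : Cfsg.PLengthLE p 1 G := by
  classical
  obtain ⟨hXn, hXp⟩ := hX
  have hp : p.Prime := Fact.out
  -- the automorphism induced on the normal Sylow subgroup
  have hrigP : HasRigidAut p (P : Subgroup X) := by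
    obtain ⟨r, s, hr, hs, hrs, T, R, hTc, hRn, hTR, hnc, hTn⟩ := Solvable.Schmidt.structure_minimal hXn hXp
    haveI := Fact.mk hr
    haveI := Fact.mk hs
    haveI := hRn
    haveI := hPn
    obtain ⟨k, hk⟩ := IsPGroup.iff_card.mp T.isPGroup'
    obtain ⟨l, hl⟩ := IsPGroup.iff_card.mp R.isPGroup'
    have hpr : p ≠ r := by
      rintro rfl
      haveI := Sylow.unique_of_normal P hPn
      exact hTn (Subsingleton.elim P T ▸ hPn)
    have hps : p = s := by
      by_contra hps
      refine hP1 (eq_bot_iff.2 fun y hy => ?_)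
      obtain ⟨j, hj⟩ := P.isPGroup' ⟨y, hy⟩
      have hcop : (r ^ k * s ^ l).Coprime (p ^ j) :=
        ((((Nat.coprime_primes hr hp).2 (Ne.symm hpr)).pow_left k).mul_left
          (((Nat.coprime_primes hs hp).2 (Ne.symm hps)).pow_left l)).pow_right j
      refine mem_bot.2 (orderOf_eq_one_iff.1 (Nat.eq_one_of_dvd_coprimes hcop ?_
        (orderOf_dvd_of_pow_eq_one (congrArg Subtype.val hj))))
      rw [← hk, ← hl]
      have h1 := relIndex_mul_relIndex ⊥ (R : Subgroup X) ((T : Subgroup X) ⊔ R) bot_le le_sup_right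
      rw [relIndex_bot_left, relIndex_bot_left, hTR, relIndex_top_right] at h1
      refine (orderOf_dvd_natCard y).trans ?_
      rw [← card_top (G := X), ← h1, mul_comm]
      refine mul_dvd_mul_right ?_ _
      rw [← relIndex_top_right, ← hTR, relIndex_sup_right]
      exact relIndex_dvd_card _ _
    subst hps
    haveI := Sylow.unique_of_normal P hPn
    obtain rfl : R = P := Subsingleton.elim _ _
    obtain ⟨⟨x, hxT⟩, hx⟩ := hTc.exists_generator
    have hTx : (T : Subgroup X) = zpowers x := le_antisymm (fun y hy => by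
      obtain ⟨i, hi⟩ := mem_zpowers_iff.1 (hx ⟨y, hy⟩)
      exact ⟨i, congrArg Subtype.val hi⟩) (zpowers_le.2 hxT)
    have hRp : (Nat.card (R : Subgroup X)).Coprime r := by
      rw [hl]; exact ((Nat.coprime_primes hp hr).2 hpr).pow_left l
    have hxR : x ∈ normalizer ((R : Subgroup X) : Set X) := by rw [normalizer_eq_top]; trivial
    have hdisj : ∀ y ∈ zpowers x, y ∈ (R : Subgroup X) → y = 1 := fun y hy hyR => by
      refine orderOf_eq_one_iff.1 (Nat.eq_one_of_dvd_coprimes (hRp.pow_right k)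
        (orderOf_dvd_natCard _ hyR) ?_)
      rw [← hk]
      exact orderOf_dvd_natCard _ (hTx.ge hy)
    -- a subgroup of `R` normalised by `⟨x ^ i⟩` generates a proper subgroup
    have hcomm : ∀ (i : ℕ) (E : Subgroup X), E ≤ (R : Subgroup X) → zpowers (x ^ i) ≤ normalizer (E : Set X) →
        zpowers (x ^ i) ⊔ E ≠ ⊤ → ∀ e ∈ E, x ^ i * e = e * x ^ i := by
      intro i E hE _ hne e he
      have h1 := Solvable.Schmidt.le_centralizer_of_nilpotent (p := r) (hXp _ hne) le_sup_left le_sup_right
        (T.isPGroup'.to_le (hTx ▸ zpowers_le.2 (pow_mem (mem_zpowers x) i)))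
        (hRp.coprime_dvd_left (card_dvd_of_le hE))
      exact (mem_centralizer_iff.1 (h1 (mem_zpowers _)) e he).symm
    let α : MulAut (R : Subgroup X) := (R : Subgroup X).normalizerMonoidHom ⟨x, hxR⟩
    have hα : ∀ y : (R : Subgroup X), ((α y : (R : Subgroup X)) : X) = x * y * x⁻¹ := fun y => rfl
    refine ⟨α, r, hr, Ne.symm hpr, ?_, ?_, ?_⟩
    · show (R : Subgroup X).normalizerMonoidHom ⟨x, hxR⟩ ^ r = 1
      rw [← map_pow]
      refine MulEquiv.ext fun y => Subtype.ext ?_
      show x ^ r * (y : X) * (x ^ r)⁻¹ = y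
      rw [hcomm r R le_rfl (by rw [normalizer_eq_top]; exact le_top) ?_ y y.2, mul_inv_cancel_right]
      intro htop
      have hmem : x ∈ ((zpowers (x ^ r) : Subgroup X) : Set X) * ((R : Subgroup X) : Set X) := by
        rw [← Subgroup.mul_normal, htop]; trivial
      obtain ⟨u, hu, w, hw, huw⟩ := hmem
      have hu' : u ∈ zpowers x := zpowers_le.2 (pow_mem (mem_zpowers x) r) hu
      have hw1 : w = 1 := hdisj w (by
        have : w = u⁻¹ * x := by rw [← huw]; group
        rw [this]; exact mul_mem (inv_mem hu') (mem_zpowers x)) hw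
      simp only [hw1, mul_one] at huw
      rw [huw] at hu
      obtain ⟨j, hj⟩ := mem_zpowers_iff.1 hu
      have h1 : orderOf (x ^ r) = orderOf x := Nat.dvd_antisymm (orderOf_pow_dvd r)
        (orderOf_dvd_of_mem_zpowers ⟨j, hj⟩)
      rw [orderOf_pow, Nat.div_eq_self] at h1
      rcases h1 with h1 | h1
      · exact (orderOf_pos x).ne' h1
      have hk0 : x ≠ 1 := fun h => hnc (by rw [hTx, h, zpowers_one_eq_bot]; exact bot_le)
      obtain ⟨e, -, he⟩ := (Nat.dvd_prime_pow hr).1 (hk ▸ orderOf_dvd_natCard _ hxT)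
      have he0 : e ≠ 0 := fun h0 => hk0 (orderOf_eq_one_iff.1 (by rw [he, h0, pow_zero]))
      rw [he, Nat.gcd_eq_right (dvd_pow_self r he0)] at h1
      exact hr.one_lt.ne' h1
    · intro h1
      refine hnc ?_
      rw [hTx, zpowers_le]
      refine mem_centralizer_iff.2 fun y hy => ?_
      have h2 := congrArg Subtype.val (DFunLike.congr_fun h1 (⟨y, hy⟩ : (R : Subgroup X)))
      rw [hα] at h2
      exact (mul_inv_eq_iff_eq_mul.1 h2).symm
    · intro E hEn hinv hne e he
      have hEmap : E.map (R : Subgroup X).subtype ≤ (R : Subgroup X) := map_subtype_le E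
      have hxE : zpowers x ≤ normalizer ((E.map (R : Subgroup X).subtype) : Set X) := by
        refine zpowers_le.2 (mem_normalizer_iff.2 fun y => ?_)
        have h1 : (E.map (R : Subgroup X).subtype).map (MulAut.conj x).toMonoidHom =
            E.map (R : Subgroup X).subtype := by
          refine eq_of_le_of_card_ge ?_ (card_map_of_injective (MulAut.conj x).injective).ge
          rintro _ ⟨_, ⟨w, hw, rfl⟩, rfl⟩
          exact ⟨α w, hinv w hw, rfl⟩
        conv_rhs => rw [← h1]
        constructor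
        · exact fun hy => ⟨y, hy, rfl⟩
        · rintro ⟨w, hw, hwy⟩
          rwa [← (MulAut.conj x).injective hwy]
      have hne' : zpowers (x ^ 1) ⊔ E.map (R : Subgroup X).subtype ≠ ⊤ := by
        rw [pow_one]
        intro htop
        refine hne (top_le_iff.1 fun y _ => ?_)
        have hy : (y : X) ∈ ((zpowers x : Subgroup X) : Set X) * ((E.map (R : Subgroup X).subtype : Subgroup X) : Set X) := by
          rw [← coe_mul_of_left_le_normalizer_right _ _ hxE, htop]; trivial
        obtain ⟨u, hu, w, hw, huw⟩ := hy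
        have hu1 : u = 1 := hdisj u hu (by
          rw [show u = (y : X) * w⁻¹ by rw [← huw]; group]
          exact mul_mem y.2 (inv_mem (hEmap hw)))
        simp only [hu1, one_mul] at huw
        obtain ⟨w', hw', rfl⟩ := hw
        rwa [← Subtype.ext (huw : (w' : X) = y)]
      have := hcomm 1 _ hEmap (by rwa [pow_one]) hne' e (mem_map_of_mem _ he)
      rw [pow_one] at this
      exact Subtype.ext (by rw [hα]; exact mul_inv_eq_iff_eq_mul.2 this)
  obtain ⟨eQ⟩ := hQ
  have hrigQ : HasRigidAut p (Q : Subgroup G) := hrigP.congr eQ.symm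
  -- divide by the `p'`-core
  refine pLengthLE_succ (pLengthLE_zero ?_)
  set U₁ := (Cfsg.upperPSeries p G 1).1 with hU₁
  haveI : U₁.Normal := (Cfsg.upperPSeries p G 1).2
  set f := QuotientGroup.mk' U₁ with hf
  have hfs : Function.Surjective f := QuotientGroup.mk'_surjective _
  have hO := pPrimeCore_mod_upper_one (p := p) (G := G)
  have hsol := CfsgLib.Fusion.PSolvable.psolvable_quotient hG U₁
  have hU1cop : (Nat.card U₁).Coprime p := by
    rw [hU₁, upper_one]; exact Solvable.Cores.coprime_card_pPrimeCore p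
  have hinjQ : Function.Injective (f.comp (Q : Subgroup G).subtype) := by
    refine (injective_iff_map_eq_one _).2 fun y hy => ?_
    obtain ⟨j, hj⟩ := Q.isPGroup' y
    refine Subtype.ext (orderOf_eq_one_iff.1 (Nat.eq_one_of_dvd_coprimes (hU1cop.pow_right j)
      (orderOf_dvd_natCard U₁ ((QuotientGroup.eq_one_iff _).1 hy)) (orderOf_dvd_of_pow_eq_one ?_)))
    exact congrArg Subtype.val hj
  set V := Cfsg.pCore p (G ⧸ U₁) with hV
  haveI hVn : V.Normal := sSup_normal _ fun _ h => h.1
  have hC : centralizer (V : Set (G ⧸ U₁)) ≤ V := Fusion.PSolvable.centralizer_pCore_le hsol hO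
  have hrigS : ∀ S : Sylow p (G ⧸ U₁), HasRigidAut p (S : Subgroup (G ⧸ U₁)) := by
    intro S
    have e1 : (Q : Subgroup G) ≃* ((Q : Subgroup G).map f : Subgroup (G ⧸ U₁)) :=
      (MonoidHom.ofInjective hinjQ).trans (MulEquiv.subgroupCongr (by
        rw [MonoidHom.range_comp, range_subtype]))
    obtain ⟨g, hg⟩ := MulAction.exists_smul_eq (G ⧸ U₁) (Q.mapSurjective hfs) S
    refine (hrigQ.congr e1).congr ?_
    rw [← hg]
    exact Sylow.equiv (Q.mapSurjective hfs) _
  set h := QuotientGroup.mk' V with hh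
  have hhs : Function.Surjective h := QuotientGroup.mk'_surjective V
  have hsolH := CfsgLib.Fusion.PSolvable.psolvable_quotient hsol V
  have hOH : Cfsg.pCore p ((G ⧸ U₁) ⧸ V) = ⊥ := Components.SFT.pCore_quotient_eq_bot p _
  set K := Cfsg.pPrimeCore p ((G ⧸ U₁) ⧸ V) with hK
  haveI hKn : K.Normal := sSup_normal _ fun _ hh => hh.1
  have hKcop : (Nat.card K).Coprime p := Solvable.Cores.coprime_card_pPrimeCore p
  set K₀ := K.comap h with hK₀
  haveI : K₀.Normal := hKn.comap h
  obtain ⟨Tb⟩ : Nonempty (Sylow p ((G ⧸ U₁) ⧸ V)) := inferInstance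
  have hTK : (Tb : Subgroup ((G ⧸ U₁) ⧸ V)) ≤ centralizer (K : Set ((G ⧸ U₁) ⧸ V)) := by
    rw [le_centralizer_iff, ← subgroupOf_eq_top]
    refine Solvable.Cores.eq_top_of_sylow_le _ fun r hr => ?_
    haveI := Fact.mk hr
    by_cases hrp : r = p
    · subst hrp
      obtain ⟨P₀⟩ : Nonempty (Sylow r K) := inferInstance
      refine ⟨P₀, fun y hy => ?_⟩
      obtain ⟨j, hj⟩ := P₀.isPGroup' ⟨y, hy⟩
      rw [show y = 1 from orderOf_eq_one_iff.1 (Nat.eq_one_of_dvd_coprimes (hKcop.pow_right j)
        (orderOf_dvd_natCard y) (orderOf_dvd_of_pow_eq_one (congrArg Subtype.val hj)))]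
      exact one_mem _
    obtain ⟨R⟩ : Nonempty (Sylow r K₀) := inferInstance
    set R₁ := (R : Subgroup K₀).map K₀.subtype with hR₁
    set N := normalizer (R₁ : Set (G ⧸ U₁)) with hN
    have hfr : N ⊔ K₀ = ⊤ := Sylow.normalizer_sup_eq_top R
    obtain ⟨S₁⟩ : Nonempty (Sylow p N) := inferInstance
    set S₀ := (S₁ : Subgroup N).map N.subtype with hS₀
    obtain ⟨S, hS⟩ := (S₁.isPGroup'.map N.subtype).exists_le_sylow
    have hSmap : (S₀.map h) = (S : Subgroup (G ⧸ U₁)).map h := by
      refine le_antisymm (map_mono hS) ?_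
      let fN : N →* (G ⧸ U₁) ⧸ V := h.comp N.subtype
      have hidx : ¬ p ∣ (S₀.map h).index := by
        have h1 : N.map h ⊔ K = ⊤ := by
          rw [← map_comap_eq_self_of_surjective hhs K, ← hK₀, ← Subgroup.map_sup, hfr,
            map_top_of_surjective h hhs]
        have h2 : ¬ p ∣ (N.map h).index := by
          intro hd
          have h3 : (N.map h).index ∣ Nat.card K := by
            have h4 := relIndex_sup_right (H := N.map h) (K := K)
            rw [h1, relIndex_top_right] at h4
            have h5 := relIndex_mul_relIndex ((N.map h) ⊓ K) K ⊤ inf_le_right le_top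
            have h6 := relIndex_mul_relIndex ((N.map h) ⊓ K) (N.map h) ⊤ inf_le_left le_top
            rw [inf_relIndex_right, relIndex_top_right] at h5
            rw [inf_relIndex_left, relIndex_top_right, ← h4] at h6
            rw [← h6, mul_comm ((N.map h).relIndex K)] at h5
            rw [← Nat.eq_of_mul_eq_mul_left (Nat.pos_of_ne_zero index_ne_zero_of_finite) h5]
            exact relIndex_dvd_card _ _
          exact hp.coprime_iff_not_dvd.1 hKcop.symm (hd.trans h3)
        have e : S₀.map h = (S₁ : Subgroup N).map fN := by rw [hS₀, map_map]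
        rw [e, ← relIndex_mul_index (show (S₁ : Subgroup N).map fN ≤ N.map h by
          rw [← map_map]; exact map_mono (map_subtype_le _))]
        refine hp.not_dvd_mul (fun hd => ?_) h2
        have e2 : N.map h = (⊤ : Subgroup N).map fN := by
          rw [← map_map, ← MonoidHom.range_eq_map, range_subtype]
        rw [e2, relIndex_map_map, top_sup_eq, relIndex_top_right] at hd
        exact S₁.not_dvd_index (hd.trans (index_dvd_of_le le_sup_left))
      let T₀ : Sylow p ((G ⧸ U₁) ⧸ V) := ((S₁.isPGroup'.map N.subtype).map h).toSylow hidx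
      exact (T₀.is_maximal' (S.isPGroup'.map h) (map_mono hS)).le
    have hsup : ∀ x ∈ (S : Subgroup (G ⧸ U₁)), ∃ v ∈ V, ∃ s ∈ S₀, x = v * s := by
      intro x hx
      obtain ⟨s, hs, hsx⟩ := hSmap.ge (mem_map_of_mem h hx)
      refine ⟨x * s⁻¹, ?_, s, hs, by group⟩
      rw [← QuotientGroup.eq_one_iff, ← QuotientGroup.mk'_apply, ← hh, map_mul, map_inv, hsx,
        mul_inv_cancel]
    have hRp : IsPGroup r R₁ := R.isPGroup'.map K₀.subtype
    haveI := hRp.isNilpotent
    have hcen := centralizes hsol hC S (hrigS S) (S₀ := S₀) (Q := R₁) hS hsup (map_subtype_le _)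
      (by
        obtain ⟨j, hj⟩ := IsPGroup.iff_card.mp hRp
        rw [hj]; exact ((Nat.coprime_primes hr hp).2 hrp).pow_left j)
      inferInstance
    have hidxT : ¬ p ∣ (S₀.map h).index := by
      rw [hSmap]; exact (S.mapSurjective hhs).not_dvd_index
    obtain ⟨c, hc⟩ := MulAction.exists_smul_eq ((G ⧸ U₁) ⧸ V)
      (((S₁.isPGroup'.map N.subtype).map h).toSylow hidxT) Tb
    let R₂ : Sylow r K := R.mapSurjective
      (MonoidHom.subgroupComap_surjective_of_surjective h K hhs : Function.Surjective (h.subgroupComap K))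
    refine ⟨(MulAut.conjNormal c : MulAut K) • R₂, ?_⟩
    rintro y hy
    change y ∈ (MulAut.conjNormal c : MulAut K) • (R₂ : Subgroup K) at hy
    obtain ⟨w, hw, rfl⟩ := hy
    obtain ⟨u, hu, rfl⟩ := hw
    rw [mem_subgroupOf]
    refine mem_centralizer_iff.2 fun t ht => ?_
    rw [← hc, SetLike.mem_coe, Sylow.coe_subgroup_smul, mem_pointwise_smul_iff_inv_smul_mem] at ht
    obtain ⟨s, hs, hst⟩ := ht
    have hcs : Commute (h s) (h (u : G ⧸ U₁)) := by
      refine Commute.map ?_ h
      exact (mem_centralizer_iff.1 (hcen hs) _ (mem_map_of_mem K₀.subtype hu)).symm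
    have ht' : t = c * h s * c⁻¹ := by
      rw [hst]; simp [MulAut.smul_def, mul_assoc]
    show t * (c * h (u : G ⧸ U₁) * c⁻¹) = c * h (u : G ⧸ U₁) * c⁻¹ * t
    rw [ht']
    exact ((Commute.conj_iff c).2 hcs).eq
  have hTbot : (Tb : Subgroup ((G ⧸ U₁) ⧸ V)) = ⊥ := by
    refine (eq_bot_iff_forall _).2 fun y hy => ?_
    have hyK : y ∈ K := CfsgLib.Fusion.FailureFactor.centralizer_pPrimeCore_le hsolH hOH (hTK hy)
    obtain ⟨j, hj⟩ := Tb.isPGroup' ⟨y, hy⟩
    exact orderOf_eq_one_iff.1 (Nat.eq_one_of_dvd_coprimes (hKcop.pow_right j)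
      (orderOf_dvd_natCard K hyK) (orderOf_dvd_of_pow_eq_one (congrArg Subtype.val hj)))
  have hSV : ∀ y : G, y ∈ (Q : Subgroup G) → f y ∈ V := by
    intro y hy
    obtain ⟨c, hc⟩ := MulAction.exists_smul_eq ((G ⧸ U₁) ⧸ V) Tb ((Q.mapSurjective hfs).mapSurjective hhs)
    have h1 : h (f y) ∈ (((Q.mapSurjective hfs).mapSurjective hhs : Sylow p _) : Subgroup ((G ⧸ U₁) ⧸ V)) :=
      mem_map_of_mem h (mem_map_of_mem f hy)
    rw [← hc, Sylow.coe_subgroup_smul, mem_pointwise_smul_iff_inv_smul_mem, hTbot, mem_bot] at h1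
    exact (QuotientGroup.eq_one_iff _).1 (by
      rwa [smul_eq_iff_eq_inv_smul, inv_inv, smul_one] at h1)
  intro S y hy
  obtain ⟨P', hP'⟩ := exists_sylow_lift (QuotientGroup.mk' (Cfsg.upperPSeries p G 2).1)
    (QuotientGroup.mk'_surjective _) S.isPGroup'
  obtain ⟨w, hw, rfl⟩ := hP' hy
  rw [pow_zero, pow_one]
  refine (QuotientGroup.eq_one_iff w).2 ?_
  obtain ⟨g, rfl⟩ := MulAction.exists_smul_eq G Q P'
  change w ∈ MulAut.conj g • (Q : Subgroup G) at hw
  obtain ⟨u, hu, rfl⟩ := hw
  have h2 : u ∈ (Cfsg.upperPSeries p G 2).1 := by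
    rw [upper_even 0]; exact hSV u hu
  haveI := (Cfsg.upperPSeries p G 2).2
  exact (inferInstance : ((Cfsg.upperPSeries p G 2).1).Normal).conj_mem u h2 g

end Cfsg.Agent.S4394
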