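import Cfsg.Statements.S4395
import Cfsg.Agent.Lib.Solvable.SchmidtUniversal.Structure

set_option autoImplicit false
universe u
open Cfsg

namespace Cfsg.Agent.S4395

/-- Let p ≠ q be primes, r ≥ 1, a the multiplicative order of p modulo q, and a₀ = a when a is odd, a₀ = 3a/2 when a is even. Call a finite group minimal non-p-nilpotent when it has no normal p-complement but every proper subgroup has one. Then there is a minimal non-p-nilpotent group G₀ of order p^a₀ · q^r such that every minimal non-p-nilpotent group of order p^t · q^r (any t) is a quotient of G₀ by a central subgroup. -/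
theorem result (p q r : ℕ) [Fact p.Prime] [Fact q.Prime] (hpq : p ≠ q) (hr : 1 ≤ r) (a a₀ : ℕ)
    (ha : a = orderOf (p : ZMod q)) (ha₀ : a₀ = if a % 2 = 1 then a else 3 * a / 2) :
    ∃ (G₀ : Type u) (_ : Group G₀) (_ : Finite G₀),
      (¬ Cfsg.HasNormalPComplement p G₀ ∧ ∀ K : Subgroup G₀, K ≠ ⊤ → Cfsg.HasNormalPComplement p ↥K) ∧ Nat.card G₀ = p ^ a₀ * q ^ r ∧
      ∀ (X : Type u) [Group X] [Finite X], (¬ Cfsg.HasNormalPComplement p X ∧ ∀ K : Subgroup X, K ≠ ⊤ → Cfsg.HasNormalPComplement p ↥K) →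
        (∃ t : ℕ, Nat.card X = p ^ t * q ^ r) → ∃ φ : G₀ →* X, Function.Surjective φ ∧ φ.ker ≤ Subgroup.center G₀ := by
  classical
  have hq : q.Prime := Fact.out
  obtain ⟨ζ, S⟩ := CfsgLib.Solvable.SchmidtUniversal.exists_setup hpq ha
  obtain ⟨G, _, _, π₀, hπ₀, hker₀, hfr₀, hcardG⟩ :=
    CfsgLib.Solvable.SchmidtUniversal.exists_cover S hr
  have ha₀' : a₀ = a + if a % 2 = 1 then 0 else a / 2 := by
    rw [ha₀]; split_ifs <;> omega
  set π₁ := π₀.comp (MulEquiv.ulift : ULift.{u} G ≃* G).toMonoidHom with hπ₁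
  have hs₁ : Function.Surjective π₁ := hπ₀.comp MulEquiv.ulift.surjective
  have hker₁ : π₁.ker ≤ Subgroup.center (ULift.{u} G) := fun x hx => Subgroup.mem_center_iff.2 fun y =>
    ULift.ext _ _ (Subgroup.mem_center_iff.1 (hker₀ (show x.down ∈ π₀.ker from hx)) y.down)
  have hfr₁ : ∀ H : Subgroup (ULift.{u} G), H.map π₁ = ⊤ → H = ⊤ := fun H hH => by
    have h1 := hfr₀ _ (show (H.map (MulEquiv.ulift : ULift.{u} G ≃* G).toMonoidHom).map π₀ = ⊤ by
      rw [Subgroup.map_map]; exact hH)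
    refine eq_top_iff.2 fun x _ => ?_
    obtain ⟨y, hy, hyx⟩ := h1.ge (Subgroup.mem_top x.down)
    rwa [← MulEquiv.ulift.injective (show MulEquiv.ulift y = MulEquiv.ulift x from hyx)]
  have hcard₁ : Nat.card (ULift.{u} G) = p ^ a₀ * q ^ r := by
    rw [Nat.card_congr Equiv.ulift, hcardG, ha₀']
  refine ⟨ULift.{u} G, inferInstance, inferInstance,
    CfsgLib.Solvable.SchmidtUniversal.minimal_of_cover S hr π₁ hs₁ hker₁ hfr₁, hcard₁, ?_⟩
  intro X _ _ hX ⟨t, ht⟩
  obtain ⟨π, hπs, hπker, hπfr, -⟩ :=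
    CfsgLib.Solvable.SchmidtUniversal.structure_main S hr hX.1 hX.2 ht
  let f := π₁.comp (MonoidHom.fst (ULift.{u} G) X)
  let H := MonoidHom.eqLocus f (π.comp (MonoidHom.snd (ULift.{u} G) X))
  have hH : H.map f = ⊤ := eq_top_iff.2 fun b _ => by
    obtain ⟨g, hg⟩ := hs₁ b
    obtain ⟨x, hx⟩ := hπs b
    exact ⟨(g, x), hg.trans hx.symm, hg⟩
  obtain ⟨K, -, ⟨hKH, hKf⟩, hKmin⟩ := Finite.exists_le_minimal
    (p := fun K : Subgroup (ULift.{u} G × X) => K ≤ H ∧ K.map f = ⊤) (a := H) ⟨le_rfl, hH⟩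
  let f' : K →* _ := f.comp K.subtype
  have hf's : Function.Surjective f' := fun b => by
    obtain ⟨k, hk, rfl⟩ := hKf.ge (Subgroup.mem_top b)
    exact ⟨⟨k, hk⟩, rfl⟩
  have hf'ker : f'.ker ≤ Subgroup.center K := fun k hk => by
    have h1 : (k : ULift.{u} G × X).1 ∈ Subgroup.center (ULift.{u} G) := hker₁ hk
    have h2 : (k : ULift.{u} G × X).2 ∈ Subgroup.center X :=
      hπker ((hKH k.2).symm.trans hk)
    exact Subgroup.mem_center_iff.2 fun l => Subtype.ext (Prod.ext (Subgroup.mem_center_iff.1 h1 _)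
      (Subgroup.mem_center_iff.1 h2 _))
  have hf'fr : ∀ L : Subgroup K, L.map f' = ⊤ → L = ⊤ := fun L hL => by
    have h1 : (L.map K.subtype).map f = ⊤ := by rw [Subgroup.map_map]; exact hL
    have h2 := hKmin ⟨(Subgroup.map_subtype_le L).trans hKH, h1⟩ (Subgroup.map_subtype_le L)
    refine eq_top_iff.2 fun x _ => ?_
    obtain ⟨y, hy, hyx⟩ := h2 x.2
    rwa [← Subtype.ext (show (y : ULift.{u} G × X) = x from hyx)]
  let g : K →* ULift.{u} G := (MonoidHom.fst (ULift.{u} G) X).comp K.subtype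
  have hgs : Function.Surjective g := MonoidHom.range_eq_top.1 (hfr₁ _ (by
    rw [← MonoidHom.range_comp]; exact MonoidHom.range_eq_top.2 hf's))
  have hkerπ : Nat.card π.ker ∣ p ^ t := by
    refine ⟨p ^ a, Nat.eq_of_mul_eq_mul_right (pow_pos hq.pos r) ?_⟩
    rw [← ht, mul_assoc, ← CfsgLib.Solvable.SchmidtUniversal.card_base S hr, ← Subgroup.card_top
      (G := CfsgLib.Solvable.SchmidtUniversal.Base S hr), ← MonoidHom.range_eq_top.2 hπs,
      ← Subgroup.index_ker, Subgroup.card_mul_index]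
  let ι : g.ker →* π.ker :=
    { toFun := fun k => ⟨((k : K) : ULift.{u} G × X).2, (hKH (k : K).2).symm.trans (by
        show π₁ ((k : K) : ULift.{u} G × X).1 = 1
        rw [show ((k : K) : ULift.{u} G × X).1 = 1 from k.2, map_one])⟩
      map_one' := rfl, map_mul' := fun _ _ => rfl }
  have hι : Function.Injective ι := fun k l h => Subtype.ext (Subtype.ext (Prod.ext
    ((show ((k : K) : ULift.{u} G × X).1 = 1 from k.2).trans
      (show ((l : K) : ULift.{u} G × X).1 = 1 from l.2).symm) (congrArg Subtype.val h)))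
  obtain ⟨m, -, hm⟩ := (Nat.dvd_prime_pow (Fact.out : p.Prime)).1
    ((Subgroup.card_dvd_of_injective ι hι).trans hkerπ)
  have hKcard : Nat.card K = p ^ (m + a₀) * q ^ r := by
    rw [← Subgroup.card_mul_index g.ker, Subgroup.index_ker, MonoidHom.range_eq_top.2 hgs,
      Subgroup.card_top, hcard₁, hm, pow_add, mul_assoc]
  obtain ⟨hK1, hK2⟩ :=
    CfsgLib.Solvable.SchmidtUniversal.minimal_of_cover S hr f' hf's hf'ker hf'fr
  obtain ⟨-, -, -, -, hbound⟩ :=
    CfsgLib.Solvable.SchmidtUniversal.structure_main S hr hK1 hK2 hKcard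
  have hm0 : m = 0 := by
    rw [hKcard, ← ha₀'] at hbound
    have := (Nat.pow_le_pow_iff_right (Fact.out : p.Prime).one_lt).1
      (Nat.le_of_mul_le_mul_right hbound (pow_pos hq.pos r))
    omega
  have hgi : Function.Injective g := (MonoidHom.ker_eq_bot_iff g).1 (Subgroup.card_eq_one.1 (by
    rw [hm, hm0, pow_zero]))
  let e := MulEquiv.ofBijective g ⟨hgi, hgs⟩
  let φ : ULift.{u} G →* X := ((MonoidHom.snd (ULift.{u} G) X).comp K.subtype).comp e.symm.toMonoidHom
  have hφ : ∀ z, π (φ z) = π₁ z := fun z => by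
    have h1 := hKH (e.symm z).2
    exact h1.symm.trans (congrArg π₁ (e.apply_symm_apply z))
  refine ⟨φ, MonoidHom.range_eq_top.1 (hπfr _ (eq_top_iff.2 fun b _ => ?_)), fun z hz => hker₁ ?_⟩
  · obtain ⟨z, rfl⟩ := hs₁ b
    exact ⟨φ z, ⟨z, rfl⟩, hφ z⟩
  · rw [MonoidHom.mem_ker, ← hφ, MonoidHom.mem_ker.1 hz, map_one]

end Cfsg.Agent.S4395
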