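import Cfsg.Statements.S4396
import Mathlib
import Cfsg.Agent.Lib.Involution.FrobeniusFree
-- import your own Cfsg.Agent.* helpers here

set_option autoImplicit false
open Cfsg
open scoped Pointwise

namespace Cfsg.Agent.S4396

/-- Let the finite group A act faithfully and linearly on a finite-dimensional vector space V over a field k, and suppose A is a Frobenius group with nilpotent kernel F (every Frobenius kernel is nilpotent) and complement H such that F fixes no nonzero vector. Then V is free as a module for H: there is a subspace W with V the direct sum of the translates hW, h ∈ H. (No assumption on the characteristic of k.) -/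
theorem result {k V A : Type*} [Field k] [AddCommGroup V] [Module k V] [FiniteDimensional k V] [Group A] [Finite A] [DecidableEq A]
    (ρ : Representation k A V) (hρ : Function.Injective ρ)
    (Fk Hc : Subgroup A) [Fk.Normal] (hHc : Cfsg.IsFrobeniusComplement Hc) (hker : Cfsg.frobeniusKernel Hc = (Fk : Set A)) (hnil : Group.IsNilpotent ↥Fk)
    (hCF : ∀ v : V, (∀ f ∈ Fk, ρ f v = v) → v = 0) :
    ∃ W : Submodule k V, DirectSum.IsInternal (fun h : ↥Hc => W.map (ρ (h : A))) := by
  classical
  haveI : Fintype Hc := Fintype.ofFinite Hc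
  let φ : ↥Hc →* MulAut ↥Fk := MulAut.conjNormal.comp Hc.subtype
  refine CfsgLib.Involution.FrobeniusFree.isInternal_of_good (ρ.comp Hc.subtype)
    (CfsgLib.Involution.FrobeniusFree.good_of_nilpotent _ ↥Fk rfl hnil φ ?_ V (ρ.comp Hc.subtype)
      (ρ.comp Fk.subtype) ?_ fun v hv => hCF v fun f hf => hv ⟨f, hf⟩)
  · intro h hh s hs
    have hcomm : (h : A) * (s : A) * (h : A)⁻¹ = (s : A) := congrArg Subtype.val hs
    have hmem : (s : A) ∈ Cfsg.frobeniusKernel Hc := by rw [hker]; exact s.2
    rcases hmem with h1 | h1
    · exact Subtype.ext h1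
    · by_cases hsH : (s : A) ∈ Hc
      · refine absurd ?_ (h1 1)
        rw [map_one, one_smul]
        exact hsH
      · exfalso
        have hh' : (h : A) ∈ Hc ⊓ MulAut.conj (s : A) • Hc := by
          refine ⟨h.2, Subgroup.mem_pointwise_smul_iff_inv_smul_mem.2 ?_⟩
          have e : (s : A)⁻¹ * (h : A) * (s : A) = (h : A) := by
            rw [mul_assoc, inv_mul_eq_iff_eq_mul]
            exact mul_inv_eq_iff_eq_mul.1 hcomm
          simpa [e] using h.2
        rw [hHc.2.2 _ hsH, Subgroup.mem_bot] at hh'
        exact hh (Subtype.ext hh')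
  · intro h s
    show ρ (h : A) * ρ (s : A) = ρ ((h : A) * (s : A) * (h : A)⁻¹) * ρ (h : A)
    rw [← map_mul, ← map_mul, inv_mul_cancel_right]

end Cfsg.Agent.S4396
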