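import Cfsg.Statements.S4400
import Cfsg.Agent.Lib.NumberTheory.SectionalRankFour

set_option autoImplicit false
open Cfsg

namespace Cfsg.Agent.S4400

open CfsgLib.NumberTheory.SectionalRankFour


/-- Let S be a finite 2-group of sectional 2-rank at most 4, and let P and Q be normal non-abelian subgroups of S whose centres have order 2 and are different. Then P and Q commute elementwise and intersect trivially, and PQ contains its own centralizer in S. -/
theorem result {S : Type*} [Group S] [Finite S] (h2 : IsPGroup 2 S) (hr : Cfsg.SectionalPRankLE 2 4 S)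
    (P Q : Subgroup S) [P.Normal] [Q.Normal] (hP : ¬ IsMulCommutative ↥P) (hQ : ¬ IsMulCommutative ↥Q)
    (hZP : Nat.card ↥(Subgroup.center ↥P) = 2) (hZQ : Nat.card ↥(Subgroup.center ↥Q) = 2)
    (hne : (Subgroup.center ↥P).map P.subtype ≠ (Subgroup.center ↥Q).map Q.subtype) :
    ⁅P, Q⁆ = ⊥ ∧ P ⊓ Q = ⊥ ∧ Subgroup.centralizer ((P ⊔ Q : Subgroup S) : Set S) ≤ P ⊔ Q := by
  obtain ⟨z, hz, hzm⟩ := exists_bad hP hZP
  obtain ⟨w, hw, hwm⟩ := exists_bad hQ hZQ
  have hzw : z ≠ w := fun h => hne (by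
    ext g
    rw [hzm, hwm, h])
  obtain ⟨hdis, hcomm⟩ := pair h2 hz hw hzw (Subgroup.normalizer_eq_top (H := Q) ▸ le_top)
    (Subgroup.normalizer_eq_top (H := P) ▸ le_top)
  refine ⟨Subgroup.commutator_eq_bot_iff_le_centralizer.mpr fun x hx =>
      Subgroup.mem_centralizer_iff.mpr fun y hy => (hcomm x hx y hy).symm,
    eq_bot_iff.mpr fun x hx => Subgroup.mem_bot.mpr (hdis x hx.1 hx.2), fun c hc => ?_⟩
  rw [Subgroup.mem_centralizer_iff] at hc
  have hPle : P ≤ P ⊔ Q := le_sup_left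
  have hQle : Q ≤ P ⊔ Q := le_sup_right
  rcases centralizer_mem h2 hr hz hw hdis hcomm (fun x hx => hc x (hPle hx)) (fun x hx => hc x (hQle hx))
    with rfl | rfl | rfl | rfl
  · exact one_mem _
  · exact hPle hz.mem
  · exact hQle hw.mem
  · exact mul_mem (hPle hz.mem) (hQle hw.mem)

end Cfsg.Agent.S4400
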