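import Cfsg.Statements.S4401
import Cfsg.Agent.Lib.NumberTheory.SectionalRankFour

set_option autoImplicit false
open Cfsg

namespace Cfsg.Agent.S4401

open CfsgLib.NumberTheory.SectionalRankFour


/-- Let S be a finite 2-group of sectional 2-rank at most 4 and P a proper non-abelian subgroup whose centre has order 2. Let S₀ be the centralizer in S of Z(P) and suppose P is normal in S₀. Then either S₀ = S, or P has sectional 2-rank at most 2 and S₀ has index 2 in S. -/
theorem result {S : Type*} [Group S] [Finite S] (h2 : IsPGroup 2 S) (hr : Cfsg.SectionalPRankLE 2 4 S)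
    (P : Subgroup S) (hPlt : P ≠ ⊤) (hP : ¬ IsMulCommutative ↥P) (hZP : Nat.card ↥(Subgroup.center ↥P) = 2)
    (S₀ : Subgroup S) (hS₀ : S₀ = Subgroup.centralizer (((Subgroup.center ↥P).map P.subtype : Subgroup S) : Set S))
    (hPn : ∀ s ∈ S₀, ∀ x ∈ P, s * x * s⁻¹ ∈ P) :
    S₀ = ⊤ ∨ (Cfsg.SectionalPRankLE 2 2 ↥P ∧ S₀.index = 2) := by
  obtain ⟨z, hz, hzm⟩ := exists_bad hP hZP
  have hmem : ∀ g, g ∈ S₀ ↔ z * g = g * z := by
    intro g
    rw [hS₀, Subgroup.mem_centralizer_iff]
    refine ⟨fun h => h z ((hzm z).mpr (Or.inr rfl)), fun h x hx => ?_⟩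
    rcases (hzm x).mp hx with rfl | rfl
    · rw [one_mul, mul_one]
    · exact h
  rcases eq_or_ne S₀ ⊤ with htop | htop
  · exact Or.inl htop
  refine Or.inr ?_
  have hPS : P ≤ S₀ := fun x hx => (hmem x).mpr (hz.comm x hx).symm
  have hfix : ∀ g, g ∈ S₀ ↔ g * z * g⁻¹ = z := fun g => by rw [hmem, mul_inv_eq_iff_eq_mul, eq_comm]
  have hcl : ∀ a b : S, a * z * a⁻¹ = b * z * b⁻¹ → a⁻¹ * b ∈ S₀ := by
    intro a b h
    rw [hfix]
    calc a⁻¹ * b * z * (a⁻¹ * b)⁻¹ = a⁻¹ * (b * z * b⁻¹) * a := by group
      _ = a⁻¹ * (a * z * a⁻¹) * a := by rw [h]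
      _ = z := by group
  have hnorm : ∀ t : S, t ∈ Subgroup.normalizer (S₀ : Set S) → ∀ g ∈ S₀, t⁻¹ * g * t ∈ S₀ := fun t ht g hg => by
    have := (Subgroup.mem_normalizer_iff.mp (inv_mem ht) g).mp hg
    rwa [inv_inv] at this
  haveI : Fact (Nat.Prime 2) := ⟨Nat.prime_two⟩
  haveI := h2.isNilpotent
  obtain ⟨s, hsN, hs⟩ := SetLike.exists_of_lt
    (Group.normalizerCondition_of_isNilpotent S₀ (lt_top_iff_ne_top.mpr htop))
  set T := Subgroup.normalizer (S₀ : Set S) with hT
  have hnormal : ∀ t ∈ T, ∀ g ∈ S₀, g ∈ Subgroup.normalizer ((P.map (MulAut.conj t).toMonoidHom : Subgroup S) : Set S) := by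
    intro t ht g hg
    have h1 : t⁻¹ * g * t ∈ Subgroup.normalizer (P : Set S) := by
      have h0 : ∀ x ∈ S₀, x ∈ Subgroup.normalizer (P : Set S) := fun x hx =>
        Subgroup.mem_normalizer_iff.mpr fun y => ⟨hPn x hx y, fun hy => by
          have := hPn x⁻¹ (inv_mem hx) _ hy
          simpa [mul_assoc] using this⟩
      exact h0 _ (hnorm t ht g hg)
    have h2' := Subgroup.le_normalizer_map (MulAut.conj t).toMonoidHom ⟨_, h1, rfl⟩
    have he : (MulAut.conj t).toMonoidHom (t⁻¹ * g * t) = g := by simp [mul_assoc]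
    rwa [he] at h2'
  have hsub : ∀ t ∈ T, P.map (MulAut.conj t).toMonoidHom ≤ S₀ := by
    rintro t ht _ ⟨x, hx, rfl⟩
    exact (Subgroup.mem_normalizer_iff.mp ht x).mp (hPS hx)
  have hPnorm : ∀ g ∈ S₀, g ∈ Subgroup.normalizer (P : Set S) := fun x hx =>
    Subgroup.mem_normalizer_iff.mpr fun y => ⟨hPn x hx y, fun hy => by
      have := hPn x⁻¹ (inv_mem hx) _ hy
      simpa [mul_assoc] using this⟩
  set Q := P.map (MulAut.conj s).toMonoidHom with hQ
  set w := s * z * s⁻¹ with hwdef
  have hw : Bad Q w := hz.conj s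
  have hzw : z ≠ w := fun h => hs ((hfix s).mpr h.symm)
  obtain ⟨hdis, hcomm⟩ := pair h2 hz hw hzw (fun x hx => hnormal s hsN x (hPS hx))
    (fun x hx => hPnorm x (hsub s hsN hx))
  refine ⟨rank_two h2 hr hw.not_cyclic hdis hcomm, ?_⟩
  have hwz : ∀ t ∈ T, t ∉ S₀ → t * z * t⁻¹ = w := by
    intro t ht htS
    by_contra hne
    have hzr : z ≠ t * z * t⁻¹ := fun h => htS ((hfix t).mpr h.symm)
    obtain ⟨d1, c1⟩ := pair h2 hz (hz.conj t) hzr (fun x hx => hnormal t ht x (hPS hx))
      (fun x hx => hPnorm x (hsub t ht hx))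
    obtain ⟨d2, c2⟩ := pair h2 hw (hz.conj t) (fun h => hne h.symm)
      (fun x hx => hnormal t ht x (hsub s hsN hx)) (fun x hx => hnormal s hsN x (hsub t ht hx))
    refine (hz.conj t).nonab fun x hx y hy => ?_
    have hcz : y * z = z * y := (c1 z hz.mem y hy).symm
    have hcw : y * w = w * y := (c2 w hw.mem y hy).symm
    rcases centralizer_mem h2 hr hz hw hdis hcomm (fun a ha => c1 a ha x hx) (fun a ha => c2 a ha x hx)
      with rfl | rfl | rfl | rfl
    · simp
    · exact hcz.symm
    · exact hcw.symm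
    · exact ((show Commute y z from hcz).mul_right hcw).symm.eq
  have hwfix : ∀ g ∈ S₀, g * w * g⁻¹ = w := fun g hg => hw.fix (hnormal s hsN g hg)
  have hwz' : ∀ t ∈ T, t ∉ S₀ → t * w * t⁻¹ = z := by
    intro t ht htS
    by_cases hts : t * s ∈ S₀
    · have := (hfix _).mp hts
      calc t * w * t⁻¹ = t * s * z * (t * s)⁻¹ := by rw [hwdef]; group
        _ = z := this
    · exfalso
      have h1 := hwz (t * s) (mul_mem ht hsN) hts
      have h2' : t * w * t⁻¹ = w := by
        calc t * w * t⁻¹ = t * s * z * (t * s)⁻¹ := by rw [hwdef]; group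
          _ = w := h1
      refine htS ?_
      -- `t` fixes `w`, so lies in the conjugate of `S₀`
      have h3 : s⁻¹ * t * s ∈ S₀ := by
        rw [hfix]
        calc s⁻¹ * t * s * z * (s⁻¹ * t * s)⁻¹ = s⁻¹ * (t * w * t⁻¹) * s := by rw [hwdef]; group
          _ = z := by rw [h2', hwdef]; group
      have h4 := (Subgroup.mem_normalizer_iff.mp hsN _).mp h3
      simpa [mul_assoc] using h4
  -- the centre of `T`
  have hcz : z * w = w * z := hcomm z hz.mem w hw.mem
  have hTtop : T = ⊤ := by
    by_contra hne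
    obtain ⟨u, huN, hu⟩ := SetLike.exists_of_lt
      (Group.normalizerCondition_of_isNilpotent T (lt_top_iff_ne_top.mpr hne))
    have hutT : ∀ t ∈ T, u⁻¹ * t * u ∈ T := fun t ht => by
      have := (Subgroup.mem_normalizer_iff.mp (inv_mem huN) t).mp ht
      rwa [inv_inv] at this
    have hzwT : ∀ t ∈ T, t * (z * w) * t⁻¹ = z * w := by
      intro t ht
      by_cases htS : t ∈ S₀
      · rw [← conj_mul, (hfix t).mp htS, hwfix t htS]
      · rw [← conj_mul, hwz t ht htS, hwz' t ht htS, hcz]
    have hzwS : z * w ∈ S₀ := mul_mem (hPS hz.mem) (hsub s hsN hw.mem)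
    set e := u * (z * w) * u⁻¹ with he
    have heT : e ∈ T := (Subgroup.mem_normalizer_iff.mp huN _).mp (Subgroup.le_normalizer hzwS)
    have hec : ∀ t ∈ T, t * e * t⁻¹ = e := fun t ht => by
      calc t * e * t⁻¹ = u * ((u⁻¹ * t * u) * (z * w) * (u⁻¹ * t * u)⁻¹) * u⁻¹ := by rw [he]; group
        _ = e := by rw [hzwT _ (hutT t ht), he]
    have hec' : ∀ t ∈ T, t * e = e * t := fun t ht => mul_inv_eq_iff_eq_mul.mp (hec t ht)
    have heq : e = z * w := by
      have hSle : S₀ ≤ T := Subgroup.le_normalizer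
      rcases centralizer_mem h2 hr hz hw hdis hcomm (fun a ha => hec' a (hSle (hPS ha)))
        (fun a ha => hec' a (hSle (hsub s hsN ha))) with h | h | h | h
      · exfalso
        rw [he, conj_eq_one_iff] at h
        have := hdis z hz.mem (by rw [eq_inv_of_mul_eq_one_left h]; exact inv_mem hw.mem)
        exact hz.ne_one this
      · have := hec s hsN
        rw [h] at this
        exact absurd this (fun h' => hzw (h'.symm.trans (hwz s hsN hs)))
      · have := hec s hsN
        rw [h, hwz' s hsN hs] at this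
        exact absurd this hzw
      · exact h
    set v := u * z * u⁻¹ with hv
    have hvv : u * w * u⁻¹ = v⁻¹ * (z * w) := by rw [← heq, he, hv]; group
    have hvT : v ∈ T := (Subgroup.mem_normalizer_iff.mp huN _).mp (Subgroup.le_normalizer (hPS hz.mem))
    have hvconj : ∀ t ∈ T, t * v * t⁻¹ = v ∨ t * v * t⁻¹ = v⁻¹ * (z * w) := by
      intro t ht
      have heq2 : t * v * t⁻¹ = u * ((u⁻¹ * t * u) * z * (u⁻¹ * t * u)⁻¹) * u⁻¹ := by rw [hv]; group
      by_cases h : u⁻¹ * t * u ∈ S₀
      · left; rw [heq2, (hfix _).mp h, hv]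
      · right; rw [heq2, hwz _ (hutT t ht) h, hvv]
    have hinvol : v * v = 1 := by
      have hzz : z * z = 1 := by
        rcases hz.center (z * z) (mul_mem hz.mem hz.mem) (fun x hx =>
          ((show Commute x z from hz.comm x hx).mul_right (hz.comm x hx)).eq) with h | h
        · exact h
        · exact absurd (mul_eq_right.mp h) hz.ne_one
      calc v * v = u * (z * z) * u⁻¹ := by rw [hv]; group
        _ = 1 := by rw [hzz]; group
    have hvi : v⁻¹ = v := inv_eq_of_mul_eq_one_right hinvol
    have hzwP : z * w ∉ P := fun h => by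
      have : w ∈ P := by simpa using mul_mem (inv_mem hz.mem) h
      exact hw.ne_one (hdis w this hw.mem)
    have hzwQ : z * w ∉ Q := fun h => by
      have : z ∈ Q := by simpa using mul_mem h (inv_mem hw.mem)
      exact hz.ne_one (hdis z hz.mem this)
    have hSle : S₀ ≤ T := Subgroup.le_normalizer
    by_cases hvS : v ∈ S₀
    · have hkey : ∀ (K : Subgroup S), K ≤ S₀ → (∀ g ∈ S₀, g ∈ Subgroup.normalizer (K : Set S)) → z * w ∉ K →
          ∀ x ∈ K, x * v = v * x := by
        intro K hKS hKn hK x hx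
        rcases hvconj x (hSle (hKS hx)) with h | h
        · exact mul_inv_eq_iff_eq_mul.mp h
        · exfalso
          refine hK ?_
          have h5 : x * (v * x⁻¹ * v⁻¹) ∈ K :=
            mul_mem hx ((Subgroup.mem_normalizer_iff.mp (hKn v hvS) _).mp (inv_mem hx))
          rw [← mul_assoc, ← mul_assoc, h, hvi] at h5
          -- `h5 : v * (z * w) * v ∈ K`
          have h6 : v * (z * w) * v = z * w := by
            have := hzwT v hvT
            rwa [hvi] at this
          rwa [h6] at h5
      rcases centralizer_mem h2 hr hz hw hdis hcomm (hkey P hPS hPnorm hzwP)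
        (hkey Q (hsub s hsN) (hnormal s hsN) hzwQ) with h | h | h | h
      · exact hz.ne_one (conj_eq_one_iff.mp h)
      · exact hu (hSle ((hfix u).mpr h))
      · have h7 := hcl s u h.symm
        have : u = s * (s⁻¹ * u) := by group
        exact hu (this ▸ mul_mem hsN (hSle h7))
      · have h8 : z = z * w := by
          have h9 : u * z * u⁻¹ = u * (z * w) * u⁻¹ := by rw [← he, heq]; exact h
          simpa using h9
        exact hw.ne_one (left_eq_mul.mp h8)
    · refine hz.nonab fun x hx y hy => ?_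
      have hall : ∀ x ∈ P, x = 1 ∨ x = z := by
        intro x hx
        have hPQ : v * x * v⁻¹ ∈ Q := by
          have h1 := hwz v hvT hvS
          have hsv : s⁻¹ * v ∈ S₀ := hcl s v h1.symm
          have h2' := (Subgroup.mem_normalizer_iff.mp (hPnorm _ hsv) x).mp hx
          exact ⟨_, h2', by simp [mul_assoc]⟩
        have hxconj := hvconj x (hSle (hPS hx))
        rcases hxconj with h | h
        · have : v * x * v⁻¹ = x := by
            rw [mul_inv_eq_iff_eq_mul] at h
            rw [← h]; group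
          rw [this] at hPQ
          exact Or.inl (hdis x hx hPQ)
        · right
          have h1 : v * x * v⁻¹ = z * w * x := by
            have h10 : x * v = v * (z * w) * x := by
              have h10' := mul_inv_eq_iff_eq_mul.mp h
              rwa [hvi] at h10'
            have h11 : v * (z * w) = z * w * v := mul_inv_eq_iff_eq_mul.mp (hzwT v hvT)
            calc v * x * v⁻¹ = v * (x * v) := by rw [hvi, mul_assoc]
              _ = v * (v * (z * w) * x) := by rw [h10]
              _ = (v * v) * (z * w) * x := by group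
              _ = z * w * x := by rw [hinvol, one_mul]
          rw [h1] at hPQ
          have h12 : z * x ∈ Q := by
            have := mul_mem (inv_mem hw.mem) hPQ
            have e : w⁻¹ * (z * w * x) = z * x := by rw [hcz]; group
            rwa [e] at this
          have h13 := hdis _ (mul_mem hz.mem hx) h12
          have hzz : z * z = 1 := by
            have := hinvol
            rw [hv] at this
            have e : u * z * u⁻¹ * (u * z * u⁻¹) = u * (z * z) * u⁻¹ := by group
            rw [e, conj_eq_one_iff] at this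
            exact this
          exact mul_left_cancel (h13.trans hzz.symm)
      rcases hall x hx with rfl | rfl
      · simp
      · exact (hz.comm y hy).symm
  rw [Subgroup.index_eq_two_iff]
  have hTall : ∀ t : S, t ∈ T := fun t => hTtop ▸ Subgroup.mem_top t
  refine ⟨s, fun b => ?_⟩
  by_cases hb : b ∈ S₀
  · refine Or.inr ⟨hb, fun hbs => hs ?_⟩
    simpa using mul_mem (inv_mem hb) hbs
  · refine Or.inl ⟨?_, hb⟩
    rw [hfix]
    calc b * s * z * (b * s)⁻¹ = b * w * b⁻¹ := by rw [hwdef]; group
      _ = z := hwz' b (hTall b) hb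

end Cfsg.Agent.S4401
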