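import Cfsg.Statements.S4402
import Cfsg.Agent.Lib.TwoGroups.WreathNormalizer
-- import your own Cfsg.Agent.* helpers here

set_option autoImplicit false
open Cfsg

namespace Cfsg.Agent.S4402

/-- Let S be a finite 2-group of sectional 2-rank at most 4 and P a proper subgroup isomorphic to the wreath product of the dihedral group of order 8 by a group of order 2 (equivalently, to a Sylow 2-subgroup of the symmetric group of degree 8; order 128). Then Z(S) = Z(P) has order 2, P has index 2 in its normalizer N_S(P), N_S(P)/Z(S) is again isomorphic to that wreath product, and every elementary abelian subgroup V of order 16 that is normal in P satisfies N_S(V) = P. -/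
theorem result {S : Type*} [Group S] [Finite S] (h2 : IsPGroup 2 S) (hr : Cfsg.SectionalPRankLE 2 4 S)
    (P : Subgroup S) (hPlt : P ≠ ⊤) (hP : ∃ T : Sylow 2 (Equiv.Perm (Fin 8)), Nonempty (↥P ≃* ↥(T : Subgroup (Equiv.Perm (Fin 8))))) :
    Subgroup.center S = (Subgroup.center ↥P).map P.subtype ∧ Nat.card ↥(Subgroup.center S) = 2 ∧
    P.relIndex (Subgroup.normalizer (P : Set S)) = 2 ∧
    (∃ (_ : ((Subgroup.center S).subgroupOf (Subgroup.normalizer (P : Set S))).Normal) (T : Sylow 2 (Equiv.Perm (Fin 8))),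
      Nonempty (↥(Subgroup.normalizer (P : Set S)) ⧸ (Subgroup.center S).subgroupOf (Subgroup.normalizer (P : Set S)) ≃*
        ↥(T : Subgroup (Equiv.Perm (Fin 8))))) ∧
    ∀ V : Subgroup S, V ≤ P → (∀ g ∈ P, ∀ v ∈ V, g * v * g⁻¹ ∈ V) → Cfsg.IsElementaryAbelian 2 V → Nat.card ↥V = 16 →
      Subgroup.normalizer (V : Set S) = P := by
  obtain ⟨T, ⟨eT⟩⟩ := hP
  obtain ⟨eW⟩ := CfsgLib.TwoGroups.DihedralWreath.exists_sylow_mulEquiv T
  let h : CfsgLib.TwoGroups.WreathOver.Setup S :=
    { ι := P.subtype.comp (eW.trans eT.symm).toMonoidHom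
      inj := P.subtype_injective.comp (eW.trans eT.symm).injective
      two := h2
      rank := hr }
  have hPe : h.P = P := by
    show (P.subtype.comp (eW.trans eT.symm).toMonoidHom).range = P
    rw [MonoidHom.range_comp, MonoidHom.range_eq_top.2 (eW.trans eT.symm).surjective,
      ← MonoidHom.range_eq_map, Subgroup.range_subtype]
  have c1 := h.center_eq
  rw [hPe] at c1
  have c3 : P.relIndex (Subgroup.normalizer (P : Set S)) = 2 := by
    have := h.relIndex_eq_two (hPe ▸ hPlt)
    rwa [hPe] at this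
  refine ⟨c1, h.card_center, c3, ?_, ?_⟩
  · haveI hn : ((Subgroup.center S).subgroupOf (Subgroup.normalizer (P : Set S))).Normal :=
      Subgroup.Normal.subgroupOf inferInstance _
    refine ⟨hn, T, ?_⟩
    have key : ∀ Q : Subgroup S, Q = P → ∀ _ : ((Subgroup.center S).subgroupOf (Subgroup.normalizer (Q : Set S))).Normal,
        Nonempty (CfsgLib.TwoGroups.DihedralWreath.W ≃* Subgroup.normalizer (Q : Set S) ⧸
          (Subgroup.center S).subgroupOf (Subgroup.normalizer (Q : Set S))) →
        Nonempty (↥(Subgroup.normalizer (P : Set S)) ⧸ (Subgroup.center S).subgroupOf (Subgroup.normalizer (P : Set S)) ≃*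
          ↥(T : Subgroup (Equiv.Perm (Fin 8)))) := by
      rintro Q rfl _ ⟨e⟩
      exact ⟨e.symm.trans eW⟩
    haveI : ((Subgroup.center S).subgroupOf (Subgroup.normalizer (h.P : Set S))).Normal :=
      Subgroup.Normal.subgroupOf inferInstance _
    exact key h.P hPe inferInstance (h.quotient_mulEquiv (hPe ▸ hPlt))
  · intro V hVP hn hV h16
    have hc : ∀ a ∈ V, ∀ b ∈ V, a * b = b * a := fun a ha b hb =>
      congrArg Subtype.val (isMulCommutative_iff.1 hV.1 ⟨a, ha⟩ ⟨b, hb⟩)
    have h2' : ∀ a ∈ V, a * a = 1 := fun a ha => by rw [← pow_two]; exact hV.2 a ha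
    rcases h.normal_sixteen (hPe ▸ hVP) (by rw [hPe]; exact hn) hc h2' h16 with rfl | rfl
    · rw [h.normalizer_V (Or.inl rfl), hPe]
    · rw [h.normalizer_V (Or.inr rfl), hPe]

end Cfsg.Agent.S4402
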