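import Cfsg.Statements.S4403
import Cfsg.Agent.Lib.Solvable.Cores
import Cfsg.Agent.Lib.Components.Basic

set_option autoImplicit false
open Cfsg

namespace Cfsg.Agent.S4403

open Subgroup
open CfsgLib.Solvable
open CfsgLib.Solvable.Cores (pCore_normal pPrimeCore_normal)
open scoped Pointwise commutatorElement

universe u

variable {K : Type u} [Group K] [Finite K] {p : ℕ} [Fact p.Prime]

omit [Finite K] in
/-- A `p`-element normalising a Sylow `p`-subgroup lies in it. -/
theorem mem_sylow_of_normalizes (P : Sylow p K) {g : K} (hg : IsPGroup p (zpowers g))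
    (hn : g ∈ normalizer ((P : Subgroup K) : Set K)) : g ∈ (P : Subgroup K) := by
  have h1 : IsPGroup p ((P : Subgroup K) ⊔ zpowers g : Subgroup K) :=
    P.isPGroup'.to_sup_of_normal_left' hg (zpowers_le.2 hn)
  rw [← P.is_maximal' h1 le_sup_left]
  exact mem_sup_right (mem_zpowers g)

/-- An element normalising a cyclic Sylow subgroup and fixing a nontrivial element of it centralises it. -/
theorem commute_of_fixes (P : Sylow p K) (hP : IsCyclic (P : Subgroup K)) {g w : K}
    (hn : g ∈ normalizer ((P : Subgroup K) : Set K)) (hw : w ∈ (P : Subgroup K)) (hw1 : w ≠ 1)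
    (hc : Commute g w) : ∀ b ∈ (P : Subgroup K), Commute g b := by
  obtain ⟨⟨x, hx⟩, hgen⟩ := hP.exists_generator
  have hgen' : ∀ b ∈ (P : Subgroup K), ∃ i : ℤ, x ^ i = b := fun b hb => by
    obtain ⟨i, hi⟩ := mem_zpowers_iff.1 (hgen ⟨b, hb⟩)
    exact ⟨i, congrArg Subtype.val hi⟩
  obtain ⟨r, hr⟩ := hgen' _ ((mem_normalizer_iff.1 hn x).1 hx)
  obtain ⟨s, hs⟩ := hgen' w hw
  obtain ⟨n, hn'⟩ := IsPGroup.iff_orderOf.1 P.isPGroup' ⟨x, hx⟩
  rw [Subgroup.orderOf_mk] at hn'
  have hpr : (p : ℤ) ∣ r - 1 := by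
    by_contra hnd
    have h1 : (orderOf x : ℤ) ∣ (r - 1) * s := by
      rw [orderOf_dvd_iff_zpow_eq_one, sub_mul, one_mul, zpow_sub, zpow_mul, hr, conj_zpow, hs,
        hc.eq, mul_inv_cancel_right, mul_inv_cancel]
    have hcop : IsCoprime ((orderOf x : ℕ) : ℤ) (r - 1) := by
      rw [hn', Nat.cast_pow]
      exact ((Prime.coprime_iff_not_dvd (Nat.prime_iff_prime_int.1 Fact.out)).2 hnd).pow_left
    refine hw1 ?_
    rw [← hs, ← orderOf_dvd_iff_zpow_eq_one]
    exact hcop.dvd_of_dvd_mul_left h1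
  have hiter : ∀ k : ℕ, g ^ k * x * (g ^ k)⁻¹ = x ^ (r ^ k) := by
    intro k
    induction k with
    | zero => simp
    | succ k ih =>
      calc g ^ (k + 1) * x * (g ^ (k + 1))⁻¹ = g * (g ^ k * x * (g ^ k)⁻¹) * g⁻¹ := by
            rw [pow_succ']; group
        _ = x ^ (r ^ (k + 1)) := by rw [ih, ← conj_zpow, ← hr, ← zpow_mul, pow_succ']
  have hx1 : Commute (g ^ p ^ n) x := by
    refine mul_inv_eq_iff_eq_mul.1 ?_
    rw [hiter]
    have h1 : ((p : ℤ) ^ (n + 1)) ∣ r ^ p ^ n - 1 ^ p ^ n := dvd_sub_pow_of_dvd_sub hpr n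
    rw [one_pow] at h1
    have h2 : (orderOf x : ℤ) ∣ r ^ p ^ n - 1 := by
      rw [hn', Nat.cast_pow]
      exact (pow_dvd_pow _ n.le_succ).trans h1
    rw [orderOf_dvd_iff_zpow_eq_one, zpow_sub, zpow_one, mul_inv_eq_one] at h2
    exact h2
  have hg0 := (orderOf_pos g).ne'
  set m := orderOf g / p ^ (orderOf g).factorization p with hm
  have hgm : g ^ m ∈ (P : Subgroup K) := by
    refine mem_sylow_of_normalizes P ?_ (pow_mem hn m)
    refine IsPGroup.of_card (n := (orderOf g).factorization p) ?_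
    rw [Nat.card_zpowers, orderOf_pow' g (Nat.ordCompl_pos p hg0).ne',
      Nat.gcd_eq_right (Nat.ordCompl_dvd _ _), Nat.div_div_self (Nat.ordProj_dvd _ _) hg0]
  have hx2 : Commute (g ^ m) x := congrArg Subtype.val
    (hP.isMulCommutative.is_comm.comm (⟨g ^ m, hgm⟩ : (P : Subgroup K)) ⟨x, hx⟩)
  have hcop : Nat.gcd (p ^ n) m = 1 := ((Nat.coprime_ordCompl Fact.out hg0).pow_left n)
  have hbez := Nat.gcd_eq_gcd_ab (p ^ n) m
  rw [hcop, Nat.cast_one] at hbez
  have hx3 : Commute g x := by
    rw [← zpow_one g, hbez, zpow_add, zpow_mul, zpow_mul, zpow_natCast, zpow_natCast]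
    exact (hx1.zpow_left _).mul_left (hx2.zpow_left _)
  intro b hb
  obtain ⟨i, rfl⟩ := hgen' b hb
  exact hx3.zpow_right i

/-- Commuting elements of order `p` generate the same subgroup. -/
theorem mem_zpowers_of_commute (P : Sylow p K) (hP : IsCyclic (P : Subgroup K)) {x y : K}
    (hx : orderOf x = p) (hy : y ^ p = 1) (hc : Commute x y) : y ∈ zpowers x := by
  classical
  have hxp : IsPGroup p (zpowers x) := IsPGroup.of_card (n := 1) (by rw [Nat.card_zpowers, hx, pow_one])
  have hyp : IsPGroup p (zpowers y) := by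
    obtain ⟨i, -, hi⟩ := (Nat.dvd_prime_pow Fact.out).1 (show orderOf y ∣ p ^ 1 by
      rw [pow_one]; exact orderOf_dvd_of_pow_eq_one hy)
    exact IsPGroup.of_card (n := i) (by rw [Nat.card_zpowers, hi])
  have hsup : IsPGroup p (zpowers x ⊔ zpowers y : Subgroup K) := by
    refine hxp.to_sup_of_normal_left' hyp (zpowers_le.2 (mem_normalizer_iff.2 fun b => ?_))
    constructor
    · rintro ⟨i, rfl⟩
      exact ⟨i, by simp [(hc.zpow_left i).eq.symm]⟩
    · rintro ⟨i, hi⟩
      refine ⟨i, ?_⟩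
      change x ^ i = y * b * y⁻¹ at hi
      show x ^ i = b
      calc x ^ i = y⁻¹ * (x ^ i) * y := by rw [mul_assoc, (hc.zpow_left i).eq, inv_mul_cancel_left]
        _ = b := by rw [hi]; group
  obtain ⟨R, hR⟩ := hsup.exists_le_sylow
  have hRc : IsCyclic (R : Subgroup K) := (R.equiv P).isCyclic.2 hP
  haveI : Fintype (R : Subgroup K) := Fintype.ofFinite _
  have hxR : x ∈ (R : Subgroup K) := hR (mem_sup_left (mem_zpowers x))
  have hyR : y ∈ (R : Subgroup K) := hR (mem_sup_right (mem_zpowers y))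
  set X := zpowers (⟨x, hxR⟩ : (R : Subgroup K)) with hX
  have hXc : Nat.card X = p := by rw [Nat.card_zpowers, Subgroup.orderOf_mk, hx]
  have h1 : (X : Set (R : Subgroup K)).toFinset ⊆ Finset.univ.filter fun z => z ^ p = 1 := by
    intro z hz
    rw [Set.mem_toFinset] at hz
    rw [Finset.mem_filter]
    refine ⟨Finset.mem_univ _, ?_⟩
    obtain ⟨i, rfl⟩ := hz
    show ((⟨x, hxR⟩ : (R : Subgroup K)) ^ i) ^ p = 1
    rw [← zpow_natCast, zpow_comm, zpow_natCast]
    refine (congrArg (· ^ i) (Subtype.ext ?_)).trans (one_zpow i)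
    show x ^ p = 1
    exact hx ▸ pow_orderOf_eq_one x
  have h2 := Finset.eq_of_subset_of_card_le h1 ((IsCyclic.card_pow_eq_one_le (Fact.out : p.Prime).pos).trans (by
    rw [Set.toFinset_card, ← Nat.card_eq_fintype_card]
    exact hXc.ge))
  have h3 : (⟨y, hyR⟩ : (R : Subgroup K)) ∈ (X : Set (R : Subgroup K)).toFinset := by
    rw [h2, Finset.mem_filter]
    exact ⟨Finset.mem_univ _, Subtype.ext hy⟩
  rw [Set.mem_toFinset] at h3
  obtain ⟨i, hi⟩ := h3
  exact ⟨i, congrArg Subtype.val hi⟩

theorem no_commuting (P : Sylow p K) (hP : IsCyclic (P : Subgroup K)) (A B : Subgroup K)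
    (hd : A ⊓ B = ⊥) (hA : p ∣ Nat.card A) (hB : p ∣ Nat.card B)
    (hc : ∀ a ∈ A, ∀ b ∈ B, Commute a b) : False := by
  obtain ⟨⟨a, ha⟩, hao⟩ := exists_prime_orderOf_dvd_card' p hA
  obtain ⟨⟨b, hb⟩, hbo⟩ := exists_prime_orderOf_dvd_card' p hB
  rw [Subgroup.orderOf_mk] at hao hbo
  have h1 := mem_zpowers_of_commute P hP hao (hbo ▸ pow_orderOf_eq_one b) (hc a ha b hb)
  have h2 : b ∈ A ⊓ B := ⟨zpowers_le.2 ha h1, hb⟩
  rw [hd, mem_bot] at h2
  rw [h2, orderOf_one] at hbo
  exact (Fact.out : p.Prime).one_lt.ne hbo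

omit [Fact p.Prime] in
theorem pPrimeCore_normal_eq_bot (hO : Cfsg.pPrimeCore p K = ⊥) (M : Subgroup K) [M.Normal] :
    Cfsg.pPrimeCore p M = ⊥ := by
  have h : (Cfsg.pPrimeCore p M).map M.subtype ≤ Cfsg.pPrimeCore p K := by
    refine Cores.le_pPrimeCore ?_
    rw [card_map_of_injective M.subtype_injective]
    exact Cores.coprime_card_pPrimeCore p
  rw [hO, le_bot_iff, map_eq_bot_iff_of_injective _ M.subtype_injective] at h
  exact h

theorem dvd_card_of_normal {M : Type*} [Group M] [Finite M] (hO : Cfsg.pPrimeCore p M = ⊥)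
    (N : Subgroup M) [N.Normal] (hN : N ≠ ⊥) : p ∣ Nat.card N := by
  by_contra hd
  exact hN (le_bot_iff.1 (hO ▸ Cores.le_pPrimeCore (p := p)
    (((Fact.out : p.Prime).coprime_iff_not_dvd.2 hd).symm)))

theorem case_one (P : Sylow p K) (hP : IsCyclic (P : Subgroup K)) (hO : Cfsg.pPrimeCore p K = ⊥)
    (hQ : Cfsg.pCore p K ≠ ⊥) :
    (P : Subgroup K).Normal ∧ centralizer ((P : Subgroup K) : Set K) = (P : Subgroup K) ∧
      (∀ (_ : (P : Subgroup K).Normal), IsCyclic (K ⧸ (P : Subgroup K))) ∧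
      (P : Subgroup K).index ∣ p - 1 := by
  set C := centralizer ((Cfsg.pCore p K : Subgroup K) : Set K) with hC
  have hQP : Cfsg.pCore p K ≤ (P : Subgroup K) := Cores.pCore_le_sylow P
  have hPab : ∀ a ∈ (P : Subgroup K), ∀ b ∈ (P : Subgroup K), Commute a b := fun a ha b hb =>
    congrArg Subtype.val (hP.isMulCommutative.is_comm.comm (⟨a, ha⟩ : (P : Subgroup K)) ⟨b, hb⟩)
  have hPC : (P : Subgroup K) ≤ C := fun a ha =>
    mem_centralizer_iff.2 fun b hb => (hPab b (hQP hb) a ha).eq
  have : Nontrivial (Cfsg.pCore p K) := (Subgroup.nontrivial_iff_ne_bot _).2 hQ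
  obtain ⟨⟨w, hwQ⟩, hw1⟩ := exists_ne (1 : Cfsg.pCore p K)
  replace hw1 : w ≠ 1 := fun h => hw1 (Subtype.ext h)
  have hburn : normalizer ((P.subtype hPC : Subgroup C) : Set C) ≤
      centralizer ((P.subtype hPC : Subgroup C) : Set C) := by
    intro c hc
    refine mem_centralizer_iff.2 fun b hb => Subtype.ext ?_
    have hcn : (c : K) ∈ normalizer ((P : Subgroup K) : Set K) := by
      have h1 := le_normalizer_map C.subtype (mem_map_of_mem C.subtype hc)
      rwa [Sylow.coe_subtype, subgroupOf_map_subtype, inf_eq_left.2 hPC] at h1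
    have hcw : Commute (c : K) w := ((mem_centralizer_iff.1 c.2) w hwQ).symm
    exact (commute_of_fixes P hP hcn (hQP hwQ) hw1 hcw b hb).eq.symm
  set f := MonoidHom.transferSylow (P.subtype hPC) hburn
  have hker : f.ker = ⊥ := by
    have h1 : f.ker ≤ Cfsg.pPrimeCore p C := Cores.le_pPrimeCore
      (((Fact.out : p.Prime).coprime_iff_not_dvd.2
        (MonoidHom.not_dvd_card_ker_transferSylow _ hburn)).symm)
    rwa [pPrimeCore_normal_eq_bot hO C, le_bot_iff] at h1
  have hCP : C = (P : Subgroup K) := by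
    have h1 := MonoidHom.ker_transferSylow_isComplement' (P.subtype hPC) hburn
    rw [show (MonoidHom.transferSylow (P.subtype hPC) hburn).ker = ⊥ from hker,
      isComplement'_bot_left, Sylow.coe_subtype, subgroupOf_eq_top] at h1
    exact le_antisymm h1 hPC
  have hn : (P : Subgroup K).Normal := hCP ▸ (inferInstance : C.Normal)
  have hcent : centralizer ((P : Subgroup K) : Set K) = (P : Subgroup K) := by
    refine le_antisymm ((centralizer_le hQP).trans hCP.le) fun a ha => ?_
    exact mem_centralizer_iff.2 fun b hb => (hPab b hb a ha).eq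
  obtain ⟨⟨x, hxP⟩, hxo⟩ := exists_prime_orderOf_dvd_card' p (G := (P : Subgroup K)) (by
    obtain ⟨k, hk⟩ := P.isPGroup'.exists_card_eq
    rcases Nat.eq_zero_or_pos k with rfl | hk0
    · exfalso
      rw [pow_zero, card_eq_one] at hk
      exact hQ (le_bot_iff.1 (hk ▸ hQP))
    · exact hk ▸ dvd_pow_self p hk0.ne')
  rw [Subgroup.orderOf_mk] at hxo
  set W := zpowers x with hW
  have hWn : W.Normal := by
    refine ⟨fun b hb g => ?_⟩
    obtain ⟨i, rfl⟩ := hb
    show g * x ^ i * g⁻¹ ∈ W
    rw [← conj_zpow]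
    refine zpow_mem ?_ i
    refine mem_zpowers_of_commute P hP hxo ?_ (hPab x hxP _ (hn.conj_mem x hxP g))
    rw [conj_pow, ← hxo, pow_orderOf_eq_one, mul_one, mul_inv_cancel]
  let ψ : K →* MulAut W := MulAut.conjNormal
  have hψ : ψ.ker = (P : Subgroup K) := by
    refine le_antisymm (fun g hg => ?_) fun g hg => ?_
    · rw [MonoidHom.mem_ker] at hg
      have hgx : g * x * g⁻¹ = x := by
        have := congrArg Subtype.val (DFunLike.congr_fun hg (⟨x, mem_zpowers x⟩ : W))
        rwa [MulAut.conjNormal_apply] at this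
      have hx1 : x ≠ 1 := by
        rintro rfl
        rw [orderOf_one] at hxo
        exact (Fact.out : p.Prime).one_lt.ne hxo
      have h1 := commute_of_fixes P hP (g := g) (by rw [normalizer_eq_top]; trivial) hxP hx1
        (mul_inv_eq_iff_eq_mul.1 hgx)
      rw [← hcent]
      exact mem_centralizer_iff.2 fun b hb => (h1 b hb).eq.symm
    · rw [MonoidHom.mem_ker]
      refine MulEquiv.ext fun b => Subtype.ext ?_
      rw [MulAut.conjNormal_apply, (hPab g hg b (zpowers_le.2 hxP b.2)).eq, mul_inv_cancel_right]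
      rfl
  have hWc : Nat.card W = p := by rw [Nat.card_zpowers, hxo]
  have hcyc : IsCyclic (MulAut W) := by
    have h1 : IsCyclic (ZMod (Nat.card W))ˣ := by
      rw [hWc]
      infer_instance
    exact (IsCyclic.mulAutMulEquiv W).isCyclic.2 h1
  refine ⟨hn, hcent, fun _ => ?_, ?_⟩
  · have h1 : IsCyclic (K ⧸ ψ.ker) :=
      (QuotientGroup.quotientKerEquivRange ψ).isCyclic.2 inferInstance
    exact (QuotientGroup.quotientMulEquivOfEq hψ).isCyclic.1 h1
  · rw [← hψ, index_ker]
    have h1 := card_subgroup_dvd_card ψ.range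
    rwa [IsCyclic.card_mulAut, hWc, Nat.totient_prime Fact.out] at h1

theorem case_two (P : Sylow p K) (hP : IsCyclic (P : Subgroup K)) (hp : p ∣ Nat.card K)
    (hO : Cfsg.pPrimeCore p K = ⊥) (hQ : Cfsg.pCore p K = ⊥) :
    IsSimpleGroup ↥(Cfsg.generalizedFittingSubgroup K) ∧
      ¬ IsMulCommutative ↥(Cfsg.generalizedFittingSubgroup K) ∧
      ¬ p ∣ (Cfsg.generalizedFittingSubgroup K).index := by
  have htop : (⊤ : Subgroup K) ≠ ⊥ := by
    intro h
    have h1 := congrArg (fun H : Subgroup K => Nat.card H) h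
    simp only [card_top, card_bot] at h1
    exact (Fact.out : p.Prime).one_lt.ne' (Nat.dvd_one.1 (h1 ▸ hp))
  obtain ⟨M, hMn, hMne, -, hMmin⟩ := Basic.exists_minimal_normal_le htop
  have hMO := pPrimeCore_normal_eq_bot hO M
  have hpM : p ∣ Nat.card M := dvd_card_of_normal hO M hMne
  -- the minimal normal subgroup is simple
  have hnt : Nontrivial M := (nontrivial_iff_ne_bot M).2 hMne
  obtain ⟨N, hNn, hNne, -, hNmin⟩ :=
    Basic.exists_minimal_normal_le (G := M) (H := ⊤) top_ne_bot
  have hNchar : N.Characteristic := by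
    refine characteristic_iff_map_eq.2 fun φ => ?_
    have hn' : (N.map φ.toMonoidHom).Normal := hNn.map _ φ.surjective
    have hc : Nat.card (N.map φ.toMonoidHom) = Nat.card N := card_map_of_injective φ.injective
    rcases hNmin (N ⊓ N.map φ.toMonoidHom) inferInstance inf_le_left with h | h
    · exfalso
      refine no_commuting P hP (N.map M.subtype) ((N.map φ.toMonoidHom).map M.subtype) ?_ ?_ ?_ ?_
      · rw [← map_inf _ _ _ M.subtype_injective, h, Subgroup.map_bot]
      · rw [card_map_of_injective M.subtype_injective]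
        exact dvd_card_of_normal hMO N hNne
      · rw [card_map_of_injective M.subtype_injective, hc]
        exact dvd_card_of_normal hMO N hNne
      · rintro _ ⟨a, ha, rfl⟩ _ ⟨b, hb, rfl⟩
        exact (commute_of_normal_of_disjoint _ _ hNn hn' (disjoint_iff.2 h) a b ha hb).map M.subtype
    · exact (eq_of_le_of_card_ge (inf_eq_left.1 h) hc.le).symm
  have hNtop : N = ⊤ := by
    rcases hMmin (N.map M.subtype) inferInstance (map_subtype_le N) with h | h
    · exact absurd ((map_eq_bot_iff_of_injective _ M.subtype_injective).1 h) hNne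
    · exact map_injective M.subtype_injective (by rw [h, ← MonoidHom.range_eq_map, range_subtype])
  have hsimple : IsSimpleGroup M :=
    { eq_bot_or_eq_top_of_normal := fun L hL => by
        have := hNmin L hL (hNtop ▸ le_top)
        rwa [hNtop] at this }
  have hnp : ¬ IsPGroup p M := fun h => hMne (le_bot_iff.1 (hQ ▸ Cores.le_pCore h))
  have hnc : ¬ IsMulCommutative M := by
    intro hcomm
    have hnc' : ∀ a b : M, a * b = b * a := fun a b => hcomm.is_comm.comm a b
    let _ : CommGroup M := { (inferInstance : Group M) with mul_comm := hnc' }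
    have hpr : (Nat.card M).Prime := IsSimpleGroup.prime_card
    exact hnp (IsPGroup.of_card (n := 1) (by
      rw [pow_one]; exact ((Nat.prime_dvd_prime_iff_eq Fact.out hpr).1 hpM).symm))
  have huniq : ∀ L : Subgroup K, L.Normal → L ≠ ⊥ → M ≤ L := by
    intro L hL hLne
    rcases hMmin (M ⊓ L) inferInstance inf_le_left with h | h
    · exact (no_commuting P hP M L h hpM (dvd_card_of_normal hO L hLne) fun a ha b hb =>
        commute_of_normal_of_disjoint _ _ hMn hL (disjoint_iff.2 h) a b ha hb).elim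
    · exact inf_eq_left.1 h
  have hCM : centralizer (M : Set K) = ⊥ := by
    by_contra h
    exact hnc ⟨⟨fun a b => Subtype.ext
      (mem_centralizer_iff.1 (huniq _ inferInstance h b.2) a a.2)⟩⟩
  have hsolv : ¬ Group.IsSolvable M := fun h =>
    hnc ⟨⟨IsSimpleGroup.comm_iff_isSolvable.2 h⟩⟩
  have hF : Cfsg.fittingSubgroup K = ⊥ := by
    by_contra h
    have hle := huniq _ inferInstance h
    exact hsolv (Group.isSolvable_of_isSolvable_injective (inclusion_injective hle))
  have hMcomp : Cfsg.IsComponent M := by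
    refine ⟨hMn.isSubnormal, ?_, ?_⟩
    · rcases hsimple.eq_bot_or_eq_top_of_normal (commutator M) inferInstance with h | h
      · exact absurd ⟨⟨fun a b => (commutatorElement_eq_one_iff_mul_comm).1 (by
          have hm : ⁅a, b⁆ ∈ commutator M := by
            rw [_root_.commutator_def]; exact commutator_mem_commutator trivial trivial
          rwa [h, mem_bot] at hm)⟩⟩ hnc
      · exact ⟨h⟩
    · have hz : center M = ⊥ := (hsimple.eq_bot_or_eq_top_of_normal _ inferInstance).resolve_right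
        fun h => hnc ⟨⟨fun a b => ((mem_center_iff.1 (h ▸ mem_top b)) a)⟩⟩
      exact ((QuotientGroup.quotientMulEquivOfEq hz).trans QuotientGroup.quotientBot).isSimpleGroup
  have hGF : Cfsg.generalizedFittingSubgroup K = M := by
    rw [Cfsg.generalizedFittingSubgroup, hF, sup_bot_eq]
    refine le_antisymm (sSup_le fun L hL => ?_) (le_sSup hMcomp)
    rcases CfsgLib.Components.IsComponent.le_or_commutator_eq_bot_of_normal hL M with h | h
    · exact h
    · have h1 := commutator_eq_bot_iff_le_centralizer.1 h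
      rw [hCM, le_bot_iff] at h1
      exact absurd h1 (CfsgLib.Components.IsComponent.ne_bot hL)
  rw [hGF]
  refine ⟨hsimple, hnc, ?_⟩
  suffices hle : (P : Subgroup K) ≤ M from fun hd => P.not_dvd_index (hd.trans (index_dvd_of_le hle))
  set J := M ⊔ (P : Subgroup K) with hJ
  have hMJ : M ≤ J := le_sup_left
  have hPJ : (P : Subgroup K) ≤ J := le_sup_right
  have hPab : ∀ a ∈ (P : Subgroup K), ∀ b ∈ (P : Subgroup K), Commute a b := fun a ha b hb =>
    congrArg Subtype.val (hP.isMulCommutative.is_comm.comm (⟨a, ha⟩ : (P : Subgroup K)) ⟨b, hb⟩)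
  by_cases hburn : normalizer ((P.subtype hPJ : Subgroup J) : Set J) ≤
      centralizer ((P.subtype hPJ : Subgroup J) : Set J)
  · exfalso
    set f := MonoidHom.transferSylow (P.subtype hPJ) hburn
    have hcop : ¬ p ∣ Nat.card f.ker := MonoidHom.not_dvd_card_ker_transferSylow _ hburn
    have hinj : Function.Injective (f.comp (inclusion hMJ)) := by
      rw [← MonoidHom.ker_eq_bot_iff]
      rcases hsimple.eq_bot_or_eq_top_of_normal (f.comp (inclusion hMJ)).ker inferInstance with h | h
      · exact h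
      · exfalso
        have hle : M.subgroupOf J ≤ f.ker := fun a ha =>
          (show (⟨(a : K), ha⟩ : M) ∈ (f.comp (inclusion hMJ)).ker from h ▸ mem_top _)
        have h2 := card_dvd_of_le hle
        rw [Nat.card_congr (subgroupOfEquivOfLe hMJ).toEquiv] at h2
        exact hcop (hpM.trans h2)
    exact hnp ((P.subtype hPJ).isPGroup'.of_injective _ hinj)
  obtain ⟨j, hj, hjc⟩ := SetLike.not_le_iff_exists.1 hburn
  have hjn : (j : K) ∈ normalizer ((P : Subgroup K) : Set K) := by
    have h1 := le_normalizer_map J.subtype (mem_map_of_mem J.subtype hj)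
    rwa [Sylow.coe_subtype, subgroupOf_map_subtype, inf_eq_left.2 hPJ] at h1
  obtain ⟨m, hm, u, hu, hmu⟩ := mem_sup_of_normal_left.1 j.2
  have hmn : m ∈ normalizer ((P : Subgroup K) : Set K) := by
    rw [show m = (j : K) * u⁻¹ by rw [← hmu, mul_inv_cancel_right]]
    exact mul_mem hjn (inv_mem (le_normalizer hu))
  obtain ⟨⟨x, hx⟩, hgen⟩ := hP.exists_generator
  obtain ⟨r, hr⟩ := mem_zpowers_iff.1 (hgen ⟨m * x * m⁻¹, (mem_normalizer_iff.1 hmn x).1 hx⟩)
  replace hr : x ^ r = m * x * m⁻¹ := congrArg Subtype.val hr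
  obtain ⟨n, hn⟩ := IsPGroup.iff_orderOf.1 P.isPGroup' ⟨x, hx⟩
  rw [Subgroup.orderOf_mk] at hn
  have hxr : x ^ (r - 1) ∈ M := by
    rw [zpow_sub, zpow_one, hr, show m * x * m⁻¹ * x⁻¹ = m * (x * m⁻¹ * x⁻¹) by group]
    exact mul_mem hm (hMn.conj_mem _ (inv_mem hm) x)
  by_cases hpr : (p : ℤ) ∣ r - 1
  · exfalso
    apply hjc
    refine mem_centralizer_iff.2 fun b hb => Subtype.ext ?_
    have hP0 : ∃ w ∈ (P : Subgroup K), w ≠ 1 ∧ Commute m w := by
      rcases Nat.eq_zero_or_pos n with rfl | hn0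
      · exfalso
        rw [pow_zero, orderOf_eq_one_iff] at hn
        refine (P.ne_bot_of_dvd_card hp) ((eq_bot_iff_forall _).2 fun z hz => ?_)
        obtain ⟨i, hi⟩ := mem_zpowers_iff.1 (hgen ⟨z, hz⟩)
        rw [← show x ^ i = z from congrArg Subtype.val hi, hn, one_zpow]
      · refine ⟨x ^ p ^ (n - 1), pow_mem hx _, fun h => ?_, ?_⟩
        · have h1 := orderOf_dvd_of_pow_eq_one h
          rw [hn, Nat.pow_dvd_pow_iff_le_right (Fact.out : p.Prime).one_lt] at h1
          omega
        · refine mul_inv_eq_iff_eq_mul.1 ?_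
          rw [← conj_pow, ← hr, ← zpow_natCast, ← zpow_mul, ← zpow_natCast x, ← mul_inv_eq_one,
            ← zpow_sub, ← orderOf_dvd_iff_zpow_eq_one, hn]
          obtain ⟨c, hc⟩ := hpr
          refine ⟨c, ?_⟩
          push_cast
          conv_rhs => rw [show n = n - 1 + 1 by omega, pow_succ]
          linear_combination ((p : ℤ) ^ (n - 1)) * hc
    obtain ⟨w, hw, hw1, hmw⟩ := hP0
    have h1 := (commute_of_fixes P hP hmn hw hw1 hmw b hb).mul_left (hPab u hu b hb)
    rw [hmu] at h1
    exact h1.eq.symm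
  intro b hb
  have hxM : x ∈ M := by
    have hcop : IsCoprime ((orderOf x : ℕ) : ℤ) (r - 1) := by
      rw [hn, Nat.cast_pow]
      exact ((Prime.coprime_iff_not_dvd (Nat.prime_iff_prime_int.1 Fact.out)).2 hpr).pow_left
    obtain ⟨a, c, hac⟩ := hcop
    rw [← zpow_one x, ← hac, zpow_add, mul_comm a, zpow_mul, zpow_natCast, pow_orderOf_eq_one,
      one_zpow, one_mul, mul_comm c, zpow_mul]
    exact zpow_mem hxr c
  obtain ⟨i, hi⟩ := mem_zpowers_iff.1 (hgen ⟨b, hb⟩)
  rw [← show x ^ i = b from congrArg Subtype.val hi]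
  exact zpow_mem hxM i


/-- Let K be a finite group, p a prime dividing its order with O_{p'}(K) = 1 (no nontrivial normal subgroup of order prime to p), and P a cyclic Sylow p-subgroup of K. Then either P is normal and self-centralizing in K with K/P cyclic of order dividing p − 1 (so K is the semidirect product of P by a group of automorphisms of P of order dividing p − 1), or the generalized Fitting subgroup F*(K) is a non-abelian simple group and p does not divide the index of F*(K) in K. -/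
theorem result {K : Type*} [Group K] [Finite K] (p : ℕ) [Fact p.Prime] (hp : p ∣ Nat.card K) (hO : Cfsg.pPrimeCore p K = ⊥)
    (P : Sylow p K) (hP : IsCyclic ↥(P : Subgroup K)) :
    ((P : Subgroup K).Normal ∧ Subgroup.centralizer ((P : Subgroup K) : Set K) = (P : Subgroup K) ∧
      (∀ (_ : (P : Subgroup K).Normal), IsCyclic (K ⧸ (P : Subgroup K))) ∧ (P : Subgroup K).index ∣ p - 1) ∨
    (IsSimpleGroup ↥(Cfsg.generalizedFittingSubgroup K) ∧ ¬ IsMulCommutative ↥(Cfsg.generalizedFittingSubgroup K) ∧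
      ¬ p ∣ (Cfsg.generalizedFittingSubgroup K).index) := by
  by_cases hQ : Cfsg.pCore p K = ⊥
  · exact Or.inr (case_two P hP hp hO hQ)
  · exact Or.inl (case_one P hP hO hQ)

end Cfsg.Agent.S4403
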