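import Cfsg.Statements.S4404
import Cfsg.Agent.Lib.Solvable.CyclicThreeMover
import Cfsg.Agent.Lib.Solvable.Hall
import Cfsg.Agent.Lib.OddOrder.SCN3
import Cfsg.Agent.S1450
-- import your own Cfsg.Agent.* helpers here

set_option autoImplicit false
open Cfsg CfsgLib CfsgLib.Solvable.CyclicThreeMover
open scoped commutatorElement Pointwise

namespace Cfsg.Agent.S4404

/-- Let S be a finite solvable group and M a normal elementary abelian 2-subgroup of S. Suppose S contains an elementary abelian subgroup of order p³ for some odd prime p, and a cyclic 3-subgroup Q such that the cubes of the elements of Q centralize M and the commutator subgroup [Q, M] has order 4 (a four-group inside M). Then S contains an elementary abelian subgroup F of order r³, for some odd prime r, whose centralizer of [Q, M] in F — the subgroup C_F([Q, M]) — is not cyclic. -/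
theorem result {S : Type*} [Group S] [Finite S]
    [Group.IsSolvable S] (M : Subgroup S) [M.Normal] (hM : Cfsg.IsElementaryAbelian 2 M)
    (p : ℕ) (hp : p.Prime) (hp2 : p ≠ 2) (E : Subgroup S) (hE : Cfsg.IsElementaryAbelian p E) (hE3 : Nat.card ↥E = p ^ 3)
    (Q : Subgroup S) (hQc : IsCyclic ↥Q) (hQ3 : IsPGroup 3 ↥Q)
    (hQ1 : ∀ x ∈ Q, x ^ 3 ∈ Subgroup.centralizer (M : Set S)) (hQM : Nat.card ↥⁅Q, M⁆ = 4) :
    ∃ (r : ℕ) (F : Subgroup S), r.Prime ∧ r ≠ 2 ∧ Cfsg.IsElementaryAbelian r F ∧ Nat.card ↥F = r ^ 3 ∧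
      ¬ IsCyclic ↥(F ⊓ Subgroup.centralizer ((⁅Q, M⁆ : Subgroup S) : Set S)) := by
  classical
  obtain ⟨g₀, hg₀⟩ := hQc.exists_generator
  obtain ⟨x, hx⟩ := g₀
  have hQx : Q = Subgroup.zpowers x := le_antisymm
    (fun y hy => by
      obtain ⟨i, hi⟩ := Subgroup.mem_zpowers_iff.1 (hg₀ ⟨y, hy⟩)
      exact Subgroup.mem_zpowers_iff.2 ⟨i, congrArg Subtype.val hi⟩)
    (Subgroup.zpowers_le.2 hx)
  set W := ⁅Q, M⁆ with hW
  have hMc : ∀ a ∈ M, ∀ b ∈ M, a * b = b * a := fun a ha b hb =>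
    congrArg Subtype.val (isMulCommutative_iff.1 hM.1 ⟨a, ha⟩ ⟨b, hb⟩)
  have hM2 : ∀ a ∈ M, a * a = 1 := fun a ha => by rw [← pow_two]; exact hM.2 a ha
  have hmul : ∀ a ∈ M, ∀ b ∈ M, psi x (a * b) = psi x a * psi x b := by
    intro a ha b hb
    have hm : psi x b ∈ M := mul_mem (‹M.Normal›.conj_mem b hb x) (inv_mem hb)
    have e : psi x (a * b) = x * a * x⁻¹ * (psi x b * a⁻¹) := by simp only [psi]; group
    rw [e, hMc _ hm _ (inv_mem ha), ← mul_assoc]
    rfl
  let R : Subgroup S :=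
    { carrier := {u | ∃ m ∈ M, psi x m = u}
      one_mem' := ⟨1, one_mem _, by simp [psi]⟩
      mul_mem' := by
        rintro _ _ ⟨a, ha, rfl⟩ ⟨b, hb, rfl⟩
        exact ⟨a * b, mul_mem ha hb, hmul a ha b hb⟩
      inv_mem' := by
        rintro _ ⟨a, ha, rfl⟩
        refine ⟨a⁻¹, inv_mem ha, ?_⟩
        rw [eq_inv_iff_mul_eq_one, ← hmul _ (inv_mem ha) _ ha, inv_mul_cancel]
        simp [psi] }
  have hRi : ∀ i : ℕ, ∀ m ∈ M, psi (x ^ i) m ∈ R := by
    intro i
    induction i with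
    | zero => intro m _; rw [show psi (x ^ 0) m = 1 by simp [psi]]; exact one_mem _
    | succ i ih =>
      intro m hm
      have e : psi (x ^ (i + 1)) m = psi x (x ^ i * m * (x ^ i)⁻¹) * psi (x ^ i) m := by
        rw [pow_succ']; simp only [psi]; group
      rw [e]
      exact mul_mem ⟨_, ‹M.Normal›.conj_mem m hm _, rfl⟩ (ih m hm)
  have hWR : W ≤ R := Subgroup.commutator_le.2 fun q hq m hm => by
    obtain ⟨i, rfl⟩ := Submonoid.mem_powers_iff _ _ |>.1 (mem_powers_iff_mem_zpowers.2 (hQx ▸ hq))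
    rw [commutatorElement_def]
    exact hRi i m hm
  have h : Hyp M W x :=
    { normal := inferInstance
      comm := hMc
      two := hM2
      psi_mem := fun m hm => by
        rw [psi, ← commutatorElement_def]
        exact Subgroup.commutator_mem_commutator hx hm
      exists_psi := fun w hw => hWR hw
      card := hQM
      cube := hQ1 x hx }
  show Good W
  haveI : Fact (Nat.Prime 3) := ⟨Nat.prime_three⟩
  haveI : Fact p.Prime := ⟨hp⟩
  obtain ⟨T3, hQT⟩ := hQ3.exists_le_sylow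
  by_cases hr3 : Cfsg.PRankLE 3 2 (T3 : Subgroup S)
  swap
  · obtain ⟨A, -, hAn, hAe, hA3⟩ := CfsgLib.OddOrder.SCN3.exists_normal_isEA (by norm_num) T3.isPGroup'
      hr3 ⊥ ⟨isMulCommutative_iff.2 fun a b => Subsingleton.elim _ _,
        fun a ha => by rw [Subgroup.mem_bot.1 ha]; simp⟩
    refine good_of_abelian (r := 3) h (by norm_num) (A := A.map (T3 : Subgroup S).subtype)
      ⟨?_, ?_⟩ (by rwa [Coprime.card_map_subtype]) ?_
    · haveI := hAe.1
      infer_instance
    · rintro _ ⟨a, ha, rfl⟩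
      rw [← map_pow, hAe.2 a ha, map_one]
    · refine Coprime.mem_normalizer_of_conj_map_le ?_
      rintro _ ⟨a, ha, rfl⟩
      exact ⟨(⟨x, hQT hx⟩ : (T3 : Subgroup S)) * a * (⟨x, hQT hx⟩ : (T3 : Subgroup S))⁻¹,
        hAn.conj_mem a ha _, rfl⟩
  -- the `3`-rank of `S` is at most two
  have hrS : Cfsg.PRankLE 3 2 S := by
    intro A hAc hA3
    obtain ⟨P, hP⟩ := (Components.Signalizer.isPGroup_of_elementary (⟨hAc, hA3⟩ :
      Cfsg.IsElementaryAbelian 3 A)).exists_le_sylow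
    obtain ⟨c, hc⟩ := MulAction.exists_smul_eq S P T3
    set B := (A.map (MulAut.conj c).toMonoidHom).subgroupOf (T3 : Subgroup S) with hB
    have hAT : A.map (MulAut.conj c).toMonoidHom ≤ (T3 : Subgroup S) := by
      rw [← hc, Sylow.coe_subgroup_smul]
      exact Subgroup.map_mono hP
    have hcard : Nat.card B = Nat.card A := by
      rw [hB, Nat.card_congr (Subgroup.subgroupOfEquivOfLe hAT).toEquiv]
      exact Subgroup.card_map_of_injective (MulAut.conj c).injective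
    haveI := hAc
    rw [← hcard]
    refine hr3 B inferInstance fun b hb => ?_
    obtain ⟨a, ha, e⟩ := Subgroup.mem_subgroupOf.1 hb
    refine Subtype.ext ?_
    rw [Subgroup.coe_pow, ← e, ← map_pow, hA3 a ha, map_one]
    rfl
  have hp3 : p ≠ 3 := by
    rintro rfl
    have := hrS E hE.1 hE.2
    rw [hE3] at this
    norm_num at this
  have hp5 : 5 ≤ p := by
    have h2 := hp.two_le
    have h4 : p ≠ 4 := fun e => by subst e; norm_num at hp
    omega
  -- a Hall `{3, p}`-subgroup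
  set N0 := Nat.card S with hN0
  set a := N0.factorization 3 with ha
  set b := N0.factorization p with hb
  have hd : 3 ^ a * p ^ b ∣ N0 := Nat.Coprime.mul_dvd_of_dvd_of_dvd
    (Nat.Coprime.pow _ _ ((Nat.coprime_primes Nat.prime_three hp).2 hp3.symm))
    (Nat.ordProj_dvd N0 3) (Nat.ordProj_dvd N0 p)
  obtain ⟨n, hn⟩ := hd
  have hn0 : N0 ≠ 0 := Nat.card_pos.ne'
  have h3n : ¬ 3 ∣ n := fun h3 => Nat.pow_succ_factorization_not_dvd hn0 Nat.prime_three (by
    have e := mul_dvd_mul (dvd_mul_right (3 ^ a) (p ^ b)) h3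
    rwa [← pow_succ, ← hn] at e)
  have hpn : ¬ p ∣ n := fun h3 => Nat.pow_succ_factorization_not_dvd hn0 hp (by
    have e := mul_dvd_mul (dvd_mul_left (p ^ b) (3 ^ a)) h3
    rwa [← pow_succ, ← hn] at e)
  have hmn : (3 ^ a * p ^ b).Coprime n := Nat.Coprime.mul_left
    (Nat.Coprime.pow_left _ (Nat.prime_three.coprime_iff_not_dvd.2 h3n))
    (Nat.Coprime.pow_left _ (hp.coprime_iff_not_dvd.2 hpn))
  obtain ⟨k, hk⟩ := hQ3.exists_card_eq
  obtain ⟨T, hTc, hQT'⟩ := CfsgLib.Solvable.Hall.exists_hall_ge hn hmn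
    (K := Q) (by rw [hk]; exact Nat.Coprime.pow_left _ (Nat.prime_three.coprime_iff_not_dvd.2 h3n))
  obtain ⟨c, hc⟩ := CfsgLib.Solvable.Hall.le_conj hn hmn hTc (K := E)
    (by rw [hE3]; exact Nat.Coprime.pow_left _ (hp.coprime_iff_not_dvd.2 hpn))
  set E' := E.map (MulAut.conj c⁻¹).toMonoidHom with hE'
  have hE'T : E' ≤ T := by
    rintro _ ⟨e, he, rfl⟩
    obtain ⟨t, ht, rfl⟩ := hc he
    simpa [mul_assoc] using ht
  have hE'e : Cfsg.IsElementaryAbelian p E' := by
    haveI := hE.1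
    refine ⟨by rw [hE']; infer_instance, ?_⟩
    rintro _ ⟨e, he, rfl⟩
    rw [← map_pow, hE.2 e he, map_one]
  have hE'3 : Nat.card E' = p ^ 3 := by
    rw [← hE3, hE']
    exact Subgroup.card_map_of_injective (MulAut.conj c⁻¹).injective
  have hTodd : Odd (Nat.card T) := by
    rw [hTc]
    exact Odd.mul (Odd.pow (by decide)) (Odd.pow (hp.odd_of_ne_two hp2))
  have hTr : Cfsg.PRankLE 3 2 T := by
    intro A hAc hA3
    haveI := hAc
    rw [← Coprime.card_map_subtype A]
    refine hrS _ inferInstance ?_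
    rintro _ ⟨y, hy, rfl⟩
    rw [← map_pow, hA3 y hy, map_one]
  have hx1 : orderOf x ≠ 1 := fun e => by
    have hW1 : W ≤ ⊥ := fun w hw => by
      obtain ⟨m, -, rfl⟩ := h.exists_psi w hw
      rw [Subgroup.mem_bot, orderOf_eq_one_iff.1 e]
      simp [psi]
    have := Subgroup.card_le_of_le hW1
    rw [hQM, Subgroup.card_bot] at this
    omega
  have h3T : 3 ∣ Nat.card T := by
    refine dvd_trans ?_ (Subgroup.card_dvd_of_le hQT')
    have h1 : orderOf x ∣ Nat.card Q := by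
      rw [hQx, Nat.card_zpowers]
    rw [hk] at h1 ⊢
    refine dvd_pow_self 3 fun e => ?_
    rw [e, pow_zero, Nat.dvd_one] at h1
    exact hx1 h1
  obtain ⟨P0, N, hNn, hNc⟩ :=
    (Cfsg.Agent.S1450.result (G := T) hTodd 3 h3T hTr).2.1 (Or.inl rfl)
  have hNcard : ¬ 3 ∣ Nat.card N := by
    rw [← hNc.index_eq_card]
    exact P0.not_dvd_index
  have hNp : IsPGroup p N := by
    have h1 : Nat.card N ∣ 3 ^ a * p ^ b := hTc ▸ N.card_subgroup_dvd_card
    have h2 : Nat.card N ∣ p ^ b := (Nat.Coprime.pow_right a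
      (Nat.prime_three.coprime_iff_not_dvd.2 hNcard).symm).dvd_of_dvd_mul_left h1
    obtain ⟨i, -, hi⟩ := (Nat.dvd_prime_pow hp).1 h2
    exact IsPGroup.of_card hi
  refine good_of_pGroup h (p := p) hp5 (P := N.map T.subtype) (E := E') (hNp.map _) ?_ ?_ hE'e hE'3.ge
  · refine Coprime.mem_normalizer_of_conj_map_le ?_
    rintro _ ⟨y, hy, rfl⟩
    exact ⟨(⟨x, hQT' hx⟩ : T) * y * (⟨x, hQT' hx⟩ : T)⁻¹, hNn.conj_mem y hy _, rfl⟩
  · intro e he
    refine ⟨⟨e, hE'T he⟩, ?_, rfl⟩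
    rw [SetLike.mem_coe, ← QuotientGroup.eq_one_iff (N := N), ← orderOf_eq_one_iff]
    obtain ⟨i, hi⟩ := P0.isPGroup'.exists_card_eq
    refine Nat.eq_one_of_dvd_coprimes
      (Nat.Coprime.pow_left i ((Nat.coprime_primes Nat.prime_three hp).2 hp3.symm))
      (hi ▸ hNc.symm.index_eq_card ▸ Subgroup.index_eq_card N ▸ orderOf_dvd_natCard _)
      (orderOf_dvd_of_pow_eq_one ?_)
    have he1 : (⟨e, hE'T he⟩ : T) ^ p = 1 := Subtype.ext (hE'e.2 e he)
    rw [← QuotientGroup.mk_pow, he1, QuotientGroup.mk_one]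

end Cfsg.Agent.S4404
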