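import Cfsg.Statements.S4405
import Cfsg.Agent.Lib.LocalEvenB.ExtraspecialAut
import Cfsg.Agent.Lib.PGroup.Frattini
import Cfsg.Agent.Lib.Solvable.Cores

set_option autoImplicit false
open Cfsg

namespace Cfsg.Agent.S4405

open Subgroup
open scoped commutatorElement
open CfsgLib.LocalEvenB

universe u

variable {Q : Type u} [Group Q] [Finite Q]

/-- An automorphism of an extraspecial group of order 32 trivial modulo the centre is inner. -/
theorem inner_of_trivial (hQ : Cfsg.IsExtraspecial 2 Q) (h32 : Nat.card Q = 32) (φ : MulAut Q)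
    (hφ : ∀ x, x⁻¹ * φ x ∈ center Q) : ∃ k : Q, φ = MulAut.conj k := by
  classical
  haveI : Fact (Nat.Prime 2) := ⟨Nat.prime_two⟩
  have hPQ : IsPGroup 2 Q := hQ.1.1
  have hfr : frattini Q = center Q := hQ.1.2.1
  have hcard : Nat.card (Q ⧸ frattini Q) = 2 ^ 4 := by
    have h1 := (frattini Q).card_eq_card_quotient_mul_card_subgroup
    rw [h32, show Nat.card (frattini Q) = 2 by rw [hfr]; exact hQ.2] at h1
    omega
  obtain ⟨s, hs⟩ : ∃ s : Fin 4 → Q, closure (Set.range s) = ⊤ := by
    have h1 := CfsgLib.PGroup.Frattini.card_generating_tuples hcard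
      (CfsgLib.PGroup.Frattini.quotient_mul_comm hPQ) (CfsgLib.PGroup.Frattini.quotient_pow_eq_one hPQ)
    have : Nonempty {t : Fin 4 → Q ⧸ frattini Q // closure (Set.range t) = ⊤} := by
      refine (Nat.card_pos_iff.1 ?_).1
      rw [h1]
      decide
    obtain ⟨t, ht⟩ := this
    refine ⟨fun i => (t i).out, (CfsgLib.PGroup.Frattini.closure_range_eq_top_iff _).2 ?_⟩
    simpa using ht
  let A := {ψ : MulAut Q // ∀ x, x⁻¹ * ψ x ∈ center Q}
  let F : A → (Fin 4 → center Q) := fun ψ i => ⟨(s i)⁻¹ * ψ.1 (s i), ψ.2 (s i)⟩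
  have hF : Function.Injective F := by
    intro a b e
    refine Subtype.ext (MulEquiv.toMonoidHom_injective (MonoidHom.eq_of_eqOn_dense hs ?_))
    rintro _ ⟨i, rfl⟩
    exact mul_left_cancel (congrArg (fun c : center Q => (c : Q)) (congrFun e i))
  let I : Q ⧸ center Q → A := fun q => ⟨MulAut.conj q.out, fun x => by
    have h1 := ExtraspecialAut.comm_mem hQ x⁻¹ q.out
    rw [commutatorElement_def, inv_inv] at h1
    rw [MulAut.conj_apply]
    simpa [mul_assoc] using h1⟩
  have hI : Function.Injective I := by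
    intro a b e
    have h1 : MulAut.conj a.out = MulAut.conj b.out := congrArg Subtype.val e
    have h2 : a.out⁻¹ * b.out ∈ center Q := (ExtraspecialAut.conj_eq_one_iff' hQ).1 (by
      rw [map_mul, map_inv, h1, inv_mul_cancel])
    rw [← QuotientGroup.eq] at h2
    rwa [QuotientGroup.out_eq', QuotientGroup.out_eq'] at h2
  have hA : Nat.card A ≤ 16 := by
    refine (Nat.card_le_card_of_injective F hF).trans_eq ?_
    rw [Nat.card_fun, hQ.2, Nat.card_fin]; rfl
  have hW : Nat.card (Q ⧸ center Q) = 16 := by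
    have h1 := (center Q).card_eq_card_quotient_mul_card_subgroup
    rw [h32, hQ.2] at h1
    omega
  have hbij := hI.bijective_of_nat_card_le (by rw [hW]; exact hA)
  obtain ⟨q, hq⟩ := hbij.2 ⟨φ, hφ⟩
  exact ⟨q.out, (congrArg Subtype.val hq).symm⟩

/-- A divisor of 16 congruent to 1 modulo 5. -/
theorem dvd16 {d : ℕ} (h : d ∣ 16) (h5 : 16 ≡ d [MOD 5]) : d = 1 ∨ d = 16 := by
  obtain ⟨i, hi, rfl⟩ := (Nat.dvd_prime_pow Nat.prime_two).1 (show d ∣ 2 ^ 4 from h)
  interval_cases i <;> simp_all [Nat.ModEq]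

set_option maxHeartbeats 1000000


/-- Let G be a finite group of order 320 = 64·5 whose largest normal 2-subgroup H = O₂(G) equals the Fitting subgroup F(G) and is extraspecial of order 32 containing no elementary abelian subgroup of order 8 (so H is the central product of a quaternion group and a dihedral group of order 8). If T is an involution of G outside H whose centralizer in H contains an elementary abelian subgroup of order 4, then C_H(T) itself is elementary abelian of order 4. -/
theorem result {G : Type*} [Group G] [Finite G]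
    (hG : Nat.card G = 320) (hHF : Cfsg.pCore 2 G = Cfsg.fittingSubgroup G)
    (hex : Cfsg.IsExtraspecial 2 ↥(Cfsg.pCore 2 G)) (h32 : Nat.card ↥(Cfsg.pCore 2 G) = 32)
    (hminus : ∀ A : Subgroup G, A ≤ Cfsg.pCore 2 G → Cfsg.IsElementaryAbelian 2 A → Nat.card ↥A ≤ 4)
    (T : G) (hT : orderOf T = 2) (hTH : T ∉ Cfsg.pCore 2 G)
    (V : Subgroup G) (hV : V ≤ Cfsg.pCore 2 G ⊓ Subgroup.centralizer ({T} : Set G)) (hV4 : Nat.card ↥V = 4) (hVe : Cfsg.IsElementaryAbelian 2 V) :
    Nat.card ↥(Cfsg.pCore 2 G ⊓ Subgroup.centralizer ({T} : Set G)) = 4 ∧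
      Cfsg.IsElementaryAbelian 2 (Cfsg.pCore 2 G ⊓ Subgroup.centralizer ({T} : Set G)) := by
  classical
  have : Fact (Nat.Prime 2) := ⟨Nat.prime_two⟩
  have : Fact (Nat.Prime 5) := ⟨by norm_num⟩
  have hHn : (Cfsg.pCore 2 G).Normal := CfsgLib.Solvable.Cores.pCore_normal 2
  set H := Cfsg.pCore 2 G with hH
  have hQH : IsPGroup 2 H := hex.1.1
  have hidx : H.index = 10 := by
    have h1 := H.card_mul_index
    rw [h32, hG] at h1
    omega
  have hsolv : Group.IsSolvable G := by
    have : Group.IsNilpotent H := hQH.isNilpotent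
    refine (Group.isSolvable_iff_subgroup_quotient H).2 ⟨inferInstance, ?_⟩
    obtain ⟨g, hg⟩ := exists_prime_orderOf_dvd_card' (G := G ⧸ H) 5 (by
      rw [← Subgroup.index_eq_card, hidx]; norm_num)
    have hi2 : (Subgroup.zpowers g).index = 2 := by
      have h1 := (Subgroup.zpowers g).card_mul_index
      rw [Nat.card_zpowers, hg, ← Subgroup.index_eq_card, hidx] at h1
      omega
    have := Subgroup.normal_of_index_eq_two hi2
    have hc : IsCyclic ((G ⧸ H) ⧸ Subgroup.zpowers g) :=
      isCyclic_of_prime_card (p := 2) (by rw [← Subgroup.index_eq_card, hi2])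
    have h1 : Group.IsSolvable (Subgroup.zpowers g) := Group.isSolvable_of_comm fun a b => mul_comm' a b
    have h2 : Group.IsSolvable ((G ⧸ H) ⧸ Subgroup.zpowers g) :=
      Group.isSolvable_of_comm fun a b => hc.isMulCommutative.is_comm.comm a b
    exact (Group.isSolvable_iff_subgroup_quotient (Subgroup.zpowers g)).2 ⟨h1, h2⟩
  let W := H ⧸ Subgroup.center H
  let c : G →* MulAut H := MulAut.conjNormal
  let ρ : MulAut H →* MulAut W :=
    { toFun := fun φ => QuotientGroup.congr (Subgroup.center H) (Subgroup.center H) φ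
        (Subgroup.characteristic_iff_map_eq.1 inferInstance φ)
      map_one' := MulEquiv.ext fun y => by
        obtain ⟨x, rfl⟩ := QuotientGroup.mk_surjective y; rfl
      map_mul' := fun φ φ' => MulEquiv.ext fun y => by
        obtain ⟨x, rfl⟩ := QuotientGroup.mk_surjective y; rfl }
  let θ : G →* MulAut W := ρ.comp c
  have hθ : ∀ (g : G) (x : H), θ g (x : W) = ((c g x : H) : W) := fun g x => rfl
  let _ : CommGroup W :=
    { (inferInstance : Group W) with
      mul_comm := fun a b => by
        obtain ⟨x, rfl⟩ := QuotientGroup.mk_surjective a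
        obtain ⟨y, rfl⟩ := QuotientGroup.mk_surjective b
        rw [← commutatorElement_eq_one_iff_mul_comm]
        show ⁅QuotientGroup.mk' _ x, QuotientGroup.mk' _ y⁆ = 1
        rw [← map_commutatorElement]
        exact (QuotientGroup.eq_one_iff _).2 (CfsgLib.LocalEvenB.ExtraspecialAut.comm_mem hex x y) }
  have hW2 : ∀ w : W, w * w = 1 := fun w => by
    obtain ⟨x, rfl⟩ := QuotientGroup.mk_surjective w
    exact (QuotientGroup.eq_one_iff _).2 (CfsgLib.LocalEvenB.ExtraspecialAut.sq_mem hex x)
  have hW16 : Nat.card W = 16 := by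
    have h1 := (Subgroup.center H).card_eq_card_quotient_mul_card_subgroup
    rw [h32, hex.2] at h1
    show Nat.card (H ⧸ Subgroup.center H) = 16
    omega
  -- elements of `H` act trivially, and only they do
  have hker1 : ∀ k ∈ H, θ k = 1 := by
    intro k hk
    refine MulEquiv.ext fun w => ?_
    obtain ⟨x, rfl⟩ := QuotientGroup.mk_surjective w
    rw [hθ]
    show ((c k x : H) : W) = (x : W)
    have e : c k x = (⟨k, hk⟩ : H) * x * (⟨k, hk⟩ : H)⁻¹ := Subtype.ext rfl
    rw [e, QuotientGroup.mk_mul, QuotientGroup.mk_mul, QuotientGroup.mk_inv]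
    exact mul_inv_cancel_comm _ _
  have hker2 : ∀ g, θ g = 1 → g ∈ H := by
    intro g hg
    obtain ⟨k, hk⟩ := inner_of_trivial hex h32 (c g) fun x => by
      rw [← QuotientGroup.eq, ← hθ, hg]; rfl
    have hmem : (k : G)⁻¹ * g ∈ H := by
      refine hHF.ge (CfsgLib.Solvable.Cores.centralizer_fittingSubgroup_le (Subgroup.mem_centralizer_iff.2 fun x hx => ?_))
      rw [← hHF] at hx
      have h1 : g * x * g⁻¹ = k * x * (k : G)⁻¹ :=
        congrArg Subtype.val (show c g ⟨x, hx⟩ = MulAut.conj k ⟨x, hx⟩ by rw [hk])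
      calc x * ((k : G)⁻¹ * g) = (k : G)⁻¹ * (k * x * (k : G)⁻¹) * g := by group
        _ = (k : G)⁻¹ * g * x := by rw [← h1]; group
    simpa using mul_mem k.2 hmem
  -- elements of order five act without fixed points
  have hfix : ∀ g : G, orderOf g = 5 → ∀ A : Subgroup W, (∀ a ∈ A, θ g a ∈ A) → 1 < Nat.card A →
      (∀ a ∈ A, θ g a = a → a = 1) → Nat.card A = 16 := by
    intro g hg A hA hA1 hAf
    have hAz : ∀ x ∈ Subgroup.zpowers g, ∀ a ∈ A, θ x a ∈ A := by
      intro x hx
      obtain ⟨n, -, rfl⟩ := Finset.mem_image.1 ((mem_zpowers_iff_mem_range_orderOf).1 hx)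
      induction n with
      | zero => intro a ha; simpa using ha
      | succ n ih =>
        intro a ha
        rw [pow_succ, map_mul, MulAut.mul_apply]
        exact ih (pow_mem (Subgroup.mem_zpowers g) n) _ (hA a ha)
    let _ : MulAction (Subgroup.zpowers g) A :=
      { smul := fun x a => ⟨θ x a, hAz x x.2 a a.2⟩
        one_smul := fun a => Subtype.ext (by
          show θ (1 : G) a = a
          rw [map_one]; rfl)
        mul_smul := fun x y a => Subtype.ext (by
          show θ ((x : G) * y) a = θ x (θ y a)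
          rw [map_mul]; rfl) }
    have h1 := (IsPGroup.of_card (p := 5) (n := 1) (G := Subgroup.zpowers g)
      (by rw [Nat.card_zpowers, hg, pow_one])).card_modEq_card_fixedPoints A
    have h2 : Nat.card (MulAction.fixedPoints (Subgroup.zpowers g) A) = 1 := by
      rw [Nat.card_eq_one_iff_unique]
      refine ⟨⟨fun x y => ?_⟩, ⟨⟨1, fun x => Subtype.ext (map_one _)⟩⟩⟩
      have key : ∀ x : MulAction.fixedPoints (Subgroup.zpowers g) A, ((x : A) : W) = 1 := fun x =>
        hAf _ (x : A).2 (congrArg Subtype.val (x.2 ⟨g, Subgroup.mem_zpowers g⟩))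
      exact Subtype.ext (Subtype.ext ((key x).trans (key y).symm))
    rw [h2] at h1
    rcases dvd16 (hW16 ▸ Subgroup.card_subgroup_dvd_card A) ((show 16 ≡ 1 [MOD 5] from rfl).trans h1.symm) with e | e
    · omega
    · exact e
  have hfpf : ∀ g : G, orderOf g = 5 → ∀ w, θ g w = w → w = 1 := by
    intro g hg w hw
    let A : Subgroup W := MonoidHom.eqLocus (θ g).toMonoidHom (MonoidHom.id W)
    have hA16 : Nat.card A = 1 ∨ Nat.card A = 16 := by
      refine dvd16 (hW16 ▸ Subgroup.card_subgroup_dvd_card A) ?_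
      letI : MulAction (Subgroup.zpowers g) W := MulAction.compHom _ (θ.comp (Subgroup.zpowers g).subtype)
      have h1 := (IsPGroup.of_card (p := 5) (n := 1) (G := Subgroup.zpowers g)
        (by rw [Nat.card_zpowers, hg, pow_one])).card_modEq_card_fixedPoints W
      rw [hW16] at h1
      refine h1.trans (Eq.mpr (congrArg (fun d => Nat.ModEq 5 d (Nat.card A)) (Nat.card_congr (Equiv.subtypeEquivRight fun w => ?_))) rfl)
      constructor
      · intro h; exact h ⟨g, Subgroup.mem_zpowers g⟩
      · rintro h ⟨x, hx⟩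
        obtain ⟨n, -, rfl⟩ := Finset.mem_image.1 ((mem_zpowers_iff_mem_range_orderOf).1 hx)
        show θ (g ^ n) w = w
        induction n with
        | zero => rw [pow_zero, map_one]; rfl
        | succ n ih =>
          rw [pow_succ, map_mul, MulAut.mul_apply, show θ g w = w from h]
          exact ih (pow_mem (Subgroup.mem_zpowers g) n)
    rcases hA16 with e | e
    · have : (⟨w, hw⟩ : A) = 1 := (Nat.card_eq_one_iff_unique.1 e).1.elim _ _
      exact congrArg Subtype.val this
    · exfalso
      have htop : A = ⊤ := Subgroup.eq_top_of_card_eq A (by rw [e, hW16])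
      have hgH : g ∈ H := hker2 g (MulEquiv.ext fun w => (htop ▸ Subgroup.mem_top w : w ∈ A))
      have h3 := Subgroup.orderOf_dvd_natCard H hgH
      rw [hg, h32] at h3
      norm_num at h3
  obtain ⟨f, hf⟩ := exists_prime_orderOf_dvd_card' (G := G) 5 (by rw [hG]; norm_num)
  have hf2 : orderOf (f ^ 2) = 5 := by
    rw [orderOf_pow' f two_ne_zero, hf]; rfl
  have hTT : T * T = 1 := by rw [← pow_two, ← hT, pow_orderOf_eq_one]
  set t := θ T with ht
  set σ := θ f with hσ
  have htt : ∀ w, t (t w) = w := fun w => by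
    show (θ T * θ T) w = w
    rw [← map_mul, hTT, map_one]; rfl
  let A : Subgroup W := MonoidHom.eqLocus t.toMonoidHom (MonoidHom.id W)
  have hAm : ∀ w, w ∈ A ↔ t w = w := fun w => Iff.rfl
  let φ : W →* W := (MonoidHom.id W) * t.toMonoidHom
  have hφA : ∀ w, φ w ∈ A := fun w => by
    show t (w * t w) = w * t w
    rw [map_mul, htt, mul_comm]
  have hφker : φ.ker = A := by
    ext w
    rw [MonoidHom.mem_ker, hAm]
    show w * t w = 1 ↔ _
    rw [mul_eq_one_iff_eq_inv', inv_eq_of_mul_eq_one_right (hW2 w)]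
  have hcardφ : Nat.card φ.range * Nat.card A = 16 := by
    rw [← hφker, ← Subgroup.index_ker, mul_comm, Subgroup.card_mul_index, hW16]
  have hrle : φ.range ≤ A := by rintro _ ⟨w, rfl⟩; exact hφA w
  have hAge : 16 ≤ Nat.card A * Nat.card A := by
    rw [← hcardφ]; exact Nat.mul_le_mul_right _ (Subgroup.card_le_of_le hrle)
  -- `T` inverts `f` modulo `H`
  have hinv : ∀ w, t (σ (t w)) = (θ f⁻¹) w := by
    have hmk : ∀ x y : G, (x : G ⧸ H) = y → θ x = θ y := fun x y e => by
      rw [QuotientGroup.eq] at e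
      have := hker1 _ e
      rw [map_mul, map_inv, inv_mul_eq_one] at this
      exact this
    set fb := (f : G ⧸ H) with hfb
    have hfo : orderOf fb = 5 := by
      refine orderOf_eq_prime (by rw [← QuotientGroup.mk_pow, ← hf, pow_orderOf_eq_one]; rfl) fun e => ?_
      have h3 := Subgroup.orderOf_dvd_natCard H ((QuotientGroup.eq_one_iff f).1 e)
      rw [hf, h32] at h3
      norm_num at h3
    have hi2 : (Subgroup.zpowers fb).index = 2 := by
      have h1 := (Subgroup.zpowers fb).card_mul_index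
      rw [Nat.card_zpowers, hfo, ← Subgroup.index_eq_card, hidx] at h1
      omega
    have hn := Subgroup.normal_of_index_eq_two hi2
    obtain ⟨r, hr⟩ := Subgroup.mem_zpowers_iff.1 (hn.conj_mem fb (Subgroup.mem_zpowers fb) (T : G ⧸ H))
    have hTi : (T : G ⧸ H)⁻¹ = T := inv_eq_of_mul_eq_one_right (by
      rw [← QuotientGroup.mk_mul, hTT]; rfl)
    have h5 : (5 : ℤ) ∣ (r - 1) * (r + 1) := by
      have e : (T : G ⧸ H) * fb ^ r * (T : G ⧸ H)⁻¹ = fb := by
        rw [hr, hTi]
        calc (T : G ⧸ H) * (T * fb * T) * T = ((T : G ⧸ H) * T) * fb * ((T : G ⧸ H) * T) := by group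
          _ = fb := by
            rw [← QuotientGroup.mk_mul, hTT]
            show (1 : G ⧸ H) * fb * 1 = fb
            group
      rw [← conj_zpow, ← hr, ← zpow_mul] at e
      have e2 : fb ^ (r * r - 1) = 1 := by rw [zpow_sub, e, zpow_one, mul_inv_cancel]
      rw [← orderOf_dvd_iff_zpow_eq_one, hfo] at e2
      rw [show (r - 1) * (r + 1) = r * r - 1 by ring]
      exact_mod_cast e2
    have hrel : θ (T * f * T⁻¹) = θ (f ^ r) := hmk _ _ (by
      rw [QuotientGroup.mk_mul, QuotientGroup.mk_mul, QuotientGroup.mk_inv, QuotientGroup.mk_zpow, hr])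
    rw [inv_eq_of_mul_eq_one_right hTT, map_mul, map_mul] at hrel
    rcases (Nat.prime_iff_prime_int.1 (by norm_num : Nat.Prime 5)).dvd_mul.1 (by exact_mod_cast h5) with h5 | h5
    · exfalso
      have hfr : f ^ r = f := by
        rw [← mul_inv_eq_one, ← zpow_sub_one, ← orderOf_dvd_iff_zpow_eq_one, hf]
        exact_mod_cast h5
      rw [hfr] at hrel
      have hcomm : ∀ w, t (σ (t w)) = σ w := fun w => congrArg (fun F : MulAut W => F w) hrel
      have hA16 : Nat.card A = 16 := by
        refine hfix f hf A (fun a ha => ?_) ?_ (fun a _ e => hfpf f hf a e)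
        · show t (σ a) = σ a
          conv_lhs => rw [← (hAm a).1 ha]
          exact hcomm a
        · by_contra hlt
          have h0 : 0 < Nat.card A := Nat.card_pos
          have h1 : Nat.card A = 1 := by omega
          rw [h1] at hAge
          omega
      have htop : A = ⊤ := Subgroup.eq_top_of_card_eq A (by rw [hA16, hW16])
      exact hTH (hker2 T (MulEquiv.ext fun w => (htop ▸ Subgroup.mem_top w : w ∈ A)))
    · have hfr : f ^ r = f⁻¹ := by
        rw [← mul_eq_one_iff_eq_inv, ← zpow_add_one, ← orderOf_dvd_iff_zpow_eq_one, hf]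
        exact_mod_cast h5
      rw [hfr] at hrel
      exact fun w => congrArg (fun F : MulAut W => F w) hrel
  have hdis : ∀ a ∈ A, σ a ∈ A → a = 1 := by
    intro a ha hb
    refine hfpf (f ^ 2) hf2 a ?_
    have h1 := hinv a
    rw [(hAm a).1 ha, (hAm _).1 hb] at h1
    show θ (f ^ 2) a = a
    rw [pow_two, map_mul, MulAut.mul_apply]
    show σ (σ a) = a
    rw [h1, map_inv]
    exact MulAut.apply_inv_self _ σ a
  have hAle : Nat.card A * Nat.card A ≤ 16 := by
    rw [← hW16, ← Nat.card_prod]
    refine Nat.card_le_card_of_injective (fun p : A × A => (p.1 : W) * σ p.2) ?_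
    rintro ⟨a, b⟩ ⟨a', b'⟩ e
    have e' : (a : W) * σ b = a' * σ b' := e
    have h1 : σ ((b : W) * (b' : W)⁻¹) = (a : W)⁻¹ * a' := by
      rw [map_mul, map_inv, eq_inv_mul_iff_mul_eq, ← mul_assoc, e', mul_inv_cancel_right]
    have h2 := hdis _ (mul_mem b.2 (inv_mem b'.2)) (h1 ▸ mul_mem (inv_mem a.2) a'.2)
    rw [h2, map_one, eq_comm, inv_mul_eq_one] at h1
    rw [mul_inv_eq_one] at h2
    exact Prod.ext (Subtype.ext h1) (Subtype.ext h2)
  have hA4 : Nat.card A = 4 := by nlinarith
  have hreq : φ.range = A := Subgroup.eq_of_le_of_card_ge hrle (by rw [hA4] at hcardφ ⊢; omega)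
  -- the centraliser
  set Y := H ⊓ Subgroup.centralizer ({T} : Set G) with hY
  let Y' : Subgroup H := A.comap (QuotientGroup.mk' (Subgroup.center H))
  have hY'card : Nat.card Y' = 8 := by
    have h1 : Y'.index = 4 := by
      rw [Subgroup.index_comap_of_surjective _ (QuotientGroup.mk'_surjective _)]
      have h2 := A.card_mul_index
      rw [hA4, hW16] at h2
      omega
    have h2 := Y'.card_mul_index
    rw [h1, h32] at h2
    omega
  have hct : ∀ x : H, (x : G) ∈ Y ↔ c T x = x := fun x => by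
    rw [hY, Subgroup.mem_inf, Subgroup.mem_centralizer_singleton_iff]
    constructor
    · rintro ⟨-, e⟩
      refine Subtype.ext ?_
      show T * (x : G) * T⁻¹ = x
      rw [← e, mul_inv_cancel_right]
    · intro e
      exact ⟨x.2, (mul_inv_eq_iff_eq_mul.1 (congrArg Subtype.val e : T * (x : G) * T⁻¹ = x)).symm⟩
  have hYY' : Y.subgroupOf H ≤ Y' := fun x hx => by
    show t (x : W) = (x : W)
    rw [ht, hθ, (hct x).1 hx]
  have hYcard : Nat.card (Y.subgroupOf H) = Nat.card Y :=
    Nat.card_congr (Subgroup.subgroupOfEquivOfLe inf_le_left).toEquiv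
  have hVY : V ≤ Y := hV
  have hY8 : Nat.card Y ≠ 8 := by
    intro h8
    have heq : Y.subgroupOf H = Y' := Subgroup.eq_of_le_of_card_ge hYY' (by rw [hY'card, hYcard, h8])
    have hsq : ∀ u ∈ Y.subgroupOf H, u * u = 1 := by
      intro u hu
      obtain ⟨w, hw⟩ : (u : W) ∈ φ.range := hreq ▸ hYY' hu
      obtain ⟨h, rfl⟩ := QuotientGroup.mk_surjective w
      set v := h⁻¹ * c T h with hv
      have hvu : (v : W) = (u : W) := by
        rw [← hw, hv, QuotientGroup.mk_mul, QuotientGroup.mk_inv,
          inv_eq_of_mul_eq_one_right (hW2 _)]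
        rfl
      have hvY : c T v = v := (hct v).1 (show v ∈ Y.subgroupOf H by
        rw [heq]; show (v : W) ∈ A; rw [hvu]; exact hYY' hu)
      have hvv : v * v = 1 := by
        have e : c T (c T h) = h := by
          show (c T * c T) h = h
          rw [← map_mul, hTT, map_one]; rfl
        rw [hv, map_mul, map_inv, e] at hvY
        rw [← mul_eq_one_iff_eq_inv'.2 (show v = v⁻¹ by
          conv_rhs => rw [hv, mul_inv_rev, inv_inv]
          rw [hv]; exact hvY.symm)]
      obtain ⟨z, hz, rfl⟩ : ∃ z ∈ Subgroup.center H, u = v * z :=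
        ⟨v⁻¹ * u, QuotientGroup.eq.1 hvu, (mul_inv_cancel_left v u).symm⟩
      calc v * z * (v * z) = (v * v) * (z * z) := by
            rw [mul_assoc v z, ← mul_assoc z, ← Subgroup.mem_center_iff.1 hz v]; group
        _ = 1 := by rw [hvv, CfsgLib.LocalEvenB.ExtraspecialAut.center_sq hex hz, mul_one]
    have h4 := hminus Y inf_le_left ?_
    · omega
    have hsq' : ∀ a ∈ Y, a * a = 1 := fun a ha =>
      congrArg Subtype.val (hsq ⟨a, (Subgroup.mem_inf.1 ha).1⟩ ha)
    refine ⟨⟨⟨fun a b => Subtype.ext ?_⟩⟩, fun a ha => by rw [pow_two]; exact hsq' a ha⟩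
    have ia := inv_eq_of_mul_eq_one_right (hsq' a a.2)
    have ib := inv_eq_of_mul_eq_one_right (hsq' b b.2)
    have iab := inv_eq_of_mul_eq_one_right (hsq' _ (mul_mem a.2 b.2))
    show (a : G) * b = b * a
    rw [← iab, mul_inv_rev, ia, ib]
  have hle8 : Nat.card Y ∣ 8 := hY'card ▸ hYcard ▸ Subgroup.card_dvd_of_le hYY'
  have hge : 4 ≤ Nat.card Y := hV4 ▸ Subgroup.card_le_of_le hVY
  have hY4 : Nat.card Y = 4 := by
    obtain ⟨i, hi, e⟩ := (Nat.dvd_prime_pow Nat.prime_two).1 (show Nat.card Y ∣ 2 ^ 3 from hle8)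
    rw [e] at hY8 hge ⊢
    interval_cases i <;> norm_num at *
  refine ⟨hY4, ?_⟩
  rw [← Subgroup.eq_of_le_of_card_ge hVY (by rw [hY4, hV4])]
  exact hVe

end Cfsg.Agent.S4405
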