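import Cfsg.Statements.S4406


set_option autoImplicit false
open Cfsg

namespace Cfsg.Agent.S4406


theorem two_elt1 : ∀ z : ↥(alternatingGroup (Fin 4)), z ^ (2 ^ 4) = 1 → z ^ 2 = 1 := by
  decide +kernel

theorem two_elt (z : ↥(alternatingGroup (Fin 4)) × ↥(alternatingGroup (Fin 4)))
    (h : z ^ (2 ^ 4) = 1) : z ^ 2 = 1 :=
  Prod.ext (two_elt1 z.1 (congrArg Prod.fst h)) (two_elt1 z.2 (congrArg Prod.snd h))

theorem three_elt : ∀ z : ↥(alternatingGroup (Fin 4)), z ^ 9 = 1 → z ^ 3 = 1 := by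
  decide +kernel

/-- Membership in `{1, u, v, u v}`, as a Boolean. -/
def inB (u v z : ↥(alternatingGroup (Fin 4)) × ↥(alternatingGroup (Fin 4))) : Bool :=
  decide (z = 1) || decide (z = u) || decide (z = v) || decide (z = u * v)

/-- One of the two diagonal elements normalises `{1, u, v, u v}`. -/
def diagOK (a b u1 u2 v1 v2 : ↥(alternatingGroup (Fin 4))) : Bool :=
  decide (u1 * v1 = 1) || decide (u2 * v2 = 1) ||
    (inB (u1, u2) (v1, v2) ((a, b) * (u1, u2) * (a, b)⁻¹) &&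
      inB (u1, u2) (v1, v2) ((a, b) * (v1, v2) * (a, b)⁻¹)) ||
    (inB (u1, u2) (v1, v2) ((a, b⁻¹) * (u1, u2) * (a, b⁻¹)⁻¹) &&
      inB (u1, u2) (v1, v2) ((a, b⁻¹) * (v1, v2) * (a, b⁻¹)⁻¹))

set_option synthInstance.maxSize 100000 in
set_option maxRecDepth 4000 in
theorem diag_dec : ∀ a : ↥(alternatingGroup (Fin 4)), a ≠ 1 ∧ a ^ 3 = 1 →
    ∀ b : ↥(alternatingGroup (Fin 4)), b ≠ 1 ∧ b ^ 3 = 1 →
    ∀ u1 : ↥(alternatingGroup (Fin 4)), u1 ≠ 1 ∧ u1 ^ 2 = 1 →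
    ∀ u2 : ↥(alternatingGroup (Fin 4)), u2 ≠ 1 ∧ u2 ^ 2 = 1 →
    ∀ v1 : ↥(alternatingGroup (Fin 4)), v1 ≠ 1 ∧ v1 ^ 2 = 1 →
    ∀ v2 : ↥(alternatingGroup (Fin 4)), v2 ≠ 1 ∧ v2 ^ 2 = 1 → diagOK a b u1 u2 v1 v2 = true := by
  decide +kernel

theorem diag : ∀ a b : ↥(alternatingGroup (Fin 4)), a ≠ 1 → b ≠ 1 → a ^ 3 = 1 → b ^ 3 = 1 →
    ∀ u1 u2 : ↥(alternatingGroup (Fin 4)), u1 ≠ 1 → u2 ≠ 1 → u1 ^ 2 = 1 → u2 ^ 2 = 1 →
    ∀ v1 v2 : ↥(alternatingGroup (Fin 4)), v1 ≠ 1 → v2 ≠ 1 → v1 ^ 2 = 1 → v2 ^ 2 = 1 →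
      u1 * v1 ≠ 1 → u2 * v2 ≠ 1 →
      let S : Set (↥(alternatingGroup (Fin 4)) × ↥(alternatingGroup (Fin 4))) :=
        {1, (u1, u2), (v1, v2), (u1, u2) * (v1, v2)}
      ((a, b) * (u1, u2) * (a, b)⁻¹ ∈ S ∧ (a, b) * (v1, v2) * (a, b)⁻¹ ∈ S) ∨
        ((a, b⁻¹) * (u1, u2) * (a, b⁻¹)⁻¹ ∈ S ∧ (a, b⁻¹) * (v1, v2) * (a, b⁻¹)⁻¹ ∈ S) := by
  intro a b ha hb ha3 hb3 u1 u2 hu1 hu2 hu1' hu2' v1 v2 hv1 hv2 hv1' hv2' h1 h2
  have h := diag_dec a ⟨ha, ha3⟩ b ⟨hb, hb3⟩ u1 ⟨hu1, hu1'⟩ u2 ⟨hu2, hu2'⟩ v1 ⟨hv1, hv1'⟩ v2 ⟨hv2, hv2'⟩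
  simp only [diagOK, inB, Bool.or_eq_true, Bool.and_eq_true, decide_eq_true_eq] at h
  simp only [Set.mem_insert_iff, Set.mem_singleton_iff]
  simpa only [h1, h2, false_or, or_assoc] using h


/-- In the direct product P = A₄ × A₄, let X be the Sylow 2-subgroup, X₁ and X₂ its intersections with the two direct factors, Q a Sylow 3-subgroup and Q₁, Q₂ its intersections with the two factors. Then every subgroup B of X of order 4 either meets X₁ or X₂ nontrivially, or is normalized by one of the two subgroups of Q of order 3 other than Q₁ and Q₂. -/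
theorem result
    (X : Sylow 2 (↥(alternatingGroup (Fin 4)) × ↥(alternatingGroup (Fin 4))))
    (Q : Sylow 3 (↥(alternatingGroup (Fin 4)) × ↥(alternatingGroup (Fin 4))))
    (B : Subgroup (↥(alternatingGroup (Fin 4)) × ↥(alternatingGroup (Fin 4)))) (hBX : B ≤ (X : Subgroup _)) (hB4 : Nat.card ↥B = 4) :
    B ⊓ ((X : Subgroup _) ⊓ Subgroup.prod ⊤ ⊥) ≠ ⊥ ∨ B ⊓ ((X : Subgroup _) ⊓ Subgroup.prod ⊥ ⊤) ≠ ⊥ ∨
      ∃ R : Subgroup (↥(alternatingGroup (Fin 4)) × ↥(alternatingGroup (Fin 4))), R ≤ (Q : Subgroup _) ∧ Nat.card ↥R = 3 ∧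
        R ≠ (Q : Subgroup _) ⊓ Subgroup.prod ⊤ ⊥ ∧ R ≠ (Q : Subgroup _) ⊓ Subgroup.prod ⊥ ⊤ ∧ R ≤ Subgroup.normalizer (B : Set _) := by
  classical
  have hX : ∀ z : ↥(alternatingGroup (Fin 4)) × ↥(alternatingGroup (Fin 4)),
      z ∈ (X : Subgroup _) → z ^ 2 = 1 := by
    intro z hz
    obtain ⟨k, hk⟩ := IsPGroup.iff_orderOf.1 X.isPGroup' ⟨z, hz⟩
    rw [Subgroup.orderOf_mk] at hk
    refine two_elt z (orderOf_dvd_iff_pow_eq_one.1 ?_)
    rw [hk]
    have h1 : orderOf z ∣ Nat.card (↥(alternatingGroup (Fin 4)) × ↥(alternatingGroup (Fin 4))) :=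
      orderOf_dvd_natCard z
    rw [hk, show Nat.card (↥(alternatingGroup (Fin 4)) × ↥(alternatingGroup (Fin 4))) = 144 by
      rw [Nat.card_eq_fintype_card]; decide +kernel] at h1
    have h2 : k ≤ 4 := by
      by_contra hk4
      have h3 : 2 ^ 5 ∣ 144 := (pow_dvd_pow 2 (by omega : 5 ≤ k)).trans h1
      norm_num at h3
    exact pow_dvd_pow 2 h2
  -- two generators of `B`
  obtain ⟨u, hu, hu1⟩ : ∃ u ∈ B, u ≠ 1 := by
    by_contra hc
    have hb : B = ⊥ := (Subgroup.eq_bot_iff_forall B).2 fun u hu => not_not.1 fun h => hc ⟨u, hu, h⟩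
    rw [hb, Subgroup.card_bot] at hB4
    omega
  have hu2 := hX u (hBX hu)
  obtain ⟨v, hv, hv1, hvu⟩ : ∃ v ∈ B, v ≠ 1 ∧ v ≠ u := by
    by_contra hc
    have hsub : (B : Set _) ⊆ {1, u} := fun v hv => by
      by_contra h
      simp only [Set.mem_insert_iff, Set.mem_singleton_iff, not_or] at h
      exact hc ⟨v, hv, h.1, h.2⟩
    have h := Set.ncard_le_ncard hsub (Set.toFinite _)
    rw [Set.ncard_pair (Ne.symm hu1)] at h
    have h4 : (B : Set (↥(alternatingGroup (Fin 4)) × ↥(alternatingGroup (Fin 4)))).ncard = 4 := hB4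
    omega
  have hv2 := hX v (hBX hv)
  have huv : (u * v) ^ 2 = 1 := hX _ (hBX (B.mul_mem hu hv))
  by_cases hfac : ∀ w ∈ B, w ≠ 1 → w.1 ≠ 1 ∧ w.2 ≠ 1
  · refine Or.inr (Or.inr ?_)
    -- the two coordinate elements of order 3
    have hQc : Nat.card Q = 9 := by
      obtain ⟨k, hk⟩ := IsPGroup.iff_card.1 Q.isPGroup'
      have h1 := (Q : Subgroup (↥(alternatingGroup (Fin 4)) × ↥(alternatingGroup (Fin 4)))).card_mul_index
      have h2 := Q.not_dvd_index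
      rw [show Nat.card (↥(alternatingGroup (Fin 4)) × ↥(alternatingGroup (Fin 4))) = 144 by
        rw [Nat.card_eq_fintype_card]; decide +kernel] at h1
      change Nat.card Q * _ = 144 at h1
      rw [hk] at h1 ⊢
      rcases k with _ | _ | _ | k
      · omega
      · omega
      · norm_num
      · have h3 : 3 ^ (k + 3) ∣ 144 := Dvd.intro _ h1
        have h4 : 27 ∣ 144 := (show 27 ∣ 3 ^ (k + 3) by rw [pow_add]; exact dvd_mul_left _ _).trans h3
        norm_num at h4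
    obtain ⟨a, b, ha, hb, ha3, hb3, hq⟩ : ∃ a b : ↥(alternatingGroup (Fin 4)), a ≠ 1 ∧ b ≠ 1 ∧
        a ^ 3 = 1 ∧ b ^ 3 = 1 ∧ (((a, 1) : ↥(alternatingGroup (Fin 4)) × ↥(alternatingGroup (Fin 4))) ∈ (Q : Subgroup _) ∧ ((1, b) : ↥(alternatingGroup (Fin 4)) × ↥(alternatingGroup (Fin 4))) ∈ (Q : Subgroup _)) := by
      have h9 : ∀ z : ↥(alternatingGroup (Fin 4)) × ↥(alternatingGroup (Fin 4)), z ∈ (Q : Subgroup _) → z ^ 3 = 1 := by
        intro z hz
        have h1 : z ^ 9 = 1 := by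
          have h0 := congrArg Subtype.val (pow_card_eq_one' (x := (⟨z, hz⟩ : ↥(Q : Subgroup (↥(alternatingGroup (Fin 4)) × ↥(alternatingGroup (Fin 4)))))) (G := ↥(Q : Subgroup (↥(alternatingGroup (Fin 4)) × ↥(alternatingGroup (Fin 4))))))
          rw [hQc] at h0
          exact h0
        exact Prod.ext (three_elt _ (congrArg Prod.fst h1)) (three_elt _ (congrArg Prod.snd h1))
      set Q1 := (Q : Subgroup _).map (MonoidHom.fst (↥(alternatingGroup (Fin 4))) (↥(alternatingGroup (Fin 4))))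
      set Q2 := (Q : Subgroup _).map (MonoidHom.snd (↥(alternatingGroup (Fin 4))) (↥(alternatingGroup (Fin 4))))
      have hA12 : Nat.card ↥(alternatingGroup (Fin 4)) = 12 := by
        rw [Nat.card_eq_fintype_card]; decide +kernel
      have hsmall : ∀ W : Subgroup ↥(alternatingGroup (Fin 4)), Nat.card W ∣ 9 → Nat.card W ≤ 3 := by
        intro W hW
        have h1 := Subgroup.card_subgroup_dvd_card W
        rw [hA12] at h1
        exact Nat.le_of_dvd (by norm_num) (Nat.dvd_gcd hW h1)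
      have hle : (Q : Subgroup _) ≤ Q1.prod Q2 := fun z hz =>
        Subgroup.mem_prod.2 ⟨⟨z, hz, rfl⟩, ⟨z, hz, rfl⟩⟩
      have hc1 := hsmall Q1 (hQc ▸ Subgroup.card_map_dvd _ _)
      have hc2 := hsmall Q2 (hQc ▸ Subgroup.card_map_dvd _ _)
      have hcp : Nat.card (Q1.prod Q2) = Nat.card Q1 * Nat.card Q2 := by
        rw [Nat.card_congr (Subgroup.prodEquiv Q1 Q2).toEquiv, Nat.card_prod]
      have hge := Subgroup.card_le_of_le hle
      have h33 : Nat.card Q1 = 3 ∧ Nat.card Q2 = 3 := by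
        rw [hcp] at hge
        change Nat.card Q ≤ _ at hge
        constructor <;> nlinarith
      have heq : (Q : Subgroup _) = Q1.prod Q2 := Subgroup.eq_of_le_of_card_ge hle (by
        rw [hcp, h33.1, h33.2]
        exact hQc.ge)
      have : Nontrivial Q1 := Finite.one_lt_card_iff_nontrivial.1 (by omega)
      have : Nontrivial Q2 := Finite.one_lt_card_iff_nontrivial.1 (by omega)
      obtain ⟨a, ha⟩ := exists_ne (1 : Q1)
      obtain ⟨b, hb⟩ := exists_ne (1 : Q2)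
      have hqa : ((a : ↥(alternatingGroup (Fin 4))), (1 : ↥(alternatingGroup (Fin 4)))) ∈
          (Q : Subgroup _) := heq ▸ Subgroup.mem_prod.2 ⟨a.2, Q2.one_mem⟩
      have hqb : ((1 : ↥(alternatingGroup (Fin 4))), (b : ↥(alternatingGroup (Fin 4)))) ∈
          (Q : Subgroup _) := heq ▸ Subgroup.mem_prod.2 ⟨Q1.one_mem, b.2⟩
      exact ⟨a, b, fun h => ha (Subtype.ext h), fun h => hb (Subtype.ext h),
        congrArg Prod.fst (h9 _ hqa), congrArg Prod.snd (h9 _ hqb), hqa, hqb⟩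
    obtain ⟨hu11, hu12⟩ := hfac u hu hu1
    obtain ⟨hv11, hv12⟩ := hfac v hv hv1
    have huv1 : u * v ≠ 1 := fun h => hvu (by
      have : u * v = u * u := by rw [h, ← pow_two, hu2]
      exact mul_left_cancel this)
    obtain ⟨huv11, huv12⟩ := hfac _ (B.mul_mem hu hv) huv1
    have hdiag := diag a b ha hb ha3 hb3 u.1 u.2 hu11 hu12 (congrArg Prod.fst hu2) (congrArg Prod.snd hu2)
      v.1 v.2 hv11 hv12 (congrArg Prod.fst hv2) (congrArg Prod.snd hv2) huv11 huv12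
    have hB : (B : Set (↥(alternatingGroup (Fin 4)) × ↥(alternatingGroup (Fin 4)))) = {1, u, v, u * v} := by
      refine (Set.eq_of_subset_of_ncard_le ?_ ?_ (Set.toFinite _)).symm
      · rintro w (rfl | rfl | rfl | rfl)
        exacts [B.one_mem, hu, hv, B.mul_mem hu hv]
      · rw [show (B : Set (↥(alternatingGroup (Fin 4)) × ↥(alternatingGroup (Fin 4)))).ncard = 4 from hB4,
          Set.ncard_insert_of_notMem, Set.ncard_insert_of_notMem, Set.ncard_pair]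
        · intro h; exact hu1 (by simpa using h.symm)
        · simp only [Set.mem_insert_iff, Set.mem_singleton_iff, not_or]
          exact ⟨Ne.symm hvu, fun h => hv1 (by simpa using h.symm)⟩
        · simp only [Set.mem_insert_iff, Set.mem_singleton_iff, not_or]
          exact ⟨Ne.symm hu1, Ne.symm hv1, Ne.symm huv1⟩
    obtain ⟨c, hc3, hc1, hqc, hcu, hcv⟩ : ∃ c, c ^ 3 = 1 ∧ c ≠ 1 ∧ (a, c) ∈ (Q : Subgroup _) ∧
        (a, c) * u * (a, c)⁻¹ ∈ B ∧ (a, c) * v * (a, c)⁻¹ ∈ B := by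
      rcases hdiag with h | h
      · refine ⟨b, hb3, hb, by simpa using mul_mem hq.1 hq.2, ?_, ?_⟩
        · rw [← SetLike.mem_coe, hB]; exact h.1
        · rw [← SetLike.mem_coe, hB]; exact h.2
      · refine ⟨b⁻¹, by rw [inv_pow, hb3, inv_one], inv_ne_one.2 hb,
          by simpa using mul_mem hq.1 (inv_mem hq.2), ?_, ?_⟩
        · rw [← SetLike.mem_coe, hB]; exact h.1
        · rw [← SetLike.mem_coe, hB]; exact h.2
    refine ⟨Subgroup.zpowers (a, c), Subgroup.zpowers_le.2 hqc, ?_, ?_, ?_, ?_⟩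
    · rw [Nat.card_zpowers]
      exact orderOf_eq_prime (Prod.ext (by simpa using ha3) (by simpa using hc3))
        (fun h => ha (congrArg Prod.fst h))
    · intro h
      have h' : (a, c) ∈ (Q : Subgroup _) ⊓ Subgroup.prod ⊤ ⊥ := h ▸ Subgroup.mem_zpowers _
      exact hc1 (Subgroup.mem_bot.1 (Subgroup.mem_prod.1 (Subgroup.mem_inf.1 h').2).2)
    · intro h
      have h' : (a, c) ∈ (Q : Subgroup _) ⊓ Subgroup.prod ⊥ ⊤ := h ▸ Subgroup.mem_zpowers _
      exact ha (Subgroup.mem_bot.1 (Subgroup.mem_prod.1 (Subgroup.mem_inf.1 h').2).1)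
    · rw [Subgroup.zpowers_le, Subgroup.mem_normalizer_iff_map_conj_eq]
      refine Subgroup.eq_of_le_of_card_ge ?_ (Subgroup.card_map_of_injective
        (MulAut.conj (a, c)).injective).ge
      rintro _ ⟨w, hw, rfl⟩
      show (a, c) * w * (a, c)⁻¹ ∈ B
      rw [hB] at hw
      rcases hw with rfl | rfl | rfl | rfl
      · rw [mul_one, mul_inv_cancel]; exact B.one_mem
      · exact hcu
      · exact hcv
      · have e : (a, c) * (u * v) * (a, c)⁻¹ = ((a, c) * u * (a, c)⁻¹) * ((a, c) * v * (a, c)⁻¹) := by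
          group
        rw [e]
        exact B.mul_mem hcu hcv
  · simp only [not_forall] at hfac
    obtain ⟨w, hw, hw1, hw'⟩ := hfac
    rw [not_and_or, not_not, not_not] at hw'
    rcases hw' with h | h
    · refine Or.inr (Or.inl fun hb => hw1 ?_)
      have : w ∈ B ⊓ ((X : Subgroup _) ⊓ Subgroup.prod ⊥ ⊤) :=
        ⟨hw, hBX hw, Subgroup.mem_prod.2 ⟨Subgroup.mem_bot.2 h, trivial⟩⟩
      rwa [hb, Subgroup.mem_bot] at this
    · refine Or.inl fun hb => hw1 ?_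
      have : w ∈ B ⊓ ((X : Subgroup _) ⊓ Subgroup.prod ⊤ ⊥) :=
        ⟨hw, hBX hw, Subgroup.mem_prod.2 ⟨trivial, Subgroup.mem_bot.2 h⟩⟩
      rwa [hb, Subgroup.mem_bot] at this

end Cfsg.Agent.S4406
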