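import Cfsg.Statements.S4407


set_option autoImplicit false
open Cfsg

namespace Cfsg.Agent.S4407

open Subgroup

variable {S : Type*} [Group S] [Finite S] {M : Type*} [AddCommGroup M] [Module (ZMod 2) M]

theorem add_self' (v : M) : v + v = 0 := by
  rw [← two_smul (ZMod 2) v, show (2 : ZMod 2) = 0 from rfl, zero_smul]

/-- The fixed space of an element. -/
def Fx (ρ : Representation (ZMod 2) S M) (a : S) : Submodule (ZMod 2) M :=
  LinearMap.eqLocus (ρ a) LinearMap.id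

omit [Finite S] in
theorem mem_Fx {ρ : Representation (ZMod 2) S M} {a : S} {v : M} : v ∈ Fx ρ a ↔ ρ a v = v := Iff.rfl

variable [Finite M]

/-- A subspace invariant under generators is invariant under the group. -/
theorem invariant {ρ : Representation (ZMod 2) S M} {T : Set S} (hT : closure T = ⊤)
    (U : Submodule (ZMod 2) M) (h : ∀ g ∈ T, ∀ m ∈ U, ρ g m ∈ U) : ∀ g : S, ∀ m ∈ U, ρ g m ∈ U := by
  intro g
  have hg : g ∈ closure T := hT ▸ mem_top g
  induction hg using closure_induction with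
  | mem x hx => exact h x hx
  | one => intro m hm; rw [map_one]; exact hm
  | mul x y _ _ ix iy => intro m hm; rw [map_mul]; exact ix _ (iy m hm)
  | inv x _ ix =>
    intro m hm
    obtain ⟨⟨u, hu⟩, hxu⟩ := Finite.surjective_of_injective (f := fun m : U => (⟨ρ x m, ix m m.2⟩ : U))
      (fun a b e => Subtype.ext (by
        have e' : ρ x (a : M) = ρ x b := congrArg Subtype.val e
        have := congrArg (ρ x⁻¹) e'
        rwa [← Module.End.mul_apply, ← map_mul, ← Module.End.mul_apply (ρ x⁻¹), ← map_mul, inv_mul_cancel,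
          map_one] at this)) ⟨m, hm⟩
    have e : ρ x u = m := congrArg Subtype.val hxu
    rw [← e, ← Module.End.mul_apply, ← map_mul, inv_mul_cancel, map_one]
    exact hu

omit [Finite M] [Finite S] in
theorem map_Fx {ρ : Representation (ZMod 2) S M} {g a b : S} (h : g * a * g⁻¹ = b) {v : M}
    (hv : v ∈ Fx ρ a) : ρ g v ∈ Fx ρ b := by
  rw [mem_Fx, ← Module.End.mul_apply, ← map_mul, ← h, inv_mul_cancel_right, map_mul, Module.End.mul_apply,
    mem_Fx.1 hv]

/-- The data: `r, s` generate a dihedral group normalising `⟨a1, a2⟩`. -/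
structure Data (ρ : Representation (ZMod 2) S M) (r s a1 a2 : S) : Prop where
  s2 : s * s = 1
  r4 : r * r * (r * r) = 1
  srs : s * r * s = r⁻¹
  a1c : a1 ^ 3 = 1
  comm : a1 * a2 = a2 * a1
  sa1 : s * a1 * s⁻¹ = a1
  ra1 : r * a1 * r⁻¹ = a2
  za1 : (r * r) * a1 * (r * r)⁻¹ = a1⁻¹
  gen : closure ({a1, a2, r, s} : Set S) = ⊤
  fpf : ∀ v, ρ a1 v = v → ρ a2 v = v → v = 0
  faith : Function.Injective ρ
  irr : ∀ N : Submodule (ZMod 2) M, (∀ g : S, ∀ m ∈ N, ρ g m ∈ N) → N = ⊥ ∨ N = ⊤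
  sne : s ≠ 1

/-- The common fixed points of two elements. -/
def fix2 (ρ : Representation (ZMod 2) S M) (x y : S) : Set M := {m | ρ x m = m ∧ ρ y m = m}

theorem main {ρ : Representation (ZMod 2) S M} {r s a1 a2 : S} (hM : Nontrivial M)
    (d : Data ρ r s a1 a2) (hU : Fx ρ a1 ⊔ Fx ρ a2 = ⊤) :
    Nat.card M = 16 ∧ Nat.card (fix2 ρ (r * r) s) = 4 ∧ Nat.card (fix2 ρ (r * r) (r * s)) = 2 := by
  classical
  have mm : ∀ (x y : S) (v : M), ρ x (ρ y v) = ρ (x * y) v := fun x y v => by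
    rw [map_mul, Module.End.mul_apply]
  have hone : ∀ v : M, ρ 1 v = v := fun v => by rw [map_one]; rfl
  have hinj : ∀ (x : S) (u v : M), ρ x u = ρ x v → u = v := fun x u v e => by
    have h := congrArg (ρ x⁻¹) e
    rwa [mm, mm, inv_mul_cancel, hone, hone] at h
  obtain ⟨hs2, hr4, hsrs, ha1c, hcomm, hsa1, hra1, hza1, hgen, hfpf, hfaith, hirr, hsne⟩ := d
  have hsi : s⁻¹ = s := inv_eq_of_mul_eq_one_right hs2
  have hr3 : r⁻¹ = r * r * r := inv_eq_of_mul_eq_one_right (by rw [← hr4]; group)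
  have hsr : s * r = r⁻¹ * s := by rw [← hsrs, mul_assoc (s * r), hs2, mul_one]
  have hzs : (r * r) * s = s * (r * r) := by
    have e : s * (r * r) * s = (r * r)⁻¹ := by
      calc s * (r * r) * s = (s * r * s) * (s * r * s) := by
            rw [show (s * r * s) * (s * r * s) = s * r * (s * s) * r * s by group, hs2]; group
        _ = (r * r)⁻¹ := by rw [hsrs]; group
    have e2 : (r * r)⁻¹ = r * r := inv_eq_of_mul_eq_one_right hr4
    calc r * r * s = (s * (r * r) * s) * s := by rw [e, e2]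
      _ = s * (r * r) := by rw [mul_assoc, hs2, mul_one]
  obtain ⟨i, hi⟩ : ∃ i, i = s * (r * r) := ⟨_, rfl⟩
  have hii : i * i = 1 := by
    calc i * i = s * ((r * r) * s) * (r * r) := by rw [hi]; group
      _ = (s * s) * ((r * r) * (r * r)) := by rw [hzs]; group
      _ = 1 := by rw [hs2, hr4, mul_one]
  have hri : r * i = s * r := by
    rw [hi, hsr, hr3]
    calc r * (s * (r * r)) = r * ((r * r) * s) := by rw [hzs]
      _ = r * r * r * s := by group
  have hsr' : s * r = r * i := hri.symm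
  have hsa2 : s * a2 * s⁻¹ = a2⁻¹ := by
    calc s * a2 * s⁻¹ = (s * r) * a1 * (s * r)⁻¹ := by rw [← hra1]; group
      _ = r * ((r * r) * (s * a1 * s⁻¹) * (r * r)⁻¹) * r⁻¹ := by
        rw [hsr', hi, ← hzs]; group
      _ = a2⁻¹ := by rw [hsa1, hza1, ← hra1]; group
  have hza2 : (r * r) * a2 * (r * r)⁻¹ = a2⁻¹ := by
    calc (r * r) * a2 * (r * r)⁻¹ = r * ((r * r) * a1 * (r * r)⁻¹) * r⁻¹ := by rw [← hra1]; group
      _ = a2⁻¹ := by rw [hza1, ← hra1]; group
  have hra2 : r * a2 * r⁻¹ = a1⁻¹ := by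
    rw [← hra1, ← hza1]; group
  have hia1 : i * a1 * i⁻¹ = a1⁻¹ := by
    calc i * a1 * i⁻¹ = s * ((r * r) * a1 * (r * r)⁻¹) * s⁻¹ := by rw [hi]; group
      _ = (s * a1 * s⁻¹)⁻¹ := by rw [hza1]; group
      _ = a1⁻¹ := by rw [hsa1]
  have hia2 : i * a2 = a2 * i := by
    apply mul_inv_eq_iff_eq_mul.1
    calc i * a2 * i⁻¹ = s * ((r * r) * a2 * (r * r)⁻¹) * s⁻¹ := by rw [hi]; group
      _ = (s * a2 * s⁻¹)⁻¹ := by rw [hza2]; group
      _ = a2 := by rw [hsa2, inv_inv]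
  have hFinv : ∀ {a : S} {v : M}, v ∈ Fx ρ a → v ∈ Fx ρ a⁻¹ := fun {a v} hv => by
    rw [mem_Fx]
    conv_lhs => rw [← mem_Fx.1 hv, mm, inv_mul_cancel, hone]
  have hFinv' : ∀ {a : S} {v : M}, v ∈ Fx ρ a⁻¹ → v ∈ Fx ρ a := fun {a v} hv => by
    simpa using hFinv hv
  -- the kernel of `i` on the first summand
  set K := Fx ρ a1 ⊓ Fx ρ i with hK
  have hKa1 : ∀ m ∈ K, ρ a1 m = m := fun m hm => mem_Fx.1 (Submodule.mem_inf.1 hm).1
  have hKa2 : ∀ m ∈ K, ρ a2 m ∈ K := fun m hm => by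
    obtain ⟨h1, h2⟩ := Submodule.mem_inf.1 hm
    exact Submodule.mem_inf.2 ⟨map_Fx (mul_inv_eq_iff_eq_mul.2 hcomm.symm) h1,
      map_Fx (mul_inv_eq_iff_eq_mul.2 hia2.symm) h2⟩
  have hsiz : (r * r) * i = i * (r * r) := by rw [hi, ← mul_assoc, hzs]
  have hKs : ∀ m ∈ K, ρ s m ∈ K := fun m hm => by
    obtain ⟨h1, h2⟩ := Submodule.mem_inf.1 hm
    exact Submodule.mem_inf.2 ⟨map_Fx hsa1 h1, map_Fx (mul_inv_eq_iff_eq_mul.2 (by
      rw [hi, mul_assoc s (r * r) s, hzs]) : s * i * s⁻¹ = i) h2⟩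
  have hKz : ∀ m ∈ K, ρ (r * r) m ∈ K := fun m hm => by
    obtain ⟨h1, h2⟩ := Submodule.mem_inf.1 hm
    exact Submodule.mem_inf.2 ⟨hFinv' (map_Fx hza1 h1), map_Fx (mul_inv_eq_iff_eq_mul.2 hsiz) h2⟩
  -- extension of an invariant subspace of the first summand
  have hext : ∀ L : Submodule (ZMod 2) M, L ≤ Fx ρ a1 → (∀ m ∈ L, ρ a2 m ∈ L) → (∀ m ∈ L, ρ s m ∈ L) →
      (∀ m ∈ L, ρ i m ∈ L) → (∃ m ∈ L, m ≠ 0) → L = Fx ρ a1 := by
    intro L hL1 hL2 hLs hLi hLne
    have hLz : ∀ m ∈ L, ρ (r * r) m ∈ L := fun m hm => by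
      rw [show r * r = s * i by rw [hi, ← mul_assoc, hs2, one_mul], ← mm]
      exact hLs _ (hLi m hm)
    have hL2i : ∀ m ∈ L, ρ a2⁻¹ m ∈ L := fun m hm => by
      have h3 : a2⁻¹ = a2 * a2 := inv_eq_of_mul_eq_one_right (by
        rw [← hra1, show r * a1 * r⁻¹ * (r * a1 * r⁻¹ * (r * a1 * r⁻¹)) = r * a1 ^ 3 * r⁻¹ by
          simp [pow_succ, mul_assoc], ha1c]
        group)
      rw [h3, ← mm]; exact hL2 _ (hL2 m hm)
    have hinvt : ∀ g : S, ∀ m ∈ L ⊔ L.map (ρ r), ρ g m ∈ L ⊔ L.map (ρ r) := by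
      refine invariant hgen _ ?_
      intro g hg m hm
      obtain ⟨x, hx, _, ⟨y, hy, rfl⟩, rfl⟩ := Submodule.mem_sup.1 hm
      rw [map_add, mm]
      rcases hg with rfl | rfl | rfl | rfl
      · refine add_mem (Submodule.mem_sup_left ?_) (Submodule.mem_sup_right ?_)
        · rwa [mem_Fx.1 (hL1 hx)]
        · refine ⟨ρ a2⁻¹ y, hL2i y hy, ?_⟩
          rw [mm]; congr 2
          rw [← hra1]
          calc r * (r * g * r⁻¹)⁻¹ = r * (r * g⁻¹ * r⁻¹) := by group
            _ = r * r * g⁻¹ * (r * r)⁻¹ * r := by simp [mul_assoc]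
            _ = ((r * r) * g * (r * r)⁻¹)⁻¹ * r := by simp [mul_assoc]
            _ = g * r := by rw [hza1, inv_inv]
      · refine add_mem (Submodule.mem_sup_left (hL2 x hx)) (Submodule.mem_sup_right ?_)
        refine ⟨y, hy, ?_⟩
        rw [← hra1, show r * a1 * r⁻¹ * r = r * a1 by group, ← mm, mem_Fx.1 (hL1 hy)]
      · refine add_mem (Submodule.mem_sup_right ⟨x, hx, rfl⟩) (Submodule.mem_sup_left (hLz y hy))
      · refine add_mem (Submodule.mem_sup_left (hLs x hx)) (Submodule.mem_sup_right ?_)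
        refine ⟨ρ i y, hLi y hy, ?_⟩
        rw [mm, hsr']
    rcases hirr _ hinvt with e | e
    · obtain ⟨m, hm, hm0⟩ := hLne
      exact absurd ((Submodule.mem_bot _).1 (e ▸ Submodule.mem_sup_left hm)) hm0
    refine le_antisymm hL1 fun v hv => ?_
    obtain ⟨x, hx, w, ⟨y, hy, rfl⟩, he⟩ := Submodule.mem_sup.1 (e ▸ Submodule.mem_top : v ∈ L ⊔ L.map (ρ r))
    have h2 : ρ r y ∈ Fx ρ a2 := map_Fx hra1 (hL1 hy)
    have h1 : ρ r y ∈ Fx ρ a1 := by
      have := (Fx ρ a1).sub_mem hv (hL1 hx)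
      rwa [← he, add_sub_cancel_left] at this
    rw [← he, hfpf _ (mem_Fx.1 h1) (mem_Fx.1 h2), add_zero]
    exact hx
  -- the first summand is nonzero
  obtain ⟨v0, hv0, hv00⟩ : ∃ v ∈ Fx ρ a1, v ≠ 0 := by
    by_contra hne
    simp only [not_exists, not_and, not_not] at hne
    obtain ⟨m, hm⟩ := exists_ne (0 : M)
    obtain ⟨x, hx, y, hy, rfl⟩ := Submodule.mem_sup.1 (hU ▸ Submodule.mem_top : m ∈ Fx ρ a1 ⊔ Fx ρ a2)
    have hy1 : ρ r y ∈ Fx ρ a1 := hFinv' (map_Fx hra2 hy)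
    have : y = 0 := hinj r _ _ ((hne _ hy1).trans (map_zero _).symm)
    exact hm (by rw [hne x hx, this, add_zero])
  have hiF1 : ∀ m ∈ Fx ρ a1, ρ i m ∈ Fx ρ a1 := fun m hm => hFinv' (map_Fx hia1 hm)
  have hKne : ∃ m ∈ K, m ≠ 0 := by
    by_cases h : v0 + ρ i v0 = 0
    · refine ⟨v0, Submodule.mem_inf.2 ⟨hv0, mem_Fx.2 ?_⟩, hv00⟩
      calc ρ i v0 = (v0 + v0) + ρ i v0 := by rw [add_self', zero_add]
        _ = v0 := by rw [add_assoc, h, add_zero]
    · exact ⟨_, Submodule.mem_inf.2 ⟨(Fx ρ a1).add_mem hv0 (hiF1 _ hv0), mem_Fx.2 (by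
        rw [map_add, mm, hii, hone, add_comm])⟩, h⟩
  have hKeq : K = Fx ρ a1 := hext K inf_le_left hKa2 hKs (fun m hm => by
    rwa [mem_Fx.1 (Submodule.mem_inf.1 hm).2]) hKne
  have hi1 : ∀ v ∈ Fx ρ a1, ρ i v = v := fun v hv =>
    mem_Fx.1 (Submodule.mem_inf.1 (hKeq.symm ▸ hv : v ∈ K)).2
  have hs2' : ∀ v ∈ Fx ρ a2, ρ s v = v := fun v hv => by
    have h1 : ρ r v ∈ Fx ρ a1 := hFinv' (map_Fx hra2 hv)
    have h2 := hi1 _ h1
    refine hinj r _ _ ?_
    rw [mm] at h2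
    rw [mm]
    calc ρ (r * s) v = ρ (i * r) v := by
          congr 2
          rw [hi, mul_assoc s, show r * r * r = r⁻¹ from hr3.symm, hr3]
          calc r * s = (s * s) * (r * s) := by rw [hs2, one_mul]
            _ = s * (s * r * s) := by group
            _ = s * (r * r * r) := by rw [hsrs, hr3]
      _ = ρ r v := h2
  obtain ⟨v, hv, hv0', hsv⟩ : ∃ v ∈ Fx ρ a1, v ≠ 0 ∧ ρ s v = v := by
    by_cases h : v0 + ρ s v0 = 0
    · refine ⟨v0, hv0, hv00, ?_⟩
      calc ρ s v0 = (v0 + v0) + ρ s v0 := by rw [add_self', zero_add]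
        _ = v0 := by rw [add_assoc, h, add_zero]
    · exact ⟨_, (Fx ρ a1).add_mem hv0 (map_Fx hsa1 hv0), h, by rw [map_add, mm, hs2, hone, add_comm]⟩
  set w := ρ a2 v with hw
  have hsum : ∀ u ∈ Fx ρ a1, u + ρ a2 u + ρ (a2 * a2) u = 0 := by
    intro u hu
    have h1 : ρ a2 u ∈ Fx ρ a1 := map_Fx (mul_inv_eq_iff_eq_mul.2 hcomm.symm) hu
    have h2 : ρ (a2 * a2) u ∈ Fx ρ a1 := by rw [← mm]; exact map_Fx (mul_inv_eq_iff_eq_mul.2 hcomm.symm) h1
    refine hfpf _ (mem_Fx.1 ((Fx ρ a1).add_mem ((Fx ρ a1).add_mem hu h1) h2)) ?_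
    have h3 : a2 * (a2 * a2) = 1 := by
      rw [← hra1, show r * a1 * r⁻¹ * (r * a1 * r⁻¹ * (r * a1 * r⁻¹)) = r * a1 ^ 3 * r⁻¹ by
        simp [pow_succ, mul_assoc], ha1c]
      group
    rw [map_add, map_add, mm, mm, h3, hone]
    abel
  have hwmem : w ∈ Fx ρ a1 := map_Fx (mul_inv_eq_iff_eq_mul.2 hcomm.symm) hv
  have hw2 : ρ a2 w = v + w := by
    rw [hw, mm]
    calc ρ (a2 * a2) v = (v + ρ a2 v) + (v + ρ a2 v + ρ (a2 * a2) v) := by
          rw [← add_assoc, add_self', zero_add]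
      _ = v + ρ a2 v := by rw [hsum v hv, add_zero]
  have hsw : ρ s w = v + w := by
    have h3 : a2⁻¹ = a2 * a2 := inv_eq_of_mul_eq_one_right (by
      rw [← hra1, show r * a1 * r⁻¹ * (r * a1 * r⁻¹ * (r * a1 * r⁻¹)) = r * a1 ^ 3 * r⁻¹ by
        simp [pow_succ, mul_assoc], ha1c]
      group)
    rw [hw, mm, show s * a2 = a2⁻¹ * s from mul_inv_eq_iff_eq_mul.1 hsa2, ← mm, hsv, h3, ← mm]
    exact hw2
  have hwne : w ≠ 0 := fun e => hv0' (hinj a2 _ _ (e.trans (map_zero _).symm))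
  have hvw : v ≠ w := fun e => by
    have h1 : ρ a2 v = v := e.symm
    exact hv0' (hfpf v (mem_Fx.1 hv) h1)
  set L : Submodule (ZMod 2) M := Submodule.span (ZMod 2) {v, w} with hL
  have hLgen : ∀ g : S, ρ g v ∈ L → ρ g w ∈ L → ∀ m ∈ L, ρ g m ∈ L := by
    intro g h1 h2 m hm
    induction hm using Submodule.span_induction with
    | mem x hx => rcases hx with rfl | rfl <;> assumption
    | zero => rw [map_zero]; exact zero_mem _
    | add x y _ _ ix iy => rw [map_add]; exact add_mem ix iy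
    | smul c x _ ix => rw [map_smul]; exact Submodule.smul_mem _ c ix
  have hvL : v ∈ L := Submodule.subset_span (Or.inl rfl)
  have hwL : w ∈ L := Submodule.subset_span (Or.inr rfl)
  have hLle : L ≤ Fx ρ a1 := Submodule.span_le.2 (by
    rintro x (rfl | rfl) <;> assumption)
  have hLeq : L = Fx ρ a1 := hext L hLle
    (hLgen a2 hwL (hw2 ▸ add_mem hvL hwL))
    (hLgen s (hsv.symm ▸ hvL) (hsw ▸ add_mem hvL hwL))
    (fun m hm => by rwa [hi1 m (hLle hm)]) ⟨v, hvL, hv0'⟩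
  have hF1 : ∀ m ∈ Fx ρ a1, m = 0 ∨ m = v ∨ m = w ∨ m = v + w := by
    intro m hm
    rw [← hLeq, hL, Submodule.mem_span_pair] at hm
    obtain ⟨a, b, rfl⟩ := hm
    have key : ∀ c : ZMod 2, c = 0 ∨ c = 1 := by decide
    rcases key a with rfl | rfl <;> rcases key b with rfl | rfl <;> simp
  have hF1mem : v + w ∈ Fx ρ a1 := (Fx ρ a1).add_mem hv hwmem
  have hc1 : Nat.card (Fx ρ a1) = 4 := by
    let f : Fin 4 → Fx ρ a1 := ![⟨0, zero_mem _⟩, ⟨v, hv⟩, ⟨w, hwmem⟩, ⟨v + w, hF1mem⟩]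
    have hf : Function.Bijective f := by
      refine ⟨?_, ?_⟩
      · intro x y e
        have e' := congrArg Subtype.val e
        have hvw0 : v + w ≠ 0 := fun h => hvw (by
          calc v = (v + w) + w := by rw [add_assoc, add_self', add_zero]
            _ = w := by rw [h, zero_add])
        fin_cases x <;> fin_cases y <;> first
          | rfl
          | (exfalso; simp [f] at e'
             first
              | exact hv0' e'
              | exact hv0' e'.symm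
              | exact hwne e'
              | exact hwne e'.symm
              | exact hvw e'
              | exact hvw e'.symm
              | exact hvw0 e'
              | exact hvw0 e'.symm)
      · rintro ⟨m, hm⟩
        rcases hF1 m hm with rfl | rfl | rfl | rfl
        exacts [⟨0, rfl⟩, ⟨1, rfl⟩, ⟨2, rfl⟩, ⟨3, rfl⟩]
    rw [← Nat.card_congr (Equiv.ofBijective f hf), Nat.card_fin]
  -- `r` identifies the two summands
  let φ : Fx ρ a1 → Fx ρ a2 := fun x => ⟨ρ r x, map_Fx hra1 x.2⟩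
  have hφ : Function.Bijective φ := by
    refine ⟨fun x y e => Subtype.ext (hinj r _ _ (congrArg Subtype.val e)), fun y => ?_⟩
    have hy : ρ r⁻¹ (y : M) ∈ Fx ρ a1 := map_Fx (show r⁻¹ * a2 * r⁻¹⁻¹ = a1 by rw [← hra1]; group) y.2
    exact ⟨⟨_, hy⟩, Subtype.ext (by show ρ r (ρ r⁻¹ (y : M)) = y; rw [mm, mul_inv_cancel, hone])⟩
  have huniq : ∀ x ∈ Fx ρ a1, ∀ y ∈ Fx ρ a2, ∀ x' ∈ Fx ρ a1, ∀ y' ∈ Fx ρ a2,
      x + y = x' + y' → x = x' ∧ y = y' := by
    intro x hx y hy x' hx' y' hy' e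
    have e2 : x - x' = y' - y := by
      rw [sub_eq_sub_iff_add_eq_add, e, add_comm]
    have h0 := hfpf (x - x') (mem_Fx.1 ((Fx ρ a1).sub_mem hx hx'))
      (mem_Fx.1 (e2 ▸ (Fx ρ a2).sub_mem hy' hy))
    refine ⟨sub_eq_zero.1 h0, ?_⟩
    rw [h0] at e2
    exact (sub_eq_zero.1 e2.symm).symm
  let ψ : Fx ρ a1 × Fx ρ a1 → M := fun p => (p.1 : M) + ρ r (p.2 : M)
  have hψ : Function.Bijective ψ := by
    refine ⟨?_, fun m => ?_⟩
    · rintro ⟨x, y⟩ ⟨x', y'⟩ e
      obtain ⟨h1, h2⟩ := huniq x x.2 _ (φ y).2 x' x'.2 _ (φ y').2 e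
      exact Prod.ext (Subtype.ext h1) (Subtype.ext (hinj r _ _ h2))
    · obtain ⟨x, hx, y, hy, rfl⟩ := Submodule.mem_sup.1 (hU ▸ Submodule.mem_top : m ∈ Fx ρ a1 ⊔ Fx ρ a2)
      obtain ⟨y', hy'⟩ := hφ.2 ⟨y, hy⟩
      exact ⟨(⟨x, hx⟩, y'), by show x + ρ r (y' : M) = _; rw [show ρ r (y' : M) = y from congrArg Subtype.val hy']⟩
  have hsfix : ∀ x ∈ Fx ρ a1, ρ s x = x → x = 0 ∨ x = v := by
    intro x hx e
    rcases hF1 x hx with rfl | rfl | rfl | rfl
    · exact Or.inl rfl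
    · exact Or.inr rfl
    · exfalso
      rw [hsw] at e
      exact hv0' (by simpa using e)
    · exfalso
      rw [map_add, hsv, hsw] at e
      exact hv0' (add_eq_right.1 e)
  have hz1 : ∀ x ∈ Fx ρ a1, ρ (r * r) x = ρ s x := fun x hx => by
    rw [show r * r = s * i by rw [hi, ← mul_assoc, hs2, one_mul], ← mm, hi1 x hx]
  have hrs : ∀ x ∈ Fx ρ a1, ρ s (ρ r x) = ρ r x := fun x hx => hs2' _ (map_Fx hra1 hx)
  have hz2 : ∀ x ∈ Fx ρ a1, ρ (r * r) (ρ r x) = ρ r (ρ s x) := fun x hx => by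
    rw [mm, show r * r * r = r * (r * r) by group, ← mm, hz1 x hx]
  have hzfix : ∀ x ∈ Fx ρ a1, ∀ y ∈ Fx ρ a1, ρ (r * r) (x + ρ r y) = x + ρ r y →
      ρ s x = x ∧ ρ s y = y := by
    intro x hx y hy e
    rw [map_add, hz1 x hx, hz2 y hy] at e
    obtain ⟨h1, h2⟩ := huniq _ (map_Fx hsa1 hx) _ (map_Fx hra1 (map_Fx hsa1 hy)) x hx _ (map_Fx hra1 hy) e
    exact ⟨h1, hinj r _ _ h2⟩
  refine ⟨by rw [← Nat.card_congr (Equiv.ofBijective ψ hψ), Nat.card_prod, hc1], ?_, ?_⟩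
  · let f : Bool × Bool → fix2 ρ (r * r) s := fun p =>
      ⟨(if p.1 then v else 0) + ρ r (if p.2 then v else 0), by
        have hx : ∀ b : Bool, (if b then v else 0) ∈ Fx ρ a1 ∧ ρ s (if b then v else 0) = (if b then v else 0) := by
          intro b; cases b <;> simp [hv, hsv]
        obtain ⟨h1, h1'⟩ := hx p.1
        obtain ⟨h2, h2'⟩ := hx p.2
        refine ⟨?_, ?_⟩
        · rw [map_add, hz1 _ h1, hz2 _ h2, h1', h2']
        · rw [map_add, hrs _ h2, h1']⟩
    have hf : Function.Bijective f := by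
      refine ⟨?_, ?_⟩
      · intro p q e
        have hm : ∀ b : Bool, (if b then v else 0) ∈ Fx ρ a1 := fun b => by cases b <;> simp [hv]
        obtain ⟨h1, h2⟩ := huniq _ (hm p.1) _ (map_Fx hra1 (hm p.2)) _ (hm q.1) _ (map_Fx hra1 (hm q.2))
          (congrArg Subtype.val e)
        have hb : ∀ b c : Bool, (if b then v else 0) = (if c then v else 0) → b = c := by
          intro b c h; cases b <;> cases c <;> simp [hv0', Ne.symm hv0'] at h ⊢
        exact Prod.ext (hb _ _ h1) (hb _ _ (hinj r _ _ h2))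
      · rintro ⟨m, hm1, hm2⟩
        obtain ⟨⟨⟨x, hx⟩, ⟨y, hy⟩⟩, rfl⟩ := hψ.2 m
        obtain ⟨h1, h2⟩ := hzfix x hx y hy hm1
        refine ⟨(decide (x = v), decide (y = v)), Subtype.ext ?_⟩
        rcases hsfix x hx h1 with rfl | rfl <;> rcases hsfix y hy h2 with rfl | rfl <;>
          simp [ψ, f, Ne.symm hv0']
    rw [← Nat.card_congr (Equiv.ofBijective f hf)]; simp
  · rw [Nat.card_eq_two_iff]
    have hrsv : ρ (r * s) v = ρ r v := by rw [← mm, hsv]
    have hmem : v + ρ r v ∈ fix2 ρ (r * r) (r * s) := by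
      refine ⟨by rw [map_add, hz1 v hv, hz2 v hv, hsv], ?_⟩
      rw [map_add, hrsv, mm, show r * s * r = r * (s * r * s) * s by
        rw [show r * (s * r * s) * s = r * s * r * (s * s) by group, hs2, mul_one], hsrs, mul_inv_cancel,
        one_mul, hsv, add_comm]
    refine ⟨⟨0, map_zero _, map_zero _⟩, ⟨_, hmem⟩, ?_, Set.eq_univ_of_forall ?_⟩
    · intro e
      have e' : (0 : M) + ρ r 0 = v + ρ r v := by simpa using congrArg Subtype.val e
      exact hv0' (huniq _ (zero_mem _) _ (map_Fx hra1 (zero_mem _)) _ hv _ (map_Fx hra1 hv) e').1.symm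
    · rintro ⟨m, hm1, hm2⟩
      obtain ⟨⟨⟨x, hx⟩, ⟨y, hy⟩⟩, rfl⟩ := hψ.2 m
      obtain ⟨h1, h2⟩ := hzfix x hx y hy hm1
      have e : ρ (r * s) (x + ρ r y) = x + ρ r y := hm2
      have h3 : ρ (r * s) x = ρ r x := by rw [← mm, h1]
      have h4 : ρ (r * s) (ρ r y) = y := by
        rw [mm, show r * s * r = r * (s * r * s) * s by
          rw [show r * (s * r * s) * s = r * s * r * (s * s) by group, hs2, mul_one], hsrs,
          mul_inv_cancel, one_mul, h2]
      rw [map_add, h3, h4, add_comm] at e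
      obtain ⟨e1, -⟩ := huniq y hy _ (map_Fx hra1 hx) x hx _ (map_Fx hra1 hy) e
      subst e1
      rcases hsfix _ hx h1 with rfl | rfl
      · exact Or.inl (Subtype.ext (by simp [ψ]))
      · exact Or.inr (Subtype.ext rfl)

theorem dihedral_four : ∀ T : Finset (DihedralGroup 4), T.card = 4 →
    (∀ x ∈ T, ∀ y ∈ T, x * y ∈ T) → (∀ x ∈ T, x * x = 1) →
    T = {1, .r 2, .sr 0, .sr 2} ∨ T = {1, .r 2, .sr 1, .sr 3} := by decide +kernel


/-- Let S be a finite group with a normal elementary abelian subgroup A of order 9 that is self-centralizing (C_S(A) = A), and a dihedral subgroup X of order 8 with S = AX. Let M be a finite-dimensional module for S over the field with two elements that is faithful and irreducible. Then M has 16 elements, and X contains exactly one subgroup B of order 4 and exponent 2 whose fixed points on M form a subspace with exactly 2 elements (equivalently, M is free of rank one over the group algebra of B).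 -/
theorem result {S : Type*} [Group S] [Finite S]
    (A : Subgroup S) [A.Normal] (hA : Cfsg.IsElementaryAbelian 3 A) (hA9 : Nat.card ↥A = 9)
    (hAC : Subgroup.centralizer (A : Set S) = A) (X : Subgroup S) (hX : Nonempty (↥X ≃* DihedralGroup 4)) (hAX : A ⊔ X = ⊤)
    {M : Type*} [AddCommGroup M] [Module (ZMod 2) M] [Finite M] (ρ : Representation (ZMod 2) S M)
    (hfaith : Function.Injective ρ)
    (hirr : ∀ N : Submodule (ZMod 2) M, (∀ s : S, ∀ m ∈ N, ρ s m ∈ N) → N = ⊥ ∨ N = ⊤) (hM : Nontrivial M) :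
    Nat.card M = 16 ∧
      ∃! B : Subgroup S, B ≤ X ∧ Nat.card ↥B = 4 ∧ (∀ b ∈ B, b ^ 2 = 1) ∧
        Nat.card {m : M // ∀ b ∈ B, ρ b m = m} = 2 := by
  classical
  obtain ⟨e⟩ := hX
  let f : DihedralGroup 4 →* S := X.subtype.comp e.symm.toMonoidHom
  have hf : Function.Injective f := X.subtype_injective.comp e.symm.injective
  have hfX : ∀ x, f x ∈ X := fun x => (e.symm x).2
  have hfsurj : ∀ x ∈ X, ∃ d, f d = x := fun x hx => ⟨e ⟨x, hx⟩, by simp [f]⟩
  set r := f (.r 1) with hr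
  set s := f (.sr 0) with hs
  have hs2 : s * s = 1 := by rw [hs, ← map_mul]; exact (congrArg f (by decide)).trans (map_one f)
  have hr4 : r * r * (r * r) = 1 := by
    rw [hr, ← map_mul, ← map_mul]; exact (congrArg f (by decide)).trans (map_one f)
  have hsrs : s * r * s = r⁻¹ := by
    rw [hs, hr, ← map_mul, ← map_mul, ← map_inv]; exact congrArg f (by decide)
  have hsne : s ≠ 1 := fun h => absurd (hf (h.trans (map_one f).symm)) (by decide)
  -- the action on `A`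
  have hA3 : ∀ x ∈ A, x ^ 3 = 1 := hA.2
  have hAc : ∀ x ∈ A, ∀ y ∈ A, x * y = y * x := fun x hx y hy =>
    congrArg Subtype.val (hA.1.is_comm.comm (⟨x, hx⟩ : A) ⟨y, hy⟩)
  have hnA : ∀ g : S, ∀ x ∈ A, g * x * g⁻¹ ∈ A := fun g x hx => ‹A.Normal›.conj_mem x hx g
  have hcent : ∀ d : DihedralGroup 4, (∀ x ∈ A, f d * x * (f d)⁻¹ = x) → d = 1 := by
    intro d hd
    have h1 : f d ∈ A := hAC ▸ Subgroup.mem_centralizer_iff.2 fun x hx =>
      (mul_inv_eq_iff_eq_mul.1 (hd x hx)).symm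
    have h3 : orderOf d ∣ 3 := by rw [← orderOf_injective f hf]; exact orderOf_dvd_of_pow_eq_one (hA3 _ h1)
    have h8 : orderOf d ∣ 8 := by
      have := orderOf_dvd_natCard d
      rwa [Nat.card_eq_fintype_card, DihedralGroup.card] at this
    exact orderOf_eq_one_iff.1 (Nat.eq_one_of_dvd_coprimes (by norm_num : Nat.Coprime 3 8) h3 h8)
  have hpow : ∀ x ∈ A, ∀ y ∈ Subgroup.zpowers x, y = 1 ∨ y = x ∨ y = x⁻¹ := by
    intro x hx y hy
    obtain ⟨i, rfl⟩ := Subgroup.mem_zpowers_iff.1 hy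
    have h3 : x ^ (3 : ℤ) = 1 := by rw [zpow_ofNat]; exact hA3 x hx
    rw [← Int.emod_add_mul_ediv i 3, zpow_add, zpow_mul, h3, one_zpow, mul_one]
    have : i % 3 = 0 ∨ i % 3 = 1 ∨ i % 3 = 2 := by omega
    rcases this with e | e | e <;> rw [e]
    · exact Or.inl (zpow_zero x)
    · exact Or.inr (Or.inl (zpow_one x))
    · refine Or.inr (Or.inr (eq_inv_of_mul_eq_one_left ?_))
      rw [← zpow_add_one]; exact h3
  have hsq : ∀ x ∈ A, x * x = x⁻¹ := fun x hx =>
    (inv_eq_of_mul_eq_one_right (by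
      have := hA3 x hx
      rw [pow_succ', pow_two] at this
      exact this)).symm
  -- a subgroup between `1` and `A`
  have hline : ∀ B : Subgroup S, B < A → ∀ x ∈ B, x ≠ 1 → B ≤ Subgroup.zpowers x := by
    intro B hB x hx hx1
    have hd := Subgroup.card_dvd_of_le hB.le
    rw [hA9, show (9 : ℕ) = 3 ^ 2 from rfl, Nat.dvd_prime_pow Nat.prime_three] at hd
    obtain ⟨i, hi, hc⟩ := hd
    have hi1 : i ≤ 1 := by
      by_contra h
      have : i = 2 := by omega
      exact hB.ne (Subgroup.eq_of_le_of_card_ge hB.le (by rw [hc, hA9, this]; rfl))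
    have hox : orderOf x = 3 := by
      have : Fact (Nat.Prime 3) := ⟨Nat.prime_three⟩
      exact orderOf_eq_prime (hA3 x (hB.le hx)) hx1
    refine (Subgroup.eq_of_le_of_card_ge (Subgroup.zpowers_le.2 hx) ?_).ge
    rw [Nat.card_zpowers, hox, hc]
    exact (Nat.pow_le_pow_right (by norm_num) hi1).trans_eq (pow_one 3)
  set z := r * r with hz
  have hzf : z = f (.r 2) := by rw [hz, hr, ← map_mul]; exact congrArg f (by decide)
  have hzs : z * s = s * z := by rw [hzf, hs, ← map_mul, ← map_mul]; exact congrArg f (by decide)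
  let Fs : Subgroup S := A ⊓ Subgroup.centralizer {s}
  let Is : Subgroup S :=
    { carrier := {x | x ∈ A ∧ s * x * s⁻¹ = x⁻¹}
      one_mem' := ⟨one_mem A, by group⟩
      mul_mem' := fun {x y} hx hy => ⟨mul_mem hx.1 hy.1, by
        rw [show s * (x * y) * s⁻¹ = (s * x * s⁻¹) * (s * y * s⁻¹) by group, hx.2, hy.2,
          hAc _ (inv_mem hx.1) _ (inv_mem hy.1), mul_inv_rev]⟩
      inv_mem' := fun {x} hx => ⟨inv_mem hx.1, by rw [← conj_inv, hx.2]⟩ }
  have hss : ∀ x, s * (s * x * s⁻¹) * s⁻¹ = x := fun x => by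
    rw [inv_eq_of_mul_eq_one_right hs2, show s * (s * x * s) * s = (s * s) * x * (s * s) by group, hs2]; group
  obtain ⟨a1, ha1, hsa1, ha11⟩ : ∃ a ∈ A, s * a * s⁻¹ = a ∧ a ≠ 1 := by
    by_contra hne
    have hall : ∀ x ∈ A, s * x * s⁻¹ = x⁻¹ := by
      intro x hx
      have hm : x * (s * x * s⁻¹) ∈ A := mul_mem hx (hnA s x hx)
      have h1 : x * (s * x * s⁻¹) = 1 := by
        by_contra h
        refine hne ⟨_, hm, ?_, h⟩
        rw [show s * (x * (s * x * s⁻¹)) * s⁻¹ = (s * x * s⁻¹) * (s * (s * x * s⁻¹) * s⁻¹) by group, hss,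
          hAc _ (hnA s x hx) _ hx]
      exact eq_inv_of_mul_eq_one_right h1
    have : (DihedralGroup.r 2 : DihedralGroup 4) = 1 := hcent _ fun x hx => by
      rw [← hzf]
      have e : z = r * (s * r⁻¹ * s⁻¹) := by
        rw [← hsrs, inv_eq_of_mul_eq_one_right hs2, hz,
          show r * (s * (s * r * s) * s) = r * ((s * s) * r * (s * s)) by group, hs2]
        group
      rw [e, show r * (s * r⁻¹ * s⁻¹) * x * (r * (s * r⁻¹ * s⁻¹))⁻¹ =
        r * (s * (r⁻¹ * (s⁻¹ * x * s) * r) * s⁻¹) * r⁻¹ by group]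
      have e2 : s⁻¹ * x * s = x⁻¹ := by
        rw [inv_eq_of_mul_eq_one_right hs2]
        conv_lhs => arg 2; rw [← inv_eq_of_mul_eq_one_right hs2]
        exact hall x hx
      rw [e2, hall _ (by simpa using hnA r⁻¹ _ (inv_mem hx))]
      group
    exact absurd this (by decide)
  have hFs : Fs < A := by
    refine lt_of_le_of_ne inf_le_left fun h => ?_
    have := hcent (.sr 0) fun x hx => by
      have hx' : x ∈ Fs := h.symm ▸ hx
      rw [← hs, ← Subgroup.mem_centralizer_singleton_iff.1 (Subgroup.mem_inf.1 hx').2, mul_inv_cancel_right]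
    exact absurd this (by decide)
  have ha1F : a1 ∈ Fs := Subgroup.mem_inf.2 ⟨ha1, Subgroup.mem_centralizer_singleton_iff.2
    (mul_inv_eq_iff_eq_mul.1 hsa1).symm⟩
  have hIs : Is < A := by
    refine lt_of_le_of_ne (fun x hx => hx.1) fun h => ?_
    have h1 : s * a1 * s⁻¹ = a1⁻¹ := (h.symm ▸ ha1 : a1 ∈ Is).2
    rw [hsa1, eq_inv_iff_mul_eq_one, hsq a1 ha1, inv_eq_one] at h1
    exact ha11 h1
  have hzFs : ∀ x ∈ Fs, z * x * z⁻¹ ∈ Fs := fun x hx => by
    refine Subgroup.mem_inf.2 ⟨hnA z x (Subgroup.mem_inf.1 hx).1, Subgroup.mem_centralizer_singleton_iff.2 ?_⟩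
    have h1 : Commute x s := Subgroup.mem_centralizer_singleton_iff.1 (Subgroup.mem_inf.1 hx).2
    exact ((show Commute z s from hzs).mul_left h1).mul_left (show Commute z s from hzs).inv_left
  have hza1 : z * a1 * z⁻¹ = a1⁻¹ := by
    rcases hpow a1 ha1 _ (hline Fs hFs a1 ha1F ha11 (hzFs a1 ha1F)) with h | h | h
    · exact absurd (conj_eq_one_iff.1 h) ha11
    swap
    · exact h
    exfalso
    have hFz : ∀ x ∈ Fs, z * x * z⁻¹ = x := fun x hx => by
      rcases hpow a1 ha1 x (hline Fs hFs a1 ha1F ha11 hx) with rfl | rfl | rfl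
      · group
      · exact h
      · rw [← conj_inv, h]
    by_cases hu : ∀ u ∈ Is, z * u * z⁻¹ = u
    · refine absurd (hcent (.r 2) fun x hx => ?_) (by decide)
      rw [← hzf]
      have h1 : x * (s * x * s⁻¹) ∈ Fs := Subgroup.mem_inf.2 ⟨mul_mem hx (hnA s x hx),
        Subgroup.mem_centralizer_singleton_iff.2 (mul_inv_eq_iff_eq_mul.1 (by
          rw [show s * (x * (s * x * s⁻¹)) * s⁻¹ = (s * x * s⁻¹) * (s * (s * x * s⁻¹) * s⁻¹) by group, hss,
            hAc _ (hnA s x hx) _ hx])).symm⟩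
      have h2 : x * (s * x * s⁻¹)⁻¹ ∈ Is := ⟨mul_mem hx (inv_mem (hnA s x hx)), by
        rw [show s * (x * (s * x * s⁻¹)⁻¹) * s⁻¹ = (s * x * s⁻¹) * (s * (s * x * s⁻¹) * s⁻¹)⁻¹ by group, hss,
          mul_inv_rev, inv_inv]⟩
      have h3 : (x * (s * x * s⁻¹)) * (x * (s * x * s⁻¹)⁻¹) = x⁻¹ := by
        rw [hAc x hx _ (inv_mem (hnA s x hx)), ← mul_assoc, mul_inv_cancel_right, hsq x hx]
      have h4 : z * x⁻¹ * z⁻¹ = x⁻¹ := by
        rw [← h3, show z * (x * (s * x * s⁻¹) * (x * (s * x * s⁻¹)⁻¹)) * z⁻¹ =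
          (z * (x * (s * x * s⁻¹)) * z⁻¹) * (z * (x * (s * x * s⁻¹)⁻¹) * z⁻¹) by group, hFz _ h1, hu _ h2]
      rw [← conj_inv, inv_inj] at h4
      exact h4
    · simp only [not_forall] at hu
      obtain ⟨u, hu1, hu2⟩ := hu
      have hu0 : u ≠ 1 := fun e => hu2 (by rw [e]; group)
      have hzu : z * u * z⁻¹ ∈ Is := ⟨hnA z u hu1.1, by
        rw [show s * (z * u * z⁻¹) * s⁻¹ = (s * z) * u * (s * z)⁻¹ by group, ← hzs,
          show z * s * u * (z * s)⁻¹ = z * (s * u * s⁻¹) * z⁻¹ by group, hu1.2]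
        group⟩
      have hzui : z * u * z⁻¹ = u⁻¹ := by
        rcases hpow u hu1.1 _ (hline Is hIs u hu1 hu0 hzu) with e | e | e
        · exact absurd (conj_eq_one_iff.1 e) hu0
        · exact absurd e hu2
        · exact e
      refine absurd (hcent (.r 2 * .sr 0) fun x hx => ?_) (by decide)
      rw [map_mul, ← hzf, ← hs]
      have h1 : x * (s * x * s⁻¹) ∈ Fs := Subgroup.mem_inf.2 ⟨mul_mem hx (hnA s x hx),
        Subgroup.mem_centralizer_singleton_iff.2 (mul_inv_eq_iff_eq_mul.1 (by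
          rw [show s * (x * (s * x * s⁻¹)) * s⁻¹ = (s * x * s⁻¹) * (s * (s * x * s⁻¹) * s⁻¹) by group, hss,
            hAc _ (hnA s x hx) _ hx])).symm⟩
      have h2 : x * (s * x * s⁻¹)⁻¹ ∈ Is := ⟨mul_mem hx (inv_mem (hnA s x hx)), by
        rw [show s * (x * (s * x * s⁻¹)⁻¹) * s⁻¹ = (s * x * s⁻¹) * (s * (s * x * s⁻¹) * s⁻¹)⁻¹ by group, hss,
          mul_inv_rev, inv_inv]⟩
      have h3 : (x * (s * x * s⁻¹)) * (x * (s * x * s⁻¹)⁻¹) = x⁻¹ := by
        rw [hAc x hx _ (inv_mem (hnA s x hx)), ← mul_assoc, mul_inv_cancel_right, hsq x hx]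
      set P := x * (s * x * s⁻¹) with hP
      set Q := x * (s * x * s⁻¹)⁻¹ with hQ
      have e1 : z * s * P * (z * s)⁻¹ = P := by
        rw [show z * s * P * (z * s)⁻¹ = z * (s * P * s⁻¹) * z⁻¹ by group,
          show s * P * s⁻¹ = P by
            rw [← Subgroup.mem_centralizer_singleton_iff.1 (Subgroup.mem_inf.1 h1).2, mul_inv_cancel_right],
          hFz P h1]
      have e2 : z * s * Q * (z * s)⁻¹ = Q := by
        rw [show z * s * Q * (z * s)⁻¹ = z * (s * Q * s⁻¹) * z⁻¹ by group, h2.2]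
        rcases hpow u hu1.1 Q (hline Is hIs u hu1 hu0 h2) with e | e | e <;> rw [e]
        · group
        · rw [← conj_inv, hzui, inv_inv]
        · rw [inv_inv, hzui]
      have h4 : z * s * x⁻¹ * (z * s)⁻¹ = x⁻¹ := by
        rw [← h3, show z * s * (P * Q) * (z * s)⁻¹ = (z * s * P * (z * s)⁻¹) * (z * s * Q * (z * s)⁻¹) by group,
          e1, e2]
      rw [← conj_inv, inv_inj] at h4
      exact h4
  obtain ⟨a2, ha2⟩ : ∃ a2, a2 = r * a1 * r⁻¹ := ⟨_, rfl⟩
  have ha2A : a2 ∈ A := ha2 ▸ hnA r a1 ha1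
  have hcomm : a1 * a2 = a2 * a1 := hAc a1 ha1 a2 ha2A
  have hline2 : a2 ∉ Subgroup.zpowers a1 := by
    intro hm
    have key : z * a1 * z⁻¹ = a1 := by
      have e : z * a1 * z⁻¹ = r * a2 * r⁻¹ := by rw [ha2, hz]; group
      rcases hpow a1 ha1 a2 hm with h | h | h
      · exact absurd (conj_eq_one_iff.1 (ha2.symm.trans h)) ha11
      · rw [e, h, ← ha2, h]
      · rw [e, h, ← conj_inv, ← ha2, h, inv_inv]
    rw [hza1, inv_eq_iff_mul_eq_one, hsq a1 ha1, inv_eq_one] at key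
    exact ha11 key
  have hAgen : A = Subgroup.closure {a1, a2} := by
    refine le_antisymm ?_ ((Subgroup.closure_le A).2 (by rintro x (rfl | rfl) <;> assumption))
    by_contra hne
    have hlt : Subgroup.closure {a1, a2} < A := lt_of_le_not_ge
      ((Subgroup.closure_le A).2 (by rintro x (rfl | rfl) <;> assumption)) hne
    exact hline2 (hline _ hlt a1 (Subgroup.subset_closure (Or.inl rfl)) ha11
      (Subgroup.subset_closure (Or.inr rfl)))
  have hgen : ∀ p q t : S, A ≤ Subgroup.closure {p, q, r, t} → (∃ d, t = f d ∧ Subgroup.closure ({.r 1, d} : Set (DihedralGroup 4)) = ⊤) →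
      Subgroup.closure ({p, q, r, t} : Set S) = ⊤ := by
    rintro p q t hle ⟨d, rfl, hd⟩
    rw [eq_top_iff, ← hAX]
    refine sup_le hle fun x hx => ?_
    obtain ⟨y, rfl⟩ := hfsurj x hx
    have : (Subgroup.closure ({.r 1, d} : Set (DihedralGroup 4))).map f ≤ Subgroup.closure {p, q, r, f d} := by
      rw [MonoidHom.map_closure]
      refine Subgroup.closure_mono ?_
      rintro _ ⟨u, (rfl | rfl), rfl⟩
      · exact Or.inr (Or.inr (Or.inl rfl))
      · exact Or.inr (Or.inr (Or.inr rfl))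
    rw [hd] at this
    exact this (Subgroup.mem_map_of_mem f (Subgroup.mem_top y))
  have hd0 : Subgroup.closure ({.r 1, .sr 0} : Set (DihedralGroup 4)) = ⊤ := by
    rw [eq_top_iff]
    intro x _
    have key : ∀ x : DihedralGroup 4, ∃ i : Fin 4, ∃ j : Fin 2, x = .r 1 ^ (i : ℕ) * .sr 0 ^ (j : ℕ) := by decide
    obtain ⟨i, j, rfl⟩ := key x
    have h1 : (DihedralGroup.r 1 : DihedralGroup 4) ∈ Subgroup.closure {.r 1, .sr 0} := Subgroup.subset_closure (Or.inl rfl)
    have h2 : (DihedralGroup.sr 0 : DihedralGroup 4) ∈ Subgroup.closure {.r 1, .sr 0} := Subgroup.subset_closure (Or.inr rfl)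
    exact mul_mem (pow_mem h1 _) (pow_mem h2 _)
  have hgen0 : Subgroup.closure ({a1, a2, r, s} : Set S) = ⊤ :=
    hgen a1 a2 s (hAgen.le.trans (Subgroup.closure_mono (by
      rintro x (rfl | rfl)
      · exact Or.inl rfl
      · exact Or.inr (Or.inl rfl)))) ⟨_, hs, hd0⟩
  have hsrs' : (r * s) * r * (r * s) = r⁻¹ := by
    rw [hr, hs, ← map_mul, ← map_mul, ← map_mul, ← map_inv]; exact congrArg f (by decide)
  have hza2 : z * a2 * z⁻¹ = a2⁻¹ := by
    calc z * a2 * z⁻¹ = r * (z * a1 * z⁻¹) * r⁻¹ := by rw [ha2, hz]; group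
      _ = a2⁻¹ := by rw [hza1, ha2]; group
  have hra2 : r * a2 * r⁻¹ = a1⁻¹ := by rw [← hza1, ha2, hz]; group
  have hsa2 : s * a2 * s⁻¹ = a2⁻¹ := by
    have e : s * r = r⁻¹ * s := by rw [← hsrs, mul_assoc (s * r), hs2, mul_one]
    calc s * a2 * s⁻¹ = (s * r) * a1 * (s * r)⁻¹ := by rw [ha2]; group
      _ = r⁻¹ * (s * a1 * s⁻¹) * r := by rw [e]; group
      _ = r * (z⁻¹ * a1 * z) * r⁻¹ := by rw [hsa1, hz]; group
      _ = a2⁻¹ := by
        rw [show z⁻¹ = z from inv_eq_of_mul_eq_one_right hr4]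
        conv_lhs => arg 1; arg 2; arg 2; rw [← inv_eq_of_mul_eq_one_right hr4]
        rw [hza1, ha2]; group
  -- the norm decomposition
  have hirr' : ∀ N : Submodule (ZMod 2) M, (∀ g : S, ∀ m ∈ N, ρ g m ∈ N) → N = ⊥ ∨ N = ⊤ := hirr
  have hfpf : ∀ v, ρ a1 v = v → ρ a2 v = v → v = 0 := by
    intro v h1 h2
    have hinv : ∀ g : S, ∀ m ∈ Fx ρ a1 ⊓ Fx ρ a2, ρ g m ∈ Fx ρ a1 ⊓ Fx ρ a2 := by
      refine invariant hgen0 _ ?_
      have hFinv' : ∀ {a : S} {m : M}, m ∈ Fx ρ a⁻¹ → m ∈ Fx ρ a := fun {a m} hm => by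
        rw [mem_Fx]
        conv_lhs => rw [← mem_Fx.1 hm, ← Module.End.mul_apply, ← map_mul, mul_inv_cancel, map_one]
        rfl
      intro g hg m hm
      obtain ⟨m1, m2⟩ := Submodule.mem_inf.1 hm
      rcases hg with rfl | rfl | rfl | rfl
      · rw [mem_Fx.1 m1]; exact hm
      · rw [mem_Fx.1 m2]; exact hm
      · exact Submodule.mem_inf.2 ⟨hFinv' (map_Fx hra2 m2), map_Fx ha2.symm m1⟩
      · exact Submodule.mem_inf.2 ⟨map_Fx hsa1 m1, hFinv' (map_Fx hsa2 m2)⟩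
    rcases hirr' _ hinv with h | h
    · exact (Submodule.mem_bot _).1 (h ▸ Submodule.mem_inf.2 ⟨mem_Fx.2 h1, mem_Fx.2 h2⟩)
    · exfalso
      apply ha11
      refine hfaith ?_
      rw [map_one]
      exact LinearMap.ext fun m => mem_Fx.1 (Submodule.mem_inf.1 (h ▸ Submodule.mem_top : m ∈ Fx ρ a1 ⊓ Fx ρ a2)).1
  have ha1c : a1 ^ 3 = 1 := hA3 _ ha1
  obtain ⟨c, hc⟩ : ∃ c, c = a1 * a2 := ⟨_, rfl⟩
  have hcA : c ∈ A := hc ▸ mul_mem ha1 ha2A
  obtain ⟨c', hc'⟩ : ∃ c', c' = r * c * r⁻¹ := ⟨_, rfl⟩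
  have hc'eq : c' = a2 * a1⁻¹ := by
    rw [hc', hc, show r * (a1 * a2) * r⁻¹ = (r * a1 * r⁻¹) * (r * a2 * r⁻¹) by group, hra2, ← ha2]
  have hc'A : c' ∈ A := hc' ▸ hnA r c hcA
  have data0 : Data ρ r s a1 a2 :=
    ⟨hs2, hr4, hsrs, ha1c, hcomm, hsa1, ha2.symm, hza1, hgen0, hfpf, hfaith, hirr', hsne⟩
  have hcc' : c * c' = a2⁻¹ := by
    rw [hc, hc'eq, hAc a1 ha1 a2 ha2A, mul_assoc, ← mul_assoc a1, hcomm, mul_assoc a2 a1, mul_inv_cancel, mul_one,
      hsq a2 ha2A]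
  have data1 : Data ρ r (r * s) c c' := by
    refine ⟨?_, hr4, hsrs', hA3 _ hcA, hAc _ hcA _ hc'A, ?_, hc'.symm, ?_, ?_, ?_, hfaith, hirr', ?_⟩
    · rw [hr, hs, ← map_mul, ← map_mul]; exact (congrArg f (by decide)).trans (map_one f)
    · rw [hc, show r * s * (a1 * a2) * (r * s)⁻¹ = (r * (s * a1 * s⁻¹) * r⁻¹) * (r * (s * a2 * s⁻¹) * r⁻¹) by group,
        hsa1, hsa2, ← ha2, ← conj_inv, hra2, inv_inv, hAc _ ha2A _ ha1]
    · rw [← hz, hc, show z * (a1 * a2) * z⁻¹ = (z * a1 * z⁻¹) * (z * a2 * z⁻¹) by group, hza1, hza2,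
        hAc a1 ha1 a2 ha2A, mul_inv_rev]
    · refine hgen c c' (r * s) ?_ ⟨.r 1 * .sr 0, by rw [hr, hs, map_mul], ?_⟩
      · rw [hAgen, Subgroup.closure_le]
        have hcm : c ∈ Subgroup.closure {c, c', r, r * s} := Subgroup.subset_closure (Or.inl rfl)
        have hcm' : c' ∈ Subgroup.closure {c, c', r, r * s} := Subgroup.subset_closure (Or.inr (Or.inl rfl))
        have ha2m : a2 ∈ Subgroup.closure {c, c', r, r * s} := by
          have := inv_mem (mul_mem hcm hcm')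
          rwa [hcc', inv_inv] at this
        rintro x (rfl | rfl)
        · exact (show c * a2⁻¹ = x by rw [hc, mul_inv_cancel_right]) ▸ mul_mem hcm (inv_mem ha2m)
        · exact ha2m
      · rw [eq_top_iff, ← hd0, Subgroup.closure_le]
        rintro x (rfl | rfl)
        · exact Subgroup.subset_closure (Or.inl rfl)
        · have h1 := mul_mem (inv_mem (Subgroup.subset_closure (Or.inl rfl) : (DihedralGroup.r 1 : DihedralGroup 4) ∈ Subgroup.closure {.r 1, .r 1 * .sr 0}))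
            (Subgroup.subset_closure (Or.inr rfl) : (DihedralGroup.r 1 * .sr 0 : DihedralGroup 4) ∈ Subgroup.closure {.r 1, .r 1 * .sr 0})
          rwa [inv_mul_cancel_left] at h1
    · intro v h1 h2
      have h3 : ρ a2⁻¹ v = v := by rw [← hcc', map_mul, Module.End.mul_apply, h2, h1]
      have h4 : ρ a2 v = v := by
        conv_lhs => rw [← h3, ← Module.End.mul_apply, ← map_mul, mul_inv_cancel, map_one]
        rfl
      refine hfpf v ?_ h4
      calc ρ a1 v = ρ a1 (ρ a2 v) := by rw [h4]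
        _ = v := by rw [← Module.End.mul_apply, ← map_mul, ← hc]; exact h1
    · intro h
      rw [hr, hs, ← map_mul] at h
      exact absurd (hf (h.trans (map_one f).symm)) (by decide)
  have hbig : Fx ρ a1 ⊔ Fx ρ a2 = ⊤ ∨ Fx ρ c ⊔ Fx ρ c' = ⊤ := by
    have hnorm : ∀ (a : S), a ∈ A → ∀ v : M, v + ρ a v + ρ (a * a) v ∈ Fx ρ a := by
      intro a ha v
      rw [mem_Fx, map_add, map_add, ← Module.End.mul_apply, ← map_mul, ← Module.End.mul_apply, ← map_mul,
        show a * (a * a) = 1 by rw [← hA3 a ha]; simp [pow_succ, mul_assoc], map_one, Module.End.one_apply]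
      abel
    have hsum : ∀ v : M, v = (v + ρ a1 v + ρ (a1 * a1) v) + (v + ρ a2 v + ρ (a2 * a2) v) +
        ((v + ρ c v + ρ (c * c) v) + (v + ρ c' v + ρ (c' * c') v)) := by
      intro v
      set T := v + ρ a1 v + ρ (a1 * a1) v with hT
      have hN : T + ρ a2 T + ρ (a2 * a2) T = 0 := by
        have hT1 := hnorm a1 ha1 v
        have hc2 : ∀ m ∈ Fx ρ a1, ρ a2 m ∈ Fx ρ a1 := fun m hm => map_Fx (mul_inv_eq_iff_eq_mul.2 hcomm.symm) hm
        have hT2 : ρ (a2 * a2) T ∈ Fx ρ a1 := by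
          rw [map_mul, Module.End.mul_apply]; exact hc2 _ (hc2 _ hT1)
        exact hfpf _ (mem_Fx.1 ((Fx ρ a1).add_mem ((Fx ρ a1).add_mem hT1 (hc2 _ hT1)) hT2))
          (mem_Fx.1 (hnorm a2 ha2A T))
      have e12 : a2 * a1 = c := hcomm.symm.trans hc.symm
      have e22 : a2 * a2 * (a1 * a1) = c * c := by
        rw [hsq a2 ha2A, hsq a1 ha1, hsq c hcA, hc, mul_inv_rev]
      have e3 : a2 * (a1 * a1) = c' := by rw [hsq a1 ha1, hc'eq]
      have e4 : a2 * a2 * a1 = c' * c' := by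
        rw [hsq c' hc'A, hc'eq, hsq a2 ha2A, mul_inv_rev, inv_inv, hAc _ (inv_mem ha2A) _ ha1]
      rw [hT, map_add, map_add, map_add, map_add, ← Module.End.mul_apply, ← map_mul, ← Module.End.mul_apply (ρ a2),
        ← map_mul, ← Module.End.mul_apply (ρ (a2 * a2)), ← map_mul, ← Module.End.mul_apply (ρ (a2 * a2)),
        ← map_mul, e12, e22, e3, e4] at hN
      rw [hT]
      calc v = v + ((v + v) + (v + ρ a1 v + ρ (a1 * a1) v + (ρ a2 v + ρ c v + ρ c' v) +
            (ρ (a2 * a2) v + ρ (c' * c') v + ρ (c * c) v))) := by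
            rw [add_self' v, zero_add, hN, add_zero]
        _ = _ := by abel
    have htop : ∀ v : M, v ∈ (Fx ρ a1 ⊔ Fx ρ a2) ⊔ (Fx ρ c ⊔ Fx ρ c') := fun v => by
      rw [hsum v]
      exact Submodule.add_mem_sup (Submodule.add_mem_sup (hnorm a1 ha1 v) (hnorm a2 ha2A v))
        (Submodule.add_mem_sup (hnorm c hcA v) (hnorm c' hc'A v))
    have hinv : ∀ (r' s' p q : S), Data ρ r' s' p q → r' = r → ∀ g : S, ∀ m ∈ Fx ρ p ⊔ Fx ρ q, ρ g m ∈ Fx ρ p ⊔ Fx ρ q := by
      intro r' s' p q d _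
      have hFinv' : ∀ {a : S} {m : M}, m ∈ Fx ρ a⁻¹ → m ∈ Fx ρ a := fun {a m} hm => by
        rw [mem_Fx]
        conv_lhs => rw [← mem_Fx.1 hm, ← Module.End.mul_apply, ← map_mul, mul_inv_cancel, map_one]
        rfl
      have hr'q : r' * q * r'⁻¹ = p⁻¹ := by rw [← d.ra1, ← d.za1]; group
      have hs'q : s' * q * s'⁻¹ = q⁻¹ := by
        have e : s' * r' = r'⁻¹ * s' := by rw [← d.srs, mul_assoc (s' * r'), d.s2, mul_one]
        have e2 : (r' * r')⁻¹ = r' * r' := inv_eq_of_mul_eq_one_right d.r4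
        calc s' * q * s'⁻¹ = (s' * r') * p * (s' * r')⁻¹ := by rw [← d.ra1]; group
          _ = r' * ((r' * r')⁻¹ * (s' * p * s'⁻¹) * (r' * r')⁻¹⁻¹) * r'⁻¹ := by rw [e]; group
          _ = q⁻¹ := by rw [d.sa1, e2, d.za1, ← d.ra1]; group
      refine invariant d.gen _ ?_
      intro g hg m hm
      obtain ⟨x, hx, y, hy, rfl⟩ := Submodule.mem_sup.1 hm
      rw [map_add]
      rcases hg with rfl | rfl | rfl | rfl
      · exact Submodule.add_mem_sup (map_Fx (by group) hx) (map_Fx (mul_inv_eq_iff_eq_mul.2 d.comm) hy)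
      · exact Submodule.add_mem_sup (map_Fx (mul_inv_eq_iff_eq_mul.2 d.comm.symm) hx) (map_Fx (by group) hy)
      · exact add_comm (ρ g x) (ρ g y) ▸ Submodule.add_mem_sup (hFinv' (map_Fx hr'q hy)) (map_Fx d.ra1 hx)
      · exact Submodule.add_mem_sup (map_Fx d.sa1 hx) (hFinv' (map_Fx hs'q hy))
    rcases hirr' _ (hinv r s a1 a2 data0 rfl) with h | h
    · refine Or.inr (eq_top_iff.2 fun v _ => ?_)
      have := htop v
      rwa [h, bot_sup_eq] at this
    · exact Or.inl h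
  have hrzs : r * (r * s) = z * s := by rw [hz, mul_assoc]
  have hfix' : fix2 ρ z (r * (r * s)) = fix2 ρ z s := by
    ext m
    rw [hrzs]
    constructor
    · rintro ⟨h1, h2⟩
      refine ⟨h1, ?_⟩
      rw [hzs, map_mul, Module.End.mul_apply, h1] at h2
      exact h2
    · rintro ⟨h1, h2⟩
      exact ⟨h1, by rw [hzs, map_mul, Module.End.mul_apply, h1, h2]⟩
  let H1 : Finset (DihedralGroup 4) := {1, .r 2, .sr 0, .sr 2}
  let H2 : Finset (DihedralGroup 4) := {1, .r 2, .sr 1, .sr 3}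
  have hfixH : ∀ (H : Finset (DihedralGroup 4)) (x y : DihedralGroup 4), x ∈ H → y ∈ H →
      (∀ h ∈ H, h = 1 ∨ h = x ∨ h = y ∨ h = x * y) →
      {m : M | ∀ b ∈ (H : Set (DihedralGroup 4)), ρ (f b) m = m} = fix2 ρ (f x) (f y) := by
    intro H x y hx hy hH
    ext m
    constructor
    · intro h; exact ⟨h x hx, h y hy⟩
    · rintro ⟨h1, h2⟩ b hb
      rcases hH b hb with rfl | rfl | rfl | rfl
      · rw [map_one, map_one]; rfl
      · exact h1
      · exact h2
      · rw [map_mul, map_mul, Module.End.mul_apply, h2, h1]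
  let B1 : Subgroup (DihedralGroup 4) :=
    { carrier := (H1 : Set (DihedralGroup 4)), one_mem' := by decide,
      mul_mem' := fun {a b} ha hb => (show ∀ a ∈ H1, ∀ b ∈ H1, a * b ∈ H1 by decide) a ha b hb,
      inv_mem' := fun {a} ha => (show ∀ a ∈ H1, a⁻¹ ∈ H1 by decide) a ha }
  let B2 : Subgroup (DihedralGroup 4) :=
    { carrier := (H2 : Set (DihedralGroup 4)), one_mem' := by decide,
      mul_mem' := fun {a b} ha hb => (show ∀ a ∈ H2, ∀ b ∈ H2, a * b ∈ H2 by decide) a ha b hb,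
      inv_mem' := fun {a} ha => (show ∀ a ∈ H2, a⁻¹ ∈ H2 by decide) a ha }
  have hcardB : ∀ (H : Finset (DihedralGroup 4)) (B : Subgroup (DihedralGroup 4)),
      (B : Set (DihedralGroup 4)) = H → (∀ h ∈ H, h * h = 1) → H.card = 4 →
      Nat.card (B.map f) = 4 ∧ (∀ b ∈ B.map f, b ^ 2 = 1) := by
    intro H B hB hsq hc
    refine ⟨?_, ?_⟩
    · rw [Subgroup.card_map_of_injective hf]
      refine Eq.trans ?_ hc
      rw [← Fintype.card_coe H, ← Nat.card_eq_fintype_card]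
      exact Nat.card_congr (Equiv.subtypeEquivRight fun x => by
        rw [← SetLike.mem_coe, hB, Finset.mem_coe])
    · rintro _ ⟨b, hb, rfl⟩
      rw [pow_two, ← map_mul, hsq b (by rw [← Finset.mem_coe, ← hB]; exact hb), map_one]
  have hfixB : ∀ (H : Finset (DihedralGroup 4)) (B : Subgroup (DihedralGroup 4)),
      (B : Set (DihedralGroup 4)) = H →
      Nat.card {m : M // ∀ b ∈ B.map f, ρ b m = m} =
        Nat.card {m : M | ∀ b ∈ (H : Set (DihedralGroup 4)), ρ (f b) m = m} := by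
    intro H B hB
    refine Nat.card_congr (Equiv.subtypeEquivRight fun m => ?_)
    constructor
    · intro h b hb
      exact h _ (Subgroup.mem_map_of_mem f (by rw [← SetLike.mem_coe, hB]; exact hb))
    · rintro h _ ⟨b, hb, rfl⟩
      exact h b (by rw [← hB]; exact hb)
  have hrsf : r * s = f (.sr 3) := by rw [hr, hs, ← map_mul]; exact congrArg f (by decide)
  have hk1 := (hfixB H1 B1 rfl).trans (congrArg (fun s : Set M => Nat.card s)
    (hfixH H1 (.r 2) (.sr 0) (by decide) (by decide) (by decide)))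
  have hk2 := (hfixB H2 B2 rfl).trans (congrArg (fun s : Set M => Nat.card s)
    (hfixH H2 (.r 2) (.sr 3) (by decide) (by decide) (by decide)))
  simp only [← hzf, ← hs, ← hrsf] at hk1 hk2
  have hall : ∀ B : Subgroup S, B ≤ X → Nat.card B = 4 → (∀ b ∈ B, b ^ 2 = 1) →
      B = B1.map f ∨ B = B2.map f := by
    intro B hBX hB4 hB2
    haveI : Fintype (B.comap f) := Fintype.ofFinite _
    set T := (B.comap f : Set (DihedralGroup 4)).toFinset with hT
    have hBm : (B.comap f).map f = B := Subgroup.map_comap_eq_self fun b hb => by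
      obtain ⟨d, rfl⟩ := hfsurj b (hBX hb); exact ⟨d, rfl⟩
    have hTc : T.card = 4 := by
      rw [hT, Set.toFinset_card, ← Nat.card_eq_fintype_card]
      show Nat.card (B.comap f) = 4
      rw [← Subgroup.card_map_of_injective hf, hBm, hB4]
    rcases dihedral_four T hTc (fun x hx y hy => by
        rw [hT, Set.mem_toFinset] at hx hy ⊢; exact mul_mem (s := B.comap f) hx hy)
      (fun x hx => hf (by
        rw [hT, Set.mem_toFinset] at hx
        rw [map_mul, map_one, ← pow_two]; exact hB2 _ hx)) with h | h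
    · left
      rw [← hBm]; congr 1
      refine SetLike.coe_injective ?_
      rw [← Set.coe_toFinset (B.comap f : Set (DihedralGroup 4)), ← hT, h]
      rfl
    · right
      rw [← hBm]; congr 1
      refine SetLike.coe_injective ?_
      rw [← Set.coe_toFinset (B.comap f : Set (DihedralGroup 4)), ← hT, h]
      rfl
  have hB1 := hcardB H1 B1 rfl (by decide) (by decide)
  have hB2 := hcardB H2 B2 rfl (by decide) (by decide)
  have hB1X : B1.map f ≤ X := by rintro _ ⟨b, -, rfl⟩; exact hfX b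
  have hB2X : B2.map f ≤ X := by rintro _ ⟨b, -, rfl⟩; exact hfX b
  rcases hbig with hU | hU
  · obtain ⟨h16, h4, h2⟩ := main hM data0 hU
    refine ⟨h16, B2.map f, ⟨hB2X, hB2.1, hB2.2, hk2.trans h2⟩, ?_⟩
    rintro B ⟨hBX, hB4, hBe, hBf⟩
    rcases hall B hBX hB4 hBe with rfl | rfl
    · exfalso
      have := hBf.symm.trans (hk1.trans h4)
      omega
    · rfl
  · obtain ⟨h16, h4, h2⟩ := main hM data1 hU
    rw [← hz, hfix'] at h2
    rw [← hz] at h4
    refine ⟨h16, B1.map f, ⟨hB1X, hB1.1, hB1.2, hk1.trans h2⟩, ?_⟩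
    rintro B ⟨hBX, hB4, hBe, hBf⟩
    rcases hall B hBX hB4 hBe with rfl | rfl
    · rfl
    · exfalso
      have := hBf.symm.trans (hk2.trans h4)
      omega

end Cfsg.Agent.S4407
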