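import Cfsg.Statements.S4408
import Cfsg.Agent.Lib.Coprime.Action
import Cfsg.Agent.Lib.Solvable.Cores

set_option autoImplicit false
open Cfsg

namespace Cfsg.Agent.S4408

open Subgroup
open scoped commutatorElement

universe u

/-- The Frattini quotient of a nilpotent group is abelian. -/
theorem frattini_comm {U : Type u} [Group U] [Finite U] [Group.IsNilpotent U] (a b : U) :
    ⁅a, b⁆ ∈ frattini U := by
  rw [frattini, Order.radical]
  simp only [Subgroup.mem_iInf]
  intro M hM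
  have hMn : M.Normal :=
    Subgroup.NormalizerCondition.normal_of_coatom M Group.normalizerCondition_of_isNilpotent hM
  obtain ⟨c, hc⟩ : ∃ c : U, c ∉ M := by
    by_contra hne
    simp only [not_exists, not_not] at hne
    exact hM.1 (eq_top_iff.2 fun x _ => hne x)
  have htop : zpowers (c : U ⧸ M) = ⊤ := by
    have h1 : M < (zpowers (c : U ⧸ M)).comap (QuotientGroup.mk' M) := by
      refine lt_of_le_of_ne (fun x hx => ?_) fun e => hc (e ▸ mem_zpowers (c : U ⧸ M))
      show (x : U ⧸ M) ∈ zpowers (c : U ⧸ M)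
      rw [(QuotientGroup.eq_one_iff x).2 hx]
      exact one_mem _
    have h2 := hM.2 _ h1
    refine eq_top_iff.2 fun q _ => ?_
    obtain ⟨x, rfl⟩ := QuotientGroup.mk_surjective q
    exact (h2 ▸ mem_top x : x ∈ (zpowers (c : U ⧸ M)).comap (QuotientGroup.mk' M))
  rw [← QuotientGroup.eq_one_iff]
  show (QuotientGroup.mk' M) ⁅a, b⁆ = 1
  rw [map_commutatorElement, commutatorElement_eq_one_iff_mul_comm]
  obtain ⟨i, hi⟩ := mem_zpowers_iff.1 (htop ▸ mem_top (QuotientGroup.mk' M a) :)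
  obtain ⟨j, hj⟩ := mem_zpowers_iff.1 (htop ▸ mem_top (QuotientGroup.mk' M b) :)
  rw [← hi, ← hj]
  exact ((Commute.refl _).zpow_zpow i j).eq

variable {S : Type u} [Group S] [Finite S]

omit [Finite S] in
theorem nil_of_le {U K : Subgroup S} [Group.IsNilpotent K] (h : U ≤ K) : Group.IsNilpotent U :=
  Group.nilpotent_of_mulEquiv (subgroupOfEquivOfLe h)

omit [Finite S] in
/-- A commuting family of involutory endomorphisms of an abelian group of odd order has common eigenvectors. -/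
theorem exists_eigen {V : Type*} [CommGroup V] [Finite V] (hodd : Odd (Nat.card V))
    {ι : Type*} [Finite ι] (σ : ι → V →* V) (hcomm : ∀ i j x, σ i (σ j x) = σ j (σ i x))
    (hinv : ∀ j x, σ j (σ j x) = x) (i : ι) (hi : ∃ x, σ i x ≠ x) :
    ∃ v : V, v ≠ 1 ∧ σ i v = v⁻¹ ∧ ∀ j, σ j v = v ∨ σ j v = v⁻¹ := by
  classical
  have hsq : ∀ x : V, x * x = 1 → x = 1 := fun x hx => by
    have h1 : orderOf x ∣ 2 := orderOf_dvd_of_pow_eq_one (by rw [pow_two, hx])
    have h2 : orderOf x ∣ Nat.card V := orderOf_dvd_natCard x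
    exact orderOf_eq_one_iff.1 (Nat.eq_one_of_dvd_coprimes (Nat.coprime_two_left.2 hodd) h1 h2)
  haveI := Fintype.ofFinite ι
  have key : ∀ s : Finset ι, ∃ v : V, v ≠ 1 ∧ σ i v = v⁻¹ ∧ ∀ j ∈ s, σ j v = v ∨ σ j v = v⁻¹ := by
    intro s
    induction s using Finset.induction_on with
    | empty =>
      obtain ⟨x, hx⟩ := hi
      refine ⟨x⁻¹ * σ i x, fun e => hx (inv_mul_eq_one.1 e).symm, ?_, by simp⟩
      rw [map_mul, map_inv, hinv, mul_inv_rev, inv_inv, mul_comm]
    | insert j s _ ih =>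
      obtain ⟨v, hv, hvi, hvs⟩ := ih
      have hij : σ i (σ j v) = (σ j v)⁻¹ := by rw [hcomm, hvi, map_inv]
      by_cases h1 : v * σ j v = 1
      · refine ⟨v, hv, hvi, fun k hk => ?_⟩
        rcases Finset.mem_insert.1 hk with rfl | hk
        · exact Or.inr (eq_inv_of_mul_eq_one_right h1)
        · exact hvs k hk
      refine ⟨v * σ j v, h1, by rw [map_mul, hvi, hij, mul_inv], fun k hk => ?_⟩
      rcases Finset.mem_insert.1 hk with rfl | hk
      · exact Or.inl (by rw [map_mul, hinv, mul_comm])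
      · rcases hvs k hk with e | e
        · exact Or.inl (by rw [map_mul, hcomm, e])
        · exact Or.inr (by rw [map_mul, hcomm, e, map_inv, mul_inv])
  obtain ⟨v, hv, hvi, hvs⟩ := key Finset.univ
  exact ⟨v, hv, hvi, fun j => hvs j (Finset.mem_univ j)⟩

/-- An element of prime order normalised by `I` and inverted by a given involution of `I`. -/
theorem exists_line (I : Subgroup S) (hI : Cfsg.IsElementaryAbelian 2 I) {K : Subgroup S}
    [Group.IsNilpotent K] (hK : Odd (Nat.card K)) (hIK : I ≤ normalizer (K : Set S)) {i : S}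
    (hi : i ∈ I) (hiK : ∃ k ∈ K, i * k ≠ k * i) :
    ∃ a ∈ K, (orderOf a).Prime ∧ i * a * i⁻¹ = a⁻¹ ∧
      ∀ j ∈ I, j * a * j⁻¹ = a ∨ j * a * j⁻¹ = a⁻¹ := by
  classical
  obtain ⟨U, ⟨hUK, hIU, u0, hu0, hu0i⟩, hmin⟩ := Set.Finite.exists_minimalFor (id : Subgroup S → _)
    {U : Subgroup S | U ≤ K ∧ I ≤ normalizer (U : Set S) ∧ ∃ u ∈ U, i * u ≠ u * i}
    (Set.toFinite _) ⟨K, le_rfl, hIK, hiK⟩
  have hUnil : Group.IsNilpotent U :=
    nil_of_le hUK
  have hUodd : Odd (Nat.card U) := hK.of_dvd_nat (card_dvd_of_le hUK)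
  have hnf : ∀ j : S, j ∈ I → j * j = 1 := fun j hj => by rw [← pow_two]; exact hI.2 j hj
  have hjc : ∀ j ∈ I, ∀ l ∈ I, j * l = l * j := fun j hj l hl =>
    congrArg Subtype.val (hI.1.is_comm.comm (⟨j, hj⟩ : I) ⟨l, hl⟩)
  set Φ := frattini U with hΦ
  let c : I →* MulAut U := (normalizerMonoidHom U).comp (inclusion hIU)
  let ρ : MulAut U →* MulAut (U ⧸ Φ) :=
    { toFun := fun φ => QuotientGroup.congr Φ Φ φ (characteristic_iff_map_eq.1 inferInstance φ)
      map_one' := MulEquiv.ext fun y => by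
        obtain ⟨x, rfl⟩ := QuotientGroup.mk_surjective y; rfl
      map_mul' := fun φ φ' => MulEquiv.ext fun y => by
        obtain ⟨x, rfl⟩ := QuotientGroup.mk_surjective y; rfl }
  let _ : CommGroup (U ⧸ Φ) :=
    { (inferInstance : Group (U ⧸ Φ)) with
      mul_comm := fun a b => by
        obtain ⟨x, rfl⟩ := QuotientGroup.mk_surjective a
        obtain ⟨y, rfl⟩ := QuotientGroup.mk_surjective b
        rw [← commutatorElement_eq_one_iff_mul_comm]
        show ⁅QuotientGroup.mk' Φ x, QuotientGroup.mk' Φ y⁆ = 1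
        rw [← map_commutatorElement]
        exact (QuotientGroup.eq_one_iff _).2 (frattini_comm x y) }
  have hVodd : Odd (Nat.card (U ⧸ Φ)) := hUodd.of_dvd_nat (card_quotient_dvd_card Φ)
  let σ : I → (U ⧸ Φ) →* (U ⧸ Φ) := fun j => (ρ (c j)).toMonoidHom
  have hσc : ∀ j l x, σ j (σ l x) = σ l (σ j x) := by
    intro j l x
    show (ρ (c j) * ρ (c l)) x = (ρ (c l) * ρ (c j)) x
    rw [← map_mul, ← map_mul, ← map_mul, ← map_mul, hI.1.is_comm.comm j l]
  have hσi : ∀ j x, σ j (σ j x) = x := by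
    intro j x
    show (ρ (c j) * ρ (c j)) x = x
    rw [← map_mul, ← map_mul, show j * j = 1 from Subtype.ext (hnf j j.2), map_one, map_one]
    rfl
  have hne : ∃ x, σ ⟨i, hi⟩ x ≠ x := by
    by_contra hne
    simp only [not_exists, not_not] at hne
    refine hu0i ?_
    have hzn : zpowers i ≤ normalizer (U : Set S) := zpowers_le.2 (hIU hi)
    have hcent := CfsgLib.Coprime.le_centralizer_of_frattini hzn ?_ ?_
    · exact ((mem_centralizer_iff.1 (hcent (mem_zpowers i))) u0 hu0).symm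
    · rw [Nat.card_zpowers]
      refine Nat.Coprime.coprime_dvd_left (orderOf_dvd_of_pow_eq_one (by rw [pow_two]; exact hnf i hi)) ?_
      exact Nat.coprime_two_left.2 (hUodd.of_dvd_nat (card_subgroup_dvd_card _))
    · intro a ha k hk
      obtain ⟨e, rfl⟩ := mem_zpowers_iff.1 ha
      have h2 : i ^ (2 : ℤ) = 1 := by rw [zpow_two]; exact hnf i hi
      rcases Int.even_or_odd' e with ⟨t, rfl | rfl⟩
      · rw [zpow_mul, h2, one_zpow, commutatorElement_one_left]
        exact one_mem _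
      · rw [zpow_add, zpow_mul, h2, one_zpow, one_mul, zpow_one]
        have hik : i * k * i⁻¹ ∈ U := (mem_normalizer_iff.1 (hIU hi) k).1 hk
        have h3 : ((⟨i * k * i⁻¹, hik⟩ : U) : U ⧸ Φ) = ((⟨k, hk⟩ : U) : U ⧸ Φ) :=
          hne ((⟨k, hk⟩ : U) : U ⧸ Φ)
        refine ⟨⟨i * k * i⁻¹, hik⟩ * ⟨k, hk⟩⁻¹, (QuotientGroup.eq_one_iff _).1 (by
          rw [QuotientGroup.mk_mul, QuotientGroup.mk_inv, h3, mul_inv_cancel]), rfl⟩
  obtain ⟨v, hv1, hvi, hvI⟩ := exists_eigen hVodd σ hσc hσi ⟨i, hi⟩ hne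
  obtain ⟨w, rfl⟩ := QuotientGroup.mk_surjective v
  set H := (Φ ⊔ zpowers w).map U.subtype with hH
  have hmem : ∀ x : U, x ∈ Φ ⊔ zpowers w ↔ ∃ t : ℤ, (x : U ⧸ Φ) = (w : U ⧸ Φ) ^ t := by
    intro x
    constructor
    · intro hx
      obtain ⟨f, hf, e, he, rfl⟩ := mem_sup_of_normal_left.1 hx
      obtain ⟨t, rfl⟩ := mem_zpowers_iff.1 he
      exact ⟨t, by rw [QuotientGroup.mk_mul, (QuotientGroup.eq_one_iff f).2 hf, one_mul, QuotientGroup.mk_zpow]⟩
    · rintro ⟨t, ht⟩
      have h1 : x * (w ^ t)⁻¹ ∈ Φ := by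
        rw [← QuotientGroup.eq_one_iff, QuotientGroup.mk_mul, QuotientGroup.mk_inv, QuotientGroup.mk_zpow,
          ht, mul_inv_cancel]
      simpa using mul_mem (mem_sup_left (T := zpowers w) h1) (mem_sup_right (S := Φ) (zpow_mem (mem_zpowers w) t))
  have hHn : I ≤ normalizer (H : Set S) := by
    have hclosed : ∀ j ∈ I, ∀ y ∈ H, j * y * j⁻¹ ∈ H := by
      rintro j hj _ ⟨x, hx, rfl⟩
      obtain ⟨t, ht⟩ := (hmem x).1 hx
      refine ⟨c ⟨j, hj⟩ x, (hmem _).2 ?_, rfl⟩
      have h1 : ((c ⟨j, hj⟩ x : U) : U ⧸ Φ) = σ ⟨j, hj⟩ (x : U ⧸ Φ) := rfl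
      rw [h1, ht, map_zpow]
      rcases hvI ⟨j, hj⟩ with e | e
      · exact ⟨t, by rw [e]⟩
      · exact ⟨-t, by rw [e, inv_zpow, zpow_neg]⟩
    intro j hj
    refine mem_normalizer_iff.2 fun y => ⟨hclosed j hj y, fun hy => ?_⟩
    have h1 := hclosed j⁻¹ (inv_mem hj) _ hy
    rwa [inv_inv, show j⁻¹ * (j * y * j⁻¹) * j = y by group] at h1
  have hwi : i * (w : S) ≠ (w : S) * i := by
    intro e
    have h1 : c ⟨i, hi⟩ w = w := Subtype.ext (show i * (w : S) * i⁻¹ = w from mul_inv_eq_iff_eq_mul.2 e)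
    have h2 : σ ⟨i, hi⟩ (w : U ⧸ Φ) = (w : U ⧸ Φ) := congrArg (QuotientGroup.mk (s := Φ)) h1
    rw [hvi, inv_eq_iff_mul_eq_one] at h2
    apply hv1
    have h3 : orderOf (w : U ⧸ Φ) ∣ 2 := orderOf_dvd_of_pow_eq_one (by rw [pow_two, h2])
    exact orderOf_eq_one_iff.1 (Nat.eq_one_of_dvd_coprimes (Nat.coprime_two_left.2 hVodd) h3 (orderOf_dvd_natCard _))
  have hHU : H ≤ U := map_subtype_le _
  have hUH : U ≤ H := hmin ⟨hHU.trans hUK, hHn, w, ⟨w, mem_sup_right (mem_zpowers w), rfl⟩, hwi⟩ hHU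
  have hgen : zpowers w = ⊤ := by
    refine frattini_nongenerating (eq_top_iff.2 fun x _ => ?_)
    obtain ⟨y, hy, e⟩ := hUH x.2
    rw [sup_comm]
    exact Subtype.ext e ▸ hy
  have hUcyc : ∀ x : U, ∃ t : ℤ, w ^ t = x := fun x => mem_zpowers_iff.1 (hgen ▸ mem_top x)
  set d := w⁻¹ * c ⟨i, hi⟩ w with hd
  have hd1 : d ≠ 1 := fun e => hwi (mul_inv_eq_iff_eq_mul.1 (congrArg Subtype.val (inv_mul_eq_one.1 e).symm :))
  obtain ⟨s, hs, hsd⟩ : ∃ s, (orderOf (d ^ s)).Prime ∧ 0 < s := by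
    have h1 : orderOf d ≠ 1 := fun e => hd1 (orderOf_eq_one_iff.1 e)
    have hp := Nat.minFac_prime h1
    refine ⟨orderOf d / (orderOf d).minFac, ?_, Nat.div_pos (Nat.minFac_le (orderOf_pos d)) hp.pos⟩
    rw [orderOf_pow_orderOf_div (orderOf_pos d).ne' (Nat.minFac_dvd _)]
    exact hp
  set a := d ^ s with ha
  have hcw : ∀ j : I, ∀ x y : U, c j (x * y) = c j x * c j y := fun j x y => map_mul _ _ _
  have hcd : c ⟨i, hi⟩ d = d⁻¹ := by
    obtain ⟨t, ht⟩ := hUcyc (c ⟨i, hi⟩ w)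
    have h1 : c ⟨i, hi⟩ (c ⟨i, hi⟩ w) = w := by
      show ((c ⟨i, hi⟩) * (c ⟨i, hi⟩)) w = w
      rw [← map_mul, show (⟨i, hi⟩ : I) * ⟨i, hi⟩ = 1 from Subtype.ext (hnf i hi), map_one]
      rfl
    rw [hd, hcw, map_inv, h1, mul_inv_rev, inv_inv, ← ht]
  refine ⟨(a : S), hUK a.2, by rw [Subgroup.orderOf_coe]; exact hs, ?_, fun j hj => ?_⟩
  · have : c ⟨i, hi⟩ a = a⁻¹ := by rw [ha, map_pow, hcd, inv_pow]
    exact congrArg Subtype.val this
  · -- `j` normalises the unique subgroup of that order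
    obtain ⟨t, ht⟩ := hUcyc (c ⟨j, hj⟩ w)
    obtain ⟨ta, hta⟩ := hUcyc a
    have h1 : c ⟨j, hj⟩ a = a ^ t := by
      rw [← hta, map_zpow, ← ht, ← zpow_mul, ← zpow_mul, mul_comm]
    have h2 : c ⟨j, hj⟩ (c ⟨j, hj⟩ a) = a := by
      show ((c ⟨j, hj⟩) * (c ⟨j, hj⟩)) a = a
      rw [← map_mul, show (⟨j, hj⟩ : I) * ⟨j, hj⟩ = 1 from Subtype.ext (hnf j hj), map_one]
      rfl
    rw [h1, map_zpow, h1, ← zpow_mul] at h2
    have h3 : (orderOf a : ℤ) ∣ (t - 1) * (t + 1) := by
      rw [show (t - 1) * (t + 1) = t * t - 1 by ring, orderOf_dvd_iff_zpow_eq_one, zpow_sub, h2,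
        zpow_one, mul_inv_cancel]
    rcases (Nat.prime_iff_prime_int.1 hs).dvd_mul.1 h3 with h4 | h4
    · refine Or.inl ?_
      rw [orderOf_dvd_iff_zpow_eq_one, zpow_sub, zpow_one, mul_inv_eq_one] at h4
      exact congrArg Subtype.val (h1.trans h4)
    · refine Or.inr ?_
      rw [orderOf_dvd_iff_zpow_eq_one, zpow_add, zpow_one, mul_eq_one_iff_eq_inv] at h4
      exact congrArg Subtype.val (h1.trans h4)

/-- An element acting coprimely and fixing the centraliser of an element of a nilpotent group fixes everything. -/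
theorem fix_of_fix_centralizer {K : Subgroup S} [Group.IsNilpotent K] {i a : S}
    (hcop : (orderOf i).Coprime (Nat.card K)) (hiK : i ∈ normalizer (K : Set S)) (ha : a ∈ K)
    (h : ∀ k ∈ K, Commute k a → Commute i k) : ∀ k ∈ K, Commute i k := by
  set C : Subgroup K := (centralizer ({i} : Set S)).subgroupOf K with hC
  have hCm : ∀ x : K, x ∈ C ↔ Commute i (x : S) := fun x => by
    rw [hC, mem_subgroupOf, mem_centralizer_singleton_iff]
    exact ⟨fun e => e.symm, fun e => e.eq.symm⟩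
  suffices C = ⊤ from fun k hk => (hCm ⟨k, hk⟩).1 (this ▸ mem_top _)
  by_contra hne
  have hlt := Group.normalizerCondition_of_isNilpotent C (lt_top_iff_ne_top.2 hne)
  obtain ⟨⟨x, hxK⟩, hxN, hxC⟩ := SetLike.exists_of_lt hlt
  apply hxC
  have hy : ⁅i, x⁆ ∈ K := by
    rw [commutatorElement_def]
    exact mul_mem ((mem_normalizer_iff.1 hiK x).1 hxK) (inv_mem hxK)
  have haC : (⟨a, ha⟩ : K) ∈ C := (hCm _).2 (h a ha (Commute.refl a))
  set D := C.map K.subtype with hD
  have hcomm : ∀ c : K, c ∈ C → Commute ⁅i, x⁆ (c : S) := by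
    intro c hc
    have hcx : ((⟨x, hxK⟩ : K)⁻¹ * c * ⟨x, hxK⟩) ∈ C := by
      have h1 := (mem_normalizer_iff.1 (inv_mem hxN) c).1 hc
      rwa [inv_inv] at h1
    have h1 : Commute i (c : S) := (hCm c).1 hc
    have h2 : Commute i (x⁻¹ * c * x) := (hCm _).1 hcx
    show ⁅i, x⁆ * (c : S) = c * ⁅i, x⁆
    rw [commutatorElement_def]
    calc i * x * i⁻¹ * x⁻¹ * c = i * x * i⁻¹ * (x⁻¹ * c * x) * x⁻¹ := by group
      _ = i * x * ((x⁻¹ * c * x) * i⁻¹) * x⁻¹ := by rw [mul_assoc (i * x), h2.inv_left.eq]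
      _ = i * c * x * i⁻¹ * x⁻¹ := by group
      _ = c * i * x * i⁻¹ * x⁻¹ := by rw [h1.eq]
      _ = c * (i * x * i⁻¹ * x⁻¹) := by group
  have hmem : ⁅i, x⁆ ∈ D := ⟨⟨_, hy⟩, (hCm _).2 (h _ hy (hcomm _ haC)), rfl⟩
  have hiD : i ∈ centralizer (D : Set S) := mem_centralizer_iff.2 (by
    rintro _ ⟨c, hc, rfl⟩; exact ((hCm c).1 hc).eq.symm)
  refine (hCm _).2 (CfsgLib.Coprime.commute_of_stabilizes ?_ hiD hmem)
  refine hcop.coprime_dvd_right ?_
  rw [hD, card_map_of_injective K.subtype_injective]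
  exact card_subgroup_dvd_card C

/-- The recursive statement. -/
theorem main (I : Subgroup S) (hI : Cfsg.IsElementaryAbelian 2 I) :
    ∀ (m : ℕ) (I0 K : Subgroup S), I0 ≤ I → Nat.card I0 = 2 ^ m → I ≤ normalizer (K : Set S) →
      Group.IsNilpotent K → Odd (Nat.card K) → (∀ i ∈ I0, (∀ k ∈ K, Commute i k) → i = 1) →
      ∃ f : Fin m → Subgroup S, (∀ t, (Nat.card (f t)).Prime) ∧ (∀ t, f t ≤ K) ∧
        (∀ t, I ≤ normalizer (f t : Set S)) ∧ (∀ t s, t ≠ s → ∀ a ∈ f t, ∀ b ∈ f s, a * b = b * a) ∧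
        Nat.card ↥(⨆ t, f t) = ∏ t, Nat.card (f t) ∧
        (∀ i ∈ I0, (∀ y ∈ (⨆ t, f t), Commute i y) → i = 1) ∧
        (∀ y ∈ (⨆ t, f t), (∀ i ∈ I0, Commute i y) → y = 1) := by
  intro m
  induction m with
  | zero =>
    intro I0 K _ hc _ _ _ _
    refine ⟨fun t => ⊥, fun t => t.elim0, fun t => t.elim0, fun t => t.elim0, fun t => t.elim0,
      by simp, fun i hi _ => ?_, fun y hy _ => by simpa using hy⟩
    rw [pow_zero, card_eq_one] at hc
    simpa [hc] using hi
  | succ m ih =>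
    intro I0 K hI0 hc hIK hKn hKodd hf
    have hI0ne : I0 ≠ ⊥ := fun e => by
      rw [e, card_bot] at hc
      have := Nat.two_pow_pos m
      rw [pow_succ] at hc
      omega
    obtain ⟨i0, hi0, hi01⟩ := (bot_or_exists_ne_one I0).resolve_left hI0ne
    have hmove : ∃ k ∈ K, i0 * k ≠ k * i0 := by
      by_contra hne
      exact hi01 (hf i0 hi0 fun k hk => by_contra fun hk' => hne ⟨k, hk, hk'⟩)
    obtain ⟨a, ha, hap, hainv, haI⟩ := exists_line I hI hKodd hIK (hI0 hi0) hmove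
    have haodd : Odd (orderOf a) := hKodd.of_dvd_nat (Subgroup.orderOf_dvd_natCard K ha)
    have ha1 : a ≠ a⁻¹ := by
      intro e
      have h1 : orderOf a ∣ 2 := orderOf_dvd_of_pow_eq_one (by rw [pow_two]; exact mul_eq_one_iff_eq_inv.2 e)
      have := Nat.eq_one_of_dvd_coprimes (Nat.coprime_two_left.2 haodd) h1 dvd_rfl
      exact hap.ne_one this
    set I1 := I0 ⊓ centralizer ({a} : Set S) with hI1
    have hidx : (I1.subgroupOf I0).index = 2 := by
      rw [index_eq_two_iff]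
      refine ⟨⟨i0, hi0⟩, fun b => ?_⟩
      have hm : ∀ x : I0, x ∈ I1.subgroupOf I0 ↔ (x : S) * a * (x : S)⁻¹ = a := fun x => by
        rw [mem_subgroupOf, hI1, mem_inf, mem_centralizer_singleton_iff, mul_inv_eq_iff_eq_mul]
        exact ⟨fun e => e.2, fun e => ⟨x.2, e⟩⟩
      rw [hm, hm, xor_iff_iff_not]
      show (b : S) * i0 * a * ((b : S) * i0)⁻¹ = a ↔ ¬ (b : S) * a * (b : S)⁻¹ = a
      rw [show (b : S) * i0 * a * ((b : S) * i0)⁻¹ = (b : S) * (i0 * a * i0⁻¹) * (b : S)⁻¹ by group, hainv,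
        ← conj_inv]
      rcases haI b (hI0 b.2) with e | e <;> rw [e]
      · exact iff_of_false (fun e' => ha1 e'.symm) (fun e' => e' rfl)
      · exact iff_of_true (inv_inv a) fun e' => ha1 e'.symm
    have hI1le : I1 ≤ I0 := inf_le_left
    have hI1c : Nat.card I1 = 2 ^ m := by
      have h1 := (I1.subgroupOf I0).card_mul_index
      rw [hidx, Nat.card_congr (subgroupOfEquivOfLe hI1le).toEquiv, hc, pow_succ] at h1
      omega
    set K1 := K ⊓ centralizer ({a} : Set S) with hK1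
    have hIa : I ≤ normalizer (centralizer ({a} : Set S) : Set S) := by
      have hclosed : ∀ j ∈ I, ∀ y ∈ centralizer ({a} : Set S), j * y * j⁻¹ ∈ centralizer ({a} : Set S) := by
        intro j hj y hy
        have hya : Commute y a := mem_centralizer_singleton_iff.1 hy
        have h1 : Commute (j * y * j⁻¹) (j * a * j⁻¹) := (Commute.conj_iff j).2 hya
        rw [mem_centralizer_singleton_iff]
        rcases haI j hj with e | e <;> rw [e] at h1
        · exact h1.eq
        · exact (Commute.inv_right_iff.1 h1).eq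
      intro j hj
      refine mem_normalizer_iff.2 fun y => ⟨hclosed j hj y, fun hy => ?_⟩
      have h1 := hclosed j⁻¹ (inv_mem hj) _ hy
      rwa [inv_inv, show j⁻¹ * (j * y * j⁻¹) * j = y by group] at h1
    have hIK1 : I ≤ normalizer (K1 : Set S) := fun j hj => mem_normalizer_iff.2 fun y => by
      rw [hK1, mem_inf, mem_inf, ← mem_normalizer_iff.1 (hIK hj) y, ← mem_normalizer_iff.1 (hIa hj) y]
    have hf1 : ∀ i ∈ I1, (∀ k ∈ K1, Commute i k) → i = 1 := by
      intro i hi hik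
      refine hf i (hI1le hi) (fix_of_fix_centralizer ?_ (hIK (hI0 (hI1le hi))) ha fun k hk hka =>
        hik k ⟨hk, mem_centralizer_singleton_iff.2 hka⟩)
      refine Nat.Coprime.coprime_dvd_left (orderOf_dvd_of_pow_eq_one (hI.2 i (hI0 (hI1le hi)))) ?_
      exact Nat.coprime_two_left.2 hKodd
    obtain ⟨f, hfp, hfK, hfn, hfc, hfcard, hff, hffix⟩ := ih I1 K1 (hI1le.trans hI0) hI1c hIK1
      (nil_of_le inf_le_left) (hKodd.of_dvd_nat (card_dvd_of_le inf_le_left)) hf1
    set A := zpowers a with hA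
    set B := ⨆ t, f t with hB
    have hBa : B ≤ centralizer ({a} : Set S) := iSup_le fun t => (hfK t).trans inf_le_right
    have hab : ∀ x ∈ A, ∀ y ∈ B, Commute x y := by
      intro x hx y hy
      obtain ⟨e, rfl⟩ := mem_zpowers_iff.1 hx
      exact (show Commute a y from (mem_centralizer_singleton_iff.1 (hBa hy)).symm).zpow_left e
    have hsup : (⨆ t, (Fin.cons A f : Fin (m + 1) → Subgroup S) t) = A ⊔ B := by
      refine le_antisymm (iSup_le fun t => ?_) (sup_le (le_iSup_of_le 0 ?_) (iSup_le fun t => le_iSup_of_le t.succ ?_))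
      · cases t using Fin.cases with
        | zero => simp
        | succ t => simpa using le_sup_of_le_right (le_iSup f t)
      · simp
      · simp
    have hI1A : ∀ x ∈ A, ∀ i ∈ I1, Commute i x := by
      intro x hx i hi
      obtain ⟨e, rfl⟩ := mem_zpowers_iff.1 hx
      exact (show Commute i a from mem_centralizer_singleton_iff.1 (mem_inf.1 hi).2).zpow_right e
    have hdisj : Disjoint A B := disjoint_iff.2 ((eq_bot_iff_forall _).2 fun x hx =>
      hffix x (mem_inf.1 hx).2 fun i hi => hI1A x (mem_inf.1 hx).1 i hi)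
    let φ : A × B →* S := MonoidHom.noncommCoprod A.subtype B.subtype fun x y => hab x x.2 y y.2
    have hφ : φ.range = A ⊔ B := by
      refine (MonoidHom.noncommCoprod_range _ _ _).trans ?_
      rw [range_subtype, range_subtype]
    have hφi : Function.Injective φ := by
      rw [injective_iff_map_eq_one]
      rintro ⟨⟨x, hx⟩, ⟨y, hy⟩⟩ e
      have e' : x * y = 1 := e
      have hxB : x ∈ B := (eq_inv_of_mul_eq_one_left e') ▸ inv_mem hy
      have hx1 : x = 1 := Subgroup.disjoint_def.1 hdisj hx hxB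
      rw [hx1, one_mul] at e'
      exact Prod.ext (Subtype.ext hx1) (Subtype.ext e')
    refine ⟨Fin.cons A f, fun t => ?_, fun t => ?_, fun t => ?_, fun t s hts => ?_, ?_, ?_, ?_⟩
    · cases t using Fin.cases with
      | zero => rw [Fin.cons_zero, hA, Nat.card_zpowers]; exact hap
      | succ t => rw [Fin.cons_succ]; exact hfp t
    · cases t using Fin.cases with
      | zero => rw [Fin.cons_zero]; exact zpowers_le.2 ha
      | succ t => rw [Fin.cons_succ]; exact (hfK t).trans inf_le_left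
    · cases t using Fin.cases with
      | zero =>
        rw [Fin.cons_zero]
        intro j hj
        rw [Subgroup.mem_normalizer_iff_map_conj_eq, hA, MonoidHom.map_zpowers]
        show zpowers (j * a * j⁻¹) = zpowers a
        rcases haI j hj with e | e <;> rw [e]
        exact zpowers_inv
      | succ t => rw [Fin.cons_succ]; exact hfn t
    · cases t using Fin.cases with
      | zero =>
        cases s using Fin.cases with
        | zero => exact absurd rfl hts
        | succ s =>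
          rw [Fin.cons_zero, Fin.cons_succ]
          exact fun x hx y hy => (hab x hx y (le_iSup f s hy)).eq
      | succ t =>
        cases s using Fin.cases with
        | zero =>
          rw [Fin.cons_zero, Fin.cons_succ]
          exact fun x hx y hy => (hab y hy x (le_iSup f t hx)).eq.symm
        | succ s =>
          rw [Fin.cons_succ, Fin.cons_succ]
          exact hfc t s fun e => hts (by rw [e])
    · rw [hsup, ← hφ, ← Nat.card_congr (MonoidHom.ofInjective hφi).toEquiv, Nat.card_prod, hfcard,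
        Fin.prod_univ_succ]
      simp
    · intro i hi hfix
      have h1 : i ∈ I1 := ⟨hi, mem_centralizer_singleton_iff.2
        (hfix a (hsup.symm ▸ mem_sup_left (T := B) (mem_zpowers a))).eq⟩
      exact hff i h1 fun y hy => hfix y (hsup.symm ▸ mem_sup_right (S := A) hy)
    · intro y hy hfix
      rw [hsup, ← hφ] at hy
      obtain ⟨⟨⟨x, hx⟩, ⟨z, hz⟩⟩, rfl⟩ := hy
      change ∀ i ∈ I0, Commute i (x * z) at hfix
      have hz1 : z = 1 := hffix z hz fun i hi => by
        have := ((hI1A x hx i hi).inv_right).mul_right (hfix i (hI1le hi))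
        rwa [inv_mul_cancel_left] at this
      subst hz1
      show x * 1 = 1
      obtain ⟨e, rfl⟩ := mem_zpowers_iff.1 hx
      have h2 := hfix i0 hi0
      rw [mul_one] at h2 ⊢
      have h3 : i0 * a ^ e * i0⁻¹ = a ^ e := mul_inv_eq_iff_eq_mul.2 h2
      rw [← conj_zpow, hainv, inv_zpow, inv_eq_iff_mul_eq_one, ← zpow_add, ← orderOf_dvd_iff_zpow_eq_one,
        ← two_mul] at h3
      rw [← orderOf_dvd_iff_zpow_eq_one]
      exact (Int.isCoprime_iff_nat_coprime.2 (by simpa using (Nat.coprime_two_left.2 haodd).symm)).dvd_of_dvd_mul_left h3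


/-- Let S be a finite solvable group whose Fitting subgroup F(S) has odd order, and let I be an elementary abelian 2-subgroup of S of order 2ⁿ with n ≥ 1. Then F(S) contains subgroups A₁, …, Aₙ of prime order, each normalized by I, pairwise commuting and generating a subgroup A of order |A₁|⋯|Aₙ| (their internal direct product), such that no non-identity element of I centralizes A. -/
theorem result {S : Type*} [Group S] [Finite S]
    [Group.IsSolvable S] (hF : Odd (Nat.card ↥(Cfsg.fittingSubgroup S)))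
    (I : Subgroup S) (hI : Cfsg.IsElementaryAbelian 2 I) (n : ℕ) (hn : 1 ≤ n) (hIn : Nat.card ↥I = 2 ^ n) :
    ∃ f : Fin n → Subgroup S, (∀ i, (Nat.card ↥(f i)).Prime) ∧ (∀ i, f i ≤ Cfsg.fittingSubgroup S) ∧
      (∀ i, I ≤ Subgroup.normalizer ((f i) : Set S)) ∧ (∀ i j, i ≠ j → ∀ a ∈ f i, ∀ b ∈ f j, a * b = b * a) ∧
      Nat.card ↥(⨆ i, f i) = ∏ i, Nat.card ↥(f i) ∧ I ⊓ Subgroup.centralizer ((⨆ i, f i : Subgroup S) : Set S) = ⊥ := by
  have : Group.IsNilpotent (Cfsg.fittingSubgroup S) := CfsgLib.Solvable.Cores.fittingSubgroup_isNilpotent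
  have hn : I ≤ Subgroup.normalizer (Cfsg.fittingSubgroup S : Set S) := by
    rw [Subgroup.normalizer_eq_top_iff.2 CfsgLib.Solvable.Cores.fittingSubgroup_normal]
    exact le_top
  have hfaith : ∀ i ∈ I, (∀ k ∈ Cfsg.fittingSubgroup S, Commute i k) → i = 1 := by
    intro i hi hik
    have h1 := CfsgLib.Solvable.Cores.centralizer_fittingSubgroup_le
      (Subgroup.mem_centralizer_iff.2 fun k hk => (hik k hk).eq.symm)
    have h2 : orderOf i ∣ 2 := orderOf_dvd_of_pow_eq_one (hI.2 i hi)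
    exact orderOf_eq_one_iff.1 (Nat.eq_one_of_dvd_coprimes (Nat.coprime_two_left.2 hF) h2
      (Subgroup.orderOf_dvd_natCard _ h1))
  obtain ⟨f, h1, h2, h3, h4, h5, h6, -⟩ := main I hI n I (Cfsg.fittingSubgroup S) le_rfl hIn hn this hF hfaith
  refine ⟨f, h1, h2, h3, h4, h5, (Subgroup.eq_bot_iff_forall _).2 fun i hi => ?_⟩
  exact h6 i (Subgroup.mem_inf.1 hi).1 fun y hy =>
    (Subgroup.mem_centralizer_iff.1 (Subgroup.mem_inf.1 hi).2 y hy).symm

end Cfsg.Agent.S4408
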