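import Cfsg.Statements.S4409
import Cfsg.Agent.Lib.TwoGroups.NoAbelianEight
import Cfsg.Agent.Lib.TwoGroups.CyclicMax
import Cfsg.Agent.Lib.Solvable.Cores
import Cfsg.Agent.Lib.Solvable.Hall

set_option autoImplicit false
open Cfsg
open scoped commutatorElement

namespace Cfsg.Agent.S4409

open CfsgLib.TwoGroups.NoAbelianEight

variable {S : Type*} [Group S] [Finite S]

theorem card_le_two_mul {H K : Subgroup S}
    (h : ∀ a ∈ H, a ∉ K → ∀ b ∈ H, b ∉ K → a⁻¹ * b ∈ K) : Nat.card H ≤ 2 * Nat.card K := by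
  classical
  by_cases hall : ∀ a ∈ H, a ∈ K
  · have := Subgroup.card_le_of_le (show H ≤ K from hall)
    omega
  push Not at hall
  obtain ⟨a₀, ha₀, ha₀K⟩ := hall
  let f : H → K × Bool := fun a =>
    if ha : (a : S) ∈ K then (⟨a, ha⟩, false) else (⟨a₀⁻¹ * a, h a₀ ha₀ ha₀K a a.2 ha⟩, true)
  have hf : Function.Injective f := by
    intro a b hab
    by_cases ha : (a : S) ∈ K <;> by_cases hb : (b : S) ∈ K
    · simp only [f, dif_pos ha, dif_pos hb, Prod.mk.injEq, Subtype.mk.injEq] at hab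
      exact Subtype.ext hab.1
    · simp [f, dif_pos ha, dif_neg hb] at hab
    · simp [f, dif_neg ha, dif_pos hb] at hab
    · simp only [f, dif_neg ha, dif_neg hb, Prod.mk.injEq, Subtype.mk.injEq] at hab
      exact Subtype.ext (mul_left_cancel hab.1)
  refine (Nat.card_le_card_of_injective f hf).trans ?_
  rw [Nat.card_prod, Nat.card_eq_fintype_card (α := Bool), Fintype.card_bool, mul_comm]

theorem four_false {T : Subgroup S} (hTn : T.Normal) (hC : Subgroup.centralizer (T : Set S) ≤ T)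
    (h4 : Nat.card T = 4) (h2 : ∀ x ∈ T, x ^ 2 = 1) {A : Subgroup S}
    (hAc : ∀ a ∈ A, ∀ b ∈ A, a * b = b * a) (hA8 : Nat.card A = 8) : False := by
  classical
  haveI : Fact (Nat.Prime 2) := ⟨Nat.prime_two⟩
  let _ : MulAction A T :=
    { smul := fun a t => ⟨(a : S) * t * (a : S)⁻¹, hTn.conj_mem t t.2 a⟩
      one_smul := fun t => Subtype.ext (by show (1 : S) * t * (1 : S)⁻¹ = t; simp)
      mul_smul := fun a b t => Subtype.ext (by
        show ((a : S) * b) * t * ((a : S) * b)⁻¹ = a * (b * t * (b : S)⁻¹) * (a : S)⁻¹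
        simp [mul_assoc]) }
  have hA : IsPGroup 2 A := IsPGroup.of_card (n := 3) (by rw [hA8]; rfl)
  obtain ⟨v, hv, hv1⟩ := hA.exists_fixed_point_of_prime_dvd_card_of_fixed_point (α := T)
    (h4 ▸ (by norm_num : 2 ∣ 4)) (a := 1) (fun a => Subtype.ext (by
      show (a : S) * 1 * (a : S)⁻¹ = 1; simp))
  have hv' : ∀ a ∈ A, a * (v : S) * a⁻¹ = v := fun a ha => congrArg Subtype.val (hv ⟨a, ha⟩)
  letI := Fintype.ofFinite T
  have hT4 : Fintype.card T = 4 := by rw [← Nat.card_eq_fintype_card, h4]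
  obtain ⟨w, -, hw⟩ := Finset.exists_mem_notMem_of_card_lt_card
    (show ({1, v} : Finset T).card < (Finset.univ : Finset T).card by
      rw [Finset.card_univ, hT4]
      exact lt_of_le_of_lt Finset.card_le_two (by norm_num))
  simp only [Finset.mem_insert, Finset.mem_singleton, not_or] at hw
  obtain ⟨hw1, hwv⟩ := hw
  have hv1' : v ≠ 1 := Ne.symm hv1
  have hvw1 : v * w ≠ 1 := fun h => hwv (by
    rw [← inv_eq_of_mul_eq_one_right h]
    exact inv_eq_of_mul_eq_one_right (Subtype.ext (by rw [← pow_two]; exact h2 v v.2)))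
  have hall : ∀ t : T, t = 1 ∨ t = v ∨ t = w ∨ t = v * w := by
    intro t
    have hu : ({1, v, w, v * w} : Finset T) = Finset.univ := by
      apply Finset.eq_univ_of_card
      rw [Finset.card_insert_of_notMem (by simp [hv1, Ne.symm hw1, Ne.symm hvw1]),
        Finset.card_insert_of_notMem (by simp [Ne.symm hwv, hw1]),
        Finset.card_insert_of_notMem (by simp [hv1']), Finset.card_singleton, hT4]
    simpa [← hu] using Finset.mem_univ t
  have hmov : ∀ a ∈ A, a * (w : S) * a⁻¹ = w ∨ a * (w : S) * a⁻¹ = v * w := by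
    intro a ha
    rcases hall ⟨a * w * a⁻¹, hTn.conj_mem w w.2 a⟩ with e | e | e | e
    · have e' : a * (w : S) * a⁻¹ = 1 := congrArg Subtype.val e
      exact absurd (Subtype.ext (conj_eq_one_iff.mp e')) hw1
    · have e' : a * (w : S) * a⁻¹ = v := congrArg Subtype.val e
      exact absurd (Subtype.ext (mul_left_cancel (mul_right_cancel (e'.trans (hv' a ha).symm)))) hwv
    · exact Or.inl (congrArg Subtype.val e)
    · exact Or.inr (congrArg Subtype.val e)
  set K := A ⊓ Subgroup.centralizer ({(w : S)} : Set S) with hK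
  have hmem : ∀ a ∈ A, (a * (w : S) * a⁻¹ = w ↔ a ∈ K) := fun a ha => by
    rw [hK, Subgroup.mem_inf, Subgroup.mem_centralizer_singleton_iff, mul_inv_eq_iff_eq_mul]
    exact ⟨fun h => ⟨ha, h⟩, fun h => h.2⟩
  have hKT : K ≤ T := by
    intro a ha
    apply hC
    rw [Subgroup.mem_centralizer_iff]
    intro t ht
    have haw : a * (w : S) = w * a := Subgroup.mem_centralizer_singleton_iff.mp ha.2
    have hav : a * (v : S) = v * a := mul_inv_eq_iff_eq_mul.mp (hv' a ha.1)
    rcases hall ⟨t, ht⟩ with e | e | e | e <;> replace e := congrArg Subtype.val e <;>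
      simp only at e <;> rw [e]
    · simp
    · exact hav.symm
    · exact haw.symm
    · show (v : S) * w * a = a * (v * w)
      rw [mul_assoc, ← haw, ← mul_assoc, ← hav, mul_assoc]
  have hcard := card_le_two_mul (H := A) (K := K) (fun a ha haK b hb hbK => by
    have ea := (hmov a ha).resolve_left (fun h => haK ((hmem a ha).mp h))
    have eb := (hmov b hb).resolve_left (fun h => hbK ((hmem b hb).mp h))
    refine (hmem _ (mul_mem (inv_mem ha) hb)).mp ?_
    calc a⁻¹ * b * w * (a⁻¹ * b)⁻¹ = a⁻¹ * (b * w * b⁻¹) * a := by group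
      _ = a⁻¹ * (a * w * a⁻¹) * a := by rw [ea, eb]
      _ = w := by group)
  have hKeq : K = T := Subgroup.eq_of_le_of_card_ge hKT (by omega)
  have hAT : A ≤ T := fun a ha => hC (by
    rw [Subgroup.mem_centralizer_iff]
    intro t ht
    have htA : t ∈ A := inf_le_left (a := A) (hKeq.symm ▸ ht : t ∈ K)
    exact hAc t htA a ha)
  have := Subgroup.card_le_of_le hAT
  omega

theorem quaternion_false {T : Subgroup S} (hTn : T.Normal)
    (hC : Subgroup.centralizer (T : Set S) ≤ T) (h8 : Nat.card T = 8) {z : S} (hz : z ∈ T)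
    (hz1 : z ≠ 1) (hz2 : z ^ 2 = 1) (hu : ∀ x ∈ T, x ^ 2 = 1 → x = 1 ∨ x = z) {a b : S}
    (ha : a ∈ T) (hb : b ∈ T) (hab : a * b ≠ b * a) {A : Subgroup S}
    (hAc : ∀ a ∈ A, ∀ b ∈ A, a * b = b * a) (hA8 : Nat.card A = 8) (hAn : ¬ IsCyclic A) : False := by
  classical
  haveI : Fact (Nat.Prime 2) := ⟨Nat.prime_two⟩
  obtain ⟨hsq, hcz, hcl, ha2, hcent⟩ := quaternion_facts h8 hz hz1 hz2 hu ha hb hab
  have hzz : z * z = 1 := by rw [← pow_two]; exact hz2
  have hzi : z⁻¹ = z := inv_eq_of_mul_eq_one_right hzz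
  have hzn : ∀ y : S, y * z * y⁻¹ = z := fun y =>
    (hu _ (hTn.conj_mem z hz y) (by rw [conj_pow, hz2, mul_one, mul_inv_cancel])).resolve_left
      fun h => hz1 (conj_eq_one_iff.mp h)
  have hzc : ∀ y : S, y * z = z * y := fun y => mul_inv_eq_iff_eq_mul.mp (hzn y)
  set Z := Subgroup.zpowers z with hZ
  haveI : Z.Normal := ⟨fun g hg y => by
    obtain ⟨i, rfl⟩ := hg
    exact ⟨i, by simp only [← conj_zpow, hzn]⟩⟩
  have hzpow : ∀ g ∈ Z, g = 1 ∨ g = z := by
    intro g hg
    obtain ⟨i, rfl⟩ := hg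
    rcases Int.even_or_odd i with ⟨r, rfl⟩ | ⟨r, rfl⟩
    · exact Or.inl (by show z ^ (r + r) = 1; rw [← two_mul, zpow_mul, zpow_ofNat, hz2, one_zpow])
    · exact Or.inr (by
        show z ^ (2 * r + 1) = z
        rw [zpow_add, zpow_mul, zpow_ofNat, hz2, one_zpow, one_mul, zpow_one])
  -- squares in `T` lie in `Z`
  have hsqZ : ∀ x ∈ T, x ^ 2 ∈ Z := fun x hx => by
    rcases hsq x hx with h | h | h
    · rw [h]; exact Subgroup.mem_zpowers z
    · rw [h, one_pow]; exact one_mem _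
    · rw [h, hz2]; exact one_mem _
  have htwist : ∀ y ∈ T, ∀ x ∈ T, y * x * y⁻¹ = x ∨ y * x * y⁻¹ = x * z := by
    intro y hy x hx
    have h1 : y * x * y⁻¹ * x⁻¹ ∈ Z := by
      rw [show y * x * y⁻¹ * x⁻¹ = y ^ 2 * (y⁻¹ * x) ^ 2 * (x⁻¹) ^ 2 by simp [pow_two, mul_assoc]]
      exact mul_mem (mul_mem (hsqZ y hy) (hsqZ _ (mul_mem (inv_mem hy) hx))) (hsqZ _ (inv_mem hx))
    rcases hzpow _ h1 with h | h
    · exact Or.inl (mul_inv_eq_one.mp h)
    · exact Or.inr (by rw [mul_inv_eq_iff_eq_mul] at h; rw [h, hzc x])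
  -- a point fixed modulo `Z`
  set π := QuotientGroup.mk' Z
  set Tb := T.map π with hTb
  haveI : Tb.Normal := Subgroup.Normal.map hTn _ (QuotientGroup.mk'_surjective _)
  let _ : MulAction A Tb :=
    { smul := fun x w => ⟨π x * w * (π x)⁻¹, Subgroup.Normal.conj_mem inferInstance _ w.2 _⟩
      one_smul := fun w => Subtype.ext (by show π (1 : S) * (w : S ⧸ Z) * (π (1 : S))⁻¹ = w; simp)
      mul_smul := fun x y w => Subtype.ext (by
        show π ((x : S) * y) * (w : S ⧸ Z) * (π ((x : S) * y))⁻¹ =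
          π x * (π y * w * (π y)⁻¹) * (π x)⁻¹
        simp [mul_assoc]) }
  have hZT : Z ≤ T := Subgroup.zpowers_le.mpr hz
  have hZ2 : Nat.card Z = 2 := by rw [hZ, Nat.card_zpowers, orderOf_eq_prime hz2 hz1]
  have hcard : Nat.card Tb = 4 := by
    have := Subgroup.card_mul_index (Z.subgroupOf T)
    rw [Nat.card_congr (Subgroup.subgroupOfEquivOfLe hZT).toEquiv, hZ2, h8] at this
    rw [hTb, ← Subgroup.relIndex_ker, QuotientGroup.ker_mk']
    change 2 * Z.relIndex T = 8 at this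
    omega
  have hA : IsPGroup 2 A := IsPGroup.of_card (n := 3) (by rw [hA8]; rfl)
  obtain ⟨c, hc, hc1⟩ := hA.exists_fixed_point_of_prime_dvd_card_of_fixed_point (α := Tb)
    (hcard ▸ (by norm_num : 2 ∣ 4)) (a := 1) (fun x => Subtype.ext (by
      show π x * 1 * (π x)⁻¹ = 1; simp))
  obtain ⟨u, huT, huc⟩ := c.2
  have huZ : u ∉ Z := fun h => hc1 (Subtype.ext (by
    rw [← huc]; exact ((QuotientGroup.eq_one_iff u).mpr h).symm))
  have hufix : ∀ p ∈ A, p * u * p⁻¹ = u ∨ p * u * p⁻¹ = u * z := by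
    intro p hp
    have h1 : π p * π u * (π p)⁻¹ = π u := by
      rw [huc]; exact congrArg Subtype.val (hc ⟨p, hp⟩)
    rw [← map_inv, ← map_mul, ← map_mul] at h1
    rcases hzpow _ (QuotientGroup.eq.mp h1.symm) with h | h
    · exact Or.inl (inv_mul_eq_one.mp h).symm
    · exact Or.inr (inv_mul_eq_iff_eq_mul.mp h)
  have hu1 : u ≠ 1 := fun h => huZ (h ▸ one_mem _)
  have huz : u ≠ z := fun h => huZ (h ▸ Subgroup.mem_zpowers z)
  have hu2 : u ^ 2 = z := by
    rcases hsq u huT with h | h | h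
    · exact h
    · exact absurd h hu1
    · exact absurd h huz
  obtain ⟨v, hv, huv⟩ : ∃ v ∈ T, u * v ≠ v * u := by
    by_contra hcon
    push Not at hcon
    rcases hcent u huT (hcon a ha) (hcon b hb) with h | h
    · exact hu1 h
    · exact huz h
  obtain ⟨-, -, hcl', -, hcent'⟩ := quaternion_facts h8 hz hz1 hz2 hu huT hv huv
  have hf1 : u * v * u⁻¹ = v * z :=
    (htwist u huT v hv).resolve_left fun h => huv (mul_inv_eq_iff_eq_mul.mp h)
  have hf2 : v * u * v⁻¹ = u * z :=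
    (htwist v hv u huT).resolve_left fun h => huv (mul_inv_eq_iff_eq_mul.mp h).symm
  -- an element fixing `u` and `v` modulo `Z` is, up to `{1,u,v,uv}`, centralizing
  have adjust : ∀ p : S, (p * u * p⁻¹ = u ∨ p * u * p⁻¹ = u * z) →
      (p * v * p⁻¹ = v ∨ p * v * p⁻¹ = v * z) →
      ∃ t, (t = 1 ∨ t = u ∨ t = v ∨ t = u * v) ∧ p * t ∈ Subgroup.centralizer (T : Set S) := by
    intro p e1 e2
    have hcj : ∀ t f : S, (p * t) * f * (p * t)⁻¹ = p * (t * f * t⁻¹) * p⁻¹ := fun t f => by group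
    have hyz : ∀ f : S, p * (f * z) * p⁻¹ = p * f * p⁻¹ * z := fun f => by
      rw [hzc p⁻¹ |>.symm.trans rfl |> fun _ => show p * (f * z) * p⁻¹ = p * f * (z * p⁻¹) by group,
        ← hzc p⁻¹]
      group
    have main : ∀ t : S, (p * t) * u * (p * t)⁻¹ = u → (p * t) * v * (p * t)⁻¹ = v →
        p * t ∈ Subgroup.centralizer (T : Set S) := by
      intro t h1 h2
      have : Subgroup.closure {u, v} ≤ Subgroup.centralizer ({p * t} : Set S) := by
        rw [Subgroup.closure_le]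
        rintro g (rfl | rfl)
        · exact Subgroup.mem_centralizer_singleton_iff.mpr (mul_inv_eq_iff_eq_mul.mp h1).symm
        · exact Subgroup.mem_centralizer_singleton_iff.mpr (mul_inv_eq_iff_eq_mul.mp h2).symm
      rw [hcl'] at this
      rw [Subgroup.mem_centralizer_iff]
      intro g hg
      exact Subgroup.mem_centralizer_singleton_iff.mp (this hg)
    rcases e1 with e1 | e1 <;> rcases e2 with e2 | e2
    · exact ⟨1, Or.inl rfl, main 1 (by rw [mul_one, e1]) (by rw [mul_one, e2])⟩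
    · exact ⟨u, Or.inr (Or.inl rfl), main u (by rw [hcj, mul_inv_cancel_right, e1])
        (by rw [hcj, hf1, hyz, e2, mul_assoc, hzz, mul_one])⟩
    · exact ⟨v, Or.inr (Or.inr (Or.inl rfl)), main v
        (by rw [hcj, hf2, hyz, e1, mul_assoc, hzz, mul_one])
        (by rw [hcj, mul_inv_cancel_right, e2])⟩
    · refine ⟨u * v, Or.inr (Or.inr (Or.inr rfl)), main _ ?_ ?_⟩
      · rw [hcj, show u * v * u * (u * v)⁻¹ = u * (v * u * v⁻¹) * u⁻¹ by group, hf2,
          show u * (u * z) * u⁻¹ = u * u * (z * u⁻¹) by group]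
        rw [← hzc u⁻¹, mul_assoc u u, mul_inv_cancel_left, hyz, e1, mul_assoc, hzz, mul_one]
      · rw [hcj, show u * v * v * (u * v)⁻¹ = u * v * u⁻¹ by group, hf1, hyz, e2,
          mul_assoc, hzz, mul_one]
  -- the eight elements
  have hv2 : v * v = z := by
    rcases hsq v hv with h | h | h
    · rw [← pow_two]; exact h
    · exact absurd (by rw [h, one_mul, mul_one]) huv
    · exact absurd (by rw [h, hzc u]) huv
  have huu : u * u = z := by rw [← pow_two]; exact hu2
  have hdec : ∀ y ∈ T, ∃ k, (k = 1 ∨ k = z) ∧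
      (y = k ∨ y = u * k ∨ y = v * k ∨ y = u * v * k) := by
    intro y hy
    obtain ⟨t, ht, hyt⟩ := adjust y (htwist y hy u huT) (htwist y hy v hv)
    have htT : t ∈ T := by
      rcases ht with rfl | rfl | rfl | rfl
      exacts [one_mem _, huT, hv, mul_mem huT hv]
    obtain ⟨k, hk, hyk⟩ : ∃ k, (k = 1 ∨ k = z) ∧ y = k * t⁻¹ := by
      refine ⟨y * t, hcent _ (mul_mem hy htT) ?_ ?_, by group⟩
      · exact (Subgroup.mem_centralizer_iff.mp hyt a ha).symm
      · exact (Subgroup.mem_centralizer_iff.mp hyt b hb).symm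
    have hkc : ∀ g : S, k * g = g * k := fun g => by
      rcases hk with rfl | rfl
      · simp
      · exact (hzc g).symm
    have hkz : k * z = 1 ∨ k * z = z := by
      rcases hk with rfl | rfl
      · exact Or.inr (one_mul _)
      · exact Or.inl hzz
    rw [hkc] at hyk
    rcases ht with rfl | rfl | rfl | rfl
    · exact ⟨k, hk, Or.inl (by rw [hyk, inv_one, one_mul])⟩
    · refine ⟨k * z, hkz, Or.inr (Or.inl ?_)⟩
      rw [hyk, hkc z, ← mul_assoc, show t⁻¹ = t * z from inv_eq_of_mul_eq_one_right (by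
        rw [← mul_assoc, huu, hzz])]
    · refine ⟨k * z, hkz, Or.inr (Or.inr (Or.inl ?_))⟩
      rw [hyk, hkc z, ← mul_assoc, show t⁻¹ = t * z from inv_eq_of_mul_eq_one_right (by
        rw [← mul_assoc, hv2, hzz])]
    · refine ⟨k * z, hkz, Or.inr (Or.inr (Or.inr ?_))⟩
      rw [hyk, hkc z, ← mul_assoc, show (u * v)⁻¹ = u * v * z from inv_eq_of_mul_eq_one_right (by
        rcases hsq (u * v) (mul_mem huT hv) with h | h | h
        · rw [← mul_assoc, ← pow_two, h, hzz]
        · exact absurd (by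
            rw [eq_inv_of_mul_eq_one_right h, mul_inv_cancel, inv_mul_cancel]) huv
        · exfalso
          apply huv
          have e : v = u⁻¹ * z := by rw [← h, inv_mul_cancel_left]
          rw [e, hzc u⁻¹, ← mul_assoc, hzc u, mul_assoc, mul_inv_cancel, mul_assoc, inv_mul_cancel])]
  have hkcomm : ∀ k : S, (k = 1 ∨ k = z) → ∀ g, k * g = g * k := by
    rintro k (rfl | rfl) g
    · simp
    · exact (hzc g).symm
  -- the elements moving `v`
  have hmov : ∀ p ∈ A, (p * v * p⁻¹ = v ∨ p * v * p⁻¹ = v * z) ∨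
      ∃ k, (k = 1 ∨ k = z) ∧ p * v * p⁻¹ = u * v * k := by
    intro p hp
    obtain ⟨k, hk, hy⟩ := hdec _ (hTn.conj_mem v hv p)
    have hne : ∀ g : S, g * u = u * g → p * v * p⁻¹ ≠ g := by
      intro g hg e
      apply huv
      have h1 : p * (v * u) * p⁻¹ = p * (u * v) * p⁻¹ := by
        rw [show p * (v * u) * p⁻¹ = (p * v * p⁻¹) * (p * u * p⁻¹) by group,
          show p * (u * v) * p⁻¹ = (p * u * p⁻¹) * (p * v * p⁻¹) by group, e]
        rcases hufix p hp with e' | e' <;> rw [e']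
        · exact hg
        · rw [← mul_assoc, hg, mul_assoc, mul_assoc u z g, hzc g]
      exact (mul_left_cancel (mul_right_cancel h1)).symm
    rcases hy with e | e | e | e
    · exact absurd e (hne k (hkcomm k hk u))
    · exact absurd e (hne _ (by rw [mul_assoc, hkcomm k hk u]))
    · rcases hk with rfl | rfl
      · exact Or.inl (Or.inl (by rw [e, mul_one]))
      · exact Or.inl (Or.inr e)
    · exact Or.inr ⟨k, hk, e⟩
  have hfixT : ∀ p ∈ A, (p * v * p⁻¹ = v ∨ p * v * p⁻¹ = v * z) → p ∈ T := by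
    intro p hp hpv
    obtain ⟨t, ht, hpt⟩ := adjust p (hufix p hp) hpv
    have htT : t ∈ T := by
      rcases ht with rfl | rfl | rfl | rfl
      exacts [one_mem _, huT, hv, mul_mem huT hv]
    exact (Subgroup.mul_mem_cancel_right T htT).mp (hC hpt)
  have hAT : ¬ A ≤ T := fun h => by
    have := Subgroup.eq_of_le_of_card_ge h (by omega)
    subst this
    exact hab (hAc a ha b hb)
  have hcardK := card_le_two_mul (H := A) (K := A ⊓ T) (fun p hp hpK q hq hqK => by
    obtain ⟨k, hk, ep⟩ := (hmov p hp).resolve_left (fun h => hpK ⟨hp, hfixT p hp h⟩)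
    obtain ⟨m, hm, eq'⟩ := (hmov q hq).resolve_left (fun h => hqK ⟨hq, hfixT q hq h⟩)
    have hpq : p⁻¹ * q ∈ A := mul_mem (inv_mem hp) hq
    refine ⟨hpq, hfixT _ hpq ?_⟩
    have hkm : k⁻¹ * m = 1 ∨ k⁻¹ * m = z := by
      rcases hk with rfl | rfl <;> rcases hm with rfl | rfl <;> simp [hzi, hzz]
    have e : q * v * q⁻¹ = p * v * p⁻¹ * (k⁻¹ * m) := by
      rw [ep, eq', mul_assoc _ k, mul_inv_cancel_left]
    have e2 : p⁻¹ * q * v * (p⁻¹ * q)⁻¹ = v * (k⁻¹ * m) := by
      calc p⁻¹ * q * v * (p⁻¹ * q)⁻¹ = p⁻¹ * (q * v * q⁻¹) * p := by group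
        _ = p⁻¹ * (p * v * p⁻¹ * (k⁻¹ * m)) * p := by rw [e]
        _ = v * p⁻¹ * ((k⁻¹ * m) * p) := by group
        _ = v * (k⁻¹ * m) := by rw [hkcomm _ hkm p]; group
    rcases hkm with h | h
    · exact Or.inl (by rw [e2, h, mul_one])
    · exact Or.inr (by rw [e2, h]))
  obtain ⟨w, hwK, hwZ⟩ : ∃ w ∈ A ⊓ T, w ∉ Z := by
    by_contra hcon
    push Not at hcon
    have := Subgroup.card_le_of_le (show A ⊓ T ≤ Z from hcon)
    omega
  -- all of `A` commutes with `u`
  have hAu : ∀ p ∈ A, p * u = u * p := by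
    intro p hp
    obtain ⟨k, hk, hw⟩ := hdec w hwK.2
    have hpk := hkcomm k hk
    have hpw := hAc p hp w hwK.1
    rcases hw with e | e | e | e
    · exact absurd (by
        rcases hk with h | h <;> rw [e, h]
        exacts [one_mem _, Subgroup.mem_zpowers z]) hwZ
    · rw [e, ← mul_assoc, mul_assoc u k p, hpk p, ← mul_assoc] at hpw
      exact mul_right_cancel hpw
    all_goals
      exfalso
      apply hAT
      intro q hq
      have hqk := hkcomm k hk
      have hqw := hAc q hq w hwK.1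
      have cancelk : ∀ g : S, q * (g * k) = g * k * q → q * g = g * q := fun g hg => by
        apply mul_right_cancel (b := k)
        rw [mul_assoc, hg, mul_assoc, hqk q, ← mul_assoc]
      have hqv := mul_inv_eq_iff_eq_mul.mpr (cancelk _ (e ▸ hqw))
    · exact hfixT q hq (Or.inl hqv)
    · apply hfixT q hq
      have e3 : q * v * q⁻¹ = (q * u * q⁻¹)⁻¹ * (q * (u * v) * q⁻¹) := by group
      rw [hqv] at e3
      rcases hufix q hq with e4 | e4 <;> rw [e4] at e3
      · exact Or.inl (by rw [e3, inv_mul_cancel_left])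
      · exact Or.inr (by rw [e3, mul_inv_rev, hzi, mul_assoc, inv_mul_cancel_left, hzc v])
  -- an involution of `A` outside `T`
  have hS2 : IsPGroup 2 A := hA
  obtain ⟨p, hp, q, hq, hp2, hq2, hp1, hq1, hpq⟩ :=
    exists_two_involutions hA (⊤ : Subgroup A) (fun x _ y _ => Subtype.ext (hAc x x.2 y y.2))
      (fun h => hAn (isCyclic_of_surjective Subgroup.topEquiv Subgroup.topEquiv.surjective))
  obtain ⟨t, htA, htT, ht2⟩ : ∃ t ∈ A, t ∉ T ∧ t * t = 1 := by
    by_cases hpT : (p : S) ∈ T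
    · refine ⟨q, q.2, fun hqT => hpq (Subtype.ext ?_), by
        rw [← pow_two]; exact congrArg Subtype.val hq2⟩
      have e1 := (hu p hpT (congrArg Subtype.val hp2)).resolve_left fun h => hp1 (Subtype.ext h)
      have e2 := (hu q hqT (congrArg Subtype.val hq2)).resolve_left fun h => hq1 (Subtype.ext h)
      rw [e1, e2]
    · exact ⟨p, p.2, hpT, by rw [← pow_two]; exact congrArg Subtype.val hp2⟩
  obtain ⟨k, hk, e⟩ := (hmov t htA).resolve_left fun h => htT (hfixT t htA h)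
  apply hz1
  have htu : t * u * t⁻¹ = u := mul_inv_eq_iff_eq_mul.mpr (hAu t htA)
  have hti : t⁻¹ = t := inv_eq_of_mul_eq_one_right ht2
  have hkk : k * k = 1 := by rcases hk with rfl | rfl; exacts [one_mul 1, hzz]
  have hktc : t * k * t⁻¹ = k := by rw [← hkcomm k hk t, mul_inv_cancel_right]
  have h1 : t * (t * v * t⁻¹) * t⁻¹ = v := by
    rw [hti, ← mul_assoc, ← mul_assoc, ht2, one_mul, mul_assoc, ht2, mul_one]
  rw [e, show t * (u * v * k) * t⁻¹ = (t * u * t⁻¹) * (t * v * t⁻¹) * (t * k * t⁻¹) by group,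
    htu, hktc, e, show u * (u * v * k) * k = u * u * v * (k * k) by simp [mul_assoc], huu, hkk,
    mul_one, mul_eq_right] at h1
  exact h1

theorem sylow_eq_pCore [Group.IsSolvable S] (hO : Cfsg.pPrimeCore 2 S = ⊥)
    (h8 : ∃ A : Subgroup S, IsMulCommutative ↥A ∧ ¬ IsCyclic ↥A ∧ Nat.card ↥A = 8)
    (hmin : ∀ R : Subgroup S, R ≠ ⊤ → (∃ k : ℕ, R.index = 2 ^ k) →
      ¬ ∃ A : Subgroup S, A ≤ R ∧ IsMulCommutative ↥A ∧ ¬ IsCyclic ↥A ∧ Nat.card ↥A = 8) :
    Subgroup.centralizer ((Cfsg.pCore 2 S : Subgroup S) : Set S) ≤ Cfsg.pCore 2 S ∧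
    ∃ L : Subgroup S, Odd (Nat.card L) ∧ Cfsg.pCore 2 S ⊔ L = ⊤ ∧
      Cfsg.pCore 2 S ⊓ L = ⊥ ∧ (∀ R : Subgroup S, L ≤ R → ∃ k : ℕ, R.index = 2 ^ k) := by
  classical
  haveI : Fact (Nat.Prime 2) := ⟨Nat.prime_two⟩
  set T := Cfsg.pCore 2 S with hT
  have hTp : IsPGroup 2 T := CfsgLib.Solvable.Cores.isPGroup_pCore 2
  haveI hTn : T.Normal := CfsgLib.Solvable.Cores.pCore_normal 2
  have hC : Subgroup.centralizer (T : Set S) ≤ T := by
    rw [hT, ← CfsgLib.Solvable.Cores.fittingSubgroup_eq_pCore 2 hO]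
    exact CfsgLib.Solvable.Cores.centralizer_fittingSubgroup_le
  refine ⟨hC, ?_⟩
  set n := (Nat.card S).factorization 2 with hn
  set m := Nat.card S / 2 ^ n with hm
  have hS0 : Nat.card S ≠ 0 := Nat.card_pos.ne'
  have hSm : Nat.card S = m * 2 ^ n := (Nat.div_mul_cancel (Nat.ordProj_dvd _ 2)).symm
  have hmodd : Odd m := by
    rw [← Nat.not_even_iff_odd, even_iff_two_dvd]
    exact Nat.not_dvd_ordCompl Nat.prime_two hS0
  have hcop : m.Coprime (2 ^ n) := (Nat.coprime_two_right.mpr hmodd).pow_right n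
  obtain ⟨L, hL⟩ := CfsgLib.Solvable.Hall.exists_card_eq hSm hcop
  have hidx : ∀ R : Subgroup S, L ≤ R → ∃ k : ℕ, R.index = 2 ^ k := by
    intro R hR
    have h1 : L.index = 2 ^ n := by
      have := L.card_mul_index
      rw [hL, hSm] at this
      exact Nat.eq_of_mul_eq_mul_left hmodd.pos this
    obtain ⟨k, -, hk⟩ := (Nat.dvd_prime_pow Nat.prime_two).mp (h1 ▸ Subgroup.index_dvd_of_le hR)
    exact ⟨k, hk⟩
  have hTL : T ⊓ L = ⊥ := by
    obtain ⟨i, hi⟩ := IsPGroup.iff_card.mp hTp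
    refine Subgroup.inf_eq_bot_of_coprime ?_
    rw [hi, hL]
    exact ((Nat.coprime_two_left).mpr hmodd).pow_left i
  refine ⟨L, hL ▸ hmodd, ?_, hTL, hidx⟩
  by_cases hT8 : EightIn T
  · by_contra hne
    obtain ⟨A, hA, hrest⟩ := hT8
    exact hmin _ hne (hidx _ le_sup_right) ⟨A, hA.trans le_sup_left, hrest⟩
  exfalso
  obtain ⟨A, hAc, hAn, hA8⟩ := h8
  have hAcomm : ∀ p ∈ A, ∀ r ∈ A, p * r = r * p := fun p hp r hr =>
    congrArg Subtype.val (hAc.is_comm.comm ⟨p, hp⟩ ⟨r, hr⟩)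
  let φ : L →* MulAut T := MulAut.conjNormal.comp L.subtype
  by_cases htriv : ∀ l : L, ∀ x : T, φ l x = x
  · have hLT : L ≤ T := fun l hl => hC (by
      rw [Subgroup.mem_centralizer_iff]
      intro x hx
      have : l * x * l⁻¹ = x := congrArg Subtype.val (htriv ⟨l, hl⟩ ⟨x, hx⟩)
      exact (mul_inv_eq_iff_eq_mul.mp this).symm)
    have hm1 : m = 1 := by
      rw [inf_eq_right.mpr hLT] at hTL
      rw [← hL, hTL, Subgroup.card_bot]
    have hS2 : IsPGroup 2 S := IsPGroup.of_card (n := n) (by rw [hSm, hm1, one_mul])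
    haveI : (⊤ : Subgroup S).Normal := inferInstance
    have hle : (⊤ : Subgroup S) ≤ T := CfsgLib.Solvable.Cores.le_pCore (hS2.to_subgroup ⊤)
    exact hT8 ⟨A, le_trans le_top hle, hAc, hAn, hA8⟩
  · push Not at htriv
    obtain ⟨l, x, hlx⟩ := htriv
    have hs := shape_of_no_eight hTp (hL ▸ hmodd) φ ⊤ (fun l x _ => Subgroup.mem_top _)
      ⟨l, x, Subgroup.mem_top _, hlx⟩
      (fun h => hT8 ((eightIn_map T.subtype T.subtype_injective h).mono (Subgroup.map_subtype_le _)))
    have hs' : Shape T := by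
      have := shape_map T.subtype T.subtype_injective hs
      rwa [← MonoidHom.range_eq_map, Subgroup.range_subtype] at this
    rcases hs' with ⟨h4, h2⟩ | ⟨hc, ⟨z, hz, hz1, hz2, hu⟩, a, ha, b, hb, hab⟩
    · exact four_false hTn hC h4 h2 hAcomm hA8
    · exact quaternion_false hTn hC hc hz hz1 hz2 hu ha hb hab hAcomm hA8 hAn

theorem thirtytwo_le (hP : IsPGroup 2 S) (hder : commutator S = Subgroup.center S)
    (hz : Nat.card (Subgroup.center S) = 2) {A : Subgroup S}
    (hAc : ∀ a ∈ A, ∀ b ∈ A, a * b = b * a) (hA8 : Nat.card A = 8)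
    (hna : ¬ ∀ x y : S, x * y = y * x) : 32 ≤ Nat.card S := by
  classical
  haveI : Fact (Nat.Prime 2) := ⟨Nat.prime_two⟩
  obtain ⟨k, hk⟩ := IsPGroup.iff_card.mp hP
  have h3 : 3 ≤ k := by
    have := Subgroup.card_le_card_group A
    rw [hA8, hk] at this
    exact (Nat.pow_le_pow_iff_right one_lt_two).mp (show 2 ^ 3 ≤ 2 ^ k from this)
  by_contra hlt
  rw [hk] at hlt
  have h5 : k < 5 := (Nat.pow_lt_pow_iff_right one_lt_two).mp (show 2 ^ k < 2 ^ 5 by omega)
  have hidx : A.index ≤ 2 ∧ A.index ≠ 1 := by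
    refine ⟨?_, fun h => hna fun x y => hAc x ?_ y ?_⟩
    · have := A.card_mul_index
      rw [hA8, hk] at this
      have : 2 ^ k ≤ 2 ^ 4 := Nat.pow_le_pow_right two_pos (by omega)
      omega
    all_goals rw [Subgroup.index_eq_one.mp h]; exact Subgroup.mem_top _
  have hidx2 : A.index = 2 := by
    have : A.index ≠ 0 := Subgroup.index_ne_zero_of_finite
    omega
  obtain ⟨x, hx⟩ : ∃ x, x ∉ A := by
    by_contra hcon
    push Not at hcon
    exact hidx.2 (Subgroup.index_eq_one.mpr (top_le_iff.mp fun g _ => hcon g))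
  set K := A ⊓ Subgroup.centralizer ({x} : Set S) with hK
  have hKC : K ≤ Subgroup.center S := by
    intro g hg
    rw [Subgroup.mem_center_iff]
    intro y
    have hgx : g * x = x * g := Subgroup.mem_centralizer_singleton_iff.mp hg.2
    by_cases hy : y ∈ A
    · exact (hAc g hg.1 y hy).symm
    · have hxy : x⁻¹ * y ∈ A := by
        rw [Subgroup.mul_mem_iff_of_index_two hidx2, inv_mem_iff]
        exact iff_of_false hx hy
      have h1 := hAc g hg.1 _ hxy
      calc y * g = x * ((x⁻¹ * y) * g) := by group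
        _ = x * g * (x⁻¹ * y) := by rw [← h1, mul_assoc]
        _ = g * y := by rw [← hgx]; group
  have hmemK : ∀ a ∈ A, (⁅x, a⁆ = 1 ↔ a ∈ K) := fun a ha => by
    rw [hK, Subgroup.mem_inf, Subgroup.mem_centralizer_singleton_iff,
      commutatorElement_eq_one_iff_mul_comm]
    exact ⟨fun h => ⟨ha, h.symm⟩, fun h => h.2.symm⟩
  have hcc : ∀ a, ⁅x, a⁆ ∈ Subgroup.center S := fun a =>
    hder ▸ Subgroup.commutator_mem_commutator (Subgroup.mem_top x) (Subgroup.mem_top a)
  have hcard := card_le_two_mul (H := A) (K := K) (fun a ha haK b hb hbK => by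
    have ea : ⁅x, a⁆ = ⁅x, b⁆ := by
      by_contra hne
      letI := Fintype.ofFinite (Subgroup.center S)
      have h3' := Fintype.two_lt_card_iff.mpr (⟨1, ⟨_, hcc a⟩, ⟨_, hcc b⟩,
        fun e => haK ((hmemK a ha).mp (congrArg Subtype.val e).symm),
        fun e => hbK ((hmemK b hb).mp (congrArg Subtype.val e).symm),
        fun e => hne (congrArg Subtype.val e)⟩ :
        ∃ p r s : Subgroup.center S, p ≠ r ∧ p ≠ s ∧ r ≠ s)
      rw [← Nat.card_eq_fintype_card] at h3'
      omega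
    refine (hmemK _ (mul_mem (inv_mem ha) hb)).mp (commutatorElement_eq_one_iff_mul_comm.mpr ?_)
    have h1 := Subgroup.mem_center_iff.mp (hcc a)
    have hxa : x * a = ⁅x, a⁆ * (a * x) := by simp [commutatorElement_def, mul_assoc]
    have hxb : x * b = ⁅x, b⁆ * (b * x) := by simp [commutatorElement_def, mul_assoc]
    apply mul_left_cancel (a := ⁅x, a⁆ * a)
    calc ⁅x, a⁆ * a * (x * (a⁻¹ * b)) = (⁅x, a⁆ * (a * x)) * (a⁻¹ * b) := by group
      _ = x * b := by rw [← hxa]; group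
      _ = ⁅x, a⁆ * (b * x) := by rw [hxb, ea]
      _ = ⁅x, a⁆ * a * (a⁻¹ * b * x) := by group)
  have := Subgroup.card_le_of_le hKC
  omega

theorem main_aux [Group.IsSolvable S] (hO : Cfsg.pPrimeCore 2 S = ⊥)
    (h8 : ∃ A : Subgroup S, IsMulCommutative ↥A ∧ ¬ IsCyclic ↥A ∧ Nat.card ↥A = 8)
    (hmin : ∀ R : Subgroup S, R ≠ ⊤ → (∃ k : ℕ, R.index = 2 ^ k) →
      ¬ ∃ A : Subgroup S, A ≤ R ∧ IsMulCommutative ↥A ∧ ¬ IsCyclic ↥A ∧ Nat.card ↥A = 8)
    (T : Subgroup S) (hTe : T = Cfsg.pCore 2 S) :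
    IsMulCommutative ↥T ∨
      (Cfsg.IsExtraspecial 2 ↥T ∧ 32 ≤ Nat.card ↥T) ∨
      (∃ (X₀ : Subgroup S) (k : ℕ), X₀ ≤ T ∧ X₀.relIndex T = 2 ∧
        Nonempty (↥X₀ ≃* QuaternionGroup (2 ^ (k + 1))) ∧
          X₀ ⊔ (T ⊓ Subgroup.centralizer (X₀ : Set S)) = T) ∨
      (Cfsg.IsSpecial 2 ↥T ∧ Nat.card ↥(Subgroup.center ↥T) = 4) := by
  classical
  haveI : Fact (Nat.Prime 2) := ⟨Nat.prime_two⟩
  obtain ⟨hC, L, hLodd, hTL, hTLb, hidx⟩ := sylow_eq_pCore hO h8 hmin
  obtain ⟨A, hAc, hAn, hA8⟩ := h8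
  rw [← hTe] at hC hTL hTLb
  have hTp : IsPGroup 2 T := hTe ▸ CfsgLib.Solvable.Cores.isPGroup_pCore 2
  haveI hTn : T.Normal := hTe ▸ CfsgLib.Solvable.Cores.pCore_normal 2
  -- every 2-subgroup lies in `T`
  have hAT : A ≤ T := by
    intro a ha
    have h1 : orderOf (QuotientGroup.mk' T a) ∣ 8 :=
      (orderOf_map_dvd _ a).trans (hA8 ▸ A.orderOf_dvd_natCard ha)
    have h2 : orderOf (QuotientGroup.mk' T a) ∣ Nat.card L := by
      have hmap : L.map (QuotientGroup.mk' T) = ⊤ := by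
        rw [← Subgroup.map_top_of_surjective _ (QuotientGroup.mk'_surjective T), ← hTL,
          Subgroup.map_sup, QuotientGroup.map_mk'_self, bot_sup_eq]
      have hd : Nat.card (L.map (QuotientGroup.mk' T)) ∣ Nat.card L := Subgroup.card_map_dvd _ _
      rw [hmap, Subgroup.card_top] at hd
      exact (orderOf_dvd_natCard _).trans hd
    have h8' : Nat.Coprime 8 (Nat.card L) := by
      rw [show (8 : ℕ) = 2 ^ 3 from rfl]
      exact (Nat.coprime_two_left.mpr hLodd).pow_left 3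
    have := Nat.eq_one_of_dvd_coprimes h8' h1 h2
    exact (QuotientGroup.eq_one_iff a).mp (orderOf_eq_one_iff.mp this)
  have hAcomm : ∀ p ∈ A, ∀ r ∈ A, p * r = r * p := fun p hp r hr =>
    congrArg Subtype.val (hAc.is_comm.comm ⟨p, hp⟩ ⟨r, hr⟩)
  let φ : L →* MulAut T := MulAut.conjNormal.comp L.subtype
  by_cases htriv : ∀ l : L, ∀ x : T, φ l x = x
  · left
    have hLT : L ≤ T := fun l hl => hC (by
      rw [Subgroup.mem_centralizer_iff]
      intro x hx
      have : l * x * l⁻¹ = x := congrArg Subtype.val (htriv ⟨l, hl⟩ ⟨x, hx⟩)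
      exact (mul_inv_eq_iff_eq_mul.mp this).symm)
    have hT : T = ⊤ := by rwa [sup_eq_left.mpr hLT] at hTL
    have hA : A = ⊤ := by
      by_contra hne
      refine hmin A hne ?_ ⟨A, le_rfl, hAc, hAn, hA8⟩
      obtain ⟨k, hk⟩ := IsPGroup.iff_card.mp hTp
      rw [hT, Subgroup.card_top] at hk
      obtain ⟨i, -, hi⟩ := (Nat.dvd_prime_pow Nat.prime_two).mp (hk ▸ A.index_dvd_card)
      exact ⟨i, hi⟩
    exact ⟨⟨fun p r => Subtype.ext (hAcomm p (hA ▸ Subgroup.mem_top _) r (hA ▸ Subgroup.mem_top _))⟩⟩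
  push Not at htriv
  obtain ⟨l₀, x₀, hlx₀⟩ := htriv
  have height : ∀ M : Subgroup T, (∀ l, ∀ x ∈ M, φ l x ∈ M) → M ≠ ⊤ → ¬ EightIn M := by
    intro M hMi hMt hM8
    set M' := M.map T.subtype with hM'
    have hne : M' ⊔ L ≠ ⊤ := by
      intro htop
      have hn : L ≤ Subgroup.normalizer (M' : Set S) := by
        intro l hl
        rw [Subgroup.mem_normalizer_iff]
        intro g
        have key : ∀ (l : L) (g : S), g ∈ M' → (l : S) * g * (l : S)⁻¹ ∈ M' := by
          rintro l _ ⟨g, hg, rfl⟩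
          exact ⟨φ l g, hMi l g hg, rfl⟩
        refine ⟨key ⟨l, hl⟩ g, fun h => ?_⟩
        have := key (⟨l, hl⟩⁻¹) _ h
        simpa [mul_assoc] using this
      haveI hM'n : M'.Normal := Subgroup.normalizer_eq_top_iff.mp
        (top_le_iff.mp (htop ▸ sup_le Subgroup.le_normalizer hn))
      apply hMt
      rw [eq_top_iff]
      intro x _
      obtain ⟨g, hg, l, hl, he⟩ := (Subgroup.mem_sup_of_normal_left (hs := hM'n)).mp
        (show (x : S) ∈ M' ⊔ L by rw [htop]; exact Subgroup.mem_top _)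
      have hlT : l ∈ T := by
        rw [show l = g⁻¹ * x by rw [← he, inv_mul_cancel_left]]
        exact mul_mem (inv_mem (Subgroup.map_subtype_le M hg)) x.2
      have : l = 1 := Subgroup.mem_bot.mp (hTLb ▸ (⟨hlT, hl⟩ : l ∈ T ⊓ L))
      rw [this, mul_one] at he
      obtain ⟨g', hg', rfl⟩ := hg
      exact (show g' = x from Subtype.ext he) ▸ hg'
    obtain ⟨B, hB⟩ := eightIn_map T.subtype T.subtype_injective hM8
    exact hmin _ hne (hidx _ le_sup_right) ⟨B, hB.1.trans le_sup_left, hB.2⟩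
  have hout := analyse hTp hLodd φ ⟨l₀, x₀, hlx₀⟩
    (fun M hMi hMt hMnt => shape_of_no_eight hTp hLodd φ M hMi hMnt (height M hMi hMt)) height
  rcases hout with hc | ⟨W, hidxW, hQ, hW8, c, hcW, hcw⟩ | ⟨hna, hs, hz, hz2, -⟩
  · exact Or.inl ⟨⟨hc⟩⟩
  · refine Or.inr (Or.inr (Or.inl ⟨W.map T.subtype, 0, Subgroup.map_subtype_le W, ?_, ?_, ?_⟩))
    · rw [Subgroup.relIndex, Subgroup.subgroupOf,
        Subgroup.comap_map_eq_self_of_injective T.subtype_injective, hidxW]
    · rcases hQ with ⟨h4, -⟩ | ⟨-, ⟨z, hz, hz1, hz2, hu⟩, a, ha, b, hb, hab⟩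
      · omega
      obtain ⟨hsq, hcz, hcl, ha2, hcent⟩ := quaternion_facts hW8 hz hz1 hz2 hu ha hb hab
      have hb2 : b ^ 2 = z := by
        rcases hsq b hb with h | h | h
        · exact h
        · exact absurd (by rw [h, one_mul, mul_one]) hab
        · exact absurd (by rw [h]; exact hcz a ha) hab
      have hord : orderOf (⟨a, ha⟩ : W) = 2 * 2 := by
        rw [Subgroup.orderOf_mk]
        exact orderOf_eq_prime_pow (p := 2) (n := 1)
          (by rw [pow_one, ha2]; exact hz1)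
          (by show a ^ (2 ^ 2) = 1; rw [show (2 : ℕ) ^ 2 = 2 * 2 from rfl, pow_mul, ha2, hz2])
      have hbn : (⟨b, hb⟩ : W) ∉ Subgroup.zpowers (⟨a, ha⟩ : W) := by
        rintro ⟨i, hi⟩
        exact hab (by
          have : a ^ i = b := congrArg Subtype.val hi
          rw [← this, ← zpow_one_add, ← zpow_add_one, add_comm])
      have hba : b * a * b⁻¹ = a⁻¹ := by
        have hn : b * a * b⁻¹ ∈ W := mul_mem (mul_mem hb ha) (inv_mem hb)
        have e : (b * a * b⁻¹ * a) ^ 2 = 1 ∨ (b * a * b⁻¹ * a) ^ 2 = z := by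
          rcases hsq _ (mul_mem hn ha) with h | h | h
          · exact Or.inr h
          · exact Or.inl (by rw [h, one_pow])
          · exact Or.inl (by rw [h, hz2])
        have h4a : a * a = z := by rw [← pow_two]; exact ha2
        have h4b : b * b = z := by rw [← pow_two]; exact hb2
        rcases hsq (b * a) (mul_mem hb ha) with h | h | h
        · rw [pow_two] at h
          have e1 : b * a * b * a = b * b := by rw [h4b, ← h]; simp [mul_assoc]
          have e2 : a * b * a = b := mul_left_cancel (a := b) (by rw [← e1]; simp [mul_assoc])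
          calc b * a * b⁻¹ = a⁻¹ * (a * b * a) * b⁻¹ := by group
            _ = a⁻¹ := by rw [e2, mul_inv_cancel_right]
        · exact absurd (by
            rw [eq_inv_of_mul_eq_one_left h, inv_mul_cancel, mul_inv_cancel]) hab
        · exfalso
          apply hab
          have e1 : b = z * a⁻¹ := by rw [← h, mul_inv_cancel_right]
          rw [e1, ← mul_assoc, hcz a ha, mul_assoc, mul_inv_cancel, mul_assoc, inv_mul_cancel]
      obtain ⟨e⟩ := CfsgLib.TwoGroups.CyclicMax.quaternion_iso (G := W) (a := ⟨a, ha⟩)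
        (b := ⟨b, hb⟩) (m := 2) two_ne_zero hord (by rw [hW8]) hbn
        (Subtype.ext (by show b * b = a ^ 2; rw [← pow_two, hb2, ha2]))
        (Subtype.ext hba)
      exact ⟨(Subgroup.equivMapOfInjective W T.subtype T.subtype_injective).symm.trans e⟩
    · refine le_antisymm (sup_le (Subgroup.map_subtype_le W) inf_le_left) fun x hx => ?_
      by_cases hxW : (⟨x, hx⟩ : T) ∈ W
      · exact Subgroup.mem_sup_left ⟨_, hxW, rfl⟩
      · have h1 : c⁻¹ * ⟨x, hx⟩ ∈ W := by
          rw [Subgroup.mul_mem_iff_of_index_two hidxW, inv_mem_iff]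
          exact iff_of_false hcW hxW
        have hcC : (c : S) ∈ T ⊓ Subgroup.centralizer ((W.map T.subtype : Subgroup S) : Set S) := by
          refine ⟨c.2, Subgroup.mem_centralizer_iff.mpr ?_⟩
          rintro _ ⟨w, hw, rfl⟩
          exact (congrArg Subtype.val (hcw w hw)).symm
        have h2 : ((c⁻¹ * ⟨x, hx⟩ : T) : S) ∈ W.map T.subtype := ⟨_, h1, rfl⟩
        have := Subgroup.mul_mem _ (Subgroup.mem_sup_right (S := W.map T.subtype) hcC)
          (Subgroup.mem_sup_left (T := T ⊓ Subgroup.centralizer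
            ((W.map T.subtype : Subgroup S) : Set S)) h2)
        simpa using this
  · rcases hz with hz | hz
    · refine Or.inr (Or.inl ⟨⟨hs, hz⟩, ?_⟩)
      exact thirtytwo_le hTp hs.2.2 hz (A := A.subgroupOf T)
        (fun p hp r hr => Subtype.ext (hAcomm _ hp _ hr))
        (by rw [Nat.card_congr (Subgroup.subgroupOfEquivOfLe hAT).toEquiv, hA8]) hna
    · exact Or.inr (Or.inr (Or.inr ⟨hs, hz⟩))


/-- Let S be a finite solvable group with O_{2'}(S) = 1 that contains a non-cyclic abelian subgroup of order 8, while no proper subgroup of S of 2-power index contains one. Then a Sylow 2-subgroup X of S is normal in S, and one of the following holds: X is abelian; X is extraspecial of order at least 32; X has a generalized quaternion subgroup X₀ of index 2 with X = X₀·C_X(X₀); or X is special with centre of order 4. -/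
theorem result {S : Type*} [Group S] [Finite S]
    [Group.IsSolvable S] (hO : Cfsg.pPrimeCore 2 S = ⊥)
    (h8 : ∃ A : Subgroup S, IsMulCommutative ↥A ∧ ¬ IsCyclic ↥A ∧ Nat.card ↥A = 8)
    (hmin : ∀ R : Subgroup S, R ≠ ⊤ → (∃ k : ℕ, R.index = 2 ^ k) →
      ¬ ∃ A : Subgroup S, A ≤ R ∧ IsMulCommutative ↥A ∧ ¬ IsCyclic ↥A ∧ Nat.card ↥A = 8)
    (X : Sylow 2 S) :
    (X : Subgroup S).Normal ∧
      (IsMulCommutative ↥X ∨
        (Cfsg.IsExtraspecial 2 ↥X ∧ 32 ≤ Nat.card ↥X) ∨
        (∃ (X₀ : Subgroup S) (k : ℕ), X₀ ≤ (X : Subgroup S) ∧ X₀.relIndex (X : Subgroup S) = 2 ∧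
          Nonempty (↥X₀ ≃* QuaternionGroup (2 ^ (k + 1))) ∧ X₀ ⊔ ((X : Subgroup S) ⊓ Subgroup.centralizer (X₀ : Set S)) = (X : Subgroup S)) ∨
        (Cfsg.IsSpecial 2 ↥X ∧ Nat.card ↥(Subgroup.center ↥X) = 4)) := by
  haveI : Fact (Nat.Prime 2) := ⟨Nat.prime_two⟩
  have hXT : (X : Subgroup S) = Cfsg.pCore 2 S := by
    obtain ⟨-, L, hLodd, hTL, -, -⟩ := sylow_eq_pCore hO h8 hmin
    haveI := CfsgLib.Solvable.Cores.pCore_normal (G := S) 2
    refine le_antisymm (fun x hx => ?_) (CfsgLib.Solvable.Cores.pCore_le_sylow X)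
    obtain ⟨k, hk⟩ := X.isPGroup' ⟨x, hx⟩
    have h1 : orderOf (QuotientGroup.mk' (Cfsg.pCore 2 S) x) ∣ 2 ^ k :=
      orderOf_dvd_iff_pow_eq_one.mpr (by
        rw [← map_pow, show x ^ 2 ^ k = 1 from congrArg Subtype.val hk, map_one])
    have h2 : orderOf (QuotientGroup.mk' (Cfsg.pCore 2 S) x) ∣ Nat.card L := by
      have hmap : L.map (QuotientGroup.mk' (Cfsg.pCore 2 S)) = ⊤ := by
        rw [← Subgroup.map_top_of_surjective _ (QuotientGroup.mk'_surjective _), ← hTL,
          Subgroup.map_sup, QuotientGroup.map_mk'_self, bot_sup_eq]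
      have hd : Nat.card (L.map (QuotientGroup.mk' (Cfsg.pCore 2 S))) ∣ Nat.card L :=
        Subgroup.card_map_dvd _ _
      rw [hmap, Subgroup.card_top] at hd
      exact (orderOf_dvd_natCard _).trans hd
    have := Nat.eq_one_of_dvd_coprimes ((Nat.coprime_two_left.mpr hLodd).pow_left k) h1 h2
    exact (QuotientGroup.eq_one_iff x).mp (orderOf_eq_one_iff.mp this)
  refine ⟨hXT ▸ CfsgLib.Solvable.Cores.pCore_normal 2, ?_⟩
  exact main_aux hO h8 hmin (X : Subgroup S) hXT

end Cfsg.Agent.S4409
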