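import Cfsg.Statements.S4410
import Cfsg.Agent.S4408
import Cfsg.Agent.Lib.Solvable.Cores

set_option autoImplicit false
open Cfsg

namespace Cfsg.Agent.S4410

open Subgroup

variable {V : Type*} [AddCommGroup V] [Module (ZMod 2) V]

theorem add_self' (v : V) : v + v = 0 := by
  rw [← two_smul (ZMod 2) v, show (2 : ZMod 2) = 0 from rfl, zero_smul]

/-- The linear automorphisms moving every vector within `W`. -/
def moves (W : Submodule (ZMod 2) V) : Subgroup (V ≃ₗ[ZMod 2] V) where
  carrier := {g | ∀ v, g v - v ∈ W}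
  one_mem' := fun v => by simp
  mul_mem' := fun {g h} hg hh v => by
    have h1 : (g * h) v - v = (g (h v) - h v) + (h v - v) := by
      show g (h v) - v = _
      abel
    rw [h1]; exact W.add_mem (hg _) (hh _)
  inv_mem' := fun {g} hg v => by
    have h1 := hg (g.symm v)
    rw [g.apply_symm_apply] at h1
    show g.symm v - v ∈ W
    rw [← neg_sub]; exact W.neg_mem h1

theorem card_aut [Finite V] (W : Submodule (ZMod 2) V) :
    ∃ k : ℕ, Nat.card W = 2 ^ k ∧ Nat.card (W ≃ₗ[ZMod 2] W) = ∏ i : Fin k, (2 ^ k - 2 ^ (i : ℕ)) := by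
  set k := Module.finrank (ZMod 2) W
  have b : Module.Basis (Fin k) (ZMod 2) W := Module.finBasis (ZMod 2) W
  let e := b.equivFun
  refine ⟨k, by rw [Nat.card_congr e.toEquiv, Nat.card_fun, Nat.card_zmod, Nat.card_fin], ?_⟩
  let c : (W ≃ₗ[ZMod 2] W) ≃ ((Fin k → ZMod 2) ≃ₗ[ZMod 2] (Fin k → ZMod 2)) :=
    { toFun := fun f => e.symm.trans (f.trans e)
      invFun := fun f => e.trans (f.trans e.symm)
      left_inv := fun f => LinearEquiv.ext fun x => by simp
      right_inv := fun f => LinearEquiv.ext fun x => by simp }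
  rw [Nat.card_congr c, ← Nat.card_congr (LinearMap.GeneralLinearGroup.generalLinearEquiv (ZMod 2) (Fin k → ZMod 2)).toEquiv,
    ← Nat.card_congr (Matrix.GeneralLinearGroup.toLin (n := Fin k) (R := ZMod 2)).toEquiv, Matrix.card_GL_field]
  simp

/-- A group of odd order moving vectors only within a small subspace is small. -/
theorem card_dvd [Finite V] {W : Submodule (ZMod 2) V} (E : Subgroup (V ≃ₗ[ZMod 2] V))
    (hE : E ≤ moves W) (hodd : Odd (Nat.card E)) :
    Nat.card E ∣ Nat.card (W ≃ₗ[ZMod 2] W) := by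
  have hinv : ∀ g ∈ E, ∀ w : W, g (w : V) ∈ W := fun g hg w => by
    have := W.add_mem (hE hg (w : V)) w.2
    rwa [sub_add_cancel] at this
  let f : E →* (W ≃ₗ[ZMod 2] W) :=
    { toFun := fun g =>
        { toFun := fun w => ⟨(g : V ≃ₗ[ZMod 2] V) w, hinv g g.2 w⟩
          map_add' := fun x y => Subtype.ext (map_add (g : V ≃ₗ[ZMod 2] V) (x : V) y)
          map_smul' := fun c x => Subtype.ext (map_smul (g : V ≃ₗ[ZMod 2] V) c (x : V))
          invFun := fun w => ⟨((g⁻¹ : E) : V ≃ₗ[ZMod 2] V) w, hinv _ (g⁻¹).2 w⟩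
          left_inv := fun w => Subtype.ext ((g : V ≃ₗ[ZMod 2] V).symm_apply_apply (w : V))
          right_inv := fun w => Subtype.ext ((g : V ≃ₗ[ZMod 2] V).apply_symm_apply (w : V)) }
      map_one' := LinearEquiv.ext fun w => rfl
      map_mul' := fun g h => LinearEquiv.ext fun w => rfl }
  refine Subgroup.card_dvd_of_injective f ((injective_iff_map_eq_one f).2 fun g hg => ?_)
  have hfix : ∀ w : W, (g : V ≃ₗ[ZMod 2] V) w = w := fun w =>
    congrArg Subtype.val (LinearEquiv.congr_fun hg w)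
  have h2 : g * g = 1 := Subtype.ext (LinearEquiv.ext fun v => by
    show (g : V ≃ₗ[ZMod 2] V) ((g : V ≃ₗ[ZMod 2] V) v) = v
    have h1 := hfix ⟨_, hE g.2 v⟩
    change (g : V ≃ₗ[ZMod 2] V) ((g : V ≃ₗ[ZMod 2] V) v - v) = (g : V ≃ₗ[ZMod 2] V) v - v at h1
    rw [map_sub, sub_eq_iff_eq_add] at h1
    rw [h1, sub_add_eq_add_sub, add_self', zero_sub, ← add_zero (-v), ← add_self' v, neg_add_cancel_left])
  exact orderOf_eq_one_iff.1 (Nat.eq_one_of_dvd_coprimes (Nat.coprime_two_left.2 hodd)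
    (orderOf_dvd_of_pow_eq_one (by rw [pow_two, h2])) (orderOf_dvd_natCard g))

theorem card_sup_le [Finite V] (A B : Submodule (ZMod 2) V) :
    Nat.card ↥(A ⊔ B) ≤ Nat.card A * Nat.card B := by
  rw [← Nat.card_prod]
  refine Nat.card_le_card_of_surjective (fun p : A × B =>
    (⟨(p.1 : V) + p.2, Submodule.add_mem_sup p.1.2 p.2.2⟩ : ↥(A ⊔ B))) ?_
  rintro ⟨x, hx⟩
  obtain ⟨a, ha, b, hb, rfl⟩ := Submodule.mem_sup.1 hx
  exact ⟨(⟨a, ha⟩, ⟨b, hb⟩), rfl⟩

theorem card_map_le [Finite V] (A : Submodule (ZMod 2) V) (f : V →ₗ[ZMod 2] V) :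
    Nat.card ↥(A.map f) ≤ Nat.card A :=
  Nat.card_le_card_of_surjective (fun a : A => (⟨f a, Submodule.mem_map_of_mem a.2⟩ : ↥(A.map f)))
    fun ⟨_, a, ha, e⟩ => ⟨⟨a, ha⟩, Subtype.ext e⟩


/-- Let V be a finite-dimensional vector space over the field with two elements and S a solvable group of linear automorphisms of V with O₂(S) = 1. If P ∈ S has order 4 and (P − 1)³ = 0 on V, then the image of (P − 1)² has at least 4 elements; equivalently, in the decomposition of V into indecomposable modules for the cyclic group generated by P, at least two summands have dimension 3. -/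
theorem result
    {V : Type*} [AddCommGroup V] [Module (ZMod 2) V] [Finite V]
    (S : Subgroup (V ≃ₗ[ZMod 2] V)) (hS : Group.IsSolvable ↥S) (hO2 : Cfsg.pCore 2 ↥S = ⊥)
    (P : V ≃ₗ[ZMod 2] V) (hPS : P ∈ S) (hP4 : orderOf P = 4)
    (hcub : ((P : V →ₗ[ZMod 2] V) - LinearMap.id) ^ 3 = 0) :
    4 ≤ Nat.card ↥(LinearMap.range (((P : V →ₗ[ZMod 2] V) - LinearMap.id) ^ 2)) := by
  classical
  have : Finite (V ≃ₗ[ZMod 2] V) := Finite.of_injective (fun e => (e : V → V)) DFunLike.coe_injective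
  by_contra hlt
  set N : V →ₗ[ZMod 2] V := (P : V →ₗ[ZMod 2] V) - LinearMap.id with hN
  set R := LinearMap.range (N ^ 2) with hR
  have hR2 : Nat.card R ≤ 2 := by
    obtain ⟨k, hk, -⟩ := card_aut R
    rw [hk] at hlt ⊢
    rcases k with _ | _ | k
    · norm_num
    · norm_num
    · exfalso
      exact hlt (by calc 4 = 2 ^ 2 := rfl
                      _ ≤ 2 ^ (k + 1 + 1) := Nat.pow_le_pow_right two_pos (by omega))
  have hNv : ∀ v, N v = P v - v := fun v => rfl
  have hN2 : ∀ v, (N ^ 2) v = P (P v) - v := by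
    intro v
    rw [pow_two, Module.End.mul_apply, hNv, hNv, map_sub]
    calc P (P v) - P v - (P v - v) = P (P v) - v + ((v + v) - (P v + P v)) := by abel
      _ = P (P v) - v := by rw [add_self', add_self', sub_zero, add_zero]
  have ht : ∀ v, (P * P) v - v ∈ R := fun v => ⟨v, hN2 v⟩
  have hPR : ∀ x ∈ R, P x ∈ R := by
    rintro _ ⟨v, rfl⟩
    exact ⟨P v, by rw [hN2, hN2, map_sub]⟩
  -- the Fitting subgroup
  set F := Cfsg.fittingSubgroup ↥S with hF
  have hFn : F.Normal := CfsgLib.Solvable.Cores.fittingSubgroup_normal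
  have hFnil : Group.IsNilpotent F := CfsgLib.Solvable.Cores.fittingSubgroup_isNilpotent
  have hsyl : ∀ q : ℕ, ∀ [Fact q.Prime], ∀ Q : Sylow q F, ((Q : Subgroup F).map F.subtype).Normal := by
    intro q _ Q
    have hQn : (Q : Subgroup F).Normal := by
      have := ((Group.isNilpotent_of_finite_tfae (G := F)).out 0 3).mp hFnil
      exact @this q ‹_› Q
    have := Q.characteristic_of_normal hQn
    infer_instance
  have hFodd : Odd (Nat.card F) := by
    rw [Nat.odd_iff, ← Nat.two_dvd_ne_zero]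
    intro h2
    have : Fact (Nat.Prime 2) := ⟨Nat.prime_two⟩
    let Q : Sylow 2 F := default
    have hn := hsyl 2 Q
    have hle : (Q : Subgroup F).map F.subtype ≤ Cfsg.pCore 2 ↥S :=
      CfsgLib.Solvable.Cores.le_pCore (Q.isPGroup'.map _)
    rw [hO2, le_bot_iff, Subgroup.map_eq_bot_iff_of_injective _ F.subtype_injective] at hle
    exact Q.ne_bot_of_dvd_card h2 hle
  set p : S := ⟨P, hPS⟩ with hp
  have hpo : orderOf p = 4 := by rw [hp, Subgroup.orderOf_mk, hP4]
  set t := p * p with ht'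
  have htt : t * t = 1 := by
    rw [← pow_orderOf_eq_one p, hpo, ht']; simp [pow_succ, mul_assoc]
  have ht1 : t ≠ 1 := fun e => by
    have := orderOf_dvd_of_pow_eq_one (show p ^ 2 = 1 by rw [pow_two]; exact e)
    rw [hpo] at this; norm_num at this
  have hmove : ∃ k ∈ F, t * k ≠ k * t := by
    by_contra hne
    simp only [not_exists, not_and, not_not] at hne
    have h1 := CfsgLib.Solvable.Cores.centralizer_fittingSubgroup_le
      (Subgroup.mem_centralizer_iff.2 fun k hk => (hne k hk).symm : t ∈ Subgroup.centralizer (F : Set ↥S))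
    exact ht1 (orderOf_eq_one_iff.1 (Nat.eq_one_of_dvd_coprimes (Nat.coprime_two_left.2 hFodd)
      (orderOf_dvd_of_pow_eq_one (by rw [pow_two, htt])) (Subgroup.orderOf_dvd_natCard F h1)))
  obtain ⟨a, haF, hap, hta, -⟩ := S4408.exists_line (Subgroup.zpowers t)
    ⟨(IsCyclic.isMulCommutative : IsMulCommutative (Subgroup.zpowers t)), fun x hx => by
      obtain ⟨i, rfl⟩ := Subgroup.mem_zpowers_iff.1 hx
      rw [pow_two, ← (Commute.refl t).mul_zpow, htt, one_zpow]⟩
    hFodd (by rw [Subgroup.normalizer_eq_top_iff.2 hFn]; exact le_top) (Subgroup.mem_zpowers t) hmove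
  have haodd : Odd (orderOf a) := hFodd.of_dvd_nat (Subgroup.orderOf_dvd_natCard F haF)
  let A : V ≃ₗ[ZMod 2] V := (a : V ≃ₗ[ZMod 2] V)
  set U := R ⊔ R.map (A : V →ₗ[ZMod 2] V) with hU
  set W := U ⊔ R.map (((P * A : V ≃ₗ[ZMod 2] V) : V →ₗ[ZMod 2] V)) with hW
  let M : Subgroup S := (moves U).comap S.subtype
  have haU : a ∈ M := by
    have hb : a⁻¹ * a⁻¹ ∈ M := by
      have e : a⁻¹ * a⁻¹ = t * (a * t * a⁻¹) := by
        rw [show t * (a * t * a⁻¹) = (t * a * t⁻¹) * (t * t) * a⁻¹ by group, hta, htt, mul_one]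
      rw [e]
      intro v
      set x := ((a * t * a⁻¹ : S) : V ≃ₗ[ZMod 2] V) v with hx
      have h1 : x - v = A ((P * P) (A.symm v) - A.symm v) := by
        rw [map_sub, A.apply_symm_apply]; rfl
      have h2 : ((t * (a * t * a⁻¹) : S) : V ≃ₗ[ZMod 2] V) v - v = ((P * P) x - x) + (x - v) := by
        show (P * P) x - v = _
        abel
      show ((t * (a * t * a⁻¹) : S) : V ≃ₗ[ZMod 2] V) v - v ∈ U
      rw [h2]
      refine U.add_mem (Submodule.mem_sup_left (ht x)) (Submodule.mem_sup_right ?_)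
      rw [h1]
      exact Submodule.mem_map_of_mem (ht _)
    obtain ⟨j, hj⟩ := exists_pow_eq_self_of_coprime (x := a) (n := 2) (Nat.coprime_two_left.2 haodd)
    rw [← hj]
    refine pow_mem ?_ j
    rw [pow_two]
    have := inv_mem hb
    rwa [mul_inv_rev, inv_inv] at this
  have hU4 : Nat.card U ≤ 4 := by
    refine (card_sup_le _ _).trans ?_
    exact (Nat.mul_le_mul hR2 ((card_map_le _ _).trans hR2)).trans (by norm_num)
  have hW8 : Nat.card W ≤ 8 := by
    refine (card_sup_le _ _).trans ?_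
    exact (Nat.mul_le_mul hU4 ((card_map_le _ _).trans hR2)).trans (by norm_num)
  have hAo : orderOf A = orderOf a := Subgroup.orderOf_coe a
  have ha3 : orderOf a = 3 := by
    obtain ⟨k, hk, hkc⟩ := card_aut U
    have hd := card_dvd (W := U) (Subgroup.zpowers A) (Subgroup.zpowers_le.2 haU)
      (by rw [Nat.card_zpowers, hAo]; exact haodd)
    rw [Nat.card_zpowers, hAo, hkc] at hd
    have hk2 : k ≤ 2 := (Nat.pow_le_pow_iff_right one_lt_two).1 (hk ▸ hU4)
    have h2 : orderOf a ≠ 2 := fun e => by rw [e] at haodd; exact absurd haodd (by decide)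
    interval_cases k
    · simp at hd; exact absurd (hd ▸ hap) (by norm_num)
    · simp at hd; exact absurd (hd ▸ hap) (by norm_num)
    · have h6 : orderOf a ∣ 2 * 3 := by simpa [Fin.prod_univ_two, mul_comm] using hd
      rcases hap.dvd_mul.1 h6 with h | h
      · exact absurd ((Nat.prime_dvd_prime_iff_eq hap Nat.prime_two).1 h) h2
      · exact (Nat.prime_dvd_prime_iff_eq hap Nat.prime_three).1 h
  -- both conjugates lie in a normal 3-subgroup
  have : Fact (Nat.Prime 3) := ⟨Nat.prime_three⟩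
  obtain ⟨Q, hQ⟩ := (IsPGroup.of_card (p := 3) (n := 1) (G := Subgroup.zpowers (⟨a, haF⟩ : F))
    (by rw [Nat.card_zpowers, Subgroup.orderOf_mk, ha3, pow_one])).exists_le_sylow
  set T := (Q : Subgroup F).map F.subtype with hT
  have hTn := hsyl 3 Q
  have haT : a ∈ T := ⟨⟨a, haF⟩, hQ (Subgroup.mem_zpowers _), rfl⟩
  set b := p * a * p⁻¹ with hb
  have hbT : b ∈ T := hTn.conj_mem a haT p
  have hbW : (b : V ≃ₗ[ZMod 2] V) ∈ moves W := by
    intro v
    have h1 : (b : V ≃ₗ[ZMod 2] V) v - v = P (A (P.symm v) - P.symm v) := by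
      rw [map_sub, P.apply_symm_apply]; rfl
    rw [h1]
    obtain ⟨x, hx, y, hy, e⟩ := Submodule.mem_sup.1 (haU (P.symm v))
    obtain ⟨z, hz, rfl⟩ := hy
    change P (A (P.symm v) - P.symm v) ∈ W
    rw [← show x + A z = A (P.symm v) - P.symm v from e, map_add]
    exact W.add_mem (Submodule.mem_sup_left (Submodule.mem_sup_left (hPR x hx)))
      (Submodule.mem_sup_right ⟨z, hz, rfl⟩)
  let E : Subgroup S := T ⊓ (moves W).comap S.subtype
  have haE : a ∈ E := ⟨haT, fun v => Submodule.mem_sup_left (haU v)⟩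
  have hbE : b ∈ E := ⟨hbT, hbW⟩
  have hE3 : IsPGroup 3 E := (Q.isPGroup'.map F.subtype).to_le inf_le_left
  obtain ⟨n, hn⟩ := hE3.exists_card_eq
  have hEcard : Nat.card E ≤ 3 := by
    obtain ⟨k, hk, hkc⟩ := card_aut W
    have hk3 : k ≤ 3 := (Nat.pow_le_pow_iff_right one_lt_two).1 (hk ▸ hW8)
    have hc : Nat.card (E.map S.subtype) = 3 ^ n := by
      rw [Subgroup.card_map_of_injective S.subtype_injective, hn]
    have hd := card_dvd (W := W) (E.map S.subtype)
      (by rintro _ ⟨x, hx, rfl⟩; exact hx.2) (by rw [hc]; exact Odd.pow (by decide))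
    rw [hc, hkc] at hd
    rw [hn]
    by_contra h
    have h9 : 3 ^ 2 ∣ 3 ^ n := pow_dvd_pow 3 (by
      by_contra hn2
      exact h ((Nat.pow_le_pow_right (by norm_num) (show n ≤ 1 by omega)).trans_eq (pow_one 3)))
    have h9' := h9.trans hd
    interval_cases k <;> simp [Fin.prod_univ_succ] at h9' <;> omega
  have heq : Subgroup.zpowers a = E :=
    Subgroup.eq_of_le_of_card_ge (Subgroup.zpowers_le.2 haE) (by rw [Nat.card_zpowers, ha3]; exact hEcard)
  obtain ⟨i, hi⟩ := Subgroup.mem_zpowers_iff.1 (heq ▸ hbE : b ∈ Subgroup.zpowers a)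
  have hconj : t * a * t⁻¹ = a ^ (i * i) := by
    rw [show t * a * t⁻¹ = p * b * p⁻¹ by rw [hb, ht']; group, ← hi, ← conj_zpow, ← hb, ← hi, zpow_mul]
  rw [hta, ← zpow_neg_one, zpow_eq_zpow_iff_modEq, ha3] at hconj
  have h0 := Int.emod_emod_of_dvd i (show (3 : ℤ) ∣ 3 from dvd_rfl)
  have h1 : (i * i) % 3 = ((i % 3) * (i % 3)) % 3 := Int.mul_emod i i 3
  have hr : i % 3 = 0 ∨ i % 3 = 1 ∨ i % 3 = 2 := by omega
  unfold Int.ModEq at hconj
  rcases hr with e | e | e <;> simp [e] at h1 <;> omega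

end Cfsg.Agent.S4410
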