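import Cfsg.Statements.S4412
import Cfsg.Agent.Lib.PGroup.Frattini

set_option autoImplicit false
open Cfsg

namespace Cfsg.Agent.S4412

open Subgroup
open scoped commutatorElement

variable {P : Type*} [Group P] [Finite P]

/-- The fixed points of `T` form a cyclic group. -/
def Cyc (T : MulAut P) : Prop := ∃ g : P, ∀ x : P, (T x = x ↔ x ∈ Subgroup.zpowers g)

/-- An element fixed or inverted by every member of `I`. -/
def Eig (I : Subgroup (MulAut P)) (x : P) : Prop := ∀ T ∈ I, T x = x ∨ T x = x⁻¹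

theorem exists_root (hodd : Odd (Nat.card P)) (x : P) : ∃ k : ℕ, (x ^ k) ^ 2 = x := by
  obtain ⟨k, hk⟩ := hodd
  refine ⟨k + 1, ?_⟩
  rw [← pow_mul, show (k + 1) * 2 = (2 * k + 1) + 1 by ring, ← hk, pow_succ, pow_card_eq_one', one_mul]

theorem eq_one_of_inv (hodd : Odd (Nat.card P)) {x : P} (h : x = x⁻¹) : x = 1 := by
  obtain ⟨k, hk⟩ := exists_root hodd x
  have : x ^ 2 = 1 := by rw [sq]; nth_rw 2 [h]; exact mul_inv_cancel x
  rw [← hk, ← pow_mul, mul_comm, pow_mul, this, one_pow]

theorem invol (I : Subgroup (MulAut P)) (hI : Cfsg.IsElementaryAbelian 2 I) {T : MulAut P} (hT : T ∈ I)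
    (x : P) : T (T x) = x := by
  have h := hI.2 T hT
  rw [sq] at h
  exact congrArg (fun U : MulAut P => U x) h

theorem comm_apply (I : Subgroup (MulAut P)) (hI : Cfsg.IsElementaryAbelian 2 I) {T U : MulAut P} (hT : T ∈ I)
    (hU : U ∈ I) (x : P) : T (U x) = U (T x) := by
  have h := congrArg Subtype.val (hI.1.is_comm.comm (⟨T, hT⟩ : I) ⟨U, hU⟩)
  exact congrArg (fun V : MulAut P => V x) h

/-- An element congruent to its image can be corrected to a fixed point. -/
theorem fix_step (I : Subgroup (MulAut P)) (hI : Cfsg.IsElementaryAbelian 2 I) (hodd : Odd (Nat.card P))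
    (M : Subgroup P) {T : MulAut P} (hT : T ∈ I) {x : P} (hx : x⁻¹ * T x ∈ M) :
    ∃ s ∈ M, T (x * s) = x * s ∧ ∀ U ∈ I, U x = x → U (x * s) = x * s := by
  set d := x⁻¹ * T x with hd
  obtain ⟨k, hk⟩ := exists_root hodd d
  have hTd : T d = d⁻¹ := by
    rw [hd, map_mul, map_inv, invol I hI hT, mul_inv_rev, inv_inv]
  refine ⟨d ^ k, pow_mem hx k, ?_, fun U hU hUx => ?_⟩
  · have hTx : T x = x * d := by rw [hd]; group
    rw [map_mul, map_pow, hTd, hTx, mul_assoc]
    congr 1
    rw [inv_pow]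
    calc d * (d ^ k)⁻¹ = (d ^ k) ^ 2 * (d ^ k)⁻¹ := by rw [hk]
      _ = d ^ k := by group
  · have hUd : U d = d := by
      rw [hd, map_mul, map_inv, hUx, comm_apply I hI hU hT, hUx]
    rw [map_mul, map_pow, hUd, hUx]

/-- Every finite set of automorphisms fixing a class has a common fixed representative. -/
theorem fix_lift (I : Subgroup (MulAut P)) (hI : Cfsg.IsElementaryAbelian 2 I) (hodd : Odd (Nat.card P))
    (M : Subgroup P) [M.Normal] [M.Characteristic] (x : P) :
    ∀ s : Finset (MulAut P), (∀ T ∈ s, T ∈ I ∧ x⁻¹ * T x ∈ M) →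
      ∃ y, x⁻¹ * y ∈ M ∧ ∀ T ∈ s, T y = y := by
  classical
  intro s
  induction s using Finset.induction_on with
  | empty => exact fun _ => ⟨x, by simp, by simp⟩
  | @insert T s _ ih =>
    intro h
    obtain ⟨hT, hxT⟩ := h T (Finset.mem_insert_self T s)
    obtain ⟨y, hy, hys⟩ := ih fun U hU => h U (Finset.mem_insert_of_mem hU)
    have hyT : y⁻¹ * T y ∈ M := by
      have hTM : T (x⁻¹ * y) ∈ M := by
        have := Subgroup.characteristic_iff_comap_eq.mp ‹M.Characteristic› T
        rw [← this] at hy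
        exact hy
      have e : y⁻¹ * T y = (x⁻¹ * y)⁻¹ * (x⁻¹ * T x) * T (x⁻¹ * y) := by
        rw [map_mul, map_inv]; group
      rw [e]
      exact mul_mem (mul_mem (inv_mem hy) hxT) hTM
    obtain ⟨d, hdM, hdT, hdU⟩ := fix_step I hI hodd M hT hyT
    refine ⟨y * d, by rw [← mul_assoc]; exact mul_mem hy hdM, fun U hU => ?_⟩
    rcases Finset.mem_insert.mp hU with rfl | hU'
    · exact hdT
    · exact hdU U (h U (Finset.mem_insert_of_mem hU')).1 (hys U hU')

/-- The common fixed or inverted elements generate. -/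
theorem closure_eig {p : ℕ} [Fact p.Prime] (hP : IsPGroup p P) (hodd : Odd (Nat.card P))
    (I : Subgroup (MulAut P)) (hI : Cfsg.IsElementaryAbelian 2 I) : closure {x | Eig I x} = ⊤ := by
  classical
  refine frattini_nongenerating (eq_top_iff.mpr ?_)
  set F := frattini P
  set q := QuotientGroup.mk' F
  have hF : ∀ (T : MulAut P) (x : P), x ∈ F → T x ∈ F := fun T x hx => by
    have := Subgroup.characteristic_iff_comap_eq.mp (inferInstance : F.Characteristic) T
    rw [← this] at hx
    exact hx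
  have hqc : ∀ a b : P, q a * q b = q b * q a := fun a b => CfsgLib.PGroup.Frattini.quotient_mul_comm hP _ _
  have hcong : ∀ (T : MulAut P) (a b : P), q a = q b → q (T a) = q (T b) := fun T a b h => by
    have h' : a⁻¹ * b ∈ F := QuotientGroup.eq.mp h
    refine QuotientGroup.eq.mpr ?_
    have := hF T _ h'
    rwa [map_mul, map_inv] at this
  -- classes which are eigen for a finite set
  have main : ∀ s : Finset (MulAut P), (∀ T ∈ s, T ∈ I) →
      ∀ x : P, q x ∈ closure (q '' {y | ∀ T ∈ s, q (T y) = q y ∨ q (T y) = (q y)⁻¹}) := by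
    intro s
    induction s using Finset.induction_on with
    | empty => exact fun _ x => subset_closure ⟨x, by simp, rfl⟩
    | @insert T s _ ih =>
      intro hs x
      have hT := hs T (Finset.mem_insert_self T s)
      have hsI : ∀ U ∈ s, U ∈ I := fun U hU => hs U (Finset.mem_insert_of_mem hU)
      refine (closure_le _).mpr ?_ (ih hsI x)
      rintro _ ⟨y, hy, rfl⟩
      -- split `y ^ 2`
      have hsplit : ∀ U ∈ I, (q (U y) = q y ∨ q (U y) = (q y)⁻¹) →
          (q (U (y * T y)) = q (y * T y) ∨ q (U (y * T y)) = (q (y * T y))⁻¹) ∧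
          (q (U (y * (T y)⁻¹)) = q (y * (T y)⁻¹) ∨ q (U (y * (T y)⁻¹)) = (q (y * (T y)⁻¹))⁻¹) := by
        intro U hU h
        have e : U (T y) = T (U y) := comm_apply I hI hU hT y
        rcases h with h | h
        · have h2 : q (U (T y)) = q (T y) := e ▸ hcong T _ _ h
          constructor <;> left <;> simp only [map_mul, map_inv, h, h2]
        · have h2 : q (U (T y)) = (q (T y))⁻¹ := by
            rw [e, hcong T (U y) y⁻¹ (by rw [h, map_inv]), map_inv, map_inv]
          constructor <;> right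
          · rw [map_mul, map_mul, h, h2, map_mul, mul_inv_rev]
            calc (q y)⁻¹ * (q (T y))⁻¹ = (q (T y) * q y)⁻¹ := (mul_inv_rev _ _).symm
              _ = (q y * q (T y))⁻¹ := by rw [hqc]
              _ = _ := mul_inv_rev _ _
          · rw [map_mul, map_mul, map_inv, map_inv, h, h2, map_mul, map_inv, mul_inv_rev, inv_inv]
            calc (q y)⁻¹ * q (T y) = (q (y⁻¹)) * q (T y) := by rw [map_inv]
              _ = q (T y) * q (y⁻¹) := hqc _ _
              _ = _ := by rw [map_inv]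
      have h1 : q (y * T y) ∈ closure (q '' {z | ∀ U ∈ insert T s, q (U z) = q z ∨ q (U z) = (q z)⁻¹}) := by
        refine subset_closure ⟨_, fun U hU => ?_, rfl⟩
        rcases Finset.mem_insert.mp hU with rfl | hU'
        · left; rw [map_mul, invol I hI hT, map_mul, map_mul]; exact hqc _ _
        · exact (hsplit U (hsI U hU') (hy U hU')).1
      have h2 : q (y * (T y)⁻¹) ∈ closure (q '' {z | ∀ U ∈ insert T s, q (U z) = q z ∨ q (U z) = (q z)⁻¹}) := by
        refine subset_closure ⟨_, fun U hU => ?_, rfl⟩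
        rcases Finset.mem_insert.mp hU with rfl | hU'
        · right
          rw [map_mul, map_inv, invol I hI hT, map_mul, map_inv, map_mul, map_inv, mul_inv_rev, inv_inv]
        · exact (hsplit U (hsI U hU') (hy U hU')).2
      obtain ⟨k, hk⟩ := exists_root hodd y
      have h3 : q y ^ 2 = q (y * T y) * q (y * (T y)⁻¹) := by
        rw [map_mul, map_mul, map_inv, sq]
        calc q y * q y = q (T y) * (q y * q y) * (q (T y))⁻¹ := by
              have hc : Commute (q (T y)) (q y * q y) := Commute.mul_right (hqc _ _) (hqc _ _)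
              rw [hc.eq, mul_inv_cancel_right]
          _ = (q (T y) * q y) * (q y * (q (T y))⁻¹) := by group
          _ = (q y * q (T y)) * (q y * (q (T y))⁻¹) := by rw [hqc]
      have h4 : q y = (q y ^ 2) ^ k := by
        conv_lhs => rw [← hk]
        rw [map_pow, map_pow, ← pow_mul, ← pow_mul, mul_comm]
      rw [SetLike.mem_coe, h4, h3]
      exact pow_mem (mul_mem h1 h2) k
  intro x _
  have hx := main ((Set.toFinite (I : Set (MulAut P))).toFinset) (fun T hT => by simpa using hT) x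
  have hle : closure (q '' {y | ∀ T ∈ (Set.toFinite (I : Set (MulAut P))).toFinset,
      q (T y) = q y ∨ q (T y) = (q y)⁻¹}) ≤ (closure {x | Eig I x}).map q := by
    refine (closure_le _).mpr ?_
    rintro _ ⟨y, hy, rfl⟩
    have hy' : ∀ T ∈ I, q (T y) = q y ∨ q (T y) = (q y)⁻¹ := fun T hT => hy T (by simpa using hT)
    obtain ⟨z, hz, hzfix⟩ := fix_lift I hI hodd F y
      ((Set.toFinite (I : Set (MulAut P))).toFinset.filter fun T => y⁻¹ * T y ∈ F)
      (fun T hT => by simpa using hT)
    have hqz : q z = q y := (QuotientGroup.eq.mpr hz).symm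
    by_cases hall : ∀ T ∈ I, q (T y) = q y
    · refine ⟨z, subset_closure fun T hT => Or.inl (hzfix T ?_), hqz⟩
      rw [Finset.mem_filter]
      exact ⟨by simpa using hT, QuotientGroup.eq.mp (hall T hT).symm⟩
    · push Not at hall
      obtain ⟨T0, hT0, hne⟩ := hall
      have hinv : q (T0 y) = (q y)⁻¹ := (hy' T0 hT0).resolve_left hne
      set u := z⁻¹ * T0 z with hu
      have hu0 : T0 u = u⁻¹ := by rw [hu, map_mul, map_inv, invol I hI hT0, mul_inv_rev, inv_inv]
      have hueig : Eig I u := by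
        intro T hT
        rcases hy' T hT with h | h
        · left
          have hTz : T z = z := hzfix T (by
            rw [Finset.mem_filter]; exact ⟨by simpa using hT, QuotientGroup.eq.mp h.symm⟩)
          rw [hu, map_mul, map_inv, comm_apply I hI hT hT0, hTz]
        · right
          have hTT : T * T0 ∈ I := mul_mem hT hT0
          have hq : q ((T * T0) y) = q y := by
            show q (T (T0 y)) = q y
            rw [hcong T (T0 y) y⁻¹ (by rw [hinv, map_inv]), map_inv, map_inv, h, inv_inv]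
          have hTz : T (T0 z) = z := hzfix (T * T0) (by
            rw [Finset.mem_filter]; exact ⟨by simpa using hTT, QuotientGroup.eq.mp hq.symm⟩)
          have hfix : T (T0 u) = u := by
            rw [hu]; simp only [map_mul, map_inv]
            rw [hTz]
            rw [comm_apply I hI hT hT0 (T0 z), comm_apply I hI hT hT0 z] at *
            rw [hTz]
          rw [hu0, map_inv] at hfix
          exact inv_eq_iff_eq_inv.mp hfix
      obtain ⟨k, hk⟩ := exists_root hodd y
      refine ⟨(u⁻¹) ^ k, pow_mem (inv_mem (subset_closure hueig)) k, ?_⟩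
      have hqu : q u⁻¹ = q (y ^ 2) := by
        rw [map_inv, hu, map_mul, map_inv, hcong T0 z y hqz, hinv, hqz, mul_inv_rev, inv_inv, map_pow, sq]
      rw [map_pow, hqu, ← map_pow, ← pow_mul, mul_comm, pow_mul, hk]
  obtain ⟨w, hw, hwx⟩ := hle hx
  have : w⁻¹ * x ∈ F := QuotientGroup.eq.mp hwx
  rw [show x = w * (w⁻¹ * x) by group]
  exact mul_mem_sup hw this

/-- Nontrivial elements in a cyclic fixed group cannot be separated. -/
theorem same_sign {p : ℕ} [hp : Fact p.Prime] (hP : IsPGroup p P) (hodd : Odd (Nat.card P))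
    (I : Subgroup (MulAut P)) (hI : Cfsg.IsElementaryAbelian 2 I) {T U : MulAut P} (hT : T ∈ I) (hU : U ∈ I)
    (hc : Cyc T) {x y : P} (hx : T x = x) (hy : T y = y) (hx1 : x ≠ 1) (hy1 : y ≠ 1) (hUx : U x = x) :
    U y ≠ y⁻¹ := by
  intro hUy
  obtain ⟨g, hg⟩ := hc
  obtain ⟨m, hm⟩ := mem_zpowers_iff.mp ((hg (U g)).mp (by
    rw [comm_apply I hI hT hU, (hg g).mpr (mem_zpowers g)]))
  have key : ∀ w ∈ zpowers g, U w = w ^ m := by
    intro w hw
    obtain ⟨i, rfl⟩ := mem_zpowers_iff.mp hw
    rw [map_zpow, ← hm, ← zpow_mul, ← zpow_mul, mul_comm]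
  have hdvd : ∀ w : P, w ≠ 1 → ∀ n : ℤ, w ^ n = 1 → (p : ℤ) ∣ n := by
    intro w hw n hn
    obtain ⟨k, hk⟩ := IsPGroup.iff_orderOf.mp hP w
    rcases k with _ | k
    · exact absurd (orderOf_eq_one_iff.mp (by rw [hk, pow_zero])) hw
    · have := orderOf_dvd_iff_zpow_eq_one.mpr hn
      rw [hk] at this
      exact dvd_trans (by exact_mod_cast dvd_pow_self p (Nat.succ_ne_zero k)) this
  have e1 : x ^ (m - 1) = 1 := by
    rw [zpow_sub, zpow_one, ← key x ((hg x).mp hx), hUx, mul_inv_cancel]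
  have e2 : y ^ (m + 1) = 1 := by
    rw [zpow_add, zpow_one, ← key y ((hg y).mp hy), hUy, inv_mul_cancel]
  have h2 : (p : ℤ) ∣ 2 := by
    have h := dvd_sub (hdvd y hy1 _ e2) (hdvd x hx1 _ e1)
    rwa [show (m + 1) - (m - 1) = (2 : ℤ) by ring] at h
  have hp2 : p = 2 := (Nat.prime_dvd_prime_iff_eq hp.out Nat.prime_two).mp (by exact_mod_cast h2)
  obtain ⟨k, hk⟩ := IsPGroup.iff_card.mp hP
  have hk0 : k ≠ 0 := by
    intro h
    have h1 := orderOf_dvd_natCard x
    rw [hk, h, pow_zero, Nat.dvd_one, orderOf_eq_one_iff] at h1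
    exact hx1 h1
  rw [hk, hp2, Nat.odd_pow_iff hk0] at hodd
  exact absurd hodd (by decide)

/-- The dual basis of three eigen elements. -/
theorem exists_frame {p : ℕ} [Fact p.Prime] (hP : IsPGroup p P) (hodd : Odd (Nat.card P))
    (I : Subgroup (MulAut P)) (hI : Cfsg.IsElementaryAbelian 2 I) (hI8 : Nat.card I = 8) :
    ∃ (g : Fin 3 → P) (t : Fin 3 → MulAut P), (∀ i, t i ∈ I) ∧ (∀ i, g i ≠ 1) ∧ (∀ i, Eig I (g i)) ∧
      ∀ i j, t i (g j) = if i = j then (g j)⁻¹ else g j := by
  classical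
  have hgen := closure_eig hP hodd I hI
  have hmove : ∀ T ∈ I, T ≠ 1 → ∃ x, Eig I x ∧ T x ≠ x := by
    intro T _ hne
    by_contra h
    push Not at h
    refine hne (MulEquiv.ext fun x => ?_)
    have hx : x ∈ closure {x | Eig I x} := hgen ▸ mem_top x
    exact MonoidHom.eqOn_closure (f := T.toMonoidHom) (g := MonoidHom.id P) (fun y hy => h y hy) hx
  haveI : Finite I := Nat.finite_of_card_ne_zero (by omega)
  haveI : Fintype I := Fintype.ofFinite I
  -- a nontrivial element of `I` fixing any two eigen elements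
  have hker : ∀ a b : P, Eig I a → Eig I b → ∃ T ∈ I, T ≠ 1 ∧ T a = a ∧ T b = b := by
    intro a b ha hb
    obtain ⟨T, U, hne, he⟩ := Fintype.exists_ne_map_eq_of_card_lt
      (fun T : I => ((decide ((T : MulAut P) a = a), decide ((T : MulAut P) b = b)) : Bool × Bool)) (by
        rw [← Nat.card_eq_fintype_card, ← Nat.card_eq_fintype_card, hI8]; simp)
    have hh : ∀ c, Eig I c → decide ((T : MulAut P) c = c) = decide ((U : MulAut P) c = c) →
        ((T * U : I) : MulAut P) c = c := by
      intro c hc h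
      show (T : MulAut P) ((U : MulAut P) c) = c
      by_cases h1 : (U : MulAut P) c = c
      · rw [h1]; simpa [h1] using h
      · have h2 : (T : MulAut P) c ≠ c := by simpa [h1] using h
        rw [(hc _ U.2).resolve_left h1, map_inv, (hc _ T.2).resolve_left h2, inv_inv]
    refine ⟨(T * U : I), (T * U).2, fun h => hne ?_, hh a ha (congrArg Prod.fst he), hh b hb (congrArg Prod.snd he)⟩
    have h' : T * U = 1 := Subtype.ext h
    have hUU : U * U = 1 := Subtype.ext (by have := hI.2 U U.2; rwa [sq] at this)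
    exact mul_right_cancel (h'.trans hUU.symm)
  obtain ⟨T, hT, hT1, -, -⟩ := hker 1 1 (fun T _ => Or.inl (map_one T)) (fun T _ => Or.inl (map_one T))
  obtain ⟨x, hx, hTx⟩ := hmove T hT hT1
  obtain ⟨U, hU, hU1, hUx, -⟩ := hker x x hx hx
  obtain ⟨y, hy, hUy⟩ := hmove U hU hU1
  obtain ⟨c, hc, hc1, hcx, hcy⟩ := hker x y hx hy
  obtain ⟨z, hz, hcz⟩ := hmove c hc hc1
  have inv_of : ∀ {w : P}, Eig I w → ∀ {V : MulAut P}, V ∈ I → V w ≠ w → V w = w⁻¹ :=
    fun hw V hV h => (hw V hV).resolve_left h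
  have ne1 : ∀ {w : P} {V : MulAut P}, V w ≠ w → w ≠ 1 := fun h e => h (by rw [e, map_one])
  have hcz' := inv_of hz hc hcz
  -- correct `U` on `z`
  obtain ⟨b, hb, hbx, hby, hbz⟩ : ∃ b ∈ I, b x = x ∧ b y = y⁻¹ ∧ b z = z := by
    rcases hz U hU with h | h
    · exact ⟨U, hU, hUx, inv_of hy hU hUy, h⟩
    · refine ⟨U * c, mul_mem hU hc, ?_, ?_, ?_⟩
      · show U (c x) = x; rw [hcx, hUx]
      · show U (c y) = y⁻¹; rw [hcy, inv_of hy hU hUy]
      · show U (c z) = z; rw [hcz', map_inv, h, inv_inv]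
  -- correct `T`
  obtain ⟨a', ha', ha'x, ha'y⟩ : ∃ a ∈ I, a x = x⁻¹ ∧ a y = y := by
    rcases hy T hT with h | h
    · exact ⟨T, hT, inv_of hx hT hTx, h⟩
    · refine ⟨T * b, mul_mem hT hb, ?_, ?_⟩
      · show T (b x) = x⁻¹; rw [hbx, inv_of hx hT hTx]
      · show T (b y) = y; rw [hby, map_inv, h, inv_inv]
  obtain ⟨a, ha, hax, hay, haz⟩ : ∃ a ∈ I, a x = x⁻¹ ∧ a y = y ∧ a z = z := by
    rcases hz a' ha' with h | h
    · exact ⟨a', ha', ha'x, ha'y, h⟩
    · refine ⟨a' * c, mul_mem ha' hc, ?_, ?_, ?_⟩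
      · show a' (c x) = x⁻¹; rw [hcx, ha'x]
      · show a' (c y) = y; rw [hcy, ha'y]
      · show a' (c z) = z; rw [hcz', map_inv, h, inv_inv]
  refine ⟨![x, y, z], ![a, b, c], ?_, ?_, ?_, ?_⟩
  · intro i; fin_cases i <;> assumption
  · intro i; fin_cases i
    · exact ne1 hTx
    · exact ne1 hUy
    · exact ne1 hcz
  · intro i; fin_cases i <;> assumption
  · intro i j
    fin_cases i <;> fin_cases j <;> simp [hax, hay, haz, hbx, hby, hbz, hcx, hcy, hcz']

set_option maxHeartbeats 1000000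


/-- Let p be an odd prime, P a finite p-group and I an elementary abelian subgroup of order 8 of Aut(P). Call T ∈ I, T ≠ 1, broad when its fixed-point subgroup C_P(T) is not cyclic. Suppose I has a proper subgroup I₀ containing no broad element such that the product of any two broad elements lies in I₀. Then P is abelian of rank exactly 3 (generated by three elements but not by two), there are exactly three broad elements and they generate I, and I₀ is exactly the set of products of two broad elements. -/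
theorem result
    {P : Type*} [Group P] [Finite P] (p : ℕ) (hp : p.Prime) (hp2 : p ≠ 2) (hP : IsPGroup p P)
    (I : Subgroup (MulAut P)) (hI : Cfsg.IsElementaryAbelian 2 I) (hI8 : Nat.card ↥I = 8)
    (I₀ : Subgroup (MulAut P)) (hI₀ : I₀ < I)
    (hdisj : ∀ T ∈ I₀, T ≠ 1 → ∃ g : P, ∀ x : P, (T x = x ↔ x ∈ Subgroup.zpowers g))
    (hprod : ∀ T ∈ I, ∀ T' ∈ I, T ≠ 1 → T' ≠ 1 → (¬ ∃ g : P, ∀ x : P, (T x = x ↔ x ∈ Subgroup.zpowers g)) →
      (¬ ∃ g : P, ∀ x : P, (T' x = x ↔ x ∈ Subgroup.zpowers g)) → T * T' ∈ I₀) :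
    IsMulCommutative P ∧ (∃ a b c : P, Subgroup.closure {a, b, c} = ⊤) ∧ (¬ ∃ a b : P, Subgroup.closure {a, b} = ⊤) ∧
      Nat.card {T : MulAut P // T ∈ I ∧ T ≠ 1 ∧ ¬ ∃ g : P, ∀ x : P, (T x = x ↔ x ∈ Subgroup.zpowers g)} = 3 ∧
      Subgroup.closure {T : MulAut P | T ∈ I ∧ T ≠ 1 ∧ ¬ ∃ g : P, ∀ x : P, (T x = x ↔ x ∈ Subgroup.zpowers g)} = I ∧
      (I₀ : Set (MulAut P)) = {S : MulAut P | ∃ T T' : MulAut P, T ∈ I ∧ T' ∈ I ∧ T ≠ 1 ∧ T' ≠ 1 ∧
        (¬ ∃ g : P, ∀ x : P, (T x = x ↔ x ∈ Subgroup.zpowers g)) ∧ (¬ ∃ g : P, ∀ x : P, (T' x = x ↔ x ∈ Subgroup.zpowers g)) ∧ S = T * T'} := by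
  classical
  haveI := Fact.mk hp
  have hodd : Odd (Nat.card P) := by
    obtain ⟨k, hk⟩ := IsPGroup.iff_card.mp hP
    rw [hk]; exact (hp.odd_of_ne_two hp2).pow
  obtain ⟨x, t, ht, hx1, hxe, htx⟩ := exists_frame hP hodd I hI hI8
  have hgen := closure_eig hP hodd I hI
  have hne : ∀ {w : P}, w ≠ 1 → w⁻¹ ≠ w := fun hw h => hw (eq_one_of_inv hodd h.symm)
  have ht1 : ∀ i, t i ≠ 1 := fun i h => by
    have := htx i i
    rw [if_pos rfl, h] at this
    exact hne (hx1 i) this.symm
  have hpair : ∀ i j k, i ≠ j → i ≠ k → j ≠ k → (t i * t j) (x k) = x k ∧ (t i * t j) (x i) = (x i)⁻¹ := by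
    intro i j k hij hik hjk
    constructor
    · show t i (t j (x k)) = x k
      rw [htx, if_neg hjk, htx, if_neg hik]
    · show t i (t j (x i)) = (x i)⁻¹
      rw [htx, if_neg hij.symm, htx, if_pos rfl]
  -- the three `t i` are broad
  have hothers : ∀ i : Fin 3, ∃ j k, i ≠ j ∧ i ≠ k ∧ j ≠ k := by decide
  have hbroad : ∀ i, ¬ Cyc (t i) := by
    intro i hc
    obtain ⟨j, k, hij, hik, hjk⟩ := hothers i
    exact same_sign hP hodd I hI (ht i) (ht j) hc (x := x k) (y := x j) (by rw [htx, if_neg hik])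
      (by rw [htx, if_neg hij]) (hx1 k) (hx1 j) (by rw [htx, if_neg hjk]) (by rw [htx, if_pos rfl])
  have hI0 : ∀ i j, t i * t j ∈ I₀ := fun i j =>
    hprod _ (ht i) _ (ht j) (ht1 i) (ht1 j) (hbroad i) (hbroad j)
  have hcyc : ∀ i j, i ≠ j → Cyc (t i * t j) := by
    intro i j hij
    refine hdisj _ (hI0 i j) fun h => ?_
    have e : (t i * t j) (x i) = x i := by rw [h]; rfl
    rw [show (t i * t j) (x i) = t i (t j (x i)) from rfl, htx, if_neg hij.symm, htx, if_pos rfl] at e
    exact hne (hx1 i) e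
  -- the generators
  have hperm : ∀ k i j a b : Fin 3, k ≠ i → k ≠ j → i ≠ j → a ≠ b → a ≠ k → b ≠ k →
      (a = i ∧ b = j) ∨ (a = j ∧ b = i) := by decide
  have hfun : ∀ k : Fin 3, ∃ gk : P, ∀ i j, i ≠ j → i ≠ k → j ≠ k → ∀ y, ((t i * t j) y = y ↔ y ∈ Subgroup.zpowers gk) := by
    intro k
    obtain ⟨i, j, hki, hkj, hij⟩ := hothers k
    obtain ⟨gk, hgk⟩ := hcyc i j hij
    refine ⟨gk, fun a b hab hak hbk y => ?_⟩
    have h : (a = i ∧ b = j) ∨ (a = j ∧ b = i) := hperm k i j a b hki hkj hij hab hak hbk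
    rcases h with ⟨rfl, rfl⟩ | ⟨rfl, rfl⟩
    · exact hgk y
    · rw [show t a * t b = t b * t a from congrArg Subtype.val (hI.1.is_comm.comm (⟨t a, ht a⟩ : I) ⟨t b, ht b⟩)]
      exact hgk y
  choose g hg using hfun
  -- the three powers cover all eigen elements
  have hcover : ∀ y, Eig I y → y ∈ Subgroup.closure (Set.range g) := by
    intro y hy
    by_cases hy1 : y = 1
    · rw [hy1]; exact one_mem _
    have hk : ∀ i j k, i ≠ j → i ≠ k → j ≠ k → (t i * t j) y = y → t k y ≠ y → y ∈ Subgroup.closure (Set.range g) :=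
      fun i j k hij hik hjk h _ => (Subgroup.zpowers_le.mpr (Subgroup.subset_closure ⟨k, rfl⟩) :
        Subgroup.zpowers (g k) ≤ Subgroup.closure (Set.range g)) ((hg k i j hij hik hjk y).mp h)
    -- in a cyclic fixed group the sign of `t k` and of `t i` are those of `x k`
    have hsign : ∀ i j k, i ≠ j → i ≠ k → j ≠ k → (t i * t j) y = y → t k y = y⁻¹ := by
      intro i j k hij hik hjk h
      refine ((hy _ (ht k)).resolve_left fun hky => ?_)
      exact same_sign hP hodd I hI (mul_mem (ht i) (ht j)) (ht k) (hcyc i j hij) h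
        (hpair i j k hij hik hjk).1 hy1 (hx1 k) hky (by rw [htx, if_pos rfl])
    have hsame : ∀ i j k, i ≠ j → i ≠ k → j ≠ k → t i y = t j y → (t i * t j) y = y := by
      intro i j k _ _ _ h
      show t i (t j y) = y
      rw [← h, invol I hI (ht i)]
    -- two of the three signs agree
    rcases hy _ (ht 0) with h0 | h0 <;> rcases hy _ (ht 1) with h1 | h1
    all_goals first
      | (have h := hsame 0 1 2 (by decide) (by decide) (by decide) (h0.trans h1.symm)
         exact hk 0 1 2 (by decide) (by decide) (by decide) h (by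
           rw [hsign 0 1 2 (by decide) (by decide) (by decide) h]; exact hne hy1))
      | (rcases hy _ (ht 2) with h2 | h2
         all_goals first
           | (have h := hsame 0 2 1 (by decide) (by decide) (by decide) (h0.trans h2.symm)
              exact hk 0 2 1 (by decide) (by decide) (by decide) h (by
                rw [hsign 0 2 1 (by decide) (by decide) (by decide) h]; exact hne hy1))
           | (have h := hsame 1 2 0 (by decide) (by decide) (by decide) (h1.trans h2.symm)
              exact hk 1 2 0 (by decide) (by decide) (by decide) h (by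
                rw [hsign 1 2 0 (by decide) (by decide) (by decide) h]; exact hne hy1)))
  have htop : Subgroup.closure (Set.range g) = ⊤ :=
    eq_top_iff.mpr (hgen ▸ (Subgroup.closure_le _).mpr fun y hy => hcover y hy)
  -- the signs of the generators
  have hgx : ∀ k, x k ∈ Subgroup.zpowers (g k) := by
    intro k
    obtain ⟨i, j, hki, hkj, hij⟩ := hothers k
    exact (hg k i j hij hki.symm hkj.symm _).mp (hpair i j k hij hki.symm hkj.symm).1
  have hg1 : ∀ k, g k ≠ 1 := by
    intro k h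
    have := hgx k
    rw [h, Subgroup.zpowers_one_eq_bot, Subgroup.mem_bot] at this
    exact hx1 k this
  have hTfix : ∀ i j k, i ≠ j → i ≠ k → j ≠ k → (t i * t j) (g k) = g k := fun i j k hij hik hjk =>
    (hg k i j hij hik hjk _).mpr (Subgroup.mem_zpowers _)
  have heig : ∀ T ∈ I, ∀ k, T (g k) = g k ∨ T (g k) = (g k)⁻¹ := by
    intro T hT k
    obtain ⟨i, j, hki, hkj, hij⟩ := hothers k
    have hmem : T (g k) ∈ Subgroup.zpowers (g k) := (hg k i j hij hki.symm hkj.symm _).mp (by
      rw [comm_apply I hI (mul_mem (ht i) (ht j)) hT, hTfix i j k hij hki.symm hkj.symm])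
    set a := g k
    have hc : Commute a (T a) := by
      obtain ⟨m, hm⟩ := Subgroup.mem_zpowers_iff.mp hmem
      rw [← hm]; exact (Commute.refl a).zpow_right m
    have hfix : T (a * T a) = a * T a := by rw [map_mul, invol I hI hT]; exact hc.symm.eq
    have hinv : T (a * (T a)⁻¹) = (a * (T a)⁻¹)⁻¹ := by
      rw [map_mul, map_inv, invol I hI hT, mul_inv_rev, inv_inv]
    by_contra h
    push Not at h
    have hfixk : ∀ w ∈ Subgroup.zpowers a, (t i * t j) w = w := fun w hw =>
      (hg k i j hij hki.symm hkj.symm _).mpr hw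
    refine same_sign hP hodd I hI (mul_mem (ht i) (ht j)) hT (hcyc i j hij)
      (x := a * T a) (y := a * (T a)⁻¹) (hfixk _ (mul_mem (Subgroup.mem_zpowers a) hmem))
      (hfixk _ (mul_mem (Subgroup.mem_zpowers a) (inv_mem hmem))) (fun e => h.2 ?_) (fun e => h.1 ?_) hfix hinv
    · exact (inv_eq_of_mul_eq_one_right e).symm
    · exact (mul_inv_eq_one.mp e).symm
  have htg : ∀ i k, t i (g k) = if i = k then (g k)⁻¹ else g k := by
    intro i k
    obtain ⟨a, b, hka, hkb, hab⟩ := hothers k
    rcases heig _ (ht i) k with h | h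
    · split_ifs with hik
      · exfalso
        obtain ⟨m, hm⟩ := Subgroup.mem_zpowers_iff.mp (hgx k)
        have := htx i k
        rw [if_pos hik, ← hm, map_zpow, h] at this
        rw [hm] at this
        exact hne (hx1 k) this.symm
      · exact h
    · split_ifs with hik
      · exact h
      · exfalso
        obtain ⟨m, hm⟩ := Subgroup.mem_zpowers_iff.mp (hgx k)
        have := htx i k
        rw [if_neg hik, ← hm, map_zpow, h, inv_zpow] at this
        rw [hm] at this
        exact hne (hx1 k) this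
  -- abelian
  have hcomm : ∀ u v : P, u * v = v * u := by
    by_contra hnab
    push Not at hnab
    obtain ⟨u, v, huv⟩ := hnab
    set N := commutator P with hN
    set M := ⁅N, (⊤ : Subgroup P)⁆ with hM
    haveI := hP.isNilpotent
    haveI : M.Characteristic := inferInstance
    have hlt : ¬ N ≤ M := by
      intro hle
      have hall : ∀ m, N ≤ (⊤ : Subgroup P).lowerCentralSeries m := by
        intro m
        induction m with
        | zero => exact le_top
        | succ m ih => exact hle.trans (Subgroup.commutator_mono ih le_rfl)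
      obtain ⟨m, hm⟩ := Subgroup.nilpotent_iff_lowerCentralSeries.mp (inferInstance : Group.IsNilpotent P)
      have hb : N = ⊥ := le_bot_iff.mp (hm ▸ hall m)
      refine huv (commutatorElement_eq_one_iff_mul_comm.mp (Subgroup.mem_bot.mp (hb ▸ ?_)))
      exact Subgroup.commutator_mem_commutator (Subgroup.mem_top u) (Subgroup.mem_top v)
    have hcm : ∀ i j, ⁅g i, g j⁆ ∈ M := by
      intro i j
      rcases eq_or_ne i j with rfl | hij
      · rw [commutatorElement_self]; exact one_mem _
      obtain ⟨k, hik, hjk⟩ : ∃ k, i ≠ k ∧ j ≠ k := by revert i j; decide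
      set c := ⁅g i, g j⁆ with hc
      have hcN : c ∈ N := Subgroup.commutator_mem_commutator (Subgroup.mem_top _) (Subgroup.mem_top _)
      have hconj : ∀ w : P, w⁻¹ * c * w * c⁻¹ ∈ M := fun w => by
        have h5 : ⁅c, w⁻¹⁆ ∈ M := Subgroup.commutator_mem_commutator hcN (Subgroup.mem_top _)
        have h6 : w⁻¹ * c * w * c⁻¹ = ⁅c, w⁻¹⁆⁻¹ := by rw [commutatorElement_def]; group
        rw [h6]; exact inv_mem h5
      have hTc : (t i * t j) c * c⁻¹ ∈ M := by
        have e : (t i * t j) c = (g j * g i)⁻¹ * c * (g j * g i) := by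
          show t i (t j c) = _
          rw [hc, commutatorElement_def]
          simp only [map_mul, map_inv, htg, if_neg hij, if_neg hij.symm, if_pos]
          group
        rw [e]; exact hconj _
      obtain ⟨s, hsM, hsfix, -⟩ := fix_step I hI hodd M (mul_mem (ht i) (ht j)) (x := c) (by
        rw [show c⁻¹ * (t i * t j) c = c⁻¹ * ((t i * t j) c * c⁻¹) * c by group]
        exact Subgroup.Normal.conj_mem' inferInstance _ hTc c)
      obtain ⟨m, hm⟩ := Subgroup.mem_zpowers_iff.mp ((hg k i j hij hik hjk _).mp hsfix)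
      have h1 : t i (c * s) = c * s := by
        rw [← hm, map_zpow, htg, if_neg hik]
      have h2 : t i c * c ∈ M := by
        have e : t i c = (g i)⁻¹ * c⁻¹ * g i := by
          rw [hc, commutatorElement_def]
          simp only [map_mul, map_inv, htg, if_neg hij, if_pos]
          group
        have h7 : (g i)⁻¹ * c⁻¹ * g i * c = c⁻¹ * ((g i)⁻¹ * c * g i * c⁻¹)⁻¹ * c := by group
        rw [e, h7]
        exact Subgroup.Normal.conj_mem' inferInstance _ (inv_mem (hconj (g i))) c
      have hts : t i s ∈ M := by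
        have := Subgroup.characteristic_iff_comap_eq.mp (inferInstance : M.Characteristic) (t i)
        rw [← this] at hsM
        exact hsM
      have h3 : c * c ∈ M := by
        rw [map_mul] at h1
        have e : t i c = c * s * (t i s)⁻¹ := eq_mul_inv_of_mul_eq h1
        rw [e] at h2
        have e2 : c * c = (c * s * (t i s)⁻¹ * c) * (c⁻¹ * (s * (t i s)⁻¹) * c)⁻¹ * 1 := by group
        have hcs : c * c = c * (s * (t i s)⁻¹) * c * (c⁻¹ * (s * (t i s)⁻¹) * c)⁻¹ := by group
        rw [hcs, ← mul_assoc c s]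
        exact mul_mem h2 (inv_mem (Subgroup.Normal.conj_mem' inferInstance _ (mul_mem hsM (inv_mem hts)) c))
      obtain ⟨r, hr⟩ := exists_root hodd c
      rw [← hr, ← pow_mul, mul_comm, pow_mul, sq]
      exact pow_mem h3 r
    refine hlt ?_
    have hgc : ∀ a ∈ Set.range (fun i => QuotientGroup.mk' M (g i)), ∀ b ∈ Set.range (fun i => QuotientGroup.mk' M (g i)), a * b = b * a := by
      rintro _ ⟨i, rfl⟩ _ ⟨j, rfl⟩
      show QuotientGroup.mk' M (g i) * QuotientGroup.mk' M (g j) = QuotientGroup.mk' M (g j) * QuotientGroup.mk' M (g i)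
      rw [← commutatorElement_eq_one_iff_mul_comm, ← map_commutatorElement, QuotientGroup.mk'_apply,
        QuotientGroup.eq_one_iff]
      exact hcm i j
    have hQ := Subgroup.isMulCommutative_closure hgc
    have htopQ : Subgroup.closure (Set.range fun i => QuotientGroup.mk' M (g i)) = ⊤ := by
      rw [Set.range_comp' (QuotientGroup.mk' M) g, ← MonoidHom.map_closure, htop,
        Subgroup.map_top_of_surjective _ (QuotientGroup.mk'_surjective M)]
    rw [hN, _root_.commutator_def, Subgroup.commutator_le]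
    intro a _ b _
    rw [← QuotientGroup.eq_one_iff, ← QuotientGroup.mk'_apply, map_commutatorElement, commutatorElement_eq_one_iff_mul_comm]
    exact congrArg Subtype.val (hQ.is_comm.comm ⟨QuotientGroup.mk' M a, htopQ ▸ Subgroup.mem_top _⟩
      ⟨QuotientGroup.mk' M b, htopQ ▸ Subgroup.mem_top _⟩)
  letI : CommGroup P := { mul_comm := hcomm }
  -- every element of `I` is a product of the `t i`
  have hpat : ∀ T ∈ I, ∀ U ∈ I, (∀ k, T (g k) = U (g k)) → T = U := by
    intro T hT U hU h
    refine MulEquiv.ext fun y => ?_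
    have hy : y ∈ Subgroup.closure (Set.range g) := htop ▸ Subgroup.mem_top y
    exact MonoidHom.eqOn_closure (f := T.toMonoidHom) (g := U.toMonoidHom) (by rintro _ ⟨k, rfl⟩; exact h k) hy
  let w : Fin 3 → Bool → MulAut P := fun i b => if b then t i else 1
  have hwI : ∀ i b, w i b ∈ I := fun i b => by cases b <;> simp [w, ht, one_mem]
  have hdec : ∀ T ∈ I, ∃ a b c : Bool, T = w 0 a * w 1 b * w 2 c := by
    intro T hT
    refine ⟨decide (T (g 0) ≠ g 0), decide (T (g 1) ≠ g 1), decide (T (g 2) ≠ g 2),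
      hpat T hT _ (mul_mem (mul_mem (hwI _ _) (hwI _ _)) (hwI _ _)) fun k => ?_⟩
    have key : ∀ (a b c : Bool) k, w 0 a (w 1 b (w 2 c (g k))) =
        if ![a, b, c] k = true then (g k)⁻¹ else g k := fun a b c k => by
      cases a <;> cases b <;> cases c <;> fin_cases k <;> simp [w, htg]
    show T (g k) = w 0 _ (w 1 _ (w 2 _ (g k)))
    rw [key]
    have hb : ![decide (T (g 0) ≠ g 0), decide (T (g 1) ≠ g 1), decide (T (g 2) ≠ g 2)] k = decide (T (g k) ≠ g k) := by
      fin_cases k <;> rfl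
    rw [hb]
    rcases heig T hT k with h | h
    · rw [if_neg (by simp [h])]; exact h
    · rw [if_pos (by simp [h, hne (hg1 k)])]; exact h
  have hiff : ∀ T ∈ I, T ≠ 1 → (¬ Cyc T ↔ ∃ i, T = t i) := by
    intro T hT hT1
    refine ⟨fun hb => ?_, fun ⟨i, hi⟩ => hi ▸ hbroad i⟩
    obtain ⟨a, b, c, rfl⟩ := hdec T hT
    cases a <;> cases b <;> cases c <;> simp only [w, if_true, if_false, mul_one, one_mul, Bool.false_eq_true] at hb hT1 ⊢
    · exact absurd rfl hT1
    · exact ⟨2, rfl⟩
    · exact ⟨1, rfl⟩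
    · exact absurd (hcyc 1 2 (by decide)) hb
    · exact ⟨0, rfl⟩
    · exact absurd (hcyc 0 2 (by decide)) hb
    · exact absurd (hcyc 0 1 (by decide)) hb
    · refine absurd ⟨1, fun y => ⟨fun hy => ?_, fun hy => ?_⟩⟩ hb
      · have hall : ∀ z : P, (t 0 * t 1 * t 2) z = z⁻¹ := by
          intro z
          have hz : z ∈ Subgroup.closure (Set.range g) := htop ▸ Subgroup.mem_top z
          induction hz using Subgroup.closure_induction with
          | mem z hz =>
            obtain ⟨k, rfl⟩ := hz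
            show t 0 (t 1 (t 2 (g k))) = (g k)⁻¹
            fin_cases k <;> simp [htg]
          | one => simp
          | mul a b _ _ ha hb => rw [map_mul, ha, hb, mul_inv]
          | inv a _ ha => rw [map_inv, ha]
        rw [Subgroup.zpowers_one_eq_bot, Subgroup.mem_bot]
        exact eq_one_of_inv hodd ((hy.symm.trans (hall y)))
      · rw [Subgroup.zpowers_one_eq_bot, Subgroup.mem_bot] at hy
        rw [hy, map_one]
  have htinj : Function.Injective t := by
    intro i j h
    by_contra hij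
    have := congrArg (fun T : MulAut P => T (g i)) h
    simp only [htg, if_pos rfl, if_neg (Ne.symm hij)] at this
    exact hne (hg1 i) this
  have hset : {T : MulAut P | T ∈ I ∧ T ≠ 1 ∧ ¬ Cyc T} = Set.range t := by
    ext T
    refine ⟨fun ⟨h1, h2, h3⟩ => ?_, ?_⟩
    · obtain ⟨i, rfl⟩ := (hiff T h1 h2).mp h3
      exact ⟨i, rfl⟩
    · rintro ⟨i, rfl⟩
      exact ⟨ht i, ht1 i, hbroad i⟩
  refine ⟨⟨⟨hcomm⟩⟩, ⟨g 0, g 1, g 2, ?_⟩, ?_, ?_, ?_, ?_⟩
  · rw [eq_top_iff, ← htop]
    refine Subgroup.closure_mono ?_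
    rintro _ ⟨k, rfl⟩
    fin_cases k <;> simp
  · rintro ⟨a, b, hab⟩
    -- modulo `p`-th powers
    let R : Subgroup P := (powMonoidHom p : P →* P).range
    have hR : ∀ (T : MulAut P) (y : P), y ∈ R → T y ∈ R := by
      rintro T _ ⟨z, rfl⟩
      exact ⟨T z, (map_pow T z p).symm⟩
    have hQp : ∀ y : P, y ^ p ∈ R := fun y => ⟨y, rfl⟩
    have hgR : ∀ k, g k ∉ R := by
      rintro k ⟨y, hy⟩
      have hyk : ∀ i j, i ≠ j → i ≠ k → j ≠ k → (t i * t j) y = y := by
        intro i j hij hik hjk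
        have h5 : ((t i * t j) y * y⁻¹) ^ p = 1 := by
          rw [mul_pow, inv_pow, ← map_pow, show y ^ p = g k from hy, hTfix i j k hij hik hjk, mul_inv_cancel]
        -- the element `(t i * t j) y / y` is inverted by `t i * t j`
        set d := (t i * t j) y * y⁻¹ with hd
        obtain ⟨r, hr⟩ := exists_root hodd d
        have hdinv : (t i * t j) d = d⁻¹ := by
          rw [hd, map_mul, map_inv, invol I hI (mul_mem (ht i) (ht j)), mul_inv_rev, inv_inv]
        have hfix : (t i * t j) (y * d ^ r) = y * d ^ r := by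
          rw [map_mul, map_pow, hdinv, show (t i * t j) y = d * y by rw [hd]; group, mul_comm d y, mul_assoc]
          congr 1
          calc d * d⁻¹ ^ r = (d ^ r) ^ 2 * (d ^ r)⁻¹ := by rw [hr, inv_pow]
            _ = d ^ r := by group
        obtain ⟨m, hm⟩ := Subgroup.mem_zpowers_iff.mp ((hg k i j hij hik hjk _).mp hfix)
        have h6 : g k ^ (m * p - 1) = 1 := by
          rw [zpow_sub, zpow_mul, hm, zpow_natCast, mul_pow, ← pow_mul, mul_comm r p, pow_mul, h5,
            one_pow, mul_one, show y ^ p = g k from hy, zpow_one, mul_inv_cancel]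
        obtain ⟨e, he⟩ := IsPGroup.iff_orderOf.mp hP (g k)
        rcases e with _ | e
        · exact absurd (orderOf_eq_one_iff.mp (by rw [he, pow_zero])) (hg1 k)
        have h7 := orderOf_dvd_iff_zpow_eq_one.mpr h6
        rw [he] at h7
        have h8 : (p : ℤ) ∣ 1 := by
          have := dvd_sub (dvd_mul_left (p : ℤ) m) (dvd_trans (by exact_mod_cast dvd_pow_self p (Nat.succ_ne_zero e)) h7)
          rwa [sub_sub_cancel] at this
        exact absurd (Int.natCast_dvd_natCast.mp (by exact_mod_cast h8 : (p : ℤ) ∣ ((1 : ℕ) : ℤ))) hp.not_dvd_one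
      obtain ⟨i, j, hki, hkj, hij⟩ := hothers k
      obtain ⟨m, hm⟩ := Subgroup.mem_zpowers_iff.mp ((hg k i j hij hki.symm hkj.symm _).mp (hyk i j hij hki.symm hkj.symm))
      have h6 : g k ^ (m * p - 1) = 1 := by
        rw [zpow_sub, zpow_mul, hm, zpow_natCast, show y ^ p = g k from hy, zpow_one, mul_inv_cancel]
      obtain ⟨e, he⟩ := IsPGroup.iff_orderOf.mp hP (g k)
      rcases e with _ | e
      · exact absurd (orderOf_eq_one_iff.mp (by rw [he, pow_zero])) (hg1 k)
      have h7 := orderOf_dvd_iff_zpow_eq_one.mpr h6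
      rw [he] at h7
      have h8 : (p : ℤ) ∣ 1 := by
        have := dvd_sub (dvd_mul_left (p : ℤ) m) (dvd_trans (by exact_mod_cast dvd_pow_self p (Nat.succ_ne_zero e)) h7)
        rwa [sub_sub_cancel] at this
      exact hp.not_dvd_one (by exact_mod_cast h8)
    let q := QuotientGroup.mk' R
    let Φ : Fin p × Fin p × Fin p → P ⧸ R := fun u => q (g 0 ^ (u.1 : ℕ) * g 1 ^ (u.2.1 : ℕ) * g 2 ^ (u.2.2 : ℕ))
    let Ψ : Fin p × Fin p → P ⧸ R := fun u => q (a ^ (u.1 : ℕ) * b ^ (u.2 : ℕ))
    have hmod : ∀ (y : P) (n : ℕ), q (y ^ n) = q (y ^ (n % p)) := fun y n => by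
      conv_lhs => rw [← Nat.mod_add_div n p, pow_add, pow_mul]
      rw [map_mul, map_pow q (y ^ p), (QuotientGroup.eq_one_iff _).mpr (hQp y) |> fun h : q (y ^ p) = 1 => h, one_pow, mul_one]
    have hΨ : Function.Surjective Ψ := by
      intro z
      obtain ⟨y, rfl⟩ := QuotientGroup.mk'_surjective R z
      have hy : y ∈ Subgroup.closure ({a, b} : Set P) := hab ▸ Subgroup.mem_top y
      rw [← Subgroup.mem_toSubmonoid, Subgroup.closure_toSubmonoid_of_finite, Submonoid.mem_closure_pair] at hy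
      obtain ⟨m, n, rfl⟩ := hy
      refine ⟨(⟨m % p, Nat.mod_lt _ hp.pos⟩, ⟨n % p, Nat.mod_lt _ hp.pos⟩), ?_⟩
      show q (a ^ (m % p) * b ^ (n % p)) = q (a ^ m * b ^ n)
      rw [map_mul, map_mul, ← hmod, ← hmod]
    have hΦ : Function.Injective Φ := by
      rintro ⟨a0, a1, a2⟩ ⟨b0, b1, b2⟩ h
      have key : ∀ (k : Fin 3) (c d : Fin p) (Y Y' : P), t k Y = Y → t k Y' = Y' →
          q (g k ^ (c : ℕ) * Y) = q (g k ^ (d : ℕ) * Y') → c = d := by
        intro k c d Y Y' hY hY' heq
        have h1 : (g k ^ (c : ℕ) * Y)⁻¹ * (g k ^ (d : ℕ) * Y') ∈ R := QuotientGroup.eq.mp heq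
        have h2 := hR (t k) _ h1
        simp only [map_mul, map_inv, map_pow, hY, hY', htg, if_pos, inv_pow] at h2
        have h3 := mul_mem h1 (inv_mem h2)
        have h4 : g k ^ (2 * ((d : ℤ) - c)) ∈ R := by
          have e : g k ^ (2 * ((d : ℤ) - c)) = (g k ^ (c : ℕ) * Y)⁻¹ * (g k ^ (d : ℕ) * Y') *
              (((g k ^ (c : ℕ))⁻¹ * Y)⁻¹ * ((g k ^ (d : ℕ))⁻¹ * Y'))⁻¹ := by
            rw [← zpow_natCast (g k) c, ← zpow_natCast (g k) d]
            apply Additive.ofMul.injective
            simp only [ofMul_mul, ofMul_inv, ofMul_zpow]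
            module
          rw [e]; exact h3
        by_contra hcd
        have hndvd : ¬ (p : ℤ) ∣ 2 * ((d : ℤ) - c) := by
          intro hdvd
          rcases (Nat.prime_iff_prime_int.mp hp).dvd_or_dvd hdvd with h5 | h5
          · exact hp2 ((Nat.prime_dvd_prime_iff_eq hp Nat.prime_two).mp (by exact_mod_cast h5))
          · obtain ⟨e, he⟩ := h5
            have := c.2; have := d.2
            rcases lt_trichotomy e 0 with he0 | he0 | he0
            · nlinarith
            · rw [he0, mul_zero] at he; exact hcd (Fin.ext (by omega))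
            · nlinarith
        obtain ⟨u, v, huv⟩ : IsCoprime (2 * ((d : ℤ) - c)) (p : ℤ) :=
          ((Nat.prime_iff_prime_int.mp hp).coprime_iff_not_dvd.mpr hndvd).symm
        refine hgR k ?_
        rw [← zpow_one (g k), ← huv, zpow_add, mul_comm u, mul_comm v, zpow_mul (g k) _ u, zpow_mul (g k) _ v, zpow_natCast]
        exact mul_mem (Subgroup.zpow_mem _ h4 u) (Subgroup.zpow_mem _ (hQp _) v)
      have h0 : a0 = b0 := key 0 a0 b0 (g 1 ^ (a1 : ℕ) * g 2 ^ (a2 : ℕ)) (g 1 ^ (b1 : ℕ) * g 2 ^ (b2 : ℕ))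
        (by simp [map_mul, map_pow, htg]) (by simp [map_mul, map_pow, htg]) (by simpa [Φ, mul_assoc] using h)
      have h1 : a1 = b1 := key 1 a1 b1 (g 0 ^ (a0 : ℕ) * g 2 ^ (a2 : ℕ)) (g 0 ^ (b0 : ℕ) * g 2 ^ (b2 : ℕ))
        (by simp [map_mul, map_pow, htg]) (by simp [map_mul, map_pow, htg])
        (by simpa [Φ, mul_assoc, mul_left_comm, mul_comm] using h)
      have h2 : a2 = b2 := key 2 a2 b2 (g 0 ^ (a0 : ℕ) * g 1 ^ (a1 : ℕ)) (g 0 ^ (b0 : ℕ) * g 1 ^ (b1 : ℕ))
        (by simp [map_mul, map_pow, htg]) (by simp [map_mul, map_pow, htg])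
        (by simpa [Φ, mul_assoc, mul_left_comm, mul_comm] using h)
      rw [h0, h1, h2]
    have c1 := Nat.card_le_card_of_injective Φ hΦ
    have c2 := Nat.card_le_card_of_surjective Ψ hΨ
    simp only [Nat.card_prod, Nat.card_fin] at c1 c2
    have h2p := hp.two_le
    have hlt : p * p < p * (p * p) := by nlinarith
    omega
  · show Nat.card ↑{T : MulAut P | T ∈ I ∧ T ≠ 1 ∧ ¬ Cyc T} = 3
    rw [hset, ← Nat.card_congr (Equiv.ofInjective t htinj), Nat.card_fin]
  · show Subgroup.closure {T : MulAut P | T ∈ I ∧ T ≠ 1 ∧ ¬ Cyc T} = I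
    rw [hset]
    refine le_antisymm ((Subgroup.closure_le _).mpr (by rintro _ ⟨i, rfl⟩; exact ht i)) fun T hT => ?_
    obtain ⟨a, b, c, rfl⟩ := hdec T hT
    have hwc : ∀ i b, w i b ∈ Subgroup.closure (Set.range t) := fun i b => by
      cases b
      · exact one_mem _
      · exact Subgroup.subset_closure ⟨i, rfl⟩
    exact mul_mem (mul_mem (hwc 0 a) (hwc 1 b)) (hwc 2 c)
  · show (I₀ : Set (MulAut P)) = {S : MulAut P | ∃ T T' : MulAut P, T ∈ I ∧ T' ∈ I ∧ T ≠ 1 ∧ T' ≠ 1 ∧ ¬ Cyc T ∧ ¬ Cyc T' ∧ S = T * T'}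
    ext S
    refine ⟨fun hS => ?_, ?_⟩
    · have hodd3 : t 0 * t 1 * t 2 ∉ I₀ ∧ ∀ i, t i ∉ I₀ := by
        have hno : ∀ i, t i ∉ I₀ := fun i hi => hbroad i (hdisj _ hi (ht1 i))
        refine ⟨fun hi => ?_, hno⟩
        refine hno 2 ?_
        have := mul_mem (inv_mem (hI0 0 1)) hi
        rwa [inv_mul_cancel_left] at this
      obtain ⟨a, b, c, rfl⟩ := hdec S (hI₀.le hS)
      have mk : ∀ i j, ∃ T T' : MulAut P, T ∈ I ∧ T' ∈ I ∧ T ≠ 1 ∧ T' ≠ 1 ∧ ¬ Cyc T ∧ ¬ Cyc T' ∧ t i * t j = T * T' :=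
        fun i j => ⟨t i, t j, ht i, ht j, ht1 i, ht1 j, hbroad i, hbroad j, rfl⟩
      have hsq : ∀ i, t i * t i = 1 := fun i => by have := hI.2 _ (ht i); rwa [sq] at this
      cases a <;> cases b <;> cases c <;> simp only [w, if_true, if_false, mul_one, one_mul, Bool.false_eq_true, SetLike.mem_coe] at hS ⊢
      · exact hsq 0 ▸ mk 0 0
      · exact absurd hS (hodd3.2 2)
      · exact absurd hS (hodd3.2 1)
      · exact mk 1 2
      · exact absurd hS (hodd3.2 0)
      · exact mk 0 2
      · exact mk 0 1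
      · exact absurd hS hodd3.1
    · rintro ⟨T, T', hT, hT', h1, h1', hb, hb', rfl⟩
      exact hprod T hT T' hT' h1 h1' hb hb'

end Cfsg.Agent.S4412
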