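import Cfsg.Statements.S4416
import Cfsg.Agent.Lib.TwoGroups.CyclicMax
import Cfsg.Agent.Lib.LocalEvenB.ExtraspecialAut

set_option autoImplicit false
open Cfsg

namespace Cfsg.Agent.S4416

open Subgroup
open CfsgLib.TwoGroups.CyclicMax

universe u v

/-- The working form of "extraspecial 2-group", allowing order two. -/
structure Ex (E : Type u) [Group E] (z : E) : Prop where
  ne : z ≠ 1
  sq : z * z = 1
  central : ∀ g, z * g = g * z
  center : ∀ c : E, (∀ g, c * g = g * c) → c = 1 ∨ c = z
  squares : ∀ g : E, g * g = 1 ∨ g * g = z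
  comms : ∀ g h : E, g * h = h * g ∨ g * h = z * (h * g)

/-- The number of solutions of `g * g = 1`. -/
noncomputable def roots (E : Type u) [Group E] : ℕ := Nat.card {g : E // g * g = 1}

variable {E : Type u} [Group E] [Finite E] {z : E}

omit [Finite E] in
theorem pow_four (h : Ex E z) (g : E) : g * g * (g * g) = 1 := by
  rcases h.squares g with e | e <;> rw [e]
  exacts [mul_one 1, h.sq]

omit [Finite E] in
theorem zmul (h : Ex E z) (g k : E) : g * (z * k) = z * (g * k) := by
  rw [← mul_assoc, ← h.central g, mul_assoc]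

omit [Finite E] in
/-- Two elements with the same noncommutation behaviour multiply into the centraliser. -/
theorem comm_prod (h : Ex E z) {a b x : E} (ha : a * x = z * (x * a)) (hb : b * x = z * (x * b)) :
    (a * b) * x = x * (a * b) := by
  rw [mul_assoc, hb, zmul h, ← mul_assoc a, ha, mul_assoc z, ← mul_assoc z, h.sq, one_mul, mul_assoc]

/-- A pair of noncommuting involutions, provided one noncentral involution exists. -/
theorem exists_pair (h : Ex E z) {x : E} (hx : x * x = 1) (hxc : ∃ g, x * g ≠ g * x) :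
    ∃ y, y * y = 1 ∧ x * y = z * (y * x) := by
  obtain ⟨w, hw⟩ := hxc
  have hxw := (h.comms x w).resolve_left hw
  rcases h.squares w with e | e
  · exact ⟨w, e, hxw⟩
  · refine ⟨w * x, ?_, ?_⟩
    · calc w * x * (w * x) = w * (x * w) * x := by group
        _ = w * (z * (w * x)) * x := by rw [hxw]
        _ = z * ((w * w) * (x * x)) := by rw [zmul h]; group
        _ = 1 := by rw [e, hx, mul_one, h.sq]
    · rw [← mul_assoc x, hxw, mul_assoc z]

/-- Without noncentral involutions a nonabelian group of this kind is the quaternion group. -/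
theorem quaternion_case (h : Ex E z) (hno : ∀ x : E, x * x = 1 → ∀ g, x * g = g * x)
    (hna : ∃ x g : E, x * g ≠ g * x) : Nat.card E = 8 ∧ roots E = 2 ∧ Nonempty (E ≃* QuaternionGroup 2) := by
  classical
  obtain ⟨a, b, hab⟩ := hna
  have hsq : ∀ x : E, (∃ g, x * g ≠ g * x) → x * x = z := fun x ⟨g, hg⟩ =>
    (h.squares x).resolve_left fun e => hg (hno x e g)
  have ha := hsq a ⟨b, hab⟩
  have hb := hsq b ⟨a, Ne.symm hab⟩
  set C := centralizer ({a} : Set E) with hC
  have hC4 : ∀ c ∈ C, c = 1 ∨ c = z ∨ c = a ∨ c = z * a := by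
    intro c hc
    have hca : c * a = a * c := mem_centralizer_singleton_iff.1 hc
    by_cases hcc : ∀ g, c * g = g * c
    · rcases h.center c hcc with e | e <;> simp [e]
    simp only [not_forall] at hcc
    have hcz := hsq c hcc
    have h1 : (a * c) * (a * c) = 1 := by
      calc a * c * (a * c) = a * (c * a) * c := by group
        _ = (a * a) * (c * c) := by rw [hca]; group
        _ = 1 := by rw [ha, hcz, h.sq]
    have hai : a⁻¹ = z * a := inv_eq_of_mul_eq_one_right (by rw [zmul h, ha, h.sq])
    rcases h.center _ (hno _ h1) with e | e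
    · rw [eq_inv_of_mul_eq_one_right e, hai]; simp
    · refine Or.inr (Or.inr (Or.inl ?_))
      have h2 : a * c = a * a := e.trans ha.symm
      exact mul_left_cancel h2
  have hcard4 : Nat.card C ≤ 4 := by
    calc Nat.card C ≤ Nat.card ({1, z, a, z * a} : Finset E) := by
          refine Nat.card_le_card_of_injective (fun c => ⟨(c : E), by
            rcases hC4 c c.2 with e | e | e | e <;> simp [e]⟩) fun c d e => Subtype.ext ?_
          exact congrArg (fun t : ({1, z, a, z * a} : Finset E) => (t : E)) e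
      _ ≤ 4 := by
        rw [Nat.card_eq_fintype_card, Fintype.card_coe]
        exact Finset.card_le_four
  have hidx : C.index ≤ 2 := by
    have : Function.Surjective fun (i : Bool) => ((if i then b else 1 : E) : E ⧸ C) := by
      intro q
      obtain ⟨g, rfl⟩ := QuotientGroup.mk_surjective q
      rcases h.comms a g with e | e
      · refine ⟨false, (QuotientGroup.eq).2 ?_⟩
        simpa [hC, mem_centralizer_singleton_iff] using e.symm
      · refine ⟨true, (QuotientGroup.eq).2 ?_⟩
        show b⁻¹ * g ∈ C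
        rw [hC, mem_centralizer_singleton_iff]
        have e2 := (h.comms a b).resolve_left hab
        have hbi : b⁻¹ = z * b := inv_eq_of_mul_eq_one_right (by rw [zmul h, hb, h.sq])
        have e' : g * a = z * (a * g) := by rw [e, ← mul_assoc, h.sq, one_mul]
        have e2' : b * a = z * (a * b) := by rw [e2, ← mul_assoc, h.sq, one_mul]
        rw [hbi, mul_assoc z, mul_assoc z, zmul h, comm_prod h e2' e']
    have := Nat.card_le_card_of_surjective _ this
    simpa [Subgroup.index] using this
  have hco : orderOf a = 4 := by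
    refine orderOf_eq_prime_pow (p := 2) (n := 1) ?_ ?_
    · rw [pow_one, pow_two, ha]; exact h.ne
    · rw [show (2 : ℕ) ^ (1 + 1) = 2 * 2 from rfl, pow_mul, pow_two, pow_two, ha, h.sq]
  have hbA : b ∉ zpowers a := by
    rintro ⟨i, rfl⟩
    exact hab ((Commute.refl a).zpow_right i).eq
  have hcard : Nat.card E = 8 := by
    have h1 := C.card_mul_index
    have h2 : (zpowers a) ≤ C := zpowers_le.2 (mem_centralizer_singleton_iff.2 rfl)
    have h3 := card_le_of_le h2
    rw [Nat.card_zpowers, hco] at h3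
    have h4 : C.index ≠ 1 := fun e => by
      rw [index_eq_one] at e
      exact hab (mem_centralizer_singleton_iff.1 (e ▸ mem_top b : b ∈ C)).symm
    have h5 : C.index ≠ 0 := index_ne_zero_of_finite
    rw [show Nat.card C = 4 by omega, show C.index = 2 by omega] at h1
    exact h1.symm
  refine ⟨hcard, ?_, quaternion_iso (m := 2) (two_ne_zero) hco (by rw [hcard]) hbA ?_ ?_⟩
  · have e : ∀ g : E, g * g = 1 ↔ g = 1 ∨ g = z := fun g =>
      ⟨fun e => h.center g (hno g e), by rintro (rfl | rfl); exacts [mul_one 1, h.sq]⟩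
    rw [roots, Nat.card_congr (Equiv.subtypeEquivRight e), Nat.card_eq_two_iff]
    exact ⟨⟨1, Or.inl rfl⟩, ⟨z, Or.inr rfl⟩, by simp [Ne.symm h.ne], Set.eq_univ_of_forall fun g => by
      rcases g with ⟨g, rfl | rfl⟩ <;> simp⟩
  · rw [hb, pow_two, ha]
  · have e2 := (h.comms a b).resolve_left hab
    have e2' : b * a = z * (a * b) := by rw [e2, ← mul_assoc, h.sq, one_mul]
    rw [eq_inv_iff_mul_eq_one, e2', mul_assoc z, mul_assoc a, mul_inv_cancel, mul_one, mul_assoc, ha, h.sq]

/-- A splitting `E = D * C` with `D` dihedral of order 8. -/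
structure Split (E : Type u) [Group E] (z : E) where
  C : Subgroup E
  F : DihedralGroup 4 × C →* E
  hz : z ∈ C
  ex : Ex C ⟨z, hz⟩
  surj : Function.Surjective F
  ker : ∀ p, F p = 1 ↔ p = 1 ∨ p = (DihedralGroup.r 2, ⟨z, hz⟩)

theorem exists_split (h : Ex E z) {x y : E} (hx : x * x = 1) (hy : y * y = 1)
    (hxy : x * y = z * (y * x)) : Nonempty (Split E z) := by
  obtain ⟨a, ha⟩ : ∃ a, a = x * y := ⟨_, rfl⟩
  have hyx : y * x = z * a := by rw [ha, hxy, ← mul_assoc, h.sq, one_mul]
  have haa : a * a = z := by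
    calc a * a = x * (y * x) * y := by rw [ha]; group
      _ = z * ((x * x) * (y * y)) := by rw [hyx, zmul h, ha]; group
      _ = z := by rw [hx, hy, mul_one, mul_one]
  have hao : orderOf a = 4 := by
    refine orderOf_eq_prime_pow (p := 2) (n := 1) ?_ ?_
    · rw [pow_one, pow_two, haa]; exact h.ne
    · rw [show (2 : ℕ) ^ (1 + 1) = 2 * 2 from rfl, pow_mul, pow_two, pow_two, haa, h.sq]
  have hxi : x⁻¹ = x := inv_eq_of_mul_eq_one_right hx
  have hba : x * a * x⁻¹ = a⁻¹ := by
    rw [hxi, ha, ← mul_assoc, hx, one_mul, mul_inv_rev, inv_eq_of_mul_eq_one_right hx,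
      inv_eq_of_mul_eq_one_right hy]
  have hxA : x ∉ zpowers a := by
    rintro ⟨i, hi⟩
    have h1 : Commute x a := (show a ^ i = x from hi) ▸ (Commute.refl a).zpow_left i
    rw [h1.eq, mul_inv_cancel_right, eq_inv_iff_mul_eq_one, haa] at hba
    exact h.ne hba
  let f : DihedralGroup 4 → E := fun g => match g with
    | .r i => pw a i
    | .sr i => x * pw a i
  have hmul : ∀ p q, f (p * q) = f p * f q := by
    rintro (i | i) (j | j)
    · simp only [DihedralGroup.r_mul_r, f, pw_add hao]
    · simp only [DihedralGroup.r_mul_sr, f]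
      rw [← mul_assoc, pw_mul_inv hao hba, mul_assoc, ← pw_add hao, sub_eq_neg_add]
    · simp only [DihedralGroup.sr_mul_r, f, pw_add hao, mul_assoc]
    · simp only [DihedralGroup.sr_mul_sr, f]
      rw [mul_assoc x (pw a i), ← mul_assoc (pw a i) x, pw_mul_inv hao hba, ← mul_assoc, ← mul_assoc, hx,
        one_mul, ← pw_add hao, sub_eq_neg_add]
  let δ : DihedralGroup 4 →* E := MonoidHom.mk' f hmul
  have hinj : Function.Injective δ := by
    rintro (i | i) (j | j) e <;> simp only [δ, MonoidHom.mk'_apply, f] at e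
    · rw [pw_injective hao e]
    · exact absurd (by rw [← mul_inv_cancel_right x (pw a j), ← e]; exact mul_mem (pw_mem a i) (inv_mem (pw_mem a j))) hxA
    · exact absurd (by rw [← mul_inv_cancel_right x (pw a i), e]; exact mul_mem (pw_mem a j) (inv_mem (pw_mem a i))) hxA
    · rw [pw_injective hao (mul_left_cancel e)]
  have hr1 : δ (.r 1) = a := by
    show pw a (1 : ZMod 4) = a
    have := pw_intCast hao 1
    rwa [Int.cast_one, zpow_one] at this
  have hs0 : δ (.sr 0) = x := by
    show x * pw a (0 : ZMod 4) = x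
    have := pw_intCast hao 0
    rw [Int.cast_zero, zpow_zero] at this
    rw [this, mul_one]
  have hr2 : δ (.r 2) = z := by
    rw [show (DihedralGroup.r 2 : DihedralGroup 4) = .r 1 * .r 1 from rfl, map_mul, hr1, haa]
  set C := centralizer ({x, y} : Set E) with hC
  have hmemC : ∀ g, g ∈ C ↔ g * x = x * g ∧ g * y = y * g := fun g => by
    rw [hC, mem_centralizer_iff]
    simp only [Set.mem_insert_iff, Set.mem_singleton_iff, forall_eq_or_imp, forall_eq]
    exact ⟨fun e => ⟨e.1.symm, e.2.symm⟩, fun e => ⟨e.1.symm, e.2.symm⟩⟩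
  have hcomm : ∀ (d : DihedralGroup 4) (c : C), Commute (δ d) c := by
    intro d c
    have h1 := (hmemC c).1 c.2
    have hca : Commute a (c : E) := by
      rw [ha]
      exact (show Commute (c : E) x from h1.1).symm.mul_left (show Commute (c : E) y from h1.2).symm
    have hp : ∀ i : ZMod 4, Commute (pw a i) c := fun i => hca.zpow_left _
    rcases d with i | i
    · exact hp i
    · exact (show Commute (c : E) x from h1.1).symm.mul_left (hp i)
  let F : DihedralGroup 4 × C →* E := MonoidHom.noncommCoprod δ C.subtype hcomm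
  have hdec : ∀ g : E, ∃ d : DihedralGroup 4, (δ d)⁻¹ * g ∈ C := by
    have hxy' : y * x = z * (x * y) := hyx.trans (by rw [ha])
    intro g
    rcases h.comms g x with ex | ex <;> rcases h.comms g y with ey | ey
    · exact ⟨1, by rw [map_one, inv_one, one_mul, hmemC]; exact ⟨ex, ey⟩⟩
    · refine ⟨.sr 0, ?_⟩
      rw [hs0, hxi, hmemC]
      exact ⟨by rw [mul_assoc, ex], comm_prod h hxy ey⟩
    · refine ⟨.sr 1, ?_⟩
      rw [show (DihedralGroup.sr 1 : DihedralGroup 4) = .sr 0 * .r 1 from rfl, map_mul, hs0, hr1, ha,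
        ← mul_assoc, hx, one_mul, inv_eq_of_mul_eq_one_right hy, hmemC]
      exact ⟨comm_prod h hxy' ex, by rw [mul_assoc, ey]⟩
    · refine ⟨.r 1, ?_⟩
      rw [hr1, hmemC]
      have ha1 : a⁻¹ * x = z * (x * a⁻¹) := by
        rw [ha, mul_inv_rev, inv_eq_of_mul_eq_one_right hx, inv_eq_of_mul_eq_one_right hy,
          ← mul_assoc x, hxy, mul_assoc z, ← mul_assoc z, h.sq, one_mul]
      have ha2 : a⁻¹ * y = z * (y * a⁻¹) := by
        rw [ha, mul_inv_rev, inv_eq_of_mul_eq_one_right hx, inv_eq_of_mul_eq_one_right hy]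
        rw [mul_assoc y x y, hxy, zmul h]
      exact ⟨comm_prod h ha1 ex, comm_prod h ha2 ey⟩
  have hzC : z ∈ C := (hmemC z).2 ⟨h.central x, h.central y⟩
  have hsurj : Function.Surjective F := by
    intro g
    obtain ⟨d, hd⟩ := hdec g
    exact ⟨(d, ⟨_, hd⟩), mul_inv_cancel_left (δ d) g⟩
  have hker : ∀ p, F p = 1 ↔ p = 1 ∨ p = (DihedralGroup.r 2, ⟨z, hzC⟩) := by
    rintro ⟨d, c⟩
    constructor
    · intro e
      have e' : δ d * (c : E) = 1 := e
      have hd : δ d = (c : E)⁻¹ := eq_inv_of_mul_eq_one_left e'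
      have hc := (hmemC _).1 (inv_mem c.2)
      rw [← hd] at hc
      have h1 : d * .sr 0 = .sr 0 * d := hinj (by rw [map_mul, map_mul, hs0]; exact hc.1)
      have h2 : d * .r 1 = .r 1 * d := hinj (by
        rw [map_mul, map_mul, hr1, ha, ← mul_assoc, hc.1, mul_assoc, hc.2, mul_assoc])
      have hd2 : d = 1 ∨ d = .r 2 :=
        (show ∀ d : DihedralGroup 4, d * .sr 0 = .sr 0 * d → d * .r 1 = .r 1 * d → d = 1 ∨ d = .r 2
          by decide) d h1 h2
      rcases hd2 with rfl | rfl
      · rw [map_one, one_mul] at e'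
        exact Or.inl (Prod.ext rfl (Subtype.ext e'))
      · rw [hr2] at e'
        refine Or.inr (Prod.ext rfl (Subtype.ext ?_))
        show (c : E) = z
        rw [eq_inv_of_mul_eq_one_right e', inv_eq_of_mul_eq_one_right h.sq]
    · rintro (e | e)
      · rw [e, map_one]
      · rw [e]; show δ (.r 2) * z = 1; rw [hr2, h.sq]
  refine ⟨⟨C, F, hzC, ?_, hsurj, hker⟩⟩
  refine ⟨fun e => h.ne (congrArg Subtype.val e), Subtype.ext h.sq, fun g => Subtype.ext (h.central g),
    fun c hc => ?_, fun g => (h.squares g).imp (fun e => Subtype.ext e) (fun e => Subtype.ext e),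
    fun g k => (h.comms g k).imp (fun e => Subtype.ext e) (fun e => Subtype.ext e)⟩
  refine (h.center c ?_).imp (fun e => Subtype.ext e) (fun e => Subtype.ext e)
  intro g
  obtain ⟨⟨d, k⟩, rfl⟩ := hsurj g
  show (c : E) * (δ d * k) = δ d * k * c
  rw [← mul_assoc, ← (hcomm d c).eq, mul_assoc, show (c : E) * k = k * c from congrArg Subtype.val (hc k), mul_assoc]

namespace Split

variable (S : Split E z)

theorem card : Nat.card E = 4 * Nat.card S.C := by
  classical
  have h1 : Nat.card S.F.ker = 2 := by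
    rw [Nat.card_eq_two_iff]
    refine ⟨1, ⟨(DihedralGroup.r 2, ⟨z, S.hz⟩), (S.ker _).2 (Or.inr rfl)⟩, ?_, Set.eq_univ_of_forall fun p => ?_⟩
    · intro e
      have := congrArg (fun p : S.F.ker => (p : DihedralGroup 4 × S.C).1) e
      exact absurd this (show (1 : DihedralGroup 4) ≠ .r 2 by decide)
    · rcases (S.ker _).1 p.2 with e | e
      · exact Or.inl (Subtype.ext e)
      · exact Or.inr (Subtype.ext e)
  have h2 := S.F.ker.card_eq_card_quotient_mul_card_subgroup
  rw [h1, Nat.card_congr (QuotientGroup.quotientKerEquivOfSurjective S.F S.surj).toEquiv,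
    Nat.card_prod, Nat.card_eq_fintype_card, DihedralGroup.card] at h2
  omega

theorem roots_eq (h : Ex E z) : roots E = 2 * roots S.C + Nat.card S.C := by
  classical
  have h1 : Nat.card S.F.ker = 2 := by
    have h2 := S.F.ker.card_eq_card_quotient_mul_card_subgroup
    rw [Nat.card_congr (QuotientGroup.quotientKerEquivOfSurjective S.F S.surj).toEquiv,
      Nat.card_prod, Nat.card_eq_fintype_card, DihedralGroup.card, S.card] at h2
    have : 0 < Nat.card S.C := Nat.card_pos
    nlinarith
  let s := Function.surjInv S.surj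
  have hs : ∀ g, S.F (s g) = g := Function.surjInv_eq S.surj
  let e1 : {p : DihedralGroup 4 × S.C // S.F p * S.F p = 1} ≃ {g : E // g * g = 1} × S.F.ker :=
    { toFun := fun p => (⟨S.F p, p.2⟩, ⟨(s (S.F p))⁻¹ * p, by
        rw [MonoidHom.mem_ker, map_mul, map_inv, hs, inv_mul_cancel]⟩)
      invFun := fun q => ⟨s q.1 * q.2, by
        rw [map_mul, hs, MonoidHom.mem_ker.1 q.2.2, mul_one]; exact q.1.2⟩
      left_inv := fun p => Subtype.ext (mul_inv_cancel_left _ _)
      right_inv := fun q => by
        have e : S.F (s q.1 * q.2) = q.1 := by rw [map_mul, hs, MonoidHom.mem_ker.1 q.2.2, mul_one]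
        refine Prod.ext (Subtype.ext e) (Subtype.ext ?_)
        show (s (S.F (s q.1 * q.2)))⁻¹ * (s q.1 * q.2) = q.2
        rw [e, inv_mul_cancel_left] }
  haveI : Fintype S.C := Fintype.ofFinite _
  have hiff : ∀ (d : DihedralGroup 4) (c : S.C), S.F (d, c) * S.F (d, c) = 1 ↔
      (if d * d = 1 then c * c = 1 else ¬ c * c = 1) := by
    intro d c
    rw [← map_mul, S.ker, Prod.mk_mul_mk]
    have hd : ∀ d : DihedralGroup 4, d * d = 1 ∨ d * d = .r 2 := by decide
    rcases hd d with e | e
    · rw [if_pos e, e]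
      constructor
      · rintro (h1 | h1)
        · exact congrArg Prod.snd h1
        · exact absurd (congrArg Prod.fst h1) (show (1 : DihedralGroup 4) ≠ .r 2 by decide)
      · exact fun h1 => Or.inl (by rw [h1]; rfl)
    · have hne : d * d ≠ 1 := by rw [e]; decide
      rw [if_neg hne, e]
      constructor
      · rintro (h1 | h1) h2
        · exact absurd (congrArg Prod.fst h1) (show (DihedralGroup.r 2 : DihedralGroup 4) ≠ 1 by decide)
        · exact h.ne (congrArg Subtype.val (h2.symm.trans (congrArg Prod.snd h1))).symm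
      · intro h1
        exact Or.inr (Prod.ext rfl ((S.ex.squares c).resolve_left h1))
  have h2 := Nat.card_congr (((Equiv.subtypeEquivRight fun p : DihedralGroup 4 × S.C => hiff p.1 p.2).symm).trans e1)
  rw [Nat.card_prod, h1] at h2
  have h3 : Nat.card {p : DihedralGroup 4 × S.C // if p.1 * p.1 = 1 then p.2 * p.2 = 1 else ¬ p.2 * p.2 = 1} =
      6 * roots S.C + 2 * (Nat.card S.C - roots S.C) := by
    rw [Nat.card_congr (Equiv.subtypeProdEquivSigmaSubtype fun (d : DihedralGroup 4) (c : S.C) =>
      if d * d = 1 then c * c = 1 else ¬ c * c = 1), Nat.card_sigma]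
    have hterm : ∀ d : DihedralGroup 4, Nat.card {c : S.C // if d * d = 1 then c * c = 1 else ¬ c * c = 1} =
        if d * d = 1 then roots S.C else Nat.card S.C - roots S.C := by
      intro d
      split_ifs with e
      · rfl
      · rw [roots, Nat.card_eq_fintype_card, Nat.card_eq_fintype_card, Nat.card_eq_fintype_card,
          Fintype.card_subtype_compl]
    rw [Finset.sum_congr rfl fun d _ => hterm d, Finset.sum_ite, Finset.sum_const, Finset.sum_const,
      show (Finset.univ.filter fun d : DihedralGroup 4 => d * d = 1).card = 6 by decide,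
      show (Finset.univ.filter fun d : DihedralGroup 4 => ¬ d * d = 1).card = 2 by decide, smul_eq_mul,
      smul_eq_mul]
  rw [h3] at h2
  have h4 : roots S.C ≤ Nat.card S.C := Finite.card_subtype_le _
  change _ = roots E * 2 at h2
  omega

end Split

/-- The three cases. -/
theorem trichotomy (h : Ex E z) :
    (Nat.card E = 2 ∧ roots E = 2) ∨
      (Nat.card E = 8 ∧ roots E = 2 ∧ Nonempty (E ≃* QuaternionGroup 2)) ∨ Nonempty (Split E z) := by
  by_cases hna : ∃ x g : E, x * g ≠ g * x
  · by_cases hno : ∀ x : E, x * x = 1 → ∀ g, x * g = g * x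
    · exact Or.inr (Or.inl (quaternion_case h hno hna))
    · simp only [not_forall] at hno
      obtain ⟨x, hx, hxc⟩ := hno
      obtain ⟨y, hy, hxy⟩ := exists_pair h hx hxc
      exact Or.inr (Or.inr (exists_split h hx hy hxy))
  · simp only [not_exists, not_not] at hna
    have hall : ∀ g : E, g = 1 ∨ g = z := fun g => h.center g (hna g)
    left
    constructor
    · rw [Nat.card_eq_two_iff]
      exact ⟨1, z, h.ne.symm, Set.eq_univ_of_forall fun g => hall g⟩
    · rw [roots, Nat.card_eq_two_iff]
      exact ⟨⟨1, mul_one 1⟩, ⟨z, h.sq⟩, by simp [Ne.symm h.ne],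
        Set.eq_univ_of_forall fun g => (hall g.1).imp (fun e => Subtype.ext e) (fun e => Subtype.ext e)⟩

theorem count : ∀ (n : ℕ) {E : Type u} [Group E] [Finite E] {z : E}, Ex E z → Nat.card E = n →
    ∃ m, n = 2 ^ (2 * m + 1) ∧
      (roots E = 2 ^ (2 * m) + 2 ^ m ∨ (1 ≤ m ∧ roots E + 2 ^ m = 2 ^ (2 * m))) := by
  intro n
  induction n using Nat.strong_induction_on with
  | _ n ih =>
    intro E _ _ z h hn
    rcases trichotomy h with ⟨h1, h2⟩ | ⟨h1, h2, -⟩ | ⟨⟨S⟩⟩
    · exact ⟨0, by rw [← hn, h1]; rfl, Or.inl (by rw [h2]; rfl)⟩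
    · exact ⟨1, by rw [← hn, h1]; rfl, Or.inr ⟨le_rfl, by rw [h2]; rfl⟩⟩
    · have hc := S.card
      have hpos : 0 < Nat.card S.C := Nat.card_pos
      obtain ⟨m, hm, hr⟩ := ih _ (by omega) S.ex rfl
      have hr' := S.roots_eq h
      refine ⟨m + 1, by rw [← hn, hc, hm]; ring, ?_⟩
      rw [hr', hm]
      rcases hr with e | ⟨-, e⟩
      · exact Or.inl (by rw [e]; ring)
      · refine Or.inr ⟨by omega, ?_⟩
        rw [show 2 * (m + 1) = 2 * m + 2 by ring, pow_add _ _ 2, pow_succ 2 (2 * m), pow_succ 2 m]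
        omega

theorem roots_pos {E : Type u} [Group E] [Finite E] (C : Subgroup E) : 0 < roots C := by
  have : Nonempty {g : C // g * g = 1} := ⟨⟨1, mul_one 1⟩⟩
  exact Nat.card_pos

theorem iso : ∀ (n : ℕ) {E : Type u} [Group E] [Finite E] {z : E} {E' : Type v} [Group E'] [Finite E']
    {z' : E'}, Ex E z → Ex E' z' → Nat.card E = n → Nat.card E' = n → roots E = roots E' →
    Nonempty (E ≃* E') := by
  intro n
  induction n using Nat.strong_induction_on with
  | _ n ih =>
    intro E _ _ z E' _ _ z' h h' hn hn' hr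
    rcases trichotomy h with ⟨h1, h2⟩ | ⟨h1, h2, ⟨e⟩⟩ | ⟨⟨S⟩⟩ <;>
      rcases trichotomy h' with ⟨h1', h2'⟩ | ⟨h1', h2', ⟨e'⟩⟩ | ⟨⟨S'⟩⟩
    · have : Fact (Nat.Prime 2) := ⟨Nat.prime_two⟩
      exact ⟨mulEquivOfPrimeCardEq (p := 2) h1 h1'⟩
    · omega
    · have := S'.card
      have : 0 < Nat.card S'.C := Nat.card_pos
      omega
    · omega
    · exact ⟨e.trans e'.symm⟩
    · exfalso
      have := S'.card
      have h3 := S'.roots_eq h'
      have := roots_pos S'.C
      omega
    · have := S.card
      have : 0 < Nat.card S.C := Nat.card_pos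
      omega
    · exfalso
      have := S.card
      have h3 := S.roots_eq h
      have := roots_pos S.C
      omega
    have hc := S.card
    have hc' := S'.card
    have hpos : 0 < Nat.card S.C := Nat.card_pos
    have h3 := S.roots_eq h
    have h3' := S'.roots_eq h'
    obtain ⟨ψ⟩ := ih (Nat.card S.C) (by omega) S.ex S'.ex rfl (by omega) (by omega)
    have hψ : ψ ⟨z, S.hz⟩ = ⟨z', S'.hz⟩ := by
      refine (S'.ex.center _ fun g => ?_).resolve_left fun e => S.ex.ne (ψ.injective (e.trans (map_one ψ).symm))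
      obtain ⟨k, rfl⟩ := ψ.surjective g
      rw [← map_mul, ← map_mul, S.ex.central k]
    let Φ := (MulEquiv.refl (DihedralGroup 4)).prodCongr ψ
    let F2 : DihedralGroup 4 × S.C →* E' := S'.F.comp Φ.toMonoidHom
    have hk : S.F.ker = F2.ker := by
      ext p
      have h2 : Φ (DihedralGroup.r 2, ⟨z, S.hz⟩) = (DihedralGroup.r 2, ⟨z', S'.hz⟩) := Prod.ext rfl hψ
      rw [MonoidHom.mem_ker, MonoidHom.mem_ker, S.ker, show F2 p = S'.F (Φ p) from rfl, S'.ker,
        ← h2, Φ.injective.eq_iff, ← map_one Φ, Φ.injective.eq_iff]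
    exact ⟨((QuotientGroup.quotientKerEquivOfSurjective S.F S.surj).symm.trans
      (QuotientGroup.quotientMulEquivOfEq hk)).trans
      (QuotientGroup.quotientKerEquivOfSurjective F2 (S'.surj.comp Φ.surjective))⟩

theorem ex_of_extraspecial {E : Type u} [Group E] [Finite E] (hE : Cfsg.IsExtraspecial 2 E) :
    ∃ z : E, Ex E z := by
  obtain ⟨⟨⟨z0, hz0⟩, hz1⟩, -⟩ : (∃ c : center E, c ≠ 1) ∧ True := by
    have : Nontrivial (center E) := by
      rw [← Finite.one_lt_card_iff_nontrivial, hE.2]; omega
    exact ⟨exists_ne 1, trivial⟩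
  have hne : z0 ≠ 1 := fun e => hz1 (Subtype.ext e)
  have hmem : ∀ c ∈ center E, c = 1 ∨ c = z0 := by
    intro c hc
    by_cases hc1 : c = 1
    · exact Or.inl hc1
    · exact Or.inr (CfsgLib.LocalEvenB.ExtraspecialAut.center_eq hE hc hz0 hc1 hne)
  refine ⟨z0, hne, CfsgLib.LocalEvenB.ExtraspecialAut.center_sq hE hz0,
    fun g => (mem_center_iff.1 hz0 g).symm, fun c hc => hmem c (mem_center_iff.2 fun g => (hc g).symm),
    fun g => hmem _ (CfsgLib.LocalEvenB.ExtraspecialAut.sq_mem hE g), fun g k => ?_⟩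
  have h1 := CfsgLib.LocalEvenB.ExtraspecialAut.comm_mem hE g k
  rcases hmem _ h1 with e | e
  · exact Or.inl (commutatorElement_eq_one_iff_mul_comm.1 e)
  · exact Or.inr (by rw [← e, commutatorElement_def]; group)

theorem roots_eq_card (E : Type u) [Group E] : roots E = Nat.card {x : E // x ^ 2 = 1} :=
  Nat.card_congr (Equiv.subtypeEquivRight fun g => by rw [pow_two])


/-- Classification of extraspecial 2-groups in intrinsic form. An extraspecial 2-group has order 2^(2m+1) for some m ≥ 1, and the number of its elements squaring to the identity is either 2^(2m) + 2^m or 2^(2m) − 2^m; two extraspecial 2-groups of the same order with the same number of such elements are isomorphic. (The two cases are the central products of m dihedral groups of order 8, and of m − 1 dihedral groups with one quaternion group.) -/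
theorem result (E : Type*) [Group E] [Finite E] (hE : Cfsg.IsExtraspecial 2 E) :
    (∃ m : ℕ, 1 ≤ m ∧ Nat.card E = 2 ^ (2 * m + 1) ∧
      (Nat.card {x : E // x ^ 2 = 1} = 2 ^ (2 * m) + 2 ^ m ∨ Nat.card {x : E // x ^ 2 = 1} = 2 ^ (2 * m) - 2 ^ m)) ∧
    ∀ (E' : Type*) [Group E'] [Finite E'], Cfsg.IsExtraspecial 2 E' → Nat.card E' = Nat.card E →
      Nat.card {x : E' // x ^ 2 = 1} = Nat.card {x : E // x ^ 2 = 1} → Nonempty (E ≃* E') := by
  obtain ⟨z, h⟩ := ex_of_extraspecial hE
  constructor
  · obtain ⟨m, hm, hr⟩ := count _ h rfl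
    have hm1 : 1 ≤ m := by
      by_contra hne
      obtain rfl : m = 0 := by omega
      have h1 := CfsgLib.LocalEvenB.ExtraspecialAut.comm_mem hE
      have hz := hE.2
      have h2 : Subgroup.center E = ⊤ := Subgroup.eq_top_of_card_eq _ (by rw [hz, hm]; rfl)
      have hc := hE.1.2.2
      rw [h2] at hc
      have : Group.IsPerfect E := ⟨hc⟩
      have hs : ∀ a b : E, a * b = b * a := fun a b =>
        (Subgroup.mem_center_iff.1 (h2 ▸ Subgroup.mem_top b) a)
      have h3 : commutator E = ⊥ := by
        rw [_root_.commutator_def, eq_bot_iff, Subgroup.commutator_le]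
        intro a _ b _
        rw [Subgroup.mem_bot]
        exact commutatorElement_eq_one_iff_mul_comm.2 (hs a b)
      rw [h3] at hc
      have h4 := congrArg (fun H : Subgroup E => Nat.card H) hc
      simp only [Subgroup.card_bot, Subgroup.card_top, hm] at h4
      norm_num at h4
    refine ⟨m, hm1, hm, ?_⟩
    rw [← roots_eq_card]
    rcases hr with e | ⟨-, e⟩
    · exact Or.inl e
    · exact Or.inr (by omega)
  · intro E' _ _ hE' hcard hroots
    obtain ⟨z', h'⟩ := ex_of_extraspecial hE'
    rw [← roots_eq_card, ← roots_eq_card] at hroots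
    exact iso _ h h' rfl hcard hroots.symm

end Cfsg.Agent.S4416
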