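import Cfsg.Statements.S4413
import Cfsg.Agent.S4405
import Cfsg.Agent.S4416
import Cfsg.Agent.Lib.LocalEvenB.ExtraspecialAut

set_option autoImplicit false
open Cfsg

namespace Cfsg.Agent.S4413

open Subgroup
open scoped commutatorElement
open CfsgLib.LocalEvenB

universe u

variable {P : Type u} [Group P] [Finite P]

/-- A noncentral involution. -/
def Sing (x : P) : Prop := x * x = 1 ∧ x ∉ center P

theorem two_mul_le {a b : ℕ} (hd : a ∣ b) (hlt : a < b) : 2 * a ≤ b := by
  obtain ⟨k, rfl⟩ := hd
  have : 2 ≤ k := by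
    by_contra hk
    interval_cases k <;> omega
  nlinarith

theorem not_commute (hex : Cfsg.IsExtraspecial 2 P)
    (hminus : ∀ A : Subgroup P, Cfsg.IsElementaryAbelian 2 A → Nat.card ↥A ≤ 4) {a b : P}
    (ha : Sing a) (hb : Sing b) (hne : a⁻¹ * b ∉ center P) : ¬ Commute a b := by
  intro hc
  have hz : ∀ c ∈ center P, ∀ g, Commute c g := fun c hc g => (mem_center_iff.1 hc g).symm
  set s : Set P := (center P : Set P) ∪ {a, b} with hs
  have hcomm : ∀ x ∈ s, ∀ y ∈ s, x * y = y * x := by
    rintro x (hx | rfl | rfl) y (hy | rfl | rfl)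
    exacts [(hz x hx y).eq, (hz x hx y).eq, (hz x hx y).eq, (hz y hy x).eq.symm, rfl, hc.eq,
      (hz y hy x).eq.symm, hc.eq.symm, rfl]
  have hA : Cfsg.IsElementaryAbelian 2 (closure s) := by
    have hcA : IsMulCommutative (closure s) := isMulCommutative_closure hcomm
    refine ⟨hcA, fun x hx => ?_⟩
    rw [pow_two]
    induction hx using closure_induction with
    | mem z hz' =>
      rcases hz' with h | rfl | rfl
      exacts [ExtraspecialAut.center_sq hex h, ha.1, hb.1]
    | one => exact mul_one _
    | mul v v' hv hv' iv iv' =>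
      have h1 : v' * v = v * v' := congrArg Subtype.val (hcA.is_comm.comm ⟨v', hv'⟩ ⟨v, hv⟩)
      rw [mul_assoc v v', ← mul_assoc v' v v', h1, mul_assoc v v' v', iv', mul_one, iv]
    | inv v _ iv => rw [← mul_inv_rev, iv, inv_one]
  set B := center P ⊔ zpowers a with hB
  have h1 : Nat.card (center P) < Nat.card B := by
    refine lt_of_le_of_ne (card_le_of_le le_sup_left) fun e => ha.2 ?_
    rw [eq_of_le_of_card_ge le_sup_left e.ge]
    exact mem_sup_right (mem_zpowers a)
  have hBle : B ≤ closure s := sup_le (fun x hx => subset_closure (Or.inl hx))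
    (zpowers_le.2 (subset_closure (Or.inr (Or.inl rfl))))
  have h2 : Nat.card B < Nat.card (closure s) := by
    refine lt_of_le_of_ne (card_le_of_le hBle) fun e => hne ?_
    have hbB : b ∈ B := by
      rw [eq_of_le_of_card_ge hBle e.ge]; exact subset_closure (Or.inr (Or.inr rfl))
    obtain ⟨c, hcz, x, hx, rfl⟩ := mem_sup_of_normal_left.1 hbB
    obtain ⟨i, rfl⟩ := mem_zpowers_iff.1 hx
    have h2i : a ^ (2 : ℤ) = 1 := by rw [zpow_two]; exact ha.1
    rcases Int.even_or_odd' i with ⟨t, rfl | rfl⟩
    · exfalso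
      apply hb.2
      rw [zpow_mul, h2i, one_zpow, mul_one]
      exact hcz
    · rw [zpow_add, zpow_mul, h2i, one_zpow, one_mul, zpow_one,
        show a⁻¹ * (c * a) = c by rw [(hz c hcz a).eq, inv_mul_cancel_left]]
      exact hcz
  have h3 := hminus _ hA
  have h4 := two_mul_le (card_dvd_of_le (le_sup_left : center P ≤ B)) h1
  have h5 := two_mul_le (card_dvd_of_le hBle) h2
  have h6 := hex.2
  omega

theorem roots_twelve (hex : Cfsg.IsExtraspecial 2 P) (h32 : Nat.card P = 32)
    (hminus : ∀ A : Subgroup P, Cfsg.IsElementaryAbelian 2 A → Nat.card ↥A ≤ 4) :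
    S4416.roots P = 12 := by
  obtain ⟨z, h⟩ := S4416.ex_of_extraspecial hex
  obtain ⟨m, hm, hr⟩ := S4416.count _ h h32
  have : m = 2 := by
    have := Nat.pow_right_injective (le_refl 2) (show 2 ^ (2 * m + 1) = 2 ^ 5 from hm.symm)
    omega
  subst this
  rcases hr with hr | ⟨-, hr⟩
  swap
  · norm_num at hr
    omega
  exfalso
  rcases S4416.trichotomy h with ⟨h1, -⟩ | ⟨h1, -, -⟩ | ⟨⟨S⟩⟩
  · omega
  · omega
  have hc8 := S.card
  have hrc := S.roots_eq h
  norm_num at hr
  rcases S4416.trichotomy S.ex with ⟨h1, -⟩ | ⟨h1, h2, -⟩ | ⟨⟨S'⟩⟩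
  · omega
  · omega
  let c : S.C := S'.F (DihedralGroup.sr 0, 1)
  let k : S.C := S'.F (DihedralGroup.r 1, 1)
  have hck : c * k * (k * c)⁻¹ ≠ 1 := by
    intro e
    rw [← map_mul, ← map_mul, ← map_inv, ← map_mul, S'.ker] at e
    rcases e with e | e
    · exact absurd (congrArg Prod.fst e) (show (DihedralGroup.sr 0 * .r 1 * (.r 1 * .sr 0)⁻¹ : DihedralGroup 4) ≠ 1 by decide)
    · have e2 : (1 : S'.C) * 1 * (1 * 1)⁻¹ = _ := congrArg Prod.snd e
      simp only [mul_one, inv_one] at e2
      exact S'.ex.ne e2.symm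
  have hnc : ∀ (p q : DihedralGroup 4 × S.C), p * q * (q * p)⁻¹ ≠ 1 →
      p * q * (q * p)⁻¹ ≠ (DihedralGroup.r 2, ⟨z, S.hz⟩) → S.F p ∉ center P := by
    intro p q e1 e2 hp
    have e : S.F (p * q * (q * p)⁻¹) = 1 := by
      rw [map_mul, map_mul, map_inv, map_mul, ← mem_center_iff.1 hp, mul_inv_cancel]
    exact ((S.ker _).1 e).elim e1 e2
  have hD : (DihedralGroup.sr 0 * .r 1 * (.r 1 * .sr 0)⁻¹ : DihedralGroup 4) ≠ 1 := by decide
  have h1c : ((1 : S.C) * 1 * (1 * 1)⁻¹) ≠ ⟨z, S.hz⟩ := by simpa using S.ex.ne.symm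
  set x := S.F (DihedralGroup.sr 0, 1)
  set y := S.F (1, c)
  have hxy : Commute x y := by
    show S.F _ * S.F _ = S.F _ * S.F _
    rw [← map_mul, ← map_mul, Prod.mk_mul_mk, Prod.mk_mul_mk, mul_one, one_mul, mul_one, one_mul]
  have hcc : c * c = 1 := by
    show S'.F _ * S'.F _ = 1
    rw [← map_mul, S'.ker]
    exact Or.inl (Prod.ext (show (DihedralGroup.sr 0 * DihedralGroup.sr 0 : DihedralGroup 4) = 1 by decide) (mul_one _))
  have hx : Sing x := ⟨by
    show S.F _ * S.F _ = 1
    rw [← map_mul, S.ker]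
    exact Or.inl (Prod.ext (show (DihedralGroup.sr 0 * DihedralGroup.sr 0 : DihedralGroup 4) = 1 by decide) (mul_one _)),
    hnc _ (DihedralGroup.r 1, 1) (fun e => hD (congrArg Prod.fst e)) (fun e => h1c (congrArg Prod.snd e))⟩
  have hy : Sing y := ⟨by
    show S.F _ * S.F _ = 1
    rw [← map_mul, S.ker]
    exact Or.inl (Prod.ext (mul_one _) hcc),
    hnc _ (1, k) (fun e => hck (congrArg Prod.snd e))
      (fun e => absurd (congrArg Prod.fst e) (show ((1 : DihedralGroup 4) * 1 * (1 * 1)⁻¹) ≠ .r 2 by decide))⟩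
  refine not_commute hex hminus hx hy ?_ hxy
  have hxi : x⁻¹ = x := inv_eq_of_mul_eq_one_right hx.1
  rw [hxi]
  show S.F _ * S.F _ ∉ _
  rw [← map_mul, Prod.mk_mul_mk, mul_one, one_mul]
  refine hnc _ (DihedralGroup.r 1, 1) (fun e => hD (congrArg Prod.fst e)) fun e => ?_
  have e2 := congrArg Prod.snd e
  simp at e2
  exact S.ex.ne (e2.symm)


/-- Let P be an extraspecial 2-group of order 32 with no elementary abelian subgroup of order 8 (the central product of a dihedral and a quaternion group of order 8). Then the inner automorphism group of P has order 16 and the outer automorphism group Aut(P)/Inn(P) is isomorphic to the symmetric group of degree 5; in particular Aut(P) has order 1920. -/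
theorem result {P : Type*} [Group P] [Finite P]
    (hex : Cfsg.IsExtraspecial 2 P) (h32 : Nat.card P = 32)
    (hminus : ∀ A : Subgroup P, Cfsg.IsElementaryAbelian 2 A → Nat.card ↥A ≤ 4)
    [(MulAut.conj : P →* MulAut P).range.Normal] :
    Nat.card ↥(MulAut.conj : P →* MulAut P).range = 16 ∧ Nat.card (MulAut P) = 1920 ∧
      Nonempty ((MulAut P ⧸ (MulAut.conj : P →* MulAut P).range) ≃* Equiv.Perm (Fin 5)) := by
  classical
  have : Fact (Nat.Prime 2) := ⟨Nat.prime_two⟩
  let W := P ⧸ Subgroup.center P
  have hW16 : Nat.card W = 16 := by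
    have h1 := (Subgroup.center P).card_eq_card_quotient_mul_card_subgroup
    rw [h32, hex.2] at h1
    show Nat.card (P ⧸ Subgroup.center P) = 16
    omega
  have hcs : ∀ c ∈ Subgroup.center P, c * c = 1 := fun c hc =>
    CfsgLib.LocalEvenB.ExtraspecialAut.center_sq hex hc
  have hinv : ∀ g c : P, c ∈ Subgroup.center P → (g * c) * (g * c) = g * g := fun g c hc => by
    calc (g * c) * (g * c) = g * (c * g) * c := by group
      _ = g * g * (c * c) := by rw [← Subgroup.mem_center_iff.1 hc g]; group
      _ = g * g := by rw [hcs c hc, mul_one]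
  -- inner automorphisms
  have hker : (MulAut.conj : P →* MulAut P).ker = Subgroup.center P := by
    ext c
    rw [MonoidHom.mem_ker]
    exact CfsgLib.LocalEvenB.ExtraspecialAut.conj_eq_one_iff' hex
  have hinn : Nat.card ↥(MulAut.conj : P →* MulAut P).range = 16 := by
    rw [← Subgroup.index_ker, hker, Subgroup.index_eq_card]
    exact hW16
  -- the five points
  let Q : W → Prop := fun w => w.out * w.out = 1
  have hQ : ∀ g : P, Q (g : W) ↔ g * g = 1 := fun g => by
    obtain ⟨c, hc⟩ := QuotientGroup.mk_out_eq_mul (Subgroup.center P) g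
    show ((g : W).out) * _ = 1 ↔ _
    rw [hc, hinv g _ c.2]
  let Sg := {w : W // Q w ∧ w ≠ 1}
  have hSing : ∀ w : Sg, Sing (w.1.out) := fun w =>
    ⟨w.2.1, fun hc => w.2.2 (by rw [← QuotientGroup.out_eq' w.1]; exact (QuotientGroup.eq_one_iff _).2 hc)⟩
  have hSg : Nat.card Sg = 5 := by
    have h1 : S4416.roots P = Nat.card {w : W // Q w} * 2 := by
      have h2 := hex.2
      rw [← h2, ← Nat.card_prod]
      exact Nat.card_congr
        { toFun := fun g => (⟨(g.1 : W), (hQ g.1).2 g.2⟩, ⟨((g.1 : W).out)⁻¹ * g.1,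
            QuotientGroup.eq.1 (QuotientGroup.out_eq' (g.1 : W))⟩)
          invFun := fun p => ⟨p.1.1.out * p.2, by rw [hinv _ _ p.2.2]; exact p.1.2⟩
          left_inv := fun g => Subtype.ext (mul_inv_cancel_left _ _)
          right_inv := fun p => by
            have e : ((p.1.1.out * p.2 : P) : W) = p.1.1 := by
              rw [QuotientGroup.mk_mul, QuotientGroup.out_eq', (QuotientGroup.eq_one_iff _).2 p.2.2, mul_one]
            refine Prod.ext (Subtype.ext e) (Subtype.ext ?_)
            show ((p.1.1.out * p.2 : P) : W).out⁻¹ * (p.1.1.out * p.2) = p.2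
            rw [e, inv_mul_cancel_left] }
    rw [roots_twelve hex h32 hminus] at h1
    haveI : Fintype W := Fintype.ofFinite _
    have h3 : Fintype.card {w : W // Q w} = Fintype.card Sg + 1 := by
      rw [Fintype.card_subtype, Fintype.card_subtype,
        show (Finset.univ.filter fun w => Q w) = insert (1 : W) (Finset.univ.filter fun w => Q w ∧ w ≠ 1) by
          ext w
          simp only [Finset.mem_filter, Finset.mem_univ, true_and, Finset.mem_insert]
          by_cases hw : w = 1
          · subst hw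
            exact iff_of_true ((hQ 1).2 (mul_one 1)) (Or.inl rfl)
          · tauto,
        Finset.card_insert_of_notMem (by simp)]
    rw [Nat.card_eq_fintype_card] at h1 ⊢
    omega
  let ρ : MulAut P →* MulAut W :=
    { toFun := fun φ => QuotientGroup.congr (Subgroup.center P) (Subgroup.center P) φ
        (Subgroup.characteristic_iff_map_eq.1 inferInstance φ)
      map_one' := MulEquiv.ext fun y => by
        obtain ⟨x, rfl⟩ := QuotientGroup.mk_surjective y; rfl
      map_mul' := fun φ φ' => MulEquiv.ext fun y => by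
        obtain ⟨x, rfl⟩ := QuotientGroup.mk_surjective y; rfl }
  have hρ : ∀ (φ : MulAut P) (w : W), (Q (ρ φ w) ∧ ρ φ w ≠ 1) ↔ (Q w ∧ w ≠ 1) := by
    intro φ w
    obtain ⟨g, rfl⟩ := QuotientGroup.mk_surjective w
    refine and_congr ?_ (ρ φ).map_eq_one_iff.not
    show Q ((φ g : P) : W) ↔ _
    rw [hQ, hQ, ← map_mul, φ.map_eq_one_iff]
  let θ : MulAut P →* Equiv.Perm Sg :=
    { toFun := fun φ => (ρ φ).toEquiv.subtypeEquiv fun w => (hρ φ w).symm
      map_one' := Equiv.ext fun w => Subtype.ext (by
        show ρ 1 w.1 = w.1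
        rw [map_one]; rfl)
      map_mul' := fun φ φ' => Equiv.ext fun w => Subtype.ext (by
        show ρ (φ * φ') w.1 = ρ φ (ρ φ' w.1)
        rw [map_mul]; rfl) }
  have hθker : θ.ker = (MulAut.conj : P →* MulAut P).range := by
    refine le_antisymm (fun φ hφ => ?_) ?_
    · obtain ⟨k, hk⟩ : ∃ k, φ = MulAut.conj k := by
        refine S4405.inner_of_trivial hex h32 φ fun x => ?_
        rw [← QuotientGroup.eq]
        show (x : W) = ρ φ (x : W)
        symm
        let L : Subgroup W := MonoidHom.eqLocus (ρ φ).toMonoidHom (MonoidHom.id W)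
        suffices h : ∀ g : P, (g : W) ∈ L from h x
        have hS : ∀ g : P, Sing g → (g : W) ∈ L := fun g hg => by
          have h1 : Q (g : W) ∧ (g : W) ≠ 1 :=
            ⟨(hQ g).2 hg.1, fun e => hg.2 ((QuotientGroup.eq_one_iff g).1 e)⟩
          exact congrArg Subtype.val (Equiv.ext_iff.1 (MonoidHom.mem_ker.1 hφ) ⟨(g : W), h1⟩)
        intro g
        by_cases hgc : g ∈ Subgroup.center P
        · rw [(QuotientGroup.eq_one_iff g).2 hgc]; exact one_mem _
        by_cases hg : g * g = 1
        · exact hS g ⟨hg, hgc⟩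
        have hsing : ∀ u c : P, u * u ≠ 1 → Sing c → ¬ Commute u c → Sing (u * c) := by
          intro u c hu hc huc
          refine ⟨?_, fun hm => huc ?_⟩
          · have h1 : ⁅c, u⁆ ≠ 1 := fun e => huc (commutatorElement_eq_one_iff_commute.mp e).symm
            have h2 := CfsgLib.LocalEvenB.ExtraspecialAut.center_eq hex
              (CfsgLib.LocalEvenB.ExtraspecialAut.comm_mem hex c u) (CfsgLib.LocalEvenB.ExtraspecialAut.sq_mem hex u) h1 hu
            have hci : c⁻¹ = c := inv_eq_of_mul_eq_one_right hc.1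
            calc u * c * (u * c) = u * (⁅c, u⁆ * u * c) * c := by rw [commutatorElement_def]; group
              _ = u * (u * u * u * c) * c := by rw [h2]
              _ = (u * u) * (u * u) * (c * c) := by group
              _ = 1 := by rw [hcs _ (CfsgLib.LocalEvenB.ExtraspecialAut.sq_mem hex u), hc.1, mul_one]
          · have h1 : Commute (u * c) c := (Subgroup.mem_center_iff.1 hm c).symm
            have h2 := h1.mul_left (Commute.refl c).inv_left
            rwa [mul_inv_cancel_right] at h2
        by_cases hex2 : ∃ c : Sg, ¬ Commute g c.1.out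
        · obtain ⟨c, hc⟩ := hex2
          have h1 := hS _ (hsing g _ hg (hSing c) hc)
          have h2 := mul_mem h1 (hS _ (hSing c))
          rwa [← QuotientGroup.mk_mul, mul_assoc, (hSing c).1, mul_one] at h2
        simp only [not_exists, not_not] at hex2
        exfalso
        have : Nonempty Sg := (Nat.card_pos_iff.1 (by rw [hSg]; norm_num)).1
        obtain ⟨c⟩ := this
        set d := c.1.out
        apply (hSing c).2
        have hcom : ∀ u : P, Sing u → Commute g u := by
          intro u hu
          have h1 : Q (u : W) ∧ (u : W) ≠ 1 :=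
            ⟨(hQ u).2 hu.1, fun e => hu.2 ((QuotientGroup.eq_one_iff u).1 e)⟩
          have h2 := hex2 ⟨(u : W), h1⟩
          obtain ⟨cc, hcc⟩ := QuotientGroup.mk_out_eq_mul (Subgroup.center P) u
          have hgc' : Commute g (cc : P) := Subgroup.mem_center_iff.1 cc.2 g
          have h3 := (show Commute g ((u : W).out) from h2)
          rw [hcc] at h3
          simpa using h3.mul_right hgc'.inv_right
        have hno : ∀ u : P, ¬ Commute g u → Commute u d := by
          intro u hu
          by_contra hud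
          have hu1 : u * u ≠ 1 := fun e => hu (hcom u ⟨e, fun hm => hu (Subgroup.mem_center_iff.1 hm g)⟩)
          have h1 := (hcom _ (hsing u d hu1 (hSing c) hud)).mul_right (hex2 c).inv_right
          rw [mul_inv_cancel_right] at h1
          exact hu h1
        obtain ⟨u0, hu0⟩ : ∃ u, ¬ Commute g u := by
          by_contra hne
          simp only [not_exists, not_not] at hne
          exact hgc (Subgroup.mem_center_iff.2 fun u => (hne u).eq.symm)
        refine Subgroup.mem_center_iff.2 fun u => ?_
        by_cases hu : Commute g u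
        · have h1 : ¬ Commute g (u * u0) := fun e => hu0 (by simpa using hu.inv_right.mul_right e)
          exact (show Commute u d by simpa using (hno _ h1).mul_left (hno _ hu0).inv_left).eq
        · exact (hno u hu).eq
      exact ⟨k, hk.symm⟩
    · rintro _ ⟨k, rfl⟩
      refine MonoidHom.mem_ker.2 (Equiv.ext fun w => Subtype.ext ?_)
      show ρ (MulAut.conj k) w.1 = w.1
      conv_lhs => rw [← QuotientGroup.out_eq' w.1]
      show ((k * w.1.out * k⁻¹ : P) : W) = w.1
      conv_rhs => rw [← QuotientGroup.out_eq' w.1]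
      refine (QuotientGroup.eq).2 ?_
      have h1 := CfsgLib.LocalEvenB.ExtraspecialAut.comm_mem hex k w.1.out⁻¹
      convert h1 using 1
      simp [commutatorElement_def, mul_assoc]
  have hsurj : Function.Surjective θ := by
    rw [← MonoidHom.range_eq_top, eq_top_iff, ← Equiv.Perm.closure_isSwap, Subgroup.closure_le]
    rintro _ ⟨a, b, hab, rfl⟩
    set x := a.1.out with hx
    set y := b.1.out with hy
    have hne : x⁻¹ * y ∉ Subgroup.center P := fun e => hab (Subtype.ext (by
      rw [← QuotientGroup.out_eq' a.1, ← QuotientGroup.out_eq' b.1]; exact QuotientGroup.eq.2 e))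
    have hxy := not_commute hex hminus (hSing a) (hSing b) hne
    have hx1 : x * x = 1 := (hSing a).1
    have hy1 : y * y = 1 := (hSing b).1
    set v := x * y with hv
    have hv1 : v * v ≠ 1 := fun e => hxy (by
      calc x * y = (x * y)⁻¹ := (inv_eq_of_mul_eq_one_right e).symm
        _ = y * x := by rw [mul_inv_rev, inv_eq_of_mul_eq_one_right hx1, inv_eq_of_mul_eq_one_right hy1])
    have hxv : ¬ Commute x v := fun e => hxy (by
      have h1 := (Commute.refl x).inv_right.mul_right e
      rwa [hv, inv_mul_cancel_left] at h1)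
    have hyv : ¬ Commute y v := fun e => hxy (by
      have h1 := e.mul_right (Commute.refl y).inv_right
      rw [hv, mul_inv_cancel_right] at h1
      exact h1.symm)
    refine ⟨CfsgLib.LocalEvenB.ExtraspecialAut.tv hex v hv1, Equiv.ext fun w => Subtype.ext ?_⟩
    show ((ρ _) w.1) = _
    conv_lhs => rw [← QuotientGroup.out_eq' w.1]
    show ((CfsgLib.LocalEvenB.ExtraspecialAut.tv hex v hv1 w.1.out : P) : W) = _
    by_cases hwa : w = a
    · subst hwa
      rw [Equiv.swap_apply_left, CfsgLib.LocalEvenB.ExtraspecialAut.tv_of_not hex hv1 hxv,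
        show x * v = y by rw [hv, ← mul_assoc, hx1, one_mul]]
      exact QuotientGroup.out_eq' b.1
    by_cases hwb : w = b
    · subst hwb
      rw [Equiv.swap_apply_right, CfsgLib.LocalEvenB.ExtraspecialAut.tv_of_not hex hv1 hyv]
      conv_rhs => rw [← QuotientGroup.out_eq' a.1]
      refine (QuotientGroup.eq).2 ?_
      have h1 := CfsgLib.LocalEvenB.ExtraspecialAut.comm_mem hex y x
      have e : (y * v)⁻¹ * x = ⁅y, x⁆ := by
        rw [hv, commutatorElement_def, inv_eq_of_mul_eq_one_right hx1, mul_inv_rev, mul_inv_rev,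
          inv_eq_of_mul_eq_one_right hx1, inv_eq_of_mul_eq_one_right hy1]
      exact e ▸ h1
    · rw [Equiv.swap_apply_of_ne_of_ne hwa hwb]
      have hwx : ¬ Commute x w.1.out := not_commute hex hminus (hSing a) (hSing w) fun e => hwa (Subtype.ext (by
        rw [← QuotientGroup.out_eq' a.1, ← QuotientGroup.out_eq' w.1]; exact (QuotientGroup.eq.2 e).symm))
      have hwy : ¬ Commute y w.1.out := not_commute hex hminus (hSing b) (hSing w) fun e => hwb (Subtype.ext (by
        rw [← QuotientGroup.out_eq' b.1, ← QuotientGroup.out_eq' w.1]; exact (QuotientGroup.eq.2 e).symm))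
      rw [CfsgLib.LocalEvenB.ExtraspecialAut.tv_of_commute hex hv1
        (CfsgLib.LocalEvenB.ExtraspecialAut.commute_mul hex hwx hwy).symm]
      exact QuotientGroup.out_eq' w.1
  have e5 : Sg ≃ Fin 5 := Finite.equivFinOfCardEq hSg
  have eOut : (MulAut P ⧸ (MulAut.conj : P →* MulAut P).range) ≃* Equiv.Perm (Fin 5) :=
    ((QuotientGroup.quotientMulEquivOfEq hθker.symm).trans
      (QuotientGroup.quotientKerEquivOfSurjective θ hsurj)).trans (Equiv.permCongrHom e5)
  refine ⟨hinn, ?_, ⟨eOut⟩⟩
  rw [Subgroup.card_eq_card_quotient_mul_card_subgroup (MulAut.conj : P →* MulAut P).range, hinn,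
    Nat.card_congr eOut.toEquiv, Nat.card_perm, Nat.card_fin]
  rfl

end Cfsg.Agent.S4413
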