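import Cfsg.Statements.S4414
import Cfsg.Agent.Lib.Solvable.FixedOrbits

set_option autoImplicit false
open Cfsg

namespace Cfsg.Agent.S4414

open CfsgLib.Solvable
open scoped TensorProduct

theorem main {S : Type*} [Group S] [Finite S] (q : ℕ) [Fact q.Prime] (hq2 : q ≠ 2)
    (T : Sylow 2 S) (A B : Subgroup S) [A.Normal] [IsMulCommutative A] (hAodd : Odd (Nat.card A))
    (hB : Nat.card B = q) (hTB : Nat.card ↥((T : Subgroup S) ⊔ B) = Nat.card T * q)
    (hcomm : ⁅A, B⁆ = A)
    {E : Type*} [AddCommGroup E] [Module (ZMod 2) E] [Finite E] [Nontrivial E]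
    (ρ : Representation (ZMod 2) S E) (hnf : ∀ v : E, (∀ a ∈ A, ρ a v = v) → v = 0) :
    8 ≤ Nat.card {v : E // ∀ s ∈ (T : Subgroup S), ρ s v = v} ∨
      (Nat.card {v : E // ∀ s ∈ (T : Subgroup S), ρ s v = v} = 4 ∧
        ∃ x ∈ B, ∃ v : E, (∀ s ∈ (T : Subgroup S), ρ s v = v) ∧
          ¬ ∀ s ∈ (T : Subgroup S), ρ s (ρ x v) = ρ x v) := by
  classical
  haveI : Fact (Nat.Prime 2) := ⟨Nat.prime_two⟩
  have hq : q.Prime := Fact.out
  -- the fixed space
  let E₀ : Submodule (ZMod 2) E := ⨅ t : (T : Subgroup S), LinearMap.ker (ρ (t : S) - 1)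
  have hE₀ : ∀ v, v ∈ E₀ ↔ ∀ s ∈ (T : Subgroup S), ρ s v = v := fun v => by
    simp [E₀, sub_eq_zero]
  have hc : Nat.card {v : E // ∀ s ∈ (T : Subgroup S), ρ s v = v} =
      2 ^ Module.finrank (ZMod 2) E₀ := by
    rw [← Nat.card_congr (Equiv.subtypeEquivRight hE₀)]
    rw [show Nat.card {v : E // v ∈ E₀} = Nat.card E₀ from rfl,
      Module.natCard_eq_pow_finrank (K := ZMod 2) (V := E₀), Nat.card_zmod]
  rw [hc]
  -- extension of scalars
  let k := AlgebraicClosure (ZMod 2)
  let R : Representation k S (k ⊗[ZMod 2] E) :=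
    { toFun := fun s => (ρ s).baseChange k
      map_one' := by rw [map_one]; exact LinearMap.baseChange_one _ _
      map_mul' := fun s t => by rw [map_mul]; exact LinearMap.baseChange_mul _ _ }
  have hR : ∀ (s : S) (a : k) (e : E), R s (a ⊗ₜ e) = a ⊗ₜ ρ s e := fun s a e => rfl
  have hone : ∀ v, R 1 v = v := fun v => by rw [map_one]; rfl
  have hmul : ∀ s t v, R (s * t) v = R s (R t v) := fun s t v => by rw [map_mul]; rfl
  -- fixed vectors come from `E₀`
  let b := Module.finBasis (ZMod 2) E₀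
  let U : Submodule k (k ⊗[ZMod 2] E) :=
    Submodule.span k (Set.range fun i => (1 : k) ⊗ₜ (b i : E))
  have hU1 : ∀ e ∈ E₀, (1 : k) ⊗ₜ[ZMod 2] e ∈ U := by
    intro e he
    have he' : e = ∑ i, b.repr ⟨e, he⟩ i • (b i : E) := by
      have := congrArg Subtype.val (b.sum_repr ⟨e, he⟩)
      simp only [AddSubmonoidClass.coe_finsetSum, SetLike.val_smul] at this
      exact this.symm
    rw [he', TensorProduct.tmul_sum]
    refine Submodule.sum_mem _ fun i _ => ?_
    rw [TensorProduct.tmul_smul]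
    exact Submodule.smul_of_tower_mem _ _ (Submodule.subset_span ⟨i, rfl⟩)
  have hfixU : ∀ v, (∀ t ∈ (T : Subgroup S), R t v = v) → v ∈ U := by
    intro v hv
    let bk := Module.Basis.ofVectorSpace (ZMod 2) k
    let φ := TensorProduct.equivFinsuppOfBasisLeft (N := E) bk
    have hφ : ∀ (s : S) (w : k ⊗[ZMod 2] E) i, φ (R s w) i = ρ s (φ w i) := by
      intro s w i
      induction w using TensorProduct.induction_on with
      | zero => simp
      | tmul a e => simp [hR, φ, map_smul]
      | add u w hu hw => simp [hu, hw]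
    rw [← φ.symm_apply_apply v, TensorProduct.equivFinsuppOfBasisLeft_symm_apply]
    refine Submodule.sum_mem _ fun i _ => ?_
    have hi : φ v i ∈ E₀ := (hE₀ _).mpr fun s hs => by rw [← hφ, hv s hs]
    have := U.smul_mem (bk i) (hU1 _ hi)
    rwa [TensorProduct.smul_tmul', smul_eq_mul, mul_one] at this
  have hdim : Module.finrank k U ≤ Module.finrank (ZMod 2) E₀ := by
    refine (finrank_range_le_card (fun i => (1 : k) ⊗ₜ[ZMod 2] (b i : E))).trans ?_
    simp
  -- eigencharacters
  letI : CommGroup A := { (inferInstance : Group A) with mul_comm := mul_comm' }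
  letI := FixedOrbits.charAction A kˣ
  haveI : NeZero (Monoid.exponent A) := ⟨Monoid.exponent_ne_zero_of_finite⟩
  haveI : NeZero ((Monoid.exponent A : ℕ) : k) := ⟨fun h0 => by
    rw [CharP.cast_eq_zero_iff k 2] at h0
    exact (Nat.odd_iff.mp hAodd |> fun h1 => Nat.not_even_iff.mpr h1)
      (even_iff_two_dvd.mpr (h0.trans Group.exponent_dvd_nat_card))⟩
  letI : Fintype A := Fintype.ofFinite A
  obtain ⟨edual⟩ := CommGroup.monoidHom_mulEquiv_of_hasEnoughRootsOfUnity A k
  letI : Fintype (A →* kˣ) := Fintype.ofEquiv A edual.symm.toEquiv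
  have hcardA : (Fintype.card A : k) = 1 := by
    obtain ⟨m, hm⟩ := hAodd
    rw [Nat.card_eq_fintype_card] at hm
    rw [hm, Nat.cast_add, Nat.cast_mul, CharP.cast_eq_zero (R := k) (p := 2), zero_mul,
      zero_add, Nat.cast_one]
  let e : (A →* kˣ) → Module.End k (k ⊗[ZMod 2] E) := fun l =>
    ∑ a : A, ((l a)⁻¹ : kˣ).val • R (a : S)
  have hemul : ∀ (l : A →* kˣ) (a : A), R (a : S) * e l = (l a).val • e l := by
    intro l a
    simp only [e, Finset.mul_sum, Finset.smul_sum]
    refine Fintype.sum_equiv (Equiv.mulLeft a) _ _ fun c => ?_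
    simp only [mul_smul_comm, smul_smul, Equiv.coe_mulLeft, ← Units.val_mul, map_mul,
      mul_inv, mul_inv_cancel_left, Subgroup.coe_mul]
  have horth : ∀ a : A, ∑ l : A →* kˣ, ((l a)⁻¹ : kˣ).val = if a = 1 then 1 else 0 := by
    intro a
    split_ifs with ha
    · subst ha
      simp only [map_one, inv_one, Units.val_one, Finset.sum_const, Finset.card_univ,
        nsmul_eq_mul, mul_one]
      rw [Fintype.card_congr edual.toEquiv, hcardA]
    · obtain ⟨l₀, hl₀⟩ := CommGroup.exists_apply_ne_one_of_hasEnoughRootsOfUnity A k ha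
      have h1 : ((l₀ a)⁻¹ : kˣ).val * ∑ l : A →* kˣ, ((l a)⁻¹ : kˣ).val =
          ∑ l : A →* kˣ, ((l a)⁻¹ : kˣ).val := by
        rw [Finset.mul_sum]
        refine Fintype.sum_equiv (Equiv.mulLeft l₀) _ _ fun l => ?_
        rw [← Units.val_mul, ← mul_inv, Equiv.coe_mulLeft, MonoidHom.mul_apply]
      by_contra h0
      have h2 : ((l₀ a)⁻¹ : kˣ).val = 1 := by
        rw [← mul_left_inj' h0, one_mul]; exact h1
      exact hl₀ (inv_eq_one.mp (Units.ext h2))
  have hsum : ∑ l : A →* kˣ, e l = 1 := by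
    simp only [e]
    rw [Finset.sum_comm]
    simp only [← Finset.sum_smul, horth, ite_smul, one_smul, zero_smul, Finset.sum_ite_eq',
      Finset.mem_univ, if_true]
    exact map_one R
  have heq : ∀ l l' : A →* kˣ, l ≠ l' → e l * e l' = 0 := by
    intro l l' hne
    have h1 : e l * e l' = (∑ a : A, ((l a)⁻¹ : kˣ).val * (l' a).val) • e l' := by
      conv_lhs => simp only [e]
      rw [Finset.sum_mul, Finset.sum_smul]
      refine Finset.sum_congr rfl fun a _ => ?_
      rw [smul_mul_assoc, show R (a : S) * _ = _ from hemul l' a, smul_smul]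
    obtain ⟨a₀, ha₀⟩ : ∃ a, l' a ≠ l a := by
      by_contra hcon
      push Not at hcon
      exact hne (MonoidHom.ext fun a => (hcon a).symm)
    have h0 : (∑ a : A, ((l a)⁻¹ : kˣ).val * (l' a).val) = 0 := by
      have h2 : (((l a₀)⁻¹ : kˣ).val * (l' a₀).val) * (∑ a : A, ((l a)⁻¹ : kˣ).val * (l' a).val) =
          ∑ a : A, ((l a)⁻¹ : kˣ).val * (l' a).val := by
        rw [Finset.mul_sum]
        refine Fintype.sum_equiv (Equiv.mulLeft a₀) _ _ fun a => ?_
        simp only [Equiv.coe_mulLeft, map_mul, mul_inv, Units.val_mul]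
        ring
      by_contra h0
      have h3 : ((l a₀)⁻¹ * l' a₀ : kˣ).val = 1 := by
        rw [Units.val_mul, ← mul_left_inj' h0, one_mul]; exact h2
      exact ha₀ (inv_mul_eq_one.mp (Units.ext h3)).symm
    rw [h1, h0, zero_smul]
  have hidem : ∀ l, e l * e l = e l := by
    intro l
    calc e l * e l = ∑ l', e l * e l' :=
          (Fintype.sum_eq_single l fun l' h' => heq l l' (Ne.symm h')).symm
      _ = e l := by rw [← Finset.mul_sum, hsum, mul_one]
  have hconj : ∀ (g : S) (l : A →* kˣ), R g * e l = e (g • l) * R g := by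
    intro g l
    simp only [e, Finset.mul_sum, Finset.sum_mul]
    refine Fintype.sum_equiv (MulAut.conjNormal g : A ≃* A).toEquiv _ _ fun a => ?_
    have h1 : (g • l) (MulAut.conjNormal g a) = l a := by
      show l (MulAut.conjNormal g⁻¹ (MulAut.conjNormal g a)) = l a
      rw [← MulAut.mul_apply, ← map_mul, inv_mul_cancel, map_one, MulAut.one_apply]
    have h2 : (MulAut.conjNormal g : A ≃* A).toEquiv a = MulAut.conjNormal g a := rfl
    have h3 : g * (a : S) = ((MulAut.conjNormal g a : A) : S) * g := by simp [mul_assoc]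
    simp only [h2, h1, mul_smul_comm, smul_mul_assoc, ← map_mul, h3]
  have he1 : e 1 = 0 := by
    refine TensorProduct.AlgebraTensorModule.ext fun c w => ?_
    rw [LinearMap.zero_apply]
    simp only [e, MonoidHom.one_apply, inv_one, Units.val_one, one_smul, LinearMap.sum_apply, hR]
    rw [← TensorProduct.tmul_sum, hnf (∑ a : A, ρ (a : S) w) ?_, TensorProduct.tmul_zero]
    intro a ha
    rw [map_sum]
    exact Fintype.sum_equiv (Equiv.mulLeft ⟨a, ha⟩) _ _ fun c => by
      rw [← Module.End.mul_apply, ← map_mul]; rfl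
  -- generator and semiregularity
  obtain ⟨x, hxB, hx1⟩ : ∃ x ∈ B, x ≠ (1 : S) := by
    refine (Subgroup.bot_or_exists_ne_one B).resolve_left fun h => ?_
    rw [h, Subgroup.card_bot] at hB
    exact hq.one_lt.ne hB
  have hgen : ∀ y ∈ B, y ≠ 1 → Subgroup.zpowers y = B := by
    intro y hy hy1
    refine Subgroup.eq_of_le_of_card_ge ((Subgroup.zpowers_le).mpr hy) ?_
    rw [hB, Nat.card_zpowers]
    rcases (Nat.dvd_prime hq).mp (hB ▸ B.orderOf_dvd_natCard hy) with h | h
    · exact absurd (orderOf_eq_one_iff.mp h) hy1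
    · exact h.ge
  have hsemi : ∀ y ∈ B, y ≠ 1 → ∀ l : A →* kˣ, y • l = l → l = 1 := by
    intro y hy hy1 l hyl
    have hall : ∀ z ∈ B, z • l = l := by
      intro z hz
      rw [← hgen y hy hy1] at hz
      obtain ⟨i, rfl⟩ := hz
      exact (MulAction.mem_stabilizer_iff (G := S)).mp (zpow_mem (MulAction.mem_stabilizer_iff.mpr hyl) i)
    refine MonoidHom.ext fun a => ?_
    have hle : A ≤ (l.ker).map A.subtype := by
      conv_lhs => rw [← hcomm]
      rw [Subgroup.commutator_le]
      intro a ha z hz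
      refine ⟨⟨a, ha⟩ * (MulAut.conjNormal z (⟨a, ha⟩ : A))⁻¹, ?_, ?_⟩
      · show l _ = 1
        rw [map_mul, map_inv, mul_inv_eq_one]
        conv_rhs => rw [← hall z hz]
        show l _ = l (MulAut.conjNormal z⁻¹ (MulAut.conjNormal z _))
        rw [← MulAut.mul_apply, ← map_mul, inv_mul_cancel, map_one, MulAut.one_apply]
      · simp [commutatorElement_def, mul_assoc]
    obtain ⟨a', ha', e'⟩ := hle a.2
    rw [← Subtype.ext e']
    exact ha'
  obtain ⟨l₀, hl₀⟩ : ∃ l, e l ≠ 0 := by
    by_contra hcon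
    push Not at hcon
    simp only [hcon, Finset.sum_const_zero] at hsum
    obtain ⟨w, hw⟩ := exists_ne (0 : E)
    have h1 : (1 : k) ⊗ₜ[ZMod 2] w = 0 := by
      have := congrArg (fun f : Module.End k (k ⊗[ZMod 2] E) => f ((1 : k) ⊗ₜ[ZMod 2] w)) hsum
      simpa using this.symm
    let bk := Module.Basis.ofVectorSpace (ZMod 2) k
    have h2 := congrArg (TensorProduct.equivFinsuppOfBasisLeft (N := E) bk) h1
    obtain ⟨i, hi⟩ : ∃ i, bk.repr 1 i ≠ 0 := by
      by_contra hcon
      push Not at hcon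
      exact one_ne_zero (bk.repr.injective (Finsupp.ext fun i => by simp [hcon i]) : (1 : k) = 0)
    have h3 := DFunLike.congr_fun h2 i
    simp at h3
    exact hw (by tauto)
  have hsupp : ∀ (g : S) l, e l ≠ 0 → e (g • l) ≠ 0 := by
    intro g l hl h0
    apply hl
    have h1 := hconj g l
    rw [h0, zero_mul] at h1
    have := congrArg (R g⁻¹ * ·) h1
    simpa [← mul_assoc, ← map_mul] using this
  have hTn : ∀ l : A →* kˣ, (MulAction.orbit (T : Subgroup S) l).ncard ∣ Nat.card T := fun l => by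
    rw [← MulAction.index_stabilizer]
    exact Subgroup.index_dvd_card _
  have hnoinv : ∀ y ∈ B, y ≠ 1 → ∀ l : A →* kˣ, e l ≠ 0 →
      ∃ m ∈ MulAction.orbit (T : Subgroup S) l, y • m ∉ MulAction.orbit (T : Subgroup S) l := by
    intro y hy hy1 l hl
    by_contra hcon
    push Not at hcon
    set O := MulAction.orbit (T : Subgroup S) l
    have hinv : ∀ (z : S), z ∈ B → ∀ m ∈ O, z • m ∈ O := by
      intro z hz
      rw [← hgen y hy hy1] at hz
      obtain ⟨i, rfl⟩ := mem_powers_iff_mem_zpowers.mpr hz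
      clear hz
      induction i with
      | zero => simp
      | succ i ih =>
        intro m hm
        simp only [pow_succ', mul_smul]
        exact hcon _ (ih m hm)
    let _ : MulAction B O :=
      { smul := fun z m => ⟨(z : S) • (m : A →* kˣ), hinv z z.2 m m.2⟩
        one_smul := fun m => Subtype.ext (one_smul S (m : A →* kˣ))
        mul_smul := fun z z' m => Subtype.ext (mul_smul (z : S) (z' : S) (m : A →* kˣ)) }
    have hBq : IsPGroup q B := IsPGroup.of_card (n := 1) (by rw [hB, pow_one])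
    have hnd : ¬ q ∣ Nat.card O := by
      intro hd
      rw [Nat.card_coe_set_eq] at hd
      obtain ⟨a, ha⟩ := IsPGroup.iff_card.mp T.isPGroup'
      have := (hd.trans (hTn l))
      rw [ha] at this
      exact hq2 ((Nat.prime_dvd_prime_iff_eq hq Nat.prime_two).mp (hq.dvd_of_dvd_pow this))
    obtain ⟨⟨m, hmO⟩, hm⟩ := hBq.nonempty_fixed_point_of_prime_not_dvd_card O hnd
    have hm1 : m = 1 := hsemi y hy hy1 m (congrArg Subtype.val (hm ⟨y, hy⟩))
    obtain ⟨t, ht⟩ := hmO
    exact hsupp (t : S) l hl (show e ((t : S) • l) = 0 by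
      rw [show (t : S) • l = m from ht, hm1]; exact he1)
  -- projections onto orbits
  let P : (A →* kˣ) → Module.End k (k ⊗[ZMod 2] E) := fun l =>
    ∑ m ∈ Finset.univ.filter (· ∈ MulAction.orbit (T : Subgroup S) l), e m
  have heP : ∀ l m : A →* kˣ, e m * P l = if m ∈ MulAction.orbit (T : Subgroup S) l then e m else 0 := by
    intro l m
    simp only [P, Finset.mul_sum]
    split_ifs with hm
    · rw [Finset.sum_eq_single m (fun m' _ h' => heq m m' (Ne.symm h'))
        (fun hn => absurd (Finset.mem_filter.mpr ⟨Finset.mem_univ _, hm⟩) hn)]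
      exact hidem m
    · exact Finset.sum_eq_zero fun m' hm' =>
        heq m m' fun h => hm (h ▸ (Finset.mem_filter.mp hm').2)
  have hvec : ∀ l : A →* kˣ, e l ≠ 0 → ∃ v, v ≠ 0 ∧ (∀ t ∈ (T : Subgroup S), R t v = v) ∧
      ∀ m, if m ∈ MulAction.orbit (T : Subgroup S) l then e m v ≠ 0 else e m v = 0 := by
    intro l hl
    have hcomP : ∀ t ∈ (T : Subgroup S), R t * P l = P l * R t := by
      intro t ht
      simp only [P, Finset.mul_sum, Finset.sum_mul]
      refine Finset.sum_equiv (MulAction.toPerm t : Equiv.Perm (A →* kˣ)) (fun m => ?_)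
        fun m _ => hconj t m
      simp only [Finset.mem_filter, Finset.mem_univ, true_and, MulAction.toPerm_apply]
      constructor
      · rintro ⟨u, hu⟩
        exact ⟨⟨t, ht⟩ * u, by simp only [mul_smul]; exact congrArg (t • ·) hu⟩
      · rintro ⟨u, hu⟩
        refine ⟨⟨t, ht⟩⁻¹ * u, ?_⟩
        simp only at hu ⊢
        rw [mul_smul, hu]
        exact inv_smul_smul t m
    let W : Submodule (ZMod 2) (k ⊗[ZMod 2] E) := (LinearMap.range (P l)).restrictScalars (ZMod 2)
    have hP0 : P l ≠ 0 := fun h0 => hl (by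
      have := heP l l
      rw [if_pos (MulAction.mem_orbit_self l), h0, mul_zero] at this
      exact this.symm)
    obtain ⟨u, hu⟩ : ∃ u, P l u ≠ 0 := by
      by_contra hcon
      push Not at hcon
      exact hP0 (LinearMap.ext hcon)
    let σ : Representation (ZMod 2) (T : Subgroup S) (k ⊗[ZMod 2] E) :=
      { toFun := fun t => (R (t : S)).restrictScalars (ZMod 2)
        map_one' := LinearMap.ext fun v => hone v
        map_mul' := fun s t => LinearMap.ext fun v => hmul s t v }
    obtain ⟨v, hvW, hv0, hv⟩ := FixedOrbits.exists_fixed T.isPGroup' σ W (fun t w hw => by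
      obtain ⟨w', rfl⟩ := hw
      exact ⟨R (t : S) w', (LinearMap.congr_fun (hcomP t t.2) w').symm⟩)
      (w := P l u) ⟨u, rfl⟩ hu
    refine ⟨v, hv0, fun t ht => hv ⟨t, ht⟩, fun m => ?_⟩
    obtain ⟨v', rfl⟩ := hvW
    have houtside : ∀ m', m' ∉ MulAction.orbit (T : Subgroup S) l → e m' (P l v') = 0 := by
      intro m' hm'
      have := LinearMap.congr_fun (heP l m') v'
      rw [if_neg hm'] at this
      exact this
    split_ifs with hm
    · intro h0
      have hzero : ∀ m', e m' (P l v') = 0 := by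
        intro m'
        by_cases hm' : m' ∈ MulAction.orbit (T : Subgroup S) l
        · rw [← MulAction.orbit_eq_iff.mpr hm] at hm'
          obtain ⟨t, rfl⟩ := hm'
          have h1 := LinearMap.congr_fun (hconj (t : S) m) (P l v')
          simp only [Module.End.mul_apply, h0, map_zero] at h1
          rw [show R (t : S) (P l v') = P l v' from hv t] at h1
          exact h1.symm
        · exact houtside m' hm'
      apply hv0
      have := LinearMap.congr_fun hsum (P l v')
      simp only [LinearMap.sum_apply, hzero, Finset.sum_const_zero, Module.End.one_apply] at this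
      exact this.symm
    · exact houtside m hm
  have hcount : ∀ (r : ℕ) (ls : Fin r → (A →* kˣ)), (∀ i, e (ls i) ≠ 0) →
      (∀ i j, i ≠ j → ls i ∉ MulAction.orbit (T : Subgroup S) (ls j)) →
      r ≤ Module.finrank (ZMod 2) E₀ := by
    intro r ls hls hdis
    choose v hv0 hvT hvs using fun i => hvec (ls i) (hls i)
    have hli : LinearIndependent k v := by
      rw [Fintype.linearIndependent_iff]
      intro g hg i
      have h1 := congrArg (fun z : k ⊗[ZMod 2] E => e (ls i) z) hg
      simp only [map_sum, map_smul, map_zero] at h1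
      have hi := hvs i (ls i)
      rw [if_pos (MulAction.mem_orbit_self _)] at hi
      rw [Finset.sum_eq_single i (fun j _ hj => by
        have := hvs j (ls i)
        rw [if_neg (hdis i j (Ne.symm hj))] at this
        rw [this, smul_zero]) (fun hn => absurd (Finset.mem_univ i) hn)] at h1
      exact (smul_eq_zero.mp h1).resolve_right hi
    haveI : Module.Finite k U := Module.Finite.span_of_finite k (Set.finite_range _)
    have := Submodule.finrank_mono
      (show Submodule.span k (Set.range v) ≤ U from Submodule.span_le.mpr (by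
        rintro _ ⟨i, rfl⟩; exact hfixU _ (hvT i)))
    rw [finrank_span_eq_card hli, Fintype.card_fin] at this
    exact this.trans hdim
  -- two orbits
  obtain ⟨m₀, hm₀, hm₁⟩ := hnoinv x hxB hx1 l₀ hl₀
  have htwo : 2 ≤ Module.finrank (ZMod 2) E₀ := by
    have hn : x • m₀ ∉ MulAction.orbit (T : Subgroup S) l₀ := hm₁
    refine hcount 2 ![l₀, x • m₀] ?_ ?_
    · intro i
      fin_cases i
      · exact hl₀
      · obtain ⟨t, rfl⟩ := hm₀
        exact hsupp x _ (hsupp (t : S) l₀ hl₀)
    · intro i j hij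
      fin_cases i <;> fin_cases j <;> simp only [ne_eq, not_true_eq_false] at hij
      · exact fun h => hn (MulAction.mem_orbit_symm.mp h)
      · exact hn
  by_cases h3 : 3 ≤ Module.finrank (ZMod 2) E₀
  · exact Or.inl (show 2 ^ 3 ≤ _ from Nat.pow_le_pow_right two_pos h3)
  have hd2 : Module.finrank (ZMod 2) E₀ = 2 := by omega
  refine Or.inr ⟨by rw [hd2]; rfl, ?_⟩
  by_contra hcon
  push Not at hcon
  have hpres : ∀ y ∈ B, ∀ v ∈ E₀, ρ y v ∈ E₀ := fun y hy v hv =>
    (hE₀ _).mpr (hcon y hy v ((hE₀ v).mp hv))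
  -- the case of a normalised Sylow subgroup gives three orbits
  obtain ⟨y, hy, t, ht, hyt⟩ : ∃ y ∈ B, ∃ t ∈ (T : Subgroup S), y * t * y⁻¹ ∉ (T : Subgroup S) := by
    by_contra hnor
    push Not at hnor
    apply h3
    refine hcount 3 (fun i => x ^ (i : ℕ) • l₀) (fun i => hsupp _ _ hl₀) ?_
    intro i j hij hmem
    have hox : orderOf x = q := by
      rw [← Nat.card_zpowers, hgen x hxB hx1, hB]
    set w := x ^ (i : ℕ) * (x ^ (j : ℕ))⁻¹ with hw
    have hwB : w ∈ B := mul_mem (pow_mem hxB _) (inv_mem (pow_mem hxB _))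
    have hw1 : w ≠ 1 := by
      intro h1
      rw [hw, mul_inv_eq_one] at h1
      have hq3 : 3 ≤ q := by have := hq.two_le; omega
      exact hij (Fin.ext (pow_injOn_Iio_orderOf (by simp [hox]; omega) (by simp [hox]; omega) h1))
    obtain ⟨m, hm, hm'⟩ := hnoinv w hwB hw1 (x ^ (j : ℕ) • l₀) (hsupp _ _ hl₀)
    apply hm'
    obtain ⟨s, rfl⟩ := hm
    rw [← MulAction.orbit_eq_iff.mpr hmem]
    refine ⟨⟨w * (s : S) * w⁻¹, hnor w hwB s s.2⟩, ?_⟩
    show (w * (s : S) * w⁻¹) • x ^ (i : ℕ) • l₀ = w • (s : S) • x ^ (j : ℕ) • l₀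
    simp only [smul_smul, hw, mul_inv_rev, inv_inv, mul_assoc, inv_mul_cancel, mul_one,
      inv_mul_cancel_left]
  -- otherwise the subgroup generated fixes `E₀`
  let F : Subgroup S :=
    { carrier := {g | ∀ v ∈ E₀, ρ g v = v}
      one_mem' := fun v _ => by simp
      mul_mem' := fun {g g'} hg hg' v hv => by
        rw [map_mul, Module.End.mul_apply, hg' v hv, hg v hv]
      inv_mem' := fun {g} hg v hv => by
        conv_lhs => rw [← hg v hv]
        rw [← Module.End.mul_apply, ← map_mul, inv_mul_cancel, map_one, Module.End.one_apply] }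
  set K : Subgroup S := F ⊓ ((T : Subgroup S) ⊔ B) with hK
  have hTK : (T : Subgroup S) ≤ K :=
    le_inf (fun s hs v hv => (hE₀ v).mp hv s hs) le_sup_left
  have hmemK : y * t * y⁻¹ ∈ K := by
    refine ⟨fun v hv => ?_, Subgroup.mul_mem _ (Subgroup.mul_mem _ (Subgroup.mem_sup_right hy)
      (Subgroup.mem_sup_left ht)) (Subgroup.inv_mem _ (Subgroup.mem_sup_right hy))⟩
    rw [map_mul, map_mul, Module.End.mul_apply, Module.End.mul_apply,
      (hE₀ _).mp (hpres y⁻¹ (inv_mem hy) v hv) t ht, ← Module.End.mul_apply, ← map_mul,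
      mul_inv_cancel, map_one, Module.End.one_apply]
  have hKeq : (T : Subgroup S) ⊔ B ≤ K := by
    refine (Subgroup.eq_of_le_of_card_ge inf_le_right ?_).ge
    obtain ⟨c, hc⟩ := Subgroup.card_dvd_of_le hTK
    have hd : c ∣ q := by
      have h1 : Nat.card K ∣ Nat.card T * q := hTB ▸ Subgroup.card_dvd_of_le inf_le_right
      rw [hc] at h1
      exact Nat.dvd_of_mul_dvd_mul_left Nat.card_pos h1
    rcases (Nat.dvd_prime hq).mp hd with rfl | rfl
    · exfalso
      rw [mul_one] at hc
      exact hyt ((Subgroup.eq_of_le_of_card_ge hTK hc.le).symm ▸ hmemK)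
    · rw [hTB, ← hc]
  have hxU : ∀ v ∈ U, R x v = v := by
    intro v hv
    induction hv using Submodule.span_induction with
    | mem v hv =>
      obtain ⟨i, rfl⟩ := hv
      rw [hR, (hKeq (Subgroup.mem_sup_right hxB)).1 _ (b i).2]
    | zero => exact map_zero _
    | add u v _ _ hu hv => rw [map_add, hu, hv]
    | smul c v _ hv => rw [map_smul, hv]
  obtain ⟨v, -, hvT, hvs⟩ := hvec l₀ hl₀
  obtain ⟨m, hm, hm'⟩ := hnoinv x hxB hx1 l₀ hl₀
  have h1 := hvs m
  rw [if_pos hm] at h1
  have h2 := hvs (x • m)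
  rw [if_neg hm'] at h2
  apply h1
  have h4 := LinearMap.congr_fun (hconj x m) v
  simp only [Module.End.mul_apply, hxU v (hfixU v hvT), h2] at h4
  have h5 := congrArg (R x⁻¹) h4
  rwa [map_zero, ← hmul, inv_mul_cancel, hone] at h5

end Cfsg.Agent.S4414

namespace Cfsg.Agent.S4414

/-- Let S be a finite solvable group whose order is divisible only by the primes 2, p, q (p, q distinct odd primes), with a Sylow system S₂, S_p, S_q (pairwise permutable Sylow subgroups) such that: S_p is a minimal normal subgroup of S of order p or p²; S_q has order q and [S_p, S_q] = S_p; and O₂(S) = 1. Let E be an irreducible module for S over the field with two elements on which S_p acts faithfully, and E₀ the subspace of fixed points of S₂. Then either E₀ has at least 8 elements, or E₀ has exactly 4 elements and S_q does not leave E₀ invariant. -/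
theorem result {S : Type*} [Group S] [Finite S]
    [Group.IsSolvable S] (p q : ℕ) (hp : p.Prime) (hq : q.Prime) (hp2 : p ≠ 2) (hq2 : q ≠ 2) (hpq : p ≠ q)
    (hπ : ∀ r : ℕ, r.Prime → r ∣ Nat.card S → r = 2 ∨ r = p ∨ r = q)
    (S₂ : Sylow 2 S) (Sp : Sylow p S) (Sq : Sylow q S)
    (h2q : Nat.card ↥((S₂ : Subgroup S) ⊔ (Sq : Subgroup S)) = Nat.card ↥S₂ * Nat.card ↥Sq)
    (h2p : Nat.card ↥((S₂ : Subgroup S) ⊔ (Sp : Subgroup S)) = Nat.card ↥S₂ * Nat.card ↥Sp)
    (hpq' : Nat.card ↥((Sp : Subgroup S) ⊔ (Sq : Subgroup S)) = Nat.card ↥Sp * Nat.card ↥Sq)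
    (hSpN : (Sp : Subgroup S).Normal) (hSpmin : ∀ N : Subgroup S, N.Normal → N ≤ (Sp : Subgroup S) → N = ⊥ ∨ N = (Sp : Subgroup S))
    (hSpcard : Nat.card ↥Sp = p ∨ Nat.card ↥Sp = p ^ 2)
    (hSq : Nat.card ↥Sq = q) (hcomm : ⁅(Sp : Subgroup S), (Sq : Subgroup S)⁆ = (Sp : Subgroup S))
    (hO2 : Cfsg.pCore 2 S = ⊥)
    {E : Type*} [AddCommGroup E] [Module (ZMod 2) E] [Finite E] (ρ : Representation (ZMod 2) S E) (hE : Nontrivial E)
    (hirr : ∀ N : Submodule (ZMod 2) E, (∀ s : S, ∀ m ∈ N, ρ s m ∈ N) → N = ⊥ ∨ N = ⊤)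
    (hfaith : ∀ x ∈ (Sp : Subgroup S), ρ x = 1 → x = 1) :
    8 ≤ Nat.card {v : E // ∀ s ∈ (S₂ : Subgroup S), ρ s v = v} ∨
      (Nat.card {v : E // ∀ s ∈ (S₂ : Subgroup S), ρ s v = v} = 4 ∧
        ∃ x ∈ (Sq : Subgroup S), ∃ v : E, (∀ s ∈ (S₂ : Subgroup S), ρ s v = v) ∧ ¬ ∀ s ∈ (S₂ : Subgroup S), ρ s (ρ x v) = ρ x v) := by
  haveI : Fact p.Prime := ⟨hp⟩
  haveI : Fact q.Prime := ⟨hq⟩
  haveI := hSpN
  haveI := hE
  haveI : IsMulCommutative (Sp : Subgroup S) := by
    rcases hSpcard with h | h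
    · haveI : IsCyclic (Sp : Subgroup S) := isCyclic_of_prime_card h
      exact ⟨⟨fun a b => by
        letI := (IsCyclic.commGroup : CommGroup (Sp : Subgroup S))
        exact mul_comm a b⟩⟩
    · exact IsPGroup.isMulCommutative_of_card_eq_prime_sq h
  have hA : Nat.card (Sp : Subgroup S) = p ∨ Nat.card (Sp : Subgroup S) = p ^ 2 := hSpcard
  have hodd : Odd (Nat.card (Sp : Subgroup S)) := by
    rcases hA with h | h <;> rw [h]
    · exact hp.odd_of_ne_two hp2
    · exact (hp.odd_of_ne_two hp2).pow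
  refine main q hq2 S₂ Sp Sq hodd hSq (h2q.trans (congrArg (Nat.card S₂ * ·) hSq)) hcomm ρ ?_
  let N : Submodule (ZMod 2) E := ⨅ a : (Sp : Subgroup S), LinearMap.ker (ρ (a : S) - 1)
  have hN : ∀ v, v ∈ N ↔ ∀ a ∈ (Sp : Subgroup S), ρ a v = v := fun v => by
    simp [N, sub_eq_zero]
  rcases hirr N (fun s m hm => (hN _).mpr fun a ha => by
    have h1 : s⁻¹ * a * s ∈ (Sp : Subgroup S) := hSpN.conj_mem' a ha s
    conv_rhs => rw [← (hN m).mp hm _ h1]
    simp only [← Module.End.mul_apply, ← map_mul]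
    simp [mul_assoc]) with h | h
  · intro v hv
    exact (Submodule.mem_bot (ZMod 2)).mp (h ▸ (hN v).mpr hv)
  · exfalso
    obtain ⟨a, ha, ha1⟩ : ∃ a ∈ (Sp : Subgroup S), a ≠ 1 := by
      refine (Subgroup.bot_or_exists_ne_one _).resolve_left fun hb => ?_
      rw [← Subgroup.card_eq_one] at hb
      rcases hA with h' | h' <;> rw [h'] at hb
      · exact hp.one_lt.ne' hb
      · exact (Nat.one_lt_pow two_ne_zero hp.one_lt).ne' hb
    exact ha1 (hfaith a ha (LinearMap.ext fun v => by
      simpa using (hN v).mp (h ▸ Submodule.mem_top) a ha))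

end Cfsg.Agent.S4414
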