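import Cfsg.Statements.S4415
import Cfsg.Agent.Lib.Solvable.RankTwoUnipotent.Main

set_option autoImplicit false
open Cfsg

namespace Cfsg.Agent.S4415

/-- Let S be a finite solvable group acting faithfully on a finite-dimensional space E over the field with three elements, with O₃(S) = 1. Let B ≤ S have order 3 and suppose: E = E₀ ⊕ E₁ with B fixing E₁ pointwise, E₀ B-invariant of order 27 and indecomposable under B (a generator of B has a single Jordan block on E₀); B normalizes but does not centralize some subgroup Q of S that is elementary abelian of order 4; and B is the centre of a Sylow 3-subgroup of S. Put R = [O_{3'}(S), B]. Then R is elementary abelian of order 4 or extraspecial of order 32 containing an elementary abelian subgroup of order 8 (a central product of two quaternion groups), and E is the direct sum of a subspace fixed pointwise by R and an RB-invariant subspace on which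 the subgroup RB acts faithfully and irreducibly. -/
theorem result {S : Type*} [Group S] [Finite S]
    [Group.IsSolvable S] {E : Type*} [AddCommGroup E] [Module (ZMod 3) E] [Finite E] (ρ : Representation (ZMod 3) S E)
    (hfaith : Function.Injective ρ) (hO3 : Cfsg.pCore 3 S = ⊥)
    (B : Subgroup S) (hB : Nat.card ↥B = 3) (b : S) (hb : Subgroup.zpowers b = B)
    (E₀ E₁ : Submodule (ZMod 3) E) (hE01 : E₀ ⊓ E₁ = ⊥) (hE01' : E₀ ⊔ E₁ = ⊤)
    (hE1 : ∀ v ∈ E₁, ρ b v = v) (hE0inv : ∀ v ∈ E₀, ρ b v ∈ E₀) (hE0 : Nat.card ↥E₀ = 27)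
    (hind : ∃ v ∈ E₀, ρ b (ρ b v - v) - (ρ b v - v) ≠ 0)
    (Q : Subgroup S) (hQ : Cfsg.IsElementaryAbelian 2 Q) (hQ4 : Nat.card ↥Q = 4)
    (hBQ : B ≤ Subgroup.normalizer (Q : Set S)) (hBQ' : ¬ B ≤ Subgroup.centralizer (Q : Set S))
    (P : Sylow 3 S) (hBZ : (Subgroup.center ↥(P : Subgroup S)).map (P : Subgroup S).subtype = B) :
    ((Cfsg.IsElementaryAbelian 2 ⁅Cfsg.pPrimeCore 3 S, B⁆ ∧ Nat.card ↥⁅Cfsg.pPrimeCore 3 S, B⁆ = 4) ∨
      (Cfsg.IsExtraspecial 2 ↥⁅Cfsg.pPrimeCore 3 S, B⁆ ∧ Nat.card ↥⁅Cfsg.pPrimeCore 3 S, B⁆ = 32 ∧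
        ∃ A : Subgroup S, A ≤ ⁅Cfsg.pPrimeCore 3 S, B⁆ ∧ Cfsg.IsElementaryAbelian 2 A ∧ Nat.card ↥A = 8)) ∧
    ∃ F₀ F₁ : Submodule (ZMod 3) E, F₀ ⊓ F₁ = ⊥ ∧ F₀ ⊔ F₁ = ⊤ ∧
      (∀ r ∈ ⁅Cfsg.pPrimeCore 3 S, B⁆, ∀ v ∈ F₁, ρ r v = v) ∧ (∀ r ∈ ⁅Cfsg.pPrimeCore 3 S, B⁆ ⊔ B, ∀ v ∈ F₀, ρ r v ∈ F₀) ∧
      (∀ r ∈ ⁅Cfsg.pPrimeCore 3 S, B⁆ ⊔ B, (∀ v ∈ F₀, ρ r v = v) → r = 1) ∧
      (∀ N : Submodule (ZMod 3) E, N ≤ F₀ → (∀ r ∈ ⁅Cfsg.pPrimeCore 3 S, B⁆ ⊔ B, ∀ v ∈ N, ρ r v ∈ N) → N = ⊥ ∨ N = F₀) := by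
  have hbB : b ∈ B := hb ▸ Subgroup.mem_zpowers b
  have hb3 : b ^ 3 = 1 := by
    rw [← hB, ← hb, Nat.card_zpowers, pow_orderOf_eq_one]
  have hn : b ∈ Subgroup.normalizer (Q : Set S) := hBQ hbB
  have hfpf := CfsgLib.Solvable.RankTwoUnipotent.fpf_of_four hb3 hQ.2 hQ4 hn
    (fun h => hBQ' (by rw [← hb, Subgroup.zpowers_le]; exact h))
  have hbP : ∃ z : (P : Subgroup S), z ∈ Subgroup.center ↥(P : Subgroup S) ∧ (z : S) = b := by
    have h : b ∈ (Subgroup.center ↥(P : Subgroup S)).map (P : Subgroup S).subtype := by rw [hBZ]; exact hbB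
    obtain ⟨z, hz, hzb⟩ := h
    exact ⟨z, hz, hzb⟩
  have hQR := CfsgLib.Solvable.RankTwoUnipotent.four_le_commutator hb hQ.2 hn hfpf P hbP
  have hcop : (Nat.card (Cfsg.pPrimeCore 3 S)).Coprime 3 := CfsgLib.Solvable.Cores.coprime_card_pPrimeCore 3
  have hRH : ⁅Cfsg.pPrimeCore 3 S, B⁆ ≤ Cfsg.pPrimeCore 3 S := Subgroup.commutator_le_left _ _
  exact CfsgLib.Solvable.RankTwoUnipotent.of_four ρ hfaith hb
    ⟨fun q _ h => hfaith (LinearMap.ext fun v => by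
        rw [h v, CfsgLib.Solvable.RankTwoUnipotent.apply_one]),
      hQ.1, hQ.2, hQ4, hb3, hn, hfpf,
      CfsgLib.Solvable.RankTwoUnipotent.rank_le_two ρ hb3 E₀ E₁ hE01' hE1 hE0inv hE0⟩
    hQR (hcop.coprime_dvd_left (Subgroup.card_dvd_of_le hRH))
    (Subgroup.normalizer_commutator_ge_right _ _)
    (CfsgLib.Coprime.commutator_commutator_self (by rw [Subgroup.normalizer_eq_top]; exact le_top)
      (by rw [hB]; exact hcop.symm) (Or.inr inferInstance))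

end Cfsg.Agent.S4415
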