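import Cfsg.Statements.S4417
import Cfsg.Agent.Lib.Frobenius.LinearPGroup
import Cfsg.Agent.Lib.Fusion.NormalRankTwo
import Cfsg.Agent.Lib.FrobRealize.Quaternion

set_option autoImplicit false
open Cfsg

namespace Cfsg.Agent.S4417

open Module
open scoped commutatorElement
open CfsgLib.Frobenius.LinearPGroup

universe u v

/-- The bound on the derived length. -/
def L (e n : ℕ) : ℕ := if n < e then 0 else Nat.log 2 (n / e) + 1

theorem L_mono {e m n : ℕ} (h : m ≤ n) : L e m ≤ L e n := by
  unfold L
  by_cases hm : m < e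
  · simp [hm]
  · have hn : ¬ n < e := by omega
    simp only [hm, hn, if_false]
    exact Nat.add_le_add_right (Nat.log_mono_right (Nat.div_le_div_right h)) 1

theorem L_half {e d n : ℕ} (he : 0 < e) (hd : 2 * d ≤ n) (hn : e ≤ n) : L e d + 1 ≤ L e n := by
  unfold L
  have hn' : ¬ n < e := by omega
  simp only [hn', if_false]
  by_cases h : d < e
  · simp [h]
  · simp only [h, if_false]
    have h1 : 0 < d / e := Nat.div_pos (by omega) he
    have h2 : d / e * 2 ≤ n / e := by
      rw [Nat.le_div_iff_mul_le he]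
      have := Nat.div_mul_le_self d e
      nlinarith
    have h3 := Nat.log_mono_right (b := 2) h2
    rw [Nat.log_mul_base (by norm_num) h1.ne'] at h3
    omega

theorem derived_le_of_card (p : ℕ) [Fact p.Prime] {P : Type u} [Group P] [Finite P]
    (hP : IsPGroup p P) (M : Subgroup P) [M.Normal] (hM : M.index = p) : derivedSeries P 1 ≤ M := by
  rw [derivedSeries_one]
  have hc : Nat.card (P ⧸ M) = p := by rw [← Subgroup.index_eq_card, hM]
  haveI := isCyclic_of_prime_card hc
  letI : CommGroup (P ⧸ M) := IsCyclic.commGroup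
  exact Abelianization.commutator_subset_ker (QuotientGroup.mk' M) |>.trans (QuotientGroup.ker_mk' M).le

theorem irred {F : Type v} [Field F] [Fintype F] (p : ℕ) [hp : Fact p.Prime]
    (hpF : ¬ p ∣ Fintype.card F) (e : ℕ) (he : e = orderOf (Fintype.card F : ZMod p)) (he0 : 0 < e)
    (n : ℕ) (hen : e ≤ n) (hqp : (Fintype.card F : ZMod p) ≠ 0) (hpK : (p : F) ≠ 0)
    (ih : ∀ m < n, ∀ (P : Type u) [Group P] [Finite P], IsPGroup p P →
      ∀ (V : Type v) [AddCommGroup V] [Module F V] [FiniteDimensional F V]
        (ρ : Representation F P V), finrank F V = m → ∀ g ∈ derivedSeries P (L e m), ρ g = 1)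
    (R : Type u) [Group R] [Finite R] (hQ : IsPGroup p R) (V : Type v) [AddCommGroup V] [Module F V]
    [FiniteDimensional F V] (σ : Representation F R V) (hn : finrank F V = n)
    (hfaith : ∀ a : R, σ a = 1 → a = 1)
    (hirr : ∀ U : Submodule F V, (∀ g, ∀ x ∈ U, σ g x ∈ U) → U ≠ ⊥ → U = ⊤) :
    ∀ g ∈ derivedSeries R (L e n), σ g = 1 := by
  classical
  intro g hg
  have hsmall : ¬ n < e := by omega
  by_cases hab : ∀ a b : R, a * b = b * a
  · have h1 : derivedSeries R 1 = ⊥ := by
      rw [derivedSeries_one, commutator_def, Subgroup.commutator_eq_bot_iff_le_centralizer]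
      exact fun a _ => Subgroup.mem_centralizer_iff.mpr fun b _ => hab b a
    have hL : 1 ≤ L e n := by
      unfold L; rw [if_neg hsmall]; omega
    have := derivedSeries_antitone R hL hg
    rw [h1, Subgroup.mem_bot] at this
    rw [this, map_one]
  by_cases hnc : ∃ A : Subgroup R, A.Normal ∧ IsMulCommutative A ∧ ¬ IsCyclic A
  swap
  · -- every normal abelian subgroup is cyclic
    push Not at hnc
    have hp2 : p = 2 := by
      by_contra hp2
      have hRc : ¬ IsCyclic R := fun h => hab fun a b => IsCyclic.commutative.is_comm.comm a b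
      obtain ⟨E, -, hEn, hEel, hEc⟩ := CfsgLib.Fusion.NormalRankTwo.exists_normal_rankTwo hQ hp2
        (S := (⊤ : Subgroup R)) (fun h => hRc (Subgroup.topEquiv.isCyclic.mp h))
      have hcy := hnc E hEn hEel.1
      obtain ⟨x, hx⟩ := IsCyclic.exists_generator (α := E)
      have hord : orderOf x = Nat.card E := orderOf_eq_card_of_forall_mem_zpowers hx
      have hdvd : orderOf x ∣ p := orderOf_dvd_of_pow_eq_one (Subtype.ext (hEel.2 x x.2))
      have h5 := Nat.le_of_dvd hp.out.pos (hord ▸ hdvd)
      rw [hEc, sq] at h5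
      nlinarith [hp.out.two_le]
    subst hp2
    obtain ⟨A, hAn, hAc, hAs⟩ := CfsgLib.FrobRealize.Quaternion.exists_self_centralizing hQ
    haveI := hAn
    have hAm : IsMulCommutative A := ⟨⟨fun a b => Subtype.ext (hAc a a.2 b b.2)⟩⟩
    haveI := hnc A hAn hAm
    have hd1 : derivedSeries R 1 ≤ A := by
      rw [derivedSeries_one, commutator_def, Subgroup.commutator_le]
      intro a _ b _
      refine hAs _ fun c hc => ?_
      let κ : R →* MulAut A := MulAut.conjNormal
      have hcom : κ a * κ b = κ b * κ a := (IsCyclic.mulAutMulEquiv A).injective (by rw [map_mul, map_mul, mul_comm])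
      have h1 : κ ⁅a, b⁆ = 1 := by
        rw [commutatorElement_def, map_mul, map_mul, map_mul, map_inv, map_inv, hcom]
        group
      have h2 : ((κ ⁅a, b⁆) ⟨c, hc⟩ : R) = c := by rw [h1]; rfl
      rw [MulAut.conjNormal_apply] at h2
      conv_rhs => rw [← h2]
      group
    have hd2 : derivedSeries R 2 = ⊥ := by
      rw [derivedSeries_succ, Subgroup.commutator_eq_bot_iff_le_centralizer]
      exact fun a ha => Subgroup.mem_centralizer_iff.mpr fun b hb => hAc b (hd1 hb) a (hd1 ha)
    have he1 : e = 1 := by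
      rw [he, orderOf_eq_one_iff]
      exact (Fin.exists_fin_two.mp ⟨(Fintype.card F : ZMod 2), rfl⟩).resolve_left hqp
    have hn2 : 2 ≤ n := by
      by_contra hn2
      refine hab fun a b => ?_
      rcases Nat.eq_zero_or_pos n with h0 | h0
      · haveI := (Module.finrank_zero_iff (R := F) (M := V)).mp (hn.trans h0)
        have : ∀ a : R, a = 1 := fun a => hfaith a (LinearMap.ext fun x => Subsingleton.elim _ _)
        rw [this a, this b]
      · obtain ⟨v, hv0, hv⟩ := finrank_eq_one_iff'.mp (show finrank F V = 1 by omega)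
        refine inv_mul_eq_one.mp (hfaith ((b * a)⁻¹ * (a * b)) ?_) |>.symm
        have hsc : σ (a * b) = σ (b * a) := by
          refine LinearMap.ext fun x => ?_
          obtain ⟨c, rfl⟩ := hv x
          obtain ⟨r, hr⟩ := hv (σ a v)
          obtain ⟨s, hs⟩ := hv (σ b v)
          simp only [map_smul, map_mul, Module.End.mul_apply, ← hr, ← hs, smul_smul, mul_comm]
        rw [map_mul σ (b * a)⁻¹, hsc, ← map_mul, inv_mul_cancel, map_one]
    have hL : 2 ≤ L e n := by
      unfold L; rw [if_neg hsmall, he1, Nat.div_one]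
      have := Nat.log_mono_right (b := 2) hn2
      rw [Nat.log_eq_one_iff'.mpr ⟨le_rfl, by norm_num⟩] at this
      omega
    have := derivedSeries_antitone R hL hg
    rw [hd2, Subgroup.mem_bot] at this
    rw [this, map_one]
  obtain ⟨A, hAn, hAm, hAc⟩ := hnc
  haveI := hAn
  obtain ⟨E, -, hEn, hEel, hEc⟩ := CfsgLib.Fusion.NormalRankTwo.exists_of_abelian hQ hAm hAc
  haveI := hEn
  haveI : Nontrivial E := Finite.one_lt_card_iff_nontrivial.mp (by
    rw [hEc]; nlinarith [hp.out.two_le])
  haveI := hQ.isNilpotent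
  obtain ⟨z, hzE, hzc, hz1⟩ : ∃ z, z ∈ E ∧ z ∈ Subgroup.center R ∧ z ≠ 1 := by
    have h := CfsgLib.Solvable.FrattiniFitting.inf_center_ne_bot E
      ((Subgroup.nontrivial_iff_ne_bot E).mp inferInstance)
    obtain ⟨⟨x, hx⟩, hx1⟩ := Subgroup.ne_bot_iff_exists_ne_one.1 h
    exact ⟨x, hx.1, hx.2, fun e => hx1 (Subtype.ext e)⟩
  have hzp : z ^ p = 1 := hEel.2 z hzE
  have hzord : orderOf z = p := orderOf_eq_prime hzp hz1
  obtain ⟨a, haE, haz⟩ : ∃ a ∈ E, a ∉ Subgroup.zpowers z := by
    by_contra h
    push Not at h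
    have h1 := Subgroup.card_le_of_le (show E ≤ Subgroup.zpowers z from h)
    rw [Nat.card_zpowers, hzord, hEc, sq] at h1
    nlinarith [hp.out.two_le]
  have hzfix : ∀ v, σ z v = v → v = 0 := by
    intro v hv
    by_contra hv0
    have htop := hirr (LinearMap.eqLocus (σ z) (1 : Module.End F V))
      (fun b x hx => by
        simp only [LinearMap.mem_eqLocus, Module.End.one_apply] at hx ⊢
        rw [← Module.End.mul_apply, ← map_mul, ← (Subgroup.mem_center_iff.mp hzc b), map_mul,
          Module.End.mul_apply, hx])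
      (fun h => hv0 (by
        have hmem : v ∈ LinearMap.eqLocus (σ z) (1 : Module.End F V) := by
          simpa [LinearMap.mem_eqLocus] using hv
        rw [h] at hmem
        exact (Submodule.mem_bot F).mp hmem))
    refine hz1 (hfaith z (LinearMap.ext fun x => ?_))
    have : x ∈ LinearMap.eqLocus (σ z) (1 : Module.End F V) := htop ▸ Submodule.mem_top
    simpa [LinearMap.mem_eqLocus] using this
  have hcaz : Commute a z := Subgroup.mem_center_iff.mp hzc a
  obtain ⟨i, w, hw0, hw⟩ : ∃ (i : ℕ) (w : V), w ≠ 0 ∧ σ (a * z ^ i) w = w := by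
    by_contra hno
    push Not at hno
    have hzero : ∀ (c : R) (x : V), c ^ p = 1 →
        σ c (∑ j ∈ Finset.range p, σ (c ^ j) x) = ∑ j ∈ Finset.range p, σ (c ^ j) x := by
      intro c x hc
      rw [map_sum]
      have h := Finset.sum_range_succ' (fun j => σ (c ^ j) x) p
      rw [Finset.sum_range_succ, hc, pow_zero] at h
      refine (Finset.sum_congr rfl fun j _ => ?_).trans (add_right_cancel h).symm
      rw [pow_succ', map_mul, Module.End.mul_apply]
    obtain ⟨v, hv⟩ : ∃ v : V, v ≠ 0 := by
      by_contra h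
      push Not at h
      exact hz1 (hfaith z (LinearMap.ext fun x => by rw [h x, map_zero, map_zero]))
    have hS : ∀ i : ℕ, ∑ j ∈ Finset.range p, σ ((a * z ^ i) ^ j) v = 0 := by
      intro i
      by_contra h
      refine hno i _ h (hzero _ v ?_)
      rw [(hcaz.pow_right i).mul_pow, ← pow_mul, mul_comm i p, pow_mul, hzp, one_pow, mul_one,
        hEel.2 a haE]
    have htot : ∑ j ∈ Finset.range p, σ (a ^ j) (∑ i ∈ Finset.range p, σ ((z ^ j) ^ i) v) = 0 := by
      have h := Finset.sum_eq_zero (s := Finset.range p) fun i _ => hS i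
      rw [Finset.sum_comm] at h
      refine (Finset.sum_congr rfl fun j _ => ?_).trans h
      rw [map_sum]
      refine Finset.sum_congr rfl fun i _ => ?_
      rw [(hcaz.pow_right i).mul_pow, map_mul, Module.End.mul_apply, ← pow_mul, ← pow_mul,
        mul_comm j i]
    rw [Finset.sum_eq_single_of_mem 0 (Finset.mem_range.mpr hp.out.pos)] at htot
    · simp only [pow_zero, one_pow, map_one, Module.End.one_apply, Finset.sum_const,
        Finset.card_range, ← Nat.cast_smul_eq_nsmul F, smul_eq_zero] at htot
      exact htot.elim hpK hv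
    · intro j hj hj0
      have hzj : orderOf (z ^ j) = p := by
        rw [(Nat.Coprime.orderOf_pow (by
          rw [hzord]
          exact (Nat.Prime.coprime_iff_not_dvd hp.out).mpr fun hd =>
            hj0 (Nat.eq_zero_of_dvd_of_lt hd (Finset.mem_range.mp hj)))), hzord]
      have hfix := hzero (z ^ j) v (by rw [← hzj]; exact pow_orderOf_eq_one _)
      have hzx : ∀ x, σ (z ^ j) x = x → x = 0 := by
        intro x hx
        refine hzfix x ?_
        have hmem : z ∈ Subgroup.zpowers (z ^ j) := by
          have heq : Subgroup.zpowers (z ^ j) = Subgroup.zpowers z := by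
            refine Subgroup.eq_of_le_of_card_ge
              (Subgroup.zpowers_le.mpr (Subgroup.pow_mem _ (Subgroup.mem_zpowers z) j)) ?_
            rw [Nat.card_zpowers, Nat.card_zpowers, hzj, hzord]
          exact heq ▸ Subgroup.mem_zpowers z
        obtain ⟨k, hk⟩ := mem_powers_iff_mem_zpowers.mpr hmem
        rw [← hk]
        clear hk
        induction k with
        | zero => simp
        | succ k ihk => simp only [pow_succ, map_mul, Module.End.mul_apply, hx]; exact ihk
      rw [hzx _ hfix, map_zero]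
  set b := a * z ^ i with hb
  have hbE : b ∈ E := mul_mem haE (pow_mem hzE i)
  have hb1 : b ≠ 1 := fun h => haz (by
    rw [mul_eq_one_iff_eq_inv] at h
    exact h ▸ inv_mem (pow_mem (Subgroup.mem_zpowers z) i))
  -- the centraliser of `b` has index `p`
  let M : Subgroup R := Subgroup.centralizer {b}
  have hidx : M.index = p := by
    have hnc : M ≠ ⊤ := by
      intro hM
      have hbc : ∀ c : R, c * b = b * c := fun c =>
        (Subgroup.mem_centralizer_singleton_iff.mp (show c ∈ M from hM ▸ Subgroup.mem_top c))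
      have htop := hirr (LinearMap.eqLocus (σ b) (1 : Module.End F V))
        (fun c x hx => by
          simp only [LinearMap.mem_eqLocus, Module.End.one_apply] at hx ⊢
          rw [← Module.End.mul_apply, ← map_mul, ← hbc c, map_mul, Module.End.mul_apply, hx])
        (fun h => hw0 (by
          have hmem : w ∈ LinearMap.eqLocus (σ b) (1 : Module.End F V) := by
            simpa [LinearMap.mem_eqLocus] using hw
          rw [h] at hmem
          exact (Submodule.mem_bot F).mp hmem))
      refine hb1 (hfaith b (LinearMap.ext fun x => ?_))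
      have : x ∈ LinearMap.eqLocus (σ b) (1 : Module.End F V) := htop ▸ Submodule.mem_top
      simpa [LinearMap.mem_eqLocus] using this
    obtain ⟨k, hk⟩ := hQ.index M
    have hk0 : k ≠ 0 := fun h => hnc (Subgroup.index_eq_one.mp (by rw [hk, h, pow_zero]))
    have hle : M.index ≤ Nat.card (Subgroup.zpowers z) := by
      rw [Subgroup.index_eq_card]
      have hEz : ∀ c : R, c * b * c⁻¹ * b⁻¹ ∈ Subgroup.zpowers z := by
        intro c
        haveI : (Subgroup.zpowers z).Normal := ⟨fun x hx d => by
          rwa [show d * x = x * d from ?_, mul_inv_cancel_right]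
          obtain ⟨k, rfl⟩ := hx
          exact Subgroup.mem_center_iff.mp (Subgroup.zpow_mem _ hzc k) d⟩
        have hcE : Nat.card (E.map (QuotientGroup.mk' (Subgroup.zpowers z))) ≤ p := by
          have h1 := Subgroup.card_mul_index ((Subgroup.zpowers z).subgroupOf E)
          have h2 : Nat.card ((Subgroup.zpowers z).subgroupOf E) = p := by
            rw [Nat.card_congr (Subgroup.subgroupOfEquivOfLe (Subgroup.zpowers_le.mpr hzE)).toEquiv,
              Nat.card_zpowers, hzord]
          rw [h2, hEc, sq] at h1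
          have h3 := Nat.eq_of_mul_eq_mul_left hp.out.pos h1
          rw [← Subgroup.relIndex_ker (K := E) (QuotientGroup.mk' (Subgroup.zpowers z)), QuotientGroup.ker_mk']
          show ((Subgroup.zpowers z).subgroupOf E).index ≤ p
          exact h3.le
        haveI : (E.map (QuotientGroup.mk' (Subgroup.zpowers z))).Normal :=
          Subgroup.Normal.map hEn _ (QuotientGroup.mk'_surjective _)
        haveI := (hQ.to_quotient (Subgroup.zpowers z)).isNilpotent
        have hcen : E.map (QuotientGroup.mk' (Subgroup.zpowers z)) ≤ Subgroup.center _ := by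
          rcases eq_or_ne (E.map (QuotientGroup.mk' (Subgroup.zpowers z))) ⊥ with h | h
          · rw [h]; exact bot_le
          · have h4 := CfsgLib.Solvable.FrattiniFitting.inf_center_ne_bot _ h
            have h5 : Nat.card (E.map (QuotientGroup.mk' (Subgroup.zpowers z))) ∣ p ^ 1 := by
              obtain ⟨m, hm⟩ := IsPGroup.iff_card.mp ((hQ.to_quotient (Subgroup.zpowers z)).to_subgroup
                (E.map (QuotientGroup.mk' (Subgroup.zpowers z))))
              rw [hm]
              refine pow_dvd_pow p ?_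
              by_contra hm1
              have : p ^ 2 ≤ p ^ m := Nat.pow_le_pow_right hp.out.pos (by omega)
              rw [← hm, sq] at this
              nlinarith [hp.out.two_le]
            rw [pow_one] at h5
            have h6 := (hp.out.eq_one_or_self_of_dvd _ (Subgroup.card_dvd_of_le (inf_le_left :
              E.map (QuotientGroup.mk' (Subgroup.zpowers z)) ⊓ Subgroup.center _ ≤ _) |>.trans h5))
            rcases h6 with h6 | h6
            · exact absurd (Subgroup.card_eq_one.mp h6) h4
            · refine inf_eq_left.mp (Subgroup.eq_of_le_of_card_ge inf_le_left ?_)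
              rw [h6]; exact hcE
        rw [← QuotientGroup.eq_one_iff]
        have h7 := Subgroup.mem_center_iff.mp (hcen (Subgroup.mem_map_of_mem _ hbE))
          (QuotientGroup.mk' _ c)
        simp only [QuotientGroup.mk'_apply] at h7
        simp only [QuotientGroup.mk_mul, QuotientGroup.mk_inv, h7]
        group
      refine Nat.card_le_card_of_injective (fun x : R ⧸ M => Quotient.liftOn' x
        (fun c => (⟨c * b * c⁻¹ * b⁻¹, hEz c⟩ : Subgroup.zpowers z)) ?_) ?_
      · intro c d hcd
        rw [QuotientGroup.leftRel_apply, Subgroup.mem_centralizer_singleton_iff] at hcd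
        refine Subtype.ext ?_
        simp only [mul_left_inj]
        calc c * b * c⁻¹ = c * (b * (c⁻¹ * d)) * d⁻¹ := by group
          _ = c * ((c⁻¹ * d) * b) * d⁻¹ := by rw [hcd]
          _ = d * b * d⁻¹ := by group
      · intro x y
        refine Quotient.inductionOn₂' x y fun c d hcd => ?_
        have h8 : c * b * c⁻¹ = d * b * d⁻¹ := mul_right_cancel (congrArg Subtype.val hcd :)
        refine Quotient.sound' ?_
        rw [QuotientGroup.leftRel_apply, Subgroup.mem_centralizer_singleton_iff]
        calc c⁻¹ * d * b = c⁻¹ * (d * b * d⁻¹) * d := by group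
          _ = c⁻¹ * (c * b * c⁻¹) * d := by rw [h8]
          _ = b * (c⁻¹ * d) := by group
    rw [Nat.card_zpowers, hzord, hk] at hle
    rw [hk]
    have : k ≤ 1 := (Nat.pow_le_pow_iff_right hp.out.one_lt).mp (by rwa [pow_one])
    rw [show k = 1 by omega, pow_one]
  haveI hMn : M.Normal := by
    refine Subgroup.normal_of_index_eq_minFac_card ?_
    obtain ⟨k, hk⟩ := IsPGroup.iff_card.mp hQ
    have hk0 : k ≠ 0 := by
      intro h
      have := Subgroup.index_dvd_card M
      rw [hidx, hk, h, pow_zero, Nat.dvd_one] at this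
      exact hp.out.one_lt.ne' this
    rw [hidx, hk, Nat.pow_minFac hk0, hp.out.minFac_eq]
  -- a minimal `M`-invariant subspace
  have hex : ∃ W : Submodule F V, ((∀ m ∈ M, ∀ x ∈ W, σ m x ∈ W) ∧ W ≠ ⊥ ∧
      ∀ x ∈ W, σ b x = x) ∧ ∀ W' : Submodule F V, W' ≤ W → (∀ m ∈ M, ∀ x ∈ W', σ m x ∈ W') →
      W' = ⊥ ∨ W' = W := by
    obtain ⟨W, hW, hmin⟩ := WellFounded.has_min (wellFounded_lt (α := Submodule F V))
      {W | (∀ m ∈ M, ∀ x ∈ W, σ m x ∈ W) ∧ W ≠ ⊥ ∧ ∀ x ∈ W, σ b x = x}
      ⟨LinearMap.eqLocus (σ b) (1 : Module.End F V), fun m hm x hx => by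
          simp only [LinearMap.mem_eqLocus, Module.End.one_apply] at hx ⊢
          rw [← Module.End.mul_apply, ← map_mul, ← Subgroup.mem_centralizer_singleton_iff.mp hm,
            map_mul, Module.End.mul_apply, hx],
        fun h => hw0 (by
          have hmem : w ∈ LinearMap.eqLocus (σ b) (1 : Module.End F V) := by
            simpa [LinearMap.mem_eqLocus] using hw
          rw [h] at hmem
          exact (Submodule.mem_bot F).mp hmem),
        fun x hx => by simpa [LinearMap.mem_eqLocus] using hx⟩
    refine ⟨W, hW, fun W' hle hW' => or_iff_not_imp_left.mpr fun h0 => ?_⟩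
    exact eq_of_le_of_not_lt hle (hmin W' ⟨hW', h0, fun x hx => hW.2.2 x (hle hx)⟩)
  obtain ⟨W, ⟨hWM, hW0, hWb⟩, hWmin⟩ := hex
  have hWtop : W ≠ ⊤ := fun h =>
    hb1 (hfaith b (LinearMap.ext fun x => hWb x (h ▸ Submodule.mem_top)))
  obtain ⟨c, hc⟩ : ∃ c : R, ¬ ∀ x ∈ W, σ c x ∈ W := by
    by_contra h
    push Not at h
    exact hWtop (hirr W h hW0)
  have hinj : ∀ d : R, Function.Injective (σ d) := fun d x y h => by
    have := congrArg (σ d⁻¹) h
    rwa [apply_inv_self, apply_inv_self] at this
  have hdim : 2 * finrank F W ≤ n := by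
    have hgW : ∀ m ∈ M, ∀ x ∈ W.map (σ c), σ m x ∈ W.map (σ c) := by
      rintro m hm _ ⟨y, hy, rfl⟩
      refine ⟨σ (c⁻¹ * m * c⁻¹⁻¹) y, hWM _ (hMn.conj_mem m hm c⁻¹) y hy, ?_⟩
      rw [← Module.End.mul_apply, ← map_mul, ← Module.End.mul_apply, ← map_mul]
      congr 2
      group
    rcases hWmin (W ⊓ W.map (σ c)) inf_le_left
      (fun m hm x hx => ⟨hWM m hm x hx.1, hgW m hm x hx.2⟩) with h | h
    · have h1 := Submodule.finrank_sup_add_finrank_inf_eq W (W.map (σ c))
      rw [h, finrank_bot, add_zero, (Submodule.equivMapOfInjective (σ c) (hinj c) W).finrank_eq.symm] at h1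
      have h2 := Submodule.finrank_le (W ⊔ W.map (σ c))
      omega
    · exfalso
      have hle : W ≤ W.map (σ c) := inf_eq_left.mp h
      have heq : W.map (σ c) = W := (Submodule.eq_of_le_of_finrank_eq hle
        (Submodule.equivMapOfInjective (σ c) (hinj c) W).finrank_eq).symm
      exact hc fun x hx => heq ▸ Submodule.mem_map_of_mem hx
  have hWlt : finrank F W < n := hn ▸ Submodule.finrank_lt hWtop
  have hWM' : ∀ m : M, ∀ x ∈ W, (σ.comp M.subtype) m x ∈ W := fun m x hx => hWM m m.2 x hx
  have hker : ∀ d ∈ (derivedSeries M (L e (finrank F W))).map M.subtype, ∀ x ∈ W, σ d x = x := by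
    rintro _ ⟨m, hm, rfl⟩ x hx
    exact congrArg Subtype.val (LinearMap.congr_fun
      (ih _ hWlt M (hQ.to_subgroup M) W (subRep (σ.comp M.subtype) W hWM') rfl m hm) ⟨x, hx⟩)
  have hnorm : ((derivedSeries M (L e (finrank F W))).map M.subtype).Normal := inferInstance
  have hgD : g ∈ (derivedSeries M (L e (finrank F W))).map M.subtype :=
    derivedSeries_succ_le M (derived_le_of_card p hQ M hidx) _
      (derivedSeries_antitone R (L_half he0 hdim hen) hg)
  refine LinearMap.ext fun x => ?_
  have hspan : (⨆ d : R, W.map (σ d)) = ⊤ := by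
    refine hirr _ (fun d => ?_) (fun h => hW0 ?_)
    · have : (⨆ d : R, W.map (σ d)) ≤ (⨆ d : R, W.map (σ d)).comap (σ d) := by
        refine iSup_le fun d' => ?_
        rintro _ ⟨y, hy, rfl⟩
        exact Submodule.mem_iSup_of_mem (d * d') ⟨y, hy, by rw [map_mul, Module.End.mul_apply]⟩
      exact this
    · refine eq_bot_iff.mpr fun y hy => h ▸ ?_
      exact Submodule.mem_iSup_of_mem (1 : R) ⟨y, hy, by rw [map_one]; rfl⟩
  have hx : x ∈ ⨆ d : R, W.map (σ d) := hspan ▸ Submodule.mem_top
  induction hx using Submodule.iSup_induction' with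
  | mem d y hy =>
    obtain ⟨y, hy, rfl⟩ := hy
    have h := hker _ (hnorm.conj_mem g hgD d⁻¹) y hy
    simp only [inv_inv, map_mul, Module.End.mul_apply] at h
    rw [Module.End.one_apply]
    calc σ g (σ d y) = σ d (σ d⁻¹ (σ g (σ d y))) := (apply_self_inv σ d _).symm
      _ = σ d y := by rw [h]
  | zero => simp
  | add y z _ _ h1 h2 => rw [map_add, h1, h2, map_add]

theorem main {F : Type v} [Field F] [Fintype F] (p : ℕ) [hp : Fact p.Prime]
    (hpF : ¬ p ∣ Fintype.card F) (e : ℕ) (he : e = orderOf (Fintype.card F : ZMod p)) :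
    ∀ (n : ℕ) (P : Type u) [Group P] [Finite P], IsPGroup p P →
      ∀ (V : Type v) [AddCommGroup V] [Module F V] [FiniteDimensional F V]
        (ρ : Representation F P V), finrank F V = n → ∀ g ∈ derivedSeries P (L e n), ρ g = 1 := by
  intro n
  induction n using Nat.strong_induction_on with
  | _ n ih =>
  intro P _ _ hP V _ _ _ ρ hn g hg
  classical
  have hqp : (Fintype.card F : ZMod p) ≠ 0 := fun h => hpF ((ZMod.natCast_eq_zero_iff _ _).mp h)
  have he0 : 0 < e := by
    rw [he, ← Units.val_mk0 hqp, orderOf_units]; exact orderOf_pos _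
  have hpK : (p : F) ≠ 0 := by
    intro h
    obtain ⟨r, _⟩ := CharP.exists F
    obtain ⟨k, hr, hk⟩ := FiniteField.card F r
    have hrp : r = p := (Nat.prime_dvd_prime_iff_eq hr hp.out).mp ((CharP.cast_eq_zero_iff F r p).mp h)
    exact hpF (by rw [hk, hrp]; exact dvd_pow_self p k.pos.ne')
  -- small dimension
  by_cases hsmall : n < e
  · let b : Basis (Fin n) F V := (Module.finBasisOfFinrankEq F V hn)
    let φ : P →* GL (Fin n) F :=
      ((LinearMap.toMatrixAlgEquiv b).toMonoidHom.comp ρ).toHomUnits
    have hcop : ¬ p ∣ Nat.card (GL (Fin n) F) := by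
      rw [Matrix.card_GL_field]
      intro hdvd
      obtain ⟨i, -, hi⟩ := (Prime.dvd_finsetProd_iff hp.out.prime _).mp hdvd
      have hin : (i : ℕ) < n := i.2
      have hle : Fintype.card F ^ (i : ℕ) ≤ Fintype.card F ^ n :=
        Nat.pow_le_pow_right Fintype.card_pos hin.le
      rw [← ZMod.natCast_eq_zero_iff, Nat.cast_sub hle, Nat.cast_pow, Nat.cast_pow, sub_eq_zero,
        eq_comm] at hi
      have h1 : (Fintype.card F : ZMod p) ^ (n - i) = 1 :=
        mul_left_cancel₀ (pow_ne_zero (i : ℕ) hqp) (by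
          rw [← pow_add, mul_one, Nat.add_sub_cancel' hin.le]; exact hi.symm)
      have h2 := Nat.le_of_dvd (by omega) (orderOf_dvd_of_pow_eq_one h1)
      omega
    have hφ : φ g = 1 := by
      rw [← orderOf_eq_one_iff]
      obtain ⟨k, hk⟩ := hP g
      obtain ⟨i, -, hi⟩ := (Nat.dvd_prime_pow hp.out).mp
        ((orderOf_map_dvd φ g).trans (orderOf_dvd_of_pow_eq_one hk))
      rcases i with _ | i
      · simpa using hi
      · exfalso
        exact hcop ((dvd_pow_self p (Nat.succ_ne_zero i)).trans (hi ▸ orderOf_dvd_natCard (φ g)))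
    have h3 : LinearMap.toMatrixAlgEquiv b (ρ g) = 1 := congrArg Units.val hφ
    exact (LinearMap.toMatrixAlgEquiv b).injective (by rw [h3, map_one])
  have hen : e ≤ n := by omega
  by_cases hred : ∃ U : Submodule F V, (∀ g, ∀ x ∈ U, ρ g x ∈ U) ∧ U ≠ ⊥ ∧ U ≠ ⊤
  · obtain ⟨U, hU, hU0, hUtop⟩ := hred
    have hUlt : finrank F U < n := hn ▸ Submodule.finrank_lt hUtop
    have hQlt : finrank F (V ⧸ U) < n := by
      have h := U.finrank_quotient_add_finrank
      have h0 : 0 < finrank F U := by
        rw [Nat.pos_iff_ne_zero]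
        exact fun h => hU0 (Submodule.finrank_eq_zero.mp h)
      omega
    have h1 := ih _ hUlt P hP U (subRep ρ U hU) rfl g
      (derivedSeries_antitone P (L_mono hUlt.le) hg)
    have h2 := ih _ hQlt P hP (V ⧸ U) (quotRep ρ U hU) rfl g
      (derivedSeries_antitone P (L_mono hQlt.le) hg)
    have hfix : ∀ x ∈ U, ρ g x = x := fun x hx =>
      congrArg Subtype.val (LinearMap.congr_fun h1 ⟨x, hx⟩)
    have hmod : ∀ x : V, ρ g x - x ∈ U := fun x =>
      (Submodule.Quotient.eq U).mp (LinearMap.congr_fun h2 (Submodule.Quotient.mk x))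
    refine LinearMap.ext fun x => ?_
    have hpow : ∀ k : ℕ, ρ (g ^ k) x = x + k • (ρ g x - x) := by
      intro k
      induction k with
      | zero => simp
      | succ k ihk =>
        rw [pow_succ', map_mul, Module.End.mul_apply, ihk, map_add, map_nsmul, hfix _ (hmod x),
          succ_nsmul]
        abel
    obtain ⟨k, hk⟩ := hP g
    have h3 := hpow (p ^ k)
    rw [hk, map_one, Module.End.one_apply, eq_comm, add_eq_left, ← Nat.cast_smul_eq_nsmul F,
      Nat.cast_pow, smul_eq_zero] at h3
    rcases h3 with h3 | h3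
    · exact absurd h3 (pow_ne_zero k hpK)
    · simpa [Module.End.one_apply] using sub_eq_zero.mp h3
  push Not at hred
  -- irreducible: pass to the faithful quotient
  let N := ρ.ker
  let σ : Representation F (P ⧸ N) V := QuotientGroup.lift N ρ le_rfl
  have hσ : ∀ a : P, σ (QuotientGroup.mk' N a) = ρ a := fun a => rfl
  have hfaith : ∀ a : P ⧸ N, σ a = 1 → a = 1 := fun a => by
    obtain ⟨a, rfl⟩ := QuotientGroup.mk'_surjective N a
    exact fun h => (QuotientGroup.eq_one_iff a).mpr h
  have hirr : ∀ U : Submodule F V, (∀ g, ∀ x ∈ U, σ g x ∈ U) → U ≠ ⊥ → U = ⊤ := fun U hU =>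
    hred U (fun a x hx => hU (QuotientGroup.mk' N a) x hx)
  have hQ : IsPGroup p (P ⧸ N) := hP.to_quotient N
  refine hσ g ▸ irred p hpF e he he0 n hen hqp hpK (fun m hm P _ _ hP V _ _ _ ρ hn g hg => ih m hm P hP V ρ hn g hg)
    (P ⧸ N) hQ V σ hn hfaith hirr _ ?_
  exact map_derivedSeries_eq (QuotientGroup.mk'_surjective N) (L e n) ▸ Subgroup.mem_map_of_mem _ hg


/-- Let F be a field with q elements, p a prime not dividing q, and e the multiplicative order of q modulo p; assume e ≤ n. Then every p-subgroup of GL_n(F) has derived length at most ⌊log₂(n/e)⌋ + 1: that term of its derived series is trivial (n/e is the integer quotient). -/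
theorem result {F : Type*} [Field F] [Fintype F] (q : ℕ) (hF : Fintype.card F = q) (p : ℕ) [Fact p.Prime] (hpq : ¬ p ∣ q) (n e : ℕ) (he : e = orderOf (q : ZMod p)) (hen : e ≤ n) (P : Subgroup (GL (Fin n) F)) (hP : IsPGroup p P) : derivedSeries ↥P (Nat.log 2 (n / e) + 1) = ⊥ := by
  subst hF
  let ρ : Representation F P (Fin n → F) :=
    (Matrix.toLinAlgEquiv' (R := F) (n := Fin n)).toMonoidHom.comp
      ((Units.coeHom (Matrix (Fin n) (Fin n) F)).comp P.subtype)
  have hL : L e n = Nat.log 2 (n / e) + 1 := by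
    unfold L; rw [if_neg (by omega)]
  rw [← hL, eq_bot_iff]
  intro g hg
  have h := main p hpq e he n P hP (Fin n → F) ρ (Module.finrank_fin_fun F) g hg
  refine Subgroup.mem_bot.mpr (Subtype.ext (Units.ext ?_))
  exact (Matrix.toLinAlgEquiv' (R := F) (n := Fin n)).injective (h.trans (map_one _).symm)

end Cfsg.Agent.S4417
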