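import Cfsg.Statements.S4419
import Cfsg.Agent.Lib.Fusion.Alperin
import Cfsg.Agent.Lib.Coprime.Action
import Cfsg.Agent.Lib.PGroup.Frattini
import Cfsg.Agent.Lib.Solvable.Cores

set_option autoImplicit false
open Cfsg

namespace Cfsg.Agent.S4419

open Subgroup
open scoped commutatorElement
open CfsgLib.Solvable

universe u

variable {G : Type u} [Group G] [Finite G]

/-- An element outside a subgroup has a power of prime power order outside it. -/
theorem exists_part (C : Subgroup G) {g : G} (hg : g ∉ C) :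
    ∃ m : ℕ, g ^ m ∉ C ∧ IsPrimePow (orderOf (g ^ m)) := by
  by_contra hne
  simp only [not_exists, not_and] at hne
  suffices key : ∀ n : ℕ, ∀ k : G, orderOf k = n → (∃ m : ℕ, k = g ^ m) → k ∈ C from
    hg (key _ g rfl ⟨1, (pow_one g).symm⟩)
  intro n
  induction n using Nat.recOnPosPrimePosCoprime with
  | prime_pow q j hq hj =>
    rintro k hk ⟨m, rfl⟩
    by_contra hc
    exact hne m hc (hk ▸ ⟨q, j, hq.prime, hj, rfl⟩)
  | zero => exact fun k hk => absurd hk (orderOf_pos k).ne'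
  | one =>
    intro k hk _
    rw [orderOf_eq_one_iff.1 hk]
    exact one_mem _
  | coprime a b ha hb hab iha ihb =>
    rintro k hk ⟨m, rfl⟩
    have e1 : orderOf ((g ^ m) ^ b) = a := by
      rw [orderOf_pow' _ (by omega), hk, Nat.gcd_eq_right (dvd_mul_left b a),
        Nat.mul_div_cancel _ (by omega)]
    have e2 : orderOf ((g ^ m) ^ a) = b := by
      rw [orderOf_pow' _ (by omega), hk, Nat.gcd_eq_right (dvd_mul_right a b),
        Nat.mul_div_cancel_left _ (by omega)]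
    have i1 := iha _ e1 ⟨m * b, by rw [pow_mul]⟩
    have i2 := ihb _ e2 ⟨m * a, by rw [pow_mul]⟩
    have hb' := Nat.gcd_eq_gcd_ab b a
    rw [Nat.coprime_comm.1 hab] at hb'
    rw [← zpow_one (g ^ m), show (1 : ℤ) = _ from hb', zpow_add, zpow_mul, zpow_mul, zpow_natCast,
      zpow_natCast]
    exact mul_mem (zpow_mem i1 _) (zpow_mem i2 _)

/-- Subgroups of metacyclic groups are generated by two elements. -/
theorem two_gen {S : Type u} [Group S] (hS : Cfsg.IsMetacyclic S) (Q : Subgroup S) :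
    ∃ u v : Q, ∀ x : Q, ∃ i j : ℤ, x = u ^ i * v ^ j := by
  obtain ⟨N, hNn, hN, hq⟩ := hS
  have h1 : IsCyclic (N.subgroupOf Q) :=
    isCyclic_of_injective (((Q.subtype).comp (N.subgroupOf Q).subtype).codRestrict N fun x => x.2)
      (fun a b e => Subtype.ext (Subtype.ext (congrArg (fun t : N => (t : S)) e)))
  obtain ⟨⟨u, hu⟩, hugen⟩ := h1.exists_generator
  let f : Q →* S ⧸ N := (QuotientGroup.mk' N).comp Q.subtype
  have h2 : IsCyclic f.range := isCyclic_of_injective f.range.subtype f.range.subtype_injective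
  obtain ⟨⟨_, v, rfl⟩, hvgen⟩ := h2.exists_generator
  refine ⟨u, v, fun x => ?_⟩
  obtain ⟨j, hj⟩ := mem_zpowers_iff.1 (hvgen ⟨f x, x, rfl⟩)
  have hj' : f (v ^ j) = f x := (map_zpow f v j).trans (congrArg Subtype.val hj)
  have hmem : x * (v ^ j)⁻¹ ∈ N.subgroupOf Q := by
    rw [mem_subgroupOf, ← QuotientGroup.eq_one_iff]
    show f (x * (v ^ j)⁻¹) = 1
    rw [map_mul, map_inv, hj', mul_inv_cancel]
  obtain ⟨i, hi⟩ := mem_zpowers_iff.1 (hugen ⟨_, hmem⟩)
  exact ⟨i, j, by rw [show u ^ i = x * (v ^ j)⁻¹ from congrArg Subtype.val hi, inv_mul_cancel_right]⟩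

/-- A `p'`-element normalising but not centralising a two-generated `p`-subgroup. -/
theorem prime_dvd {p : ℕ} [Fact p.Prime] {Q : Subgroup G} (hQ : IsPGroup p Q)
    (h2 : ∃ u v : Q, ∀ x : Q, ∃ i j : ℤ, x = u ^ i * v ^ j) {g : G} {r k : ℕ} [Fact r.Prime]
    (hrp : r ≠ p) (hg : g ∈ normalizer (Q : Set G)) (ho : orderOf g = r ^ k)
    (hc : g ∉ centralizer (Q : Set G)) : r ∣ p ^ 2 - 1 := by
  classical
  have hp : p.Prime := Fact.out
  have hr : r.Prime := Fact.out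
  set Φ := frattini Q with hΦ
  obtain ⟨u, v, huv⟩ := h2
  have hcard : Nat.card (Q ⧸ Φ) ≤ p ^ 2 := by
    haveI : NeZero p := ⟨hp.ne_zero⟩
    refine (Nat.card_le_card_of_surjective (fun ij : ZMod p × ZMod p =>
      (u : Q ⧸ Φ) ^ ij.1.val * (v : Q ⧸ Φ) ^ ij.2.val) ?_).trans_eq ?_
    · intro y
      obtain ⟨x, rfl⟩ := QuotientGroup.mk_surjective y
      obtain ⟨i, j, rfl⟩ := huv x
      refine ⟨(i, j), ?_⟩
      have key : ∀ (w : Q ⧸ Φ) (i : ℤ), w ^ ((i : ZMod p)).val = w ^ i := fun w i => by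
        rw [← zpow_natCast, ZMod.val_intCast, zpow_eq_zpow_iff_modEq]
        exact (Int.mod_modEq i p).of_dvd (Int.natCast_dvd_natCast.2
          (orderOf_dvd_of_pow_eq_one (CfsgLib.PGroup.Frattini.quotient_pow_eq_one hQ w)))
      show (u : Q ⧸ Φ) ^ _ * (v : Q ⧸ Φ) ^ _ = _
      rw [key, key, QuotientGroup.mk_mul, QuotientGroup.mk_zpow, QuotientGroup.mk_zpow]
    · rw [Nat.card_prod, Nat.card_zmod, sq]
  let ψ : normalizer (Q : Set G) →* MulAut Q := normalizerMonoidHom Q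
  let ρ : MulAut Q →* MulAut (Q ⧸ Φ) :=
    { toFun := fun φ => QuotientGroup.congr Φ Φ φ (characteristic_iff_map_eq.1 inferInstance φ)
      map_one' := MulEquiv.ext fun y => by
        obtain ⟨x, rfl⟩ := QuotientGroup.mk_surjective y; rfl
      map_mul' := fun φ φ' => MulEquiv.ext fun y => by
        obtain ⟨x, rfl⟩ := QuotientGroup.mk_surjective y; rfl }
  let θ : zpowers (⟨g, hg⟩ : normalizer (Q : Set G)) →* MulAut (Q ⧸ Φ) :=
    (ρ.comp ψ).comp (zpowers (⟨g, hg⟩ : normalizer (Q : Set G))).subtype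
  letI : MulAction (zpowers (⟨g, hg⟩ : normalizer (Q : Set G))) (Q ⧸ Φ) := MulAction.compHom _ θ
  have hrz : IsPGroup r (zpowers (⟨g, hg⟩ : normalizer (Q : Set G))) :=
    IsPGroup.of_card (n := k) (by rw [Nat.card_zpowers, Subgroup.orderOf_mk, ho])
  have hmod := hrz.card_modEq_card_fixedPoints (Q ⧸ Φ)
  let F : Subgroup (Q ⧸ Φ) :=
    { carrier := MulAction.fixedPoints (zpowers (⟨g, hg⟩ : normalizer (Q : Set G))) (Q ⧸ Φ)
      one_mem' := fun a => map_one (θ a)
      mul_mem' := fun {x y} hx hy a => by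
        show θ a (x * y) = x * y
        rw [map_mul, show θ a x = x from hx a, show θ a y = y from hy a]
      inv_mem' := fun {x} hx a => by
        show θ a x⁻¹ = x⁻¹
        rw [map_inv, show θ a x = x from hx a] }
  have hFne : F ≠ ⊤ := by
    intro hF
    apply hc
    refine zpowers_le.1 (CfsgLib.Coprime.le_centralizer_of_frattini (zpowers_le.2 hg) ?_ ?_)
    · obtain ⟨l, hl⟩ := (hQ.to_subgroup (frattini Q)).exists_card_eq
      rw [Nat.card_zpowers, ho, hl]
      exact Nat.Coprime.pow _ _ ((Nat.coprime_primes hr hp).2 hrp)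
    · intro a ha q hq
      obtain ⟨i, rfl⟩ := mem_zpowers_iff.1 ha
      have hai : g ^ i ∈ normalizer (Q : Set G) := zpow_mem hg i
      have hcq : g ^ i * q * (g ^ i)⁻¹ ∈ Q := (mem_normalizer_iff.1 hai q).1 hq
      have h1 := (hF ▸ mem_top ((⟨q, hq⟩ : Q) : Q ⧸ Φ) : ((⟨q, hq⟩ : Q) : Q ⧸ Φ) ∈ F)
        ⟨(⟨g, hg⟩ : normalizer (Q : Set G)) ^ i, zpow_mem (mem_zpowers _) i⟩
      have h2 : ((⟨g ^ i * q * (g ^ i)⁻¹, hcq⟩ : Q) : Q ⧸ Φ) = ((⟨q, hq⟩ : Q) : Q ⧸ Φ) := h1
      refine ⟨⟨g ^ i * q * (g ^ i)⁻¹, hcq⟩ * ⟨q, hq⟩⁻¹, (QuotientGroup.eq_one_iff _).1 (by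
        rw [QuotientGroup.mk_mul, QuotientGroup.mk_inv, h2, mul_inv_cancel]), rfl⟩
  obtain ⟨n, hn⟩ := (hQ.to_quotient Φ).exists_card_eq
  obtain ⟨i, hi, hFi⟩ := (Nat.dvd_prime_pow hp).1 (hn ▸ card_subgroup_dvd_card F)
  have hlt : i < n := lt_of_le_of_ne hi fun e => hFne (Subgroup.eq_top_of_card_eq F (by rw [hFi, hn, e]))
  have hn2 : n ≤ 2 := (Nat.pow_le_pow_iff_right hp.one_lt).1 (hn ▸ hcard)
  have hmod' : p ^ n ≡ p ^ i [MOD r] := by
    rw [hn] at hmod
    exact hmod.trans (by rw [← hFi]; rfl)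
  have hdvd : r ∣ p ^ n - p ^ i :=
    (Nat.modEq_iff_dvd' (Nat.pow_le_pow_right hp.pos hlt.le)).1 hmod'.symm
  have hp1 : 1 ≤ p := hp.one_le
  have hmul : p ^ 2 - 1 = (p - 1) * (p + 1) := by
    rw [mul_comm, ← Nat.sq_sub_sq, one_pow]
  have hrp' : r.Coprime p := (Nat.coprime_primes hr hp).2 hrp
  interval_cases n <;> interval_cases i
  · rw [pow_one, pow_zero] at hdvd
    rw [hmul]; exact hdvd.mul_right _
  · simpa using hdvd
  · rw [show p ^ 2 - p ^ 1 = p * (p - 1) by rw [Nat.mul_sub]; ring_nf] at hdvd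
    rw [hmul]; exact (hrp'.dvd_of_dvd_mul_left hdvd).mul_right _


/-- Let p be a prime and G a finite group whose Sylow p-subgroups are metacyclic (a cyclic normal subgroup with cyclic quotient). Then G has a normal p-complement if and only if the order of G/O_{p′,p}(G) is coprime to p² − 1. -/
theorem result {G : Type*} [Group G] [Finite G] (p : ℕ) [Fact p.Prime] (S : Sylow p G) (hS : Cfsg.IsMetacyclic ↥(S : Subgroup G)) : Cfsg.HasNormalPComplement p G ↔ Nat.Coprime (Nat.card (G ⧸ Cfsg.pPrimePCore p G)) (p ^ 2 - 1) := by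
  have hp : p.Prime := Fact.out
  have : (Cfsg.pPrimePCore p G).Normal :=
    (CfsgLib.Solvable.Cores.pCore_normal (G := G ⧸ Cfsg.pPrimeCore p G) p).comap _
  constructor
  · rintro ⟨P, N, hN, hNP⟩
    suffices h : Cfsg.pPrimePCore p G = ⊤ by
      rw [← Subgroup.index_eq_card, h, Subgroup.index_top]
      exact Nat.coprime_one_left _
    have hNle : N ≤ Cfsg.pPrimeCore p G := by
      refine CfsgLib.Solvable.Cores.le_pPrimeCore ?_
      rw [← hNP.index_eq_card]
      exact (hp.coprime_iff_not_dvd.2 P.not_dvd_index).symm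
    have hq : IsPGroup p (G ⧸ Cfsg.pPrimeCore p G) := by
      obtain ⟨n, hn⟩ := P.isPGroup'.exists_card_eq
      obtain ⟨i, -, hi⟩ := (Nat.dvd_prime_pow hp).1
        (((Subgroup.index_dvd_of_le hNle).trans (hNP.symm.index_eq_card.trans hn).dvd))
      exact IsPGroup.of_card (n := i) (by rw [← Subgroup.index_eq_card, hi])
    rw [Cfsg.pPrimePCore, eq_top_iff]
    exact le_trans (le_of_eq (Subgroup.comap_top _).symm)
      (Subgroup.comap_mono (CfsgLib.Solvable.Cores.le_pCore (N := ⊤) (hq.to_subgroup ⊤)))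
  intro hcop
  refine CfsgLib.Fusion.Alperin.npc_of_frobenius S fun Q hQ g hg hgo => ?_
  by_contra hc
  obtain ⟨m, hmc, r, k, hr, hk, hmo⟩ := exists_part _ hc
  rw [← Nat.prime_iff] at hr
  have : Fact r.Prime := ⟨hr⟩
  set b := g ^ m with hb
  have hbp : (orderOf b).Coprime p := Nat.Coprime.coprime_dvd_left (orderOf_pow_dvd m) hgo
  have hrp : r ≠ p := by
    rintro rfl
    rw [← hmo] at hbp
    exact hp.one_lt.ne' ((Nat.coprime_self r).1 ((Nat.coprime_pow_left_iff hk r r).1 hbp))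
  have hQp : IsPGroup p Q := S.isPGroup'.to_le hQ
  have h2 : ∃ u v : Q, ∀ x : Q, ∃ i j : ℤ, x = u ^ i * v ^ j := by
    obtain ⟨u, v, huv⟩ := two_gen hS (Q.subgroupOf (S : Subgroup G))
    let e := Subgroup.subgroupOfEquivOfLe hQ
    refine ⟨e u, e v, fun x => ?_⟩
    obtain ⟨i, j, hij⟩ := huv (e.symm x)
    exact ⟨i, j, by rw [← map_zpow, ← map_zpow, ← map_mul, ← hij, MulEquiv.apply_symm_apply]⟩
  have hbn : b ∈ Subgroup.normalizer (Q : Set G) := pow_mem hg m
  have hr2 := prime_dvd hQp h2 hrp hbn hmo.symm hmc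
  by_cases hbK : b ∈ Cfsg.pPrimePCore p G
  · -- then `b` lies in the `p'`-core and centralises `Q`
    have hbO : b ∈ Cfsg.pPrimeCore p G := by
      obtain ⟨l, hl⟩ := CfsgLib.Solvable.Cores.isPGroup_pCore p
        (⟨QuotientGroup.mk b, hbK⟩ : Cfsg.pCore p (G ⧸ Cfsg.pPrimeCore p G))
      obtain ⟨i, hi⟩ := exists_pow_eq_self_of_coprime (x := b) (hbp.symm.pow_left l)
      rw [← hi]
      refine pow_mem ?_ i
      rw [← QuotientGroup.eq_one_iff, QuotientGroup.mk_pow]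
      exact congrArg Subtype.val hl
    apply hmc
    refine Subgroup.mem_centralizer_iff.2 fun q hq => ?_
    have hdis : Disjoint Q (Cfsg.pPrimeCore p G) := by
      refine disjoint_iff.2 (Subgroup.inf_eq_bot_of_coprime ?_)
      obtain ⟨l, hl⟩ := hQp.exists_card_eq
      rw [hl]
      exact ((CfsgLib.Solvable.Cores.coprime_card_pPrimeCore p).symm).pow_left l
    have hmem : b * q * b⁻¹ * q⁻¹ ∈ Q ⊓ Cfsg.pPrimeCore p G := by
      refine Subgroup.mem_inf.2 ⟨Q.mul_mem ((Subgroup.mem_normalizer_iff.1 hbn q).1 hq) (Q.inv_mem hq), ?_⟩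
      rw [show b * q * b⁻¹ * q⁻¹ = b * (q * b⁻¹ * q⁻¹) by group]
      exact mul_mem hbO ((CfsgLib.Solvable.Cores.pPrimeCore_normal p).conj_mem _ (inv_mem hbO) q)
    rw [hdis.eq_bot, Subgroup.mem_bot, mul_inv_eq_one, mul_inv_eq_iff_eq_mul] at hmem
    exact hmem.symm
  · have h1 : orderOf (b : G ⧸ Cfsg.pPrimePCore p G) ∣ r ^ k := by
      rw [hmo]; exact orderOf_map_dvd (QuotientGroup.mk' _) b
    obtain ⟨i, -, hi⟩ := (Nat.dvd_prime_pow hr).1 h1
    have hi0 : i ≠ 0 := by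
      rintro rfl
      rw [pow_zero, orderOf_eq_one_iff, QuotientGroup.eq_one_iff] at hi
      exact hbK hi
    refine hr.one_lt.ne' (Nat.eq_one_of_dvd_coprimes hcop ?_ hr2)
    exact ((hi ▸ dvd_pow_self r hi0 : r ∣ orderOf (b : G ⧸ Cfsg.pPrimePCore p G))).trans (orderOf_dvd_natCard _)

end Cfsg.Agent.S4419
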