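import Cfsg.Statements.S4420


set_option autoImplicit false
open Cfsg

namespace Cfsg.Agent.S4420

/-- Structure of groups in which every element outside some proper subgroup has square 1. Let H be a finite group with a proper subgroup A such that every element outside A has square 1. Then H has an abelian normal subgroup B of index 2 such that every element outside B is an involution inverting every element of B; and if H is not an elementary abelian 2-group, B is the only abelian normal subgroup of index 2 with this property. -/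
theorem result {H : Type*} [Group H] [Finite H] (A : Subgroup H) (hA : A ≠ ⊤) (hD : ∀ x : H, x ∉ A → x ^ 2 = 1) :
    ∃ B : Subgroup H, B.Normal ∧ IsMulCommutative ↥B ∧ B.index = 2 ∧
      (∀ x : H, x ∉ B → x ^ 2 = 1 ∧ ∀ b ∈ B, x * b * x⁻¹ = b⁻¹) ∧
      (¬ (IsMulCommutative H ∧ ∀ x : H, x ^ 2 = 1) →
        ∀ B' : Subgroup H, B'.Normal → IsMulCommutative ↥B' → B'.index = 2 →
          (∀ x : H, x ∉ B' → x ^ 2 = 1 ∧ ∀ b ∈ B', x * b * x⁻¹ = b⁻¹) → B' = B) := by
  classical
  have hinvol : ∀ {t : H}, t ∉ A → t⁻¹ = t := fun {t} ht => by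
    rw [inv_eq_iff_mul_eq_one, ← pow_two, hD t ht]
  have hinv : ∀ t : H, t ∉ A → ∀ a ∈ A, t * a * t⁻¹ = a⁻¹ := by
    intro t ht a ha
    have h1 : t * a ∉ A := fun h => ht (by simpa using A.mul_mem h (A.inv_mem ha))
    have h2 := hD _ h1
    rw [pow_two] at h2
    rw [hinvol ht, eq_inv_iff_mul_eq_one, mul_assoc]
    exact h2
  obtain ⟨t, ht⟩ : ∃ t, t ∉ A := by
    by_contra hc
    exact hA (eq_top_iff.2 fun x _ => not_not.1 fun hx => hc ⟨x, hx⟩)
  have key : ∃ B : Subgroup H, B.index = 2 ∧ IsMulCommutative ↥B ∧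
      ∀ x, x ∉ B → x ^ 2 = 1 ∧ ∀ b ∈ B, x * b * x⁻¹ = b⁻¹ := by
    by_cases h2 : ∀ a ∈ A, a ^ 2 = 1
    · have hall : ∀ x : H, x ^ 2 = 1 := fun x =>
        if hx : x ∈ A then h2 x hx else hD x hx
      have hpg : IsPGroup 2 H := fun x => ⟨1, by simpa using hall x⟩
      have hinvH : ∀ x : H, x⁻¹ = x := fun x => by
        rw [inv_eq_iff_mul_eq_one, ← pow_two, hall x]
      have hcommH : ∀ x y : H, x * y = y * x := fun x y => by
        rw [← hinvH (x * y), mul_inv_rev, hinvH, hinvH]
      have : Nontrivial H := ⟨t, 1, fun h => ht (h ▸ A.one_mem)⟩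
      obtain ⟨B, hB⟩ : ∃ B : Subgroup H, IsCoatom B := (IsCoatomic.exists_coatom _)
      refine ⟨B, ?_, isMulCommutative_iff.2 fun a b => Subtype.ext (hcommH a b), fun x _ => ⟨hall x,
        fun b _ => by rw [hcommH x b, mul_inv_cancel_right, hinvH]⟩⟩
      have : Fact (Nat.Prime 2) := ⟨Nat.prime_two⟩
      obtain ⟨k, hk⟩ := (hpg.to_subgroup B).exists_card_eq
      have hd : 2 ∣ B.index := by
        obtain ⟨j, hj⟩ := hpg.index B
        rcases j with _ | j
        · exact absurd (Subgroup.index_eq_one.1 (by simpa using hj)) hB.1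
        · exact hj ▸ dvd_pow_self 2 j.succ_ne_zero
      obtain ⟨L, hL, hle⟩ := Sylow.exists_subgroup_card_pow_succ
        (p := 2) (n := k) (by rw [← B.card_mul_index, hk, pow_succ]; exact mul_dvd_mul_left _ hd) hk
      have hlt : B < L := lt_of_le_of_ne hle fun e => by
        rw [← e, hk, pow_succ] at hL
        have := pow_pos (show 0 < 2 by norm_num) k
        omega
      rw [hB.2 L hlt, Subgroup.card_top, ← B.card_mul_index, hk, pow_succ] at hL
      exact Nat.eq_of_mul_eq_mul_left (pow_pos (by norm_num) k) hL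
    · simp only [not_forall] at h2
      obtain ⟨a0, ha0, ha0'⟩ := h2
      let C := Subgroup.centralizer (A : Set H)
      have hAcomm : ∀ a ∈ A, ∀ b ∈ A, a * b = b * a := fun a ha b hb => by
        have h1 := hinv t ht (a * b) (A.mul_mem ha hb)
        have h2 : t * (a * b) * t⁻¹ = a⁻¹ * b⁻¹ := by
          rw [← hinv t ht a ha, ← hinv t ht b hb]; group
        rw [h1, mul_inv_rev] at h2
        simpa using congrArg (fun z => z⁻¹) h2
      have hAC : A ≤ C := fun a ha => Subgroup.mem_centralizer_iff.2 fun b hb => hAcomm b hb a ha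
      have hout : ∀ x : H, x ∉ A → x ∉ C := fun x hx hxC => by
        have h1 := Subgroup.mem_centralizer_iff.1 hxC a0 ha0
        have h2 := hinv x hx a0 ha0
        rw [← h1, mul_inv_cancel_right, eq_inv_iff_mul_eq_one, ← pow_two] at h2
        exact ha0' h2
      have hCA : C = A := le_antisymm (fun x hx => not_not.1 fun h => hout x h hx) hAC
      refine ⟨A, ?_, isMulCommutative_iff.2 fun a b => Subtype.ext (hAcomm a a.2 b b.2),
        fun x hx => ⟨hD x hx, hinv x hx⟩⟩
      rw [Subgroup.index_eq_two_iff]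
      refine ⟨t, fun b => ?_⟩
      by_cases hb : b ∈ A
      · exact Or.inr ⟨hb, fun h => ht (by simpa using A.mul_mem (A.inv_mem hb) h)⟩
      · refine Or.inl ⟨?_, hb⟩
        rw [← hCA]
        refine Subgroup.mem_centralizer_iff.2 fun a ha => ?_
        have h1 := hinv t ht a ha
        have h2 := hinv b hb a⁻¹ (A.inv_mem ha)
        have h3 : b * t * a * (b * t)⁻¹ = a := by
          rw [inv_inv] at h2
          calc b * t * a * (b * t)⁻¹ = b * (t * a * t⁻¹) * b⁻¹ := by group
            _ = a := by rw [h1]; exact h2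
        exact (mul_inv_eq_iff_eq_mul.1 h3).symm
  obtain ⟨B, hBi, hBc, hB⟩ := key
  refine ⟨B, Subgroup.normal_of_index_eq_two hBi, hBc, hBi, hB, ?_⟩
  intro hne B' _ hB'c hB'i hB'
  by_contra hBB
  obtain ⟨b, hb, hb'⟩ : ∃ b, b ∈ B ∧ b ∉ B' := by
    by_contra hc
    have hle : B ≤ B' := fun x hx => not_not.1 fun h => hc ⟨x, hx, h⟩
    refine hBB (Subgroup.eq_of_le_of_card_ge hle (le_of_eq ?_)).symm
    have e1 := B.card_mul_index
    have e2 := B'.card_mul_index
    rw [hBi] at e1
    rw [hB'i] at e2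
    omega
  have hall : ∀ x : H, x ^ 2 = 1 := fun x => by
    by_cases hx : x ∈ B
    · by_cases hx' : x ∈ B'
      · have h1 := (hB' b hb').2 x hx'
        have h2 := congrArg Subtype.val (isMulCommutative_iff.1 hBc ⟨b, hb⟩ ⟨x, hx⟩)
        simp only [Subgroup.coe_mul] at h2
        rw [h2, mul_inv_cancel_right, eq_inv_iff_mul_eq_one, ← pow_two] at h1
        exact h1
      · exact (hB' x hx').1
    · exact (hB x hx).1
  refine hne ⟨isMulCommutative_iff.2 fun x y => ?_, hall⟩
  have hinvH : ∀ x : H, x⁻¹ = x := fun x => by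
    rw [inv_eq_iff_mul_eq_one, ← pow_two, hall x]
  rw [← hinvH (x * y), mul_inv_rev, hinvH, hinvH]

end Cfsg.Agent.S4420
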