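import Cfsg.Statements.S4425
import Cfsg.Agent.Lib.Blocks.Height
import Cfsg.Agent.Lib.Blocks.Eigen
-- import your own Cfsg.Agent.* helpers here

set_option autoImplicit false
open Cfsg

namespace Cfsg.Agent.S4425

/-- Let χ be an irreducible character of the finite group G, p a prime, p^a the p-part of the order of G and p^b the p-part of the degree χ(1). Let χ̃ be the class function equal to p^a · χ on p-regular elements and zero on p-singular elements. Then p^(−b) · χ̃ is a generalized character of G, while p^(−(b+1)) · χ̃ is not. -/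
theorem result {G : Type*} [Group G] [Finite G] (p : ℕ) [Fact p.Prime] (χ : Cfsg.IrrCharacter G) : Cfsg.IsGeneralizedCharacter G (fun x : G => if p ∣ orderOf x then (0 : ℂ) else ((p ^ ((Nat.card G).factorization p - (Cfsg.charDegree (χ : G → ℂ)).factorization p) : ℕ) : ℂ) * (χ : G → ℂ) x) ∧ ¬ Cfsg.IsGeneralizedCharacter G (fun x : G => if p ∣ orderOf x then (0 : ℂ) else ((p ^ (Nat.card G).factorization p : ℕ) : ℂ) / ((p ^ ((Cfsg.charDegree (χ : G → ℂ)).factorization p + 1) : ℕ) : ℂ) * (χ : G → ℂ) x) := by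
  classical
  cases nonempty_fintype G
  have hp : p.Prime := Fact.out
  obtain ⟨M, hM⟩ := CfsgLib.Blocks.exists_isPModular hp
  have hB := CfsgLib.Blocks.isPBlock_blockOf (M := M) χ
  have hχ : χ ∈ Cfsg.blockOf M (χ : G → ℂ) := CfsgLib.Blocks.SameBlock_refl hM _
  set b := (Cfsg.charDegree (χ : G → ℂ)).factorization p with hb
  set a := (Nat.card G).factorization p with ha
  have hba : b ≤ a := CfsgLib.Blocks.degVal_le χ
  have hp0 : (p : ℂ) ≠ 0 := by exact_mod_cast hp.ne_zero
  constructor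
  · have hdiv : ∀ ψ, ∃ n : ℤ, CfsgLib.Blocks.regInt p χ ψ = (p : ℤ) ^ b * n := fun ψ => by
      rw [CfsgLib.Blocks.regInt_comm]
      exact (CfsgLib.Blocks.regInt_mod hM ψ χ).1
    choose n hn using hdiv
    convert CfsgLib.Blocks.isGeneralizedCharacter_intSum
      (fun ψ => if ψ ∈ Cfsg.blockOf M (χ : G → ℂ) then n ψ else 0) using 1
    funext x
    apply mul_left_cancel₀ (pow_ne_zero b hp0)
    have h := CfsgLib.Blocks.sum_regInner_mul hM (CfsgLib.Blocks.IsPBlock.isLocalOn hM hB) χ x
    rw [CfsgLib.Blocks.blockInd_of_mem hχ, mul_one] at h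
    rw [Finset.mul_sum]
    refine Eq.trans ?_ (h.symm.trans (Finset.sum_congr rfl fun ψ _ => ?_))
    · by_cases hx : p ∣ orderOf x
      · rw [if_pos hx, if_neg (CfsgLib.Blocks.not_isPRegular.2 hx), mul_zero]
      · rw [if_neg hx, if_pos (show Cfsg.IsPRegular p x from hx), CfsgLib.Blocks.pPartCard,
          ← mul_assoc]
        push_cast
        rw [← pow_add, Nat.add_sub_cancel' hba]
    · by_cases hψ : ψ ∈ Cfsg.blockOf M (χ : G → ℂ)
      · rw [if_pos hψ, CfsgLib.Blocks.blockInd_of_mem hψ, ← CfsgLib.Blocks.cast_regInt hp, hn ψ]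
        push_cast; ring
      · simp [hψ, CfsgLib.Blocks.blockInd_of_notMem hψ]
  · intro hgc
    obtain ⟨n, hn⟩ := CfsgLib.Blocks.pPartCard_dvd_of_vanish hp hgc fun x hx => if_pos hx
    rw [if_neg (by simp [hp.ne_one]), CfsgLib.Blocks.irr_one_eq, CfsgLib.Blocks.pPartCard] at hn
    push_cast at hn
    have h2 : ((Cfsg.charDegree (χ : G → ℂ) : ℤ) : ℂ) = (((p : ℤ) ^ (b + 1) * n : ℤ) : ℂ) := by
      push_cast
      field_simp at hn
      simp only [← ha] at hn
      apply mul_left_cancel₀ (pow_ne_zero a hp0)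
      linear_combination hn
    have h3 : p ^ (b + 1) ∣ Cfsg.charDegree (χ : G → ℂ) := by
      have : (p : ℤ) ^ (b + 1) ∣ (Cfsg.charDegree (χ : G → ℂ) : ℤ) := ⟨n, Int.cast_injective h2⟩
      exact_mod_cast this
    have := (hp.pow_dvd_iff_le_factorization (CfsgLib.Blocks.charDegree_pos χ).ne').1 h3
    omega


end Cfsg.Agent.S4425
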