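import Cfsg.Statements.S4426
import Cfsg.Agent.Lib.Blocks.Height
-- import your own Cfsg.Agent.* helpers here

set_option autoImplicit false
open Cfsg

namespace Cfsg.Agent.S4426

/-- Let χ be an irreducible character in the p-block B of the finite group G (relative to a maximal ideal M of the algebraic integers containing p), let p^a be the p-part of the order of G, and let χ̃ be the class function equal to p^a · χ on p-regular elements and zero elsewhere. For ξ ∈ B the inner product [χ̃, ξ] is an integer. The following are equivalent: (a) χ has height zero in B; (b) for some ξ ∈ B the integer [χ̃, ξ] is nonzero and the exact power of p dividing it equals the exact power of p dividing ξ(1); (c) the same holds for every ξ ∈ B. -/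
theorem result {G : Type*} [Group G] [Fintype G] (p : ℕ) [Fact p.Prime] (M : Ideal Cfsg.AlgInt) (hM : Cfsg.IsPModular p M) (B : Set (Cfsg.IrrCharacter G)) (hB : Cfsg.IsPBlock M B) (χ : Cfsg.IrrCharacter G) (hχ : χ ∈ B) : (Cfsg.blockHeight p B (χ : G → ℂ) = 0 ↔ ∃ ξ ∈ B, ∃ n : ℤ, Cfsg.classInner (fun x : G => if p ∣ orderOf x then (0 : ℂ) else ((p ^ (Nat.card G).factorization p : ℕ) : ℂ) * (χ : G → ℂ) x) (ξ : G → ℂ) = (n : ℂ) ∧ n ≠ 0 ∧ padicValInt p n = (Cfsg.charDegree (ξ : G → ℂ)).factorization p) ∧ (Cfsg.blockHeight p B (χ : G → ℂ) = 0 ↔ ∀ ξ ∈ B, ∃ n : ℤ, Cfsg.classInner (fun x : G => if p ∣ orderOf x then (0 : ℂ) else ((p ^ (Nat.card G).factorization p : ℕ) : ℂ) * (χ : G → ℂ) x) (ξ : G → ℂ) = (n : ℂ) ∧ n ≠ 0 ∧ padicValInt p n = (Cfsg.charDegree (ξ : G → ℂ)).factorization p) := by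
  classical
  have hp := hM.1
  have key : ∀ ξ : Cfsg.IrrCharacter G,
      Cfsg.classInner (fun x : G => if p ∣ orderOf x then (0 : ℂ)
        else ((p ^ (Nat.card G).factorization p : ℕ) : ℂ) * (χ : G → ℂ) x) (ξ : G → ℂ)
        = (CfsgLib.Blocks.regInt p χ ξ : ℂ) := fun ξ => by
    rw [CfsgLib.Blocks.cast_regInt hp, Cfsg.classInner, CfsgLib.Blocks.regInner, Finset.mul_sum,
      Finset.mul_sum, Finset.sum_filter]
    refine Finset.sum_congr rfl fun x _ => ?_
    by_cases hx : p ∣ orderOf x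
    · rw [if_pos hx, if_neg (CfsgLib.Blocks.not_isPRegular.2 hx), zero_mul, mul_zero]
    · rw [if_neg hx, if_pos (show Cfsg.IsPRegular p x from hx), CfsgLib.Blocks.conj_irr,
        CfsgLib.Blocks.pPartCard]
      ring
  have fwd : Cfsg.blockHeight p B (χ : G → ℂ) = 0 → ∀ ξ ∈ B, ∃ n : ℤ,
      Cfsg.classInner (fun x : G => if p ∣ orderOf x then (0 : ℂ)
        else ((p ^ (Nat.card G).factorization p : ℕ) : ℂ) * (χ : G → ℂ) x) (ξ : G → ℂ) = (n : ℂ) ∧
      n ≠ 0 ∧ padicValInt p n = (Cfsg.charDegree (ξ : G → ℂ)).factorization p := fun h ξ hξ => by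
    have h0 := (CfsgLib.Blocks.blockHeight_eq_zero_iff hχ).1 h
    have hne := CfsgLib.Blocks.regInt_ne_zero_of_min hM hB hχ h0 hξ
    obtain ⟨h1, h2⟩ := CfsgLib.Blocks.regInt_exact_of_min hM hB hχ h0 hξ
    refine ⟨_, key ξ, hne, le_antisymm ?_ (((padicValInt_dvd_iff _ _).1 h1).resolve_left hne)⟩
    by_contra hlt
    exact h2 ((padicValInt_dvd_iff _ _).2
      (Or.inr (by unfold CfsgLib.Blocks.degVal; omega)))
  have bwd : (∃ ξ ∈ B, ∃ n : ℤ, Cfsg.classInner (fun x : G => if p ∣ orderOf x then (0 : ℂ)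
        else ((p ^ (Nat.card G).factorization p : ℕ) : ℂ) * (χ : G → ℂ) x) (ξ : G → ℂ) = (n : ℂ) ∧
      n ≠ 0 ∧ padicValInt p n = (Cfsg.charDegree (ξ : G → ℂ)).factorization p) →
      Cfsg.blockHeight p B (χ : G → ℂ) = 0 := by
    rintro ⟨ξ, hξ, n, hn, hne, hv⟩
    by_contra h
    rw [key ξ] at hn
    have hn' := Int.cast_injective hn
    subst hn'
    have h' : CfsgLib.Blocks.minDegVal p B < CfsgLib.Blocks.degVal p χ := by
      have := CfsgLib.Blocks.blockHeight_eq (p := p) B χ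
      omega
    have := ((padicValInt_dvd_iff _ _).1
      (CfsgLib.Blocks.regInt_dvd_of_pos hM hB hχ h' hξ)).resolve_left hne
    simp only [CfsgLib.Blocks.degVal] at this
    omega
  obtain ⟨ξ₀, hξ₀⟩ := CfsgLib.Blocks.IsPBlock.nonempty hM hB
  exact ⟨⟨fun h => ⟨ξ₀, hξ₀, fwd h ξ₀ hξ₀⟩, bwd⟩,
    ⟨fwd, fun h => bwd ⟨ξ₀, hξ₀, h ξ₀ hξ₀⟩⟩⟩


end Cfsg.Agent.S4426
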