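import Cfsg.Statements.S4428
import Cfsg.Agent.Lib.Blocks.SecondMainBlocks
import Cfsg.Agent.Lib.Blocks.Eigen
-- import your own Cfsg.Agent.* helpers here

set_option autoImplicit false
open Cfsg

namespace Cfsg.Agent.S4428

/-- Let χ be an irreducible character of height zero in the p-block B of the finite group G (relative to a maximal ideal M of the algebraic integers containing p). Let x be a p-element of G with centralizer C, and let b be a block of C that induces B. Form the class function ϑ(c) = χ(x c) on C and its b-part (the sum over ψ ∈ b of the inner product of ϑ with ψ, times ψ). Then the b-part of ϑ does not vanish identically on the p-regular elements of C. (Compare the second main Theorem, which gives vanishing when b does not induce B.) -/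
theorem result {G : Type*} [Group G] [Finite G] (p : ℕ) [Fact p.Prime] (M : Ideal Cfsg.AlgInt) (hM : Cfsg.IsPModular p M) (B : Set (Cfsg.IrrCharacter G)) (hB : Cfsg.IsPBlock M B) (χ : Cfsg.IrrCharacter G) (hχ : χ ∈ B) (h0 : Cfsg.blockHeight p B (χ : G → ℂ) = 0) (x : G) (hx : ∃ k : ℕ, orderOf x = p ^ k) (b : Set (Cfsg.IrrCharacter (Subgroup.centralizer ({x} : Set G)))) (hb : Cfsg.IsInducedBlock M (Subgroup.centralizer ({x} : Set G)) b B) : ∃ y : Subgroup.centralizer ({x} : Set G), ¬ p ∣ orderOf y ∧ Cfsg.blockPart b (fun c : Subgroup.centralizer ({x} : Set G) => (χ : G → ℂ) (x * (c : G))) y ≠ 0 := by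
  classical
  cases nonempty_fintype G
  obtain ⟨k, hk⟩ := hx
  by_contra hcon
  push Not at hcon
  have h0' := (CfsgLib.Blocks.blockHeight_eq_zero_iff hχ).1 h0
  obtain ⟨ψ, hψ⟩ := CfsgLib.Blocks.IsPBlock.nonempty hM hb.1
  refine CfsgLib.Blocks.resRegRatio_not_LI hM hb hχ h0' hψ ?_
  set η : (Subgroup.centralizer ({x} : Set G)) → ℂ := fun c => (χ : G → ℂ) (c : G)
  set ϑ : (Subgroup.centralizer ({x} : Set G)) → ℂ := fun c => (χ : G → ℂ) (x * (c : G))
  have hηc : Cfsg.IsClassFunction (Subgroup.centralizer ({x} : Set G)) η := CfsgLib.Blocks.resFun_isClassFunction (Subgroup.centralizer ({x} : Set G))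
    (CfsgLib.Char.IsIrrCharacter.isClassFunction χ.2)
  have hϑc : Cfsg.IsClassFunction (Subgroup.centralizer ({x} : Set G)) ϑ := by
    intro c z
    have hz : (z : G) * x = x * (z : G) := Subgroup.mem_centralizer_singleton_iff.1 z.2
    show (χ : G → ℂ) (x * ((z : G) * (c : G) * (z : G)⁻¹)) = (χ : G → ℂ) (x * (c : G))
    rw [← mul_assoc, ← mul_assoc, ← hz, mul_assoc (z : G) x (c : G), CfsgLib.Blocks.irr_conj_apply]
  obtain ⟨n, ρ, hρ, he⟩ := χ.2
  have hcong : ∀ c : (Subgroup.centralizer ({x} : Set G)), Cfsg.MemLocalIdeal M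
      (CfsgLib.Blocks.regClassFun p ϑ c - CfsgLib.Blocks.regClassFun p η c) := by
    intro c
    unfold CfsgLib.Blocks.regClassFun
    split
    · rw [← mul_sub, CfsgLib.Blocks.pPartCard_div hM.1]
      refine CfsgLib.Blocks.LI.mul_left hM (CfsgLib.Blocks.LR_inv_ordCompl hM) ?_
      have hc : Commute x ((c⁻¹ : (Subgroup.centralizer ({x} : Set G))) : G) :=
        (Subgroup.mem_centralizer_singleton_iff.1 (c⁻¹ : (Subgroup.centralizer ({x} : Set G))).2).symm
      have := CfsgLib.Blocks.character_mul_congr hM ρ hk hc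
      simpa only [he, ϑ, η] using this
    · simpa using CfsgLib.Blocks.LI.zero hM
  have hω : Cfsg.MemLocalIdeal M (CfsgLib.Blocks.omega (ψ : (Subgroup.centralizer ({x} : Set G)) → ℂ) (CfsgLib.Blocks.regClassFun p ϑ)
      - CfsgLib.Blocks.omega (ψ : (Subgroup.centralizer ({x} : Set G)) → ℂ) (CfsgLib.Blocks.regClassFun p η)) := by
    have e : CfsgLib.Blocks.omega (ψ : (Subgroup.centralizer ({x} : Set G)) → ℂ) (CfsgLib.Blocks.regClassFun p ϑ)
        - CfsgLib.Blocks.omega (ψ : (Subgroup.centralizer ({x} : Set G)) → ℂ) (CfsgLib.Blocks.regClassFun p η)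
        = CfsgLib.Blocks.omega (ψ : (Subgroup.centralizer ({x} : Set G)) → ℂ) (fun c => CfsgLib.Blocks.regClassFun p ϑ c
          - CfsgLib.Blocks.regClassFun p η c) := by
      simp only [CfsgLib.Blocks.omega, ← sub_div, ← Finset.sum_sub_distrib, sub_mul]
    rw [e]
    exact CfsgLib.Blocks.omega_LI hM ψ (fun c z => by
      have h1 : CfsgLib.Blocks.regClassFun p ϑ (z * c * z⁻¹) = CfsgLib.Blocks.regClassFun p ϑ c :=
        CfsgLib.Blocks.regClassFun_isClassFunction hϑc c z
      have h2 : CfsgLib.Blocks.regClassFun p η (z * c * z⁻¹) = CfsgLib.Blocks.regClassFun p η c :=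
        CfsgLib.Blocks.regClassFun_isClassFunction hηc c z
      show _ - _ = _ - _
      rw [h1, h2]) hcong
  have hzero : CfsgLib.Blocks.regInner p ϑ (ψ : (Subgroup.centralizer ({x} : Set G)) → ℂ) = 0 := by
    have hexp : ∀ z : (Subgroup.centralizer ({x} : Set G)), ϑ z = ∑ φ : Cfsg.IrrCharacter (Subgroup.centralizer ({x} : Set G)),
        Cfsg.classInner ϑ (φ : (Subgroup.centralizer ({x} : Set G)) → ℂ) * (φ : (Subgroup.centralizer ({x} : Set G)) → ℂ) z := by
      intro z
      conv_lhs => rw [CfsgLib.Char.IsClassFunction.eq_sum_irr hϑc]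
      simp
    have h1 : CfsgLib.Blocks.regInner p ϑ (ψ : (Subgroup.centralizer ({x} : Set G)) → ℂ) = ∑ φ : Cfsg.IrrCharacter (Subgroup.centralizer ({x} : Set G)),
        Cfsg.classInner ϑ (φ : (Subgroup.centralizer ({x} : Set G)) → ℂ) * CfsgLib.Blocks.regInner p (φ : (Subgroup.centralizer ({x} : Set G)) → ℂ) (ψ : (Subgroup.centralizer ({x} : Set G)) → ℂ) := by
      simp only [CfsgLib.Blocks.regInner, hexp, Finset.mul_sum, Finset.sum_mul]
      rw [Finset.sum_comm]
      exact Finset.sum_congr rfl fun φ _ => Finset.sum_congr rfl fun z _ => by ring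
    have h2 : CfsgLib.Blocks.regInner p (Cfsg.blockPart b ϑ) (ψ : (Subgroup.centralizer ({x} : Set G)) → ℂ) = 0 := by
      rw [CfsgLib.Blocks.regInner, Finset.sum_eq_zero, mul_zero]
      intro z hz
      rw [hcon z (Finset.mem_filter.1 hz).2, zero_mul]
    rw [h1, ← h2]
    have h3 : ∀ z, Cfsg.blockPart b ϑ z = ∑ φ : Cfsg.IrrCharacter (Subgroup.centralizer ({x} : Set G)),
        CfsgLib.Blocks.blockInd b φ * (Cfsg.classInner ϑ (φ : (Subgroup.centralizer ({x} : Set G)) → ℂ) * (φ : (Subgroup.centralizer ({x} : Set G)) → ℂ) z) := by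
      intro z
      rw [Cfsg.blockPart, Subsingleton.elim (Fintype.ofFinite (Subgroup.centralizer ({x} : Set G))) (inferInstance : Fintype (Subgroup.centralizer ({x} : Set G))),
        finsum_mem_eq_toFinset_sum]
      refine (Finset.sum_congr rfl fun φ hφ => ?_).trans
        (Finset.sum_subset (Finset.subset_univ _) fun φ _ hφ => ?_)
      · rw [CfsgLib.Blocks.blockInd_of_mem (Set.mem_toFinset.1 hφ), one_mul]
      · rw [CfsgLib.Blocks.blockInd_of_notMem (by simpa using hφ), zero_mul]
    have h4 : ∀ φ : Cfsg.IrrCharacter (Subgroup.centralizer ({x} : Set G)),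
        Cfsg.classInner ϑ (φ : (Subgroup.centralizer ({x} : Set G)) → ℂ) * CfsgLib.Blocks.regInner p (φ : (Subgroup.centralizer ({x} : Set G)) → ℂ) (ψ : (Subgroup.centralizer ({x} : Set G)) → ℂ)
        = CfsgLib.Blocks.blockInd b φ * (Cfsg.classInner ϑ (φ : (Subgroup.centralizer ({x} : Set G)) → ℂ)
          * CfsgLib.Blocks.regInner p (φ : (Subgroup.centralizer ({x} : Set G)) → ℂ) (ψ : (Subgroup.centralizer ({x} : Set G)) → ℂ)) := by
      intro φ
      by_cases hφ : φ ∈ b
      · rw [CfsgLib.Blocks.blockInd_of_mem hφ, one_mul]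
      · rw [CfsgLib.Blocks.blockInd_of_notMem hφ, zero_mul, CfsgLib.Blocks.regInner_comm,
          CfsgLib.Blocks.IsPBlock.regInner_eq_zero hM hb.1 hψ hφ, mul_zero]
    rw [Finset.sum_congr rfl fun φ _ => h4 φ]
    simp only [CfsgLib.Blocks.regInner, h3, Finset.mul_sum, Finset.sum_mul]
    rw [Finset.sum_comm]
    refine Finset.sum_congr rfl fun z hz => Finset.sum_congr rfl fun φ _ => ?_
    ring
  rw [CfsgLib.Blocks.omega_regClassFun, hzero, zero_div, zero_sub,
    CfsgLib.Blocks.omega_regClassFun] at hω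
  have := CfsgLib.Blocks.LI.neg hω
  rw [neg_neg] at this
  exact this

end Cfsg.Agent.S4428
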