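import Cfsg.Statements.S4429
import Cfsg.Agent.Lib.KGroups.M11Chars
-- import your own Cfsg.Agent.* helpers here

set_option autoImplicit false
open Cfsg

namespace Cfsg.Agent.S4429

/-- Let G be a simple group of order 7920. Then G has exactly ten irreducible complex characters, and their degrees, listed with multiplicity, are 1, 10, 10, 10, 11, 16, 16, 44, 45, 55: for every natural number n, the number of irreducible characters of degree n is 1 if n ∈ {1, 11, 44, 45, 55}, 3 if n = 10, 2 if n = 16, and 0 otherwise. -/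
theorem result {G : Type*} [Group G] [Finite G] [IsSimpleGroup G] (hG : Nat.card G = 7920) : Nat.card (Cfsg.IrrCharacter G) = 10 ∧ ∀ n : ℕ, Nat.card {χ : Cfsg.IrrCharacter G // Cfsg.charDegree (χ : G → ℂ) = n} = (if n = 1 ∨ n = 11 ∨ n = 44 ∨ n = 45 ∨ n = 55 then 1 else if n = 10 then 3 else if n = 16 then 2 else 0) := by
  classical
  cases nonempty_fintype G
  obtain ⟨K⟩ := CfsgLib.KGroups.M11Chars.exists_chars hG
  refine ⟨CfsgLib.KGroups.M11Chars.card_irr K, fun n => ?_⟩
  apply Nat.cast_injective (R := ℂ)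
  rw [CfsgLib.KGroups.M11Chars.card_deg K n]
  by_cases h1 : n = 1
  · subst h1; norm_num
  by_cases h2 : n = 11
  · subst h2; norm_num
  by_cases h3 : n = 44
  · subst h3; norm_num
  by_cases h4 : n = 45
  · subst h4; norm_num
  by_cases h5 : n = 55
  · subst h5; norm_num
  by_cases h6 : n = 10
  · subst h6; norm_num
  by_cases h7 : n = 16
  · subst h7; norm_num
  simp [h1, h2, h3, h4, h5, h6, h7, Ne.symm h1, Ne.symm h2, Ne.symm h3, Ne.symm h4, Ne.symm h5, Ne.symm h6,
    Ne.symm h7]

end Cfsg.Agent.S4429
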