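import Cfsg.Statements.S4430
import Cfsg.Agent.Lib.Blocks.InducedBlock
import Cfsg.Agent.Lib.Blocks.Defect2
-- import your own Cfsg.Agent.* helpers here

set_option autoImplicit false
open Cfsg

namespace Cfsg.Agent.S4430

/-- Let H be a subgroup of the finite group G, b a block of H whose induced block B₀ in G is defined (relative to a maximal ideal M of the algebraic integers containing p), and ξ ∈ b. For a block B of G let n_B be the value at 1 of the B-part of the induced character ξ^G (a natural number: the sum over χ ∈ B of the multiplicity of χ in ξ^G times χ(1)). Then for B = B₀ the exact power of p dividing n_B equals the exact power of p dividing ξ^G(1), while for every other block B either n_B = 0 or n_B is divisible by a strictly higher power of p than ξ^G(1). -/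
theorem result {G : Type*} [Group G] [Fintype G] (p : ℕ) [Fact p.Prime] (M : Ideal Cfsg.AlgInt) (hM : Cfsg.IsPModular p M) (H : Subgroup G) [Fintype H] (b : Set (Cfsg.IrrCharacter H)) (B₀ : Set (Cfsg.IrrCharacter G)) (hind : Cfsg.IsInducedBlock M H b B₀) (ξ : Cfsg.IrrCharacter H) (hξ : ξ ∈ b) : (∃ n : ℕ, Cfsg.blockPart B₀ (Cfsg.indFun H (ξ : H → ℂ)) 1 = (n : ℂ) ∧ n ≠ 0 ∧ n.factorization p = (Cfsg.charDegree (Cfsg.indFun H (ξ : H → ℂ))).factorization p) ∧ ∀ B : Set (Cfsg.IrrCharacter G), Cfsg.IsPBlock M B → B ≠ B₀ → ∃ n : ℕ, Cfsg.blockPart B (Cfsg.indFun H (ξ : H → ℂ)) 1 = (n : ℂ) ∧ (n = 0 ∨ (Cfsg.charDegree (Cfsg.indFun H (ξ : H → ℂ))).factorization p < n.factorization p) := by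
  classical
  obtain rfl := Subsingleton.elim ‹Fintype H› (Subgroup.instFintypeSubtypeMemOfDecidablePred H)
  set θ := Cfsg.indFun H (ξ : H → ℂ) with hθ
  have hθc : Cfsg.IsCharacter G θ :=
    CfsgLib.Char.IsCharacter.indFun H (CfsgLib.Char.isCharacter_irr ξ)
  have h1 : θ 1 = (H.index : ℂ) * (ξ : H → ℂ) 1 := CfsgLib.Char.indFun_one H _
  have hdeg : Cfsg.charDegree θ = H.index * Cfsg.charDegree (ξ : H → ℂ) := by
    rw [Cfsg.charDegree, h1, CfsgLib.Blocks.irr_one_eq, ← Nat.cast_mul, Complex.natCast_re,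
      Nat.floor_natCast]
  have hdeg0 : Cfsg.charDegree θ ≠ 0 := by
    rw [hdeg]
    exact mul_ne_zero Subgroup.index_ne_zero_of_finite (CfsgLib.Blocks.charDegree_pos ξ).ne'
  choose m hm using fun ψ : Cfsg.IrrCharacter G =>
    CfsgLib.Char.IsCharacter.classInner_nat hθc (CfsgLib.Char.isCharacter_irr ψ)
  have main : ∀ B : Set (Cfsg.IrrCharacter G), Cfsg.IsPBlock M B → ∃ n : ℕ,
      Cfsg.blockPart B θ 1 = (n : ℂ) ∧ (p ^ (Cfsg.charDegree θ).factorization p ∣ n) ∧
        (B = B₀ ↔ ¬ p ^ ((Cfsg.charDegree θ).factorization p + 1) ∣ n) := by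
    intro B hB
    refine ⟨∑ ψ ∈ B.toFinset, m ψ * Cfsg.charDegree (ψ : G → ℂ), ?_⟩
    have hval : Cfsg.blockPart B θ 1
        = ((∑ ψ ∈ B.toFinset, m ψ * Cfsg.charDegree (ψ : G → ℂ) : ℕ) : ℂ) := by
      rw [Cfsg.blockPart, Subsingleton.elim (Fintype.ofFinite G) ‹Fintype G›,
        finsum_mem_eq_toFinset_sum, Nat.cast_sum]
      exact Finset.sum_congr rfl fun ψ _ => by rw [hm, CfsgLib.Blocks.irr_one_eq, Nat.cast_mul]
    refine ⟨hval, ?_⟩
    have hw := CfsgLib.Blocks.blockPart_indFun_one B ξ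
    rw [← hθ, hval, CfsgLib.Blocks.irr_one_eq, ← Nat.cast_mul, ← hdeg] at hw
    have hLR : Cfsg.MemLocalRing M (CfsgLib.Blocks.omega (ξ : H → ℂ)
        fun h : H => Cfsg.blockCoeff B h) :=
      CfsgLib.Blocks.omega_LR hM ξ (CfsgLib.Blocks.resFun_isClassFunction H
        (CfsgLib.Blocks.blockCoeff_isClassFunction B))
        fun h => CfsgLib.Blocks.blockCoeff_LR hM hB h
    obtain ⟨χ₀, hχ₀⟩ := CfsgLib.Blocks.IsPBlock.nonempty hM hind.2.1
    have hcong := CfsgLib.Blocks.IsInducedBlock.omega_congr hM hind hξ hχ₀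
      (CfsgLib.Blocks.blockCoeff_isClassFunction B) (CfsgLib.Blocks.blockCoeff_LR hM hB)
    rw [CfsgLib.Blocks.omega_blockCoeff] at hcong
    obtain ⟨hd1, hd2⟩ := CfsgLib.Blocks.dvd_of_eq_natCast_mul hM
      (z := ((∑ ψ ∈ B.toFinset, m ψ * Cfsg.charDegree (ψ : G → ℂ) : ℕ) : ℤ)) hdeg0 hLR
      (by rw [Int.cast_natCast]; exact hw)
    refine ⟨by exact_mod_cast hd1, ?_⟩
    rw [← Int.natCast_dvd_natCast, Nat.cast_pow, ← hd2]
    constructor
    · rintro rfl hI
      rw [CfsgLib.Blocks.blockInd_of_mem hχ₀] at hcong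
      have := CfsgLib.Blocks.LI.sub hM hI hcong
      rw [sub_sub_cancel] at this
      exact CfsgLib.Blocks.LI.not_one hM this
    · intro hI
      by_contra hne
      refine hI ?_
      rw [CfsgLib.Blocks.blockInd_of_notMem fun h =>
        hne (CfsgLib.Blocks.IsPBlock.eq_of_mem hM hB hind.2.1 h hχ₀), sub_zero] at hcong
      exact hcong
  refine ⟨?_, fun B hB hne => ?_⟩
  · obtain ⟨n, hn, hd, hiff⟩ := main B₀ hind.2.1
    have hnd := hiff.1 rfl
    have hn0 : n ≠ 0 := fun h => hnd (h ▸ dvd_zero _)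
    refine ⟨n, hn, hn0, le_antisymm ?_ ((hM.1.pow_dvd_iff_le_factorization hn0).1 hd)⟩
    by_contra hlt
    exact hnd ((hM.1.pow_dvd_iff_le_factorization hn0).2 (by omega))
  · obtain ⟨n, hn, _, hiff⟩ := main B hB
    refine ⟨n, hn, or_iff_not_imp_left.2 fun hn0 => ?_⟩
    have hd : p ^ ((Cfsg.charDegree θ).factorization p + 1) ∣ n := by
      by_contra h
      exact hne (hiff.2 h)
    have := (hM.1.pow_dvd_iff_le_factorization hn0).1 hd
    omega

end Cfsg.Agent.S4430
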