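import Cfsg.Statements.S4431
import Cfsg.Agent.Lib.Blocks.InducedBlock
import Cfsg.Agent.Lib.Blocks.Defect2
-- import your own Cfsg.Agent.* helpers here

set_option autoImplicit false
open Cfsg

namespace Cfsg.Agent.S4431

/-- Let H be a subgroup of the finite group G and b a block of H whose induced block B₀ in G is defined (relative to a maximal ideal M of the algebraic integers containing p). Let χ be an irreducible character of G, ψ ∈ b, and let η be the class function on H equal to p^a · χ on the p-regular elements of H and zero elsewhere, p^a being the p-part of the order of H. Then (a) if χ ∉ B₀, the number [η, ψ]/ψ(1) lies in the local ideal at M; (b) if χ ∈ B₀ has height zero, it does not. -/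
theorem result {G : Type*} [Group G] [Fintype G] (p : ℕ) [Fact p.Prime] (M : Ideal Cfsg.AlgInt) (hM : Cfsg.IsPModular p M) (H : Subgroup G) [Fintype H] (b : Set (Cfsg.IrrCharacter H)) (B₀ : Set (Cfsg.IrrCharacter G)) (hind : Cfsg.IsInducedBlock M H b B₀) (χ : Cfsg.IrrCharacter G) (ψ : Cfsg.IrrCharacter H) (hψ : ψ ∈ b) : (χ ∉ B₀ → Cfsg.MemLocalIdeal M (Cfsg.classInner (fun h : H => if p ∣ orderOf h then (0 : ℂ) else ((p ^ (Nat.card H).factorization p : ℕ) : ℂ) * (χ : G → ℂ) h) (ψ : H → ℂ) / (ψ : H → ℂ) 1)) ∧ (χ ∈ B₀ → Cfsg.blockHeight p B₀ (χ : G → ℂ) = 0 → ¬ Cfsg.MemLocalIdeal M (Cfsg.classInner (fun h : H => if p ∣ orderOf h then (0 : ℂ) else ((p ^ (Nat.card H).factorization p : ℕ) : ℂ) * (χ : G → ℂ) h) (ψ : H → ℂ) / (ψ : H → ℂ) 1)) := by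
  classical
  obtain rfl := Subsingleton.elim ‹Fintype H› (Subgroup.instFintypeSubtypeMemOfDecidablePred H)
  have key : Cfsg.classInner (fun h : H => if p ∣ orderOf h then (0 : ℂ)
      else ((p ^ (Nat.card H).factorization p : ℕ) : ℂ) * (χ : G → ℂ) h) (ψ : H → ℂ) / (ψ : H → ℂ) 1
      = CfsgLib.Blocks.resRegRatio p H (χ : G → ℂ) (ψ : H → ℂ) := by
    rw [CfsgLib.Blocks.resRegRatio, Cfsg.classInner, CfsgLib.Blocks.regInner, Finset.mul_sum,
      Finset.mul_sum, Finset.sum_filter]
    congr 1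
    refine Finset.sum_congr (by ext; simp) fun x _ => ?_
    by_cases hx : p ∣ orderOf x
    · rw [if_pos hx, if_neg (CfsgLib.Blocks.not_isPRegular.2 hx), zero_mul, mul_zero]
    · rw [if_neg hx, if_pos (show Cfsg.IsPRegular p x from hx), CfsgLib.Blocks.conj_irr,
        CfsgLib.Blocks.pPartCard]
      ring
  rw [key]
  exact ⟨fun h => CfsgLib.Blocks.resRegRatio_LI_of_notMem hM hind h hψ, fun h h0 =>
    CfsgLib.Blocks.resRegRatio_not_LI hM hind h
      ((CfsgLib.Blocks.blockHeight_eq_zero_iff h).1 h0) hψ⟩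

end Cfsg.Agent.S4431
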