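import Cfsg.Statements.S4437
import Cfsg.Agent.Lib.Blocks.CoverBasics
import Cfsg.Agent.Lib.Blocks.FirstMain
import Cfsg.Agent.Lib.BrauerPairs.Transport
-- import your own Cfsg.Agent.* helpers here

set_option autoImplicit false
open Cfsg CfsgLib.Blocks CfsgLib.Blocks.FongReynolds

namespace Cfsg.Agent.S4437


open scoped Classical in
theorem exists_irr_over {G : Type*} [Group G] [Fintype G] (N : Subgroup G) [N.Normal] [Fintype N]
    (θ : IrrCharacter N) :
    ∃ χ : IrrCharacter G, classInner (fun n : N => (χ : G → ℂ) n) (θ : N → ℂ) ≠ 0 := by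
  by_contra hcon
  push Not at hcon
  have hI := CfsgLib.Char.IsCharacter.indFun N (CfsgLib.Char.isCharacter_irr θ)
  have h0 : ∀ χ : IrrCharacter G, classInner (indFun N (θ : N → ℂ)) (χ : G → ℂ) = 0 := fun χ => by
    rw [CfsgLib.Char.classInner_indFun N _ (CfsgLib.Char.IsIrrCharacter.isClassFunction χ.2),
      CfsgLib.Char.IsCharacter.classInner_comm (CfsgLib.Char.isCharacter_irr θ)
        (CfsgLib.Char.IsCharacter.restrict (CfsgLib.Char.isCharacter_irr χ) N)]
    exact hcon χ
  have h1 := congrFun (CfsgLib.Char.IsClassFunction.eq_sum_irr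
    (CfsgLib.Char.IsCharacter.isClassFunction hI)) 1
  simp only [h0, zero_smul, Finset.sum_const_zero, Pi.zero_apply, CfsgLib.Char.indFun_one] at h1
  rcases mul_eq_zero.1 h1 with h2 | h2
  · exact Nat.cast_ne_zero.2 Subgroup.index_ne_zero_of_finite h2
  · exact irr_one_ne_zero θ h2


/-- Let P be a p-subgroup of the finite group G, H = P·C_G(P), and b a block of H (relative to a maximal ideal M of the algebraic integers containing p) having P as a defect group; let B be the block of G induced by b. Let T be the stabilizer of b in N_G(P): the elements g of N_G(P) such that the g-conjugate of every member of b is again a member of b. Then B has defect group P if and only if p does not divide the index of H in T. -/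
theorem result {G : Type*} [Group G] [Fintype G] (p : ℕ) [Fact p.Prime] (M : Ideal Cfsg.AlgInt) (hM : Cfsg.IsPModular p M) (P : Subgroup G) (hP : IsPGroup p P) (H : Subgroup G) [Fintype H] (hH : H = P ⊔ Subgroup.centralizer (P : Set G)) (b : Set (Cfsg.IrrCharacter H)) (hb : Cfsg.IsPBlock M b) (hbP : Cfsg.IsDefectGroup p M b (P.subgroupOf H)) (B : Set (Cfsg.IrrCharacter G)) (hind : Cfsg.IsInducedBlock M H b B) (T : Subgroup G) (hT : ∀ g : G, g ∈ T ↔ (g ∈ Subgroup.normalizer (P : Set G) ∧ ∀ θ ∈ b, ∀ θ' : Cfsg.IrrCharacter H, (∀ h h' : H, (h' : G) = g * h * g⁻¹ → (θ' : H → ℂ) h' = (θ : H → ℂ) h) → θ' ∈ b)) : Cfsg.IsDefectGroup p M B P ↔ ¬ p ∣ H.relIndex T := by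

  classical
  set N₀ := Subgroup.normalizer (P : Set G) with hN₀
  haveI : Fintype N₀ := Fintype.ofFinite _
  have hPH : P ≤ H := hH ▸ le_sup_left
  have hCH : Subgroup.centralizer (P : Set G) ≤ H := hH ▸ le_sup_right
  have hHN : H ≤ N₀ := hH ▸ sup_le Subgroup.le_normalizer (centralizer_le_normalizer P)
  set K := H.subgroupOf N₀ with hK
  haveI : Fintype K := Fintype.ofFinite _
  haveI hKn : K.Normal := by
    refine ⟨fun k hk g => ?_⟩
    have hg := Subgroup.mem_normalizer_iff.1 g.2
    have h1 : H.map (MulAut.conj (g : G)).toMonoidHom ≤ H := by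
      rw [hH, Subgroup.map_sup]
      refine sup_le ?_ ?_
      · rintro _ ⟨u, hu, rfl⟩
        exact Subgroup.mem_sup_left ((hg u).1 hu)
      · rintro _ ⟨u, hu, rfl⟩
        refine Subgroup.mem_sup_right (mem_centralizer_conj g.2 hu)
    exact h1 ⟨(k : G), hk, rfl⟩
  set P₀ := P.subgroupOf N₀ with hP₀
  have hP₀p : IsPGroup p P₀ := isPGroup_subgroupOf_normalizer hP
  haveI hP₀n : P₀.Normal := normal_subgroupOf_of_le_normalizer Subgroup.le_normalizer le_rfl
  let e : K ≃* H := Subgroup.subgroupOfEquivOfLe hHN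
  let ι := CfsgLib.BrauerPairs.irrEquiv e
  set b' := ι '' b
  have hb' : IsPBlock M b' := CfsgLib.BrauerPairs.isPBlock_image e hb
  obtain ⟨θ, hθ⟩ := IsPBlock.nonempty hM hb
  have hθ' : ι θ ∈ b' := ⟨θ, hθ, rfl⟩
  have hcardP : Nat.card P = p ^ blockDefect p b' := by
    obtain ⟨D, hD⟩ := exists_isDefectGroup hM hb'
    rw [← card_defectGroup hM hb' hD, ← Subgroup.card_map_of_injective (K := D) (f := e.toMonoidHom)
      e.injective, card_defectGroup hM hb (CfsgLib.BrauerPairs.isDefectGroup_map e hD),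
      ← card_defectGroup hM hb hbP, Nat.card_congr (Subgroup.subgroupOfEquivOfLe hPH).toEquiv]
  let S := CoverDefect.stabilizer (G := N₀) hM hb'
  let _ : Fintype S := Fintype.ofFinite S
  have hS : ∀ g : N₀, g ∈ S ↔ ∀ φ ∈ b', conjIrr g φ ∈ b' := CoverDefect.mem_stabilizer hM hb'
  have hKS : K ≤ S := CoverDefect.le_stabilizer hM hb'
  have hTS : ∀ t : N₀, (t : G) ∈ T ↔ t ∈ S := by
    intro t
    rw [← S.inv_mem_iff, hS, hT]
    constructor
    · rintro ⟨-, h⟩ _ ⟨φ, hφ, rfl⟩
      refine ⟨ι.symm (conjIrr t⁻¹ (ι φ)), h φ hφ _ fun k k' hk => ?_, ι.apply_symm_apply _⟩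
      show (φ : H → ℂ) (e (MulAut.conjNormal t⁻¹ (e.symm k'))) = _
      refine congrArg (φ : H → ℂ) (Subtype.ext ?_)
      show (((MulAut.conjNormal t⁻¹ (e.symm k') : K) : N₀) : G) = (k : G)
      rw [MulAut.conjNormal_apply]
      show (t : G)⁻¹ * (k' : G) * (t : G)⁻¹⁻¹ = (k : G)
      rw [hk]; group
    · refine fun h => ⟨t.2, fun φ hφ φ' hφ' => ?_⟩
      obtain ⟨φ₁, hφ₁, he⟩ := h (ι φ) ⟨φ, hφ, rfl⟩
      convert hφ₁
      refine ι.injective (he.trans ?_).symm
      refine Subtype.ext (funext fun k => ?_)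
      refine ((hφ' (e (MulAut.conjNormal t⁻¹ k)) (e k) ?_)).symm
      show ((k : N₀) : G) = (t : G) * (((MulAut.conjNormal t⁻¹ k : K) : N₀) : G) * (t : G)⁻¹
      rw [MulAut.conjNormal_apply]
      push_cast
      group
  obtain ⟨χ₁, hχ₁⟩ := exists_irr_over K (ι θ)
  obtain ⟨ψ₁, hψ₁, -⟩ := exists_covers_of_over hKS hM hb' hS hθ' hχ₁
  obtain ⟨B₀, hB₀, hall, hmax⟩ := CoverDefect.exists_maximal hKS hM hb' hS hψ₁
  obtain ⟨ψ₀, hψ₀⟩ := IsPBlock.nonempty hM hB₀
  have hcov₀ : ∃ ψ ∈ B₀, Covers hKS ψ b' := ⟨ψ₀, hψ₀, hall ψ₀ hψ₀⟩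
  obtain ⟨β, hindβ, hcovβ, -, -⟩ := exists_induced hKS hM hb' hS hB₀ hcov₀
  have hβ : IsPBlock M β := hindβ.2.1
  have hdβ : blockDefect p β = blockDefect p B₀ := by
    obtain ⟨D, hD⟩ := exists_isDefectGroup hM hB₀
    have h1 := card_defectGroup hM hβ
      ((defectGroup_and_height hKS hM hb' hS hB₀ hcov₀ hindβ).1 D hD)
    rw [Subgroup.card_map_of_injective S.subtype_injective, card_defectGroup hM hB₀ hD] at h1
    exact (Nat.pow_right_injective hM.1.two_le h1).symm
  have hbβ : IsInducedBlock M K b' β := by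
    refine ⟨hb', hβ, fun ξ hξ χ hχ g => ?_⟩
    by_cases hg : g ∈ K
    · exact LI.sub_comm ((CoverBasics.covers_iff hM hβ hb').1 hcovβ χ hχ ξ hξ ⟨g, hg⟩)
    · have h0 : inducedCentralChar K (ξ : K → ℂ) g = 0 := by
        rw [CoverBasics.inducedCentralChar_eq', omega, Finset.sum_eq_zero, zero_div]
        intro m _
        rw [classInd, if_neg, zero_mul]
        intro hc
        obtain ⟨c, hc⟩ := isConj_iff.1 hc
        refine hg ?_
        have := hKn.conj_mem _ m.2 c⁻¹
        rw [← hc] at this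
        simpa [mul_assoc] using this
      rw [h0, zero_sub]
      refine LI.neg (centralChar_LI_of_notMem hM hP₀p χ fun hc => hg ?_)
      exact hCH ((mem_centralizer_subgroupOf Subgroup.le_normalizer g).1 hc)
  obtain ⟨B₂, hind₂⟩ := exists_isInducedBlock_local hM hP Subgroup.le_normalizer
    (centralizer_le_normalizer P) le_rfl hβ
  obtain rfl : B₂ = B := by
    refine IsInducedBlock.unique hM (H := H) (b := b) ⟨hb, hind₂.2.1, fun φ hφ χ hχ g => ?_⟩ hind
    obtain ⟨ξ, hξ⟩ := IsPBlock.nonempty hM hβ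
    have h1 := IsInducedBlock.omega_congr hM hbβ (show ι φ ∈ b' from ⟨φ, hφ, rfl⟩) hξ
      (f := fun m : N₀ => classInd g (m : G)) (resFun_isClassFunction _ (classInd_isClassFunction g))
      (fun m => classInd_LR hM g _)
    have h2 : omega (ι φ : K → ℂ) (fun k : K => classInd g ((k : N₀) : G))
        = omega (φ : H → ℂ) fun h : H => classInd g (h : G) := by
      simp only [omega]
      congr 1
      exact Fintype.sum_equiv e.toEquiv _ _ fun k => rfl
    replace h1 : MemLocalIdeal M (omega (φ : H → ℂ) (fun h : H => classInd g (h : G))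
        - omega (ξ : N₀ → ℂ) fun m : N₀ => classInd g (m : G)) := by
      rw [← h2]; convert h1 using 4
    have h3 := hind₂.2.2 ξ hξ χ hχ g
    rw [inducedCentralChar_eq] at h3 ⊢
    refine LI.trans hM ?_ h3
    convert h1 using 4
  have hvT : (Nat.card S).factorization p
      = (H.relIndex T).factorization p + (Nat.card K).factorization p := by
    have hTN : T ≤ N₀ := fun g hg => ((hT g).1 hg).1
    have hTeq : T.subgroupOf N₀ = S := Subgroup.ext hTS
    have hHT : H ≤ T := fun g hg => (hTS ⟨g, hHN hg⟩).2 (hKS hg)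
    rw [← hTeq, Nat.card_congr (Subgroup.subgroupOfEquivOfLe hTN).toEquiv,
      Nat.card_congr (Subgroup.subgroupOfEquivOfLe hHN).toEquiv,
      ← Subgroup.index_mul_card (H.subgroupOf T),
      Nat.card_congr (Subgroup.subgroupOfEquivOfLe hHT).toEquiv,
      Nat.factorization_mul Subgroup.index_ne_zero_of_finite Nat.card_pos.ne', Finsupp.add_apply]
    rfl
  constructor
  · intro hBP hdvd
    have h1 := hM.1.factorization_pos_of_dvd (Subgroup.index_ne_zero_of_finite) hdvd
    have h2 := blockDefect_le_of_induced hM hind₂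
    have h3 : blockDefect p B₂ = blockDefect p b' := Nat.pow_right_injective hM.1.two_le
      ((card_defectGroup hM hind₂.2.1 hBP).symm.trans hcardP)
    change _ < (H.relIndex T).factorization p at h1
    omega
  · intro hndvd
    rw [Nat.factorization_eq_zero_of_not_dvd hndvd] at hvT
    obtain ⟨D, hD⟩ := exists_isDefectGroup hM hβ
    have hPD : P₀ = D := Subgroup.eq_of_le_of_card_ge (le_defectGroup_of_normal hM hβ hP₀p hD) (by
      rw [card_defectGroup hM hβ hD,
        Nat.card_congr (Subgroup.subgroupOfEquivOfLe (Subgroup.le_normalizer (H := P))).toEquiv,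
        hcardP]
      exact Nat.pow_le_pow_right hM.1.pos (by omega))
    exact isDefectGroup_of_induced_normalizer hM hP (show IsDefectGroup p M β P₀ by rw [hPD]; exact hD) hind₂


end Cfsg.Agent.S4437
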