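import Cfsg.Statements.S4438
import Cfsg.Agent.Lib.Blocks.CoverDefect
-- import your own Cfsg.Agent.* helpers here

set_option autoImplicit false
open Cfsg CfsgLib.Blocks CfsgLib.Blocks.FongReynolds CfsgLib.Blocks.CoverDefect

namespace Cfsg.Agent.S4438

/-- Let N be a normal subgroup of the finite group G, b a block of N with defect group Q, and B a block of G covering b (some member of B has a constituent in b on restriction to N), all relative to a maximal ideal M of the algebraic integers containing p. Then B has a defect group P with P ⊓ N = Q. -/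
theorem result {G : Type*} [Group G] [Fintype G] (p : ℕ) [Fact p.Prime] (M : Ideal Cfsg.AlgInt) (hM : Cfsg.IsPModular p M) (N : Subgroup G) [hN : N.Normal] [Fintype N] (b : Set (Cfsg.IrrCharacter N)) (hb : Cfsg.IsPBlock M b) (Q : Subgroup G) (hQN : Q ≤ N) (hQ : Cfsg.IsDefectGroup p M b (Q.subgroupOf N)) (B : Set (Cfsg.IrrCharacter G)) (hB : Cfsg.IsPBlock M B) (hcov : (∃ χ ∈ B, ∃ θ ∈ b, Cfsg.classInner (fun n : N => (χ : G → ℂ) n) (θ : N → ℂ) ≠ 0)) : ∃ P : Subgroup G, Cfsg.IsDefectGroup p M B P ∧ P ⊓ N = Q := by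
  classical
  set T := stabilizer hM hb
  let _ : Fintype T := Fintype.ofFinite T
  have hT := mem_stabilizer hM hb
  have hNT : N ≤ T := le_stabilizer hM hb
  obtain ⟨B', hB', ⟨ψ, hψB, hψ⟩, hind⟩ := exists_inducing hNT hM hb hT hB hcov
  obtain ⟨D, hD, hle⟩ := CoverDefect.exists_defectGroup_ge hNT hM hb hT hQ hB' hψB hψ
  refine ⟨D.map T.subtype, (defectGroup_and_height hNT hM hb hT hB' ⟨ψ, hψB, hψ⟩ hind).1 D hD, ?_⟩
  have he : Q.subgroupOf N = D.comap (Subgroup.inclusion hNT) :=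
    Subgroup.eq_of_le_of_card_ge (Subgroup.map_le_iff_le_comap.1 hle) (le_of_eq
      ((card_defectGroup hM hb (isDefectGroup_comap hNT hM hb hT hB' hψB hψ hD)).trans
        (card_defectGroup hM hb hQ).symm))
  refine Eq.trans ?_ (Subgroup.map_subgroupOf_eq_of_le hQN)
  rw [he]
  ext x
  constructor
  · rintro ⟨⟨t, ht, rfl⟩, hxN⟩
    exact ⟨⟨(t : G), hxN⟩, ht, rfl⟩
  · rintro ⟨n, hn, rfl⟩
    exact ⟨⟨_, hn, rfl⟩, n.2⟩

end Cfsg.Agent.S4438
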