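import Cfsg.Statements.S4442
import Cfsg.Agent.Lib.Blocks.DefectOneGalois

set_option autoImplicit false
open Cfsg

namespace Cfsg.Agent.S4442

open CfsgLib.Blocks CfsgLib.Blocks.DefectOne

/-- Blocks of defect one. Let p be an odd prime and G a finite group whose Sylow p-subgroup P has order p; let C = C_G(P) and N = N_G(P), and fix a maximal ideal M of the algebraic integers containing p. Let B be a block of G with defect group P, b a block of C inducing B, and θ the member of b having P in its kernel (there is exactly one). Let T be the stabilizer of θ in N (the elements g ∈ N with θ(g c g⁻¹) = θ(c) for all c ∈ C) and e the index of C in T. Then e divides p − 1 and B contains exactly e + (p − 1)/e irreducible characters. Moreover B is the disjoint union of a set X of e characters and a set Y of (p − 1)/e characters such that, with f the index of C in N: every χ ∈ X has χ(1) ≡ ±(f/e)·θ(1) (mod p), there is one sign ε with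 ψ(1) ≡ ε f θ(1) (mod p) for all ψ ∈ Y, and all members of Y agree on the p-regular elements of G. -/
theorem result {G : Type*} [Group G] [Finite G] (p : ℕ) [Fact p.Prime] (M : Ideal Cfsg.AlgInt) (hM : Cfsg.IsPModular p M) (hodd : p ≠ 2) (P : Sylow p G) (hP : Nat.card P = p) (B : Set (Cfsg.IrrCharacter G)) (hB : Cfsg.IsPBlock M B) (hBP : Cfsg.IsDefectGroup p M B P) (b : Set (Cfsg.IrrCharacter (Subgroup.centralizer ((P : Subgroup G) : Set G)))) (hind : Cfsg.IsInducedBlock M (Subgroup.centralizer ((P : Subgroup G) : Set G)) b B) (θ : Cfsg.IrrCharacter (Subgroup.centralizer ((P : Subgroup G) : Set G))) (hθ : θ ∈ b) (hθP : ∀ x : Subgroup.centralizer ((P : Subgroup G) : Set G), (x : G) ∈ (P : Subgroup G) → (θ : Subgroup.centralizer ((P : Subgroup G) : Set G) → ℂ) x = (θ : Subgroup.centralizer ((P : Subgroup G) : Set G) → ℂ) 1) (T : Subgroup G) (hT : ∀ g : G, g ∈ T ↔ (g ∈ Subgroup.normalizer ((P : Subgroup G) : Set G) ∧ ∀ c c'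 : Subgroup.centralizer ((P : Subgroup G) : Set G), (c' : G) = g * c * g⁻¹ → (θ : Subgroup.centralizer ((P : Subgroup G) : Set G) → ℂ) c' = (θ : Subgroup.centralizer ((P : Subgroup G) : Set G) → ℂ) c)) (e f : ℕ) (he : (Subgroup.centralizer ((P : Subgroup G) : Set G)).relIndex T = e) (hf : (Subgroup.centralizer ((P : Subgroup G) : Set G)).relIndex (Subgroup.normalizer ((P : Subgroup G) : Set G)) = f) : e ∣ p - 1 ∧ Nat.card B = e + (p - 1) / e ∧ ∃ X Y : Set (Cfsg.IrrCharacter G), B = X ∪ Y ∧ Disjoint X Y ∧ Nat.card X = e ∧ Nat.card Y = (p - 1) / e ∧ (∀ χ ∈ X, (Cfsg.charDegree (χ : G → ℂ) : ℤ) ≡ ((f / e * Cfsg.charDegree (θ : Subgroup.centralizer ((P : Subgroup G) : Set G) → ℂ) : ℕ) : ℤ) [ZMOD p] ∨ (Cfsg.charDegree (χ : G → ℂ) : ℤ) ≡ -((f / e * Cfsg.charDegree (θ : Subgroup.centralizer ((P : Subgroup G) : Set G) → ℂ) : ℕ) : ℤ) [ZMOD p]) ∧ (∃ ε : ℤ, (ε = 1 ∨ ε = -1) ∧ ∀ ψ ∈ Y, (Cfsg.charDegree (ψ : G → ℂ) : ℤ) ≡ ε * ((f * Cfsg.charDegree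 (θ : Subgroup.centralizer ((P : Subgroup G) : Set G) → ℂ) : ℕ) : ℤ) [ZMOD p]) ∧ ∀ ψ ∈ Y, ∀ ψ' ∈ Y, ∀ g : G, ¬ p ∣ orderOf g → (ψ : G → ℂ) g = (ψ' : G → ℂ) g := by
  classical
  haveI := Fintype.ofFinite G
  obtain ⟨D⟩ := exists_frame P hP
  obtain ⟨k, θ₀, rfl⟩ := D.exists_ext θ
  have he1 : D.el 0 (1 : D.K0) = 1 := Subtype.ext (by rw [Frame.el_zero]; rfl)
  have hk : k = 0 := by
    have h1 := hθP (D.el 1 1) (by
      rw [Frame.coe_el, OneMemClass.coe_one, mul_one]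
      exact pow_mem D.x_mem _)
    rw [← he1, Frame.ext_mk, Frame.ext_mk, mul_one, mul_zero, AddChar.map_zero_eq_one, one_mul] at h1
    exact ZMod.injective_stdAddChar ((mul_eq_right₀ (irr_one_ne_zero θ₀)).1 h1 |>.trans (AddChar.map_zero_eq_one _).symm)
  subst hk
  have hbeq : D.blk M θ₀ = b :=
    IsPBlock.eq_of_mem hM (D.isPBlock_blk θ₀) hind.1 ((D.mem_blk_iff hM _ _).2 ⟨0, rfl⟩) hθ
  have hind' : IsInducedBlock M (cent P) (D.blk M θ₀) B := by rw [hbeq]; exact hind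
  obtain ⟨S⟩ := exists_shape D hM hind'
  have hmemT : ∀ g, g ∈ T ↔ ∃ h : g ∈ nrm P, (⟨g, h⟩ : nrm P) ∈ D.stab θ₀ := by
    intro g
    rw [hT]
    constructor
    · rintro ⟨h, h1⟩
      refine ⟨h, Subtype.ext (funext fun y => ?_)⟩
      have h2 := h1 (D.el 0 y) (D.el 0 (D.conjK ⟨g, h⟩ y))
        (by rw [Frame.el_zero, Frame.el_zero, Frame.coe_conjK])
      simp only [Frame.ext_mk, mul_zero, AddChar.map_zero_eq_one, one_mul] at h2
      rw [Frame.tw_apply, h2]
    · rintro ⟨h, h1⟩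
      refine ⟨h, fun c c' hc => ?_⟩
      obtain ⟨a, y, rfl⟩ := D.exists_el c
      have : c' = D.el (D.act ⟨g, h⟩ * a) (D.conjK ⟨g, h⟩ y) := Subtype.ext (by rw [hc, ← D.conj_mk])
      rw [this, Frame.ext_mk, Frame.ext_mk, zero_mul, zero_mul, ← Frame.tw_apply, D.mem_stab.1 h1]
  have he' : e = Nat.card (D.autE θ₀) := by rw [← he]; exact D.relIndex_stab θ₀ T hmemT
  have hf' : f = Nat.card D.act.range := by rw [← hf]; exact D.relIndex_nrm
  have hdeg : Cfsg.charDegree (D.ext 0 θ₀ : cent P → ℂ) = Cfsg.charDegree (θ₀ : D.K0 → ℂ) := by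
    apply Nat.cast_injective (R := ℂ)
    rw [← irr_one_eq, ← irr_one_eq, ← he1, Frame.ext_mk, mul_zero, AddChar.map_zero_eq_one, one_mul]
  have hn : f / e = (D.orb θ₀).card := by
    rw [hf', he', ← D.card_orb_mul θ₀, Nat.mul_div_cancel _ Nat.card_pos]
  rw [hdeg, hn, hf', he']
  refine ⟨D.autE_dvd θ₀, S.card_eq, (S.X : Set _), (S.Y : Set _), ?_, Finset.disjoint_coe.2 S.disj, ?_, ?_,
    fun χ hχ => ?_, ⟨-S.A, ?_, fun ψ hψ => S.deg_Y ψ (Finset.mem_coe.1 hψ)⟩,
    fun ψ hψ ψ' hψ' => S.agree ψ (Finset.mem_coe.1 hψ) ψ' (Finset.mem_coe.1 hψ')⟩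
  · ext χ; simp [S.mem_iff]
  · rw [Nat.card_coe_set_eq, Set.ncard_coe_finset, S.card_X]
  · rw [Nat.card_coe_set_eq, Set.ncard_coe_finset, ← S.card_Y, Nat.mul_div_cancel_left _ Nat.card_pos]
  · have h1 := S.deg_X χ (Finset.mem_coe.1 hχ)
    rcases S.sgn_X χ (Finset.mem_coe.1 hχ) with h2 | h2 <;> rw [h2] at h1
    · left; rwa [one_mul] at h1
    · right; rwa [neg_one_mul] at h1
  · rcases S.sgn_A with h2 | h2 <;> rw [h2] <;> simp

end Cfsg.Agent.S4442
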