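import Cfsg.Statements.S4443
import Cfsg.Agent.Lib.Blocks.DefectCount

set_option autoImplicit false
open Cfsg

namespace Cfsg.Agent.S4443

/-- Let D be a normal p-subgroup of the finite group G, of order p^d, let p^a be the p-part of the order of G, and fix a Sylow p-subgroup S and a maximal ideal M of the algebraic integers containing p. Index by a finite type ι (via an injective map K) exactly the conjugacy classes of p-regular elements x of G for which D is a Sylow p-subgroup of C_G(x). For classes K_i, K_j let ω(i, j) be the number of pairs (y, z) ∈ K_i × K_j with z y⁻¹ ∈ S; this number is divisible by p^(a−d). Then the number of p-blocks of G having D as a defect group equals the rank over ℤ/pℤ of the matrix with (i, j) entry ω(i, j)/p^(a−d) reduced modulo p. -/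
theorem result {G : Type*} [Group G] [Finite G] (p : ℕ) [Fact p.Prime] (M : Ideal Cfsg.AlgInt) (hM : Cfsg.IsPModular p M) (D : Subgroup G) [D.Normal] (hD : IsPGroup p D) (S : Sylow p G) {ι : Type*} [Fintype ι] [DecidableEq ι] (K : ι → ConjClasses G) (hKinj : Function.Injective K) (hK : ∀ C : ConjClasses G, (∃ i, K i = C) ↔ ∃ x ∈ C.carrier, ¬ p ∣ orderOf x ∧ ∃ Q : Sylow p (Subgroup.centralizer ({x} : Set G)), (Q : Subgroup (Subgroup.centralizer ({x} : Set G))).map (Subgroup.centralizer ({x} : Set G)).subtype = D) : Nat.card {B : Set (Cfsg.IrrCharacter G) // Cfsg.IsPBlock M B ∧ Cfsg.IsDefectGroup p M B D} = (Matrix.of fun i j : ι => ((Nat.card {yz : G × G // yz.1 ∈ (K i).carrier ∧ yz.2 ∈ (K j).carrier ∧ yz.2 * yz.1⁻¹ ∈ (S : Subgroup G)} / p ^ ((Nat.card G).factorization p - (Nat.card D).factorization p) : ℕ) : ZMod p)).rank := by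
  haveI := Fintype.ofFinite G
  classical
  obtain ⟨d, hd⟩ := hD.exists_card_eq
  have hfac : (Nat.card D).factorization p = d := by
    rw [hd, (Fact.out : p.Prime).factorization_pow, Finsupp.single_eq_same]
  set g : ι → G := fun i => (K i).out with hg
  have hmk : ∀ i, ConjClasses.mk (g i) = K i := fun i => Quotient.out_eq (K i)
  have hprop : ∀ i, ¬ p ∣ orderOf (g i) ∧ CfsgLib.Blocks.centExp p (g i) = d := by
    intro i
    obtain ⟨x, hx, hreg, Q, hQ⟩ := (hK (K i)).1 ⟨i, rfl⟩
    have hconj : IsConj x (g i) := ConjClasses.mk_eq_mk_iff_isConj.1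
      ((ConjClasses.mem_carrier_iff_mk_eq.1 hx).trans (hmk i).symm)
    obtain ⟨c, hc⟩ := isConj_iff.1 hconj
    refine ⟨?_, ?_⟩
    · rw [← hc]
      have := (MulAut.conj c).orderOf_eq x
      simp only [MulAut.conj_apply] at this
      rwa [this]
    · have hQc : Nat.card Q = p ^ d := by
        rw [← hd, ← hQ]
        exact (Subgroup.card_map_of_injective
          (Subgroup.centralizer ({x} : Set G)).subtype_injective).symm
      rw [Sylow.card_eq_multiplicity] at hQc
      have h1 := Nat.pow_right_injective (Fact.out : p.Prime).two_le hQc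
      rw [CfsgLib.Blocks.centExp, ← h1]
      congr 1
      have h2 := CfsgLib.Blocks.index_centralizer_conj x c
      rw [hc] at h2
      have h3 := Subgroup.card_mul_index (Subgroup.centralizer ({g i} : Set G))
      rw [h2, ← Subgroup.card_mul_index (Subgroup.centralizer ({x} : Set G))] at h3
      rw [Nat.eq_of_mul_eq_mul_right (Nat.pos_of_ne_zero Subgroup.index_ne_zero_of_finite) h3]
  have hinj : Function.Injective fun i => ConjClasses.mk (g i) := by
    intro i j hij
    simp only [hmk] at hij
    exact hKinj hij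
  have hcov : ∀ x : G, ¬ p ∣ orderOf x → CfsgLib.Blocks.centExp p x = d →
      x ∈ Subgroup.centralizer (D : Set G) → ∃ i, IsConj x (g i) := by
    intro x hr hx hc
    have hle : D ≤ Subgroup.centralizer ({x} : Set G) := fun u hu =>
      Subgroup.mem_centralizer_singleton_iff.2 (Subgroup.mem_centralizer_iff.1 hc u hu)
    let Q : Sylow p (Subgroup.centralizer ({x} : Set G)) :=
      Sylow.ofCard (D.subgroupOf (Subgroup.centralizer ({x} : Set G))) (by
        rw [Nat.card_congr (Subgroup.subgroupOfEquivOfLe hle).toEquiv, hd, ← hx]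
        rfl)
    obtain ⟨i, hi⟩ := (hK (ConjClasses.mk x)).2 ⟨x, ConjClasses.mem_carrier_mk, hr, Q,
      Subgroup.map_subgroupOf_eq_of_le hle⟩
    exact ⟨i, ConjClasses.mk_eq_mk_iff_isConj.1 (hi.symm.trans (hmk i).symm)⟩
  have key := CfsgLib.Blocks.card_blocks_eq_rank hM hD hd S g hinj (fun i => (hprop i).1)
    (fun i => (hprop i).2) hcov
  simp only [hmk] at key
  rw [hfac]
  exact key

end Cfsg.Agent.S4443
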