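import Cfsg.Statements.S4444
import Cfsg.Agent.Lib.CharDeep.Glauberman.Subgroups
-- import your own Cfsg.Agent.* helpers here

set_option autoImplicit false
open Cfsg

namespace Cfsg.Agent.S4444

/-- The Glauberman correspondence for a p-group of operators. Inside a finite group Γ let S normalise G with the orders of G and S coprime, S a p-group, and let C = G ⊓ C(S) be the fixed points. Call an irreducible character χ of G S-invariant when χ(s g s⁻¹) = χ(g) for s ∈ S, g ∈ G. Then: (i) for every S-invariant χ there is exactly one irreducible character β of C whose multiplicity [χ_C, β] in the restriction of χ is not divisible by p; (ii) that multiplicity is ≡ 1 or ≡ −1 (mod p); (iii) distinct S-invariant χ give distinct β; (iv) every irreducible character of C arises in this way. So χ ↦ β is a bijection from the S-invariant irreducible characters of G onto the irreducible characters of C.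 -/
theorem result {Γ : Type*} [Group Γ] [Fintype Γ] (G S : Subgroup Γ) [Fintype G] (hnorm : ∀ s ∈ S, ∀ g ∈ G, s * g * s⁻¹ ∈ G) (hcop : (Nat.card G).Coprime (Nat.card S)) (p : ℕ) (hp : p.Prime) (hS : IsPGroup p S) (C : Subgroup Γ) [Fintype C] (hC : C = G ⊓ Subgroup.centralizer (S : Set Γ)) (hCG : C ≤ G) : (∀ χ : Cfsg.IrrCharacter G, (∀ s ∈ S, ∀ g g' : G, (g' : Γ) = s * g * s⁻¹ → (χ : G → ℂ) g' = (χ : G → ℂ) g) → ∃! β : Cfsg.IrrCharacter C, ∃ m : ℕ, Cfsg.classInner (fun c : C => (χ : G → ℂ) ⟨c, hCG c.2⟩) (β : C → ℂ) = (m : ℂ) ∧ ¬ p ∣ m) ∧ (∀ χ : Cfsg.IrrCharacter G, (∀ s ∈ S, ∀ g g' : G, (g' : Γ) = s * g * s⁻¹ → (χ : G → ℂ) g' = (χ : G → ℂ) g) → ∀ β : Cfsg.IrrCharacter C, ∀ m : ℕ, Cfsg.classInner (fun c : C => (χ : G → ℂ) ⟨c, hCG c.2⟩) (β : C → ℂ) = (m : ℂ) → ¬ p ∣ m → ((m : ℤ) ≡ 1 [ZMOD p] ∨ (m : ℤ) ≡ -1 [ZMOD p])) ∧ (∀ χ χ' : Cfsg.IrrCharacter G, (∀ s ∈ S, ∀ g g' : G, (g' : Γ) = s * g *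 s⁻¹ → (χ : G → ℂ) g' = (χ : G → ℂ) g) → (∀ s ∈ S, ∀ g g' : G, (g' : Γ) = s * g * s⁻¹ → (χ' : G → ℂ) g' = (χ' : G → ℂ) g) → ∀ β : Cfsg.IrrCharacter C, ∀ m m' : ℕ, Cfsg.classInner (fun c : C => (χ : G → ℂ) ⟨c, hCG c.2⟩) (β : C → ℂ) = (m : ℂ) → ¬ p ∣ m → Cfsg.classInner (fun c : C => (χ' : G → ℂ) ⟨c, hCG c.2⟩) (β : C → ℂ) = (m' : ℂ) → ¬ p ∣ m' → χ = χ') ∧ (∀ β : Cfsg.IrrCharacter C, ∃ χ : Cfsg.IrrCharacter G, (∀ s ∈ S, ∀ g g' : G, (g' : Γ) = s * g * s⁻¹ → (χ : G → ℂ) g' = (χ : G → ℂ) g) ∧ ∃ m : ℕ, Cfsg.classInner (fun c : C => (χ : G → ℂ) ⟨c, hCG c.2⟩) (β : C → ℂ) = (m : ℂ) ∧ ¬ p ∣ m) := by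
  classical
  haveI : Fact p.Prime := ⟨hp⟩
  let ι : C →* G := Subgroup.inclusion hCG
  let φ : S →* MulAut G := CfsgLib.CharDeep.Glauberman.subAct hnorm
  have hinj : Function.Injective ι := Subgroup.inclusion_injective hCG
  have hrange : ∀ g : G, (∀ s, φ s g = g) ↔ ∃ c, ι c = g := by
    intro g
    constructor
    · intro h
      refine ⟨⟨g, hC ▸ Subgroup.mem_inf.mpr ⟨g.2, Subgroup.mem_centralizer_iff.mpr fun s hs => ?_⟩⟩,
        Subtype.ext rfl⟩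
      have h1 := congrArg (fun x : G => (x : Γ)) (h ⟨s, hs⟩)
      simp only [φ, CfsgLib.CharDeep.Glauberman.subAct_apply] at h1
      exact eq_mul_inv_iff_mul_eq.mp h1.symm |>.symm
    · rintro ⟨c, rfl⟩ s
      apply Subtype.ext
      have hc : (c : Γ) ∈ G ⊓ Subgroup.centralizer (S : Set Γ) := hC ▸ c.2
      have h1 := Subgroup.mem_centralizer_iff.mp (Subgroup.mem_inf.mp hc).2 s s.2
      rw [CfsgLib.CharDeep.Glauberman.subAct_apply]
      show (s : Γ) * c * (s : Γ)⁻¹ = c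
      rw [h1, mul_inv_cancel_right]
  -- multiplicities
  have hmult : ∀ (χ : Cfsg.IrrCharacter G) (β : Cfsg.IrrCharacter C) (m : ℕ),
      Cfsg.classInner (fun c : C => (χ : G → ℂ) ⟨c, hCG c.2⟩) (β : C → ℂ) = (m : ℂ) ↔
        m = CfsgLib.CharDeep.Glauberman.mult ι χ β := by
    intro χ β m
    have h := CfsgLib.CharDeep.Glauberman.mult_spec ι χ β
    rw [show (fun c : C => (χ : G → ℂ) ⟨c, hCG c.2⟩) = (χ : G → ℂ) ∘ ι from rfl, h, Nat.cast_inj]
    exact eq_comm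
  have core : (∀ χ : Cfsg.IrrCharacter G, CfsgLib.CharDeep.Glauberman.Inv φ (χ : G → ℂ) →
      ∃! β, ¬ p ∣ CfsgLib.CharDeep.Glauberman.mult ι χ β) ∧
      (∀ χ : Cfsg.IrrCharacter G, CfsgLib.CharDeep.Glauberman.Inv φ (χ : G → ℂ) → ∀ β,
        ¬ p ∣ CfsgLib.CharDeep.Glauberman.mult ι χ β →
        ((CfsgLib.CharDeep.Glauberman.mult ι χ β : ℤ) ≡ 1 [ZMOD p] ∨
          (CfsgLib.CharDeep.Glauberman.mult ι χ β : ℤ) ≡ -1 [ZMOD p])) ∧
      (∀ χ χ' : Cfsg.IrrCharacter G, CfsgLib.CharDeep.Glauberman.Inv φ (χ : G → ℂ) →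
        CfsgLib.CharDeep.Glauberman.Inv φ (χ' : G → ℂ) → ∀ β,
        ¬ p ∣ CfsgLib.CharDeep.Glauberman.mult ι χ β →
        ¬ p ∣ CfsgLib.CharDeep.Glauberman.mult ι χ' β → χ = χ') ∧
      (∀ β, ∃ χ : Cfsg.IrrCharacter G, CfsgLib.CharDeep.Glauberman.Inv φ (χ : G → ℂ) ∧
        ¬ p ∣ CfsgLib.CharDeep.Glauberman.mult ι χ β) := by
    by_cases hpG : p ∣ Nat.card G
    · -- then `S` is trivial and `C = G`
      have hS1 : Nat.card S = 1 := by
        obtain ⟨n, hn⟩ := IsPGroup.iff_card.mp hS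
        rcases Nat.eq_zero_or_pos n with h0 | h0
        · rw [hn, h0, pow_zero]
        · exact absurd (hcop.gcd_eq_one ▸ Nat.dvd_gcd hpG (hn ▸ dvd_pow_self p h0.ne')) hp.not_dvd_one
      haveI : Subsingleton S := (Nat.card_eq_one_iff_unique.mp hS1).1
      have hsurj : Function.Surjective ι := fun g => (hrange g).mp fun s => by
        rw [Subsingleton.elim s 1, map_one]; rfl
      let e : C ≃* G := MulEquiv.ofBijective ι ⟨hinj, hsurj⟩
      let f : Cfsg.IrrCharacter G → Cfsg.IrrCharacter C := fun χ =>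
        ⟨(χ : G → ℂ) ∘ ι, CfsgLib.Char.IsIrrCharacter.comp_equiv χ.2 e⟩
      have hm : ∀ χ β, CfsgLib.CharDeep.Glauberman.mult ι χ β = if f χ = β then 1 else 0 := by
        intro χ β
        apply Nat.cast_injective (R := ℂ)
        rw [← CfsgLib.CharDeep.Glauberman.mult_spec,
          show (χ : G → ℂ) ∘ ι = ((f χ : Cfsg.IrrCharacter C) : C → ℂ) from rfl,
          CfsgLib.Char.classInner_irrCharacter]
        split_ifs <;> simp
      have hm' : ∀ χ β, ¬ p ∣ CfsgLib.CharDeep.Glauberman.mult ι χ β ↔ f χ = β := by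
        intro χ β
        rw [hm]
        by_cases h : f χ = β
        · simp [h, hp.one_lt.ne']
        · simp [h]
      have hinv : ∀ χ : Cfsg.IrrCharacter G, CfsgLib.CharDeep.Glauberman.Inv φ (χ : G → ℂ) :=
        fun χ s g => by rw [Subsingleton.elim s 1, map_one]; rfl
      refine ⟨fun χ _ => ⟨f χ, (hm' _ _).mpr rfl, fun β hβ => ((hm' _ _).mp hβ).symm⟩,
        fun χ _ β hβ => Or.inl ?_, fun χ χ' _ _ β h h' => ?_, fun β => ?_⟩
      · rw [hm, if_pos ((hm' _ _).mp hβ)]; rfl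
      · exact Subtype.ext (hsurj.injective_comp_right
          (congrArg Subtype.val (((hm' _ _).mp h).trans ((hm' _ _).mp h').symm)))
      · refine ⟨⟨(β : C → ℂ) ∘ e.symm, CfsgLib.Char.IsIrrCharacter.comp_equiv β.2 e.symm⟩, hinv _,
          (hm' _ _).mpr (Subtype.ext (funext fun c => ?_))⟩
        show (β : C → ℂ) (e.symm (e c)) = _
        rw [MulEquiv.symm_apply_apply]
    · have hs : CfsgLib.CharDeep.Glauberman.Setup p φ ι := ⟨hp, hS, hinj, hrange, hpG⟩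
      exact ⟨fun χ hχ => ⟨hs.corr χ, hs.corr_spec χ, fun β hβ => hs.mult_unique hχ hβ (hs.corr_spec χ)⟩,
        fun χ hχ β hβ => hs.mult_sign hχ hβ, fun χ χ' h h' β hb hb' => hs.inv_unique h h' hb hb',
        hs.exists_inv_mult⟩
  obtain ⟨c1, c2, c3, c4⟩ := core
  have hi := fun χ : G → ℂ => CfsgLib.CharDeep.Glauberman.inv_iff hnorm χ
  refine ⟨fun χ hχ => ?_, fun χ hχ β m hm hpm => ?_, fun χ χ' hχ hχ' β m m' hm hpm hm' hpm' => ?_,
    fun β => ?_⟩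
  · obtain ⟨β, hβ, huniq⟩ := c1 χ ((hi _).mpr hχ)
    refine ⟨β, ⟨_, (hmult χ β _).mpr rfl, hβ⟩, ?_⟩
    rintro γ ⟨m, hm, hpm⟩
    exact huniq γ (fun hd => hpm (((hmult χ γ m).mp hm).symm ▸ hd))
  · rw [(hmult χ β m).mp hm] at hpm ⊢
    exact c2 χ ((hi _).mpr hχ) β hpm
  · exact c3 χ χ' ((hi _).mpr hχ) ((hi _).mpr hχ') β ((hmult χ β m).mp hm ▸ hpm)
      ((hmult χ' β m').mp hm' ▸ hpm')
  · obtain ⟨χ, hχ, h⟩ := c4 β
    exact ⟨χ, (hi _).mp hχ, _, (hmult χ β _).mpr rfl, h⟩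

end Cfsg.Agent.S4444
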