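import Cfsg.Statements.S4448
import Cfsg.Agent.Lib.CharDeep.InvariantPairs
-- import your own Cfsg.Agent.* helpers here

set_option autoImplicit false
open Cfsg CfsgLib.Char CfsgLib.CharDeep

namespace Cfsg.Agent.S4448

/-- Inside a finite group Γ let S normalise G and also normalise a normal subgroup N of G, with the order of S coprime to the index of N in G and G/N solvable. Then for every S-invariant irreducible character ϑ of N, the induced character ϑ^G has an S-invariant irreducible constituent. -/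
theorem result {Γ : Type*} [Group Γ] [Fintype Γ] (G S N : Subgroup Γ) [Fintype G] [Fintype N] (hnorm : ∀ s ∈ S, ∀ g ∈ G, s * g * s⁻¹ ∈ G) (hNG : N ≤ G) [hNn : (N.subgroupOf G).Normal] (hNS : ∀ s ∈ S, ∀ n ∈ N, s * n * s⁻¹ ∈ N) (hcop : (N.relIndex G).Coprime (Nat.card S)) (hsolv : Group.IsSolvable (G ⧸ N.subgroupOf G)) (θ : Cfsg.IrrCharacter N) (hinv : (∀ s ∈ S, ∀ g g' : N, (g' : Γ) = s * g * s⁻¹ → (θ : N → ℂ) g' = (θ : N → ℂ) g)) : ∃ χ : Cfsg.IrrCharacter G, Cfsg.classInner (fun n : N => (χ : G → ℂ) ⟨n, hNG n.2⟩) (θ : N → ℂ) ≠ 0 ∧ (∀ s ∈ S, ∀ g g' : G, (g' : Γ) = s * g * s⁻¹ → (χ : G → ℂ) g' = (χ : G → ℂ) g) := by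
  set X : Subgroup Γ := G ⊔ S with hXdef
  have hGX : G ≤ X := le_sup_left
  have hSX : S ≤ X := le_sup_right
  have hXG : X ≤ Subgroup.normalizer (G : Set Γ) :=
    sup_le Subgroup.le_normalizer (Subgroup.le_normalizer_iff.2 hnorm)
  have hXN : X ≤ Subgroup.normalizer (N : Set Γ) :=
    sup_le ((Subgroup.normal_subgroupOf_iff_le_normalizer hNG).1 hNn) (Subgroup.le_normalizer_iff.2 hNS)
  set G1 := G.subgroupOf X
  set N1 := N.subgroupOf X
  set S1 := S.subgroupOf X
  haveI hG1 : G1.Normal := (Subgroup.normal_subgroupOf_iff_le_normalizer hGX).2 hXG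
  haveI hN1 : N1.Normal := (Subgroup.normal_subgroupOf_iff_le_normalizer (hNG.trans hGX)).2 hXN
  letI : Fintype X := Fintype.ofFinite _
  letI : Fintype G1 := Fintype.ofFinite _
  letI : Fintype N1 := Fintype.ofFinite _
  let εG : G1 ≃* G := Subgroup.subgroupOfEquivOfLe hGX
  let εN : N1 ≃* N := Subgroup.subgroupOfEquivOfLe (hNG.trans hGX)
  have hsup : G1 ⊔ S1 = ⊤ := by
    apply Subgroup.map_injective X.subtype_injective
    rw [Subgroup.map_sup, Subgroup.map_subgroupOf_eq_of_le hGX, Subgroup.map_subgroupOf_eq_of_le hSX,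
      ← MonoidHom.range_eq_map, Subgroup.range_subtype, hXdef]
  have hrel : N1.relIndex G1 = N.relIndex G := by
    rw [← N1.relIndex_map_map_of_injective G1 X.subtype_injective,
      Subgroup.map_subgroupOf_eq_of_le (hNG.trans hGX), Subgroup.map_subgroupOf_eq_of_le hGX]
  have hScard : Nat.card S1 = Nat.card S := Nat.card_congr (Subgroup.subgroupOfEquivOfLe hSX).toEquiv
  have hle : N1 ≤ G1 := fun x hx => hNG hx
  haveI hNG1 : (N1.subgroupOf G1).Normal := hN1.comap G1.subtype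
  have hsolvmap : Group.IsSolvable (G ⧸ N.subgroupOf G) → Group.IsSolvable (G1 ⧸ N1.subgroupOf G1) := fun h => by
    haveI := h
    exact Group.isSolvable_of_surjective
      (f := QuotientGroup.map (N.subgroupOf G) (N1.subgroupOf G1) εG.symm.toMonoidHom
        fun x hx => Subgroup.mem_comap.2 (show (x : Γ) ∈ N from hx)) fun q => by
        obtain ⟨x, rfl⟩ := QuotientGroup.mk_surjective q
        refine ⟨QuotientGroup.mk (εG x), ?_⟩
        show QuotientGroup.mk (εG.symm (εG x)) = _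
        rw [MulEquiv.symm_apply_apply]
  obtain ⟨χ₁, h1, h2⟩ := InvariantPairs.exists_above G1 N1 hle S1 hsup (by rw [hrel, hScard]; exact hcop)
    (hsolvmap hsolv) ⟨(θ : N → ℂ) ∘ εN, IsIrrCharacter.comp_equiv θ.2 εN⟩ fun s hs => funext fun n =>
      hinv _ hs (εN n) _ rfl
  refine ⟨⟨(χ₁ : G1 → ℂ) ∘ εG.symm, IsIrrCharacter.comp_equiv χ₁.2 εG.symm⟩, ?_, fun s hs g g' hgg => ?_⟩
  · rw [← classInner_reindex εN]
    exact h1
  · have h3 := congrFun (h2 ⟨s, hSX hs⟩ hs) (εG.symm g)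
    rw [conjG_apply] at h3
    refine Eq.trans ?_ h3
    exact congrArg (χ₁ : G1 → ℂ) (Subtype.ext (Subtype.ext hgg))

end Cfsg.Agent.S4448
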