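import Cfsg.Statements.S4449
import Cfsg.Agent.Lib.CharDeep.Glauberman.Subgroups
-- import your own Cfsg.Agent.* helpers here

set_option autoImplicit false
open Cfsg

namespace Cfsg.Agent.S4449

/-- Inside a finite group Γ let the solvable subgroup S normalise G with the orders of G and S coprime, and let N be a normal subgroup of G normalised by S. Then for every S-invariant irreducible character ϑ of N, the induced character ϑ^G has an S-invariant irreducible constituent. -/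
theorem result {Γ : Type*} [Group Γ] [Fintype Γ] (G S N : Subgroup Γ) [Fintype G] [Fintype N] (hnorm : ∀ s ∈ S, ∀ g ∈ G, s * g * s⁻¹ ∈ G) (hNG : N ≤ G) (hNnormal : ∀ g ∈ G, ∀ n ∈ N, g * n * g⁻¹ ∈ N) (hNS : ∀ s ∈ S, ∀ n ∈ N, s * n * s⁻¹ ∈ N) (hcop : (Nat.card G).Coprime (Nat.card S)) (hsolv : Group.IsSolvable S) (θ : Cfsg.IrrCharacter N) (hinv : (∀ s ∈ S, ∀ g g' : N, (g' : Γ) = s * g * s⁻¹ → (θ : N → ℂ) g' = (θ : N → ℂ) g)) : ∃ χ : Cfsg.IrrCharacter G, Cfsg.classInner (fun n : N => (χ : G → ℂ) ⟨n, hNG n.2⟩) (θ : N → ℂ) ≠ 0 ∧ (∀ s ∈ S, ∀ g g' : G, (g' : Γ) = s * g * s⁻¹ → (χ : G → ℂ) g' = (χ : G → ℂ) g) := by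
    classical
  haveI := hsolv
  haveI : (N.subgroupOf G).Normal := ⟨fun n hn g => hNnormal g g.2 n hn⟩
  let e : N.subgroupOf G ≃* N := Subgroup.subgroupOfEquivOfLe hNG
  have hN : ∀ s : S, ∀ g ∈ N.subgroupOf G, CfsgLib.CharDeep.Glauberman.subAct hnorm s g ∈ N.subgroupOf G := by
    intro s g hg
    rw [Subgroup.mem_subgroupOf, CfsgLib.CharDeep.Glauberman.subAct_apply]
    exact hNS s s.2 g hg
  obtain ⟨χ, hχ, hm⟩ := CfsgLib.CharDeep.Glauberman.exists_inv_over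
    (CfsgLib.CharDeep.Glauberman.subAct hnorm) hcop (N.subgroupOf G) hN
    ⟨(θ : N → ℂ) ∘ e, CfsgLib.Char.IsIrrCharacter.comp_equiv θ.2 e⟩ (by
      intro s a b hab
      refine hinv s s.2 (e a) (e b) ?_
      exact (congrArg (fun x : G => (x : Γ)) hab).trans
        (CfsgLib.CharDeep.Glauberman.subAct_apply hnorm s a))
  refine ⟨χ, fun h0 => hm (Nat.cast_injective (R := ℂ) ?_), (CfsgLib.CharDeep.Glauberman.inv_iff hnorm _).mp hχ⟩
  rw [← CfsgLib.CharDeep.Glauberman.mult_spec, Nat.cast_zero, ← h0,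
    ← CfsgLib.Char.classInner_reindex e (fun n : N => (χ : G → ℂ) ⟨n, hNG n.2⟩) (θ : N → ℂ)]
  rfl

end Cfsg.Agent.S4449
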