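import Cfsg.Statements.S4451
import Cfsg.Agent.Lib.CharDeep.Glauberman.CyclicSign
import Cfsg.Agent.Lib.DegreeTools.Basic
-- import your own Cfsg.Agent.* helpers here

set_option autoImplicit false
open Cfsg

namespace Cfsg.Agent.S4451

/-- Let the finite group Γ be generated by a normal subgroup G and a cyclic subgroup S of coprime orders such that every non-identity element of S has the same centraliser C = G ⊓ C(S) in G. Let χ be an S-invariant irreducible character of G, χ̂ its canonical extension to Γ (determinantal order coprime to the order of S), and β the irreducible character of C with χ̂(c s) = ε₀ β(c) for c ∈ C and generators s of S (ε₀ = ±1). Then there are a sign ε = ±1, which may differ from ε₀, and a linear character μ of S with μ² = 1, such that: (a) χ̂(c x) = ε β(c) μ(x) for all c ∈ C and all x ∈ S other than 1; (b) the restriction of χ to C equals |S|·ϑ + ε β for some character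 ϑ of C or ϑ = 0; (c) |S| divides χ(1) − ε β(1). -/
theorem result {Γ : Type*} [Group Γ] [Fintype Γ] (G S : Subgroup Γ) [Fintype G] (hnorm : ∀ s ∈ S, ∀ g ∈ G, s * g * s⁻¹ ∈ G) (hcop : (Nat.card G).Coprime (Nat.card S)) (htop : G ⊔ S = ⊤) (hcyc : IsCyclic S) (C : Subgroup Γ) [Fintype C] (hC : C = G ⊓ Subgroup.centralizer (S : Set Γ)) (hCG : C ≤ G) (hfpf : ∀ x ∈ S, x ≠ 1 → G ⊓ Subgroup.centralizer ({x} : Set Γ) = C) (χ : Cfsg.IrrCharacter G) (hinv : (∀ s ∈ S, ∀ g g' : G, (g' : Γ) = s * g * s⁻¹ → (χ : G → ℂ) g' = (χ : G → ℂ) g)) (χh : Cfsg.IrrCharacter Γ) (hext : (∀ g : G, (χh : Γ → ℂ) g = (χ : G → ℂ) g)) (hdet : (Cfsg.detOrder (χh : Γ → ℂ)).Coprime (Nat.card S)) (β : Cfsg.IrrCharacter C) (ε₀ : ℤ) (hε₀ : ε₀ = 1 ∨ ε₀ = -1) (hβ : ∀ c : C, ∀ s : Γ, Subgroup.zpowers s = S → (χh : Γ → ℂ) ((c : Γ) * s) = (ε₀ : ℂ) * (β : C → ℂ) c) : ∃ ε : ℤ, (ε = 1 ∨ ε = -1) ∧ (∃ μ : S → ℂ, Cfsg.IsCharacter S μ ∧ μ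 1 = 1 ∧ (∀ x : S, μ x * μ x = 1) ∧ ∀ c : C, ∀ x : S, x ≠ 1 → (χh : Γ → ℂ) ((c : Γ) * x) = (ε : ℂ) * (β : C → ℂ) c * μ x) ∧ (∃ ϑ : C → ℂ, Cfsg.IsCharacter C ϑ ∧ (fun c : C => (χ : G → ℂ) ⟨c, hCG c.2⟩) = fun c => (Nat.card S : ℂ) * ϑ c + (ε : ℂ) * (β : C → ℂ) c) ∧ (Nat.card S : ℤ) ∣ (Cfsg.charDegree (χ : G → ℂ) : ℤ) - ε * (Cfsg.charDegree (β : C → ℂ) : ℤ) := by
  classical
  obtain ⟨s, hz, h⟩ := CfsgLib.CharDeep.Glauberman.exists_cyc hnorm hcop htop hcyc hC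
  have hcanon := h.canon_of hz hext hdet
  have hdvd : ∀ i : ℕ, s ^ i = 1 ↔ orderOf s ∣ i := fun i => orderOf_dvd_iff_pow_eq_one.symm
  have hcent : ∀ i : ℕ, ¬ orderOf s ∣ i → ∀ g ∈ G, s ^ i * g = g * s ^ i → g ∈ C := by
    intro i hi g hg hgi
    rw [← hfpf (s ^ i) (hz ▸ Subgroup.pow_mem _ (Subgroup.mem_zpowers s) i)
      (fun h' => hi ((hdvd i).mp h'))]
    exact Subgroup.mem_inf.mpr ⟨hg, Subgroup.mem_centralizer_singleton_iff.mpr hgi.symm⟩
  obtain ⟨ε, hε, ⟨μ, hμ2, hμval⟩, n, hn⟩ :=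
    h.sign_data hcanon hcent hε₀ (fun c => hβ c s hz)
  have hm : Nat.card S = orderOf s := by rw [← hz, Nat.card_zpowers]
  have hexp : ∀ x : S, ∃ i : ℕ, s ^ i = (x : Γ) := fun x =>
    (isOfFinOrder_of_finite s).mem_powers_iff_mem_zpowers.mpr (hz.symm ▸ x.2)
  have hθ : Cfsg.IsCharacter C (∑ φ : Cfsg.IrrCharacter C, n φ • (φ : C → ℂ)) :=
    CfsgLib.Char.isCharacter_sum _ _ fun φ _ =>
      CfsgLib.Char.IsCharacter.nsmul (CfsgLib.Char.isCharacter_irr φ) _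
  have hdecomp : ∀ c : C, (χ : G → ℂ) ⟨c, hCG c.2⟩ =
      (Nat.card S : ℂ) * (∑ φ : Cfsg.IrrCharacter C, n φ • (φ : C → ℂ)) c +
        (ε : ℂ) * (β : C → ℂ) c := by
    intro c
    rw [← hext ⟨c, hCG c.2⟩]
    have he := congrFun (CfsgLib.Char.IsClassFunction.eq_sum_irr (CfsgLib.Char.IsCharacter.isClassFunction
      (CfsgLib.Char.IsCharacter.restrict (CfsgLib.Char.IsIrrCharacter.isCharacter χh.2) C))) c
    simp only [Finset.sum_apply, Pi.smul_apply, smul_eq_mul] at he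
    rw [he]
    have hco : ∀ φ : Cfsg.IrrCharacter C,
        Cfsg.classInner (fun c : C => (χh : Γ → ℂ) c) (φ : C → ℂ) =
          (orderOf s : ℂ) * n φ + if φ = β then (ε : ℂ) else 0 := by
      intro φ
      rw [← hn φ, CfsgLib.CharDeep.Glauberman.coef]
      simp
    simp only [hco, add_mul, ite_mul, zero_mul, Finset.sum_add_distrib, Finset.sum_ite_eq',
      Finset.mem_univ, if_true, Finset.sum_apply, Pi.smul_apply, nsmul_eq_mul, Finset.mul_sum, hm,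
      mul_assoc]
    simp
  refine ⟨ε, hε, ⟨fun x : S => (μ (x : Γ) : ℂ), CfsgLib.Char.isCharacter_hom (μ.comp S.subtype),
    by simp, fun x => ?_, fun c x hx => ?_⟩, ⟨_, hθ, funext hdecomp⟩, ?_⟩
  · obtain ⟨i, hi⟩ := hexp x
    show (μ (x : Γ) : ℂ) * (μ (x : Γ) : ℂ) = 1
    rw [← hi, ← Units.val_mul, hμ2, Units.val_one]
  · obtain ⟨i, hi⟩ := hexp x
    show (χh : Γ → ℂ) ((c : Γ) * (x : Γ)) = _ * _ * (μ (x : Γ) : ℂ)
    rw [← hi]
    exact hμval c i fun h' => hx (Subtype.ext (hi.symm.trans ((hdvd i).mpr h')))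
  · obtain ⟨t, ht⟩ := CfsgLib.Char.IsCharacter.apply_one_eq hθ
    refine ⟨t, ?_⟩
    apply Int.cast_injective (α := ℂ)
    push_cast
    rw [CfsgLib.DegreeTools.charDegree_cast (CfsgLib.Char.isCharacter_irr χ),
      CfsgLib.DegreeTools.charDegree_cast (CfsgLib.Char.isCharacter_irr β), ← ht]
    have h1 := hdecomp 1
    have h2 : (⟨((1 : C) : Γ), hCG (1 : C).2⟩ : G) = 1 := Subtype.ext rfl
    rw [h2] at h1
    rw [h1]
    ring

end Cfsg.Agent.S4451
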