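import Cfsg.Statements.S4452
import Cfsg.Agent.Lib.CharDeep.Glauberman.CoprimeDegree
-- import your own Cfsg.Agent.* helpers here

set_option autoImplicit false
open Cfsg CfsgLib CfsgLib.CharDeep.Glauberman

namespace Cfsg.Agent.S4452

variable {G : Type*} [Group G]

theorem centralizer_le_normalizer' {H : Subgroup G} {g : G} (h : g ∈ Subgroup.centralizer (H : Set G)) :
    g ∈ Subgroup.normalizer (H : Set G) :=
  Subgroup.centralizer_le_normalizer _ h

/-- The centralizer of `H` in `K`. -/
def cent (K H : Subgroup G) : Subgroup G := K ⊓ Subgroup.centralizer (H : Set G)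

/-- Isomorphic groups have the same classes. -/
def classesCongr {A B : Type*} [Group A] [Group B] (e : A ≃* B) : ConjClasses A ≃ ConjClasses B where
  toFun := ConjClasses.map e.toMonoidHom
  invFun := ConjClasses.map e.symm.toMonoidHom
  left_inv := Quotient.ind fun a => congrArg ConjClasses.mk (e.symm_apply_apply a)
  right_inv := Quotient.ind fun a => congrArg ConjClasses.mk (e.apply_symm_apply a)

/-- Homomorphisms out of isomorphic groups. -/
def homCongr {A B : Type*} [Group A] [Group B] (e : A ≃* B) : (A →* ℂˣ) ≃ (B →* ℂˣ) where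
  toFun f := f.comp e.symm.toMonoidHom
  invFun f := f.comp e.toMonoidHom
  left_inv f := MonoidHom.ext fun a => congrArg f (e.symm_apply_apply a)
  right_inv f := MonoidHom.ext fun a => congrArg f (e.apply_symm_apply a)

theorem card_eq_cent [Finite G] (K H : Subgroup G) [K.Normal] (hKH : K ⊔ H = ⊤)
    (hcop : (Nat.card K).Coprime (Nat.card H)) (hsolv : Group.IsSolvable H) :
    Nat.card {χ : Cfsg.IrrCharacter G // (Cfsg.charDegree (χ : G → ℂ)).Coprime (Nat.card H)} =
      Nat.card (ConjClasses (cent K H)) * Nat.card (H →* ℂˣ) := by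
  classical
  haveI := hsolv
  cases nonempty_fintype G
  haveI : Fintype K := Fintype.ofFinite _
  have hcompl : Subgroup.IsComplement' K H := Subgroup.isComplement'_of_disjoint_and_mul_eq_univ
    (Subgroup.disjoint_of_coprime_natCard hcop)
    (by rw [← Subgroup.normal_mul, hKH, Subgroup.coe_top])
  have hidx : K.index = Nat.card H := hcompl.symm.index_eq_card
  have hnorm : ∀ s ∈ H, ∀ g ∈ K, s * g * s⁻¹ ∈ K := fun s _ g hg =>
    (inferInstance : K.Normal).conj_mem g hg s
  have hinv : ∀ θ : Cfsg.IrrCharacter K, GInv (θ : K → ℂ) ↔ Inv (subAct hnorm) (θ : K → ℂ) := by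
    intro θ
    refine ⟨fun h => (inv_iff hnorm _).2 fun s _ g g' e => ?_, fun h => ?_⟩
    · exact (congrArg (θ : K → ℂ) (Subtype.ext e)).trans (h s g)
    · intro x n
      have hx : x ∈ K ⊔ H := hKH ▸ Subgroup.mem_top x
      rw [← SetLike.mem_coe, Subgroup.normal_mul, Set.mem_mul] at hx
      obtain ⟨k, hk, s, hs, rfl⟩ := hx
      rw [← (inv_iff hnorm _).1 h s hs n ⟨s * n * s⁻¹, hnorm s hs n n.2⟩ rfl,
        ← Char.IsIrrCharacter.isClassFunction θ.2 ⟨s * n * s⁻¹, hnorm s hs n n.2⟩ ⟨k, hk⟩]
      exact congrArg (θ : K → ℂ) (Subtype.ext (by simp [mul_assoc]))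
  rw [← hidx, card_coprime_degree K (hidx ▸ hcop), Nat.card_congr (Equiv.subtypeEquivRight hinv),
    card_inv (subAct hnorm) hcop, card_invClass_aux _ H rfl K (subAct hnorm) hcop]
  have hfix : ∀ k : K, k ∈ fixSub (subAct hnorm) ↔ (k : G) ∈ cent K H := by
    intro k
    refine ⟨fun h => ⟨k.2, fun s hs => ?_⟩, fun h s => Subtype.ext ?_⟩
    · have := congrArg Subtype.val (h ⟨s, hs⟩)
      rw [subAct_apply] at this
      exact mul_inv_eq_iff_eq_mul.1 this
    · rw [subAct_apply]
      exact mul_inv_eq_iff_eq_mul.2 (h.2 (s : G) s.2)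
  let e : fixSub (subAct hnorm) ≃* cent K H :=
    { toFun := fun k => ⟨((k : K) : G), (hfix _).1 k.2⟩
      invFun := fun k => ⟨⟨(k : G), k.2.1⟩, (hfix _).2 k.2⟩
      left_inv := fun _ => rfl
      right_inv := fun _ => rfl
      map_mul' := fun _ _ => rfl }
  rw [Nat.card_congr (classesCongr e)]
  congr 1
  refine Nat.card_congr (Equiv.ofBijective (fun μ => μ.1.comp H.subtype) ⟨fun a b h => ?_, fun f => ?_⟩)
  · refine Subtype.ext (MonoidHom.ext fun x => ?_)
    have hx : x ∈ K ⊔ H := hKH ▸ Subgroup.mem_top x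
    rw [← SetLike.mem_coe, Subgroup.normal_mul, Set.mem_mul] at hx
    obtain ⟨k, hk, s, hs, rfl⟩ := hx
    rw [map_mul, map_mul, a.2 ⟨k, hk⟩, b.2 ⟨k, hk⟩]
    exact congrArg (1 * ·) (DFunLike.congr_fun h ⟨s, hs⟩)
  · let q := hcompl.symm.QuotientMulEquiv
    refine ⟨⟨f.comp (q.toMonoidHom.comp (QuotientGroup.mk' K)), fun k => ?_⟩,
      MonoidHom.ext fun s => ?_⟩
    · show f (q (QuotientGroup.mk' K k)) = 1
      rw [show QuotientGroup.mk' K (k : G) = 1 from (QuotientGroup.eq_one_iff _).2 k.2, map_one,
        map_one]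
    · show f (q (QuotientGroup.mk' K s)) = f s
      refine congrArg f (q.symm.injective ?_)
      rw [q.symm_apply_apply]
      rfl



/-- Let the finite group G be the product of a normal subgroup K and a solvable subgroup H of coprime orders, and let N = N_G(H). Then the number of irreducible characters of G of degree coprime to the order of H equals the number of irreducible characters of N of degree coprime to the order of H. (The two sets are in fact in a canonical bijection; only the equality of their sizes is stated here.) -/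
theorem result {G : Type*} [Group G] [Finite G] (K H : Subgroup G) [K.Normal] (hKH : K ⊔ H = ⊤) (hcop : (Nat.card K).Coprime (Nat.card H)) (hsolv : Group.IsSolvable H) : Nat.card {χ : Cfsg.IrrCharacter G // (Cfsg.charDegree (χ : G → ℂ)).Coprime (Nat.card H)} = Nat.card {η : Cfsg.IrrCharacter (Subgroup.normalizer (H : Set G)) // (Cfsg.charDegree (η : Subgroup.normalizer (H : Set G) → ℂ)).Coprime (Nat.card H)} := by
  classical
  have key := card_eq_cent K H hKH hcop hsolv
  set N := Subgroup.normalizer (H : Set G) with hN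
  have hHN : H ≤ N := Subgroup.le_normalizer
  set Kn := K.subgroupOf N with hKn
  set Hn := H.subgroupOf N with hHn
  haveI : Kn.Normal := Subgroup.Normal.subgroupOf inferInstance N
  have hsup : Kn ⊔ Hn = ⊤ := by
    refine (Subgroup.eq_top_iff' _).2 fun g => ?_
    obtain ⟨k, hk, h, hh, e⟩ : ∃ k ∈ K, ∃ h ∈ H, k * h = (g : G) := by
      have hg : (g : G) ∈ K ⊔ H := hKH ▸ Subgroup.mem_top _
      rwa [← SetLike.mem_coe, Subgroup.normal_mul, Set.mem_mul] at hg
    have hkN : k ∈ N := by
      rw [show k = (g : G) * h⁻¹ by rw [← e, mul_inv_cancel_right]]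
      exact N.mul_mem g.2 (N.inv_mem (hHN hh))
    rw [show g = (⟨k, hkN⟩ : N) * ⟨h, hHN hh⟩ from Subtype.ext e.symm]
    exact Subgroup.mul_mem_sup hk hh
  have hcop' : (Nat.card Kn).Coprime (Nat.card Hn) := by
    have h1 : Nat.card Kn ∣ Nat.card K :=
      Subgroup.card_comap_dvd_of_injective K N.subtype N.subtype_injective
    rw [hHn, Nat.card_congr (Subgroup.subgroupOfEquivOfLe hHN).toEquiv]
    exact hcop.coprime_dvd_left h1
  have eH : Hn ≃* H := Subgroup.subgroupOfEquivOfLe hHN
  haveI := hsolv
  have key' := card_eq_cent Kn Hn hsup hcop'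
    (Group.isSolvable_of_isSolvable_injective (f := eH.toMonoidHom) eH.injective)
  rw [Nat.card_congr (Subgroup.subgroupOfEquivOfLe hHN).toEquiv] at key'
  rw [key, key']
  congr 1
  · let e : cent K H ≃* cent Kn Hn :=
      { toFun := fun k => ⟨⟨(k : G), centralizer_le_normalizer' k.2.2⟩, k.2.1,
          fun h hh => Subtype.ext (k.2.2 h hh)⟩
        invFun := fun k => ⟨((k : N) : G), k.2.1, fun h hh =>
          congrArg Subtype.val (k.2.2 ⟨h, hHN hh⟩ hh)⟩
        left_inv := fun _ => rfl
        right_inv := fun _ => rfl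
        map_mul' := fun _ _ => rfl }
    exact Nat.card_congr (classesCongr e)
  · exact Nat.card_congr (homCongr eH.symm)


end Cfsg.Agent.S4452
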