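import Cfsg.Statements.S4453
import Cfsg.Agent.Lib.DegreeTools.OddSection.Main
import Cfsg.Agent.Lib.Coprime.Action

set_option autoImplicit false
open Cfsg

namespace Cfsg.Agent.S4453

/-- Inside a finite group Γ let S normalise the solvable subgroup G of odd order with the orders of G and S coprime, let C = G ⊓ C(S), and let L ≤ K be S-invariant normal subgroups of G with K/L abelian, G = KC and H = LC (so C ≤ H ≤ G). Then for each S-invariant irreducible character χ of G there is exactly one S-invariant irreducible character ψ of H whose multiplicity in the restriction of χ to H is odd, and χ ↦ ψ is a bijection from the S-invariant irreducible characters of G onto those of H (distinct χ give distinct ψ, and every S-invariant ψ arises). -/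
theorem result {Γ : Type*} [Group Γ] [Fintype Γ] (G S : Subgroup Γ) [Fintype G] (hnorm : ∀ s ∈ S, ∀ g ∈ G, s * g * s⁻¹ ∈ G) (hcop : (Nat.card G).Coprime (Nat.card S)) (hGsolv : Group.IsSolvable G) (hodd : Odd (Nat.card G)) (C : Subgroup Γ) [Fintype C] (hC : C = G ⊓ Subgroup.centralizer (S : Set Γ)) (hCG : C ≤ G) (K L H : Subgroup Γ) [Fintype H] (hLK : L ≤ K) (hKG : K ≤ G) (hKn : ∀ g ∈ G, ∀ k ∈ K, g * k * g⁻¹ ∈ K) (hLn : ∀ g ∈ G, ∀ l ∈ L, g * l * g⁻¹ ∈ L) (hKS : ∀ s ∈ S, ∀ k ∈ K, s * k * s⁻¹ ∈ K) (hLS : ∀ s ∈ S, ∀ l ∈ L, s * l * s⁻¹ ∈ L) (hab : ∀ a ∈ K, ∀ b ∈ K, a * b * a⁻¹ * b⁻¹ ∈ L) (hGKC : K ⊔ C = G) (hH : H = L ⊔ C) (hHG : H ≤ G) : (∀ χ : Cfsg.IrrCharacter G, (∀ s ∈ S, ∀ g g' : G, (g' : Γ) = s * g * s⁻¹ → (χ : G → ℂ) g' = (χ : G → ℂ) g) → ∃! ψ : Cfsg.IrrCharacter H, (∀ s ∈ S, ∀ g g' : H, (g' : Γ) = s * g * s⁻¹ → (ψ : H → ℂ) g' = (ψ : H → ℂ) g) ∧ ∃ m : ℕ,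 Cfsg.classInner (fun h : H => (χ : G → ℂ) ⟨h, hHG h.2⟩) (ψ : H → ℂ) = (m : ℂ) ∧ Odd m) ∧ (∀ χ χ' : Cfsg.IrrCharacter G, (∀ s ∈ S, ∀ g g' : G, (g' : Γ) = s * g * s⁻¹ → (χ : G → ℂ) g' = (χ : G → ℂ) g) → (∀ s ∈ S, ∀ g g' : G, (g' : Γ) = s * g * s⁻¹ → (χ' : G → ℂ) g' = (χ' : G → ℂ) g) → ∀ ψ : Cfsg.IrrCharacter H, (∀ s ∈ S, ∀ g g' : H, (g' : Γ) = s * g * s⁻¹ → (ψ : H → ℂ) g' = (ψ : H → ℂ) g) → ∀ m m' : ℕ, Cfsg.classInner (fun h : H => (χ : G → ℂ) ⟨h, hHG h.2⟩) (ψ : H → ℂ) = (m : ℂ) → Odd m → Cfsg.classInner (fun h : H => (χ' : G → ℂ) ⟨h, hHG h.2⟩) (ψ : H → ℂ) = (m' : ℂ) → Odd m' → χ = χ') ∧ (∀ ψ : Cfsg.IrrCharacter H, (∀ s ∈ S, ∀ g g' : H, (g' : Γ) = s * g * s⁻¹ → (ψ : H → ℂ) g' = (ψ : H → ℂ) g) → ∃ χ : Cfsg.IrrCharacter G, (∀ s ∈ S, ∀ g g' : G, (g' : Γ) = s * g * s⁻¹ → (χ : G → ℂ) g' = (χ : G → ℂ) g) ∧ ∃ m : ℕ, Cfsg.classInner (fun h : H => (χ : G → ℂ) ⟨h, hHG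 h.2⟩) (ψ : H → ℂ) = (m : ℂ) ∧ Odd m) := by
  classical
  haveI : Finite S := inferInstance
  let a : S →* MulAut G := MonoidHom.mk'
    (fun s =>
      { toFun := fun g => ⟨(s : Γ) * g * (s : Γ)⁻¹, hnorm s s.2 g g.2⟩
        invFun := fun g => ⟨(s : Γ)⁻¹ * g * (s : Γ), by
          simpa using hnorm _ (S.inv_mem s.2) g g.2⟩
        left_inv := fun g => Subtype.ext (by simp [mul_assoc])
        right_inv := fun g => Subtype.ext (by simp [mul_assoc])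
        map_mul' := fun g g' => Subtype.ext (by simp [mul_assoc]) })
    fun s t => MulEquiv.ext fun g => Subtype.ext (by simp [mul_assoc])
  have ha : ∀ (s : S) (g : G), ((a s g : G) : Γ) = s * g * (s : Γ)⁻¹ := fun _ _ => rfl
  set K₀ := K.subgroupOf G with hK₀
  set L₀ := L.subgroupOf G with hL₀
  set C₀ := C.subgroupOf G with hC₀
  set H₀ := H.subgroupOf G with hH₀
  haveI hK₀n : K₀.Normal := ⟨fun k hk g => Subgroup.mem_subgroupOf.2 (by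
    simpa using hKn g g.2 _ (Subgroup.mem_subgroupOf.1 hk))⟩
  haveI hL₀n : L₀.Normal := ⟨fun k hk g => Subgroup.mem_subgroupOf.2 (by
    simpa using hLn g g.2 _ (Subgroup.mem_subgroupOf.1 hk))⟩
  have hmap : ∀ {A : Subgroup Γ}, A ≤ G → (A.subgroupOf G).map G.subtype = A := fun h => by
    rw [Subgroup.subgroupOf_map_subtype]; exact inf_eq_left.2 h
  have hinj := Subgroup.map_injective (f := G.subtype) G.subtype_injective
  have htop : K₀ ⊔ C₀ = ⊤ := hinj (by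
    rw [Subgroup.map_sup, hmap hKG, hmap hCG, hGKC, ← MonoidHom.range_eq_map, Subgroup.range_subtype])
  have hH₀e : L₀ ⊔ C₀ = H₀ := hinj (by
    rw [Subgroup.map_sup, hmap (hLK.trans hKG), hmap hCG, hmap hHG, hH])
  have hgen : ∀ g : G, ∃ k ∈ K₀, ∃ c ∈ C₀, g = k * c := fun g => by
    have h : g ∈ ((K₀ ⊔ C₀ : Subgroup G) : Set G) := by rw [htop]; trivial
    rw [Subgroup.normal_mul, Set.mem_mul] at h
    obtain ⟨k, hk, c, hc, e⟩ := h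
    exact ⟨k, hk, c, hc, e.symm⟩
  have hfixC : ∀ (s : S), ∀ c ∈ C₀, a s c = c := fun s c hc => Subtype.ext (by
    have h : (c : Γ) ∈ C := Subgroup.mem_subgroupOf.1 hc
    rw [hC] at h
    rw [ha, Subgroup.mem_centralizer_iff.1 h.2 s s.2, mul_inv_cancel_right])
  set L₁ := L₀ ⊔ (K₀ ⊓ C₀) with hL₁
  have hL₁K : L₁ ≤ K₀ := sup_le (fun x hx => Subgroup.mem_subgroupOf.2
    (hLK (Subgroup.mem_subgroupOf.1 hx))) inf_le_left
  have hL₀L₁ : L₀ ≤ L₁ := le_sup_left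
  have hL₁mem : ∀ x ∈ L₁, ∃ l ∈ L₀, ∃ m ∈ K₀ ⊓ C₀, x = l * m := fun x hx => by
    rw [← SetLike.mem_coe, hL₁, Subgroup.normal_mul, Set.mem_mul] at hx
    obtain ⟨l, hl, m, hm, e⟩ := hx
    exact ⟨l, hl, m, hm, e.symm⟩
  have habK : ∀ x ∈ K₀, ∀ y ∈ K₀, x * y * x⁻¹ * y⁻¹ ∈ L₁ := fun x hx y hy =>
    hL₀L₁ (Subgroup.mem_subgroupOf.2 (by
      simpa using hab _ (Subgroup.mem_subgroupOf.1 hx) _ (Subgroup.mem_subgroupOf.1 hy)))
  haveI hL₁n : L₁.Normal := ⟨fun x hx g => by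
    obtain ⟨k, hk, c, hc, rfl⟩ := hgen g
    obtain ⟨l, hl, m, hm, rfl⟩ := hL₁mem x hx
    have h1 : c * (l * m) * c⁻¹ ∈ L₁ := by
      rw [show c * (l * m) * c⁻¹ = (c * l * c⁻¹) * (c * m * c⁻¹) by group]
      exact Subgroup.mul_mem_sup (hL₀n.conj_mem l hl c)
        ⟨hK₀n.conj_mem m hm.1 c, C₀.mul_mem (C₀.mul_mem hc hm.2) (C₀.inv_mem hc)⟩
    have h2 := habK k hk _ (hL₁K h1)
    rw [show k * c * (l * m) * (k * c)⁻¹ = (k * (c * (l * m) * c⁻¹) * k⁻¹ *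
      (c * (l * m) * c⁻¹)⁻¹) * (c * (l * m) * c⁻¹) by group]
    exact L₁.mul_mem h2 h1⟩
  have hL₁S : ∀ (s : S), ∀ x ∈ L₁, a s x ∈ L₁ := fun s x hx => by
    obtain ⟨l, hl, m, hm, rfl⟩ := hL₁mem x hx
    rw [map_mul, hfixC s m hm.2]
    exact Subgroup.mul_mem_sup (Subgroup.mem_subgroupOf.2 (by
      rw [ha]; exact hLS s s.2 _ (Subgroup.mem_subgroupOf.1 hl))) hm
  have hS : CfsgLib.DegreeTools.OddSection.Sect a K₀ L₁ C₀ H₀ :=
    { hodd := hodd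
      hcop := hcop.symm
      le := hL₁K
      fixC := hfixC
      normK := hK₀n
      normL := hL₁n
      stK := fun s k hk => Subgroup.mem_subgroupOf.2 (by
        rw [ha]; exact hKS s s.2 _ (Subgroup.mem_subgroupOf.1 hk))
      stL := hL₁S
      hab := habK
      hfix := fun k hk hkL => by
        set N := L₁.map G.subtype with hN
        have hSN : S ≤ Subgroup.normalizer (N : Set Γ) := Subgroup.le_normalizer_iff.2 (by
          rintro s hs _ ⟨x, hx, rfl⟩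
          exact ⟨a ⟨s, hs⟩ x, hL₁S _ x hx, ha _ _⟩)
        have hNG : N ≤ G := Subgroup.map_subtype_le _
        obtain ⟨_, ⟨n, hn, rfl⟩, hnk⟩ := CfsgLib.Coprime.exists_mul_mem_centralizer hSN
          (hcop.symm.coprime_dvd_right (Subgroup.card_dvd_of_le hNG))
          (Or.inr (CfsgLib.Coprime.isSolvable_of_le hNG hGsolv)) (k := (k : Γ))
          fun s hs => ⟨_, hkL ⟨s, hs⟩, by simp [commutatorElement_def, ha]⟩
        have h1 : n * k ∈ K₀ ⊓ C₀ := by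
          refine ⟨K₀.mul_mem (hL₁K hn) hk, Subgroup.mem_subgroupOf.2 ?_⟩
          rw [hC]
          exact ⟨(n * k).2, hnk⟩
        have h2 := L₁.mul_mem (L₁.inv_mem hn) (Subgroup.mem_sup_right h1 : n * k ∈ L₁)
        rwa [inv_mul_cancel_left] at h2
      hgen := hgen
      memH := fun x => by
        constructor
        · intro hx
          rw [← hH₀e, ← SetLike.mem_coe, Subgroup.normal_mul, Set.mem_mul] at hx
          obtain ⟨l, hl, c, hc, e⟩ := hx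
          exact ⟨l, hL₀L₁ hl, c, hc, e.symm⟩
        · rintro ⟨l, hl, c, hc, rfl⟩
          rw [← hH₀e]
          exact mul_mem ((sup_le le_sup_left (inf_le_right.trans le_sup_right) : L₁ ≤ L₀ ⊔ C₀) hl)
            (Subgroup.mem_sup_right hc) }
  obtain ⟨h1, h2, h3⟩ := CfsgLib.DegreeTools.OddSection.sect_main hS
  set e := Subgroup.subgroupOfEquivOfLe hHG with he
  let tr : Cfsg.IrrCharacter H₀ → Cfsg.IrrCharacter H := fun ψ =>
    ⟨(ψ : H₀ → ℂ) ∘ e.symm, CfsgLib.Char.IsIrrCharacter.comp_equiv ψ.2 e.symm⟩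
  let tr' : Cfsg.IrrCharacter H → Cfsg.IrrCharacter H₀ := fun ψ =>
    ⟨(ψ : H → ℂ) ∘ e, CfsgLib.Char.IsIrrCharacter.comp_equiv ψ.2 e⟩
  have htr : ∀ ψ, tr (tr' ψ) = ψ := fun ψ => Subtype.ext (funext fun x => by simp [tr, tr'])
  have htr' : ∀ ψ, tr' (tr ψ) = ψ := fun ψ => Subtype.ext (funext fun x => by simp [tr, tr'])
  have hmult : ∀ (χ : Cfsg.IrrCharacter G) (ψ : Cfsg.IrrCharacter H),
      Cfsg.classInner (fun h : H => (χ : G → ℂ) ⟨h, hHG h.2⟩) (ψ : H → ℂ)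
        = Cfsg.classInner (fun h : H₀ => (χ : G → ℂ) h) (tr' ψ : H₀ → ℂ) := fun χ ψ =>
    (CfsgLib.Char.classInner_reindex e (fun h : H => (χ : G → ℂ) ⟨h, hHG h.2⟩) (ψ : H → ℂ)).symm
  have hχi : ∀ χ : Cfsg.IrrCharacter G, (∀ s ∈ S, ∀ g g' : G, (g' : Γ) = s * g * s⁻¹ →
      (χ : G → ℂ) g' = (χ : G → ℂ) g) ↔ ∀ (s : S) (g : G), (χ : G → ℂ) (a s g) = (χ : G → ℂ) g :=
    fun χ => ⟨fun h s g => h s s.2 g _ (ha s g), fun h s hs g g' e => by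
      rw [show g' = a ⟨s, hs⟩ g from Subtype.ext e, h]⟩
  have hψi : ∀ ψ : Cfsg.IrrCharacter H, (∀ s ∈ S, ∀ g g' : H, (g' : Γ) = s * g * s⁻¹ →
      (ψ : H → ℂ) g' = (ψ : H → ℂ) g) ↔
        CfsgLib.DegreeTools.OddSection.Inv a H₀ (tr' ψ : H₀ → ℂ) :=
    fun ψ => ⟨fun h s x y hxy => h s s.2 (e x) (e y) (congrArg Subtype.val hxy),
      fun h s hs g g' hg => by
        have := h ⟨s, hs⟩ (e.symm g) (e.symm g') (Subtype.ext hg)
        simpa [tr'] using this⟩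
  refine ⟨fun χ hχ => ?_, fun χ χ' hχ hχ' ψ hψ m m' hm hmo hm' hmo' => ?_, fun ψ hψ => ?_⟩
  · obtain ⟨ψ, ⟨hI, k, hk, hko⟩, hu⟩ := h1 χ ((hχi χ).1 hχ)
    refine ⟨tr ψ, ⟨(hψi _).2 (by rw [htr']; exact hI), k,
      by rw [hmult, htr']; exact hk, hko⟩, ?_⟩
    rintro ψ' ⟨hI', k', hk', hko'⟩
    rw [hmult] at hk'
    rw [← hu (tr' ψ') ⟨(hψi _).1 hI', k', hk', hko'⟩, htr]
  · exact h2 χ χ' ((hχi χ).1 hχ) ((hχi χ').1 hχ') (tr' ψ) ((hψi ψ).1 hψ)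
      ⟨m, by rw [← hmult]; exact hm, hmo⟩ ⟨m', by rw [← hmult]; exact hm', hmo'⟩
  · obtain ⟨χ, hχ, k, hk, hko⟩ := h3 (tr' ψ) ((hψi ψ).1 hψ)
    exact ⟨χ, (hχi χ).2 hχ, k, by rw [hmult]; exact hk, hko⟩

end Cfsg.Agent.S4453
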