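import Cfsg.Statements.S4455
import Cfsg.Agent.Lib.CharDeep.Thompson

set_option autoImplicit false
open Cfsg
open CfsgLib

namespace Cfsg.Agent.S4455

/-- Fix a prime p and a finite group G. Let s be the sum of χ(1)² over the irreducible characters χ of G whose degree is not divisible by p and whose determinantal order o(χ) is not divisible by p. Then the order of O^p(G), the subgroup generated by the elements of order prime to p, is congruent to s modulo p. -/
theorem result {G : Type*} [Group G] [Finite G] (p : ℕ) (hp : p.Prime) : (Nat.card (Cfsg.pResidual p G) : ℤ) ≡ (∑ᶠ χ ∈ {χ : Cfsg.IrrCharacter G | ¬ p ∣ Cfsg.charDegree (χ : G → ℂ) ∧ ¬ p ∣ Cfsg.detOrder (χ : G → ℂ)}, (Cfsg.charDegree (χ : G → ℂ) : ℤ) ^ 2) [ZMOD p] := by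
  classical
  have : Fact p.Prime := ⟨hp⟩
  have := Fintype.ofFinite G
  refine (Int.modEq_iff_dvd.2 ?_).symm
  rw [← finsum_set_coe_eq_finsum_mem, finsum_eq_sum_of_fintype]
  convert CfsgLib.CharDeep.Thompson.card_pResidual_congr (G := G) p using 2
  exact Finset.sum_bij (fun χ _ => ⟨χ.1, χ.2⟩) (fun _ _ => Finset.mem_univ _)
    (fun a _ b _ h => Subtype.ext (congrArg (·.1) h))
    (fun χ _ => ⟨⟨χ.1, χ.2⟩, Finset.mem_univ _, rfl⟩) fun _ _ => rfl

end Cfsg.Agent.S4455
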