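import Cfsg.Statements.S4464
import Cfsg.Agent.Lib.CharDeep.SmallDegrees.Main
-- import your own Cfsg.Agent.* helpers here

set_option autoImplicit false
open Cfsg CfsgLib

namespace Cfsg.Agent.S4464

/-- Let p be a prime and G a finite group all of whose irreducible character degrees are less than p. Then G has a normal abelian Sylow p-subgroup. -/
theorem result {G : Type*} [Group G] [Finite G] (p : ℕ) (hp : p.Prime) (hb : ∀ χ : Cfsg.IrrCharacter G, Cfsg.charDegree (χ : G → ℂ) < p) : ∃ P : Subgroup G, P.Normal ∧ (∀ x ∈ P, ∀ y ∈ P, x * y = y * x) ∧ IsPGroup p P ∧ ¬ p ∣ P.index := by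
  classical
  have : Fact p.Prime := ⟨hp⟩
  let P : Sylow p G := default
  have hn : (P : Subgroup G).Normal := CfsgLib.CharDeep.SmallDegrees.normal_of_deg_lt _ rfl hb P
  have hab := CfsgLib.CharDeep.ItoMichler.comm_of_normal P fun χ hd =>
    absurd (Nat.le_of_dvd (CfsgLib.DegreeTools.deg_pos χ) hd) (not_le.2 (hb χ))
  exact ⟨P, hn, fun x hx y hy => congrArg Subtype.val (hab ⟨x, hx⟩ ⟨y, hy⟩), P.2, P.not_dvd_index⟩

end Cfsg.Agent.S4464
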