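import Cfsg.Statements.S4465
import Cfsg.Agent.Lib.CharDeep.Blichfeldt

set_option autoImplicit false
open Cfsg
open CfsgLib.CharDeep

namespace Cfsg.Agent.S4465

set_option maxHeartbeats 1000000 in
/-- Let the finite group G have a faithful character χ of degree n (G is a linear group of degree n), and let π be the set of primes greater than n + 1. Then G has an abelian Hall π-subgroup: an abelian subgroup A whose order is divisible only by primes greater than n + 1 and whose index is divisible by no prime greater than n + 1. -/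
theorem result {G : Type*} [Group G] [Finite G] (χ : G → ℂ) (hχ : Cfsg.IsCharacter G χ) (hfaith : ∀ g : G, χ g = χ 1 → g = 1) (n : ℕ) (hn : Cfsg.charDegree χ = n) : ∃ A : Subgroup G, (∀ x ∈ A, ∀ y ∈ A, x * y = y * x) ∧ (∀ q : ℕ, q.Prime → q ∣ Nat.card A → n + 1 < q) ∧ ∀ q : ℕ, q.Prime → q ∣ A.index → q ≤ n + 1 := by
  classical
  cases nonempty_fintype G
  obtain ⟨m, ρ, rfl⟩ := hχ
  have hm : m = n := by
    rw [← hn, Cfsg.charDegree, Representation.char_one, Module.finrank_fin_fun, Complex.natCast_re,
      Nat.floor_natCast]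
  subst hm
  obtain ⟨W, σ, hU, hdim, hker⟩ := SmallCommute.exists_unitary ρ
  have hinj : Function.Injective σ := fun a b e => by
    have h1 : σ (a⁻¹ * b) = 1 := by rw [map_mul, ← e, ← map_mul, inv_mul_cancel, map_one]
    have h2 : a⁻¹ * b = 1 := hfaith _ (by
      show LinearMap.trace ℂ _ (ρ (a⁻¹ * b)) = LinearMap.trace ℂ _ (ρ 1)
      rw [hker _ h1, map_one ρ])
    exact inv_mul_eq_one.1 h2
  rw [← hdim]
  exact Blichfeldt.exists_abHall (V := W) σ hU hinj

end Cfsg.Agent.S4465
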