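import Cfsg.Statements.S4467
import Cfsg.Agent.Lib.Solvable.Basic
import Cfsg.Agent.Lib.CharDeep.Clifford
import Cfsg.Agent.Lib.CharDeep.CentralTrick
import Cfsg.Agent.Lib.Char.Clifford
import Cfsg.Agent.Lib.Char.Constituent
import Cfsg.Agent.Lib.Char.Integral
import Cfsg.Agent.Lib.Char.Quotient
import Cfsg.Agent.Lib.Char.Linear
import Mathlib.GroupTheory.Perm.Cycle.Type

set_option autoImplicit false
open Cfsg

namespace Cfsg.Agent.S4467

open CfsgLib

universe u

/-- The conclusion of the statement. -/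
def Good (p n : ℕ) : Prop :=
  ∃ q : ℕ, IsPrimePow q ∧ q ∣ n ∧
    ((q : ℤ) ≡ -1 [ZMOD p] ∨ (q : ℤ) ≡ 0 [ZMOD p] ∨ (q : ℤ) ≡ 1 [ZMOD p])

lemma good_of_dvd {p d n : ℕ} (h : d ∣ n) : Good p d → Good p n :=
  fun ⟨q, h1, h2, h3⟩ => ⟨q, h1, h2.trans h, h3⟩

lemma good_self {p n : ℕ} (hp : p.Prime) (h : p ∣ n) : Good p n :=
  ⟨p, hp.isPrimePow, h, Or.inr (Or.inl (Int.modEq_zero_iff_dvd.2 dvd_rfl))⟩

/-- A `p`-element fixes `|V|` elements of `V` modulo `p`. -/
lemma count {G : Type u} [Group G] [Finite G] {p : ℕ} [hp : Fact p.Prime] (V : Subgroup G)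
    [hV : V.Normal] {x : G} {j : ℕ} (hx : x ^ p ^ j = 1) :
    Nat.card V ≡ Nat.card ↥(V ⊓ Subgroup.centralizer {x}) [MOD p] := by
  classical
  haveI := Fintype.ofFinite G
  let σ : Function.End V := fun v => (MulAut.conjNormal x : MulAut V) v
  have hpow : ∀ (k : ℕ) (v : V), (σ ^ k) v = (MulAut.conjNormal (x ^ k) : MulAut V) v := by
    intro k
    induction k with
    | zero => intro v; simp; rfl
    | succ k ih =>
      intro v
      rw [pow_succ', pow_succ', map_mul, MulAut.mul_apply]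
      show σ ((σ ^ k) v) = _
      rw [ih]
  have hσ : σ ^ p ^ j = 1 := funext fun v => by
    rw [hpow, hx, map_one]
    rfl
  have h := Equiv.Perm.card_fixedPoints_modEq hσ
  rw [← Nat.card_eq_fintype_card, ← Nat.card_eq_fintype_card] at h
  refine h.trans (congrArg (· % p) (Nat.card_congr ?_))
  refine
    { toFun := fun v => ⟨(v.1 : G), v.1.2, Subgroup.mem_centralizer_singleton_iff.2 ?_⟩
      invFun := fun v => ⟨⟨(v : G), v.2.1⟩, Subtype.ext ?_⟩
      left_inv := fun v => rfl
      right_inv := fun v => rfl }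
  · have h1 := congrArg Subtype.val v.2
    simp only [σ, MulAut.conjNormal_apply] at h1
    exact (mul_inv_eq_iff_eq_mul.1 h1).symm
  · show x * (v : G) * x⁻¹ = v
    rw [← Subgroup.mem_centralizer_singleton_iff.1 v.2.2, mul_inv_cancel_right]

lemma pow_sub_modEq_one {p r a c : ℕ} (hp : p.Prime) (hr : r.Prime) (hne : r ≠ p) (hca : c < a)
    (h : r ^ a ≡ r ^ c [MOD p]) : r ^ (a - c) ≡ 1 [MOD p] := by
  have hcop : Nat.gcd p (r ^ c) = 1 :=
    (Nat.Coprime.pow_right c ((Nat.coprime_primes hp hr).2 hne.symm))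
  refine Nat.ModEq.cancel_left_of_coprime (c := r ^ c) hcop ?_
  rw [← pow_add, mul_one, Nat.add_sub_cancel' hca.le]
  exact h

/-- A maximal subgroup of a solvable group generated by the conjugates of a `p`-subgroup has good
index. -/
lemma good_index {G : Type u} [Group G] [Finite G] [hG : Group.IsSolvable G] {p : ℕ}
    [hp : Fact p.Prime] (P : Subgroup G) (hP : IsPGroup p P)
    (hgen : Subgroup.normalClosure (P : Set G) = ⊤) {H : Subgroup G} (hH : IsCoatom H) :
    Good p H.index := by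
  classical
  set C := H.normalCore with hC
  set π := QuotientGroup.mk' C with hπ
  have hsur := QuotientGroup.mk'_surjective C
  set Hb := H.map π with hHb
  have hker : π.ker ≤ H := by rw [hπ, QuotientGroup.ker_mk']; exact Subgroup.normalCore_le H
  have hcomap : Hb.comap π = H := Subgroup.comap_map_eq_self hker
  have hidx : Hb.index = H.index := by
    have := Subgroup.index_comap_of_surjective Hb hsur
    rw [hcomap] at this
    exact this.symm
  have hHb_top : Hb ≠ ⊤ := fun e => hH.1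
    (hcomap.symm.trans ((congrArg (Subgroup.comap π) e).trans (Subgroup.comap_top _)))
  have hmax : ∀ K, Hb ≤ K → K = Hb ∨ K = ⊤ := by
    intro K hK
    by_cases h : K = Hb
    · exact Or.inl h
    refine Or.inr ?_
    have h1 : H < K.comap π := lt_of_le_of_ne (hcomap.ge.trans (Subgroup.comap_mono hK)) fun e => h
      ((Subgroup.map_comap_eq_self_of_surjective hsur K).symm.trans
        (congrArg (Subgroup.map π) e.symm))
    rw [← Subgroup.map_comap_eq_self_of_surjective hsur K, hH.2 _ h1,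
      Subgroup.map_top_of_surjective _ hsur]
  haveI : Nontrivial (G ⧸ C) := QuotientGroup.nontrivial_iff.2 fun e => hH.1
    (top_le_iff.1 (e ▸ Subgroup.normalCore_le H))
  haveI : Group.IsSolvable (G ⧸ C) := Group.isSolvable_of_surjective hsur
  obtain ⟨V, r, hr, hVn, hV1, -, hVc, hVr, -⟩ := Solvable.Basic.exists_minimal_normal_pgroup
    (G := G ⧸ C) (H := ⊤) top_ne_bot
  haveI := hVn
  haveI : Fact r.Prime := ⟨hr⟩
  have hcore : ∀ K : Subgroup (G ⧸ C), K.Normal → K ≤ Hb → K = ⊥ := by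
    intro K hK hKH
    have h1 : K.comap π ≤ C := by
      haveI := Subgroup.Normal.comap hK π
      exact Subgroup.normal_le_normalCore.2 ((Subgroup.comap_mono hKH).trans hcomap.le)
    rw [← Subgroup.map_comap_eq_self_of_surjective hsur K, eq_bot_iff]
    exact (Subgroup.map_mono h1).trans (by rw [QuotientGroup.map_mk'_self])
  have hVH : ¬ V ≤ Hb := fun h => hV1 (hcore V hVn h)
  have hsup : Hb ⊔ V = ⊤ := (hmax _ le_sup_left).resolve_left fun e => hVH (e ▸ le_sup_right)
  have hVcomm := Solvable.Basic.isMulCommutative_subgroup_iff.1 hVc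
  have hinf : Hb ⊓ V = ⊥ := by
    refine hcore _ ⟨fun n hn g => ?_⟩ inf_le_left
    have hg : g ∈ Hb ⊔ V := hsup ▸ Subgroup.mem_top g
    rw [← SetLike.mem_coe, Subgroup.mul_normal] at hg
    obtain ⟨a, ha, v, hv, rfl⟩ := Set.mem_mul.1 hg
    have e : a * v * n * (a * v)⁻¹ = a * n * a⁻¹ := by
      calc a * v * n * (a * v)⁻¹ = a * (v * n * v⁻¹) * a⁻¹ := by group
        _ = a * n * a⁻¹ := by rw [hVcomm v hv n hn.2, mul_inv_cancel_right]
    rw [e]
    exact Subgroup.mem_inf.2 ⟨mul_mem (mul_mem ha hn.1) (inv_mem ha), hVn.conj_mem n hn.2 a⟩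
  obtain ⟨a, ha⟩ := IsPGroup.iff_card.1 hVr
  have hcard : Hb.index = r ^ a := by
    rw [← ha]
    refine (Subgroup.isComplement'_of_disjoint_and_mul_eq_univ
      (disjoint_iff.2 (inf_comm V Hb ▸ hinf)) ?_).index_eq_card
    rw [← Subgroup.normal_mul, sup_comm, hsup, Subgroup.coe_top]
  have ha0 : a ≠ 0 := fun e => hV1 (Subgroup.card_eq_one.1 (by rw [ha, e, pow_zero]))
  rw [← hidx, hcard]
  by_cases hrp : r = p
  · subst hrp
    exact good_self hr (dvd_pow_self r ha0)
  obtain ⟨x, hxP, hxV⟩ : ∃ x ∈ P, ¬ V ≤ Subgroup.centralizer {π x} := by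
    by_contra! hall
    have h1 : (Subgroup.centralizer (V : Set (G ⧸ C))).comap π = ⊤ := by
      haveI : (Subgroup.centralizer (V : Set (G ⧸ C))).Normal := Subgroup.normal_centralizer
      refine top_le_iff.1 (hgen ▸ Subgroup.normalClosure_le_normal fun x hx => ?_)
      exact Subgroup.mem_centralizer_iff.2 fun v hv =>
        (Subgroup.mem_centralizer_singleton_iff.1 (hall x hx hv))
    have hn : Hb.Normal := by
      refine ⟨fun n hn g => ?_⟩
      have hg : g ∈ Hb ⊔ V := hsup ▸ Subgroup.mem_top g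
      rw [← SetLike.mem_coe, Subgroup.mul_normal] at hg
      obtain ⟨a, ha, v, hv, rfl⟩ := Set.mem_mul.1 hg
      obtain ⟨n', rfl⟩ := hsur n
      have hc : π n' ∈ Subgroup.centralizer (V : Set (G ⧸ C)) :=
        Subgroup.mem_comap.1 (h1 ▸ Subgroup.mem_top n')
      have e : a * v * π n' * (a * v)⁻¹ = a * π n' * a⁻¹ := by
        calc a * v * π n' * (a * v)⁻¹ = a * (v * π n' * v⁻¹) * a⁻¹ := by group
          _ = a * π n' * a⁻¹ := by
            rw [Subgroup.mem_centralizer_iff.1 hc v hv, mul_inv_cancel_right]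
      rw [e]
      exact mul_mem (mul_mem ha hn) (inv_mem ha)
    have hbot := hcore Hb hn le_rfl
    rw [hbot, bot_sup_eq] at hsup
    have hPbot : P.map π = ⊥ := by
      refine Subgroup.card_eq_one.1 ?_
      obtain ⟨k, hk⟩ := IsPGroup.iff_card.1 (hP.map π)
      have hle : Nat.card (P.map π) ∣ r ^ a := ha ▸ Subgroup.card_dvd_of_le (hsup.symm ▸ le_top)
      exact Nat.eq_one_of_dvd_coprimes (((Nat.coprime_primes hp.out hr).2 (Ne.symm hrp)).pow k a)
        (hk ▸ dvd_rfl) hle
    have : (⊤ : Subgroup (G ⧸ C)) = ⊥ := by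
      rw [← Subgroup.map_top_of_surjective π hsur, ← hgen,
        Subgroup.map_normalClosure _ π hsur, eq_bot_iff]
      refine Subgroup.normalClosure_le_normal ?_
      rintro _ ⟨y, hy, rfl⟩
      exact hPbot.le ⟨y, hy, rfl⟩
    exact top_ne_bot this
  obtain ⟨j, hj⟩ := hP ⟨x, hxP⟩
  have hxj : (π x) ^ p ^ j = 1 := by
    rw [← map_pow, show x ^ p ^ j = 1 by simpa using congrArg Subtype.val hj, map_one]
  have hcnt := count V hxj
  obtain ⟨c, hc⟩ := IsPGroup.iff_card.1
    (hVr.to_le (inf_le_left : V ⊓ Subgroup.centralizer {π x} ≤ V))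
  have hca : c < a := by
    refine (Nat.pow_lt_pow_iff_right hr.one_lt).1 ?_
    rw [← hc, ← ha]
    refine lt_of_le_of_ne (Subgroup.card_le_of_le inf_le_left) fun e => hxV ?_
    exact (Subgroup.eq_of_le_of_card_ge inf_le_left e.ge).ge.trans inf_le_right
  rw [ha, hc] at hcnt
  refine ⟨r ^ (a - c), hr.isPrimePow.pow (Nat.sub_ne_zero_of_lt hca),
    pow_dvd_pow r (Nat.sub_le a c), Or.inr (Or.inr ?_)⟩
  simpa using Int.natCast_modEq_iff.2 (pow_sub_modEq_one hp.out hr hrp hca hcnt)

/-- An irreducible faithful character of a group of class at most two is fully ramified over the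
centre. -/
lemma ramified {W : Type u} [Group W] [Finite W] {φ : W → ℂ} (hφ : Cfsg.IsIrrCharacter W φ)
    (hfaith : ∀ w, φ w = φ 1 → w = 1)
    (hcl : ∀ a b : W, a * b * a⁻¹ * b⁻¹ ∈ Subgroup.center W) {d : ℕ} (hd : φ 1 = d) :
    d * d = (Subgroup.center W).index := by
  classical
  haveI := Fintype.ofFinite W
  set Z := Subgroup.center W with hZdef
  have hne : ∀ w : W, φ w * (starRingEnd ℂ) (φ w) = if w ∈ Z then (d : ℂ) * d else 0 := by
    intro w
    split_ifs with hw
    · obtain ⟨c, hc, -⟩ := CharDeep.CentralTrick.exists_scalar_center hφ hw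
      have h1 : φ w = c * φ 1 := by simpa using hc 1
      have h2 : φ 1 = c * φ w⁻¹ := by simpa using hc w⁻¹
      rw [← Char.IsIrrCharacter.apply_inv hφ w]
      calc φ w * φ w⁻¹ = φ 1 * (c * φ w⁻¹) := by rw [h1]; ring
        _ = (d : ℂ) * d := by rw [← h2, hd]
    · rw [hZdef, Subgroup.mem_center_iff] at hw
      push Not at hw
      obtain ⟨y, hy⟩ := hw
      have hz : w⁻¹ * y * w * y⁻¹ ∈ Z := by
        have := hcl w⁻¹ y
        rwa [inv_inv] at this
      obtain ⟨c, hc, hc1⟩ := CharDeep.CentralTrick.exists_scalar_center hφ hz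
      have hcne : c ≠ 1 := fun e => hy (by
        have h3 : w⁻¹ * y * w * y⁻¹ = 1 := hfaith _ (hc1 e)
        calc y * w = w * (w⁻¹ * y * w * y⁻¹) * y := by group
          _ = w * y := by rw [h3, mul_one])
      rw [CharDeep.CentralTrick.eq_zero_of_conj_translate (x := w) (y := y)
        (z := w⁻¹ * y * w * y⁻¹) (Char.IsIrrCharacter.isClassFunction hφ) (by group)
        (hc w) hcne, zero_mul]
  have h := Char.classInner_irr_self hφ
  rw [Cfsg.classInner, inv_mul_eq_iff_eq_mul₀ Char.card_ne_zero, mul_one] at h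
  simp only [hne] at h
  rw [← Finset.sum_filter, Finset.sum_const, nsmul_eq_mul] at h
  have hcard : (Finset.univ.filter fun w : W => w ∈ Z).card = Nat.card Z := by
    rw [Nat.card_eq_fintype_card, Fintype.card_subtype]
  rw [hcard, ← Z.card_mul_index, Nat.cast_mul] at h
  exact_mod_cast mul_left_cancel₀ Char.card_ne_zero h

/-- The degree of a constituent of a normal restriction divides the degree. -/
lemma dvd_constituent {G : Type u} [Group G] [Fintype G] {χ : G → ℂ}
    (hχ : Cfsg.IsIrrCharacter G χ) {n : ℕ} (hn : χ 1 = n) (M : Subgroup G) [M.Normal] [Fintype M]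
    (φ : Cfsg.IrrCharacter M) (h : Cfsg.classInner (fun k : M => χ k) (φ : M → ℂ) ≠ 0) :
    ∃ d t : ℕ, (φ : M → ℂ) 1 = d ∧ t = (Char.stab (φ : M → ℂ)).index ∧ d ∣ n ∧ t ∣ n := by
  obtain ⟨d, -, hd⟩ := Char.IsIrrCharacter.apply_one_eq φ.2
  obtain ⟨e, he⟩ := Char.IsCharacter.classInner_nat
    (Char.IsCharacter.restrict (Char.IsIrrCharacter.isCharacter hχ) M) (Char.isCharacter_irr φ)
  have h1 := CharDeep.Clifford.apply_one_eq hχ φ.2 h (Char.stab (φ : M → ℂ))
    (fun g => by rw [Char.mem_stab, funext_iff]; simp only [Char.conjG_apply])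
  rw [hn, he, hd] at h1
  have h2 : n = (Char.stab (φ : M → ℂ)).index * e * d := by exact_mod_cast h1
  exact ⟨d, _, hd, rfl, ⟨_, h2.trans (mul_comm _ _)⟩, ⟨e * d, by rw [h2, mul_assoc]⟩⟩

/-- The induction. -/
lemma main (N : ℕ) : ∀ (G : Type u) [Group G] [Finite G], Nat.card G = N → Group.IsSolvable G →
    ∀ (χ : G → ℂ), Cfsg.IsIrrCharacter G χ → (∀ g, χ g = χ 1 → g = 1) → ∀ n : ℕ, χ 1 = n →
    ∀ (p : ℕ) [Fact p.Prime] (P : Sylow p G), ¬ (P : Subgroup G).Normal → Good p n := by
  induction N using Nat.strong_induction_on with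
  | _ N ih =>
  intro G _ _ hN hsolv χ hχ hfaith n hn p hp P hP
  classical
  haveI := Fintype.ofFinite G
  haveI := hsolv
  by_contra hbad
  have hχc := Char.IsIrrCharacter.isCharacter hχ
  -- the conjugates of `P` generate `G`
  have hgen : Subgroup.normalClosure ((P : Subgroup G) : Set G) = ⊤ := by
    by_contra hM
    set M := Subgroup.normalClosure ((P : Subgroup G) : Set G) with hMdef
    haveI : Fintype M := Fintype.ofFinite M
    have hPM : (P : Subgroup G) ≤ M := Subgroup.le_normalClosure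
    set Q : Sylow p M := P.subtype hPM with hQ
    refine hP ?_
    have hQn : (Q : Subgroup M).Normal := by
      set U := Subgroup.normalClosure ((Q : Subgroup M) : Set M) with hU
      have hUp : IsPGroup p U := by
        obtain ⟨a, ha⟩ := IsPGroup.iff_card.1 Q.2
        intro u
        refine ⟨a, Subtype.ext ?_⟩
        obtain ⟨m, hm, hexp⟩ := Char.IsCharacter.exists_multiplicity
          (Char.IsCharacter.restrict hχc M)
        set v : M := (u : M) ^ p ^ a with hv
        suffices (v : G) = 1 by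
          show v = 1
          exact Subtype.ext this
        refine hfaith _ ?_
        show χ (v : G) = χ ((1 : M) : G)
        rw [hexp v, hexp 1]
        refine Finset.sum_congr rfl fun φ _ => ?_
        by_cases h0 : m φ = 0
        · simp [h0]
        congr 1
        obtain ⟨d, t, hd, -, hdn, -⟩ := dvd_constituent hχ hn M φ
          (by rw [hm]; exact_mod_cast h0)
        have hφc := Char.isCharacter_irr φ
        haveI := Char.charKer_normal hφc
        set K := Char.charKer hφc
        obtain ⟨θ, hθ, hθe⟩ := Char.IsIrrCharacter.exists_deflate φ.2 K fun k hk => hk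
        set π := QuotientGroup.mk' K with hπ
        set Qb : Sylow p (M ⧸ K) := Q.mapSurjective (QuotientGroup.mk'_surjective K) with hQb
        have hsK : Group.IsSolvable (M ⧸ K) :=
          Group.isSolvable_of_surjective (QuotientGroup.mk'_surjective K)
        have hθ1 : θ 1 = d := by
          have := congrFun hθe 1
          rw [Function.comp_apply, map_one, hd] at this
          exact this.symm
        have hθf : ∀ y, θ y = θ 1 → y = 1 := by
          intro y hy
          obtain ⟨y', rfl⟩ := QuotientGroup.mk'_surjective K y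
          refine (QuotientGroup.eq_one_iff y').2 ?_
          show (φ : M → ℂ) y' = (φ : M → ℂ) 1
          rw [hθe, Function.comp_apply, Function.comp_apply, map_one]
          exact hy
        have hQbn : (Qb : Subgroup (M ⧸ K)).Normal := by
          by_contra hnn
          refine hbad (good_of_dvd hdn (ih _ ?_ (M ⧸ K) rfl hsK θ hθ hθf d hθ1 p Qb hnn))
          rw [← hN]
          exact lt_of_le_of_lt (Nat.le_of_dvd Nat.card_pos (Subgroup.card_quotient_dvd_card K))
            (Solvable.Basic.card_subgroup_lt M hM)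
        have hmem : π (u : M) ∈ (Qb : Subgroup (M ⧸ K)) := by
          have hle : U ≤ (Qb : Subgroup (M ⧸ K)).comap π := by
            haveI := hQbn
            haveI : ((Qb : Subgroup (M ⧸ K)).comap π).Normal := hQbn.comap π
            exact Subgroup.normalClosure_le_normal fun y hy => ⟨y, hy, rfl⟩
          exact hle u.2
        obtain ⟨y, hy, hye⟩ := (hmem : π (u : M) ∈ (Q : Subgroup M).map π)
        have hy1 : y ^ p ^ a = 1 := by
          have h := pow_card_eq_one' (G := (Q : Subgroup M)) (x := ⟨y, hy⟩)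
          rw [ha] at h
          simpa using congrArg Subtype.val h
        have hv1 : π v = π 1 := by rw [hv, map_pow, ← hye, ← map_pow, hy1]
        rw [hθe, Function.comp_apply, Function.comp_apply]
        exact congrArg θ hv1
      have hUQ : U = (Q : Subgroup M) := Q.3 hUp Subgroup.le_normalClosure
      exact hUQ ▸ Subgroup.normalClosure_normal
    haveI := hQn
    refine ⟨fun y hy g => ?_⟩
    have hyM : g * y * g⁻¹ ∈ M := Subgroup.normalClosure_normal.conj_mem y (hPM hy) g
    obtain ⟨j, hj⟩ := P.2 ⟨y, hy⟩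
    have hj' : y ^ p ^ j = 1 := by simpa using congrArg Subtype.val hj
    have hz : IsPGroup p (Subgroup.zpowers (⟨g * y * g⁻¹, hyM⟩ : M)) := by
      refine (IsPGroup.of_card (n := (orderOf (⟨g * y * g⁻¹, hyM⟩ : M)).factorization p) ?_)
      rw [Nat.card_zpowers]
      have hdvd : orderOf (⟨g * y * g⁻¹, hyM⟩ : M) ∣ p ^ j := orderOf_dvd_of_pow_eq_one
        (Subtype.ext (by simp [conj_pow, hj']))
      obtain ⟨i, -, hi⟩ := (Nat.dvd_prime_pow hp.out).1 hdvd
      rw [hi, hp.out.factorization_pow, Finsupp.single_eq_same]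
    exact (Q.3 (hz.to_sup_of_normal_right Q.2) le_sup_right).le
      (Subgroup.mem_sup_left (Subgroup.mem_zpowers _))
  -- constituents of normal restrictions are invariant
  have hinv : ∀ (M : Subgroup G) [M.Normal] [Fintype M] (φ : Cfsg.IrrCharacter M),
      Cfsg.classInner (fun k : M => χ k) (φ : M → ℂ) ≠ 0 →
      ∀ (g : G), Char.conjG (φ : M → ℂ) g = (φ : M → ℂ) := by
    intro M _ _ φ hne g
    by_contra hg
    obtain ⟨d, t, -, ht, -, htn⟩ := dvd_constituent hχ hn M φ hne
    have hT : Char.stab (φ : M → ℂ) ≠ ⊤ := fun e =>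
      hg (Char.mem_stab.1 (e ▸ Subgroup.mem_top g))
    obtain ⟨H, hH, hTH⟩ := (eq_top_or_exists_le_coatom (Char.stab (φ : M → ℂ))).resolve_left hT
    refine hbad (good_of_dvd ?_ (good_index (P : Subgroup G) P.2 hgen hH))
    exact ((Subgroup.index_dvd_of_le hTH).trans (ht ▸ dvd_rfl)).trans htn
  have hconst : ∀ (M : Subgroup G) [M.Normal] [Fintype M],
      ∃ φ : Cfsg.IrrCharacter M, Cfsg.classInner (fun k : M => χ k) (φ : M → ℂ) ≠ 0 := by
    intro M _ _
    obtain ⟨ψ, hψ, hψ0⟩ := Char.IsCharacter.exists_constituent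
      (Char.IsCharacter.restrict hχc M) (fun e => by
        have h1 := congrFun e 1
        exact Char.IsIrrCharacter.apply_one_ne_zero hχ h1)
    exact ⟨⟨ψ, hψ⟩, hψ0⟩
  -- normal abelian subgroups are central
  have hab : ∀ A : Subgroup G, A.Normal → (∀ a ∈ A, ∀ b ∈ A, a * b = b * a) →
      A ≤ Subgroup.center G := by
    intro A hA hcomm a ha
    haveI := hA
    haveI : Fintype A := Fintype.ofFinite A
    obtain ⟨φ, hφ⟩ := hconst A
    obtain ⟨e, -, -, he⟩ := CharDeep.Clifford.restrict_eq_smul A hχ φ.2 hφ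
      (fun g k => congrFun (hinv A φ hφ g) k)
    obtain ⟨f, hf⟩ := Char.exists_hom_of_apply_one_eq_one (Char.isCharacter_irr φ)
      (Char.apply_one_eq_one_of_comm (fun u v => Subtype.ext (hcomm u u.2 v v.2)) φ.2)
    rw [Subgroup.mem_center_iff]
    intro g
    have hga : g * a * g⁻¹ ∈ A := hA.conj_mem a ha g
    set w : A := ⟨g * a * g⁻¹, hga⟩ * ⟨a, ha⟩⁻¹ with hw
    have hfw : f w = 1 := by
      rw [hw, map_mul, map_inv, mul_inv_eq_one]
      refine Units.ext ?_
      have h := congrFun (hinv A φ hφ g) ⟨a, ha⟩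
      rw [Char.conjG_apply, hf] at h
      exact h
    have h1 : χ (w : G) = χ ((1 : A) : G) := by
      have e1 := congrFun he w
      have e2 := congrFun he 1
      simp only [Pi.smul_apply, smul_eq_mul] at e1 e2
      rw [e1, e2, hf]
      simp only [hfw, map_one]
    have h3 : g * a * g⁻¹ * a⁻¹ = 1 := hfaith _ h1
    exact mul_inv_eq_iff_eq_mul.1 (mul_inv_eq_one.1 h3)
  -- normal `p`-subgroups are abelian
  have hpab : ∀ A : Subgroup G, A.Normal → IsPGroup p A → ∀ a ∈ A, ∀ b ∈ A, a * b = b * a := by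
    intro A hA hAp a ha b hb
    haveI := hA
    haveI : Fintype A := Fintype.ofFinite A
    have hlin : ∀ φ, Cfsg.IsIrrCharacter A φ →
        Cfsg.classInner (fun k : A => χ k) φ ≠ 0 → φ 1 = 1 := by
      intro φ hφ h0
      obtain ⟨d, t, hd, -, hdn, -⟩ := dvd_constituent hχ hn A ⟨φ, hφ⟩ h0
      obtain ⟨c, hc, hdvd⟩ := Char.IsIrrCharacter.apply_one_dvd_card hφ
      have hcd : c = d := by rw [show φ 1 = (d : ℂ) from hd] at hc; exact_mod_cast hc.symm
      rw [hcd] at hdvd
      obtain ⟨k, hk⟩ := IsPGroup.iff_card.1 hAp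
      obtain ⟨i, -, hi⟩ := (Nat.dvd_prime_pow hp.out).1 (hk ▸ hdvd)
      by_cases hi0 : i = 0
      · rw [show φ 1 = (d : ℂ) from hd, hi, hi0, pow_zero, Nat.cast_one]
      · exact absurd (good_self hp.out (((dvd_pow_self p hi0).trans hi.symm.dvd).trans hdn)) hbad
    have h := Char.IsCharacter.apply_commutator (Char.IsCharacter.restrict hχc A) hlin
      ⟨a, ha⟩ ⟨b, hb⟩
    exact mul_inv_eq_iff_eq_mul.1 (mul_inv_eq_one.1 (hfaith _ h))
  -- a minimal normal subgroup over the centre
  set Z := Subgroup.center G with hZ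
  set πZ := QuotientGroup.mk' Z with hπZ
  have hπsur := QuotientGroup.mk'_surjective Z
  haveI : Nontrivial (G ⧸ Z) := QuotientGroup.nontrivial_iff.2 fun e => hP (by
    refine ⟨fun y hy g => ?_⟩
    have hgz : g ∈ Subgroup.center G := by rw [← hZ, e]; exact Subgroup.mem_top g
    rw [← (Subgroup.mem_center_iff.1 hgz) y, mul_inv_cancel_right]
    exact hy)
  haveI : Group.IsSolvable (G ⧸ Z) := Group.isSolvable_of_surjective hπsur
  obtain ⟨Mb, r, hr, hMbn, hMb1, -, hMbc, hMbr, -⟩ := Solvable.Basic.exists_minimal_normal_pgroup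
    (G := G ⧸ Z) (H := ⊤) top_ne_bot
  haveI := hMbn
  haveI : Fact r.Prime := ⟨hr⟩
  set M := Mb.comap πZ with hM
  haveI hMn : M.Normal := hMbn.comap πZ
  haveI : Fintype M := Fintype.ofFinite M
  have hZM : Z ≤ M := fun z hz => by
    show πZ z ∈ Mb
    rw [hπZ, QuotientGroup.mk'_apply, (QuotientGroup.eq_one_iff z).2 hz]
    exact one_mem _
  have hMZ : ¬ M ≤ Z := fun hle => hMb1 (by
    rw [← Subgroup.map_comap_eq_self_of_surjective hπsur Mb, eq_bot_iff]
    exact (Subgroup.map_mono hle).trans (by rw [QuotientGroup.map_mk'_self]))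
  have hrp : r ≠ p := by
    rintro rfl
    obtain ⟨Q⟩ := (inferInstance : Nonempty (Sylow r M))
    set A := (Q : Subgroup M).map M.subtype with hA
    have hdec : ∀ y ∈ M, ∃ a ∈ A, ∃ z ∈ Z, y = a * z := by
      intro y hy
      let f : M →* Mb := πZ.subgroupComap Mb
      have hf : Function.Surjective f := fun u => by
        obtain ⟨z, hz⟩ := hπsur (u : G ⧸ Z)
        exact ⟨⟨z, show πZ z ∈ Mb from hz ▸ u.2⟩, Subtype.ext hz⟩
      have htop : ((Q.mapSurjective hf : Sylow r Mb) : Subgroup Mb) = ⊤ :=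
        ((Q.mapSurjective hf).3 (hMbr.of_equiv Subgroup.topEquiv.symm) le_top).symm
      have h : f ⟨y, hy⟩ ∈ ((Q.mapSurjective hf : Sylow r Mb) : Subgroup Mb) :=
        htop.symm ▸ Subgroup.mem_top _
      obtain ⟨a, ha, hae⟩ := h
      refine ⟨a, ⟨a, ha, rfl⟩, (a : G)⁻¹ * y, (QuotientGroup.eq_one_iff _).1 ?_,
        by rw [mul_inv_cancel_left]⟩
      have hae' : πZ (a : G) = πZ y := congrArg Subtype.val hae
      show πZ ((a : G)⁻¹ * y) = 1
      rw [map_mul, map_inv, hae', inv_mul_cancel]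
    have hQn : (Q : Subgroup M).Normal := by
      refine ⟨fun q hq y => ?_⟩
      obtain ⟨a, ⟨a', ha', rfl⟩, z, hz, hyz⟩ := hdec y y.2
      have : y * q * y⁻¹ = a' * q * a'⁻¹ := by
        refine Subtype.ext ?_
        show (y : G) * q * (y : G)⁻¹ = (a' : G) * q * (a' : G)⁻¹
        rw [show (y : G) = (a' : G) * z from hyz]
        calc (a' : G) * z * q * ((a' : G) * z)⁻¹ = (a' : G) * (z * q * z⁻¹) * (a' : G)⁻¹ := by group
          _ = _ := by rw [← Subgroup.mem_center_iff.1 hz (q : G), mul_inv_cancel_right]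
      rw [this]
      exact mul_mem (mul_mem ha' hq) (inv_mem ha')
    haveI := hQn
    haveI hAn : A.Normal := by
      haveI := Sylow.unique_of_normal Q hQn
      haveI : (Q : Subgroup M).Characteristic := Sylow.characteristic_of_normal Q hQn
      exact inferInstance
    have hAc := hab A hAn (hpab A hAn (Q.2.map _))
    exact hMZ fun y hy => by
      obtain ⟨a, ha, z, hz, rfl⟩ := hdec y hy
      exact mul_mem (hAc ha) hz
  have hMcl : ∀ a ∈ M, ∀ b ∈ M, a * b * a⁻¹ * b⁻¹ ∈ Z := by
    intro a ha b hb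
    refine (QuotientGroup.eq_one_iff _).1 ?_
    show πZ (a * b * a⁻¹ * b⁻¹) = 1
    rw [map_mul, map_mul, map_mul, map_inv, map_inv,
      Solvable.Basic.isMulCommutative_subgroup_iff.1 hMbc _ ha _ hb]
    group
  obtain ⟨x, hxP, hxM⟩ : ∃ x ∈ (P : Subgroup G), ¬ M ≤ Subgroup.centralizer {x} := by
    by_contra! hall
    refine hMZ fun m hm => Subgroup.mem_center_iff.2 fun g => ?_
    haveI : (Subgroup.centralizer (M : Set G)).Normal := Subgroup.normal_centralizer
    have h : g ∈ Subgroup.centralizer (M : Set G) := by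
      have htop : Subgroup.centralizer (M : Set G) = ⊤ := top_le_iff.1
        (hgen ▸ Subgroup.normalClosure_le_normal fun y hy => Subgroup.mem_centralizer_iff.2
          fun v hv => Subgroup.mem_centralizer_singleton_iff.1 (hall y hy hv))
      rw [htop]
      exact Subgroup.mem_top g
    exact (Subgroup.mem_centralizer_iff.1 h m hm).symm
  obtain ⟨j, hj⟩ := P.2 ⟨x, hxP⟩
  have hxj : x ^ p ^ j = 1 := by simpa using congrArg Subtype.val hj
  -- the centre of `M`
  have hcenM : ∀ m ∈ M, (∀ y ∈ M, y * m = m * y) → m ∈ Z := by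
    intro m hm hc
    set A : Subgroup G := (Subgroup.center M).map M.subtype with hA
    haveI hAn : A.Normal := inferInstance
    refine hab A hAn ?_ ⟨⟨m, hm⟩, Subgroup.mem_center_iff.2 fun y => Subtype.ext (hc y y.2), rfl⟩
    rintro _ ⟨u, hu, rfl⟩ _ ⟨v, -, rfl⟩
    exact congrArg Subtype.val (Subgroup.mem_center_iff.1 hu v).symm
  obtain ⟨φ, hφ0⟩ := hconst M
  obtain ⟨d, t, hd, -, hdn, -⟩ := dvd_constituent hχ hn M φ hφ0
  obtain ⟨e, he0, -, hres⟩ := CharDeep.Clifford.restrict_eq_smul M hχ φ.2 hφ0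
    (fun g k => congrFun (hinv M φ hφ0 g) k)
  have hφf : ∀ w : M, (φ : M → ℂ) w = (φ : M → ℂ) 1 → w = 1 := by
    intro w hw
    refine Subtype.ext (hfaith _ ?_)
    have e1 := congrFun hres w
    have e2 := congrFun hres 1
    simp only [Pi.smul_apply, smul_eq_mul] at e1 e2
    rw [show χ (w : G) = _ from e1, show χ 1 = χ ((1 : M) : G) from rfl, e2, hw]
  have hcM : Subgroup.center M = Z.subgroupOf M := by
    ext m
    rw [Subgroup.mem_center_iff, Subgroup.mem_subgroupOf]
    constructor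
    · intro h
      exact hcenM m m.2 fun y hy => congrArg Subtype.val (h ⟨y, hy⟩)
    · intro h y
      exact Subtype.ext (Subgroup.mem_center_iff.1 h y)
  have hdd := ramified φ.2 hφf (fun a b => by rw [hcM]; exact hMcl a a.2 b b.2) hd
  -- fixed points
  have hMr : ∀ m ∈ M, ∃ k, m ^ r ^ k ∈ Z := by
    intro m hm
    obtain ⟨k, hk⟩ := hMbr ⟨πZ m, hm⟩
    refine ⟨k, (QuotientGroup.eq_one_iff _).1 ?_⟩
    show πZ (m ^ r ^ k) = 1
    rw [map_pow]
    exact congrArg Subtype.val hk
  have hkill : ∀ z : G, ∀ k, z ^ r ^ k = 1 → z ^ p ^ j = 1 → z = 1 := fun z k h1 h2 =>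
    orderOf_eq_one_iff.1 (Nat.eq_one_of_dvd_coprimes (((Nat.coprime_primes hr hp.out).2 hrp).pow k j)
      (orderOf_dvd_of_pow_eq_one h1) (orderOf_dvd_of_pow_eq_one h2))
  have hfix : ∀ m ∈ M, πZ (x * m * x⁻¹) = πZ m → x * m * x⁻¹ = m := by
    intro m hm h
    set z := m⁻¹ * (x * m * x⁻¹) with hz
    have hzZ : z ∈ Z := (QuotientGroup.eq_one_iff _).1 (by
      show πZ z = 1
      rw [hz, map_mul, h, map_inv, inv_mul_cancel])
    have hzc : ∀ y, y * z = z * y := Subgroup.mem_center_iff.1 hzZ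
    have hiter : ∀ i : ℕ, x ^ i * m * (x ^ i)⁻¹ = m * z ^ i := by
      intro i
      induction i with
      | zero => simp
      | succ i ih =>
        calc x ^ (i + 1) * m * (x ^ (i + 1))⁻¹ = x * (x ^ i * m * (x ^ i)⁻¹) * x⁻¹ := by
              rw [pow_succ']; group
          _ = x * m * x⁻¹ * (x * z ^ i * x⁻¹) := by rw [ih]; group
          _ = m * z * z ^ i := by
            rw [((Commute.pow_right (hzc x) i).eq), mul_inv_cancel_right, hz, mul_inv_cancel_left]
          _ = m * z ^ (i + 1) := by rw [pow_succ']; group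
    have h1 : z ^ p ^ j = 1 := by
      have h0 := hiter (p ^ j)
      rw [hxj, one_mul, inv_one, mul_one] at h0
      exact mul_eq_left.1 h0.symm
    obtain ⟨k, hk⟩ := hMr m hm
    have h2 : z ^ r ^ k = 1 := by
      have e1 : (m * z) ^ r ^ k = m ^ r ^ k * z ^ r ^ k := (show Commute m z from hzc m).mul_pow _
      rw [hz, mul_inv_cancel_left, conj_pow, Subgroup.mem_center_iff.1 hk x,
        mul_inv_cancel_right, ← hz] at e1
      exact mul_eq_left.1 e1.symm
    have := hkill z k h2 h1
    rw [hz, inv_mul_eq_one] at this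
    exact this.symm
  set M0 := M ⊓ Subgroup.centralizer {x} with hM0
  haveI : Fintype M0 := Fintype.ofFinite M0
  have hM0x : ∀ m ∈ M0, x * m * x⁻¹ = m := fun m hm => by
    rw [← Subgroup.mem_centralizer_singleton_iff.1 hm.2, mul_inv_cancel_right]
  have hZM0 : Z ≤ M0 := fun z hz => ⟨hZM hz,
    Subgroup.mem_centralizer_singleton_iff.2 (Subgroup.mem_center_iff.1 hz x).symm⟩
  have hcM0 : Subgroup.center M0 = Z.subgroupOf M0 := by
    ext u
    rw [Subgroup.mem_center_iff, Subgroup.mem_subgroupOf]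
    refine ⟨fun h => ?_, fun h y => Subtype.ext (Subgroup.mem_center_iff.1 h y)⟩
    refine hcenM u u.2.1 fun y hy => ?_
    have huM : (u : G) ∈ M := u.2.1
    -- the commutator with `u`
    let g : M → G := fun m => (u : G) * m * (u : G)⁻¹ * (m : G)⁻¹
    have hgZ : ∀ m : M, g m ∈ Z := fun m => hMcl u huM m m.2
    have hgmul : ∀ a b : M, g (a * b) = g a * g b := by
      intro a b
      have hb' := Subgroup.mem_center_iff.1 (hgZ b) (a : G)
      calc g (a * b) = (u : G) * a * (u : G)⁻¹ * (g b) * (a : G)⁻¹ := by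
            simp only [g, Subgroup.coe_mul]; group
        _ = (u : G) * a * (u : G)⁻¹ * ((g b) * (a : G)⁻¹) := by group
        _ = (u : G) * a * (u : G)⁻¹ * ((a : G)⁻¹ * g b) := by
            rw [← Subgroup.mem_center_iff.1 (hgZ b) (a : G)⁻¹]
        _ = g a * g b := by simp only [g]; group
    let F : M →* G := MonoidHom.mk' g hgmul
    have hgx : ∀ m : M, F ⟨x * m * x⁻¹, hMn.conj_mem _ m.2 x⟩ = F m := by
      intro m
      have hu := hM0x u u.2
      show g ⟨x * m * x⁻¹, _⟩ = g m
      calc (u : G) * (x * m * x⁻¹) * (u : G)⁻¹ * (x * m * x⁻¹)⁻¹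
          = (x * u * x⁻¹) * (x * m * x⁻¹) * (x * u * x⁻¹)⁻¹ * (x * m * x⁻¹)⁻¹ := by rw [hu]
        _ = x * g m * x⁻¹ := by simp only [g]; group
        _ = g m := by rw [Subgroup.mem_center_iff.1 (hgZ m) x, mul_inv_cancel_right]
    have hgy : F ⟨y, hy⟩ = 1 := by
      -- the product of the conjugates of `y`
      have hiterF : ∀ (i : ℕ) (m : M),
          F ⟨x ^ i * m * (x ^ i)⁻¹, hMn.conj_mem _ m.2 _⟩ = F m := by
        intro i
        induction i with
        | zero => intro m; congr 1; exact Subtype.ext (by simp)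
        | succ i ih =>
          intro m
          rw [← ih ⟨x * m * x⁻¹, hMn.conj_mem _ m.2 x⟩ |>.trans (hgx m)]
          congr 1
          exact Subtype.ext (by rw [pow_succ]; group)
      obtain ⟨k, hk⟩ := hMr y hy
      have h1 : F ⟨y, hy⟩ ^ r ^ k = 1 := by
        rw [← map_pow]
        show (u : G) * (y ^ r ^ k) * (u : G)⁻¹ * (y ^ r ^ k)⁻¹ = 1
        rw [Subgroup.mem_center_iff.1 hk u]
        group
      let conjy : ℕ → M := fun i => ⟨x ^ i * y * (x ^ i)⁻¹, hMn.conj_mem _ hy _⟩
      let Pr : M := ((List.range (p ^ j)).map conjy).prod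
      have hPr : F Pr = F ⟨y, hy⟩ ^ p ^ j := by
        rw [map_list_prod, List.map_map]
        have : (List.range (p ^ j)).map (F ∘ conjy) = List.replicate (p ^ j) (F ⟨y, hy⟩) := by
          rw [List.eq_replicate_iff]
          refine ⟨by simp, fun b hb => ?_⟩
          obtain ⟨i, -, rfl⟩ := List.mem_map.1 hb
          exact hiterF i ⟨y, hy⟩
        rw [this, List.prod_replicate]
      have hPrfix : x * (Pr : G) * x⁻¹ = Pr := by
        refine hfix _ Pr.2 ?_
        let f : M →* Mb := πZ.subgroupComap Mb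
        letI : CommGroup Mb :=
          { (inferInstance : Group Mb) with
            mul_comm := fun a b => Subtype.ext
              (Solvable.Basic.isMulCommutative_subgroup_iff.1 hMbc a a.2 b b.2) }
        let c : M →* M :=
          MonoidHom.mk' (fun m => ⟨x * m * x⁻¹, hMn.conj_mem _ m.2 x⟩)
            (fun a b => Subtype.ext (by simp [mul_assoc]))
        suffices hs : f (c Pr) = f Pr from congrArg Subtype.val hs
        have hprod : ∀ (ψ : M →* Mb), ψ Pr = ∏ i ∈ Finset.range (p ^ j), ψ (conjy i) := by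
          intro ψ
          rw [map_list_prod, List.map_map]
          rfl
        rw [← MonoidHom.comp_apply, hprod, hprod]
        have hce : ∀ i, (f.comp c) (conjy i) = f (conjy (i + 1)) := fun i =>
          congrArg f (Subtype.ext (by
            show x * (x ^ i * y * (x ^ i)⁻¹) * x⁻¹ = _
            simp only [conjy, pow_succ']; group))
        simp only [hce]
        have h0 := Finset.prod_range_succ' (fun i => f (conjy i)) (p ^ j)
        rw [Finset.prod_range_succ] at h0
        have hlast : f (conjy (p ^ j)) = f (conjy 0) :=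
          congrArg f (Subtype.ext (by simp [conjy, hxj]))
        rw [hlast] at h0
        exact (mul_right_cancel h0).symm
      have hPr1 : F Pr = 1 := by
        show (u : G) * (Pr : G) * (u : G)⁻¹ * (Pr : G)⁻¹ = 1
        have hPrM0 : (Pr : G) ∈ M0 := ⟨Pr.2,
          Subgroup.mem_centralizer_singleton_iff.2 (mul_inv_eq_iff_eq_mul.1 hPrfix).symm⟩
        have := congrArg Subtype.val (h ⟨(Pr : G), hPrM0⟩)
        simp only [Subgroup.coe_mul] at this
        rw [← this]
        group
      rw [hPr] at hPr1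
      exact hkill _ k h1 hPr1
    have h5 : (u : G) * y * (u : G)⁻¹ * y⁻¹ = 1 := hgy
    exact (mul_inv_eq_iff_eq_mul.1 (mul_inv_eq_one.1 h5)).symm
  -- a faithful constituent on `M0`
  have hM0M : M0 ≤ M := inf_le_left
  let ι : M0 →* M := Subgroup.inclusion hM0M
  have hφ0c : Cfsg.IsCharacter M0 ((φ : M → ℂ) ∘ ι) :=
    Char.IsCharacter.comp (Char.isCharacter_irr φ) ι
  obtain ⟨ψ, hψ, hψ0⟩ := Char.IsCharacter.exists_constituent hφ0c (fun e1 => by
    have h1 := congrFun e1 1
    rw [Function.comp_apply, map_one] at h1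
    exact Char.IsIrrCharacter.apply_one_ne_zero φ.2 h1)
  obtain ⟨d₀, -, hd₀⟩ := Char.IsIrrCharacter.apply_one_eq hψ
  have hψZ : ∀ z : M0, z ∈ Subgroup.center M0 → ψ z = ψ 1 → z = 1 := by
    intro z hz hzψ
    have hzM : ι z ∈ Subgroup.center M := by
      rw [hcM]
      have hz' : z ∈ Z.subgroupOf M0 := hcM0 ▸ hz
      exact hz'
    obtain ⟨c, hc, hc1⟩ := CharDeep.CentralTrick.exists_scalar_center φ.2 hzM
    obtain ⟨c', hc', -⟩ := CharDeep.CentralTrick.exists_scalar_center hψ hz
    have hc'1 : c' = 1 := by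
      have h1 := hc' 1
      rw [one_mul, hzψ] at h1
      exact (mul_eq_right₀ (Char.IsIrrCharacter.apply_one_ne_zero hψ)).1 h1.symm
    have hsum : Cfsg.classInner ((φ : M → ℂ) ∘ ι) ψ
        = c * Cfsg.classInner ((φ : M → ℂ) ∘ ι) ψ := by
      rw [Cfsg.classInner]
      conv_lhs => rw [← Equiv.sum_comp (Equiv.mulRight z)]
      rw [mul_left_comm c, Finset.mul_sum (a := c)]
      refine congrArg _ (Finset.sum_congr rfl fun w _ => ?_)
      show (φ : M → ℂ) (ι (w * z)) * (starRingEnd ℂ) (ψ (w * z)) = _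
      rw [hc' w, hc'1, one_mul, map_mul, hc (ι w), mul_assoc]
      rfl
    have hc1' : c = 1 := (mul_eq_right₀ hψ0).1 hsum.symm
    exact Subtype.ext (congrArg Subtype.val (hφf _ (hc1 hc1')) : _)
  have hψf : ∀ w, ψ w = ψ 1 → w = 1 := by
    intro w hw
    set K := Char.charKer (Char.IsIrrCharacter.isCharacter hψ) with hK
    haveI := Char.charKer_normal (Char.IsIrrCharacter.isCharacter hψ)
    refine hψZ w ?_ hw
    rw [Subgroup.mem_center_iff]
    intro y
    have hk : y * w * y⁻¹ * w⁻¹ ∈ K :=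
      mul_mem (Subgroup.Normal.conj_mem inferInstance w (show w ∈ K from hw) y)
        (inv_mem (show w ∈ K from hw))
    have hc : y * w * y⁻¹ * w⁻¹ ∈ Subgroup.center M0 := by
      rw [hcM0]
      exact hMcl y y.2.1 w w.2.1
    exact mul_inv_eq_iff_eq_mul.1 (mul_inv_eq_one.1 (hψZ _ hc hk))
  have hdd₀ := ramified hψ hψf (fun a b => by rw [hcM0]; exact hMcl a a.2.1 b b.2.1) hd₀
  -- counting
  have hrelM : (Subgroup.center M).index = Nat.card Mb := by
    have h2 : Subgroup.relIndex πZ.ker M = Nat.card Mb := by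
      rw [Subgroup.relIndex_ker, hM, Subgroup.map_comap_eq_self_of_surjective hπsur]
    rw [hcM, ← h2, hπZ, QuotientGroup.ker_mk']
    rfl
  have hfixset : Mb ⊓ Subgroup.centralizer {πZ x} = M0.map πZ := by
    refine le_antisymm ?_ ?_
    · rintro y ⟨hy, hyc⟩
      obtain ⟨m, rfl⟩ := hπsur y
      refine ⟨m, ⟨hy, Subgroup.mem_centralizer_singleton_iff.2
        (mul_inv_eq_iff_eq_mul.1 (hfix m hy ?_)).symm⟩, rfl⟩
      rw [map_mul, map_mul, map_inv, ← Subgroup.mem_centralizer_singleton_iff.1 hyc,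
        mul_inv_cancel_right]
    · rintro _ ⟨m, hm, rfl⟩
      refine ⟨hm.1, Subgroup.mem_centralizer_singleton_iff.2 ?_⟩
      rw [← map_mul, ← map_mul, Subgroup.mem_centralizer_singleton_iff.1 hm.2]
  have hrelM0 : (Subgroup.center M0).index
      = Nat.card ↥(Mb ⊓ Subgroup.centralizer {πZ x}) := by
    have h2 : Subgroup.relIndex πZ.ker M0 = Nat.card ↥(M0.map πZ) := by rw [Subgroup.relIndex_ker]
    rw [hcM0, hfixset, ← h2, hπZ, QuotientGroup.ker_mk']
    rfl
  obtain ⟨a, ha⟩ := IsPGroup.iff_card.1 hMbr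
  obtain ⟨c, hc⟩ := IsPGroup.iff_card.1
    (hMbr.to_le (inf_le_left : Mb ⊓ Subgroup.centralizer {πZ x} ≤ Mb))
  have hcnt := count (p := p) Mb (x := πZ x) (j := j) (by rw [← map_pow, hxj, map_one])
  rw [ha, hc] at hcnt
  rw [hrelM, ha] at hdd
  rw [hrelM0, hc] at hdd₀
  obtain ⟨i, -, hi⟩ := (Nat.dvd_prime_pow hr).1 (Dvd.intro d hdd)
  obtain ⟨i₀, -, hi₀⟩ := (Nat.dvd_prime_pow hr).1 (Dvd.intro d₀ hdd₀)
  have hai : i + i = a := Nat.pow_right_injective hr.two_le (show r ^ (i + i) = r ^ a by rw [pow_add, ← hi, hdd])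
  have hci : i₀ + i₀ = c := Nat.pow_right_injective hr.two_le (show r ^ (i₀ + i₀) = r ^ c by rw [pow_add, ← hi₀, hdd₀])
  have hca : c < a := by
    refine (Nat.pow_lt_pow_iff_right hr.one_lt).1 ?_
    rw [← hc, ← ha]
    refine lt_of_le_of_ne (Subgroup.card_le_of_le inf_le_left) fun e1 => hxM fun m hm => ?_
    have h1 := Subgroup.eq_of_le_of_card_ge inf_le_left e1.ge
    have h2 : πZ m ∈ Mb ⊓ Subgroup.centralizer {πZ x} := h1.symm ▸ (hm : πZ m ∈ Mb)
    refine Subgroup.mem_centralizer_singleton_iff.2 (mul_inv_eq_iff_eq_mul.1 (hfix m hm ?_)).symm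
    rw [map_mul, map_mul, map_inv, ← Subgroup.mem_centralizer_singleton_iff.1 h2.2,
      mul_inv_cancel_right]
  have hmod := pow_sub_modEq_one hp.out hr hrp hca hcnt
  rw [show a - c = (i - i₀) + (i - i₀) by omega, pow_add] at hmod
  have hq : (((r ^ (i - i₀) : ℕ) : ℤ) * ((r ^ (i - i₀) : ℕ) : ℤ)) ≡ 1 [ZMOD (p : ℤ)] := by
    have := Int.natCast_modEq_iff.2 hmod
    push_cast at this ⊢
    exact this
  refine hbad ⟨r ^ (i - i₀), hr.isPrimePow.pow (by omega),
    (pow_dvd_pow r (Nat.sub_le i i₀)).trans (hi ▸ hdn), ?_⟩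
  generalize ((r ^ (i - i₀) : ℕ) : ℤ) = q at hq ⊢
  have h := Int.ModEq.dvd hq.symm
  rw [show q * q - 1 = (q - 1) * (q + 1) by ring] at h
  rcases (Nat.prime_iff_prime_int.1 hp.out).dvd_mul.1 h with h1 | h1
  · exact Or.inr (Or.inr (Int.modEq_iff_dvd.2 (by simpa using dvd_neg.2 h1)))
  · exact Or.inl (Int.modEq_iff_dvd.2 (by
      have := dvd_neg.2 h1
      rwa [show -(q + 1) = -1 - q by ring] at this))



/-- Let the finite solvable group G have a faithful irreducible character of degree n, and suppose that for the prime p a Sylow p-subgroup of G is not normal. Then n is divisible by a prime power q > 1 with q congruent to −1, 0 or 1 modulo p. -/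
theorem result {G : Type*} [Group G] [Finite G] (χ : Cfsg.IrrCharacter G) (hfaith : ∀ g : G, (χ : G → ℂ) g = (χ : G → ℂ) 1 → g = 1) (n : ℕ) (hn : Cfsg.charDegree (χ : G → ℂ) = n) (hsolv : Group.IsSolvable G) (p : ℕ) (hp : p.Prime) (P : Sylow p G) (hP : ¬ (P : Subgroup G).Normal) : ∃ q : ℕ, IsPrimePow q ∧ q ∣ n ∧ ((q : ℤ) ≡ -1 [ZMOD p] ∨ (q : ℤ) ≡ 0 [ZMOD p] ∨ (q : ℤ) ≡ 1 [ZMOD p]) := by
  haveI : Fact p.Prime := ⟨hp⟩
  refine main _ G rfl hsolv χ χ.2 hfaith n ?_ p P hP
  obtain ⟨m, ρ, -, hρ⟩ := χ.2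
  rw [← hn, ← hρ, Cfsg.charDegree, Representation.char_one, Complex.natCast_re, Nat.floor_natCast]

end Cfsg.Agent.S4467
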