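import Cfsg.Statements.S4471
import Cfsg.Agent.Lib.CharDeep.TwoEigen
import Cfsg.Agent.Lib.CharDeep.BlichfeldtSixty
import Cfsg.Agent.Lib.Blocks.Basic
import Cfsg.Agent.Lib.Solvable.FrattiniFitting
import Mathlib.LinearAlgebra.Determinant
import Mathlib.GroupTheory.PGroup
-- import your own Cfsg.Agent.* helpers here

set_option autoImplicit false
open Cfsg

namespace Cfsg.Agent.S4471

section Helpers

open Cfsg Module
open scoped InnerProductSpace ComplexConjugate commutatorElement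
open CfsgLib.CharDeep.SmallCommute (common op norm_rho)

universe u v

variable {G : Type u} [Group G] [Finite G] {V : Type v} [NormedAddCommGroup V]
  [InnerProductSpace ℂ V] [FiniteDimensional ℂ V] (ρ : Representation ℂ G V)

omit [Finite G] [FiniteDimensional ℂ V] in
theorem mem_common_conj (A : Subgroup G) [A.Normal] (g : G) {φ : A → ℂ} {v : V}
    (hv : v ∈ common ρ A φ) :
    ρ g v ∈ common ρ A fun a => φ ⟨g⁻¹ * a * g, by
      simpa using (inferInstance : A.Normal).conj_mem a a.2 g⁻¹⟩ := by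
  intro a
  have h := hv ⟨g⁻¹ * a * g, by simpa using (inferInstance : A.Normal).conj_mem a a.2 g⁻¹⟩
  rw [← map_smul, ← h, ← Module.End.mul_apply, ← map_mul, ← Module.End.mul_apply, ← map_mul]
  congr 2
  group

variable (hU : ∀ g v w, ⟪ρ g v, ρ g w⟫_ℂ = ⟪v, w⟫_ℂ)
include hU

omit [Finite G] in
theorem common_disjoint (A : Subgroup G) {φ : A → ℂ} {Ψ : Finset (A → ℂ)} (hφ : φ ∉ Ψ) :
    common ρ A φ ⊓ (⨆ ψ ∈ Ψ, common ρ A ψ) = ⊥ := by
  classical
  rw [Submodule.eq_bot_iff]
  intro v hv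
  obtain ⟨h1, h2⟩ := Submodule.mem_inf.1 hv
  rw [Submodule.mem_iSup_finset_iff_exists_sum] at h2
  obtain ⟨μ, hμ⟩ := h2
  have : ⟪v, v⟫_ℂ = 0 := by
    conv_lhs => arg 2; rw [← hμ]
    rw [sum_inner]
    exact Finset.sum_eq_zero fun ψ hψ => CfsgLib.CharDeep.SmallCommute.inner_eq_zero ρ hU A
      (fun e => hφ (by rw [← e]; exact hψ)) (μ ψ).2 h1
  exact inner_self_eq_zero.1 this

omit [Finite G] in
theorem finrank_sup (A : Subgroup G) (Ψ : Finset (A → ℂ)) :
    finrank ℂ (⨆ ψ ∈ Ψ, common ρ A ψ : Submodule ℂ V) = ∑ ψ ∈ Ψ, finrank ℂ (common ρ A ψ) := by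
  classical
  induction Ψ using Finset.induction_on with
  | empty => simp
  | insert a s ha ih =>
    rw [Finset.iSup_insert, Finset.sum_insert ha]
    have h := Submodule.finrank_sup_add_finrank_inf_eq (common ρ A a) (⨆ ψ ∈ s, common ρ A ψ)
    rw [common_disjoint ρ hU A ha, finrank_bot, add_zero, ih] at h
    exact h

theorem main {p : ℕ} (hp : p.Prime) (h7 : 7 ≤ p)
    (hinj : Function.Injective ρ)
    (hirr : ∀ U : Submodule ℂ V, (∀ g, ∀ v ∈ U, ρ g v ∈ U) → U = ⊥ ∨ U = ⊤)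
    (hn2 : finrank ℂ V < 2 * p) (hnp : finrank ℂ V ≠ p)
    (P : Sylow p G) {x y : G} (hx : x ∈ (P : Subgroup G)) (hy : y ∈ (P : Subgroup G))
    (hxy : x * y ≠ y * x) :
    ¬ p ^ 2 ∣ (Cfsg.pCore p G).index := by
  classical
  haveI := Fact.mk hp
  cases nonempty_fintype G
  set Q : Subgroup G := (P : Subgroup G)
  -- a central commutator of order `p`
  haveI := P.2.isNilpotent
  haveI hC : (commutator ↥Q).Normal := inferInstance
  have hC1 : commutator ↥Q ≠ ⊥ := fun h => hxy (by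
    have h1 : ⁅(⟨x, hx⟩ : Q), ⟨y, hy⟩⁆ ∈ commutator ↥Q :=
      Subgroup.commutator_mem_commutator (Subgroup.mem_top _) (Subgroup.mem_top _)
    rw [h, Subgroup.mem_bot, commutatorElement_eq_one_iff_mul_comm] at h1
    exact congrArg Subtype.val h1)
  haveI : Nontrivial (commutator ↥Q ⊓ Subgroup.center ↥Q : Subgroup ↥Q) :=
    (Subgroup.nontrivial_iff_ne_bot _).2 (CfsgLib.Solvable.FrattiniFitting.inf_center_ne_bot _ hC1)
  obtain ⟨k, hk⟩ := (P.2.to_subgroup (commutator ↥Q ⊓ Subgroup.center ↥Q)).exists_card_eq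
  obtain ⟨z₀, hz₀⟩ := exists_prime_orderOf_dvd_card' p
    (G := (commutator ↥Q ⊓ Subgroup.center ↥Q : Subgroup ↥Q)) (by
      rcases k with _ | k
      · exact absurd hk Finite.one_lt_card.ne'
      · rw [hk, pow_succ]; exact dvd_mul_left p _)
  set z : G := ((z₀ : Q) : G) with hzdef
  have hz : orderOf z = p := by rw [hzdef, Subgroup.orderOf_coe, Subgroup.orderOf_coe, hz₀]
  have hzc : ∀ u ∈ Q, u * z = z * u := fun u hu =>
    congrArg Subtype.val (Subgroup.mem_center_iff.1 z₀.2.2 ⟨u, hu⟩)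
  -- the eigenspaces of `z`
  let Z := Subgroup.zpowers z
  have hZc : ∀ a ∈ Z, ∀ b ∈ Z, a * b = b * a := fun a ha b hb => by
    obtain ⟨i, rfl⟩ := Subgroup.mem_zpowers_iff.1 ha
    obtain ⟨j, rfl⟩ := Subgroup.mem_zpowers_iff.1 hb
    exact (Commute.refl z).zpow_zpow i j |>.eq
  have hzZ : z ∈ Z := Subgroup.mem_zpowers z
  obtain ⟨Φ, -, hΦ, hsup⟩ := CfsgLib.CharDeep.SmallCommute.exists_spectrum ρ hU Z hZc
  set n := finrank ℂ V with hn
  set zz : Z := ⟨z, hzZ⟩
  have hroot : ∀ φ ∈ Φ, φ zz ^ p = 1 := by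
    intro φ hφ
    obtain ⟨v, hv, hv0⟩ := (common ρ Z φ).ne_bot_iff.1 (hΦ φ hφ)
    have h : ∀ m : ℕ, ρ (z ^ m) v = φ zz ^ m • v := by
      intro m
      induction m with
      | zero => simp
      | succ m ih =>
        rw [pow_succ', map_mul, Module.End.mul_apply, ih, map_smul, hv zz, smul_smul, ← pow_succ]
    have h1 := h p
    rw [← hz, pow_orderOf_eq_one, map_one, Module.End.one_apply, hz] at h1
    exact smul_left_injective ℂ hv0 (by simpa using h1.symm)
  -- the dimension of a non-trivial eigenspace is divisible by `p`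
  have hdvd : ∀ φ ∈ Φ, φ zz ≠ 1 → p ∣ finrank ℂ (common ρ Z φ) := by
    intro φ hφ hne
    set E := common ρ Z φ
    have hinv : ∀ u : Q, ∀ v ∈ E, ρ (u : G) v ∈ E := by
      intro u v hv a
      obtain ⟨i, hi⟩ := Subgroup.mem_zpowers_iff.1 a.2
      rw [← map_smul, ← hv a, ← Module.End.mul_apply, ← map_mul, ← Module.End.mul_apply, ← map_mul,
        ← hi, ((show Commute (u : G) z from hzc u u.2).zpow_right i).eq]
    let δ : Q →* ℂ :=
      { toFun := fun u => LinearMap.det ((ρ (u : G)).restrict (hinv u))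
        map_one' := by
          rw [← LinearMap.det_id (A := ℂ) (M := E)]
          congr 1
          ext v
          simp
        map_mul' := fun a b => by
          rw [← map_mul]
          congr 1
          ext v
          simp [Module.End.mul_apply] }
    have hker : commutator ↥Q ≤ δ.toHomUnits.ker := Abelianization.commutator_subset_ker _
    have hz1 : δ (z₀ : Q) = 1 := by
      have h := congrArg Units.val (MonoidHom.mem_ker.1 (hker z₀.2.1))
      simpa using h
    have h2 : δ (z₀ : Q) = φ zz ^ finrank ℂ E := by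
      show LinearMap.det ((ρ z).restrict (hinv (z₀ : Q))) = _
      have e : (ρ z).restrict (hinv (z₀ : Q)) = φ zz • (1 : E →ₗ[ℂ] E) := by
        ext v
        exact v.2 zz
      rw [e, LinearMap.det_smul, map_one, mul_one]
    have h3 : φ zz ^ finrank ℂ E = 1 := h2.symm.trans hz1
    have := orderOf_dvd_of_pow_eq_one h3
    rwa [orderOf_eq_prime (hroot φ hφ) hne] at this
  have hsum : n = ∑ φ ∈ Φ, finrank ℂ (common ρ Z φ) := by
    rw [← finrank_sup ρ hU Z Φ, hsup, finrank_top]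
  have hpos : ∀ φ ∈ Φ, 0 < finrank ℂ (common ρ Z φ) := fun φ hφ =>
    Nat.pos_of_ne_zero fun h => hΦ φ hφ (Submodule.finrank_eq_zero.1 h)
  obtain ⟨φ₀, hφ₀, hφ₀1⟩ : ∃ φ ∈ Φ, φ zz ≠ 1 := by
    by_contra hall
    push Not at hall
    have hle : (⊤ : Submodule ℂ V) ≤ LinearMap.eqLocus (ρ z) LinearMap.id := by
      rw [← hsup]
      refine iSup₂_le fun φ hφ v hv => ?_
      show ρ z v = v
      rw [hv zz, hall φ hφ, one_smul]
    have : z = 1 := hinj (by
      rw [map_one]
      exact LinearMap.ext fun v => hle (Submodule.mem_top (x := v)))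
    exact hp.one_lt.ne (by rw [← hz, this, orderOf_one])
  have hd0 : finrank ℂ (common ρ Z φ₀) = p := by
    have h1 : finrank ℂ (common ρ Z φ₀) ≤ n :=
      hsum ▸ Finset.single_le_sum (f := fun φ => finrank ℂ (common ρ Z φ)) (fun _ _ => Nat.zero_le _) hφ₀
    obtain ⟨c, hc⟩ := hdvd φ₀ hφ₀ hφ₀1
    have h2 := hpos φ₀ hφ₀
    have : c < 2 := Nat.lt_of_mul_lt_mul_left (a := p) (by omega)
    rcases (by omega : c = 0 ∨ c = 1) with rfl | rfl <;> omega
  have hother : ∀ φ ∈ Φ, φ ≠ φ₀ → φ zz = 1 := by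
    intro φ hφ hne
    by_contra h1
    have h2 := Nat.le_of_dvd (hpos φ hφ) (hdvd φ hφ h1)
    have h3 : ∑ ψ ∈ {φ, φ₀}, finrank ℂ (common ρ Z ψ) ≤ n :=
      hsum ▸ Finset.sum_le_sum_of_subset (by simp [Finset.insert_subset_iff, hφ, hφ₀])
    rw [Finset.sum_pair hne] at h3
    omega
  have hnp' : p < n := by
    have : finrank ℂ (common ρ Z φ₀) ≤ n :=
      hsum ▸ Finset.single_le_sum (f := fun φ => finrank ℂ (common ρ Z φ)) (fun _ _ => Nat.zero_le _) hφ₀
    omega
  -- a power with eigenvalues `1` and `ζ`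
  set ζ := Complex.exp (2 * Real.pi * Complex.I / p) with hζdef
  have hζ : IsPrimitiveRoot ζ p := Complex.isPrimitiveRoot_exp p hp.ne_zero
  have hord : IsPrimitiveRoot (φ₀ zz) p := by
    rw [← orderOf_eq_prime (hroot φ₀ hφ₀) hφ₀1]; exact IsPrimitiveRoot.orderOf _
  haveI : NeZero p := ⟨hp.ne_zero⟩
  obtain ⟨j, -, hj⟩ := hord.eq_pow_of_pow_eq_one hζ.pow_eq_one
  set w := z ^ j with hw
  have hwev : ∀ φ ∈ Φ, ∀ v ∈ common ρ Z φ, ρ w v = φ zz ^ j • v := by
    intro φ _ v hv
    rw [hw]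
    generalize j = m
    induction m with
    | zero => simp
    | succ m ih =>
      rw [pow_succ', map_mul, Module.End.mul_apply, ih, map_smul, hv zz, smul_smul, ← pow_succ]
  set c : ℂ := (1 + ζ) / 2 with hc
  have hζ1 : ‖ζ - 1‖ < 1 := by
    have := CfsgLib.CharDeep.BlichfeldtSixty.norm_root_sub_one_lt hp.pos hζdef (s := 1) (by simp; omega)
    simpa using this
  have hval : ∀ φ ∈ Φ, ‖φ zz ^ j - c‖ = ‖ζ - 1‖ / 2 := by
    intro φ hφ
    by_cases hne : φ = φ₀
    · subst hne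
      rw [hj, show ζ - c = (ζ - 1) / 2 by rw [hc]; ring, norm_div]
      simp
    · rw [hother φ hφ hne, one_pow, show 1 - c = -((ζ - 1) / 2) by rw [hc]; ring, norm_neg, norm_div]
      simp
  have hc2 : 1 / 2 ≤ ‖c‖ := by
    have h1 : ‖(1 : ℂ)‖ ≤ ‖c‖ + ‖1 - c‖ := by
      calc ‖(1 : ℂ)‖ = ‖c + (1 - c)‖ := by rw [add_sub_cancel]
        _ ≤ _ := norm_add_le _ _
    have e : ‖(1 : ℂ) - c‖ = ‖ζ - 1‖ / 2 := by
      rw [show 1 - c = -((ζ - 1) / 2) by rw [hc]; ring, norm_neg, norm_div, Complex.norm_two]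
    rw [norm_one, e] at h1
    linarith
  have hwsmall : ‖op ρ w - c • 1‖ < 1 / 2 := by
    refine lt_of_le_of_lt ?_ (show ‖ζ - 1‖ / 2 < 1 / 2 by linarith)
    refine ContinuousLinearMap.opNorm_le_bound _ (by positivity) fun v => ?_
    have hmem : v ∈ ⨆ φ ∈ Φ, common ρ Z φ := hsup.symm ▸ Submodule.mem_top
    rw [Submodule.mem_iSup_finset_iff_exists_sum] at hmem
    obtain ⟨μ, rfl⟩ := hmem
    have happ : (op ρ w - c • 1) (∑ φ ∈ Φ, (μ φ : V)) =
        ∑ φ ∈ Φ, (φ zz ^ j - c) • (μ φ : V) := by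
      rw [map_sum]
      refine Finset.sum_congr rfl fun φ hφ => ?_
      rw [sub_apply, CfsgLib.CharDeep.SmallCommute.op_apply, hwev φ hφ _ (μ φ).2, sub_smul]
      rfl
    rw [happ, ← abs_of_nonneg (norm_nonneg (∑ φ ∈ Φ, (φ zz ^ j - c) • (μ φ : V)))]
    refine abs_le_of_sq_le_sq ?_ (mul_nonneg (by positivity) (norm_nonneg _))
    rw [mul_pow, CfsgLib.CharDeep.SmallCommute.norm_sq_sum ρ hU Z Φ _ (fun φ _ => Submodule.smul_mem _ _ (μ φ).2),
      CfsgLib.CharDeep.SmallCommute.norm_sq_sum ρ hU Z Φ _ (fun φ _ => (μ φ).2), Finset.mul_sum]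
    refine Finset.sum_le_sum fun φ hφ => ?_
    rw [norm_smul, mul_pow, hval φ hφ]
  -- the conjugates of `w` generate an abelian normal subgroup
  set A := Subgroup.normalClosure ({w} : Set G) with hA
  haveI hAn : A.Normal := Subgroup.normalClosure_normal
  have hconjsmall : ∀ g, ‖op ρ (g * w * g⁻¹) - c • 1‖ < 1 / 2 := by
    intro g
    have e : op ρ (g * w * g⁻¹) - c • 1 = op ρ g * (op ρ w - c • 1) * op ρ g⁻¹ := by
      rw [mul_sub, sub_mul, mul_smul_comm, mul_one, smul_mul_assoc, ← map_mul, ← map_mul,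
        ← map_mul, mul_inv_cancel, map_one]
    rw [e]
    refine lt_of_le_of_lt ?_ hwsmall
    refine (norm_mul_le _ _).trans ?_
    refine (mul_le_of_le_one_right (norm_nonneg _) (CfsgLib.CharDeep.SmallCommute.norm_op_le ρ hU _)).trans ?_
    exact (norm_mul_le _ _).trans
      (mul_le_of_le_one_left (norm_nonneg _) (CfsgLib.CharDeep.SmallCommute.norm_op_le ρ hU _))
  have hAc : ∀ a ∈ A, ∀ b ∈ A, a * b = b * a := by
    have hS : ∀ s ∈ Group.conjugatesOfSet ({w} : Set G), ‖op ρ s - c • 1‖ < 1 / 2 := by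
      intro s hs
      rw [Group.mem_conjugatesOfSet_iff] at hs
      obtain ⟨w', hw', hc⟩ := hs
      obtain rfl : w' = w := hw'
      obtain ⟨g, rfl⟩ := isConj_iff.1 hc
      exact hconjsmall g
    have h1 : A ≤ Subgroup.centralizer (Group.conjugatesOfSet ({w} : Set G)) :=
      (Subgroup.closure_le _).2 fun s hs => Subgroup.mem_centralizer_iff.2 fun t ht =>
        CfsgLib.CharDeep.TwoEigen.comm_of_small ρ hU hinj hc2 (hS t ht) (hS s hs)
    have h2 : A ≤ Subgroup.centralizer (A : Set G) :=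
      (Subgroup.closure_le _).2 fun s hs => Subgroup.mem_centralizer_iff.2 fun k hk =>
        ((Subgroup.mem_centralizer_iff.1 (h1 hk)) s hs).symm
    exact fun a ha b hb => Subgroup.mem_centralizer_iff.1 (h2 hb) a ha
  have hwA : w ∈ A := Subgroup.subset_normalClosure rfl
  -- the weight spaces of `A`
  obtain ⟨Ψ, hΨcard, hΨ, hΨsup⟩ := CfsgLib.CharDeep.SmallCommute.exists_spectrum ρ hU A hAc
  have hinΨ : ∀ ψ : A → ℂ, common ρ A ψ ≠ ⊥ → ψ ∈ Ψ := by
    intro ψ hψ
    by_contra hn'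
    have h := common_disjoint ρ hU A hn'
    rw [hΨsup, inf_top_eq] at h
    exact hψ h
  let tw : G → (A → ℂ) → (A → ℂ) := fun g φ a =>
    φ ⟨g⁻¹ * a * g, by simpa using hAn.conj_mem a a.2 g⁻¹⟩
  have htw_mem : ∀ g, ∀ φ ∈ Ψ, tw g φ ∈ Ψ := by
    intro g φ hφ
    refine hinΨ _ fun hb => ?_
    obtain ⟨v, hv, hv0⟩ := (common ρ A φ).ne_bot_iff.1 (hΨ φ hφ)
    have h := mem_common_conj ρ A g hv
    rw [show (fun a : A => φ ⟨g⁻¹ * a * g, _⟩) = tw g φ from rfl, hb, Submodule.mem_bot] at h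
    have := norm_rho ρ hU g v
    rw [h, norm_zero] at this
    exact hv0 (norm_eq_zero.1 this.symm)
  have htw1 : ∀ φ, tw 1 φ = φ := fun φ => by funext a; simp [tw]
  have htwm : ∀ g h φ, tw (g * h) φ = tw g (tw h φ) := fun g h φ => by
    funext a
    simp only [tw]
    congr 2
    group
  have hdle : ∀ g φ, finrank ℂ (common ρ A φ) ≤ finrank ℂ (common ρ A (tw g φ)) := by
    intro g φ
    refine LinearMap.finrank_le_finrank_of_injective
      (f := ((ρ g).comp (common ρ A φ).subtype).codRestrict (common ρ A (tw g φ))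
        fun v => mem_common_conj ρ A g v.2) fun v v' e => Subtype.ext ?_
    have e' : ρ g v = ρ g v' := congrArg Subtype.val e
    have := norm_rho ρ hU g ((v : V) - v')
    rw [map_sub, e', sub_self, norm_zero] at this
    exact sub_eq_zero.1 (norm_eq_zero.1 this.symm)
  obtain ⟨ψ₀, hψ₀⟩ : Ψ.Nonempty := by
    rw [Finset.nonempty_iff_ne_empty]
    intro h
    have := finrank_sup ρ hU A Ψ
    rw [hΨsup, finrank_top, h, Finset.sum_empty] at this
    omega
  set d := finrank ℂ (common ρ A ψ₀) with hd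
  -- transitivity
  have htrans : ∀ ψ ∈ Ψ, finrank ℂ (common ρ A ψ) = d := by
    set O := Ψ.filter fun ψ => ∃ g, ψ = tw g ψ₀ with hO
    have hinv : ∀ g, ∀ v ∈ (⨆ ψ ∈ O, common ρ A ψ : Submodule ℂ V),
        ρ g v ∈ (⨆ ψ ∈ O, common ρ A ψ : Submodule ℂ V) := by
      intro g v hv
      have hle : (⨆ ψ ∈ O, common ρ A ψ : Submodule ℂ V) ≤
          Submodule.comap (ρ g) (⨆ ψ ∈ O, common ρ A ψ) := by
        refine iSup₂_le fun ψ hψ u hu => ?_
        obtain ⟨hψΨ, h, rfl⟩ := Finset.mem_filter.1 hψ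
        rw [Submodule.mem_comap]
        exact Submodule.mem_iSup_of_mem (tw g (tw h ψ₀))
          (Submodule.mem_iSup_of_mem (Finset.mem_filter.2 ⟨htw_mem g _ hψΨ, g * h, (htwm g h ψ₀).symm⟩)
            (mem_common_conj ρ A g hu))
      exact hle hv
    have hψ₀O : ψ₀ ∈ O := Finset.mem_filter.2 ⟨hψ₀, 1, (htw1 ψ₀).symm⟩
    have htop : (⨆ ψ ∈ O, common ρ A ψ : Submodule ℂ V) = ⊤ := (hirr _ hinv).resolve_left fun h =>
      hΨ ψ₀ hψ₀ (le_bot_iff.1 (h ▸ le_iSup₂ (f := fun ψ (_ : ψ ∈ O) => common ρ A ψ) ψ₀ hψ₀O))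
    intro ψ hψ
    obtain ⟨g, hg⟩ : ∃ g, ψ = tw g ψ₀ := by
      by_contra hne
      have h := common_disjoint ρ hU A (Ψ := O) fun h => hne (Finset.mem_filter.1 h).2
      rw [htop, inf_top_eq] at h
      exact hΨ ψ hψ h
    refine le_antisymm ?_ (hg ▸ hdle g ψ₀)
    have h := hdle g⁻¹ ψ
    rwa [hg, ← htwm, inv_mul_cancel, htw1, ← hg] at h
  have hdim : n = Ψ.card * d := by
    have h := finrank_sup ρ hU A Ψ
    rwa [hΨsup, finrank_top, Finset.sum_congr rfl htrans, Finset.sum_const, smul_eq_mul] at h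
  have hd1 : d = 1 := by
    set ww : A := ⟨w, hwA⟩
    have h1 : finrank ℂ (common ρ Z φ₀) = d * (Ψ.filter fun ψ => ψ ww = ζ).card := by
      have e : common ρ Z φ₀ = ⨆ ψ ∈ Ψ.filter (fun ψ => ψ ww = ζ), common ρ A ψ := by
        have hle2 : (⨆ ψ ∈ Ψ.filter (fun ψ => ψ ww = ζ), common ρ A ψ) ≤
            Module.End.eigenspace (ρ w) ζ := iSup₂_le fun ψ hψ v hv =>
          Module.End.mem_eigenspace_iff.2 (by
            rw [← (Finset.mem_filter.1 hψ).2]; exact hv ww)
        have hle3 : (⨆ ψ ∈ Ψ.filter (fun ψ => ¬ ψ ww = ζ), common ρ A ψ) ≤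
            (Module.End.eigenspace (ρ w) ζ)ᗮ := iSup₂_le fun ψ hψ v hv => by
          rw [Submodule.mem_orthogonal]
          intro u hu
          rw [Module.End.mem_eigenspace_iff] at hu
          by_contra hne
          have h := hU w u v
          rw [hu, show ρ w v = ψ ww • v from hv ww, inner_smul_left, inner_smul_right, ← mul_assoc] at h
          have h2 : conj ζ * ψ ww = 1 := mul_right_cancel₀ hne (by rw [h, one_mul])
          have h3 : ζ * conj ζ = 1 := by
            rw [Complex.mul_conj', Complex.norm_eq_one_of_pow_eq_one hζ.pow_eq_one hp.ne_zero]; simp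
          exact (Finset.mem_filter.1 hψ).2 (by
            calc ψ ww = ζ * conj ζ * ψ ww := by rw [h3, one_mul]
              _ = ζ := by rw [mul_assoc, h2, mul_one])
        have hle1 : common ρ Z φ₀ ≤ Module.End.eigenspace (ρ w) ζ := fun v hv =>
          Module.End.mem_eigenspace_iff.2 (by rw [hwev φ₀ hφ₀ v hv, hj])
        have hle4 : Module.End.eigenspace (ρ w) ζ ≤ common ρ Z φ₀ := by
          intro v hv
          rw [Module.End.mem_eigenspace_iff] at hv
          have hmem : v ∈ ⨆ φ ∈ Φ, common ρ Z φ := hsup.symm ▸ Submodule.mem_top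
          rw [Submodule.mem_iSup_finset_iff_exists_sum] at hmem
          obtain ⟨μ, rfl⟩ := hmem
          refine sum_mem fun φ hφ => ?_
          by_cases hne : φ = φ₀
          · subst hne; exact (μ φ).2
          · suffices (μ φ : V) = 0 by rw [this]; exact zero_mem _
            by_contra h0
            have h1 : ⟪(μ φ : V), ρ w (∑ ψ ∈ Φ, (μ ψ : V))⟫_ℂ = ζ * ⟪(μ φ : V), (μ φ : V)⟫_ℂ := by
              rw [hv, inner_smul_right, inner_sum, Finset.sum_eq_single φ]
              · intro ψ _ hψ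
                exact CfsgLib.CharDeep.SmallCommute.inner_eq_zero ρ hU Z hψ.symm (μ φ).2 (μ ψ).2
              · exact fun h => absurd hφ h
            rw [map_sum, inner_sum, Finset.sum_eq_single φ] at h1
            · rw [hwev φ hφ _ (μ φ).2, inner_smul_right, hother φ hφ hne, one_pow] at h1
              exact hζ.ne_one hp.one_lt (mul_right_cancel₀ (fun h => h0 (inner_self_eq_zero.1 h)) h1).symm
            · intro ψ hψ hψne
              rw [hwev ψ hψ _ (μ ψ).2, inner_smul_right,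
                CfsgLib.CharDeep.SmallCommute.inner_eq_zero ρ hU Z hψne.symm (μ φ).2 (μ ψ).2, mul_zero]
            · exact fun h => absurd hφ h
        rw [le_antisymm hle1 hle4]
        refine le_antisymm (fun v hv => ?_) hle2
        have hmem : v ∈ (⨆ ψ ∈ Ψ.filter (fun ψ => ψ ww = ζ), common ρ A ψ) ⊔
            ⨆ ψ ∈ Ψ.filter (fun ψ => ¬ ψ ww = ζ), common ρ A ψ := by
          rw [← Finset.iSup_union, Finset.filter_union_filter_not_eq, hΨsup]
          exact Submodule.mem_top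
        obtain ⟨a, ha, b, hb, rfl⟩ := Submodule.mem_sup.1 hmem
        have hb' : b ∈ Module.End.eigenspace (ρ w) ζ := by
          have := sub_mem hv (hle2 ha)
          simpa using this
        have : b = 0 := inner_self_eq_zero.1
          (Submodule.inner_right_of_mem_orthogonal hb' (hle3 hb))
        rw [this, add_zero]
        exact ha
      rw [e, finrank_sup ρ hU A, Finset.sum_congr rfl fun ψ hψ => htrans ψ (Finset.mem_filter.1 hψ).1,
        Finset.sum_const, smul_eq_mul, mul_comm]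
    rw [hd0] at h1
    rcases (Nat.dvd_prime hp).1 ⟨_, h1⟩ with h | h
    · exact h
    · exfalso
      rw [h] at hdim
      have : Ψ.card < 2 := Nat.lt_of_mul_lt_mul_right (a := p) (by omega)
      rcases (by omega : Ψ.card = 0 ∨ Ψ.card = 1) with h | h <;> rw [h] at hdim <;> omega
  -- the permutation action on the lines
  let π : G →* Equiv.Perm Ψ :=
    { toFun := fun g =>
        { toFun := fun φ => ⟨tw g φ, htw_mem g φ φ.2⟩
          invFun := fun φ => ⟨tw g⁻¹ φ, htw_mem g⁻¹ φ φ.2⟩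
          left_inv := fun φ => Subtype.ext (by show tw g⁻¹ (tw g φ.1) = φ.1; rw [← htwm, inv_mul_cancel, htw1])
          right_inv := fun φ => Subtype.ext (by show tw g (tw g⁻¹ φ.1) = φ.1; rw [← htwm, mul_inv_cancel, htw1]) }
      map_one' := Equiv.ext fun φ => Subtype.ext (htw1 φ)
      map_mul' := fun g h => Equiv.ext fun φ => Subtype.ext (htwm g h φ) }
  have hscal : ∀ g ∈ π.ker, ∀ ψ ∈ Ψ, ∀ v ∈ common ρ A ψ, ∃ t : ℂ, ρ g v = t • v := by
    intro g hg ψ hψ v hv
    have htw : tw g ψ = ψ := congrArg Subtype.val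
      (Equiv.ext_iff.1 (MonoidHom.mem_ker.1 hg) ⟨ψ, hψ⟩)
    have hgv : ρ g v ∈ common ρ A ψ := htw ▸ mem_common_conj ρ A g hv
    rcases eq_or_ne v 0 with rfl | hv0
    · exact ⟨0, by simp⟩
    · obtain ⟨t, ht⟩ := exists_smul_eq_of_finrank_eq_one ((htrans ψ hψ).trans hd1)
        (x := (⟨v, hv⟩ : common ρ A ψ)) (fun h => hv0 (congrArg Subtype.val h)) ⟨ρ g v, hgv⟩
      exact ⟨t, (congrArg Subtype.val ht).symm⟩
  have hKc : ∀ g ∈ π.ker, ∀ h ∈ π.ker, g * h = h * g := by
    intro g hg h hh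
    refine hinj (LinearMap.ext fun v => ?_)
    have hle : (⊤ : Submodule ℂ V) ≤ LinearMap.eqLocus (ρ (g * h)) (ρ (h * g)) := by
      rw [← hΨsup]
      refine iSup₂_le fun ψ hψ u hu => ?_
      obtain ⟨s, hs⟩ := hscal g hg ψ hψ u hu
      obtain ⟨t, ht⟩ := hscal h hh ψ hψ u hu
      show ρ (g * h) u = ρ (h * g) u
      rw [map_mul, map_mul, Module.End.mul_apply, Module.End.mul_apply, ht, map_smul, hs, map_smul,
        ht, smul_smul, smul_smul, mul_comm]
    exact hle (Submodule.mem_top (x := v))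
  -- the Sylow subgroup of the kernel lies in the core
  let S : Sylow p π.ker := default
  haveI hSn : ((S : Subgroup π.ker)).Normal := ⟨fun a ha g => by
    have : g * a * g⁻¹ = a := by
      rw [mul_inv_eq_iff_eq_mul]
      exact Subtype.ext (hKc g g.2 a a.2)
    rwa [this]⟩
  haveI : ((S : Subgroup π.ker)).Characteristic := S.characteristic_of_normal hSn
  have hle : (S : Subgroup π.ker).map π.ker.subtype ≤ Cfsg.pCore p G :=
    le_sSup ⟨ConjAct.normal_of_characteristic_of_normal, S.2.map _⟩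
  intro hdiv
  have hdiv2 := hdiv.trans (Subgroup.index_dvd_of_le hle)
  rw [Subgroup.index_map, MonoidHom.ker_eq_bot_iff π.ker.subtype |>.2 Subtype.val_injective,
    sup_bot_eq, Subgroup.range_subtype, Subgroup.index_ker] at hdiv2
  have h1 : Nat.card π.range ∣ (Ψ.card).factorial := by
    have := Subgroup.card_subgroup_dvd_card π.range
    rwa [Nat.card_eq_fintype_card (α := Equiv.Perm Ψ), Fintype.card_perm, Fintype.card_coe] at this
  have h2 : p ^ 2 ∣ (Ψ.card).factorial := by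
    refine ((Nat.Coprime.pow_left 2 ?_).dvd_of_dvd_mul_left hdiv2).trans h1
    exact hp.coprime_iff_not_dvd.2 S.not_dvd_index
  have h3 := (hp.pow_dvd_factorial_iff (n := Ψ.card) (b := Nat.log p Ψ.card + 1)
    (Nat.lt_succ_self _)).1 h2
  have hΨn : Ψ.card = n := by rw [hdim, hd1, mul_one]
  have hlog : Nat.log p Ψ.card = 1 := Nat.log_eq_of_pow_le_of_lt_pow (by rw [pow_one]; omega)
    (by rw [sq]; calc Ψ.card < 2 * p := hΨn ▸ hn2
          _ ≤ p * p := Nat.mul_le_mul_right p hp.two_le)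
  rw [hlog, show Finset.Ico 1 (1 + 1) = {1} by rfl, Finset.sum_singleton, pow_one] at h3
  have : Ψ.card / p < 2 := (Nat.div_lt_iff_lt_mul hp.pos).2 (by omega)
  omega

omit [Finite G] [FiniteDimensional ℂ V] hU in
theorem unitary_data [Fintype G] (χ : Cfsg.IrrCharacter G)
    (hfaith : ∀ g : G, (χ : G → ℂ) g = (χ : G → ℂ) 1 → g = 1) :
    ∃ (m : ℕ) (W : Submodule ℂ (EuclideanSpace ℂ (G × Fin m))) (σ : Representation ℂ G W),
      (∀ g v w, ⟪σ g v, σ g w⟫_ℂ = ⟪v, w⟫_ℂ) ∧ Function.Injective σ ∧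
      (∀ U : Submodule ℂ W, (∀ g, ∀ v ∈ U, σ g v ∈ U) → U = ⊥ ∨ U = ⊤) ∧
      (finrank ℂ W : ℂ) = (χ : G → ℂ) 1 := by
  obtain ⟨n, ρ, hρ, he⟩ := χ.2
  haveI := hρ
  let ι : (Fin n → ℂ) →ₗ[ℂ] EuclideanSpace ℂ (G × Fin n) :=
    { toFun := fun v => WithLp.toLp 2 fun p => ρ p.1 v p.2
      map_add' := fun v w => by ext p; simp
      map_smul' := fun z v => by ext p; simp }
  have hι : Function.Injective ι := fun v w e => by
    funext i
    have := congrArg (fun F : EuclideanSpace ℂ (G × Fin n) => F (1, i)) e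
    simpa [ι] using this
  let e := LinearEquiv.ofInjective ι hι
  let σ : Representation ℂ G (LinearMap.range ι) :=
    { toFun := fun g => e.conj (ρ g)
      map_one' := by rw [map_one]; exact e.conj_id
      map_mul' := fun a b => by rw [map_mul]; exact LinearEquiv.conj_comp e (ρ b) (ρ a) }
  refine ⟨n, LinearMap.range ι, σ, fun g v w => ?_, fun a b hab => ?_, fun U hUi => ?_, ?_⟩
  · obtain ⟨v, rfl⟩ := e.surjective v
    obtain ⟨w, rfl⟩ := e.surjective w
    show ⟪e.conj (ρ g) (e v), e.conj (ρ g) (e w)⟫_ℂ = _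
    rw [LinearEquiv.conj_apply_apply, LinearEquiv.conj_apply_apply, e.symm_apply_apply,
      e.symm_apply_apply, Submodule.coe_inner, Submodule.coe_inner, PiLp.inner_apply,
      PiLp.inner_apply]
    refine Fintype.sum_equiv ((Equiv.mulRight g).prodCongr (Equiv.refl _)) _ _ fun p => ?_
    simp [e, ι]
  · have h1 : ρ a = ρ b := e.conj.injective hab
    refine inv_mul_eq_one.1 (hfaith _ ?_)
    rw [← congrFun he, ← congrFun he, Representation.character, map_mul, ← h1, ← map_mul,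
      inv_mul_cancel]
    rfl
  · let T : Subrepresentation ρ :=
      ⟨U.comap (e : (Fin n → ℂ) →ₗ[ℂ] LinearMap.range ι), fun g v hv => by
        have := hUi g _ (Submodule.mem_comap.1 hv)
        simpa [σ, LinearEquiv.conj_apply_apply] using this⟩
    rcases eq_bot_or_eq_top T with h | h
    · left
      rw [eq_bot_iff]
      intro v hv
      obtain ⟨u, rfl⟩ := e.surjective v
      have hu : u ∈ T.toSubmodule := hv
      rw [h] at hu
      change u ∈ (⊥ : Submodule ℂ (Fin n → ℂ)) at hu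
      rw [(Submodule.mem_bot ℂ).1 hu, map_zero]
      exact Submodule.zero_mem _
    · right
      rw [eq_top_iff]
      intro v _
      obtain ⟨u, rfl⟩ := e.surjective v
      have hu : u ∈ T.toSubmodule := by rw [h]; exact Submodule.mem_top
      exact hu
  · rw [← congrFun he, Representation.char_one, ← e.finrank_eq, finrank_fin_fun]

end Helpers


/-- Let p ≥ 7 be a prime and let the finite group G have a faithful irreducible character of degree n with n < 2p and n ≠ p. If the Sylow p-subgroups of G are non-abelian then p² does not divide the index of O_p(G) in G; consequently, in every case G/O_p(G) has abelian Sylow p-subgroups. -/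
theorem result {G : Type*} [Group G] [Finite G] (χ : Cfsg.IrrCharacter G) (hfaith : ∀ g : G, (χ : G → ℂ) g = (χ : G → ℂ) 1 → g = 1) (n : ℕ) (hn : Cfsg.charDegree (χ : G → ℂ) = n) (p : ℕ) (hp : p.Prime) (h7 : 7 ≤ p) (hn2 : n < 2 * p) (hnp : n ≠ p) : ((∃ P : Sylow p G, ∃ x ∈ (P : Subgroup G), ∃ y ∈ (P : Subgroup G), x * y ≠ y * x) → ¬ p ^ 2 ∣ (Cfsg.pCore p G).index) ∧ ∀ Q : Sylow p (G ⧸ Cfsg.pCore p G), ∀ x ∈ (Q : Subgroup (G ⧸ Cfsg.pCore p G)), ∀ y ∈ (Q : Subgroup (G ⧸ Cfsg.pCore p G)), x * y = y * x := by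
  cases nonempty_fintype G
  haveI := Fact.mk hp
  obtain ⟨m, W, σ, hU, hinj, hirr, hdim⟩ := unitary_data χ hfaith
  have hfr : Module.finrank ℂ W = n := by
    rw [CfsgLib.Blocks.irr_one_eq χ, hn] at hdim
    exact_mod_cast hdim
  have key : (∃ P : Sylow p G, ∃ x ∈ (P : Subgroup G), ∃ y ∈ (P : Subgroup G), x * y ≠ y * x) →
      ¬ p ^ 2 ∣ (Cfsg.pCore p G).index := by
    rintro ⟨P, x, hx, y, hy, hxy⟩
    exact main (V := ↥W) σ hU hp h7 hinj hirr (by rw [hfr]; exact hn2) (by rw [hfr]; exact hnp) P hx hy hxy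
  refine ⟨key, fun Q x hx y hy => ?_⟩
  by_cases hnab : ∃ P : Sylow p G, ∃ x ∈ (P : Subgroup G), ∃ y ∈ (P : Subgroup G), x * y ≠ y * x
  · obtain ⟨k, hk⟩ := Q.2.exists_card_eq
    have hk2 : k < 2 := by
      by_contra h
      refine key hnab ((pow_dvd_pow p (not_lt.1 h)).trans ?_)
      rw [← hk, Subgroup.index_eq_card]
      exact Subgroup.card_subgroup_dvd_card _
    haveI : IsCyclic (Q : Subgroup (G ⧸ Cfsg.pCore p G)) := by
      rcases (by omega : k = 0 ∨ k = 1) with rfl | rfl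
      · haveI : Subsingleton (Q : Subgroup (G ⧸ Cfsg.pCore p G)) :=
          Finite.card_le_one_iff_subsingleton.1 (by rw [hk, pow_zero])
        infer_instance
      · exact isCyclic_of_prime_card (p := p) (by rw [hk, pow_one])
    obtain ⟨g, hg⟩ := IsCyclic.exists_generator (α := (Q : Subgroup (G ⧸ Cfsg.pCore p G)))
    obtain ⟨i, hi⟩ := Subgroup.mem_zpowers_iff.1 (hg ⟨x, hx⟩)
    obtain ⟨j, hj⟩ := Subgroup.mem_zpowers_iff.1 (hg ⟨y, hy⟩)
    have h := ((Commute.refl g).zpow_zpow i j).eq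
    rw [hi, hj] at h
    exact congrArg Subtype.val h
  · push Not at hnab
    obtain ⟨P, hP⟩ := Sylow.mapSurjective_surjective (f := QuotientGroup.mk' (Cfsg.pCore p G))
      (QuotientGroup.mk'_surjective _) p Q
    rw [← hP] at hx hy
    obtain ⟨a, ha, rfl⟩ := hx
    obtain ⟨b, hb, rfl⟩ := hy
    rw [← map_mul, ← map_mul, hnab P a ha b hb]

end Cfsg.Agent.S4471
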