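import Cfsg.Statements.S4474
import Cfsg.Agent.Lib.CharDeep.BilinearForm
import Cfsg.Agent.Lib.CharDeep.IrrTools
import Mathlib.Analysis.Matrix.PosDef

set_option autoImplicit false
open Cfsg
open CfsgLib.CharDeep Module Matrix
open scoped ComplexConjugate ComplexOrder

namespace Cfsg.Agent.S4474

/-- Let χ be an irreducible character of the finite group G. Then the Frobenius–Schur indicator of χ (the average over s ∈ G of χ(s²)) equals 1 if and only if χ is afforded by a real representation: there is a representation of G on a real coordinate space whose trace function, viewed in ℂ, is χ. -/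
theorem result {G : Type*} [Group G] [Fintype G] (χ : Cfsg.IrrCharacter G) : ((Nat.card G : ℂ)⁻¹ * ∑ s : G, (χ : G → ℂ) (s * s)) = 1 ↔ ∃ (n : ℕ) (ρ : Representation ℝ G (Fin n → ℝ)), ∀ g : G, ((LinearMap.trace ℝ (Fin n → ℝ) (ρ g) : ℝ) : ℂ) = (χ : G → ℂ) g := by
  classical
  obtain ⟨χ, hχ⟩ := χ
  dsimp only
  constructor
  swap
  · rintro ⟨m, σ, hσ⟩
    refine BilinearForm.indicator_of_real_hom hχ
      { toFun := fun g => LinearMap.toMatrix' (σ g)
        map_one' := by rw [map_one]; exact LinearMap.toMatrix'_one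
        map_mul' := fun g h => by rw [map_mul]; exact LinearMap.toMatrix'_mul _ _ } fun g => ?_
    rw [← hσ g, LinearMap.trace_eq_matrix_trace ℝ (Pi.basisFun ℝ (Fin m)),
      LinearMap.toMatrix_eq_toMatrix']
    rfl
  intro hν
  obtain ⟨n, ρ, hρ, hc⟩ := hχ
  subst hc
  have : ρ.IsIrreducible := hρ
  have hreal : ∀ g, (ρ.character g).im = 0 := by
    intro g
    by_contra hg
    have h0 := (CfsgLib.Char.frobeniusSchur ρ).2.2 ⟨g, hg⟩
    rw [hν] at h0
    exact one_ne_zero h0
  let M := BilinearForm.matrixHom ρ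
  have hform := BilinearForm.invariant_form M (by
    simp only [M, BilinearForm.trace_matrixHom]
    exact BilinearForm.classInner_conj (CfsgLib.Char.isIrrCharacter_of_rep ρ) hreal)
  simp only [M, BilinearForm.trace_matrixHom, hν, one_smul] at hform
  obtain ⟨⟨X, hX0, hXinv⟩, hsym⟩ := hform
  have hXt : X.transpose = X := hsym X hXinv
  have hMv : ∀ g v, M g *ᵥ v = ρ g v := fun g v => LinearMap.toMatrix'_mulVec (ρ g) v
  have hXM : ∀ g, X * M g = (M g⁻¹).transpose * X := fun g => by
    have h := hXinv g⁻¹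
    change (M g⁻¹).transpose * X * M g⁻¹ = X at h
    calc X * M g = (M g⁻¹).transpose * X * M g⁻¹ * M g := by rw [h]
      _ = (M g⁻¹).transpose * X := by rw [mul_assoc _ (M g⁻¹), ← map_mul, inv_mul_cancel, map_one,
            mul_one]
  have hXinj : ∀ v, X *ᵥ v = 0 → v = 0 := by
    intro v hv
    rcases IrrTools.eq_bot_or_top_of_invariant ρ (LinearMap.ker X.mulVecLin)
      (fun g w hw => by
        rw [LinearMap.mem_ker, Matrix.mulVecLin_apply] at hw ⊢
        rw [← hMv, mulVec_mulVec, hXM, ← mulVec_mulVec, hw, mulVec_zero]) with h | h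
    · have hmem : v ∈ LinearMap.ker X.mulVecLin := hv
      rw [h] at hmem
      exact hmem
    · refine absurd ?_ hX0
      ext i j
      have h1 : Pi.single j (1 : ℂ) ∈ LinearMap.ker X.mulVecLin := h ▸ Submodule.mem_top
      have h2 := congrFun h1 i
      simpa using h2
  set H : Matrix (Fin n) (Fin n) ℂ := ∑ x, (M x)ᴴ * M x with hH
  have hHpd : H.PosDef := by
    rw [hH, ← Finset.add_sum_erase _ _ (Finset.mem_univ 1), map_one, conjTranspose_one, mul_one]
    exact Matrix.PosDef.one.add_posSemidef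
      (Matrix.posSemidef_sum _ fun x _ => Matrix.posSemidef_conjTranspose_mul_self (M x))
  have hHM : ∀ g, H * M g = (M g⁻¹)ᴴ * H := fun g => by
    rw [hH, Finset.sum_mul, Finset.mul_sum]
    refine Fintype.sum_equiv (Equiv.mulRight g) _ _ fun x => ?_
    rw [← mul_assoc (M g⁻¹)ᴴ, ← conjTranspose_mul, ← map_mul, mul_assoc, ← map_mul]
    simp
  have hHu : IsUnit H.det := (Matrix.isUnit_iff_isUnit_det H).1 hHpd.isUnit
  have hHMi : ∀ g, H⁻¹ * (M g⁻¹)ᴴ = M g * H⁻¹ := fun g => by
    calc H⁻¹ * (M g⁻¹)ᴴ = H⁻¹ * ((M g⁻¹)ᴴ * H) * H⁻¹ := by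
          rw [mul_assoc, mul_assoc, Matrix.mul_nonsing_inv H hHu, mul_one]
      _ = M g * H⁻¹ := by rw [← hHM, ← mul_assoc, Matrix.nonsing_inv_mul H hHu, one_mul]
  have hstar : ∀ (A : Matrix (Fin n) (Fin n) ℂ) (v : Fin n → ℂ),
      star (A *ᵥ v) = Aᴴ.transpose *ᵥ star v := fun A v => by
    rw [star_mulVec, mulVec_transpose]
  let J : (Fin n → ℂ) → (Fin n → ℂ) := fun v => H⁻¹ *ᵥ star (X *ᵥ v)
  have hJM : ∀ g v, J (ρ g v) = ρ g (J v) := fun g v => by
    simp only [J, ← hMv]
    rw [mulVec_mulVec v X (M g), hXM, ← mulVec_mulVec v (M g⁻¹).transpose X,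
      hstar (M g⁻¹).transpose, mulVec_mulVec,
      show ((M g⁻¹).transposeᴴ).transpose = (M g⁻¹)ᴴ from by ext i j; simp, hHMi, ← mulVec_mulVec]
  set L : Matrix (Fin n) (Fin n) ℂ := H⁻¹ * (Xᴴ * (H⁻¹.transpose * X)) with hL
  have hJJ : ∀ v, J (J v) = L *ᵥ v := fun v => by
    simp only [J]
    rw [hstar X (H⁻¹ *ᵥ _), hstar H⁻¹, star_star, hHpd.isHermitian.inv.eq,
      show Xᴴ.transpose = Xᴴ from by rw [← conjTranspose_transpose_eq_transpose_conjTranspose, hXt],
      hL, mulVec_mulVec, mulVec_mulVec, mulVec_mulVec]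
    simp only [mul_assoc]
  obtain ⟨c, hc⟩ := IrrTools.exists_smul_of_commute ρ (Matrix.toLin' L) fun g =>
    LinearMap.ext fun v => by
      simp only [Module.End.mul_apply, Matrix.toLin'_apply]
      rw [← hJJ, ← hJJ, hJM, hJM]
  have hLc : L = c • (1 : Matrix (Fin n) (Fin n) ℂ) := by
    refine Matrix.toLin'.injective ?_
    rw [hc, map_smul, Matrix.toLin'_one]
    rfl
  rcases Nat.eq_zero_or_pos n with rfl | hn
  · exfalso
    have h1 := CfsgLib.Char.IsIrrCharacter.apply_one_ne_zero (CfsgLib.Char.isIrrCharacter_of_rep ρ)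
    simp at h1
  have hP : (Xᴴ * (H⁻¹.transpose * X)).PosDef := by
    rw [← mul_assoc]
    refine hHpd.inv.transpose.conjTranspose_mul_mul_same ?_
    intro v w hvw
    refine sub_eq_zero.1 (hXinj _ ?_)
    rw [mulVec_sub, sub_eq_zero]
    exact hvw
  have hcH : Xᴴ * (H⁻¹.transpose * X) = c • H := by
    calc Xᴴ * (H⁻¹.transpose * X) = H * L := by
          rw [hL, Matrix.mul_nonsing_inv_cancel_left H _ hHu]
      _ = c • H := by rw [hLc, mul_smul_comm, mul_one]
  have hd1 := hP.diag_pos (i := ⟨0, hn⟩)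
  have hd2 := hHpd.diag_pos (i := ⟨0, hn⟩)
  rw [hcH, Matrix.smul_apply, smul_eq_mul] at hd1
  rw [Complex.lt_def, Complex.zero_re, Complex.zero_im] at hd1 hd2
  have hcim : c.im = 0 := by
    have h := hd1.2
    rw [Complex.mul_im, ← hd2.2, mul_zero, zero_add] at h
    exact (mul_eq_zero.1 h.symm).resolve_right hd2.1.ne'
  have hcre : 0 < c.re := by
    have h := hd1.1
    rw [Complex.mul_re, ← hd2.2, mul_zero, sub_zero] at h
    exact (mul_pos_iff_of_pos_right hd2.1).1 h
  have hJsmul : ∀ (a : ℂ) v, J (a • v) = conj a • J v := fun a v => by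
    simp only [J]
    rw [mulVec_smul, star_smul, mulVec_smul]
    rfl
  let s : ℝ := (Real.sqrt c.re)⁻¹
  let K : (Fin n → ℂ) →ₗ[ℝ] (Fin n → ℂ) :=
    { toFun := fun v => (s : ℂ) • J v
      map_add' := fun v w => by simp [J, mulVec_add, smul_add]
      map_smul' := fun a v => by
        rw [← Complex.coe_smul, hJsmul, Complex.conj_ofReal, smul_comm, RingHom.id_apply,
          Complex.coe_smul a] }
  have hKK : ∀ v, K (K v) = v := fun v => by
    show (s : ℂ) • J ((s : ℂ) • J v) = v
    rw [hJsmul, Complex.conj_ofReal, hJJ, hLc, Matrix.smul_mulVec, one_mulVec, smul_smul,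
      smul_smul]
    have hc' : c = (c.re : ℂ) := Complex.ext rfl (by simpa using hcim)
    rw [hc', ← Complex.ofReal_mul, ← Complex.ofReal_mul, show s * s * c.re = 1 by
      simp only [s]
      rw [← mul_inv, Real.mul_self_sqrt hcre.le, inv_mul_cancel₀ hcre.ne'],
      Complex.ofReal_one, one_smul]
  have hKsmul : ∀ (a : ℂ) v, K (a • v) = conj a • K v := fun a v => by
    show (s : ℂ) • J (a • v) = conj a • ((s : ℂ) • J v)
    rw [hJsmul, smul_comm]
  have hKρ : ∀ g v, K (ρ g v) = ρ g (K v) := fun g v => by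
    show (s : ℂ) • J (ρ g v) = ρ g ((s : ℂ) • J v)
    rw [hJM, map_smul]
  let W : Submodule ℝ (Fin n → ℂ) := LinearMap.eqLocus K LinearMap.id
  have hW : ∀ v, v ∈ W ↔ K v = v := fun v => Iff.rfl
  have hWρ : ∀ g, ∀ v ∈ W, (ρ g).restrictScalars ℝ v ∈ W := fun g v hv => by
    rw [hW] at hv ⊢
    rw [LinearMap.restrictScalars_apply, hKρ, hv]
  let b := Module.finBasis ℝ W
  have hli : LinearIndependent ℂ fun i => (b i : Fin n → ℂ) := by
    rw [Fintype.linearIndependent_iff]
    intro a ha
    have hconj : ∑ i, conj (a i) • (b i : Fin n → ℂ) = 0 := by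
      have h := congrArg K ha
      rw [map_sum, map_zero] at h
      simpa only [hKsmul, (hW _).1 (b _).2] using h
    have hre : ∑ i, ((a i).re : ℂ) • (b i : Fin n → ℂ) = 0 := by
      have h : ∑ i, (a i + conj (a i)) • (b i : Fin n → ℂ) = 0 := by
        simp only [add_smul, Finset.sum_add_distrib, ha, hconj, add_zero]
      simp only [Complex.add_conj, Complex.ofReal_mul, ← smul_smul, ← Finset.smul_sum] at h
      exact (smul_eq_zero.1 h).resolve_left (by norm_num)
    have him : ∑ i, ((a i).im : ℂ) • (b i : Fin n → ℂ) = 0 := by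
      have h : ∑ i, (a i - conj (a i)) • (b i : Fin n → ℂ) = 0 := by
        simp only [sub_smul, Finset.sum_sub_distrib, ha, hconj, sub_zero]
      simp only [Complex.sub_conj, Complex.ofReal_mul, mul_comm _ Complex.I, ← smul_smul,
        ← Finset.smul_sum] at h
      have h2 := (smul_eq_zero.1 h).resolve_left Complex.I_ne_zero
      exact (smul_eq_zero.1 h2).resolve_left (by norm_num)
    intro i
    have key : ∀ r : Fin (Module.finrank ℝ W) → ℝ,
        ∑ i, ((r i : ℝ) : ℂ) • (b i : Fin n → ℂ) = 0 → r i = 0 := by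
      intro r hr
      have h := Fintype.linearIndependent_iff.1 b.linearIndependent r (Subtype.ext (by
        rw [Submodule.coe_sum, Submodule.coe_zero, ← hr]
        exact Finset.sum_congr rfl fun j _ => by rw [Submodule.coe_smul, Complex.coe_smul]))
      exact h i
    exact Complex.ext (key _ hre) (key _ him)
  have hspan : ⊤ ≤ Submodule.span ℂ (Set.range fun i => (b i : Fin n → ℂ)) := by
    intro v _
    have hmem : ∀ w ∈ W, w ∈ Submodule.span ℂ (Set.range fun i => (b i : Fin n → ℂ)) := by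
      intro w hw
      have h := congrArg Subtype.val (b.sum_repr ⟨w, hw⟩)
      rw [Submodule.coe_sum] at h
      show ((⟨w, hw⟩ : W) : Fin n → ℂ) ∈ _
      rw [← h]
      refine Submodule.sum_mem _ fun i _ => ?_
      rw [Submodule.coe_smul, ← Complex.coe_smul]
      exact Submodule.smul_mem _ _ (Submodule.subset_span ⟨i, rfl⟩)
    have h1 : v + K v ∈ W := by rw [hW, map_add, hKK, add_comm]
    have h2 : Complex.I • (v - K v) ∈ W := by
      rw [hW, hKsmul, Complex.conj_I, map_sub, hKK, neg_smul, ← smul_neg, neg_sub]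
    have h3 : v = (2 : ℂ)⁻¹ • ((v + K v) + (-Complex.I) • (Complex.I • (v - K v))) := by
      rw [smul_smul, neg_mul, Complex.I_mul_I, neg_neg, one_smul, add_add_sub_cancel, ← two_smul ℂ,
        smul_smul, inv_mul_cancel₀ two_ne_zero, one_smul]
    rw [h3]
    exact Submodule.smul_mem _ _ (Submodule.add_mem _ (hmem _ h1)
      (Submodule.smul_mem _ _ (hmem _ h2)))
  let bC := Basis.mk hli hspan
  let σ : Representation ℝ G W :=
    { toFun := fun g => ((ρ g).restrictScalars ℝ).restrict (hWρ g)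
      map_one' := LinearMap.ext fun v => Subtype.ext (by simp)
      map_mul' := fun g h => LinearMap.ext fun v => Subtype.ext (by simp) }
  refine ⟨Module.finrank ℝ W,
    { toFun := fun g => b.equivFun.conj (σ g)
      map_one' := by rw [map_one]; exact b.equivFun.conj_id
      map_mul' := fun g h => by ext x; simp [LinearEquiv.conj_apply] }, fun g => ?_⟩
  show ((LinearMap.trace ℝ _ (b.equivFun.conj (σ g)) : ℝ) : ℂ) = LinearMap.trace ℂ _ (ρ g)
  rw [LinearMap.trace_conj', LinearMap.trace_eq_matrix_trace ℝ b,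
    LinearMap.trace_eq_matrix_trace ℂ bC, Matrix.trace, Matrix.trace, Complex.ofReal_sum]
  refine Finset.sum_congr rfl fun j _ => ?_
  have hexp : ρ g (bC j) = ∑ i, ((b.repr (σ g (b j)) i : ℝ) : ℂ) • bC i := by
    simp only [bC, Basis.mk_apply]
    have h := congrArg Subtype.val (b.sum_repr (σ g (b j)))
    rw [Submodule.coe_sum] at h
    simp only [Submodule.coe_smul, ← Complex.coe_smul] at h
    exact h.symm
  rw [Matrix.diag_apply, Matrix.diag_apply, LinearMap.toMatrix_apply, LinearMap.toMatrix_apply,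
    hexp, Basis.repr_sum_self]

end Cfsg.Agent.S4474
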