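import Cfsg.Statements.S4476
import Cfsg.Agent.Lib.Char.FS
import Cfsg.Agent.Lib.Frobenius.SquareRoots
import Cfsg.Agent.Lib.DegreeTools.Basic
import Cfsg.Agent.Lib.Char.Integral
import Cfsg.Agent.Lib.Char.Linear

set_option autoImplicit false
open Cfsg
open CfsgLib
open scoped ComplexConjugate

namespace Cfsg.Agent.S4476

/-- Let G be a finite group of even order g with exactly t involutions, and put α = (g − 1)/t (a rational number). Then (a) some non-identity element x of G has at most α² conjugates; and (b) some non-principal real-valued irreducible character of G has degree at most α. -/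
theorem result {G : Type*} [Group G] [Fintype G] (heven : Even (Nat.card G)) (t : ℕ) (ht : Nat.card {x : G // orderOf x = 2} = t) : (∃ x : G, x ≠ 1 ∧ ((Subgroup.centralizer ({x} : Set G)).index : ℚ) ≤ (((Nat.card G : ℚ) - 1) / t) ^ 2) ∧ ∃ χ : Cfsg.IrrCharacter G, (χ : G → ℂ) ≠ (fun _ => 1) ∧ (∀ g : G, ((χ : G → ℂ) g).im = 0) ∧ (Cfsg.charDegree (χ : G → ℂ) : ℚ) ≤ ((Nat.card G : ℚ) - 1) / t := by
  classical
  have hone : Cfsg.IsIrrCharacter G (fun _ => 1 : G → ℂ) :=
    Char.isIrrCharacter_one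
  let e : Cfsg.IrrCharacter G := ⟨_, hone⟩
  let d : Cfsg.IrrCharacter G → ℕ := fun χ => Cfsg.charDegree (χ : G → ℂ)
  have hd : ∀ χ : Cfsg.IrrCharacter G, (χ : G → ℂ) 1 = d χ := fun χ =>
    (DegreeTools.charDegree_cast (Char.isCharacter_irr χ)).symm
  have hde : d e = 1 := by
    have h := hd e
    simpa [e] using h.symm
  have hν : ∀ χ : Cfsg.IrrCharacter G,
      ‖(Nat.card G : ℂ)⁻¹ * ∑ g : G, (χ : G → ℂ) (g ^ 2)‖ ≤ 1 ∧
      ((∃ s, ((χ : G → ℂ) s).im ≠ 0) →
        (Nat.card G : ℂ)⁻¹ * ∑ g : G, (χ : G → ℂ) (g ^ 2) = 0) := by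
    rintro ⟨χ, n, ρ, hρ, rfl⟩
    have : ρ.IsIrreducible := hρ
    obtain ⟨h3, h0⟩ := Char.frobeniusSchur ρ
    simp only [sq]
    refine ⟨?_, h0.2⟩
    rcases h3 with h | h | h <;> rw [h] <;> simp
  set R : Finset (Cfsg.IrrCharacter G) :=
    Finset.univ.filter fun χ => χ ≠ e ∧ ∀ g, ((χ : G → ℂ) g).im = 0 with hR
  have hts : Nat.card {x : G // x ^ 2 = 1} = t + 1 := by
    rw [← ht, Nat.card_eq_fintype_card, Nat.card_eq_fintype_card, Fintype.card_subtype,
      Fintype.card_subtype]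
    have : (Finset.univ.filter fun x : G => x ^ 2 = 1) =
        insert 1 (Finset.univ.filter fun x : G => orderOf x = 2) := by
      ext x
      rcases eq_or_ne x 1 with rfl | hx
      · simp
      · simp [hx, orderOf_eq_prime_iff]
    rw [this, Finset.card_insert_of_notMem (by simp)]
  have htpos : 0 < t := by
    obtain ⟨x, hx⟩ := exists_prime_orderOf_dvd_card' 2 (even_iff_two_dvd.1 heven)
    rw [← ht, Nat.card_pos_iff]
    exact ⟨⟨⟨x, hx⟩⟩, inferInstance⟩
  have hle : t ≤ ∑ χ ∈ R, d χ := by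
    have h := Frobenius.SquareRoots.card_square_roots (G := G)
    rw [hts, ← Finset.add_sum_erase _ _ (Finset.mem_univ e)] at h
    have he : conj ((Nat.card G : ℂ)⁻¹ * ∑ g : G, (e : G → ℂ) (g ^ 2)) * (e : G → ℂ) 1 = 1 := by
      simp [e, Nat.card_eq_fintype_card]
    rw [he, Nat.cast_add, Nat.cast_one, add_comm, add_right_inj] at h
    have h2 : ((t : ℕ) : ℝ) ≤ ∑ χ ∈ R, (d χ : ℝ) := by
      rw [← Complex.norm_natCast t, h]
      refine (norm_sum_le _ _).trans ?_
      rw [← Finset.sum_subset (s₁ := R) (s₂ := Finset.univ.erase e)]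
      · refine Finset.sum_le_sum fun χ _ => ?_
        rw [norm_mul, Complex.norm_conj, hd χ, Complex.norm_natCast]
        exact mul_le_of_le_one_left (Nat.cast_nonneg _) (hν χ).1
      · intro χ hχ
        exact Finset.mem_erase.2 ⟨(Finset.mem_filter.1 hχ).2.1, Finset.mem_univ _⟩
      · intro χ hχ hχ'
        have hne := (Finset.mem_erase.1 hχ).1
        have : ∃ s, ((χ : G → ℂ) s).im ≠ 0 := by
          by_contra hs
          push Not at hs
          exact hχ' (Finset.mem_filter.2 ⟨Finset.mem_univ _, hne, hs⟩)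
        rw [(hν χ).2 this]
        simp
    exact_mod_cast h2
  have hsq : ∑ χ ∈ Finset.univ.erase e, d χ ^ 2 + 1 = Nat.card G := by
    have h := Char.sum_sq_apply_one (G := G)
    simp only [hd] at h
    have h2 : ∑ χ, d χ ^ 2 = Nat.card G := by exact_mod_cast h
    rw [← h2, ← Finset.sum_erase_add _ _ (Finset.mem_univ e), hde, one_pow]
  have hsub : R ⊆ Finset.univ.erase e := fun χ hχ =>
    Finset.mem_erase.2 ⟨(Finset.mem_filter.1 hχ).2.1, Finset.mem_univ _⟩
  have hsqR : ∑ χ ∈ R, d χ ^ 2 + 1 ≤ Nat.card G := by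
    rw [← hsq]
    exact Nat.add_le_add_right (Finset.sum_le_sum_of_subset hsub) 1
  have hg : ((Nat.card G : ℚ) - 1) = ((Nat.card G - 1 : ℕ) : ℚ) := by
    rw [Nat.cast_sub Nat.card_pos, Nat.cast_one]
  have htq : (0 : ℚ) < t := Nat.cast_pos.2 htpos
  refine ⟨?_, ?_⟩
  · by_contra hcon
    push Not at hcon
    have hmain : t ^ 2 ≤ (Nat.card (ConjClasses G) - 1) * (Nat.card G - 1) := by
      calc t ^ 2 ≤ (∑ χ ∈ Finset.univ.erase e, d χ) ^ 2 :=
            Nat.pow_le_pow_left (hle.trans (Finset.sum_le_sum_of_subset hsub)) 2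
        _ ≤ (Finset.univ.erase e).card * ∑ χ ∈ Finset.univ.erase e, d χ ^ 2 :=
            sq_sum_le_card_mul_sum_sq
        _ = _ := by
          rw [Finset.card_erase_of_mem (Finset.mem_univ e), Finset.card_univ,
            ← Nat.card_eq_fintype_card, Char.card_irrCharacter,
            show ∑ χ ∈ Finset.univ.erase e, d χ ^ 2 = Nat.card G - 1 by omega]
    set S : Finset (ConjClasses G) := Finset.univ.erase (ConjClasses.mk 1) with hS
    have hcard : S.card = Nat.card (ConjClasses G) - 1 := by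
      rw [hS, Finset.card_erase_of_mem (Finset.mem_univ _), Finset.card_univ,
        Nat.card_eq_fintype_card]
    have hsum : ∑ c ∈ S, Nat.card {x : G // ConjClasses.mk x = c} = Nat.card G - 1 := by
      have h1 : ∑ c : ConjClasses G, Nat.card {x : G // ConjClasses.mk x = c} = Nat.card G := by
        rw [← Nat.card_sigma]
        exact Nat.card_congr (Equiv.sigmaFiberEquiv _)
      have h2 : Nat.card {x : G // ConjClasses.mk x = ConjClasses.mk 1} = 1 := by
        rw [Nat.card_eq_one_iff_unique]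
        refine ⟨⟨fun a b => Subtype.ext ?_⟩, ⟨⟨1, rfl⟩⟩⟩
        have ha := ConjClasses.mk_eq_mk_iff_isConj.1 a.2
        have hb := ConjClasses.mk_eq_mk_iff_isConj.1 b.2
        rw [isConj_one_right.1 ha.symm, isConj_one_right.1 hb.symm]
      rw [← h1, ← Finset.sum_erase_add _ _ (Finset.mem_univ (ConjClasses.mk 1)), h2, hS]
      omega
    have hbig : ∀ c ∈ S, ((((Nat.card G - 1 : ℕ) : ℚ)) / t) ^ 2 <
        (Nat.card {x : G // ConjClasses.mk x = c} : ℚ) := by
      intro c hc
      obtain ⟨x, rfl⟩ := ConjClasses.exists_rep c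
      have hx : x ≠ 1 := fun h => (Finset.mem_erase.1 hc).1 (by rw [h])
      have h := hcon x hx
      rw [hg, ← Char.card_isConj_eq_index] at h
      refine h.trans_eq ?_
      rw [Nat.card_congr (Equiv.subtypeEquivRight fun y => ?_)]
      exact ConjClasses.mk_eq_mk_iff_isConj.symm
    have hne : S.Nonempty := by
      rw [← Finset.card_pos, hcard]
      by_contra h0
      have : Nat.card (ConjClasses G) - 1 = 0 := by omega
      rw [this, zero_mul] at hmain
      exact absurd hmain (Nat.not_le.2 (pow_pos htpos 2))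
    have hlt := Finset.sum_lt_sum_of_nonempty hne hbig
    rw [Finset.sum_const, nsmul_eq_mul, hcard, ← Nat.cast_sum, hsum] at hlt
    rw [div_pow, mul_div_assoc', div_lt_iff₀ (pow_pos htq 2)] at hlt
    have hmain' : ((t : ℚ)) ^ 2 ≤
        ((Nat.card (ConjClasses G) - 1 : ℕ) : ℚ) * ((Nat.card G - 1 : ℕ) : ℚ) := by
      exact_mod_cast hmain
    have hnn : (0 : ℚ) ≤ ((Nat.card G - 1 : ℕ) : ℚ) := Nat.cast_nonneg _
    nlinarith [mul_le_mul_of_nonneg_left hmain' hnn]
  · by_contra hcon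
    push Not at hcon
    have hbig : ∀ χ ∈ R, ((((Nat.card G - 1 : ℕ) : ℚ)) / t) * d χ < (d χ : ℚ) ^ 2 := by
      intro χ hχ
      obtain ⟨h1, h2⟩ := (Finset.mem_filter.1 hχ).2
      have h := hcon χ (fun h => h1 (Subtype.ext h)) h2
      rw [hg] at h
      rw [sq]
      exact mul_lt_mul_of_pos_right h
        (lt_of_le_of_lt (div_nonneg (Nat.cast_nonneg _) htq.le) h)
    have hne : R.Nonempty := by
      rw [Finset.nonempty_iff_ne_empty]
      intro h
      rw [h, Finset.sum_empty] at hle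
      omega
    have hlt := Finset.sum_lt_sum_of_nonempty hne hbig
    rw [← Finset.mul_sum] at hlt
    have h1 : (t : ℚ) ≤ ∑ χ ∈ R, (d χ : ℚ) := by exact_mod_cast hle
    have h2 : ∑ χ ∈ R, (d χ : ℚ) ^ 2 + 1 ≤ (Nat.card G : ℚ) := by exact_mod_cast hsqR
    have h3 := mul_le_mul_of_nonneg_left h1
      (div_nonneg (Nat.cast_nonneg (Nat.card G - 1)) htq.le : (0:ℚ) ≤ _)
    rw [div_mul_cancel₀ _ htq.ne'] at h3
    rw [← hg] at h3 hlt
    linarith

end Cfsg.Agent.S4476
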