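import Cfsg.Statements.S4477
import Cfsg.Agent.Lib.PGroup.Kulakoff

set_option autoImplicit false
open Cfsg

namespace Cfsg.Agent.S4477

/-- Let G be a finite 2-group whose number of involutions is congruent to 1 modulo 4. Then G is cyclic or its commutator subgroup has index 4. -/
theorem result {G : Type*} [Group G] [Finite G] (hG : IsPGroup 2 G) (ht : Nat.card {x : G // orderOf x = 2} % 4 = 1) : IsCyclic G ∨ (commutator G).index = 4 := by
  haveI : Fact (Nat.Prime 2) := ⟨Nat.prime_two⟩
  classical
  obtain ⟨n, hn⟩ := IsPGroup.iff_card.mp hG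
  refine or_iff_not_imp_left.mpr fun hc => ?_
  have hn2 : 2 ≤ n := by
    by_contra h
    refine hc ?_
    rcases Nat.lt_or_ge n 1 with h0 | h0
    · haveI : Subsingleton G := (Nat.card_eq_one_iff_unique.mp (by rw [hn, show n = 0 by omega, pow_zero])).1
      infer_instance
    · exact isCyclic_of_prime_card (p := 2) (by rw [hn, show n = 1 by omega, pow_one])
  have hk := CfsgLib.PGroup.Kulakoff.kulakoff (p := 2) n G hn hc 1 le_rfl (by omega)
  let e : {x : G // orderOf x = 2} ≃ {U : Subgroup G // Nat.card U = 2 ^ 1} :=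
    Equiv.ofBijective (fun x => ⟨Subgroup.zpowers x.1, by rw [Nat.card_zpowers, x.2, pow_one]⟩) ⟨fun x y h => by
      have h1 : (x : G) ∈ Subgroup.zpowers (y : G) := by
        have := congrArg Subtype.val h
        simp only at this
        exact this ▸ Subgroup.mem_zpowers _
      obtain ⟨i, hi⟩ := Subgroup.mem_zpowers_iff.mp h1
      rw [← zpow_mod_orderOf, y.2] at hi
      rcases Int.emod_two_eq_zero_or_one i with h2 | h2 <;> simp only [Nat.cast_ofNat, h2, zpow_zero, zpow_one] at hi
      · have := x.2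
        rw [← hi, orderOf_one] at this
        omega
      · exact Subtype.ext hi.symm, fun U => by
      obtain ⟨x, hx⟩ := exists_prime_orderOf_dvd_card' (G := (U : Subgroup G)) 2 (by rw [U.2]; rfl)
      refine ⟨⟨(x : G), by rw [Subgroup.orderOf_coe, hx]⟩, Subtype.ext ?_⟩
      refine Subgroup.eq_of_le_of_card_ge (Subgroup.zpowers_le.mpr x.2) ?_
      rw [Nat.card_zpowers, Subgroup.orderOf_coe, hx, U.2, pow_one]⟩
  rw [CfsgLib.PGroup.SubgroupCount.cnt, ← Nat.card_congr e] at hk
  unfold CfsgLib.PGroup.Kulakoff.expected at hk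
  split_ifs at hk with hmax
  · exact hmax.2.1
  · exfalso
    have h3 : ((Nat.card {x : G // orderOf x = 2} : ℕ) : ZMod (2 ^ 2)) = ((3 : ℕ) : ZMod (2 ^ 2)) := by
      rw [hk]; decide
    rw [ZMod.natCast_eq_natCast_iff'] at h3
    norm_num at h3
    omega

end Cfsg.Agent.S4477
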