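import Cfsg.Statements.S4478
import Cfsg.Agent.Lib.Blocks.CentralDefect
import Cfsg.Agent.Lib.Char.FS
import Cfsg.Agent.Lib.Char.Integral
import Cfsg.Agent.Lib.Char.Linear

set_option autoImplicit false
open Cfsg
open CfsgLib

namespace Cfsg.Agent.S4478

/-- Let G be a finite group of even order and χ an irreducible character of G whose degree x is divisible by the full power of 2 dividing the order of G and, for every odd prime p such that G has an element of order 2p, by the full power of p dividing the order of G. Then all involutions of G are conjugate, the centralizer of every involution has order exactly x with x coprime to its index, and the Frobenius–Schur indicator of χ equals 1. -/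
theorem result {G : Type*} [Group G] [Fintype G] (heven : Even (Nat.card G)) (χ : Cfsg.IrrCharacter G) (h2 : 2 ^ (Nat.card G).factorization 2 ∣ Cfsg.charDegree (χ : G → ℂ)) (hp : ∀ p : ℕ, p.Prime → p ≠ 2 → (∃ g : G, orderOf g = 2 * p) → p ^ (Nat.card G).factorization p ∣ Cfsg.charDegree (χ : G → ℂ)) : (∀ s t : G, orderOf s = 2 → orderOf t = 2 → IsConj s t) ∧ (∀ s : G, orderOf s = 2 → Nat.card (Subgroup.centralizer ({s} : Set G)) = Cfsg.charDegree (χ : G → ℂ) ∧ (Nat.card (Subgroup.centralizer ({s} : Set G))).Coprime (Subgroup.centralizer ({s} : Set G)).index) ∧ (Nat.card G : ℂ)⁻¹ * ∑ g : G, (χ : G → ℂ) (g * g) = 1 := by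
  classical
  set N := Nat.card G with hN
  have hN0 : N ≠ 0 := Nat.card_pos.ne'
  set x := Cfsg.charDegree (χ : G → ℂ) with hx
  have hx0 : x ≠ 0 := (Blocks.charDegree_pos χ).ne'
  have hx1 : (χ : G → ℂ) 1 = (x : ℂ) := by
    obtain ⟨n, -, hn⟩ := Char.IsIrrCharacter.apply_one_eq χ.2
    rw [hx, Cfsg.charDegree, hn, Complex.natCast_re, Nat.floor_natCast]
  -- the primes of `x`-defect zero
  have hvan : ∀ p : ℕ, p.Prime → p ^ N.factorization p ∣ x → ∀ g : G, p ∣ orderOf g →
      (χ : G → ℂ) g = 0 := by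
    intro p hp' hd g hg
    have : Fact p.Prime := ⟨hp'⟩
    obtain ⟨M, hM⟩ := Blocks.exists_isPModular hp'
    have hdeg : Blocks.degVal p χ = (⊥ : Subgroup G).index.factorization p := by
      rw [Subgroup.index_bot]
      exact le_antisymm (Blocks.degVal_le χ) ((hp'.pow_dvd_iff_le_factorization hx0).1 hd)
    obtain ⟨y, z, hyz, hmul, -, hzo, -, -, -⟩ := Blocks.exists_isPPart hp' g
    refine (Blocks.defectGroup_and_vanish_of_central hM IsPGroup.of_bot bot_le χ hdeg).2 g y hyz ?_
    rw [Subgroup.mem_bot]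
    intro hy
    rw [hy, one_mul] at hmul
    exact hzo (hmul ▸ hg)
  have hvan2 : ∀ g : G, 2 ∣ orderOf g → (χ : G → ℂ) g = 0 := hvan 2 Nat.prime_two h2
  obtain ⟨s₀, hs₀⟩ := exists_prime_orderOf_dvd_card' 2 (even_iff_two_dvd.1 heven)
  have hx_ne_one : x ≠ 1 := by
    intro h
    have h' := (dvd_pow_self 2 (Nat.prime_two.factorization_pos_of_dvd hN0
      (even_iff_two_dvd.1 heven)).ne').trans h2
    rw [h, Nat.dvd_one] at h'
    omega
  -- the sum over elements of odd order
  set O := Finset.univ.filter fun g : G => Odd (orderOf g) with hO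
  set I := Finset.univ.filter fun g : G => orderOf g = 2 with hI
  have hsumO : ∑ g ∈ O, (χ : G → ℂ) g = 0 := by
    have hne : (χ : G → ℂ) ≠ fun _ => 1 := fun h => hx_ne_one (by
      rw [h] at hx1
      exact Nat.cast_eq_one.1 hx1.symm)
    have h := Char.classInner_irr_ne χ.2 Char.isIrrCharacter_one hne
    rw [Char.classInner_fun_one_right, mul_eq_zero] at h
    have h' := h.resolve_left (inv_ne_zero (Nat.cast_ne_zero.2 hN0))
    rw [← h']
    refine Finset.sum_subset (Finset.subset_univ _) fun g _ hg => hvan2 g ?_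
    rw [hO, Finset.mem_filter] at hg
    simpa [← even_iff_two_dvd] using hg
  have hsq : ∑ g ∈ O, (χ : G → ℂ) (g * g) = ∑ g ∈ O, (χ : G → ℂ) g := by
    refine Finset.sum_nbij' (fun g => g * g) (fun g => g ^ ((orderOf g + 1) / 2)) ?_ ?_ ?_ ?_
      (fun _ _ => rfl)
    · intro g hg
      rw [hO, Finset.mem_filter] at hg ⊢
      exact ⟨Finset.mem_univ _, by
        rw [← sq, Nat.Coprime.orderOf_pow (Nat.coprime_two_right.2 hg.2)]
        exact hg.2⟩
    · intro g hg
      rw [hO, Finset.mem_filter] at hg ⊢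
      refine ⟨Finset.mem_univ _, ?_⟩
      exact hg.2.of_dvd_nat (orderOf_pow_dvd _)
    · intro g hg
      rw [hO, Finset.mem_filter] at hg
      obtain ⟨k, hk⟩ := hg.2
      have ho : orderOf (g * g) = orderOf g := by
        rw [← sq, Nat.Coprime.orderOf_pow (Nat.coprime_two_right.2 hg.2)]
      show (g * g) ^ ((orderOf (g * g) + 1) / 2) = g
      rw [ho, ← sq, ← pow_mul, show 2 * ((orderOf g + 1) / 2) = orderOf g + 1 by omega,
        pow_succ, pow_orderOf_eq_one, one_mul]
    · intro g hg
      rw [hO, Finset.mem_filter] at hg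
      obtain ⟨k, hk⟩ := hg.2
      show g ^ ((orderOf g + 1) / 2) * g ^ ((orderOf g + 1) / 2) = g
      rw [← pow_add, show (orderOf g + 1) / 2 + (orderOf g + 1) / 2 = orderOf g + 1 by omega,
        pow_succ, pow_orderOf_eq_one, one_mul]
  have hsum : ∑ g : G, (χ : G → ℂ) (g * g) = (I.card : ℂ) * x := by
    rw [← Finset.sum_add_sum_compl O, hsq, hsumO, zero_add]
    have hsub : I ⊆ Oᶜ := fun g hg => by
      rw [hI, Finset.mem_filter] at hg
      rw [Finset.mem_compl, hO, Finset.mem_filter]
      rintro ⟨-, h⟩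
      rw [hg.2] at h
      exact absurd h (by decide)
    rw [← Finset.sum_subset hsub]
    · rw [← nsmul_eq_mul, ← Finset.sum_const]
      refine Finset.sum_congr rfl fun g hg => ?_
      rw [hI, Finset.mem_filter] at hg
      rw [← sq, ← hg.2, pow_orderOf_eq_one, hx1]
    · intro g hg hgI
      rw [Finset.mem_compl, hO, Finset.mem_filter] at hg
      have heg : 2 ∣ orderOf g := by simpa [← even_iff_two_dvd] using hg
      by_cases h2g : 2 ∣ orderOf (g * g)
      · exact hvan2 _ h2g
      have ho : orderOf (g * g) = orderOf g / 2 := by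
        rw [← sq, orderOf_pow, Nat.gcd_eq_right heg]
      have hg2 : orderOf g ≠ 2 := fun h => hgI (Finset.mem_filter.2 ⟨Finset.mem_univ _, h⟩)
      obtain ⟨c, hc⟩ := heg
      have hpos := orderOf_pos g
      have hodd : orderOf (g * g) = c := by omega
      obtain ⟨p, hp', hpd⟩ := Nat.exists_prime_and_dvd (show c ≠ 1 by omega)
      have hp2 : p ≠ 2 := fun h => h2g (hodd ▸ h ▸ hpd)
      refine hvan p hp' (hp p hp' hp2 ⟨g ^ (orderOf g / (2 * p)), ?_⟩) _ (hodd ▸ hpd)
      exact orderOf_pow_orderOf_div hpos.ne' (hc ▸ Nat.mul_dvd_mul_left 2 hpd)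
  have hIpos : 0 < I.card := Finset.card_pos.2 ⟨s₀, Finset.mem_filter.2 ⟨Finset.mem_univ _, hs₀⟩⟩
  set ν := (N : ℂ)⁻¹ * ∑ g : G, (χ : G → ℂ) (g * g) with hν
  have hν1 : ν = 1 := by
    obtain ⟨n, ρ, hρ, hρc⟩ := χ.2
    have : ρ.IsIrreducible := hρ
    have h := (Char.frobeniusSchur ρ).1
    rw [hρc, ← hN, ← hν] at h
    have hre : ν = (((I.card * x : ℕ) : ℝ) / (N : ℝ) : ℝ) := by
      rw [hν, hsum]
      push_cast
      ring
    have hpos : (0 : ℝ) < ((I.card * x : ℕ) : ℝ) / (N : ℝ) :=
      div_pos (Nat.cast_pos.2 (Nat.mul_pos hIpos (Nat.pos_of_ne_zero hx0)))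
        (Nat.cast_pos.2 (Nat.pos_of_ne_zero hN0))
    rcases h with h | h | h
    · rw [hre] at h; exact absurd (Complex.ofReal_eq_zero.1 h) hpos.ne'
    · exact h
    · rw [hre] at h
      have := congrArg Complex.re h
      simp only [Complex.ofReal_re, Complex.neg_re, Complex.one_re] at this
      linarith
  have htx : I.card * x = N := by
    have h := hν1
    rw [hν, hsum, inv_mul_eq_one₀ (Nat.cast_ne_zero.2 hN0)] at h
    exact_mod_cast h.symm
  have hfac : ∀ s : G, orderOf s = 2 → ∀ q : ℕ, q.Prime →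
      q ∣ Nat.card (Subgroup.centralizer ({s} : Set G)) → q ^ N.factorization q ∣ x := by
    intro s hs q hq hd
    rcases eq_or_ne q 2 with rfl | hq2
    · exact h2
    have : Fact q.Prime := ⟨hq⟩
    obtain ⟨y, hy⟩ := exists_prime_orderOf_dvd_card' q hd
    refine hp q hq hq2 ⟨s * y, ?_⟩
    have hcm : Commute s (y : G) := (Subgroup.mem_centralizer_singleton_iff.1 y.2).symm
    rw [hcm.orderOf_mul_eq_mul_orderOf_of_coprime, hs, Subgroup.orderOf_coe, hy]
    rw [hs, Subgroup.orderOf_coe, hy, Nat.coprime_primes Nat.prime_two hq]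
    exact hq2.symm
  have hdvd : ∀ s : G, orderOf s = 2 → Nat.card (Subgroup.centralizer ({s} : Set G)) ∣ x := by
    intro s hs
    rw [← Nat.factorization_prime_le_iff_dvd Nat.card_pos.ne' hx0]
    intro q hq
    by_cases hd : q ∣ Nat.card (Subgroup.centralizer ({s} : Set G))
    · refine le_trans ?_ ((hq.pow_dvd_iff_le_factorization hx0).1 (hfac s hs q hq hd))
      exact (Nat.factorization_le_iff_dvd Nat.card_pos.ne' hN0).2
        (Subgroup.card_subgroup_dvd_card _) q
    · rw [Nat.factorization_eq_zero_of_not_dvd hd]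
      exact Nat.zero_le _
  have hkey : ∀ s : G, orderOf s = 2 →
      Nat.card (Subgroup.centralizer ({s} : Set G)) = x ∧
        ∀ t : G, orderOf t = 2 → IsConj t s := by
    intro s hs
    set c := Nat.card (Subgroup.centralizer ({s} : Set G))
    set K := Finset.univ.filter fun g : G => IsConj g s
    have hKI : K ⊆ I := fun g hg => by
      obtain ⟨w, rfl⟩ := isConj_iff.1 (Finset.mem_filter.1 hg).2
      refine Finset.mem_filter.2 ⟨Finset.mem_univ _, ?_⟩
      rw [← hs]
      exact ((MulAut.conj w).orderOf_eq g).symm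
    have hKcard : K.card * c = N := by
      rw [← Fintype.card_subtype, ← Nat.card_eq_fintype_card, Char.card_isConj_eq_index,
        Subgroup.index_mul_card]
    have hcx : c ≤ x := Nat.le_of_dvd (Nat.pos_of_ne_zero hx0) (hdvd s hs)
    have hKle := Finset.card_le_card hKI
    have hge : I.card ≤ K.card := by
      by_contra hlt
      push Not at hlt
      have h' : K.card * c < I.card * x :=
        lt_of_le_of_lt (Nat.mul_le_mul_left _ hcx)
          (Nat.mul_lt_mul_of_pos_right hlt (Nat.pos_of_ne_zero hx0))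
      omega
    have hKI' : K = I := Finset.eq_of_subset_of_card_le hKI hge
    refine ⟨?_, fun t ht => ?_⟩
    · rw [hKI', ← htx] at hKcard
      exact Nat.eq_of_mul_eq_mul_left hIpos hKcard
    · have : t ∈ K := hKI' ▸ Finset.mem_filter.2 ⟨Finset.mem_univ _, ht⟩
      exact (Finset.mem_filter.1 this).2
  refine ⟨fun s t hs ht => (hkey t ht).2 s hs, fun s hs => ⟨(hkey s hs).1, ?_⟩, hν1⟩
  refine Nat.coprime_of_dvd fun q hq hdc hdi => ?_
  have h1 := (hq.pow_dvd_iff_le_factorization hx0).1 (hfac s hs q hq hdc)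
  rw [← (hkey s hs).1, hN, ← Subgroup.card_mul_index (Subgroup.centralizer ({s} : Set G)),
    Nat.factorization_mul Nat.card_pos.ne' Subgroup.index_ne_zero_of_finite,
    Finsupp.add_apply] at h1
  have := hq.factorization_pos_of_dvd Subgroup.index_ne_zero_of_finite hdi
  omega

end Cfsg.Agent.S4478
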