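import Cfsg.Statements.S4480
import Cfsg.Agent.Lib.Blocks.FourGroupOrder
import Cfsg.Agent.Lib.Involution.ZStar.PrincipalBlock
import Cfsg.Agent.S0895

set_option autoImplicit false
open Cfsg

namespace Cfsg.Agent.S4480

open CfsgLib CfsgLib.Blocks CfsgLib.Blocks.FourGroup

/-- Same setting as the Klein-four order formula: G of order 4·g₀ (g₀ odd) with no normal 2-complement, P a Sylow 2-subgroup, J an involution of P, M over 2, principal 2-block {1, χ₁, χ₂, χ₃} with χ_i(J) = ε_i = ±1. Suppose ε₁ε₂ε₃ = −1 and ε₃ = −1, and put q = x₃ = χ₃(1). Then there is a natural number m with 4·c(J) = m·c(P)·(q + 1), and the order of G equals (m³·c(P)/4)·(q³ − q)/2, that is 8·#G = m³·c(P)·(q³ − q). -/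
theorem result {G : Type*} [Group G] [Finite G] (M : Ideal Cfsg.AlgInt) (hM : Cfsg.IsPModular 2 M) (g₀ : ℕ) (hg₀ : Odd g₀) (hG : Nat.card G = 4 * g₀) (hnc : ¬ ∃ N : Subgroup G, N.Normal ∧ Nat.card N = g₀) (P : Sylow 2 G) (J : G) (hJ : J ∈ (P : Subgroup G)) (hJ2 : orderOf J = 2) (χ₁ χ₂ χ₃ : Cfsg.IrrCharacter G) (ε₁ ε₂ ε₃ : ℤ) (hB : Cfsg.principalBlock M G = {χ : Cfsg.IrrCharacter G | (χ : G → ℂ) = (fun _ => 1) ∨ χ = χ₁ ∨ χ = χ₂ ∨ χ = χ₃}) (hdist : (χ₁ : G → ℂ) ≠ (fun _ => 1) ∧ (χ₂ : G → ℂ) ≠ (fun _ => 1) ∧ (χ₃ : G → ℂ) ≠ (fun _ => 1) ∧ χ₁ ≠ χ₂ ∧ χ₁ ≠ χ₃ ∧ χ₂ ≠ χ₃) (hε : (ε₁ = 1 ∨ ε₁ = -1) ∧ (ε₂ = 1 ∨ ε₂ = -1) ∧ (ε₃ = 1 ∨ ε₃ = -1)) (hval : (χ₁ : G → ℂ) J = ε₁ ∧ (χ₂ : G → ℂ) J = ε₂ ∧ (χ₃ : G → ℂ) J = ε₃) (hprod : ε₁ * ε₂ * ε₃ = -1) (hε₃ : ε₃ = -1) : ∃ m : ℕ, 4 * Nat.card (Subgroup.centralizer ({J} : Set G)) = m * Nat.card (Subgroup.centralizer ((P : Subgroup G) : Set G)) * (Cfsg.charDegree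 (χ₃ : G → ℂ) + 1) ∧ 8 * Nat.card G = m ^ 3 * Nat.card (Subgroup.centralizer ((P : Subgroup G) : Set G)) * (Cfsg.charDegree (χ₃ : G → ℂ) ^ 3 - Cfsg.charDegree (χ₃ : G → ℂ)) := by
  classical
  haveI := Fintype.ofFinite G
  haveI : Fact (Nat.Prime 2) := ⟨Nat.prime_two⟩
  obtain ⟨hP4, hexp, hone⟩ := setup_four P g₀ hg₀ hG hnc
  obtain ⟨h1, h2, h3, h12, h13, h23⟩ := hdist
  obtain ⟨hv1, hv2, hv3⟩ := hval
  subst hε₃
  have hε12 : ε₁ = ε₂ := by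
    obtain ⟨a, b, -⟩ := hε
    rcases a with rfl | rfl <;> rcases b with rfl | rfl <;> simp_all
  subst hε12
  have horth := CfsgLib.Involution.ZStar.sum_degree_mul_eq_zero hM
    (isPBlock_principalBlock (M := M) (G := G)) (g := J) (by rw [hJ2])
  have hS := order_formula hM P hP4 hexp hone hJ hJ2
  have hI := sum_indicator_mul hM P hP4 hexp hJ hJ2
  rw [sum_four hB h1 h2 h3 h12 h13 h23] at horth hS hI
  have htJ : ((trivChar G : Cfsg.IrrCharacter G) : G → ℂ) J = 1 := rfl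
  have ht1 : ((trivChar G : Cfsg.IrrCharacter G) : G → ℂ) 1 = 1 := rfl
  rw [htJ, ht1, hv1, hv2, hv3] at horth hS
  rw [htJ, hv1, hv2, hv3] at hI
  simp only [irr_one_eq] at horth hS
  obtain ⟨n1, hn1⟩ := exists_mult_four P hP4 hexp hone hJ2 χ₁ hv1
  obtain ⟨n2, hn2⟩ := exists_mult_four P hP4 hexp hone hJ2 χ₂ hv2
  obtain ⟨n3, hn3⟩ := exists_mult_four P hP4 hexp hone hJ2 χ₃ hv3
  have hp1 := charDegree_pos χ₁
  have hp2 := charDegree_pos χ₂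
  have hp3 := charDegree_pos χ₃
  have hd1 := irr_one_eq χ₁
  have hd2 := irr_one_eq χ₂
  have hd3 := irr_one_eq χ₃
  set x1 := Cfsg.charDegree (χ₁ : G → ℂ)
  set x2 := Cfsg.charDegree (χ₂ : G → ℂ)
  set q := Cfsg.charDegree (χ₃ : G → ℂ)
  have hO : (1 : ℤ) + ε₁ * x1 + ε₁ * x2 - q = 0 := by
    have h : (((1 : ℤ) + ε₁ * x1 + ε₁ * x2 - q : ℤ) : ℂ) = ((0 : ℤ) : ℂ) := by
      push_cast
      rw [← horth]
      push_cast
      ring
    exact Int.cast_injective h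
  -- the sign of `χ₁`
  obtain rfl : ε₁ = 1 := by
    rcases hε.1 with h | h
    · exact h
    · subst h; omega
  -- the indicators
  have hind : ∀ (χ : Cfsg.IrrCharacter G) (x : ℕ), (χ : G → ℂ) 1 = (x : ℂ) → Odd x →
      (((Nat.card G : ℂ)⁻¹ * ∑ g : G, (χ : G → ℂ) (g * g) = 1 ∧ ∀ g : G, ((χ : G → ℂ) g).im = 0)
      ∨ ((Nat.card G : ℂ)⁻¹ * ∑ g : G, (χ : G → ℂ) (g * g) = 0 ∧ ∃ g : G, ((χ : G → ℂ) g).im ≠ 0)) := by
    intro χ x hx hodd
    by_cases hr : ∃ g : G, ((χ : G → ℂ) g).im ≠ 0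
    · refine Or.inr ⟨?_, hr⟩
      obtain ⟨n, ρ, hρ, hρc⟩ := χ.2
      have : ρ.IsIrreducible := hρ
      have h := (CfsgLib.Char.frobeniusSchur ρ).2
      rw [hρc] at h
      exact h.2 hr
    · push Not at hr
      exact Or.inl ⟨Cfsg.Agent.S0895.result (χ : G → ℂ) χ.2 hr x hx hodd, hr⟩
  have hodd1 : Odd x1 := Nat.odd_iff.2 (by omega)
  have hodd2 : Odd x2 := Nat.odd_iff.2 (by omega)
  have hodd3 : Odd q := Nat.odd_iff.2 (by omega)
  have htν : (Nat.card G : ℂ)⁻¹ * ∑ g : G, ((trivChar G : Cfsg.IrrCharacter G) : G → ℂ) (g * g) = 1 := by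
    show (Nat.card G : ℂ)⁻¹ * ∑ _g : G, (1 : ℂ) = 1
    rw [Finset.sum_const, Finset.card_univ, nsmul_one, Fintype.card_eq_nat_card,
      inv_mul_cancel₀ Char.card_ne_zero]
  rw [htν] at hI
  have hnonreal : ∃ g : G, ((χ₁ : G → ℂ) g).im ≠ 0 := by
    rcases hind χ₁ x1 hd1 hodd1 with ⟨e1, -⟩ | ⟨-, hr⟩
    · exfalso
      rcases hind χ₂ x2 hd2 hodd2 with ⟨e2, -⟩ | ⟨e2, -⟩ <;>
        rcases hind χ₃ q hd3 hodd3 with ⟨e3, -⟩ | ⟨e3, -⟩ <;>
          rw [e1, e2, e3] at hI <;> norm_num at hI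
    · exact hr
  -- the conjugate of `χ₁` is `χ₂`
  have hconj : irrConj χ₁ = χ₂ := by
    have hmem : irrConj χ₁ ∈ Cfsg.principalBlock M G :=
      irrConj_mem_principalBlock hM (by rw [hB]; exact Or.inr (Or.inl rfl))
    rw [hB] at hmem
    rcases hmem with h | h | h | h
    · exfalso
      obtain ⟨g, hg⟩ := hnonreal
      refine hg ?_
      have h4 := congrFun h g
      simp only [irrConj_apply] at h4
      rw [← Complex.conj_conj ((χ₁ : G → ℂ) g), h4, map_one, Complex.one_im]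
    · exfalso
      obtain ⟨g, hg⟩ := hnonreal
      refine hg (Complex.conj_eq_iff_im.1 ?_)
      rw [← irrConj_apply, h]
    · exact h
    · exfalso
      have h4 := irrConj_apply χ₁ J
      rw [h, hv1, hv3] at h4
      norm_num at h4
  have hx12 : x2 = x1 := by
    have h4 := irrConj_apply χ₁ 1
    rw [hconj, hd1, hd2, map_natCast] at h4
    exact_mod_cast h4
  -- the central character of `χ₁` at `J`
  obtain ⟨z, hz⟩ : ∃ z : ℤ, Cfsg.centralChar (χ₁ : G → ℂ) J = (z : ℂ) := by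
    refine CfsgLib.Char.exists_int_of_isIntegral_rat (isIntegral_centralChar χ₁ J)
      (q := ((Subgroup.centralizer ({J} : Set G)).index : ℚ) / x1) ?_
    rw [Cfsg.centralChar, hv1, hd1]
    push_cast
    ring
  set cJ := Nat.card (Subgroup.centralizer ({J} : Set G)) with hcJ
  set cP := Nat.card (Subgroup.centralizer ((P : Subgroup G) : Set G)) with hcPdef
  have hcP : 0 < cP := Nat.card_pos
  have hcJpos : 0 < cJ := Nat.card_pos
  obtain ⟨k, hk⟩ : cP ∣ cJ := Subgroup.card_dvd_of_le fun g hg =>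
    Subgroup.mem_centralizer_singleton_iff.2 (Subgroup.mem_centralizer_iff.1 hg J hJ).symm
  rw [Cfsg.centralChar, hv1, hd1] at hz
  set i := (Subgroup.centralizer ({J} : Set G)).index
  have hGi : Nat.card G = cJ * i := (Subgroup.card_mul_index _).symm
  have hi : (i : ℤ) = z * x1 := by
    have h : ((i : ℤ) : ℂ) = ((z * x1 : ℤ) : ℂ) := by
      push_cast
      rw [← hz, Int.cast_one, mul_one, div_mul_cancel₀ _ (Nat.cast_ne_zero.2 hp1.ne' : (x1 : ℂ) ≠ 0)]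
    exact Int.cast_injective h
  have hq : (q : ℤ) = 1 + 2 * x1 := by rw [hx12] at hO; linarith
  -- the order formula in integers
  have hkey : (i : ℤ) * ((q : ℤ) + 1) ^ 2 = 16 * (k : ℤ) ^ 2 * x1 * q := by
    have h : ((((cJ * i : ℕ) : ℤ) * ((q : ℤ) * x1 + 2 * q - x1) * (cP : ℤ) ^ 2 : ℤ) : ℂ)
        = ((8 * (cJ : ℤ) ^ 3 * x1 * q : ℤ) : ℂ) := by
      rw [← hGi]
      have hx1 : (x1 : ℂ) ≠ 0 := Nat.cast_ne_zero.2 hp1.ne'
      have hq0 : (q : ℂ) ≠ 0 := Nat.cast_ne_zero.2 hp3.ne'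
      rw [hx12] at hS
      push_cast at hS ⊢
      field_simp at hS
      linear_combination hS
    have h' := Int.cast_injective h
    have hqc : (q : ℤ) * x1 + 2 * q - x1 = 2 * ((x1 : ℤ) + 1) ^ 2 := by rw [hq]; ring
    rw [hqc, hk] at h'
    push_cast at h'
    have hne : (cP : ℤ) ^ 3 * (k : ℤ) ≠ 0 := by
      have hk0 : 0 < k := Nat.pos_of_ne_zero fun h0 => hcJpos.ne' (by rw [hk, h0, mul_zero])
      positivity
    apply mul_left_cancel₀ hne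
    rw [hq] at h' ⊢
    linear_combination 2 * h'
  have hdvd : (q + 1) ∣ 4 * k := by
    have hx0 : (x1 : ℤ) ≠ 0 := by exact_mod_cast hp1.ne'
    have h2 : ((4 * k : ℕ) : ℤ) ^ 2 * q = z * ((q + 1 : ℕ) : ℤ) ^ 2 := by
      apply mul_left_cancel₀ hx0
      rw [hi] at hkey
      push_cast
      linear_combination (-1 : ℤ) * hkey
    have h3 : (((q + 1) ^ 2 : ℕ) : ℤ) ∣ (((4 * k) ^ 2 * q : ℕ) : ℤ) :=
      ⟨z, by push_cast at h2 ⊢; linear_combination h2⟩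
    have h4 : (q + 1) ^ 2 ∣ (4 * k) ^ 2 := (Nat.Coprime.pow_left 2
      (Nat.coprime_self_add_left.2 (Nat.coprime_one_left q))).dvd_of_dvd_mul_right
      (Int.natCast_dvd_natCast.1 h3)
    exact (Nat.pow_dvd_pow_iff (by norm_num)).1 h4
  obtain ⟨m, hm⟩ := hdvd
  refine ⟨m, ?_, ?_⟩
  · rw [hk, mul_left_comm, hm]; ring
  · have hq3 : q ≤ q ^ 3 := Nat.le_self_pow (by norm_num) q
    apply Nat.cast_injective (R := ℤ)
    rw [hGi, hk]
    push_cast [hq3]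
    have hq1 : ((q : ℤ) + 1) ^ 2 ≠ 0 := by positivity
    apply mul_left_cancel₀ hq1
    have hm' : (4 : ℤ) * k = ((q : ℤ) + 1) * m := by exact_mod_cast hm
    have hc : ((q : ℤ) + 1) ^ 3 * (m : ℤ) ^ 3 = 64 * (k : ℤ) ^ 3 := by
      rw [← mul_pow, ← hm']; ring
    linear_combination (8 * (cP : ℤ) * k) * hkey - ((cP : ℤ) * q * ((q : ℤ) - 1)) * hc
      - (64 * (cP : ℤ) * (k : ℤ) ^ 3 * q) * hq

end Cfsg.Agent.S4480
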