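import Cfsg.Statements.S4483
import Cfsg.Agent.Lib.Blocks.RealBlocks
-- import your own Cfsg.Agent.* helpers here

set_option autoImplicit false
open Cfsg

namespace Cfsg.Agent.S4483

/-- Let G be a finite group of order 2^n·g₀ with g₀ odd, and M a maximal ideal of the algebraic integers containing 2. Every real-valued irreducible character of G of odd degree lies in the principal 2-block; consequently G has at most 2^(2n) real-valued irreducible characters of odd degree. -/
theorem result {G : Type*} [Group G] [Finite G] (M : Ideal Cfsg.AlgInt) (hM : Cfsg.IsPModular 2 M) : (∀ χ : Cfsg.IrrCharacter G, (∀ g : G, ((χ : G → ℂ) g).im = 0) → Odd (Cfsg.charDegree (χ : G → ℂ)) → χ ∈ Cfsg.principalBlock M G) ∧ Nat.card {χ : Cfsg.IrrCharacter G // (∀ g : G, ((χ : G → ℂ) g).im = 0) ∧ Odd (Cfsg.charDegree (χ : G → ℂ))} ≤ 2 ^ (2 * (Nat.card G).factorization 2) := by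
  classical
  letI : Fintype G := Fintype.ofFinite G
  have h1 : ∀ χ : Cfsg.IrrCharacter G, (∀ g : G, ((χ : G → ℂ) g).im = 0) →
      Odd (Cfsg.charDegree (χ : G → ℂ)) → χ ∈ Cfsg.principalBlock M G := fun χ hr ho =>
    CfsgLib.Blocks.mem_principalBlock_of_odd hM ho fun g _ => by
      rw [← CfsgLib.Blocks.conj_irr]
      exact Complex.conj_eq_iff_im.2 (hr g)
  refine ⟨h1, ?_⟩
  have hinj : Nat.card {χ : Cfsg.IrrCharacter G //
      (∀ g : G, ((χ : G → ℂ) g).im = 0) ∧ Odd (Cfsg.charDegree (χ : G → ℂ))}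
      ≤ Nat.card (Cfsg.principalBlock M G) :=
    Nat.card_le_card_of_injective (fun χ => ⟨χ.1, h1 χ.1 χ.2.1 χ.2.2⟩) fun a b h =>
      Subtype.ext (congrArg (fun x : Cfsg.principalBlock M G => (x : Cfsg.IrrCharacter G)) h)
  have h4 := CfsgLib.Blocks.four_mul_card_le hM
    (CfsgLib.Blocks.isPBlock_principalBlock (M := M) (G := G))
  have hd : Cfsg.blockDefect 2 (Cfsg.principalBlock M G) ≤ (Nat.card G).factorization 2 :=
    Nat.sub_le _ _
  have hp : 2 ^ (2 * Cfsg.blockDefect 2 (Cfsg.principalBlock M G))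
      ≤ 2 ^ (2 * (Nat.card G).factorization 2) := Nat.pow_le_pow_right (by norm_num) (by omega)
  have := Nat.one_le_pow (2 * (Nat.card G).factorization 2) 2 (by norm_num)
  omega

end Cfsg.Agent.S4483
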