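import Cfsg.Statements.S4487
import Cfsg.Agent.Lib.Blocks.NormalP
import Cfsg.Agent.Lib.Solvable.Cores
-- import your own Cfsg.Agent.* helpers here

set_option autoImplicit false
open Cfsg

namespace Cfsg.Agent.S4487

/-- Let G be a finite group and p a prime such that G has no non-trivial normal subgroup of order prime to p and C_G(O_p(G)) ≤ O_p(G). Then G has a single p-block: any two irreducible characters lie in the same block relative to every maximal ideal M of the algebraic integers containing p. -/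
theorem result {G : Type*} [Group G] [Finite G] (p : ℕ) [Fact p.Prime] (M : Ideal Cfsg.AlgInt) (hM : Cfsg.IsPModular p M) (hcore : Cfsg.pPrimeCore p G = ⊥) (hconstr : Subgroup.centralizer ((Cfsg.pCore p G) : Set G) ≤ Cfsg.pCore p G) (χ ψ : Cfsg.IrrCharacter G) : Cfsg.SameBlock M (χ : G → ℂ) (ψ : G → ℂ) := by
  classical
  cases nonempty_fintype G
  haveI : (Cfsg.pCore p G).Normal := inferInstance
  have hP : IsPGroup p (Cfsg.pCore p G) := CfsgLib.Solvable.Cores.isPGroup_pCore p
  set B := Cfsg.blockOf M (χ : G → ℂ)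
  have hB : Cfsg.IsPBlock M B := CfsgLib.Blocks.isPBlock_blockOf χ
  have hzero : ∀ g : G, g ≠ 1 → CfsgLib.Blocks.fourierInv (CfsgLib.Blocks.blockInd B) g = 0 := by
    intro g hg
    rw [← CfsgLib.Blocks.blockCoeff_eq_fourierInv]
    by_cases hc : g ∈ Subgroup.centralizer (Cfsg.pCore p G : Set G)
    · refine CfsgLib.Blocks.IsPBlock.blockCoeff_eq_zero hM hB ?_
      obtain ⟨j, hj⟩ := IsPGroup.iff_orderOf.1 hP ⟨g, hconstr hc⟩
      rw [← Subgroup.orderOf_coe] at hj
      change orderOf g = p ^ j at hj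
      rw [hj]
      refine dvd_pow_self p fun h => hg ?_
      rwa [h, pow_zero, orderOf_eq_one_iff] at hj
    · exact CfsgLib.Blocks.blockCoeff_eq_zero_of_notMem_centralizer hM hP hB hc
  have hconst : ∀ φ : Cfsg.IrrCharacter G, CfsgLib.Blocks.blockInd B φ
      = CfsgLib.Blocks.fourierInv (CfsgLib.Blocks.blockInd B) 1 := by
    intro φ
    conv_lhs => rw [← CfsgLib.Blocks.omega_fourierInv φ (CfsgLib.Blocks.blockInd B)]
    rw [CfsgLib.Blocks.omega, Finset.sum_eq_single (1 : G) (fun g _ hg => by rw [hzero g hg, zero_mul])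
      (by simp), mul_div_assoc, div_self (CfsgLib.Blocks.irr_one_ne_zero φ), mul_one]
  have hχ : χ ∈ B := CfsgLib.Blocks.SameBlock_refl hM _
  have := (hconst χ).trans (hconst ψ).symm
  rw [CfsgLib.Blocks.blockInd_of_mem hχ] at this
  by_contra hne
  rw [CfsgLib.Blocks.blockInd_of_notMem (show ψ ∉ B from hne)] at this
  exact one_ne_zero this

end Cfsg.Agent.S4487
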