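import Cfsg.Statements.S4489
import Cfsg.Agent.Lib.Char.Monomial
import Cfsg.Agent.Lib.CharDeep.Clifford
import Cfsg.Agent.Lib.CharDeep.Galois.CharAut
import Cfsg.Agent.Lib.CharDeep.Galois.ComplexAut
import Cfsg.Agent.Lib.Char.Quotient
import Cfsg.Agent.Lib.Coprime.SchurZassenhaus
import Mathlib.FieldTheory.PrimitiveElement
import Mathlib.RingTheory.Polynomial.Cyclotomic.Roots
import Mathlib.GroupTheory.IndexNormal

set_option autoImplicit false
open Cfsg

namespace Cfsg.Agent.S4489

open CfsgLib IntermediateField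

universe u

/-- The field of values. -/
noncomputable abbrev field {P : Type u} (χ : P → ℂ) : IntermediateField ℚ ℂ :=
  IntermediateField.adjoin ℚ (Set.range χ)

lemma finite_field {P : Type u} [Group P] [Finite P] {χ : P → ℂ} (hχ : Cfsg.IsCharacter P χ) :
    FiniteDimensional ℚ (field χ) := by
  haveI : Finite (Set.range χ) := (Set.finite_range χ).to_subtype
  refine IntermediateField.finiteDimensional_adjoin fun x hx => ?_
  obtain ⟨g, rfl⟩ := hx
  exact (Char.IsCharacter.isIntegral hχ g).tower_top

set_option maxHeartbeats 1000000 in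
-- a long induction
/-- The induction. -/
lemma main {p : ℕ} [hp : Fact p.Prime] (N : ℕ) : ∀ (P : Type u) [Group P] [Finite P],
    Nat.card P = N → ∀ (a : ℕ), Nat.card P = p ^ a → ∀ (χ : P → ℂ), Cfsg.IsIrrCharacter P χ →
    (∀ g, χ g = χ 1 → g = 1) → ∀ f : ℕ, χ 1 = f → ∀ t : ℕ,
    Module.finrank ℚ (field χ) ≤ (p - 1) * p ^ t →
    (p - 1) * a ≤ (f - 1) + (p - 1) * (t + 1) * f := by
  induction N using Nat.strong_induction_on with
  | _ N ih =>
  intro P _ _ hN a ha χ hχ hfaith f hf t ht
  classical
  haveI := Fintype.ofFinite P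
  have hχc := Char.IsIrrCharacter.isCharacter hχ
  have hPp : IsPGroup p P := IsPGroup.of_card ha
  haveI := hPp.isNilpotent
  haveI := finite_field hχc
  obtain ⟨H, lam, hlam⟩ := Char.exists_monomial hχ
  by_cases hH : H = ⊤
  · -- the linear case
    subst hH
    have hχ' : χ 1 = 1 := by
      rw [hlam, Char.indFun_one]
      simp
    have hf1 : f = 1 := by rw [hf] at hχ'; exact_mod_cast hχ'
    subst hf1
    rcases Nat.eq_zero_or_pos a with ha0 | ha0
    · rw [ha0, mul_zero]; exact Nat.zero_le _
    obtain ⟨φ, hφ⟩ := Char.exists_hom_of_apply_one_eq_one hχc hχ'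
    have hinj : Function.Injective ((Units.coeHom ℂ).comp φ) := by
      rw [injective_iff_map_eq_one]
      intro g hg
      refine hfaith g ?_
      rw [hφ]
      simp only [MonoidHom.comp_apply, Units.coeHom_apply] at hg
      simp [hg]
    haveI : IsCyclic P := isCyclic_of_subgroup_isDomain _ hinj
    obtain ⟨g, hg⟩ := IsCyclic.exists_ofOrder_eq_natCard (α := P)
    have hord : orderOf ((φ g : ℂˣ) : ℂ) = p ^ a := by
      rw [← ha, ← hg]
      exact orderOf_injective ((Units.coeHom ℂ).comp φ) hinj g
    have hζ : IsPrimitiveRoot ((φ g : ℂˣ) : ℂ) (p ^ a) := hord ▸ IsPrimitiveRoot.orderOf _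
    have hmem : ((φ g : ℂˣ) : ℂ) ∈ field χ :=
      IntermediateField.subset_adjoin ℚ _ ⟨g, by rw [hφ]⟩
    have h1 : (p ^ a).totient ≤ Module.finrank ℚ (field χ) := by
      have hint : IsIntegral ℚ ((φ g : ℂˣ) : ℂ) :=
        (hζ.isIntegral (pow_pos hp.out.pos a)).tower_top
      have hdeg : Module.finrank ℚ ℚ⟮((φ g : ℂˣ) : ℂ)⟯ = (p ^ a).totient := by
        rw [IntermediateField.adjoin.finrank hint,
          ← Polynomial.cyclotomic_eq_minpoly_rat hζ (pow_pos hp.out.pos a),
          Polynomial.natDegree_cyclotomic]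
      rw [← hdeg]
      have hle := IntermediateField.adjoin_simple_le_iff.2 hmem
      exact LinearMap.finrank_le_finrank_of_injective
        (f := (IntermediateField.inclusion hle).toLinearMap)
        (IntermediateField.inclusion hle).injective
    have h2 := h1.trans ht
    rw [Nat.totient_prime_pow hp.out ha0, mul_comm] at h2
    have h3 : a - 1 ≤ t := (Nat.pow_le_pow_iff_right hp.out.one_lt).1
      (Nat.le_of_mul_le_mul_left h2 (Nat.sub_pos_of_lt hp.out.one_lt))
    calc (p - 1) * a ≤ (p - 1) * (t + 1) := Nat.mul_le_mul_left _ (by omega)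
      _ = (1 - 1) + (p - 1) * (t + 1) * 1 := by rw [Nat.sub_self, Nat.zero_add, mul_one]
  · -- a maximal subgroup over `H`
    obtain ⟨b, hb⟩ := IsPGroup.iff_card.1 (hPp.to_subgroup H)
    have hba : b < a := by
      refine (Nat.pow_lt_pow_iff_right hp.out.one_lt).1 ?_
      rw [← hb, ← ha]
      exact lt_of_le_of_ne (Nat.le_of_dvd Nat.card_pos H.card_subgroup_dvd_card)
        fun e => hH (Subgroup.eq_top_of_card_eq H e)
    obtain ⟨a', rfl⟩ : ∃ a', a = a' + 1 := ⟨a - 1, by omega⟩
    obtain ⟨M, hMc, hHM⟩ := Sylow.exists_subgroup_card_pow_prime_le p (n := b) (m := a')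
      (by rw [ha]; exact pow_dvd_pow p (Nat.le_succ a')) H hb (by omega)
    have hMidx : M.index = p := by
      have h := M.card_mul_index
      rw [hMc, ha, pow_succ] at h
      exact Nat.eq_of_mul_eq_mul_left (pow_pos hp.out.pos a') h
    haveI hMn : M.Normal := Subgroup.normal_of_index_eq_minFac_card (by
      rw [hMidx, ha, Nat.pow_minFac (Nat.succ_ne_zero a'), hp.out.minFac_eq])
    haveI : Fintype M := Fintype.ofFinite M
    set θ : M → ℂ := Cfsg.indFun (H.subgroupOf M)
      (fun y => ((lam ⟨((y : M) : P), Subgroup.mem_subgroupOf.mp y.2⟩ : ℂˣ) : ℂ)) with hθdef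
    have hind : Cfsg.indFun M θ = χ := by
      rw [hlam, hθdef, Char.indFun_indFun H (fun h => (lam h : ℂ)) M hHM]
    have hθc : Cfsg.IsCharacter M θ := by
      refine Char.IsCharacter.indFun _ ?_
      exact CharDeep.IrrTools.isCharacter_of_hom (lam.comp
        { toFun := fun y : H.subgroupOf M => (⟨((y : M) : P), Subgroup.mem_subgroupOf.mp y.2⟩ : H)
          map_one' := rfl
          map_mul' := fun _ _ => rfl })
    obtain ⟨f', hθ1⟩ := Char.IsCharacter.apply_one_eq hθc
    have hff : f = p * f' := by
      have h := congrFun hind 1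
      rw [Char.indFun_one, hMidx, hθ1, hf] at h
      exact_mod_cast h.symm
    have hf0 : 0 < f' := by
      rcases Nat.eq_zero_or_pos f' with h0 | h0
      · exfalso
        refine Char.IsIrrCharacter.apply_one_ne_zero hχ ?_
        rw [hf, hff, h0, mul_zero, Nat.cast_zero]
      · exact h0
    -- `θ` is irreducible
    have hθirr : Cfsg.IsIrrCharacter M θ := by
      obtain ⟨θ₀, hθ₀, hθ₀0⟩ := Char.IsCharacter.exists_constituent hθc (fun e => by
        have h := congrFun e 1
        rw [hθ1, Pi.zero_apply, Nat.cast_eq_zero] at h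
        omega)
      obtain ⟨d, e, hd, he, hde, heq⟩ := Char.IsCharacter.constituent_degree_le hθc hθ₀ hθ₀0
      suffices d = e by rw [heq this]; exact hθ₀
      have hθ₀c := Char.IsIrrCharacter.isCharacter hθ₀
      have hrest := CharDeep.Clifford.isCharacter_sub_of_constituent hθc hθ₀ hθ₀0
      have hI := Char.IsCharacter.indFun M hθ₀c
      have hI' := Char.IsCharacter.indFun M hrest
      have hsum : χ = Cfsg.indFun M θ₀ + Cfsg.indFun M (θ - θ₀) := by
        rw [← Char.indFun_add, add_sub_cancel, hind]
      obtain ⟨ψ, hψ, hψ0⟩ := Char.IsCharacter.exists_constituent hI (fun e0 => by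
        have h := congrFun e0 1
        rw [Char.indFun_one, Pi.zero_apply, mul_eq_zero] at h
        exact h.elim (fun h1 => hp.out.ne_zero (by rw [hMidx] at h1; exact_mod_cast h1))
          (Char.IsIrrCharacter.apply_one_ne_zero hθ₀))
      obtain ⟨k1, hk1⟩ := Char.IsCharacter.classInner_nat hI (Char.IsIrrCharacter.isCharacter hψ)
      obtain ⟨k2, hk2⟩ := Char.IsCharacter.classInner_nat hI' (Char.IsIrrCharacter.isCharacter hψ)
      have hne : Cfsg.classInner χ ψ ≠ 0 := by
        rw [hsum, Char.classInner_add_left, hk1, hk2]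
        have h1 : k1 ≠ 0 := fun h0 => hψ0 (by rw [hk1, h0, Nat.cast_zero])
        exact_mod_cast (by omega : k1 + k2 ≠ 0)
      have hψχ : ψ = χ := by
        by_contra hne'
        exact hne (Char.classInner_irr_ne hχ hψ (fun e1 => hne' e1.symm))
      obtain ⟨a1, b1, ha1, hb1, hab1, -⟩ := Char.IsCharacter.constituent_degree_le hI hψ hψ0
      rw [Char.indFun_one, hMidx, hd] at hb1
      rw [hψχ, hf] at ha1
      have h1 : p * d = b1 := by exact_mod_cast hb1
      have h2 : f = a1 := by exact_mod_cast ha1
      have h3 : f' = e := by rw [hθ1] at he; exact_mod_cast he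
      have h4 : p * f' ≤ p * d := by omega
      have := Nat.le_of_mul_le_mul_left h4 hp.out.pos
      omega
    have hcon : Cfsg.classInner (fun m : M => χ m) θ ≠ 0 := by
      have h := Char.classInner_indFun M θ (Char.IsIrrCharacter.isClassFunction hχ)
      rw [hind, Char.classInner_irr_self hχ] at h
      rw [Char.IsCharacter.classInner_comm (Char.IsCharacter.restrict hχc M) hθc, ← h]
      exact one_ne_zero
    -- the field of `θ`
    set K := field χ with hK
    set L' := IntermediateField.adjoin K (Set.range θ) with hL'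
    haveI : FiniteDimensional K L' := by
      haveI : Finite (Set.range θ) := (Set.finite_range θ).to_subtype
      refine IntermediateField.finiteDimensional_adjoin fun x hx => ?_
      obtain ⟨g, rfl⟩ := hx
      exact (Char.IsCharacter.isIntegral hθc g).tower_top
    haveI : FiniteDimensional ℚ L' := Module.Finite.trans K _
    haveI := finite_field hθc
    have hLle : Module.finrank ℚ (field θ) ≤ Module.finrank ℚ K * Module.finrank K L' := by
      rw [Module.finrank_mul_finrank]
      haveI : FiniteDimensional ℚ ↥(L'.restrictScalars ℚ) := ‹FiniteDimensional ℚ L'›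
      have hle : field θ ≤ L'.restrictScalars ℚ :=
        IntermediateField.adjoin_le_iff.2 fun x hx => IntermediateField.subset_adjoin K _ hx
      exact LinearMap.finrank_le_finrank_of_injective
        (f := (IntermediateField.inclusion hle).toLinearMap)
        (IntermediateField.inclusion hle).injective
    have hθmem : ∀ m : M, θ m ∈ L' := fun m => IntermediateField.subset_adjoin K _ ⟨m, rfl⟩
    have hext : ∀ τ : L' →ₐ[K] ℂ, ∃ g : P, ∀ m : M,
        τ ⟨θ m, hθmem m⟩ = CharDeep.Clifford.conjFun M g θ m := by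
      intro τ
      haveI : Algebra.IsAlgebraic ℚ L' := Algebra.IsAlgebraic.of_finite ℚ L'
      have hcard : Cardinal.mk L' ≤ Cardinal.aleph0 :=
        (Algebra.IsAlgebraic.cardinalMk_le_max ℚ L').trans (by simp)
      obtain ⟨σ, hσ⟩ := CharDeep.Galois.exists_extend hcard L'.val.toRingHom τ.toRingHom
      have hσK : ∀ c : K, σ (c : ℂ) = c := fun c => by
        have h := hσ (algebraMap K L' c)
        exact h.trans (τ.commutes c)
      have hσθ := CharDeep.Galois.isIrrCharacter_map (σ : ℂ →+* ℂ) hθirr
      have hindσ : Cfsg.indFun M ((σ : ℂ →+* ℂ) ∘ θ) = χ := by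
        funext x
        have hx : σ (χ x) = χ x := hσK ⟨χ x, IntermediateField.subset_adjoin ℚ _ ⟨x, rfl⟩⟩
        refine Eq.trans ?_ hx
        rw [← hind]
        show (Nat.card M : ℂ)⁻¹ * _ = σ ((Nat.card M : ℂ)⁻¹ * _)
        rw [map_mul, map_inv₀, map_natCast, map_sum]
        refine congrArg _ (Finset.sum_congr rfl fun y _ => ?_)
        by_cases hy : y⁻¹ * x * y ∈ M
        · rw [Char.extendByZero_apply_mem M _ hy, Char.extendByZero_apply_mem M _ hy]
          rfl
        · rw [Char.extendByZero_apply_notMem M _ hy, Char.extendByZero_apply_notMem M _ hy,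
            map_zero]
      have hne : Cfsg.classInner (fun m : M => χ m) ((σ : ℂ →+* ℂ) ∘ θ) ≠ 0 := by
        have h := Char.classInner_indFun M ((σ : ℂ →+* ℂ) ∘ θ)
          (Char.IsIrrCharacter.isClassFunction hχ)
        rw [hindσ, Char.classInner_irr_self hχ] at h
        rw [Char.IsCharacter.classInner_comm (Char.IsCharacter.restrict hχc M)
          (Char.IsIrrCharacter.isCharacter hσθ), ← h]
        exact one_ne_zero
      obtain ⟨g, hg⟩ := CharDeep.Clifford.exists_conj_of_constituent M hχ hθirr hσθ hcon hne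
      exact ⟨g, fun m => ((hσ ⟨θ m, hθmem m⟩).symm).trans (congrFun hg m)⟩
    choose gτ hgτ using hext
    have hcos : ∀ g g' : P, (g : P ⧸ M) = g' →
        CharDeep.Clifford.conjFun M g θ = CharDeep.Clifford.conjFun M g' θ := by
      intro g g' h
      have hgg : g' * g⁻¹ ∈ M := hMn.mem_comm (QuotientGroup.eq.1 h)
      funext m
      rw [CharDeep.Clifford.conjFun_apply, CharDeep.Clifford.conjFun_apply]
      have h2 := Char.IsCharacter.isClassFunction hθc
        ⟨g * (m : P) * g⁻¹, hMn.conj_mem _ m.2 g⟩ ⟨g' * g⁻¹, hgg⟩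
      rw [← h2]
      exact congrArg θ (Subtype.ext (by simp [mul_assoc]))
    have hcount : Module.finrank K L' ≤ p := by
      rw [← AlgHom.card K L' ℂ, ← hMidx, Subgroup.index, ← Nat.card_eq_fintype_card]
      refine Nat.card_le_card_of_injective (fun τ => ((gτ τ : P) : P ⧸ M)) fun τ τ' h => ?_
      refine IntermediateField.adjoin_algHom_ext _ ?_
      intro x hx
      obtain ⟨m, rfl⟩ := hx
      exact (hgτ τ m).trans ((congrFun (hcos _ _ h) m).trans (hgτ τ' m).symm)
    haveI := Char.charKer_normal hθc
    set C := Char.charKer hθc with hC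
    have hlt : Nat.card M < N := by
      rw [← hN, hMc, ha]
      exact Nat.pow_lt_pow_right hp.out.one_lt (Nat.lt_succ_self a')
    by_cases hall : ∀ τ : L' →ₐ[K] ℂ, ∀ m : M, τ ⟨θ m, hθmem m⟩ = θ m
    · -- the field does not grow
      have hone : Module.finrank K L' = 1 := by
        refine le_antisymm ?_ Module.finrank_pos
        rw [← AlgHom.card K L' ℂ]
        refine Fintype.card_le_one_iff.2 fun τ τ' => ?_
        refine IntermediateField.adjoin_algHom_ext _ ?_
        intro x hx
        obtain ⟨m, rfl⟩ := hx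
        exact (hall τ m).trans (hall τ' m).symm
      obtain ⟨θb, hθb, hθbe⟩ := Char.IsIrrCharacter.exists_deflate hθirr C fun k hk => hk
      set π := QuotientGroup.mk' C with hπ
      obtain ⟨c, hc⟩ := IsPGroup.iff_card.1 ((hPp.to_subgroup M).to_quotient C)
      have hθb1 : θb 1 = f' := by
        have h := congrFun hθbe 1
        rw [Function.comp_apply, map_one, hθ1] at h
        exact h.symm
      have hrange : Set.range θb = Set.range θ := by
        rw [hθbe, Set.range_comp, (QuotientGroup.mk'_surjective C).range_eq, Set.image_univ]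
      have hsmall : Module.finrank ℚ (field θ) ≤ (p - 1) * p ^ t := by
        calc Module.finrank ℚ (field θ) ≤ Module.finrank ℚ K * Module.finrank K L' := hLle
          _ = Module.finrank ℚ K := by rw [hone, mul_one]
          _ ≤ (p - 1) * p ^ t := ht
      have hfin : Module.finrank ℚ (field θb) = Module.finrank ℚ (field θ) :=
        (IntermediateField.equivOfEq (congrArg (IntermediateField.adjoin ℚ) hrange)).toLinearEquiv.finrank_eq
      have hb' := ih _ (lt_of_le_of_lt
        (Nat.le_of_dvd Nat.card_pos (Subgroup.card_quotient_dvd_card C)) hlt) (M ⧸ C) rfl c hc θb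
        hθb (fun y hy => by
          obtain ⟨y', rfl⟩ := QuotientGroup.mk'_surjective C y
          refine (QuotientGroup.eq_one_iff y').2 ?_
          show θ y' = θ 1
          rw [hθbe, Function.comp_apply, Function.comp_apply, map_one]
          exact hy) f' hθb1 t (le_of_eq_of_le hfin hsmall)
      -- `M` embeds in a product of `p` copies of `M ⧸ C`
      have hMle : a' ≤ p * c := by
        refine (Nat.pow_le_pow_iff_right hp.out.one_lt).1 ?_
        rw [← hMc, mul_comm, pow_mul, ← hc, ← hMidx, Subgroup.index, ← Nat.card_fun]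
        refine Nat.card_le_card_of_injective
          (fun m => fun q : P ⧸ M => π ⟨q.out * (m : P) * q.out⁻¹, hMn.conj_mem _ m.2 _⟩) ?_
        intro m m' h
        have key : (⟨(m : P) * (m' : P)⁻¹, mul_mem m.2 (inv_mem m'.2)⟩ : M) = 1 := by
          refine Subtype.ext (hfaith _ ?_)
          rw [← hind]
          show (Nat.card M : ℂ)⁻¹ * _ = (Nat.card M : ℂ)⁻¹ * _
          refine congrArg _ (Finset.sum_congr rfl fun y _ => ?_)
          have hy : y⁻¹ * ((m : P) * (m' : P)⁻¹) * y ∈ M := by
            simpa using hMn.conj_mem _ (mul_mem m.2 (inv_mem m'.2)) y⁻¹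
          rw [Char.extendByZero_apply_mem M θ hy, mul_one, inv_mul_cancel,
            Char.extendByZero_apply_mem M θ (one_mem M)]
          set q : P ⧸ M := ((y⁻¹ : P) : P ⧸ M) with hq
          have hk : π ⟨q.out * ((m : P) * (m' : P)⁻¹) * q.out⁻¹,
              hMn.conj_mem _ (mul_mem m.2 (inv_mem m'.2)) _⟩ = 1 := by
            rw [show (⟨q.out * ((m : P) * (m' : P)⁻¹) * q.out⁻¹,
                hMn.conj_mem _ (mul_mem m.2 (inv_mem m'.2)) _⟩ : M)
              = ⟨q.out * (m : P) * q.out⁻¹, hMn.conj_mem _ m.2 _⟩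
                * ⟨q.out * (m' : P) * q.out⁻¹, hMn.conj_mem _ m'.2 _⟩⁻¹ from
              Subtype.ext (by simp [mul_assoc]), map_mul, map_inv]
            exact mul_inv_eq_one.2 (congrFun h q)
          have hk' := (QuotientGroup.eq_one_iff _).1 hk
          have h2 : CharDeep.Clifford.conjFun M q.out θ
              ⟨(m : P) * (m' : P)⁻¹, mul_mem m.2 (inv_mem m'.2)⟩ = θ 1 := by
            rw [CharDeep.Clifford.conjFun_apply]
            exact hk'
          rw [hcos q.out y⁻¹ (QuotientGroup.out_eq' q), CharDeep.Clifford.conjFun_apply] at h2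
          refine Eq.trans ?_ h2
          exact congrArg θ (Subtype.ext (by simp))
        exact Subtype.ext (mul_inv_eq_one.1 (congrArg Subtype.val key))
      have h1 : (p - 1) * (a' + 1) ≤ (p - 1) + p * ((f' - 1) + (p - 1) * (t + 1) * f') := by
        rw [mul_add, mul_one, add_comm]
        refine Nat.add_le_add_left ?_ _
        calc (p - 1) * a' ≤ (p - 1) * (p * c) := Nat.mul_le_mul_left _ hMle
          _ = p * ((p - 1) * c) := by ring
          _ ≤ _ := Nat.mul_le_mul_left _ hb'
      refine h1.trans (le_of_eq ?_)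
      have h2 : p ≤ p * f' := Nat.le_mul_of_pos_right _ hf0
      have h3 : p * (f' - 1) = p * f' - p := Nat.mul_sub_one p f'
      have h4 : 1 ≤ p := hp.out.one_le
      rw [mul_add, h3, hff, show p * ((p - 1) * (t + 1) * f') = (p - 1) * (t + 1) * (p * f') by ring]
      omega
    · -- the conjugates are Galois conjugate: `θ` is faithful
      push Not at hall
      obtain ⟨τ, m₀, hτ⟩ := hall
      set g := gτ τ with hg
      have hgM : g ∉ M := fun hgM => hτ (by
        rw [hgτ τ m₀, CharDeep.Clifford.conjFun_apply]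
        exact Char.IsCharacter.isClassFunction hθc m₀ ⟨g, hgM⟩)
      set Cg := C.map M.subtype with hCg
      have hCle : ∀ k ∈ C, (⟨g * ((k : M) : P) * g⁻¹, hMn.conj_mem _ k.2 g⟩ : M) ∈ C := by
        intro k hk
        show θ _ = θ 1
        have e1 := hgτ τ k
        have e2 := hgτ τ 1
        rw [CharDeep.Clifford.conjFun_apply] at e1 e2
        have e3 : (⟨θ k, hθmem k⟩ : L') = ⟨θ 1, hθmem 1⟩ := Subtype.ext hk
        have h : τ ⟨θ k, hθmem k⟩ = τ ⟨θ 1, hθmem 1⟩ := by rw [e3]
        rw [e1, e2] at h
        refine h.trans (congrArg θ (Subtype.ext ?_))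
        simp
      have hnorm : ∀ y : P, ∀ k ∈ C, (⟨y * ((k : M) : P) * y⁻¹, hMn.conj_mem _ k.2 y⟩ : M) ∈ C := by
        have hsub : M ⊔ Subgroup.zpowers g = ⊤ := by
          refine Subgroup.index_eq_one.1 ?_
          have hdvd : (M ⊔ Subgroup.zpowers g).index ∣ p := hMidx ▸ Subgroup.index_dvd_of_le le_sup_left
          rcases (Nat.dvd_prime hp.out).1 hdvd with h | h
          · exact h
          · exfalso
            have hh := Subgroup.relIndex_mul_index (le_sup_left : M ≤ M ⊔ Subgroup.zpowers g)
            rw [h, hMidx] at hh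
            have h1 : M.relIndex (M ⊔ Subgroup.zpowers g) = 1 :=
              Nat.eq_of_mul_eq_mul_right hp.out.pos (hh.trans (one_mul p).symm)
            exact hgM (Subgroup.relIndex_eq_one.1 h1
              (Subgroup.mem_sup_right (Subgroup.mem_zpowers g)))
        have hle : (⊤ : Subgroup P) ≤ Subgroup.normalizer (Cg : Set P) := by
          rw [← hsub]
          refine sup_le (fun y hy => ?_) (Subgroup.zpowers_le.2 ?_)
          · refine Coprime.mem_normalizer_of_conj_map_le ?_
            rintro _ ⟨k, hk, rfl⟩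
            refine ⟨⟨y, hy⟩ * k * (⟨y, hy⟩ : M)⁻¹, ?_, ?_⟩
            · have hCn : C.Normal := Char.charKer_normal hθc
              exact hCn.conj_mem k hk (⟨y, hy⟩ : M)
            · simp [MulAut.conj_apply]
          · refine Coprime.mem_normalizer_of_conj_map_le ?_
            rintro _ ⟨k, hk, rfl⟩
            exact ⟨_, hCle k hk, rfl⟩
        intro y k hk
        obtain ⟨k', hk', he⟩ := (Subgroup.mem_normalizer_iff.1 (hle (Subgroup.mem_top y))
          ((k : M) : P)).1 ⟨k, hk, rfl⟩
        have : k' = ⟨y * ((k : M) : P) * y⁻¹, hMn.conj_mem _ k.2 y⟩ := Subtype.ext he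
        exact this ▸ hk'
      have hθf : ∀ k : M, θ k = θ 1 → k = 1 := by
        intro k hk
        refine Subtype.ext (hfaith _ ?_)
        rw [← hind]
        show (Nat.card M : ℂ)⁻¹ * _ = (Nat.card M : ℂ)⁻¹ * _
        refine congrArg _ (Finset.sum_congr rfl fun y _ => ?_)
        have hy : y⁻¹ * (k : P) * y ∈ M := by simpa using hMn.conj_mem _ k.2 y⁻¹
        rw [Char.extendByZero_apply_mem M θ hy, mul_one, inv_mul_cancel,
          Char.extendByZero_apply_mem M θ (one_mem M)]
        have h := hnorm y⁻¹ k hk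
        refine Eq.trans (congrArg θ (Subtype.ext ?_)) h
        simp
      have hb' := ih _ hlt M rfl a' hMc θ hθirr hθf f' hθ1 (t + 1) (by
        refine hLle.trans ((Nat.mul_le_mul ht hcount).trans (le_of_eq ?_))
        rw [pow_succ, mul_assoc])
      rw [mul_add, mul_one]
      obtain ⟨q, hqe⟩ : ∃ q, p = q + 1 := ⟨p - 1, (Nat.succ_pred hp.out.ne_zero).symm⟩
      subst hqe
      obtain ⟨m, rfl⟩ : ∃ m, f' = m + 1 := ⟨f' - 1, by omega⟩
      simp only [Nat.add_sub_cancel] at hb' ⊢
      have h5 : f - 1 = q * (m + 1) + m := by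
        rw [hff, show (q + 1) * (m + 1) = (q * (m + 1) + m) + 1 by ring]
        exact Nat.add_sub_cancel _ _
      rw [h5, hff]
      have h6 : q ≤ q * (t + 1) * (q * (m + 1)) := by
        have : 1 ≤ q := by have := hp.out.two_le; omega
        calc q = q * 1 * (1 * 1) := by ring
          _ ≤ q * (t + 1) * (q * (m + 1)) :=
            Nat.mul_le_mul (Nat.mul_le_mul_left _ (by omega)) (Nat.mul_le_mul this (by omega))
      nlinarith



/-- Let P be a finite p-group of order p^a with a > 0, and χ a faithful irreducible character of P of degree f whose field of values ℚ(χ) has degree (p − 1)·p^t over ℚ. Then a ≤ (f − 1)/(p − 1) + (t + 1)·f; in integer form, (p − 1)·a ≤ (f − 1) + (p − 1)(t + 1)·f. -/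
theorem result {P : Type*} [Group P] [Finite P] (p a : ℕ) (hp : p.Prime) (ha : 0 < a) (hP : Nat.card P = p ^ a) (χ : Cfsg.IrrCharacter P) (hfaith : ∀ g : P, (χ : P → ℂ) g = (χ : P → ℂ) 1 → g = 1) (f t : ℕ) (hf : Cfsg.charDegree (χ : P → ℂ) = f) (hfield : Module.finrank ℚ (IntermediateField.adjoin ℚ (Set.range (χ : P → ℂ))) = (p - 1) * p ^ t) : (p - 1) * a ≤ (f - 1) + (p - 1) * (t + 1) * f := by
  haveI : Fact p.Prime := ⟨hp⟩
  refine main _ P rfl a hP χ χ.2 hfaith f ?_ t hfield.le
  obtain ⟨m, ρ, -, hρ⟩ := χ.2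
  rw [← hf, ← hρ, Cfsg.charDegree, Representation.char_one, Complex.natCast_re, Nat.floor_natCast]

end Cfsg.Agent.S4489
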