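import Cfsg.Statements.S4493
import Cfsg.Agent.Lib.CharDeep.ItoMichler

set_option autoImplicit false
open Cfsg
open CfsgLib.CharDeep

namespace Cfsg.Agent.S4493

/-- Let G be a finite solvable group and p a prime. Then G has a normal abelian Sylow p-subgroup if and only if no irreducible character degree of G is divisible by p. -/
theorem result {G : Type*} [Group G] [Finite G] (hsolv : Group.IsSolvable G) (p : ℕ) (hp : p.Prime) : (∃ P : Subgroup G, P.Normal ∧ (∀ x ∈ P, ∀ y ∈ P, x * y = y * x) ∧ IsPGroup p P ∧ ¬ p ∣ P.index) ↔ ∀ χ : Cfsg.IrrCharacter G, ¬ p ∣ Cfsg.charDegree (χ : G → ℂ) := by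
  have : Fact p.Prime := ⟨hp⟩
  constructor
  · rintro ⟨P, hn, hc, -, hi⟩ χ hd
    exact hi (hd.trans (CfsgLib.DegreeTools.deg_dvd_index P
      (fun a b => Subtype.ext (hc a a.2 b b.2)) χ))
  · intro h
    obtain ⟨P⟩ : Nonempty (Sylow p G) := inferInstance
    have := hsolv
    have hn := ItoMichler.normal_sylow_of_degrees p _ rfl
      CfsgLib.Fusion.PSolvable.psolvable_of_solvable P h
    exact ⟨P, hn, fun a ha b hb =>
      congrArg Subtype.val (ItoMichler.comm_of_normal P h ⟨a, ha⟩ ⟨b, hb⟩), P.2, P.not_dvd_index⟩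

end Cfsg.Agent.S4493
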