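import Cfsg.Statements.S4495
import Cfsg.Agent.Lib.Blocks.SelfCentPrime

set_option autoImplicit false
open Cfsg

namespace Cfsg.Agent.S4495

open CfsgLib.Blocks CfsgLib.Blocks.DefectOne

/-- Let the finite group G contain an element x of prime order p with C_G(x) = ⟨x⟩, and let t be the number of conjugacy classes of elements of order p. If t ≠ p − 1 then the commutator subgroup has index at most (p − 1)/t; if t = p − 1 it has index exactly p. -/
theorem result {G : Type*} [Group G] [Finite G] (p : ℕ) (hp : p.Prime) (x : G) (hx : orderOf x = p) (hC : Subgroup.centralizer ({x} : Set G) = Subgroup.zpowers x) (t : ℕ) (ht : Nat.card {C : ConjClasses G // ∃ g ∈ C.carrier, orderOf g = p} = t) : (t ≠ p - 1 → (commutator G).index * t ≤ p - 1) ∧ (t = p - 1 → (commutator G).index = p) := by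
  haveI := Fintype.ofFinite G
  haveI : Fact p.Prime := ⟨hp⟩
  obtain ⟨P, D, rfl, hK⟩ := SelfCent.exists_frame_selfCent hx hC
  have hte := SelfCent.card_classes_mul D
  rw [ht] at hte
  have hpp : 0 < p - 1 := by have := hp.two_le; omega
  have hone : SelfCent.auto D = 1 ↔ t = p - 1 := by
    constructor
    · intro h; rw [h, mul_one] at hte; exact hte
    · intro h; rw [h] at hte; exact Nat.eq_of_mul_eq_mul_left hpp (hte.trans (mul_one _).symm)
  refine ⟨fun h => ?_, fun h => (SelfCent.commutator_of_auto_eq_one hK (hone.2 h)).1⟩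
  have h1 := Nat.le_of_dvd Nat.card_pos (SelfCent.index_commutator_dvd hK (mt hone.1 h))
  rw [← hte, mul_comm t]
  exact Nat.mul_le_mul_right t h1

end Cfsg.Agent.S4495
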