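import Cfsg.Statements.S4496
import Cfsg.Agent.Lib.Blocks.SelfCentPrime

set_option autoImplicit false
open Cfsg

namespace Cfsg.Agent.S4496

open Cfsg

/-- Let the finite group G contain an element x of prime order p with C_G(x) = ⟨x⟩. Then: (a) every normal subgroup of order divisible by p contains the commutator subgroup; (b) every normal subgroup S of order prime to p has order dividing the number of subgroups of order p of G and congruent to 1 modulo p, and in G/S the image of x again has prime order p and commutes only with its own powers. -/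
theorem result {G : Type*} [Group G] [Finite G] (p : ℕ) (hp : p.Prime) (x : G) (hx : orderOf x = p) (hC : Subgroup.centralizer ({x} : Set G) = Subgroup.zpowers x) (S : Subgroup G) [S.Normal] : (p ∣ Nat.card S → commutator G ≤ S) ∧ (¬ p ∣ Nat.card S → Nat.card S ∣ Nat.card {H : Subgroup G // Nat.card H = p} ∧ Nat.card S % p = 1 ∧ orderOf (QuotientGroup.mk x : G ⧸ S) = p ∧ Subgroup.centralizer ({(QuotientGroup.mk x : G ⧸ S)} : Set (G ⧸ S)) = Subgroup.zpowers (QuotientGroup.mk x : G ⧸ S)) := by
  haveI := Fintype.ofFinite G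
  haveI : Fact p.Prime := ⟨hp⟩
  obtain ⟨P, D, hDx, hK⟩ := CfsgLib.Blocks.SelfCent.exists_frame_selfCent hx hC
  refine ⟨fun hd => ?_, fun hS => ?_⟩
  · refine CfsgLib.Blocks.SelfCent.commutator_le hK S ?_
    obtain ⟨⟨y, hyS⟩, hy⟩ := exists_prime_orderOf_dvd_card' p hd
    rw [Subgroup.orderOf_mk] at hy
    obtain ⟨a, ha⟩ := CfsgLib.Blocks.SelfCent.exists_conj_pow D hy
    obtain ⟨w, hw⟩ := isConj_iff.1 ha
    have hpow : D.x ^ (a : ZMod p).val ∈ S := by
      have := Subgroup.Normal.conj_mem inferInstance _ hyS w⁻¹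
      rw [← hw] at this
      simpa [mul_assoc] using this
    have hne : D.x ^ (a : ZMod p).val ≠ 1 := fun e => hp.one_lt.ne (by
      rw [← D.orderOf_xpow (Units.ne_zero a), e, orderOf_one])
    refine Subgroup.zpowers_le.2 hpow ?_
    rw [CfsgLib.Blocks.PrimeOrder.zpowers_eq P D.card_P (pow_mem D.x_mem _) hne]
    exact D.x_mem
  have htriv : ∀ r ∈ S, Commute r x → r = 1 := by
    intro r hr hc
    have hrx : r ∈ Subgroup.zpowers x := hC ▸ Subgroup.mem_centralizer_singleton_iff.2 hc.eq
    have hd := Subgroup.orderOf_dvd_natCard (Subgroup.zpowers x) hrx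
    rw [Nat.card_zpowers, hx] at hd
    exact orderOf_eq_one_iff.1 (((Nat.dvd_prime hp).1 hd).resolve_right fun e =>
      hS (e ▸ Subgroup.orderOf_dvd_natCard S hr))
  have hxS : x ∉ S := fun h => by
    rw [htriv x h (Commute.refl x), orderOf_one] at hx
    exact hp.one_lt.ne hx
  have hsurj : ∀ t ∈ S, ∃ r ∈ S, r * x * r⁻¹ = t * x := by
    let f : S → S := fun s => ⟨(s : G) * x * (s : G)⁻¹ * x⁻¹, by
      rw [mul_assoc (s : G), mul_assoc]
      refine mul_mem s.2 ?_
      simpa [mul_assoc] using Subgroup.Normal.conj_mem inferInstance _ (inv_mem s.2) x⟩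
    have hf : Function.Injective f := by
      intro s s' h
      have h' : (s : G) * x * (s : G)⁻¹ = (s' : G) * x * (s' : G)⁻¹ :=
        mul_right_cancel (congrArg Subtype.val h)
      have hc : Commute ((s' : G)⁻¹ * (s : G)) x := by
        show _ = _
        calc (s' : G)⁻¹ * s * x = (s' : G)⁻¹ * ((s : G) * x * (s : G)⁻¹) * s := by group
          _ = _ := by rw [h']; group
      exact Subtype.ext (inv_mul_eq_one.1 (htriv _ (mul_mem (inv_mem s'.2) s.2) hc)).symm
    intro t ht
    obtain ⟨r, hr⟩ := Finite.injective_iff_surjective.1 hf ⟨t, ht⟩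
    have e : (r : G) * x * (r : G)⁻¹ * x⁻¹ = t := congrArg Subtype.val hr
    exact ⟨r, r.2, by rw [← e]; group⟩
  refine ⟨?_, ?_, ?_, ?_⟩
  · have hPc : Nat.card (P : Subgroup G) = p := D.card_P
    have hequiv : Nat.card {H : Subgroup G // Nat.card H = p} = Nat.card (Sylow p G) := by
      have hpp : p ^ (Nat.card G).factorization p = p :=
        (P.card_eq_multiplicity).symm.trans hPc
      symm
      refine Nat.card_eq_of_bijective
        (fun Q : Sylow p G => (⟨(Q : Subgroup G), Q.card_eq_multiplicity.trans hpp⟩ :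
          {H : Subgroup G // Nat.card H = p})) ⟨fun Q R h => Sylow.ext (congrArg Subtype.val h), ?_⟩
      rintro ⟨H, hH⟩
      exact ⟨Sylow.ofCard (p := p) H (hH.trans hpp.symm), Subtype.ext rfl⟩
    rw [hequiv, P.card_eq_index_normalizer]
    set N := Subgroup.normalizer ((P : Subgroup G) : Set G)
    have hi : N ⊓ S = ⊥ := CfsgLib.Blocks.SelfCent.nrm_inf hK S hS
    have h := CfsgLib.Solvable.Basic.card_sup_mul S N
    rw [inf_comm, hi, Subgroup.card_bot, mul_one] at h
    have h2 := Subgroup.card_subgroup_dvd_card (N ⊔ S)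
    rw [sup_comm] at h
    rw [← N.card_mul_index] at h2
    refine Nat.dvd_of_mul_dvd_mul_left (Nat.card_pos : 0 < Nat.card N) ?_
    refine dvd_trans (dvd_of_eq ?_) h2
    first | linarith | (rw [sup_comm]; linarith)
  · letI : MulAction (Subgroup.zpowers x) S :=
      MulAction.compHom S ((MulAut.conjNormal (G := G) (H := S)).comp (Subgroup.zpowers x).subtype)
    have h := IsPGroup.card_modEq_card_fixedPoints
      (IsPGroup.of_card (G := ↥(Subgroup.zpowers x)) (p := p) (n := 1) (by rw [Nat.card_zpowers, hx, pow_one])) S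
    have h1 : Nat.card (MulAction.fixedPoints (Subgroup.zpowers x) S) = 1 := by
      haveI : Subsingleton (MulAction.fixedPoints (Subgroup.zpowers x) S) := ⟨fun a b => by
        have key : ∀ c : MulAction.fixedPoints (Subgroup.zpowers x) S, (c : S) = 1 := fun c => by
          have := c.2 (⟨x, Subgroup.mem_zpowers x⟩ : Subgroup.zpowers x)
          have h' : x * ((c : S) : G) * x⁻¹ = ((c : S) : G) := congrArg Subtype.val this
          exact Subtype.ext (htriv _ (c : S).2
            (mul_inv_eq_iff_eq_mul.1 h').symm)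
        exact Subtype.ext ((key a).trans (key b).symm)⟩
      haveI : Nonempty (MulAction.fixedPoints (Subgroup.zpowers x) S) :=
        ⟨⟨1, fun g => Subtype.ext (by
          show (g : G) * ((1 : S) : G) * (g : G)⁻¹ = _
          simp)⟩⟩
      exact Nat.card_of_subsingleton (Classical.arbitrary _)
    rw [h1] at h
    exact (show Nat.card S % p = 1 % p from h).trans (Nat.one_mod_eq_one.2 hp.one_lt.ne')
  · refine orderOf_eq_prime ?_ fun e => hxS ((QuotientGroup.eq_one_iff x).1 e)
    rw [← QuotientGroup.mk_pow, ← hx, pow_orderOf_eq_one, QuotientGroup.mk_one]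
  · refine le_antisymm ?_ (Subgroup.zpowers_le.2 (Subgroup.mem_centralizer_singleton_iff.2 rfl))
    intro q hq
    obtain ⟨g, rfl⟩ := QuotientGroup.mk_surjective q
    have hq' := Subgroup.mem_centralizer_singleton_iff.1 hq
    have hmem : g * x * g⁻¹ * x⁻¹ ∈ S := by
      rw [← QuotientGroup.eq_one_iff]
      push_cast [QuotientGroup.mk_mul, QuotientGroup.mk_inv]
      rw [hq', mul_inv_cancel_right, mul_inv_cancel]
    obtain ⟨r, hrS, hr⟩ := hsurj _ hmem
    rw [inv_mul_cancel_right] at hr
    have hc : r⁻¹ * g ∈ Subgroup.zpowers x := by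
      rw [← hC, Subgroup.mem_centralizer_singleton_iff]
      calc r⁻¹ * g * x = r⁻¹ * (g * x * g⁻¹) * g := by group
        _ = r⁻¹ * (r * x * r⁻¹) * g := by rw [hr]
        _ = x * (r⁻¹ * g) := by group
    obtain ⟨i, hi⟩ := Subgroup.mem_zpowers_iff.1 hc
    refine Subgroup.mem_zpowers_iff.2 ⟨i, ?_⟩
    rw [← QuotientGroup.mk_zpow, hi, QuotientGroup.mk_mul, QuotientGroup.mk_inv,
      (QuotientGroup.eq_one_iff r).2 hrS, inv_one, one_mul]

end Cfsg.Agent.S4496
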