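import Cfsg.Statements.S4497
import Cfsg.Agent.Lib.Blocks.SelfCentPrime

set_option autoImplicit false
open Cfsg

namespace Cfsg.Agent.S4497

open CfsgLib.Blocks CfsgLib.Blocks.DefectOne
open scoped commutatorElement

/-- Let the finite group G contain an element x of prime order p with C_G(x) = ⟨x⟩, let t be the number of conjugacy classes of elements of order p, and let S* = O_{p′}(G) be the largest normal subgroup of order prime to p. Then S* ≤ G′; if t ≠ p − 1 the quotient G′/S* is simple (in particular non-trivial); if t = p − 1 then G′ = S*. -/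
theorem result {G : Type*} [Group G] [Finite G] (p : ℕ) (hp : p.Prime) (x : G) (hx : orderOf x = p) (hC : Subgroup.centralizer ({x} : Set G) = Subgroup.zpowers x) (t : ℕ) (ht : Nat.card {C : ConjClasses G // ∃ g ∈ C.carrier, orderOf g = p} = t) : Cfsg.pPrimeCore p G ≤ commutator G ∧ (t ≠ p - 1 → ∀ h : ((Cfsg.pPrimeCore p G).subgroupOf (commutator G)).Normal, IsSimpleGroup (↥(commutator G) ⧸ (Cfsg.pPrimeCore p G).subgroupOf (commutator G))) ∧ (t = p - 1 → commutator G = Cfsg.pPrimeCore p G) := by
  haveI := Fintype.ofFinite G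
  haveI : Fact p.Prime := ⟨hp⟩
  obtain ⟨P, D, rfl, hK⟩ := SelfCent.exists_frame_selfCent hx hC
  have hte := SelfCent.card_classes_mul D
  rw [ht] at hte
  have hpp : 0 < p - 1 := by have := hp.two_le; omega
  have hone : SelfCent.auto D = 1 ↔ t = p - 1 := by
    constructor
    · intro h; rw [h, mul_one] at hte; exact hte
    · intro h; rw [h] at hte; exact Nat.eq_of_mul_eq_mul_left hpp (hte.trans (mul_one _).symm)
  refine ⟨SelfCent.pPrimeCore_le hK, fun h hnorm => ?_, fun h => le_antisymm ?_ (SelfCent.pPrimeCore_le hK)⟩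
  · have he := mt hone.1 h
    have hxG := SelfCent.x_mem_commutator D he
    have hne : ¬ p ∣ Nat.card (Cfsg.pPrimeCore p G) :=
      hp.coprime_iff_not_dvd.1 (CfsgLib.Solvable.Cores.coprime_card_pPrimeCore p).symm
    have hxS : D.x ∉ Cfsg.pPrimeCore p G := fun hmem =>
      hne ((dvd_of_eq D.ord.symm).trans (Subgroup.orderOf_dvd_natCard _ hmem))
    haveI : Nontrivial (↥(commutator G) ⧸ (Cfsg.pPrimeCore p G).subgroupOf (commutator G)) :=
      ⟨⟨(⟨D.x, hxG⟩ : commutator G), 1, fun e => hxS ((QuotientGroup.eq_one_iff (⟨D.x, hxG⟩ : commutator G)).1 e)⟩⟩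
    refine ⟨fun H hH => ?_⟩
    set K := H.comap (QuotientGroup.mk' ((Cfsg.pPrimeCore p G).subgroupOf (commutator G))) with hKdef
    haveI : K.Normal := hH.comap _
    by_cases hd : p ∣ Nat.card K
    · right
      have hle := SelfCent.le_of_dvd_card hK hxG (L := K.map (commutator G).subtype) (fun g hg l hl => by
        obtain ⟨l, hl, rfl⟩ := hl
        exact ⟨⟨g, hg⟩ * l * ⟨g, hg⟩⁻¹, Subgroup.Normal.conj_mem inferInstance l hl ⟨g, hg⟩, rfl⟩)
        (by rwa [Subgroup.card_map_of_injective (commutator G).subtype_injective])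
      refine eq_top_iff.2 fun q _ => ?_
      obtain ⟨g, rfl⟩ := QuotientGroup.mk'_surjective _ q
      obtain ⟨l, hl, he'⟩ := hle g.2
      rw [← Subtype.ext he']
      exact hl
    · left
      have hle : K ≤ Cfsg.pPrimeCore p (commutator G) :=
        CfsgLib.Solvable.Cores.le_pPrimeCore (hp.coprime_iff_not_dvd.2 hd).symm
      have h2 : (Cfsg.pPrimeCore p (commutator G)).map (commutator G).subtype ≤ Cfsg.pPrimeCore p G :=
        CfsgLib.Solvable.Cores.le_pPrimeCore (by
          rw [Subgroup.card_map_of_injective (commutator G).subtype_injective]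
          exact CfsgLib.Solvable.Cores.coprime_card_pPrimeCore p)
      refine (Subgroup.eq_bot_iff_forall _).2 fun q hq => ?_
      obtain ⟨g, rfl⟩ := QuotientGroup.mk'_surjective _ q
      exact (QuotientGroup.eq_one_iff g).2 (h2 ⟨g, hle hq, rfl⟩)
  · exact CfsgLib.Solvable.Cores.le_pPrimeCore
      (hp.coprime_iff_not_dvd.2 (SelfCent.commutator_of_auto_eq_one hK (hone.2 h)).2).symm

end Cfsg.Agent.S4497
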