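import Cfsg.Statements.S4498
import Cfsg.Agent.Lib.Blocks.Idempotent
-- import your own Cfsg.Agent.* helpers here

set_option autoImplicit false
open Cfsg

namespace Cfsg.Agent.S4498

/-- Let p and q be distinct primes dividing the order of the finite group G, and suppose G has no element of order p·q. Fix maximal ideals M_p over p and M_q over q of the algebraic integers. Then the principal p-block and the principal q-block of G have a non-principal irreducible character in common. -/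
theorem result {G : Type*} [Group G] [Finite G] (p q : ℕ) [Fact p.Prime] [Fact q.Prime] (hpq : p ≠ q) (hp : p ∣ Nat.card G) (hq : q ∣ Nat.card G) (hno : ∀ g : G, orderOf g ≠ p * q) (Mp Mq : Ideal Cfsg.AlgInt) (hMp : Cfsg.IsPModular p Mp) (hMq : Cfsg.IsPModular q Mq) : ∃ χ : Cfsg.IrrCharacter G, (χ : G → ℂ) ≠ (fun _ => 1) ∧ χ ∈ Cfsg.principalBlock Mp G ∧ χ ∈ Cfsg.principalBlock Mq G := by
  classical
  cases nonempty_fintype G
  obtain ⟨x, hx⟩ := exists_prime_orderOf_dvd_card' p hp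
  obtain ⟨y, hy⟩ := exists_prime_orderOf_dvd_card' q hq
  have hqx : ¬ q ∣ orderOf x := by
    rw [hx]; intro h
    exact hpq ((Nat.prime_dvd_prime_iff_eq Fact.out Fact.out).1 h).symm
  have hpy : ¬ p ∣ orderOf y := by
    rw [hy]; intro h
    exact hpq ((Nat.prime_dvd_prime_iff_eq Fact.out Fact.out).1 h)
  have hnosing : ∀ v : G, ¬ (p ∣ orderOf v ∧ q ∣ orderOf v) := by
    rintro v ⟨h1, h2⟩
    have hco : Nat.Coprime p q := (Nat.coprime_primes Fact.out Fact.out).2 hpq
    have hdvd : p * q ∣ orderOf v := hco.mul_dvd_of_dvd_of_dvd h1 h2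
    exact hno (v ^ (orderOf v / (p * q)))
      (orderOf_pow_orderOf_div (orderOf_pos v).ne' hdvd)
  set Bp := Cfsg.principalBlock Mp G
  set Bq := Cfsg.principalBlock Mq G
  have hBp : Cfsg.IsPBlock Mp Bp := CfsgLib.Blocks.isPBlock_principalBlock
  have hBq : Cfsg.IsPBlock Mq Bq := CfsgLib.Blocks.isPBlock_principalBlock
  let F : G → ℂ := fun v => ∑ ψ : Cfsg.IrrCharacter G,
    CfsgLib.Blocks.blockInd Bp ψ * ((ψ : G → ℂ) x * (ψ : G → ℂ) v)
  let H : G → ℂ := fun v => ∑ ψ : Cfsg.IrrCharacter G,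
    CfsgLib.Blocks.blockInd Bq ψ * ((ψ : G → ℂ) y * (ψ : G → ℂ) v⁻¹)
  have hFH : ∀ v, F v * H v = 0 := by
    intro v
    by_cases h : p ∣ orderOf v
    · have hv : ¬ q ∣ orderOf v⁻¹ := by rw [orderOf_inv]; exact fun h' => hnosing v ⟨h, h'⟩
      simp only [H]
      rw [CfsgLib.Blocks.IsPBlock.sum_mul_eq_zero hMq hBq (g := y) (by rw [hy]) hv, mul_zero]
    · simp only [F]
      rw [CfsgLib.Blocks.IsPBlock.sum_mul_eq_zero hMp hBp (g := x) (by rw [hx]) h, zero_mul]
  have hkey : ∑ ψ : Cfsg.IrrCharacter G, CfsgLib.Blocks.blockInd Bp ψ *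
      CfsgLib.Blocks.blockInd Bq ψ * ((ψ : G → ℂ) x * (ψ : G → ℂ) y) = 0 := by
    have h0 : ∑ v, F v * H v = 0 := Finset.sum_eq_zero fun v _ => hFH v
    simp only [F, H, Finset.sum_mul, Finset.mul_sum] at h0
    rw [Finset.sum_comm, Finset.sum_congr rfl fun ψ _ => Finset.sum_comm, Finset.sum_comm] at h0
    refine (mul_eq_zero.1 ?_).resolve_left (CfsgLib.Char.card_ne_zero (G := G))
    rw [← h0, Finset.mul_sum]
    refine Finset.sum_congr rfl fun ψ _ => ?_
    rw [Finset.sum_eq_single ψ]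
    · have h := CfsgLib.Char.classInner_irr_self ψ.2
      rw [Cfsg.classInner, inv_mul_eq_iff_eq_mul₀ CfsgLib.Char.card_ne_zero, mul_one] at h
      simp only [CfsgLib.Blocks.conj_irr] at h
      rw [← h, Finset.sum_mul]
      exact Finset.sum_congr rfl fun v _ => by ring
    · intro φ _ hne
      have h := CfsgLib.Char.classInner_irr_ne ψ.2 φ.2 fun h => hne (Subtype.ext h).symm
      rw [Cfsg.classInner, inv_mul_eq_iff_eq_mul₀ CfsgLib.Char.card_ne_zero, mul_zero] at h
      simp only [CfsgLib.Blocks.conj_irr] at h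
      calc _ = (CfsgLib.Blocks.blockInd Bp ψ * (ψ : G → ℂ) x * CfsgLib.Blocks.blockInd Bq φ *
            (φ : G → ℂ) y) * ∑ v, (ψ : G → ℂ) v * (φ : G → ℂ) v⁻¹ := by
            rw [Finset.mul_sum]; exact Finset.sum_congr rfl fun v _ => by ring
        _ = 0 := by rw [h, mul_zero]
    · simp
  by_contra hcon
  push Not at hcon
  rw [Finset.sum_eq_single (CfsgLib.Blocks.trivChar G)] at hkey
  · simp [CfsgLib.Blocks.blockInd_of_mem, Bp, Bq, CfsgLib.Blocks.trivChar_mem_principalBlock hMp,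
      CfsgLib.Blocks.trivChar_mem_principalBlock hMq] at hkey
  · intro ψ _ hψ
    by_cases h1 : ψ ∈ Bp
    · rw [CfsgLib.Blocks.blockInd_of_notMem (hcon ψ (fun h => hψ (Subtype.ext h)) h1), mul_zero,
        zero_mul]
    · rw [CfsgLib.Blocks.blockInd_of_notMem h1, zero_mul, zero_mul]
  · simp

end Cfsg.Agent.S4498
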