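import Cfsg.Statements.S4502
import Cfsg.Agent.Lib.Blocks.DefectOneCount
import Cfsg.Agent.Lib.Blocks.Eigen

set_option autoImplicit false
open Cfsg

namespace Cfsg.Agent.S4502

open CfsgLib.Blocks CfsgLib.Blocks.DefectOne

/-- Let G be a finite group whose order is divisible by the prime p exactly once, and let P be a Sylow p-subgroup. Then the number of irreducible characters of G of degree not divisible by p equals the number of conjugacy classes of the normalizer of P. -/
theorem result {G : Type*} [Group G] [Finite G] (p : ℕ) [Fact p.Prime] (hdiv : p ∣ Nat.card G) (hsq : ¬ p ^ 2 ∣ Nat.card G) (P : Sylow p G) : Nat.card {χ : Cfsg.IrrCharacter G // ¬ p ∣ Cfsg.charDegree (χ : G → ℂ)} = Nat.card (ConjClasses (Subgroup.normalizer ((P : Subgroup G) : Set G))) := by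
  classical
  haveI := Fintype.ofFinite G
  obtain ⟨D⟩ := exists_frame P (card_sylow hdiv hsq P)
  obtain ⟨M, hM⟩ := exists_isPModular (Fact.out : p.Prime)
  have hdivN : p ∣ Nat.card (nrm P) :=
    (dvd_of_eq (card_sylow hdiv hsq P).symm).trans (Subgroup.card_dvd_of_le Subgroup.le_normalizer)
  rw [← CfsgLib.Char.card_irrCharacter]
  apply Nat.cast_injective (R := ℚ)
  rw [D.count_regular_degree hdiv hM, ← D.sum_weight_inN, ← D.inN.count_regular_degree hdivN hM]
  have hn : ((P.subtype (Subgroup.le_normalizer : (P : Subgroup G) ≤ nrm P) : Subgroup (nrm P))).Normal := by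
    rw [Sylow.coe_subtype]; exact Subgroup.normal_in_normalizer
  rw [Nat.card_congr (Equiv.subtypeUnivEquiv fun χ : IrrCharacter (nrm P) => not_dvd_degree_of_normal D.inN hn hM χ)]

end Cfsg.Agent.S4502
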