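import Cfsg.Statements.S4507
import Cfsg.Agent.Lib.Blocks.DefectOneGalois

set_option autoImplicit false
open Cfsg

namespace Cfsg.Agent.S4507

open CfsgLib.Blocks CfsgLib.Blocks.DefectOne

/-- Let G be a finite group whose order g is divisible by the prime p exactly once, g′ = g/p, and fix a maximal ideal M of the algebraic integers containing p. Call two irreducible characters p-conjugate when a field automorphism of ℂ fixing the g′-th roots of unity carries one to the other. Let B be a p-block of positive defect (its defect group is a Sylow p-subgroup). Then B contains a subset Y (the exceptional family) such that: Y is a full p-conjugacy class (its members are pairwise p-conjugate and every p-conjugate of a member of Y lies in Y); every member of B outside Y is p-conjugate only to itself; the size t of Y divides p − 1 and B has exactly t + (p − 1)/t members; and there are signs δ_χ = ±1 (χ ∈ B) such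 that for every p-regular element x and every θ ∈ Y, Σ_{χ ∈ B ∖ Y} δ_χ χ(x) + δ_θ θ(x) = 0. -/
theorem result {G : Type*} [Group G] [Finite G] (p : ℕ) [Fact p.Prime] (M : Ideal Cfsg.AlgInt) (hM : Cfsg.IsPModular p M) (hdiv : p ∣ Nat.card G) (hsq : ¬ p ^ 2 ∣ Nat.card G) (B : Set (Cfsg.IrrCharacter G)) (hB : Cfsg.IsPBlock M B) (hd : 0 < Cfsg.blockDefect p B) : ∃ Y : Set (Cfsg.IrrCharacter G), Y ⊆ B ∧ Y.Nonempty ∧ (∀ θ ∈ Y, ∀ ψ : Cfsg.IrrCharacter G, (∃ σ : ℂ ≃+* ℂ, σ (Complex.exp (2 * Real.pi * Complex.I / ((Nat.card G / p ^ (Nat.card G).factorization p) : ℕ))) = Complex.exp (2 * Real.pi * Complex.I / ((Nat.card G / p ^ (Nat.card G).factorization p) : ℕ)) ∧ (ψ : G → ℂ) = fun g => σ ((θ : G → ℂ) g)) ↔ ψ ∈ Y) ∧ (∀ χ ∈ B, χ ∉ Y → ∀ ψ : Cfsg.IrrCharacter G, (∃ σ : ℂ ≃+* ℂ, σ (Complex.exp (2 * Real.pi * Complex.I / ((Nat.card G / p ^ (Nat.card G).factorization p) : ℕ))) = Complex.exp (2 * Real.pi * Complex.I /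 ((Nat.card G / p ^ (Nat.card G).factorization p) : ℕ)) ∧ (ψ : G → ℂ) = fun g => σ ((χ : G → ℂ) g)) → ψ = χ) ∧ Nat.card Y ∣ p - 1 ∧ Nat.card B = Nat.card Y + (p - 1) / Nat.card Y ∧ ∃ δ : Cfsg.IrrCharacter G → ℤ, (∀ χ ∈ B, δ χ = 1 ∨ δ χ = -1) ∧ ∀ x : G, ¬ p ∣ orderOf x → ∀ θ ∈ Y, (∑ᶠ χ ∈ B \ Y, (δ χ : ℂ) * (χ : G → ℂ) x) + (δ θ : ℂ) * (θ : G → ℂ) x = 0 := by
  classical
  haveI := Fintype.ofFinite G
  obtain ⟨P⟩ : Nonempty (Sylow p G) := inferInstance
  obtain ⟨D⟩ := exists_frame P (card_sylow hdiv hsq P)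
  obtain ⟨θ₀, hind⟩ := exists_inducing D hM hB hd
  obtain ⟨S⟩ := exists_shape D hM hind
  rw [fact_eq_one hdiv hsq, pow_one]
  have hm : Nat.card G / p ≠ 0 := fun h => Nat.card_pos.ne' (by
    rw [← Nat.mul_div_cancel' hdiv, h, mul_zero])
  have hgal : ∀ σ : ℂ ≃+* ℂ, σ (Complex.exp (2 * Real.pi * Complex.I / (Nat.card G / p : ℕ)))
      = Complex.exp (2 * Real.pi * Complex.I / (Nat.card G / p : ℕ)) → ∃ j : (ZMod p)ˣ,
      (∀ χ ∈ S.X, ∀ g, σ ((χ : G → ℂ) g) = (χ : G → ℂ) g) ∧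
        ∀ k g, σ ((S.ζ k : G → ℂ) g) = (S.ζ (j * k) : G → ℂ) g := fun σ hσ => by
    obtain ⟨j, hj⟩ := exists_exponent_of (p := p) σ
    exact ⟨j, S.galois hM hind σ (fun z hz => fixes_roots hm hσ hz) j hj⟩
  have hBY : B \ (S.Y : Set (IrrCharacter G)) = (S.X : Set (IrrCharacter G)) := by
    ext χ
    simp only [Set.mem_sdiff, Finset.mem_coe, S.mem_iff]
    exact ⟨fun h => h.1.resolve_right h.2, fun h => ⟨Or.inl h, Finset.disjoint_left.1 S.disj h⟩⟩
  have hcY : Nat.card (S.Y : Set (IrrCharacter G)) = S.Y.card := by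
    rw [Nat.card_coe_set_eq, Set.ncard_coe_finset]
  refine ⟨(S.Y : Set (IrrCharacter G)), fun η hη => (S.mem_iff η).2 (Or.inr (Finset.mem_coe.1 hη)),
    ⟨S.ζ 1, Finset.mem_coe.2 ((S.mem_Y _).2 ⟨1, rfl⟩)⟩, fun θ hθ ψ => ?_, fun χ hχ hχY ψ => ?_, ?_, ?_,
    fun χ => if χ ∈ S.Y then S.A else S.sgn χ, fun χ hχ => ?_, fun x hx θ hθ => ?_⟩
  · obtain ⟨k, rfl⟩ := (S.mem_Y θ).1 (Finset.mem_coe.1 hθ)
    rw [Finset.mem_coe]
    constructor
    · rintro ⟨σ, hσ, he⟩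
      obtain ⟨j, -, hj⟩ := hgal σ hσ
      exact (S.mem_Y ψ).2 ⟨j * k, Subtype.ext (by rw [he]; exact (funext (hj k)).symm)⟩
    · intro hψ
      obtain ⟨l, rfl⟩ := (S.mem_Y ψ).1 hψ
      obtain ⟨σ, hσ, hσ1⟩ := exists_auto hdiv hsq (l * k⁻¹)
      have hfix : σ (Complex.exp (2 * Real.pi * Complex.I / (Nat.card G / p : ℕ)))
          = Complex.exp (2 * Real.pi * Complex.I / (Nat.card G / p : ℕ)) :=
        hσ _ (Complex.isPrimitiveRoot_exp _ hm).pow_eq_one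
      have hj : ∀ a : ZMod p, σ (ZMod.stdAddChar a : ℂ) = ZMod.stdAddChar (((l * k⁻¹ : (ZMod p)ˣ) : ZMod p) * a) := by
        obtain ⟨j, hj⟩ := exists_exponent_of (p := p) σ
        have : (j : ZMod p) = ((l * k⁻¹ : (ZMod p)ˣ) : ZMod p) :=
          ZMod.injective_stdAddChar (by rw [← hσ1, hj, mul_one])
        intro a
        rw [hj, this]
      refine ⟨σ, hfix, funext fun g => ?_⟩
      rw [(S.galois hM hind σ hσ _ hj).2 k g, inv_mul_cancel_right]
  · rintro ⟨σ, hσ, he⟩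
    have hχX : χ ∈ S.X := ((S.mem_iff χ).1 hχ).resolve_right fun h => hχY (Finset.mem_coe.2 h)
    obtain ⟨j, hj, -⟩ := hgal σ hσ
    exact Subtype.ext (by rw [he]; exact funext (hj χ hχX))
  · rw [hcY, ← S.card_Y]
    exact dvd_mul_left _ _
  · rw [hcY, S.card_eq, ← S.card_Y, Nat.mul_div_cancel_left _ Nat.card_pos,
      Nat.mul_div_cancel _ (Finset.card_pos.2 ⟨S.ζ 1, (S.mem_Y _).2 ⟨1, rfl⟩⟩), add_comm]
  · show (if χ ∈ S.Y then S.A else S.sgn χ) = 1 ∨ (if χ ∈ S.Y then S.A else S.sgn χ) = -1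
    split_ifs with h
    · exact S.sgn_A
    · exact S.sgn_X χ (((S.mem_iff χ).1 hχ).resolve_right h)
  · rw [hBY, finsum_mem_coe_finset]
    simp only [if_pos (Finset.mem_coe.1 hθ)]
    rw [Finset.sum_congr rfl fun χ hχ => by rw [if_neg (Finset.disjoint_left.1 S.disj hχ)]]
    exact S.rel θ (Finset.mem_coe.1 hθ) x hx

end Cfsg.Agent.S4507
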