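import Cfsg.Statements.S4509
import Cfsg.Agent.Lib.Blocks.SelfCentPrime

set_option autoImplicit false
open Cfsg

namespace Cfsg.Agent.S4509

open CfsgLib.Blocks CfsgLib.Blocks.DefectOne
open scoped commutatorElement

/-- Let the finite group G contain an element x of prime order p with C_G(x) = ⟨x⟩; let t be the number of conjugacy classes of elements of order p and 1 + n·p the number of subgroups of order p. Then G has a normal subgroup of order 1 + n·p if and only if either t = p − 1, or t < p − 1 and G″ ≠ G′. Moreover, if t = p − 1 then G′ has order 1 + n·p and G/G′ is cyclic of order p; and if t < p − 1 and G″ ≠ G′ then G″ has order 1 + n·p and G′ has order p·(1 + n·p). -/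
theorem result {G : Type*} [Group G] [Finite G] (p : ℕ) (hp : p.Prime) (x : G) (hx : orderOf x = p) (hC : Subgroup.centralizer ({x} : Set G) = Subgroup.zpowers x) (t : ℕ) (ht : Nat.card {C : ConjClasses G // ∃ g ∈ C.carrier, orderOf g = p} = t) (n : ℕ) (hn : Nat.card {H : Subgroup G // Nat.card H = p} = 1 + n * p) : ((∃ S : Subgroup G, S.Normal ∧ Nat.card S = 1 + n * p) ↔ (t = p - 1 ∨ (t < p - 1 ∧ derivedSeries G 2 ≠ derivedSeries G 1))) ∧ (t = p - 1 → Nat.card (commutator G) = 1 + n * p ∧ IsCyclic (G ⧸ commutator G) ∧ (commutator G).index = p) ∧ (t < p - 1 → derivedSeries G 2 ≠ derivedSeries G 1 → Nat.card (derivedSeries G 2) = 1 + n * p ∧ Nat.card (commutator G) = p * (1 + n * p)) := by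
  haveI := Fintype.ofFinite G
  haveI : Fact p.Prime := ⟨hp⟩
  obtain ⟨P, D, rfl, hK⟩ := SelfCent.exists_frame_selfCent hx hC
  have hte := SelfCent.card_classes_mul D
  rw [ht] at hte
  have hpp : 0 < p - 1 := by have := hp.two_le; omega
  have hone : SelfCent.auto D = 1 ↔ t = p - 1 := by
    constructor
    · intro h; rw [h, mul_one] at hte; exact hte
    · intro h; rw [h] at hte; exact Nat.eq_of_mul_eq_mul_left hpp (hte.trans (mul_one _).symm)
  set S1 := commutator G with hS1
  set S2 := derivedSeries G 2 with hS2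
  have hd1 : derivedSeries G 1 = S1 := derivedSeries_one G
  have hd2 : S2 = ⁅S1, S1⁆ := by rw [hS2, derivedSeries_succ, hd1]
  have hcard : Nat.card G = (1 + n * p) * p * SelfCent.auto D := by
    have hb : Function.Bijective (fun Q : Sylow p G =>
        (⟨(Q : Subgroup G), by rw [Q.card_eq_multiplicity, ← P.card_eq_multiplicity]; exact D.card_P⟩ :
          {H : Subgroup G // Nat.card H = p})) := by
      refine ⟨fun Q R h => Sylow.ext (congrArg Subtype.val h), fun H => ?_⟩
      have hc : Nat.card H.1 = p ^ (Nat.card G).factorization p := by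
        rw [← P.card_eq_multiplicity, H.2]; exact D.card_P.symm
      exact ⟨Sylow.ofCard H.1 hc, Subtype.ext (Sylow.coe_ofCard H.1 hc)⟩
    rw [← hn, ← Nat.card_congr (Equiv.ofBijective _ hb), Sylow.card_eq_index_normalizer P,
      ← Subgroup.index_mul_card (nrm P), SelfCent.card_nrm hK, mul_assoc]
    rfl
  have hnd : ¬ p ∣ 1 + n * p := fun hd => hp.not_dvd_one ((Nat.dvd_add_left (dvd_mul_left p n)).1 hd)
  have hB : t = p - 1 → Nat.card S1 = 1 + n * p ∧ IsCyclic (G ⧸ S1) ∧ S1.index = p := fun h => by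
    obtain ⟨h1, -⟩ := SelfCent.commutator_of_auto_eq_one hK (hone.2 h)
    refine ⟨?_, isCyclic_of_prime_card h1, h1⟩
    have h2 := Subgroup.card_mul_index S1
    rw [h1, hcard, hone.2 h, mul_one] at h2
    exact Nat.eq_of_mul_eq_mul_right hp.pos h2
  have hC' : t < p - 1 → S2 ≠ derivedSeries G 1 → Nat.card S2 = 1 + n * p ∧ Nat.card S1 = p * (1 + n * p) := by
    intro hlt hne
    rw [hd1] at hne
    have he : SelfCent.auto D ≠ 1 := fun h => hlt.ne (hone.1 h)
    have hxG := SelfCent.x_mem_commutator D he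
    haveI : S2.Normal := derivedSeries_normal G 2
    have hle : S2 ≤ S1 := hd1 ▸ derivedSeries_antitone G (show 1 ≤ 2 by norm_num)
    have hxS : D.x ∉ S2 := fun hmem => hne (le_antisymm hle (SelfCent.commutator_le hK S2 hmem))
    have hS : ¬ p ∣ Nat.card S2 := by
      intro hd
      obtain ⟨⟨y, hy⟩, hy'⟩ := exists_prime_orderOf_dvd_card' p hd
      rw [Subgroup.orderOf_mk] at hy'
      obtain ⟨a, ha⟩ := SelfCent.exists_conj_pow D hy'
      obtain ⟨w, hw⟩ := isConj_iff.1 ha
      have h1 : D.x ^ (a : ZMod p).val ∈ S2 := by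
        have := Subgroup.Normal.conj_mem inferInstance y hy w⁻¹
        rw [← hw] at this
        simpa [mul_assoc] using this
      have h2 : D.x ^ (a : ZMod p).val ≠ 1 := fun e => hp.one_lt.ne (by
        rw [← D.orderOf_xpow (Units.ne_zero a), e, orderOf_one])
      refine hxS (Subgroup.zpowers_le.2 h1 ?_)
      rw [PrimeOrder.zpowers_eq P D.card_P (pow_mem D.x_mem _) h2]
      exact D.x_mem
    have hsub : S2 ⊔ (P : Subgroup G) ≤ S1 := sup_le hle (D.zp ▸ Subgroup.zpowers_le.2 hxG)
    obtain ⟨hc, -⟩ := SelfCent.card_sup_P hK S2 hS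
    have hnorm : ∀ g ∈ S1, ∀ l ∈ S2 ⊔ (P : Subgroup G), g * l * g⁻¹ ∈ S2 ⊔ (P : Subgroup G) := by
      intro g hg l hl
      rw [show g * l * g⁻¹ = ⁅g, l⁆ * l by rw [commutatorElement_def]; group]
      exact mul_mem (Subgroup.mem_sup_left (hd2 ▸ Subgroup.commutator_mem_commutator hg (hsub hl))) hl
    have heq : S2 ⊔ (P : Subgroup G) = S1 :=
      le_antisymm hsub (SelfCent.le_of_dvd_card hK hxG hnorm (by rw [hc]; exact dvd_mul_right p _))
    haveI : (S2 ⊔ (P : Subgroup G)).Normal := heq ▸ inferInstanceAs (commutator G).Normal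
    have h3 := SelfCent.card_of_normal_sup hK S2 hS
    rw [hcard] at h3
    have h4 := Nat.eq_of_mul_eq_mul_right hp.pos (Nat.eq_of_mul_eq_mul_right Nat.card_pos h3)
    exact ⟨h4.symm, by rw [← heq, hc, ← h4]⟩
  refine ⟨⟨?_, ?_⟩, hB, hC'⟩
  · rintro ⟨S, hSn, hScard⟩
    by_cases ht1 : t = p - 1
    · exact Or.inl ht1
    have he : SelfCent.auto D ≠ 1 := mt hone.1 ht1
    refine Or.inr ⟨lt_of_le_of_ne (hte ▸ Nat.le_mul_of_pos_right t Nat.card_pos) ht1, fun heq => ?_⟩
    haveI := hSn
    have hS : ¬ p ∣ Nat.card S := hScard ▸ hnd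
    have htop : nrm P ⊔ S = ⊤ := by
      refine Subgroup.eq_top_of_card_eq _ ?_
      have h := CfsgLib.Solvable.Basic.card_sup_mul S (nrm P)
      rw [inf_comm, SelfCent.nrm_inf hK S hS, Subgroup.card_bot, mul_one, SelfCent.card_nrm hK, hScard] at h
      rw [h, hcard]; ring
    haveI : (S ⊔ (P : Subgroup G)).Normal := by
      refine ⟨fun l hl g => ?_⟩
      obtain ⟨m, hm, s, hs, rfl⟩ := Subgroup.mem_sup_of_normal_right.1 (htop ▸ Subgroup.mem_top g)
      have h1 : s * l * s⁻¹ ∈ S ⊔ (P : Subgroup G) :=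
        mul_mem (mul_mem (Subgroup.mem_sup_left hs) hl) (inv_mem (Subgroup.mem_sup_left hs))
      obtain ⟨u, hu, r, hr, he'⟩ := Subgroup.mem_sup_of_normal_right.1
        (show s * l * s⁻¹ ∈ (P : Subgroup G) ⊔ S by rwa [sup_comm])
      rw [show m * s * l * (m * s)⁻¹ = (m * u * m⁻¹) * (m * r * m⁻¹) by
        rw [show m * s * l * (m * s)⁻¹ = m * (s * l * s⁻¹) * m⁻¹ by group, ← he']; group]
      exact mul_mem (Subgroup.mem_sup_right ((Subgroup.mem_normalizer_iff.1 hm u).1 hu))
        (Subgroup.mem_sup_left (hSn.conj_mem r hr m))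
    have hL : S1 ≤ S ⊔ (P : Subgroup G) := SelfCent.commutator_le hK _ (Subgroup.mem_sup_right D.x_mem)
    have hS2le : S2 ≤ S := by
      rw [hd2, Subgroup.commutator_le]
      intro a ha b hb
      obtain ⟨u, hu, r, hr, rfl⟩ := Subgroup.mem_sup_of_normal_right.1 (sup_comm S (P : Subgroup G) ▸ hL ha)
      obtain ⟨v, hv, q, hq, rfl⟩ := Subgroup.mem_sup_of_normal_right.1 (sup_comm S (P : Subgroup G) ▸ hL hb)
      rw [← QuotientGroup.eq_one_iff, ← QuotientGroup.mk'_apply, map_commutatorElement, map_mul, map_mul,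
        show QuotientGroup.mk' S r = 1 from (QuotientGroup.eq_one_iff r).2 hr,
        show QuotientGroup.mk' S q = 1 from (QuotientGroup.eq_one_iff q).2 hq, mul_one, mul_one,
        ← map_commutatorElement, show ⁅u, v⁆ = 1 from commutatorElement_eq_one_iff_commute.2
          ((PrimeOrder.frobSylow_of_card P D.card_P).comm u hu v hv), map_one]
    have hxG := SelfCent.x_mem_commutator D he
    rw [heq, hd1] at hS2le
    exact hS ((dvd_of_eq D.ord.symm).trans (Subgroup.orderOf_dvd_natCard S (hS2le hxG)))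
  · rintro (h | ⟨h, hne⟩)
    · exact ⟨S1, inferInstance, (hB h).1⟩
    · exact ⟨S2, derivedSeries_normal G 2, (hC' h hne).1⟩

end Cfsg.Agent.S4509
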