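import Cfsg.Statements.S4513
import Cfsg.Agent.Lib.Blocks.SectionCentral
import Cfsg.Agent.Lib.CharDeep.CentralTrick

set_option autoImplicit false
open Cfsg

namespace Cfsg.Agent.S4513

/-- Blocks of defect one for p = 2. Let M be a maximal ideal of the algebraic integers containing 2, B a 2-block of the finite group G whose defect group is the subgroup generated by an involution x, C = C_G(x), b a block of C inducing B and θ a member of b taking the same value at x as at 1 (there is exactly one). Then B consists of exactly two irreducible characters, which agree on every element of odd order, and they can be labelled χ₁, χ₂ with signs ε₁, ε₂ = ±1, ε₁ε₂ = −1, such that χᵢ(x y) = εᵢ θ(y) for every element y of C of odd order. -/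
theorem result {G : Type*} [Group G] [Finite G] (M : Ideal Cfsg.AlgInt) (hM : Cfsg.IsPModular 2 M) (x : G) (hx : orderOf x = 2)
    (B : Set (Cfsg.IrrCharacter G)) (hB : Cfsg.IsPBlock M B) (hBD : Cfsg.IsDefectGroup 2 M B (Subgroup.zpowers x))
    (b : Set (Cfsg.IrrCharacter ↥(Subgroup.centralizer ({x} : Set G)))) (hb : Cfsg.IsInducedBlock M (Subgroup.centralizer ({x} : Set G)) b B)
    (θ : Cfsg.IrrCharacter ↥(Subgroup.centralizer ({x} : Set G))) (hθ : θ ∈ b)
    (hθx : ∀ z : ↥(Subgroup.centralizer ({x} : Set G)), (z : G) = x → (θ : ↥(Subgroup.centralizer ({x} : Set G)) → ℂ) z = (θ : ↥(Subgroup.centralizer ({x} : Set G)) → ℂ) 1) :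
    Nat.card B = 2 ∧ (∀ χ ∈ B, ∀ ψ ∈ B, ∀ g : G, ¬ 2 ∣ orderOf g → (χ : G → ℂ) g = (ψ : G → ℂ) g) ∧
      ∃ χ₁ ∈ B, ∃ χ₂ ∈ B, χ₁ ≠ χ₂ ∧ ∃ ε₁ ε₂ : ℤ, (ε₁ = 1 ∨ ε₁ = -1) ∧ (ε₂ = 1 ∨ ε₂ = -1) ∧ ε₁ * ε₂ = -1 ∧
        ∀ y : ↥(Subgroup.centralizer ({x} : Set G)), ¬ 2 ∣ orderOf y →
          (χ₁ : G → ℂ) (x * y) = (ε₁ : ℂ) * (θ : ↥(Subgroup.centralizer ({x} : Set G)) → ℂ) y ∧ (χ₂ : G → ℂ) (x * y) = (ε₂ : ℂ) * (θ : ↥(Subgroup.centralizer ({x} : Set G)) → ℂ) y := by
  classical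
  haveI := Fintype.ofFinite G
  haveI : Fact (Nat.Prime 2) := ⟨Nat.prime_two⟩
  have hxp : ∃ k : ℕ, orderOf x = 2 ^ k := ⟨1, by rw [hx, pow_one]⟩
  have hx2 : x * x = 1 := by
    have := pow_orderOf_eq_one x
    rwa [hx, pow_two] at this
  have hx1 : x ≠ 1 := fun e => by rw [e, orderOf_one] at hx; omega
  have hzmem : ∀ u ∈ Subgroup.zpowers x, u = 1 ∨ u = x := by
    intro u hu
    obtain ⟨k, rfl⟩ := (isOfFinOrder_of_finite x).mem_powers_iff_mem_zpowers.2 hu
    show x ^ k = 1 ∨ x ^ k = x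
    rcases Nat.even_or_odd k with ⟨j, hj⟩ | ⟨j, hj⟩
    · left; rw [hj, ← two_mul, pow_mul, pow_two, hx2, one_pow]
    · right; rw [hj, pow_succ, pow_mul, pow_two, hx2, one_pow, one_mul]
  have hN : Subgroup.centralizer ({x} : Set G) = Subgroup.normalizer ((Subgroup.zpowers x : Subgroup G) : Set G) := by
    ext g
    rw [Subgroup.mem_centralizer_singleton_iff, Subgroup.mem_normalizer_iff]
    constructor
    · intro hg u
      constructor
      · intro hu
        rcases hzmem u hu with h | h <;> rw [h]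
        · simp
        · rw [show g * x = x * g from hg, mul_inv_cancel_right]; exact Subgroup.mem_zpowers x
      · intro hu
        rcases hzmem _ hu with h | h
        · rw [conj_eq_one_iff.mp h]; exact one_mem _
        · rw [show u = x from by
            calc u = g⁻¹ * (g * u * g⁻¹) * g := by group
              _ = g⁻¹ * (x * g) := by rw [h, mul_assoc]
              _ = x := by rw [show x * g = g * x from hg.symm, inv_mul_cancel_left]]
          exact Subgroup.mem_zpowers x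
    · intro hg
      rcases hzmem _ ((hg x).1 (Subgroup.mem_zpowers x)) with h | h
      · exact absurd (conj_eq_one_iff.mp h) hx1
      · exact mul_inv_eq_iff_eq_mul.1 h
  obtain ⟨-, hker, hval⟩ := CfsgLib.Blocks.SectionCentral.section_values hM hB hxp hBD hN hb hθ
  have hx' : ¬ 2 ∣ orderOf (1 : ↥(Subgroup.centralizer ({x} : Set G))) := by rw [orderOf_one]; omega
  have hg1 : ¬ 2 ∣ orderOf (1 : G) := by rw [orderOf_one]; omega
  set θ1 : ℂ := (θ : ↥(Subgroup.centralizer ({x} : Set G)) → ℂ) 1 with hθ1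
  have hθ10 : θ1 ≠ 0 := CfsgLib.Blocks.irr_one_ne_zero θ
  -- the integers
  have hint : ∀ (χ : IrrCharacter G) (ψ : IrrCharacter ↥(Subgroup.centralizer ({x} : Set G))), ∃ n : ℤ,
      classInner (fun c : ↥(Subgroup.centralizer ({x} : Set G)) => (χ : G → ℂ) (x * (c : G)))
        (ψ : ↥(Subgroup.centralizer ({x} : Set G)) → ℂ) = n := by
    intro χ ψ
    set z : ↥(Subgroup.centralizer ({x} : Set G)) := ⟨x, Subgroup.mem_centralizer_singleton_iff.2 rfl⟩ with hz
    have hzc : z ∈ Subgroup.center ↥(Subgroup.centralizer ({x} : Set G)) :=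
      Subgroup.mem_center_iff.2 fun g => Subtype.ext (Subgroup.mem_centralizer_singleton_iff.1 g.2)
    have hz2 : z * z = 1 := Subtype.ext hx2
    obtain ⟨n, hn⟩ := CfsgLib.Char.IsCharacter.classInner_nat
      (CfsgLib.Char.IsCharacter.restrict (CfsgLib.Char.isCharacter_irr χ) (Subgroup.centralizer ({x} : Set G)))
      (CfsgLib.Char.isCharacter_irr ψ)
    obtain ⟨c, hc, -⟩ := CfsgLib.CharDeep.CentralTrick.exists_scalar_center ψ.2 hzc
    have hcc : c * c = 1 := by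
      have h := hc (1 * z)
      rw [hc 1, mul_assoc, hz2, mul_one, ← mul_assoc] at h
      exact (mul_eq_right₀ (CfsgLib.Blocks.irr_one_ne_zero ψ)).1 h.symm
    have hcr : (starRingEnd ℂ) c = c := by
      rcases mul_self_eq_one_iff.1 hcc with h | h <;> rw [h] <;> simp
    have key : classInner (fun u : ↥(Subgroup.centralizer ({x} : Set G)) => (χ : G → ℂ) (x * (u : G)))
        (ψ : ↥(Subgroup.centralizer ({x} : Set G)) → ℂ) = c * (n : ℂ) := by
      rw [← hn, Cfsg.classInner, Cfsg.classInner, ← mul_assoc c, mul_comm c, mul_assoc, Finset.mul_sum Finset.univ _ c]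
      congr 1
      refine Fintype.sum_equiv (Equiv.mulLeft z) _ _ fun u => ?_
      simp only [Equiv.coe_mulLeft]
      rw [show z * u = u * z from (Subgroup.mem_center_iff.1 hzc u).symm, hc u, map_mul, hcr]
      rw [show ((u * z : ↥(Subgroup.centralizer ({x} : Set G))) : G) = x * (u : G) from
        (Subgroup.mem_centralizer_singleton_iff.1 u.2)]
      linear_combination ((χ : G → ℂ) (x * (u : G)) * (starRingEnd ℂ) ((ψ : _ → ℂ) u)) * hcc.symm
    rcases mul_self_eq_one_iff.1 hcc with h | h <;> rw [key, h]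
    · exact ⟨n, by simp⟩
    · exact ⟨-n, by simp⟩
  have hd : ∀ χ : IrrCharacter G, ∃ d : ℤ, χ ∈ B → ∀ s : ↥(Subgroup.centralizer ({x} : Set G)),
      ¬ 2 ∣ orderOf s → (χ : G → ℂ) (x * (s : G)) = (d : ℂ) * (θ : _ → ℂ) s := by
    intro χ
    choose n hn using hint χ
    refine ⟨∑ ψ, if ψ ∈ b then n ψ else 0, fun hχ s hs => ?_⟩
    rw [hval χ hχ s hs, Int.cast_sum]
    congr 1
    refine Finset.sum_congr rfl fun ψ _ => ?_
    by_cases hψ : ψ ∈ b
    · rw [CfsgLib.Blocks.blockInd_of_mem hψ, if_pos hψ, one_mul, hn]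
    · rw [CfsgLib.Blocks.blockInd_of_notMem hψ, if_neg hψ, zero_mul, Int.cast_zero]
  choose d hd using hd
  have hconjθ : ∀ χ ∈ B, (χ : G → ℂ) x = (d χ : ℂ) * θ1 := by
    intro χ hχ
    have := hd χ hχ 1 hx'
    rwa [OneMemClass.coe_one, mul_one] at this
  have hθreal : (starRingEnd ℂ) θ1 = θ1 := by rw [hθ1, CfsgLib.Blocks.conj_irr, inv_one]
  have hxinv : x⁻¹ = x := inv_eq_of_mul_eq_one_right hx2
  set Bf := Finset.univ.filter (fun χ : IrrCharacter G => χ ∈ B) with hBf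
  have hmemBf : ∀ χ, χ ∈ Bf ↔ χ ∈ B := fun χ => by simp [Bf]
  have hind : ∀ F : IrrCharacter G → ℂ, ∑ χ, CfsgLib.Blocks.blockInd B χ * F χ = ∑ χ ∈ Bf, F χ := by
    intro F
    rw [Finset.sum_filter]
    refine Finset.sum_congr rfl fun χ _ => ?_
    by_cases h : χ ∈ B
    · rw [CfsgLib.Blocks.blockInd_of_mem h, if_pos h, one_mul]
    · rw [CfsgLib.Blocks.blockInd_of_notMem h, if_neg h, zero_mul]
  have hsq : ∑ χ ∈ Bf, d χ * d χ = 2 := by
    have h := CfsgLib.Blocks.sum_block_section hM (x := x) rfl hxp hB hx' hx'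
    rw [hker 1 1 hx' hx', hind, inv_one, hx] at h
    rw [Finset.sum_congr rfl (g := fun χ => ((d χ * d χ : ℤ) : ℂ) * (θ1 * θ1)) fun χ hχ => by
      rw [OneMemClass.coe_one, mul_one, hxinv, hconjθ χ ((hmemBf χ).1 hχ)]; push_cast; ring,
      ← Finset.sum_mul] at h
    have h' := mul_right_cancel₀ (mul_ne_zero hθ10 hθ10) h
    exact_mod_cast h'
  have hppart : ∀ y : G, ¬ 2 ∣ orderOf y → IsPPart 2 y 1 := fun y hy =>
    CfsgLib.Blocks.isPPart_one_of_regular hy
  have horth : ∀ g : G, ¬ 2 ∣ orderOf g → ∑ χ ∈ Bf, (d χ : ℂ) * (χ : G → ℂ) g = 0 := by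
    intro g hg
    have h := CfsgLib.Blocks.sum_block_mul_eq_zero hM hB (g := x) (z := x) (h := g⁻¹) (w := 1)
      ⟨1, mul_one x, Commute.one_right x, hxp, hg1⟩ (hppart _ (by rwa [orderOf_inv]))
      (fun h => hx1 (isConj_one_left.1 h))
    rw [hind, inv_inv, Finset.sum_congr rfl (g := fun χ => θ1 * ((d χ : ℂ) * (χ : G → ℂ) g)) fun χ hχ => by
      rw [hconjθ χ ((hmemBf χ).1 hχ)]; ring, ← Finset.mul_sum, mul_eq_zero] at h
    exact h.resolve_left hθ10
  have hdne : ∀ χ ∈ B, d χ ≠ 0 := by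
    intro χ hχ h0
    obtain ⟨χ', hχ', hne⟩ : ∃ χ' ∈ B, χ ≠ χ' := by
      by_contra hcon
      push Not at hcon
      rw [show Bf = {χ} from Finset.eq_singleton_iff_unique_mem.2
        ⟨(hmemBf χ).2 hχ, fun φ hφ => (hcon φ ((hmemBf φ).1 hφ)).symm⟩, Finset.sum_singleton, h0] at hsq
      norm_num at hsq
    obtain ⟨g, hg, hgne⟩ := CfsgLib.Blocks.SectionCentral.exists_singular_ne_zero hM hB hχ hχ' hne
    obtain ⟨z, y, hzy, hcomm, hz, hy⟩ : ∃ z y : G, z * y = g ∧ Commute z y ∧ (∃ k, orderOf z = 2 ^ k) ∧ ¬ 2 ∣ orderOf y := by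
      have hp' := CfsgLib.Blocks.pPart_spec (G := G) Nat.prime_two g
      obtain ⟨y, h1, h2, h3, h4⟩ := hp'
      exact ⟨_, y, h1, h2, h3, h4⟩
    have hz1 : z ≠ 1 := fun e => hy (by rw [e, one_mul] at hzy; rwa [hzy])
    by_cases hcx : IsConj z x
    · obtain ⟨u, hu⟩ := isConj_iff.1 hcx
      refine hgne ?_
      have hyc : u * y * u⁻¹ ∈ Subgroup.centralizer ({x} : Set G) := by
        rw [Subgroup.mem_centralizer_singleton_iff, ← hu]
        calc u * y * u⁻¹ * (u * z * u⁻¹) = u * (y * z) * u⁻¹ := by group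
          _ = u * (z * y) * u⁻¹ := by rw [hcomm.eq]
          _ = _ := by group
      rw [← hzy, ← CfsgLib.Blocks.irr_conj_apply χ (z * y) u,
        show u * (z * y) * u⁻¹ = x * (u * y * u⁻¹) by rw [← hu]; group]
      have h2 := hd χ hχ ⟨u * y * u⁻¹, hyc⟩ (by
        rw [Subgroup.orderOf_mk, show orderOf (u * y * u⁻¹) = orderOf y from (MulAut.conj u).orderOf_eq y]; exact hy)
      rw [h2, h0, Int.cast_zero, zero_mul]
    · refine hgne (CfsgLib.Blocks.char_eq_zero_of_not_mem_defectGroup hM hB hχ (x := z)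
        ⟨y, hzy, hcomm, hz, hy⟩ fun D hD hzD => hcx ?_)
      obtain ⟨u, rfl⟩ := CfsgLib.Blocks.exists_conj_eq_defectGroup hM hB hBD hD
      obtain ⟨v, hv, rfl⟩ := Subgroup.mem_map.1 hzD
      rcases hzmem v hv with h | h
      · exact absurd (by rw [h, map_one]) hz1
      · rw [h]; exact (isConj_iff.2 ⟨u, rfl⟩).symm
  have hcard : Bf.card = 2 := by
    have h1 : ∀ χ ∈ Bf, (1 : ℤ) ≤ d χ * d χ := fun χ hχ => by
      nlinarith [Int.one_le_abs (hdne χ ((hmemBf χ).1 hχ)), abs_mul_abs_self (d χ)]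
    have h2 : (Bf.card : ℤ) ≤ 2 := by
      rw [← hsq]
      simpa using Finset.sum_le_sum h1
    have h3 : Bf.card ≠ 1 := fun h => by
      obtain ⟨χ, hχ⟩ := Finset.card_eq_one.1 h
      rw [hχ, Finset.sum_singleton] at hsq
      have : |d χ| ≤ 1 := by nlinarith [abs_mul_abs_self (d χ), abs_nonneg (d χ)]
      rw [abs_le] at this
      nlinarith
    have h4 : Bf.card ≠ 0 := fun h => by
      rw [Finset.card_eq_zero.1 h, Finset.sum_empty] at hsq; norm_num at hsq
    omega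
  obtain ⟨χ₁, χ₂, hne, hBe⟩ := Finset.card_eq_two.1 hcard
  have h1B : χ₁ ∈ B := (hmemBf χ₁).1 (by rw [hBe]; simp)
  have h2B : χ₂ ∈ B := (hmemBf χ₂).1 (by rw [hBe]; simp)
  rw [hBe, Finset.sum_pair hne] at hsq
  have hunit : ∀ χ : IrrCharacter G, d χ ≠ 0 → d χ * d χ ≤ 1 → d χ = 1 ∨ d χ = -1 := fun χ h1 h2 => by
    have : |d χ| ≤ 1 := by nlinarith [abs_mul_abs_self (d χ), abs_nonneg (d χ)]
    rw [abs_le] at this; omega
  have hd1 : d χ₁ * d χ₁ ≤ 1 := by nlinarith [Int.one_le_abs (hdne χ₂ h2B), abs_mul_abs_self (d χ₂)]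
  have hd2 : d χ₂ * d χ₂ ≤ 1 := by nlinarith [Int.one_le_abs (hdne χ₁ h1B), abs_mul_abs_self (d χ₁)]
  have hu1 := hunit χ₁ (hdne χ₁ h1B) hd1
  have hu2 := hunit χ₂ (hdne χ₂ h2B) hd2
  have hsum : d χ₁ + d χ₂ = 0 := by
    have h := horth 1 hg1
    rw [hBe, Finset.sum_pair hne, CfsgLib.Blocks.irr_one_eq, CfsgLib.Blocks.irr_one_eq] at h
    have h' : d χ₁ * (charDegree (χ₁ : G → ℂ) : ℤ) + d χ₂ * (charDegree (χ₂ : G → ℂ) : ℤ) = 0 := by
      exact_mod_cast h
    have a1 : (0 : ℤ) < charDegree (χ₁ : G → ℂ) := by exact_mod_cast CfsgLib.Blocks.charDegree_pos χ₁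
    have a2 : (0 : ℤ) < charDegree (χ₂ : G → ℂ) := by exact_mod_cast CfsgLib.Blocks.charDegree_pos χ₂
    rcases hu1 with e1 | e1 <;> rcases hu2 with e2 | e2 <;> rw [e1, e2] at h' ⊢ <;> omega
  have heq : ∀ g : G, ¬ 2 ∣ orderOf g → (χ₁ : G → ℂ) g = (χ₂ : G → ℂ) g := by
    intro g hg
    have h := horth g hg
    rw [hBe, Finset.sum_pair hne, show d χ₂ = -d χ₁ by omega, Int.cast_neg, neg_mul, ← sub_eq_add_neg,
      ← mul_sub, mul_eq_zero, sub_eq_zero] at h
    exact h.resolve_left (Int.cast_ne_zero.2 (hdne χ₁ h1B))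
  have hBset : ∀ χ, χ ∈ B → χ = χ₁ ∨ χ = χ₂ := fun χ hχ => by
    have := (hmemBf χ).2 hχ
    rw [hBe] at this
    simpa using this
  refine ⟨?_, fun χ hχ ψ hψ g hg => ?_, χ₁, h1B, χ₂, h2B, hne, d χ₁, d χ₂, hu1, hu2, ?_, fun y hy => ?_⟩
  · rw [← hcard, ← Nat.card_eq_finsetCard]
    exact Nat.card_congr (Equiv.subtypeEquivRight fun χ => (hmemBf χ).symm)
  · rcases hBset χ hχ with rfl | rfl <;> rcases hBset ψ hψ with rfl | rfl
    · rfl
    · exact heq g hg
    · exact (heq g hg).symm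
    · rfl
  · rcases hu1 with e1 | e1 <;> rcases hu2 with e2 | e2 <;> rw [e1, e2] at hsum ⊢ <;> omega
  · exact ⟨hd χ₁ h1B y hy, hd χ₂ h2B y hy⟩

end Cfsg.Agent.S4513
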