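import Cfsg.Statements.S4518
import Cfsg.Agent.Lib.CharDeep.Clifford
import Cfsg.Agent.Lib.Char.Monomial

set_option autoImplicit false
open Cfsg

namespace Cfsg.Agent.S4518

open Cfsg CfsgLib CfsgLib.Char CfsgLib.CharDeep.Clifford

/-- Let N be a normal subgroup of the finite group G whose index is not divisible by the prime p, and let k be coprime to the order of G with k ^ (p ^ e) ≡ 1 modulo the order of G for some e (so g ↦ g ^ k induces a field automorphism of p-power order on character values). If an irreducible character χ of G satisfies χ (g ^ k) = χ g for all g, then every irreducible constituent θ of the restriction of χ to N satisfies θ (n ^ k) = θ n for all n. -/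
theorem result {G : Type*} [Group G] [Fintype G] (p : ℕ) [Fact p.Prime] (N : Subgroup G) [N.Normal] [Fintype N] (hidx : ¬ p ∣ N.index) (k e : ℕ) (hk : Nat.Coprime k (Nat.card G)) (hke : k ^ (p ^ e) ≡ 1 [MOD Nat.card G]) (χ : Cfsg.IrrCharacter G) (hχ : ∀ g : G, (χ : G → ℂ) (g ^ k) = (χ : G → ℂ) g) (θ : Cfsg.IrrCharacter N) (hθ : Cfsg.classInner (fun n : N => (χ : G → ℂ) n) (θ : N → ℂ) ≠ 0) : ∀ n : N, (θ : N → ℂ) (n ^ k) = (θ : N → ℂ) n := by
  classical
  have hp : p.Prime := Fact.out
  set S := {φ : IrrCharacter N // classInner (fun n : N => (χ : G → ℂ) n) (φ : N → ℂ) ≠ 0}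
  have hkN : (Nat.card N).Coprime k := hk.symm.coprime_dvd_left N.card_subgroup_dvd_card
  have hres : ∀ φ : N → ℂ, classInner (fun n : N => (χ : G → ℂ) n) (fun n => φ (n ^ k))
      = classInner (fun n : N => (χ : G → ℂ) n) φ := by
    intro φ
    simp only [classInner]
    congr 1
    refine Fintype.sum_equiv (powCoprime hkN) _ _ fun n => ?_
    show _ = (χ : G → ℂ) ((n ^ k : N) : G) * _
    rw [SubgroupClass.coe_pow, hχ]
    rfl
  let s : S → S := fun φ => ⟨⟨fun n => (φ.1 : N → ℂ) (n ^ k),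
    IsIrrCharacter.comp_pow φ.1.2 k hkN⟩, by rw [show ((⟨fun n => (φ.1 : N → ℂ) (n ^ k),
      IsIrrCharacter.comp_pow φ.1.2 k hkN⟩ : IrrCharacter N) : N → ℂ)
      = fun n => (φ.1 : N → ℂ) (n ^ k) from rfl, hres]; exact φ.2⟩
  have hsinj : Function.Injective s := by
    intro a b hab
    refine Subtype.ext (Subtype.ext (funext fun n => ?_))
    obtain ⟨m, rfl⟩ := (powCoprime hkN).surjective n
    exact congrFun (congrArg (fun c : S => (c.1 : N → ℂ)) hab) m
  let σ : Equiv.Perm S := Equiv.ofBijective s (Finite.injective_iff_bijective.1 hsinj)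
  have hiter : ∀ (j : ℕ) (φ : S) (n : N),
      (((σ ^ j : Equiv.Perm S) φ).1 : N → ℂ) n = (φ.1 : N → ℂ) (n ^ k ^ j) := by
    intro j
    induction j with
    | zero => intro φ n; simp
    | succ j ih =>
      intro φ n
      rw [pow_succ, Equiv.Perm.mul_apply, ih]
      show (φ.1 : N → ℂ) ((n ^ k ^ j) ^ k) = _
      rw [← pow_mul, ← pow_succ]
  have hσ : σ ^ (p ^ e) = 1 := by
    refine Equiv.ext fun φ => Subtype.ext (Subtype.ext (funext fun n => ?_))
    rw [hiter, Equiv.Perm.one_apply]
    refine congrArg _ ?_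
    conv_rhs => rw [← pow_one n]
    refine (pow_eq_pow_iff_modEq (x := n)).2 (Nat.ModEq.of_dvd ?_ hke)
    exact (orderOf_dvd_natCard n).trans N.card_subgroup_dvd_card
  have hP : IsPGroup p (Subgroup.zpowers σ) := by
    obtain ⟨j, -, hj⟩ := (Nat.dvd_prime_pow hp).1 (orderOf_dvd_of_pow_eq_one hσ)
    exact IsPGroup.of_card (n := j) (by rw [Nat.card_zpowers, hj])
  let θS : S := ⟨θ, hθ⟩
  let f : G → S := fun g => ⟨⟨CfsgLib.CharDeep.Clifford.conjFun N g (θ : N → ℂ), isIrrCharacter_conjFun N g θ.2⟩, by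
    rw [show ((⟨CfsgLib.CharDeep.Clifford.conjFun N g (θ : N → ℂ), isIrrCharacter_conjFun N g θ.2⟩ : IrrCharacter N) : N → ℂ)
      = CfsgLib.CharDeep.Clifford.conjFun N g (θ : N → ℂ) from rfl,
      classInner_restrict_conjFun N g (IsIrrCharacter.isClassFunction χ.2)]
    exact hθ⟩
  have hf : Function.Surjective f := by
    intro φ
    obtain ⟨g, hg⟩ := exists_conj_of_constituent N χ.2 θ.2 φ.1.2 hθ φ.2
    exact ⟨g, Subtype.ext (Subtype.ext hg.symm)⟩
  have hcardS : ¬ p ∣ Nat.card S := by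
    set T : Subgroup G := stab (θ : N → ℂ)
    have hfib : ∀ φ : S, (Finset.univ.filter fun g : G => f g = φ).card = Nat.card T := by
      intro φ
      obtain ⟨g₀, rfl⟩ := hf φ
      rw [← card_filter_conjG_eq (θ : N → ℂ) g₀]
      refine congrArg Finset.card (Finset.filter_congr fun g _ => ?_)
      rw [conjG_eq_comp, conjG_eq_comp]
      exact ⟨fun h => congrArg (fun c : S => (c.1 : N → ℂ)) h,
        fun h => Subtype.ext (Subtype.ext h)⟩
    have hmul : Nat.card T * Nat.card S = Nat.card G := by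
      rw [Nat.card_eq_fintype_card (α := G), ← Finset.card_univ,
        Finset.card_eq_sum_card_fiberwise (f := f) (t := Finset.univ)
          (fun g _ => Finset.mem_univ (f g)),
        Finset.sum_congr rfl fun φ _ => hfib φ, Finset.sum_const, Finset.card_univ,
        Nat.card_eq_fintype_card (α := S), smul_eq_mul, mul_comm]
    have hidxT : Nat.card S = T.index :=
      Nat.eq_of_mul_eq_mul_left Nat.card_pos (hmul.trans T.card_mul_index.symm)
    rw [hidxT]
    exact fun h => hidx (h.trans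
      (Subgroup.index_dvd_of_le (le_stab (IsIrrCharacter.isClassFunction θ.2))))
  obtain ⟨φ, hφ⟩ := hP.nonempty_fixed_point_of_prime_not_dvd_card S hcardS
  have hφσ : s φ = φ := hφ ⟨σ, Subgroup.mem_zpowers σ⟩
  obtain ⟨g, hg⟩ := exists_conj_of_constituent N χ.2 φ.1.2 θ.2 φ.2 hθ
  intro n
  rw [hg]
  show (φ.1 : N → ℂ) ((MulAut.conjNormal g : MulAut N) (n ^ k)) = (φ.1 : N → ℂ) _
  rw [map_pow]
  exact congrFun (congrArg (fun c : S => (c.1 : N → ℂ)) hφσ) _

end Cfsg.Agent.S4518
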