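import Cfsg.Statements.S4520
import Cfsg.Agent.Lib.Blocks.RealBlocks
import Cfsg.Agent.Lib.Blocks.CoverPrincipal
-- import your own Cfsg.Agent.* helpers here

set_option autoImplicit false
open Cfsg

namespace Cfsg.Agent.S4520

/-- Let N be a normal subgroup of odd index in the finite group G, M a maximal ideal of the algebraic integers containing 2, and k coprime to the order of G with k ^ (2 ^ e) ≡ 1 modulo the order of G for some e and g ^ k = g⁻¹ for every element g of odd order. Let θ be an irreducible character of N and χ an irreducible character of G over θ, both unchanged by composing with g ↦ g ^ k. Then χ lies in the principal 2-block of G if and only if θ lies in the principal 2-block of N. -/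
theorem result {G : Type*} [Group G] [Fintype G] (M : Ideal Cfsg.AlgInt) (hM : Cfsg.IsPModular 2 M) (N : Subgroup G) [N.Normal] [Fintype N] (hidx : Odd N.index) (k e : ℕ) (hk : Nat.Coprime k (Nat.card G)) (hke : k ^ (2 ^ e) ≡ 1 [MOD Nat.card G]) (hk₂ : ∀ g : G, Odd (orderOf g) → g ^ k = g⁻¹) (θ : Cfsg.IrrCharacter N) (hθ : ∀ n : N, (θ : N → ℂ) (n ^ k) = (θ : N → ℂ) n) (χ : Cfsg.IrrCharacter G) (hχ : ∀ g : G, (χ : G → ℂ) (g ^ k) = (χ : G → ℂ) g) (hover : Cfsg.classInner (fun n : N => (χ : G → ℂ) n) (θ : N → ℂ) ≠ 0) : χ ∈ Cfsg.principalBlock M G ↔ θ ∈ Cfsg.principalBlock M N := by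
  classical
  refine ⟨fun h => CfsgLib.Blocks.mem_principalBlock_of_over hM hover h, fun h => ?_⟩
  set a := Cfsg.blockCoeff (Cfsg.principalBlock M G) with ha
  have hB0 : Cfsg.IsPBlock M (Cfsg.principalBlock M G) := CfsgLib.Blocks.isPBlock_principalBlock
  let f : N → ℂ := fun n => a n
  let F : G → ℂ := fun x => if hx : x ∈ N then f ⟨x, hx⟩ else 0
  have haconj : ∀ x y : G, a (y * x * y⁻¹) = a x := fun x y =>
    CfsgLib.Blocks.blockCoeff_isClassFunction _ x y
  have hFcl : Cfsg.IsClassFunction G F := by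
    intro x y
    have hiff : y * x * y⁻¹ ∈ N ↔ x ∈ N := ⟨fun h' => by
      simpa [mul_assoc] using Subgroup.Normal.conj_mem inferInstance _ h' y⁻¹,
      fun h' => Subgroup.Normal.conj_mem inferInstance x h' y⟩
    by_cases hx : x ∈ N
    · simp [F, f, hx, hiff.2 hx, haconj]
    · simp [F, hx, mt hiff.1 hx]
  have hFR : ∀ x, Cfsg.MemLocalRing M (F x) := fun x => by
    simp only [F]
    split
    · exact CfsgLib.Blocks.blockCoeff_LR hM hB0 _
    · exact CfsgLib.Blocks.LR.zero hM
  have key : ∀ φ : Cfsg.IrrCharacter G,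
      (∀ g, Cfsg.IsPRegular 2 g → (φ : G → ℂ) g⁻¹ = (φ : G → ℂ) g) →
      Cfsg.MemLocalIdeal M (CfsgLib.Blocks.omega (φ : G → ℂ) F
        - CfsgLib.Blocks.blockInd (Cfsg.principalBlock M G) φ) := by
    intro φ hφ
    refine CfsgLib.Blocks.omega_sub_principal_LI hM hFcl hFR ?_ ?_ ?_ ?_
    · intro g
      by_cases hg : g ∈ N
      · simp [F, f, hg, ha, CfsgLib.Blocks.blockCoeff_principalBlock_inv hM]
      · simp [F, hg]
    · intro g hg
      rw [CfsgLib.Blocks.IsPBlock.blockCoeff_eq_zero hM hB0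
        (by simpa using CfsgLib.Blocks.not_isPRegular.1 hg)]
      simp only [F]
      split
      · exact CfsgLib.Blocks.IsPBlock.blockCoeff_eq_zero hM hB0
          (by simpa using CfsgLib.Blocks.not_isPRegular.1 hg)
      · rfl
    · intro g hg
      rw [CfsgLib.Blocks.centralChar_inv]
      simp only [Cfsg.centralChar, CfsgLib.Blocks.irrConj_apply_inv, inv_one, hφ g hg, sub_self]
      exact CfsgLib.Blocks.LI.zero hM
    · intro g hg hc
      have hgN : g ∈ N := by
        rw [← QuotientGroup.eq_one_iff]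
        refine CfsgLib.Blocks.eq_one_of_real_of_odd_card (x := (g : G ⧸ N)) ?_ ?_
        · exact hidx
        · simpa using (QuotientGroup.mk' N).map_isConj hc
      simp [F, f, hgN, ha, CfsgLib.Blocks.LI.zero hM]
  have hχs : ∀ g, Cfsg.IsPRegular 2 g → (χ : G → ℂ) g⁻¹ = (χ : G → ℂ) g := fun g hg => by
    rw [← hk₂ g (CfsgLib.Blocks.odd_orderOf_of_isPRegular hg)]; exact hχ g
  have hf : ∀ (g : G) (n : N), f (MulAut.conjNormal g n) = f n := fun g n => by
    simp [f, MulAut.conjNormal_apply, haconj]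
  have h1 := key χ hχs
  have h2 := key (CfsgLib.Blocks.trivChar G) fun g _ => rfl
  rw [CfsgLib.Blocks.omega_extend, CfsgLib.Blocks.omega_eq_of_over hover hf] at h1
  rw [CfsgLib.Blocks.omega_extend, show (∑ n : N, f n * (CfsgLib.Blocks.trivChar G : G → ℂ) n)
      / (CfsgLib.Blocks.trivChar G : G → ℂ) 1
      = CfsgLib.Blocks.omega (CfsgLib.Blocks.trivChar N : N → ℂ) f by
        simp [CfsgLib.Blocks.omega], CfsgLib.Blocks.blockInd_of_mem
        (CfsgLib.Blocks.trivChar_mem_principalBlock hM)] at h2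
  have h3 := CfsgLib.Blocks.omega_congr hM (CfsgLib.Blocks.IsPBlock.sameBlock hM
    CfsgLib.Blocks.isPBlock_principalBlock h (CfsgLib.Blocks.trivChar_mem_principalBlock hM))
    (fun x y => haconj x y) (f := f) (fun n => CfsgLib.Blocks.blockCoeff_LR hM hB0 _)
  by_contra hne
  rw [CfsgLib.Blocks.blockInd_of_notMem hne, sub_zero] at h1
  have h4 := CfsgLib.Blocks.LI.sub hM (CfsgLib.Blocks.LI.sub hM h1 h3) h2
  simp at h4
  exact CfsgLib.Blocks.LI.not_one hM h4

end Cfsg.Agent.S4520
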