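import Cfsg.Statements.S4521
import Cfsg.Agent.Lib.Blocks.PCentralizer
import Cfsg.Agent.Lib.Blocks.CoverPrincipal
import Cfsg.Agent.Lib.CharDeep.HomogLift
import Cfsg.Agent.Lib.CharDeep.Clifford
-- import your own Cfsg.Agent.* helpers here

set_option autoImplicit false
open Cfsg CfsgLib.Blocks
open scoped ComplexConjugate Classical

namespace Cfsg.Agent.S4521

/-- Traces against an operator commuting with a homogeneous representation. -/
theorem trace_mul_commutant {N : Type*} [Group N] [Fintype N] {U V : Type*} [AddCommGroup U]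
    [Module ℂ U] [FiniteDimensional ℂ U] [AddCommGroup V] [Module ℂ V] [FiniteDimensional ℂ V]
    (σ : Representation ℂ N U) [σ.IsIrreducible] (π : Representation ℂ N V) {m : ℕ}
    (hm : ∀ x, π.character x = (m : ℂ) * σ.character x) (X : Module.End ℂ V)
    (hX : ∀ x, Commute (π x) X) (x : N) :
    LinearMap.trace ℂ V (π x * X) * σ.character 1
      = σ.character x * LinearMap.trace ℂ V X := by
  have hU := CfsgLib.CharDeep.IrrTools.apply_ne_zero_of_isIrreducible σ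
  set f : N → ℂ := fun y => LinearMap.trace ℂ V (π y * X) with hf
  have hfc : IsClassFunction N f := fun y w => by
    show LinearMap.trace ℂ V (π (w * y * w⁻¹) * X) = LinearMap.trace ℂ V (π y * X)
    rw [map_mul π, map_mul π, mul_assoc, (hX w⁻¹).eq, ← mul_assoc, LinearMap.trace_mul_comm]
    simp only [← mul_assoc]
    rw [← map_mul, inv_mul_cancel, map_one, one_mul]
  set φ : Cfsg.IrrCharacter N := ⟨σ.character, CfsgLib.CharDeep.IrrTools.isIrrCharacter_character σ⟩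
  have horth : ∀ θ : Cfsg.IrrCharacter N, θ ≠ φ → classInner f (θ : N → ℂ) = 0 := by
    intro θ hθ
    obtain ⟨_, ρ, hρ, hρc⟩ := id θ.2
    have h0 : ∑ y : N, (θ : N → ℂ) y⁻¹ • σ y = 0 := by
      rw [← hρc]
      exact (CfsgLib.CharDeep.IrrTools.sum_character_inv_smul ρ σ).2 fun he =>
        hθ (Subtype.ext (hρc.symm.trans he.symm))
    have h1 : ∑ y : N, (θ : N → ℂ) y⁻¹ • π y = 0 := by
      have h2 := congrArg (CfsgLib.CharDeep.HomogLift.lift σ π) h0
      simpa only [map_sum, map_smul, CfsgLib.CharDeep.HomogLift.lift_sigma σ π hm, map_zero] using h2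
    rw [Cfsg.classInner]
    refine mul_eq_zero_of_right _ ?_
    have h3 := congrArg (fun Y => LinearMap.trace ℂ V (Y * X)) h1
    simp only [Finset.sum_mul, smul_mul_assoc, map_sum, map_smul, zero_mul, map_zero] at h3
    rw [← h3]
    exact Finset.sum_congr rfl fun y _ => by rw [CfsgLib.Blocks.conj_irr, smul_eq_mul, mul_comm]
  have hexp := CfsgLib.Char.IsClassFunction.eq_sum_irr hfc
  rw [Finset.sum_eq_single φ (fun θ _ hθ => by rw [horth θ hθ, zero_smul])
    (fun h => absurd (Finset.mem_univ _) h)] at hexp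
  have e1 := congrFun hexp x
  have e2 := congrFun hexp 1
  simp only [hf, Pi.smul_apply, smul_eq_mul, map_one, one_mul, φ] at e1 e2
  rw [e1, e2]
  ring


/-- Let the finite group G be generated by subgroups U₁ and U₂ that commute elementwise and whose intersection is a p-group, and let M be a maximal ideal of the algebraic integers containing the prime p. If the irreducible character χ of G has the irreducible constituents ψ₁ on U₁ and ψ₂ on U₂, then χ lies in the principal block of G if and only if ψ₁ and ψ₂ lie in the principal blocks of U₁ and U₂. -/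
theorem result {G : Type*} [Group G] [Fintype G] (p : ℕ) [Fact p.Prime] (M : Ideal Cfsg.AlgInt) (hM : Cfsg.IsPModular p M) (U₁ U₂ : Subgroup G) [Fintype U₁] [Fintype U₂] (hcomm : ∀ u ∈ U₁, ∀ v ∈ U₂, u * v = v * u) (hgen : U₁ ⊔ U₂ = ⊤) (hZ : IsPGroup p ↥(U₁ ⊓ U₂)) (χ : Cfsg.IrrCharacter G) (ψ₁ : Cfsg.IrrCharacter U₁) (ψ₂ : Cfsg.IrrCharacter U₂) (h₁ : Cfsg.classInner (fun u : U₁ => (χ : G → ℂ) u) (ψ₁ : U₁ → ℂ) ≠ 0) (h₂ : Cfsg.classInner (fun u : U₂ => (χ : G → ℂ) u) (ψ₂ : U₂ → ℂ) ≠ 0) : χ ∈ Cfsg.principalBlock M G ↔ (ψ₁ ∈ Cfsg.principalBlock M U₁ ∧ ψ₂ ∈ Cfsg.principalBlock M U₂) := by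
  have hp := hM.1
  haveI := Fact.mk hp
  have hnorm : ∀ (A B : Subgroup G), (∀ u ∈ A, ∀ v ∈ B, u * v = v * u) → A ⊔ B = ⊤ → A.Normal := by
    intro A B hc hg
    rw [← Subgroup.normalizer_eq_top_iff, ← top_le_iff, ← hg]
    refine sup_le Subgroup.le_normalizer fun b hb => Subgroup.centralizer_le_normalizer _ ?_
    exact Subgroup.mem_centralizer_iff.2 fun a ha => hc a ha b hb
  haveI hn1 : U₁.Normal := hnorm U₁ U₂ hcomm hgen
  haveI hn2 : U₂.Normal := hnorm U₂ U₁ (fun u hu v hv => (hcomm v hv u hu).symm) (by rw [sup_comm, hgen])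
  have hdec : ∀ g : G, ∃ (u : U₁) (v : U₂), (u : G) * v = g := fun g => by
    obtain ⟨u, hu, v, hv, rfl⟩ := Subgroup.mem_sup_of_normal_left.1 (hgen ▸ Subgroup.mem_top g)
    exact ⟨⟨u, hu⟩, ⟨v, hv⟩, rfl⟩
  have hcom : ∀ (u : U₁) (v : U₂), Commute (u : G) v := fun u v => hcomm u u.2 v v.2
  constructor
  · exact fun h => ⟨mem_principalBlock_of_over hM h₁ h, mem_principalBlock_of_over hM h₂ h⟩
  rintro ⟨hp1, hp2⟩
  have hinv : ∀ (A B : Subgroup G) [A.Normal] (hc : ∀ u ∈ A, ∀ v ∈ B, u * v = v * u) (hg : A ⊔ B = ⊤)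
      (ψ : Cfsg.IrrCharacter A) (g : G) (n : A),
      (ψ : A → ℂ) ⟨g * n * g⁻¹, (inferInstance : A.Normal).conj_mem n n.2 g⟩ = (ψ : A → ℂ) n := by
    intro A B _ hc hg ψ g n
    obtain ⟨a, ha, b, hb, rfl⟩ := Subgroup.mem_sup_of_normal_left.1 (hg ▸ Subgroup.mem_top g)
    have h1 : (⟨a * b * n * (a * b)⁻¹, (inferInstance : A.Normal).conj_mem n n.2 _⟩ : A)
        = ⟨a, ha⟩ * n * ⟨a, ha⟩⁻¹ := Subtype.ext (by
      show a * b * (n : G) * (a * b)⁻¹ = a * n * a⁻¹
      rw [mul_inv_rev, mul_assoc a b, ← hc n n.2 b hb]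
      simp [mul_assoc])
    rw [h1]
    exact CfsgLib.Char.IsIrrCharacter.isClassFunction ψ.2 n _
  obtain ⟨e1, -, -, he1⟩ := CfsgLib.CharDeep.Clifford.restrict_eq_smul U₁ χ.2 ψ₁.2 h₁
    (hinv U₁ U₂ hcomm hgen ψ₁)
  obtain ⟨e2, -, -, he2⟩ := CfsgLib.CharDeep.Clifford.restrict_eq_smul U₂ χ.2 ψ₂.2 h₂
    (hinv U₂ U₁ (fun u hu v hv => (hcomm v hv u hu).symm) (by rw [sup_comm, hgen]) ψ₂)
  have hχ1 : ∀ u : U₁, (χ : G → ℂ) u = (e1 : ℂ) * (ψ₁ : U₁ → ℂ) u := fun u => congrFun he1 u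
  have hχ2 : ∀ v : U₂, (χ : G → ℂ) v = (e2 : ℂ) * (ψ₂ : U₂ → ℂ) v := fun v => congrFun he2 v
  have hprod : ∀ (u : U₁) (v : U₂), (χ : G → ℂ) ((u : G) * v) * (ψ₁ : U₁ → ℂ) 1
      = (ψ₁ : U₁ → ℂ) u * (χ : G → ℂ) v := by
    intro u v
    obtain ⟨_, π, hπ, hπc⟩ := id χ.2
    obtain ⟨_, σ, hσ, hσc⟩ := id ψ₁.2
    have h := trace_mul_commutant σ (π.comp U₁.subtype) (m := e1)
      (fun x => by
        show π.character (x : G) = _
        rw [hπc, hσc]; exact hχ1 x) (π v) (fun x => (hcom x v).map π) u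
    rw [hσc] at h
    rw [← hπc]
    show LinearMap.trace ℂ _ (π ((u : G) * v)) * _ = _
    rw [map_mul]
    exact h
  -- regular elements and their classes
  have hzreg : ∀ (u u' : U₁) (v v' : U₂), ¬ p ∣ orderOf u → ¬ p ∣ orderOf u' →
      (u : G) * v = (u' : G) * v' → u = u' ∧ v = v' := by
    intro u u' v v' hu hu' he
    have hz : (u' : G)⁻¹ * u = (v' : G) * (v : G)⁻¹ := by
      rw [inv_mul_eq_iff_eq_mul, ← mul_assoc, ← he, mul_inv_cancel_right]
    set z := (u' : G)⁻¹ * u with hzdef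
    have hz2 : z ∈ U₂ := hz ▸ U₂.mul_mem v'.2 (U₂.inv_mem v.2)
    obtain ⟨k, hk⟩ := IsPGroup.iff_orderOf.1 hZ ⟨z, U₁.mul_mem (U₁.inv_mem u'.2) u.2, hz2⟩
    rw [← Subgroup.orderOf_coe] at hk
    simp only at hk
    have hc : Commute z (u' : G) := (hcom u' ⟨z, hz2⟩).symm
    have h1 := isPPart_mul hc hk (show ¬ p ∣ orderOf (u' : G) by rwa [Subgroup.orderOf_coe])
    rw [show z * (u' : G) = (u : G) by rw [hc.eq, hzdef, mul_inv_cancel_left]] at h1
    have h2 := isPPart_unique hp h1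
      (isPPart_one_of_regular (show ¬ p ∣ orderOf (u : G) by rwa [Subgroup.orderOf_coe]))
    have huu : u = u' := Subtype.ext (inv_mul_eq_one.1 h2).symm
    refine ⟨huu, Subtype.ext ?_⟩
    rw [huu] at he
    exact mul_left_cancel he
  have hcc : ∀ (ξ : Cfsg.IrrCharacter G) (η₁ : Cfsg.IrrCharacter U₁) (η₂ : Cfsg.IrrCharacter U₂) (e : ℕ),
      (∀ (u : U₁) (v : U₂), (ξ : G → ℂ) ((u : G) * v) * (η₁ : U₁ → ℂ) 1
        = (η₁ : U₁ → ℂ) u * ((e : ℂ) * (η₂ : U₂ → ℂ) v)) → ∀ (u : U₁) (v : U₂),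
      ¬ p ∣ orderOf u → centralChar (ξ : G → ℂ) ((u : G) * v)
        = centralChar (η₁ : U₁ → ℂ) u * centralChar (η₂ : U₂ → ℂ) v := by
    intro ξ η₁ η₂ e hξ u v hu
    rw [← omega_classInd, ← omega_classInd, ← omega_classInd, omega, omega, omega]
    simp only [classInd, ite_mul, one_mul, zero_mul, ← Finset.sum_filter]
    have h1 := hξ 1 1
    simp only [OneMemClass.coe_one, mul_one] at h1
    have hne1 := irr_one_ne_zero η₁
    have hne2 := irr_one_ne_zero η₂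
    have he0 : (e : ℂ) ≠ 0 := fun h0 => by
      rw [h0] at h1
      simp only [zero_mul, mul_zero, mul_eq_zero] at h1
      exact h1.elim (irr_one_ne_zero ξ) hne1
    have hξ1 : (ξ : G → ℂ) 1 = (e : ℂ) * (η₂ : U₂ → ℂ) 1 :=
      mul_right_cancel₀ hne1 (by rw [h1]; ring)
    rw [div_mul_div_comm, Finset.sum_mul_sum, ← Finset.sum_product', hξ1]
    have hsum : ∑ x ∈ Finset.univ.filter (fun x => IsConj ((u : G) * v) x), (ξ : G → ℂ) x
        = ∑ q ∈ (Finset.univ.filter (fun x => IsConj u x)) ×ˢ (Finset.univ.filter (fun y => IsConj v y)),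
          (ξ : G → ℂ) ((q.1 : G) * (q.2 : G)) := by
      symm
      refine Finset.sum_nbij (fun q => (q.1 : G) * (q.2 : G)) (fun q hq => ?_)
        (fun q hq q' hq' he => ?_) (fun x hx => ?_) (fun q _ => rfl)
      · simp only [Finset.mem_product, Finset.mem_filter, Finset.mem_univ, true_and] at hq ⊢
        obtain ⟨a, ha⟩ := isConj_iff.1 hq.1
        obtain ⟨b, hb⟩ := isConj_iff.1 hq.2
        refine isConj_iff.2 ⟨(a : G) * b, ?_⟩
        rw [← ha, ← hb, Subgroup.coe_mul, Subgroup.coe_mul, Subgroup.coe_mul, Subgroup.coe_mul,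
          Subgroup.coe_inv, Subgroup.coe_inv, mul_inv_rev]
        have e1 : (b : G) * u = u * b := (hcom u b).eq.symm
        have e2 : (v : G) * (b : G)⁻¹ * (a : G)⁻¹ = (a : G)⁻¹ * ((v : G) * (b : G)⁻¹) :=
          ((hcom a ⟨_, U₂.mul_mem v.2 (U₂.inv_mem b.2)⟩).inv_left).eq.symm
        have e3 : (b : G) * (a : G)⁻¹ = (a : G)⁻¹ * b := ((hcom a b).inv_left).eq.symm
        calc (a : G) * b * (u * v) * ((b : G)⁻¹ * (a : G)⁻¹)
            = (a : G) * ((b : G) * u) * ((v : G) * (b : G)⁻¹ * (a : G)⁻¹) := by simp only [mul_assoc]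
          _ = (a : G) * ((u : G) * ((b : G) * (a : G)⁻¹)) * ((v : G) * (b : G)⁻¹) := by
              rw [e1, e2]; simp only [mul_assoc]
          _ = _ := by rw [e3]; simp only [mul_assoc]
      · simp only [Finset.coe_product, Finset.coe_filter, Set.mem_prod, Set.mem_setOf_eq,
          Finset.mem_univ, true_and] at hq hq'
        have hreg : ∀ w : U₁, IsConj u w → ¬ p ∣ orderOf w := fun w hw => by
          obtain ⟨a, rfl⟩ := isConj_iff.1 hw
          rwa [show orderOf (a * u * a⁻¹) = orderOf u from (MulAut.conj a).orderOf_eq u]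
        obtain ⟨e1, e2⟩ := hzreg _ _ _ _ (hreg _ hq.1) (hreg _ hq'.1) he
        exact Prod.ext e1 e2
      · simp only [Finset.coe_filter, Finset.mem_univ, true_and, Set.mem_setOf_eq] at hx
        obtain ⟨g, rfl⟩ := isConj_iff.1 hx
        obtain ⟨a, b, rfl⟩ := hdec g
        refine ⟨(a * u * a⁻¹, b * v * b⁻¹), ?_, ?_⟩
        · simp only [Finset.coe_product, Finset.coe_filter, Set.mem_prod, Set.mem_setOf_eq,
            Finset.mem_univ, true_and]
          exact ⟨isConj_iff.2 ⟨a, rfl⟩, isConj_iff.2 ⟨b, rfl⟩⟩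
        · simp only [Subgroup.coe_mul, Subgroup.coe_inv, mul_inv_rev]
          have e1 : (b : G) * u = u * b := (hcom u b).eq.symm
          have e2 : (v : G) * (b : G)⁻¹ * (a : G)⁻¹ = (a : G)⁻¹ * ((v : G) * (b : G)⁻¹) :=
            ((hcom a ⟨_, U₂.mul_mem v.2 (U₂.inv_mem b.2)⟩).inv_left).eq.symm
          have e3 : (b : G) * (a : G)⁻¹ = (a : G)⁻¹ * b := ((hcom a b).inv_left).eq.symm
          symm
          calc (a : G) * b * (u * v) * ((b : G)⁻¹ * (a : G)⁻¹)
              = (a : G) * ((b : G) * u) * ((v : G) * (b : G)⁻¹ * (a : G)⁻¹) := by simp only [mul_assoc]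
            _ = (a : G) * ((u : G) * ((b : G) * (a : G)⁻¹)) * ((v : G) * (b : G)⁻¹) := by
                rw [e1, e2]; simp only [mul_assoc]
            _ = _ := by rw [e3]; simp only [mul_assoc]
    rw [hsum, Finset.sum_div, Finset.sum_div]
    refine Finset.sum_congr rfl fun q _ => ?_
    rw [div_eq_div_iff (mul_ne_zero he0 hne2) (mul_ne_zero hne1 hne2)]
    linear_combination ((η₂ : U₂ → ℂ) 1) * hξ q.1 q.2
  refine mem_blockOf.2 (sameBlock_of_regular hM (χ := trivChar G) (ψ := χ) fun s hs => ?_)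
  obtain ⟨u₀, v₀, hs0⟩ := hdec s
  obtain ⟨xu, yu, -, hxyu, hcu, hyu, ⟨ku, hxu⟩, -, -⟩ := exists_isPPart hp u₀
  obtain ⟨xv, yv, -, hxyv, hcv, hyv, ⟨kv, hxv⟩, -, -⟩ := exists_isPPart hp v₀
  have hs' : s = ((xu : G) * xv) * ((yu : G) * yv) := by
    rw [← hs0, ← hxyu, ← hxyv, Subgroup.coe_mul, Subgroup.coe_mul]
    exact (hcom yu xv).mul_mul_mul_comm _ _
  have hx : ∃ k, orderOf ((xu : G) * xv) = p ^ k := by
    have h := (hcom xu xv).orderOf_mul_dvd_lcm.trans (Nat.lcm_dvd_mul _ _)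
    rw [Subgroup.orderOf_coe, Subgroup.orderOf_coe, hxu, hxv, ← pow_add] at h
    obtain ⟨j, -, hj⟩ := (Nat.dvd_prime_pow hp).1 h
    exact ⟨j, hj⟩
  have hy : ¬ p ∣ orderOf ((yu : G) * yv) := fun hd => by
    rcases hp.dvd_mul.1 (hd.trans ((hcom yu yv).orderOf_mul_dvd_lcm.trans (Nat.lcm_dvd_mul _ _))) with h | h
    · exact hyu (by rwa [Subgroup.orderOf_coe] at h)
    · exact hyv (by rwa [Subgroup.orderOf_coe] at h)
  obtain ⟨k, hk⟩ := hx
  have hcxy : Commute ((xu : G) * xv) ((yu : G) * yv) :=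
    ((hcu.map U₁.subtype).mul_left (hcom yu xv).symm).mul_right
      ((hcom xu yv).mul_left (hcv.map U₂.subtype))
  have h1 := isPPart_mul hcxy hk hy
  rw [← hs'] at h1
  rw [hs', isPPart_unique hp h1 (isPPart_one_of_regular hs), one_mul,
    hcc (trivChar G) (trivChar U₁) (trivChar U₂) 1 (fun u v => by simp) yu yv hyu,
    hcc χ ψ₁ ψ₂ e2 (fun u v => by rw [hprod, hχ2]) yu yv hyu]
  have a1 : MemLocalIdeal M (centralChar (trivChar U₁ : U₁ → ℂ) yu - centralChar (ψ₁ : U₁ → ℂ) yu) := hp1 yu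
  have a2 : MemLocalIdeal M (centralChar (trivChar U₂ : U₂ → ℂ) yv - centralChar (ψ₂ : U₂ → ℂ) yv) := hp2 yv
  have := LI.add hM (LI.mul_right hM a1 (centralChar_LR hM (trivChar U₂) yv))
    (LI.mul_left hM (centralChar_LR hM ψ₁ yu) a2)
  convert this using 1
  ring

end Cfsg.Agent.S4521
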