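import Cfsg.Statements.S4528
import Cfsg.Agent.Lib.Blocks.TameDefect.DihedralCount

set_option autoImplicit false
open Cfsg

namespace Cfsg.Agent.S4528

/-- Let B be a 2-block of the finite group G (relative to a maximal ideal M of the algebraic integers containing 2) whose defect group D is dihedral of order 2 ^ n with n ≥ 3. Then B contains exactly 2 ^ (n - 2) + 3 irreducible characters, its 2-regular rank (the number of irreducible Brauer characters) is between 1 and 3, exactly four of its members have height zero, and every member has height at most one. -/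
theorem result {G : Type*} [Group G] [Finite G] (M : Ideal Cfsg.AlgInt) (hM : Cfsg.IsPModular 2 M) (B : Set (Cfsg.IrrCharacter G)) (hB : Cfsg.IsPBlock M B) (D : Subgroup G) (hD : Cfsg.IsDefectGroup 2 M B D) (n : ℕ) (hn : 3 ≤ n) (hdih : Nonempty (D ≃* DihedralGroup (2 ^ (n - 1)))) : Nat.card B = 2 ^ (n - 2) + 3 ∧ 1 ≤ Cfsg.blockRank 2 B ∧ Cfsg.blockRank 2 B ≤ 3 ∧ Nat.card {χ : Cfsg.IrrCharacter G // χ ∈ B ∧ Cfsg.blockHeight 2 B (χ : G → ℂ) = 0} = 4 ∧ ∀ χ ∈ B, Cfsg.blockHeight 2 B (χ : G → ℂ) ≤ 1 := by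
  classical
  haveI := Fintype.ofFinite G
  haveI : Fact (Nat.Prime 2) := ⟨Nat.prime_two⟩
  obtain ⟨φ⟩ := hdih
  haveI : NeZero (2 ^ (n - 1)) := ⟨by positivity⟩
  set x : D := φ.symm (DihedralGroup.r 1)
  set y : D := φ.symm (DihedralGroup.sr 0)
  have hx : orderOf x = 2 ^ (n - 1) :=
    (orderOf_injective φ.symm.toMonoidHom φ.symm.injective _).trans DihedralGroup.orderOf_r_one
  have hs : CfsgLib.Blocks.TameDefect.Shape D (n - 1) (-1) (x : G) (y : G) := by
    refine ⟨by omega, x.2, y.2, by rw [Subgroup.orderOf_coe, hx], ?_, ?_, fun hm => ?_, ?_,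
      Or.inl rfl⟩
    · rw [Nat.card_congr φ.toEquiv, DihedralGroup.nat_card, pow_succ, mul_comm]
    · refine congrArg Subtype.val (show y * y = 1 from ?_)
      rw [← map_mul, DihedralGroup.sr_mul_self, map_one]
    · obtain ⟨i, hi⟩ := Subgroup.mem_zpowers_iff.1 hm
      have h := congrArg φ (show x ^ i = y from Subtype.ext (by rw [Subgroup.coe_zpow]; exact hi))
      rw [map_zpow, φ.apply_symm_apply, φ.apply_symm_apply, DihedralGroup.r_one_zpow] at h
      simp at h
    · have h : y * x * y⁻¹ = x ^ (-1 : ℤ) := by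
        rw [zpow_neg_one, ← map_inv, ← map_mul, ← map_mul, ← map_inv]
        congr 1
        simp
      have h' := congrArg Subtype.val h
      simpa using h'
  obtain ⟨e, he⟩ := CfsgLib.BrauerPairs.exists_pair_of_defectGroup hM hB hD
  have h := CfsgLib.Blocks.TameDefect.dihedral_invariants hM hs
    (CfsgLib.BrauerPairs.isMaximal_of_defectGroup hM hD he)
  rwa [Nat.sub_sub] at h

end Cfsg.Agent.S4528
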