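import Cfsg.Statements.S4540
import Cfsg.Agent.Lib.Blocks.TwoMajor

-- import your own Cfsg.Agent.* helpers here

set_option autoImplicit false
open Cfsg CfsgLib.Blocks

namespace Cfsg.Agent.S4540

/-- Let B be a 2-block of the finite group G (relative to a maximal ideal M of the algebraic integers containing 2) of defect d with defect group D. Let z be an element of D commuting with every element of D, and let b be a block of the centralizer C of z with defect group D that induces B (a major subsection (z, b)). If b has 2-regular rank at most three, then 3·k(B) ≤ 3·k₀(B) + 2·Σ 2 ^ h(χ), where k(B) is the number of members of B, k₀(B) the number of members of height zero, and the sum runs over the members χ of B of positive height h(χ); this bound is at most 3·2 ^ d, so in particular B contains at most 2 ^ d irreducible characters. -/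
theorem result {G : Type*} [Group G] [Finite G] (M : Ideal Cfsg.AlgInt) (hM : Cfsg.IsPModular 2 M) (B : Set (Cfsg.IrrCharacter G)) (hB : Cfsg.IsPBlock M B) (D : Subgroup G) (hD : Cfsg.IsDefectGroup 2 M B D) (z : G) (hzD : z ∈ D) (hzc : ∀ d ∈ D, d * z = z * d) (b : Set (Cfsg.IrrCharacter ↥(Subgroup.centralizer ({z} : Set G)))) (hb : Cfsg.IsInducedBlock M (Subgroup.centralizer ({z} : Set G)) b B) (hbD : Cfsg.IsDefectGroup 2 M b (D.subgroupOf (Subgroup.centralizer ({z} : Set G)))) (hl : Cfsg.blockRank 2 b ≤ 3) : 3 * Nat.card B ≤ 3 * Nat.card {χ : Cfsg.IrrCharacter G // χ ∈ B ∧ Cfsg.blockHeight 2 B (χ : G → ℂ) = 0} + 2 * (∑ᶠ χ ∈ {χ : Cfsg.IrrCharacter G | χ ∈ B ∧ 1 ≤ Cfsg.blockHeight 2 B (χ : G → ℂ)}, 2 ^ Cfsg.blockHeight 2 B (χ : G → ℂ)) ∧ 3 * Nat.card {χ : Cfsg.IrrCharacter G // χ ∈ B ∧ Cfsg.blockHeight 2 B (χ : G → ℂ) = 0} + 2 * (∑ᶠ χ ∈ {χ : Cfsg.IrrCharacter G | χ ∈ B ∧ 1 ≤ Cfsg.blockHeight 2 B (χ : G → ℂ)}, 2 ^ Cfsg.blockHeight 2 B (χ :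 G → ℂ)) ≤ 3 * 2 ^ Cfsg.blockDefect 2 B := by
  classical
  let _ : Fintype G := Fintype.ofFinite G
  have hDK : D ≤ Subgroup.centralizer ({z} : Set G) := fun d hd =>
    Subgroup.mem_centralizer_singleton_iff.2 (hzc d hd)
  have hmaj : Cfsg.blockDefect 2 b = Cfsg.blockDefect 2 B := by
    have h1 := card_defectGroup hM hb.1 hbD
    rw [Nat.card_congr (Subgroup.subgroupOfEquivOfLe hDK).toEquiv, card_defectGroup hM hB hD] at h1
    exact (Nat.pow_right_injective (le_refl 2) h1).symm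
  have hzp : ∃ j : ℕ, orderOf z = 2 ^ j := by
    haveI : Fact (Nat.Prime 2) := ⟨Nat.prime_two⟩
    obtain ⟨g, hg, S, rfl⟩ := hD
    obtain ⟨j, hj⟩ := (S.2.map (Subgroup.centralizer ({g} : Set G)).subtype) ⟨z, hzD⟩
    obtain ⟨i, -, hi⟩ := (Nat.dvd_prime_pow Nat.prime_two).1
      (orderOf_dvd_of_pow_eq_one (congrArg Subtype.val hj : z ^ 2 ^ j = 1))
    exact ⟨i, hi⟩
  obtain ⟨T⟩ := TwoMajor.nonempty_data hM rfl hzp hb hmaj
  have h := T.weighted_bound hl
  rw [finsum_mem_eq_toFinset_sum, Set.toFinset_setOf, Nat.card_eq_fintype_card, Nat.card_eq_fintype_card,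
    Fintype.card_subtype, Fintype.card_subtype, Finset.mul_sum]
  have hpos : (Finset.univ.filter fun χ : Cfsg.IrrCharacter G =>
      χ ∈ B ∧ 1 ≤ Cfsg.blockHeight 2 B (χ : G → ℂ))
      = (Finset.univ.filter (· ∈ B)).filter fun χ => ¬ TwoMajor.ht B χ = 0 := by
    rw [Finset.filter_filter]
    refine Finset.filter_congr fun χ _ => and_congr_right fun _ => ?_
    rw [blockHeight_eq, TwoMajor.ht, Nat.one_le_iff_ne_zero]
  have hzero : (Finset.univ.filter fun χ : Cfsg.IrrCharacter G =>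
      χ ∈ B ∧ Cfsg.blockHeight 2 B (χ : G → ℂ) = 0)
      = (Finset.univ.filter (· ∈ B)).filter fun χ => TwoMajor.ht B χ = 0 := by
    rw [Finset.filter_filter]
    refine Finset.filter_congr fun χ _ => and_congr_right fun _ => ?_
    rw [blockHeight_eq, TwoMajor.ht]
  rw [hpos, hzero]
  set S := Finset.univ.filter fun χ : Cfsg.IrrCharacter G => χ ∈ B
  rw [Finset.sum_ite, Finset.sum_const, smul_eq_mul, mul_comm _ 3] at h
  have he : ∑ χ ∈ S.filter (fun χ => ¬ TwoMajor.ht B χ = 0), 2 * 2 ^ Cfsg.blockHeight 2 B (χ : G → ℂ)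
      = ∑ χ ∈ S.filter (fun χ => ¬ TwoMajor.ht B χ = 0), 2 ^ (TwoMajor.ht B χ + 1) :=
    Finset.sum_congr rfl fun χ _ => by rw [TwoMajor.ht, ← blockHeight_eq, pow_succ']
  rw [he]
  refine ⟨?_, h⟩
  rw [← Finset.card_filter_add_card_filter_not (s := S) (fun χ => TwoMajor.ht B χ = 0), Nat.mul_add]
  refine Nat.add_le_add_left ?_ _
  rw [mul_comm, ← smul_eq_mul]
  refine Finset.card_nsmul_le_sum _ _ 3 fun χ hχ => ?_
  have hne : TwoMajor.ht B χ ≠ 0 := (Finset.mem_filter.1 hχ).2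
  calc 3 ≤ 2 ^ 2 := by norm_num
    _ ≤ 2 ^ (TwoMajor.ht B χ + 1) := Nat.pow_le_pow_right two_pos (by omega)

end Cfsg.Agent.S4540
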