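import Cfsg.Statements.S4550
import Cfsg.Agent.Lib.Blocks.CentralDefect
import Cfsg.Agent.Lib.Blocks.RealBlocks
import Cfsg.Agent.Lib.Blocks.Parts
import Cfsg.Agent.Lib.Char.Monomial

set_option autoImplicit false
open Cfsg

namespace Cfsg.Agent.S4550

open Cfsg CfsgLib CfsgLib.Blocks

/-- Let G be a finite group of even order and M a maximal ideal of the algebraic integers containing 2. Let k be a natural number with g ^ k = g ^ 3 for every 2-element g and g ^ k = g for every element g of odd order (such k exist); an irreducible character χ is unchanged by g ↦ g ^ k exactly when it is fixed by the field automorphism that cubes the 2-power roots of unity and fixes the roots of unity of odd order. Then the number of members χ of the principal 2-block of odd degree with χ (g ^ k) = χ g for all g is even. -/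
theorem result {G : Type*} [Group G] [Finite G] (M : Ideal Cfsg.AlgInt) (hM : Cfsg.IsPModular 2 M) (hev : Even (Nat.card G)) (k : ℕ) (hk₁ : ∀ g : G, (∃ j : ℕ, orderOf g = 2 ^ j) → g ^ k = g ^ 3) (hk₂ : ∀ g : G, Odd (orderOf g) → g ^ k = g) : Even (Nat.card {χ : Cfsg.IrrCharacter G // χ ∈ Cfsg.principalBlock M G ∧ Odd (Cfsg.charDegree (χ : G → ℂ)) ∧ ∀ g : G, (χ : G → ℂ) (g ^ k) = (χ : G → ℂ) g}) := by
  classical
  haveI := Fintype.ofFinite G
  haveI : Fact (Nat.Prime 2) := ⟨Nat.prime_two⟩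
  have hcop : (Nat.card G).Coprime k := by
    rw [Nat.coprime_iff_gcd_eq_one]
    by_contra hne
    obtain ⟨q, hq, hqd⟩ := Nat.exists_prime_and_dvd hne
    haveI := Fact.mk hq
    obtain ⟨g, hg⟩ := exists_prime_orderOf_dvd_card' q (hqd.trans (Nat.gcd_dvd_left _ _))
    have hk : g ^ k = 1 := orderOf_dvd_iff_pow_eq_one.1 (hg ▸ hqd.trans (Nat.gcd_dvd_right _ _))
    rcases hq.eq_two_or_odd' with rfl | hodd
    · rw [hk₁ g ⟨1, by rw [hg, pow_one]⟩] at hk
      have h3 := Nat.le_of_dvd (by norm_num) (orderOf_dvd_of_pow_eq_one hk)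
      have h4 := orderOf_dvd_of_pow_eq_one hk
      rw [hg] at h4
      omega
    · rw [hk₂ g (hg ▸ hodd)] at hk
      rw [hk, orderOf_one] at hg
      exact hq.one_lt.ne hg
  set a := (Nat.card G).factorization 2 with ha
  have hk2 : ∀ g : G, g ^ k ^ 2 ^ a = g := by
    intro g
    obtain ⟨w, y, -, hwy, hc, hy, ⟨j, hj⟩, -, -⟩ := exists_isPPart Nat.prime_two g
    have hyk : ∀ i : ℕ, y ^ k ^ i = y := by
      intro i
      induction i with
      | zero => simp
      | succ i ih => rw [pow_succ, pow_mul, ih, hk₂ y (Nat.not_even_iff_odd.1 fun h => hy h.two_dvd)]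
    have hwk : ∀ i : ℕ, w ^ k ^ i = w ^ 3 ^ i := by
      intro i
      induction i with
      | zero => simp
      | succ i ih =>
        rw [pow_succ, pow_mul, ih, ← pow_mul, mul_comm (3 ^ i) k, pow_mul, hk₁ w ⟨j, hj⟩,
          ← pow_mul, ← pow_succ']
    rw [← hwy, hc.mul_pow, hyk, hwk]
    congr 1
    conv_rhs => rw [← pow_one w]
    refine pow_eq_pow_iff_modEq.2 (Nat.ModEq.of_dvd (hj.dvd.trans (pow_dvd_pow 2 (?_ : j ≤ a + 1)))
      ?_ : 3 ^ 2 ^ a ≡ 1 [MOD orderOf w])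
    · exact le_add_of_le_left ((Nat.prime_two.pow_dvd_iff_le_factorization Nat.card_pos.ne').1
        (hj ▸ orderOf_dvd_natCard w))
    · have h3 : Nat.Coprime 3 (2 ^ (a + 1)) := Nat.Coprime.pow_right _ (by norm_num)
      have h4 := Nat.ModEq.pow_totient h3
      rwa [Nat.totient_prime_pow_succ Nat.prime_two, show 2 - 1 = 1 from rfl, mul_one] at h4
  set B := Cfsg.principalBlock M G with hBdef
  have hB : Cfsg.IsPBlock M B := isPBlock_principalBlock
  let s : Cfsg.IrrCharacter G → Cfsg.IrrCharacter G := fun χ =>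
    ⟨_, CfsgLib.Char.IsIrrCharacter.comp_pow χ.2 k hcop⟩
  have hs : ∀ χ g, (s χ : G → ℂ) g = (χ : G → ℂ) (g ^ k) := fun χ g => rfl
  have hsinj : Function.Injective s := fun χ ψ h => Subtype.ext (funext fun g => by
    obtain ⟨m, rfl⟩ := (powCoprime hcop).surjective g
    exact congrFun (congrArg Subtype.val h) m)
  let X := {χ : Cfsg.IrrCharacter G // χ ∈ B ∧ Odd (Cfsg.charDegree (χ : G → ℂ))}
  have hmem : ∀ χ : Cfsg.IrrCharacter G, χ ∈ B → s χ ∈ B := by
    intro χ hχ
    by_contra hn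
    have h0 := IsPBlock.regInner_eq_zero hM hB hχ hn
    have heq : regInner 2 (χ : G → ℂ) (s χ : G → ℂ) = regInner 2 (χ : G → ℂ) (χ : G → ℂ) := by
      simp only [regInner]
      congr 1
      refine Finset.sum_congr rfl fun x hx => ?_
      have hxr : Cfsg.IsPRegular 2 x⁻¹ := isPRegular_inv.2 (Finset.mem_filter.1 hx).2
      rw [hs, hk₂ _ (odd_orderOf_of_isPRegular hxr)]
    rw [heq, regInner_self_eq, Complex.ofReal_eq_zero] at h0
    refine absurd h0 (ne_of_gt ?_)
    refine mul_pos (mul_pos (Nat.cast_pos.2 ?_) (inv_pos.2 (Nat.cast_pos.2 Nat.card_pos))) ?_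
    · exact Nat.pos_of_ne_zero fun e => pPartCard_ne_zero (G := G) hM.1 (by rw [e, Nat.cast_zero])
    · refine lt_of_lt_of_le (?_ : 0 < Complex.normSq ((χ : G → ℂ) 1))
        (Finset.single_le_sum (f := fun x => Complex.normSq ((χ : G → ℂ) x))
          (fun x _ => Complex.normSq_nonneg _)
          (Finset.mem_filter.2 ⟨Finset.mem_univ 1, by simp [Cfsg.IsPRegular]⟩))
      exact Complex.normSq_pos.2 (irr_one_ne_zero χ)
  have hdeg : ∀ χ, Cfsg.charDegree (s χ : G → ℂ) = Cfsg.charDegree (χ : G → ℂ) := fun χ => by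
    simp only [Cfsg.charDegree, hs, one_pow]
  let sX : X → X := fun χ => ⟨s χ.1, hmem _ χ.2.1, (hdeg χ.1).symm ▸ χ.2.2⟩
  let σ : Equiv.Perm X := Equiv.ofBijective sX (Finite.injective_iff_bijective.1
    fun u v h => Subtype.ext (hsinj (congrArg Subtype.val h)))
  have hiter : ∀ (i : ℕ) (χ : X) (g : G),
      ((((σ ^ i : Equiv.Perm X) χ).1 : Cfsg.IrrCharacter G) : G → ℂ) g
        = ((χ.1 : Cfsg.IrrCharacter G) : G → ℂ) (g ^ k ^ i) := by
    intro i
    induction i with
    | zero => intro χ g; simp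
    | succ i ih =>
      intro χ g
      rw [pow_succ, Equiv.Perm.mul_apply, ih]
      show (χ.1 : G → ℂ) ((g ^ k ^ i) ^ k) = _
      rw [← pow_mul, ← pow_succ]
  have hσ : σ ^ 2 ^ a = 1 := Equiv.ext fun χ => Subtype.ext (Subtype.ext (funext fun g => by
    rw [hiter, hk2, Equiv.Perm.one_apply]))
  have hP : IsPGroup 2 (Subgroup.zpowers σ) := by
    obtain ⟨i, -, hi⟩ := (Nat.dvd_prime_pow Nat.prime_two).1 (orderOf_dvd_of_pow_eq_one hσ)
    exact IsPGroup.of_card (n := i) (by rw [Nat.card_zpowers, hi])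
  have hfix := hP.card_modEq_card_fixedPoints X
  -- the whole set has even cardinality
  have hX : Even (Nat.card X) := by
    have hsum : Cfsg.MemLocalIdeal M
        (((∑ χ ∈ B.toFinset, Cfsg.charDegree (χ : G → ℂ) ^ 2 : ℕ) : ℕ) : ℂ) := by
      have e : (((∑ χ ∈ B.toFinset, Cfsg.charDegree (χ : G → ℂ) ^ 2 : ℕ) : ℕ) : ℂ)
          = Cfsg.blockCoeff B 1 * (Nat.card G : ℂ) := by
        rw [Cfsg.blockCoeff, finsum_mem_eq_toFinset_sum, mul_comm, mul_inv_cancel_left₀
          (Nat.cast_ne_zero.2 Nat.card_pos.ne'), Nat.cast_sum]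
        refine Finset.sum_congr rfl fun χ _ => ?_
        rw [irr_one_eq, map_natCast, Nat.cast_pow, pow_two]
      rw [e]
      exact LI.mul_left hM (blockCoeff_LR hM hB 1) ((LI.natCast_iff hM _).2 hev.two_dvd)
    have h2 : 2 ∣ ∑ χ ∈ B.toFinset, Cfsg.charDegree (χ : G → ℂ) ^ 2 := (LI.natCast_iff hM _).1 hsum
    have hcard : Nat.card X = (B.toFinset.filter fun χ : Cfsg.IrrCharacter G =>
        Odd (Cfsg.charDegree (χ : G → ℂ))).card := by
      rw [Nat.card_eq_fintype_card, Fintype.card_subtype]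
      congr 1
      ext χ
      simp
    rw [hcard, Nat.even_iff]
    have h5 : (∑ χ ∈ B.toFinset, Cfsg.charDegree (χ : G → ℂ) ^ 2) % 2
        = (B.toFinset.filter fun χ : Cfsg.IrrCharacter G =>
          Odd (Cfsg.charDegree (χ : G → ℂ))).card % 2 := by
      rw [Finset.sum_nat_mod, Finset.card_filter]
      congr 1
      refine Finset.sum_congr rfl fun χ _ => ?_
      rcases Nat.even_or_odd (Cfsg.charDegree (χ : G → ℂ)) with h | h
      · rw [if_neg (Nat.not_odd_iff_even.2 h), Nat.pow_mod, Nat.even_iff.1 h]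
      · rw [if_pos h, Nat.pow_mod, Nat.odd_iff.1 h]
    rw [← h5]
    exact Nat.mod_eq_zero_of_dvd h2
  have hequiv : Nat.card {χ : Cfsg.IrrCharacter G // χ ∈ B ∧ Odd (Cfsg.charDegree (χ : G → ℂ)) ∧
      ∀ g : G, (χ : G → ℂ) (g ^ k) = (χ : G → ℂ) g}
      = Nat.card (MulAction.fixedPoints (Subgroup.zpowers σ) X) := by
    refine Nat.card_eq_of_bijective (fun χ => ⟨⟨χ.1, χ.2.1, χ.2.2.1⟩, ?_⟩) ⟨?_, ?_⟩
    · have hone : σ (⟨χ.1, χ.2.1, χ.2.2.1⟩ : X) = (⟨χ.1, χ.2.1, χ.2.2.1⟩ : X) :=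
        Subtype.ext (Subtype.ext (funext χ.2.2.2))
      rintro ⟨τ, hτ⟩
      show (τ : Equiv.Perm X) _ = _
      have hle : Subgroup.zpowers σ ≤ MulAction.stabilizer (Equiv.Perm X) (⟨χ.1, χ.2.1, χ.2.2.1⟩ : X) :=
        Subgroup.zpowers_le.2 hone
      exact hle hτ
    · intro u v h
      exact Subtype.ext (congrArg (fun c : MulAction.fixedPoints (Subgroup.zpowers σ) X => c.1.1) h)
    · rintro ⟨χ, hχ⟩
      have h0 : σ χ = χ := hχ ⟨σ, Subgroup.mem_zpowers σ⟩
      exact ⟨⟨χ.1, χ.2.1, χ.2.2, fun g => congrFun (congrArg (fun c : X => (c.1 : G → ℂ)) h0) g⟩, rfl⟩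
  rw [hBdef] at hequiv
  rw [hequiv, Nat.even_iff]
  rw [Nat.even_iff] at hX
  rw [← hX]
  exact hfix.symm

end Cfsg.Agent.S4550
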