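import Cfsg.Statements.S4552
import Cfsg.Agent.Lib.Blocks.FreeAbelianCounts.Homocyclic

set_option autoImplicit false
open Cfsg

namespace Cfsg.Agent.S4552

open CfsgLib.Blocks CfsgLib.BrauerPairs CfsgLib.BrouePuig CfsgLib.Blocks.FreeAbelianCounts

theorem card_double_eq_zero (k : ℕ) (hk : 0 < k) :
    Nat.card {a : ZMod (2 * k) // a + a = 0} = 2 := by
  haveI : NeZero (2 * k) := ⟨by omega⟩
  classical
  have h : (Finset.univ.filter fun a : ZMod (2 * k) => a + a = 0) = {0, (k : ZMod (2 * k))} := by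
    ext a
    simp only [Finset.mem_filter, Finset.mem_univ, true_and, Finset.mem_insert, Finset.mem_singleton]
    constructor
    · intro ha
      have h1 : ((a.val + a.val : ℕ) : ZMod (2 * k)) = 0 := by
        rw [Nat.cast_add, ZMod.natCast_zmod_val, ha]
      obtain ⟨c, hc⟩ := (ZMod.natCast_eq_zero_iff _ _).1 h1
      have h2 := ZMod.val_lt a
      have hc2 : c < 2 := by
        by_contra hcon
        push Not at hcon
        nlinarith
      interval_cases c
      · exact Or.inl ((ZMod.val_eq_zero a).1 (by omega))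
      · refine Or.inr ?_
        rw [← ZMod.natCast_zmod_val a, show a.val = k by omega]
    · rintro (rfl | rfl)
      · exact add_zero 0
      · rw [← Nat.cast_add, ← two_mul, ZMod.natCast_self]
  have hne : (0 : ZMod (2 * k)) ≠ (k : ZMod (2 * k)) := fun h0 => by
    have h1 := Nat.le_of_dvd hk ((ZMod.natCast_eq_zero_iff _ _).1 h0.symm)
    omega
  rw [Nat.card_eq_fintype_card, Fintype.card_subtype, h, Finset.card_pair hne]

/-- Let B be a 2-block of the finite group G (relative to a maximal ideal M of the algebraic integers containing 2) whose defect group D is the direct product of two cyclic groups of the same order 2 ^ m, m ≥ 2. Then either B has 2-regular rank one and exactly 4 ^ m irreducible characters, or B has 2-regular rank three and exactly (4 ^ m + 8) / 3 irreducible characters. -/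
theorem result {G : Type*} [Group G] [Finite G] (M : Ideal Cfsg.AlgInt) (hM : Cfsg.IsPModular 2 M) (B : Set (Cfsg.IrrCharacter G)) (hB : Cfsg.IsPBlock M B) (D : Subgroup G) (hD : Cfsg.IsDefectGroup 2 M B D) (m : ℕ) (hm : 2 ≤ m) (hiso : Nonempty (D ≃* Multiplicative (ZMod (2 ^ m) × ZMod (2 ^ m)))) : (Cfsg.blockRank 2 B = 1 ∧ Nat.card B = 4 ^ m) ∨ (Cfsg.blockRank 2 B = 3 ∧ 3 * Nat.card B = 4 ^ m + 8) := by
  classical
  haveI := Fintype.ofFinite G
  haveI : Fact (Nat.Prime 2) := ⟨Nat.prime_two⟩
  obtain ⟨φ⟩ := hiso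
  obtain ⟨m, rfl⟩ : ∃ j, m = j + 1 := ⟨m - 1, by omega⟩
  have hcD : ∀ a b : D, a * b = b * a := fun a b => φ.injective (by
    rw [map_mul, map_mul, mul_comm])
  have hab : ∀ x ∈ D, ∀ y ∈ D, x * y = y * x := fun x hx y hy =>
    congrArg Subtype.val (hcD ⟨x, hx⟩ ⟨y, hy⟩)
  have hcard : Nat.card D = 4 ^ (m + 1) := by
    rw [Nat.card_congr φ.toEquiv, Nat.card_congr Multiplicative.toAdd, Nat.card_prod, Nat.card_zmod,
      ← mul_pow]
    norm_num
  have hD1 : D ≠ ⊥ := fun h => by
    rw [h, Subgroup.card_bot] at hcard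
    have : 4 ≤ 4 ^ (m + 1) := by simpa using Nat.pow_le_pow_right (show 0 < 4 by norm_num) (show 1 ≤ m + 1 by omega)
    omega
  have h4 : Nat.card {x : D // x * x = 1} = 4 := by
    let e₁ : {x : D // x * x = 1} ≃
        {z : ZMod (2 ^ (m + 1)) × ZMod (2 ^ (m + 1)) // z.1 + z.1 = 0 ∧ z.2 + z.2 = 0} :=
      (φ.toEquiv.trans Multiplicative.toAdd).subtypeEquiv fun x => by
        constructor
        · intro h
          have h1 := congrArg Multiplicative.toAdd (congrArg φ h)
          rw [map_mul, map_one, toAdd_mul, toAdd_one, Prod.ext_iff] at h1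
          exact h1
        · intro h
          refine φ.injective (Multiplicative.toAdd.injective ?_)
          rw [map_mul, map_one, toAdd_mul, toAdd_one, Prod.ext_iff]
          exact h
    have h2 : Nat.card {a : ZMod (2 ^ (m + 1)) // a + a = 0} = 2 := by
      rw [pow_succ']
      exact card_double_eq_zero _ (by positivity)
    rw [Nat.card_congr (e₁.trans (Equiv.subtypeProdEquivProd
      (p := fun a : ZMod (2 ^ (m + 1)) => a + a = 0) (q := fun a : ZMod (2 ^ (m + 1)) => a + a = 0))),
      Nat.card_prod, h2]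
  obtain ⟨c, hc⟩ := exists_pair_of_defectGroup hM hB hD
  have hmax := isMaximal_of_defectGroup hM hD hc
  have hodd : Odd (Nat.card (autP D c)) := by
    rw [card_autP, Nat.odd_iff]
    exact Nat.two_dvd_ne_zero.1 (not_dvd_relIndex hM hmax hab)
  obtain ⟨hfA, hA13⟩ := free_and_card hcD hmax.1.1.1 h4 (autP D c) hodd
  have hfree : FreeAct D c := by
    intro g hg x hx hx1 hgx
    obtain ⟨α, hα⟩ := exists_autP_of_mem hg
    have h1 : α.1 = 1 := hfA α.1 α.2 ⟨x, hx⟩ (fun h => hx1 (congrArg Subtype.val h))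
      (Subtype.ext ((hα ⟨x, hx⟩).trans hgx))
    refine Subgroup.mem_centralizer_iff.2 fun y hy => ?_
    have h2 := hα ⟨y, hy⟩
    rw [h1, MulAut.one_apply] at h2
    exact eq_mul_inv_iff_mul_eq.1 h2
  have hk := card_block_free hM hmax hab hfree
  obtain ⟨-, h3⟩ := counts hM hmax hab hfree hD1
  rw [← card_autP] at hk h3
  rw [hcard] at hk
  rcases hA13 with h | h
  · rw [h] at hk h3
    refine Or.inl ⟨h3 (by norm_num), ?_⟩
    rw [h3 (by norm_num)] at hk
    omega
  · rw [h] at hk h3
    refine Or.inr ⟨h3 le_rfl, ?_⟩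
    rw [h3 le_rfl] at hk
    omega

end Cfsg.Agent.S4552
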