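import Cfsg.Statements.S4553
import Cfsg.Agent.Lib.Blocks.CyclicResidual

set_option autoImplicit false
set_option maxHeartbeats 1000000
open Cfsg

namespace Cfsg.Agent.S4553

open CfsgLib CfsgLib.Blocks

/-- Let G be a finite group, p a prime, P a Sylow p-subgroup, N the p-residual of G (the subgroup generated by the elements of order prime to p, the smallest normal subgroup with G/N a p-group), and M a maximal ideal of the algebraic integers containing p; suppose G/N is cyclic and nontrivial. Let k be a natural number with g ^ k = g ^ (1 + p) for every p-element g and g ^ k = g for every element g of order prime to p (so that χ (g ^ k) is the image of χ g under the field automorphism that raises p-power roots of unity to the power 1 + p and fixes the roots of unity of order prime to p). Then the number of members χ of the principal block of G of degree prime to p with χ (g ^ k) = χ g for all g equals p times the number of members θ of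 the principal block of N of degree prime to p that are invariant under conjugation by P and satisfy θ (n ^ k) = θ n for all n. -/
theorem result {G : Type*} [Group G] [Finite G] (p : ℕ) [Fact p.Prime] (M : Ideal Cfsg.AlgInt) (hM : Cfsg.IsPModular p M) (P : Sylow p G) (N : Subgroup G) [hN : N.Normal] (hNres : N = Cfsg.pResidual p G) (hcyc : IsCyclic (G ⧸ N)) (hnt : N ≠ ⊤) (k : ℕ) (hk₁ : ∀ g : G, (∃ j : ℕ, orderOf g = p ^ j) → g ^ k = g ^ (1 + p)) (hk₂ : ∀ g : G, Nat.Coprime (orderOf g) p → g ^ k = g) : Nat.card {χ : Cfsg.IrrCharacter G // χ ∈ Cfsg.principalBlock M G ∧ ¬ p ∣ Cfsg.charDegree (χ : G → ℂ) ∧ ∀ g : G, (χ : G → ℂ) (g ^ k) = (χ : G → ℂ) g} = p * Nat.card {θ : Cfsg.IrrCharacter ↥N // θ ∈ Cfsg.principalBlock M ↥N ∧ ¬ p ∣ Cfsg.charDegree (θ : ↥N → ℂ) ∧ (∀ x ∈ (P : Subgroup G), ∀ n : ↥N, (θ : ↥N → ℂ) ⟨x * n * x⁻¹, hN.conj_mem n n.2 x⟩ = (θ : ↥N → ℂ) n) ∧ ∀ n : ↥N, (θ : ↥N → ℂ) (n ^ k) = (θ : ↥N → ℂ) n} := by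
  classical
  haveI := Fintype.ofFinite G
  haveI := Fintype.ofFinite ↥N
  have hp : p.Prime := Fact.out
  have hk : (Nat.card G).Coprime k := by
    rw [Nat.coprime_iff_gcd_eq_one]
    by_contra hne
    obtain ⟨q, hq, hqd⟩ := Nat.exists_prime_and_dvd hne
    haveI := Fact.mk hq
    obtain ⟨g, hg⟩ := exists_prime_orderOf_dvd_card' q (hqd.trans (Nat.gcd_dvd_left _ _))
    have hk : g ^ k = 1 := orderOf_dvd_iff_pow_eq_one.1 (hg ▸ hqd.trans (Nat.gcd_dvd_right _ _))
    by_cases hqp : q = p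
    · subst hqp
      rw [hk₁ g ⟨1, by rw [hg, pow_one]⟩] at hk
      have h4 := orderOf_dvd_of_pow_eq_one hk
      rw [hg] at h4
      exact hq.one_lt.ne' (Nat.dvd_one.1 ((Nat.dvd_add_iff_left dvd_rfl).2 h4))
    · rw [hk₂ g (hg ▸ (Nat.coprime_primes hq hp).2 hqp)] at hk
      rw [hk, orderOf_one] at hg
      exact hq.one_lt.ne hg
  obtain ⟨r, hr⟩ : ∃ r : ℕ, N.index = p ^ r := by
    rw [hNres]; exact CfsgLib.Fusion.Basic.exists_index_pResidual
  have hr0 : r ≠ 0 := fun h => hnt (Subgroup.index_eq_one.1 (by rw [hr, h, pow_zero]))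
  haveI := hcyc
  haveI hcomm : IsMulCommutative (G ⧸ N) := IsCyclic.commutative
  letI : CommGroup (G ⧸ N) := { QuotientGroup.Quotient.group N with
    mul_comm := fun a b => IsMulCommutative.is_comm.comm a b }
  -- the power map on the quotient
  have hq : ∀ g : G, ((g ^ k : G) : G ⧸ N) = (g : G ⧸ N) * (g : G ⧸ N) ^ p := by
    intro g
    obtain ⟨w, y, -, hwy, hc, hy, ⟨j, hj⟩, -, -⟩ := exists_isPPart hp g
    have hyN : ((y : G) : G ⧸ N) = 1 := (QuotientGroup.eq_one_iff y).2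
      (hNres ▸ CfsgLib.Fusion.Basic.mem_pResidual_of_coprime (hp.coprime_iff_not_dvd.2 hy).symm)
    rw [← hwy, hc.mul_pow, hk₁ w ⟨j, hj⟩, hk₂ y (hp.coprime_iff_not_dvd.2 hy).symm,
      QuotientGroup.mk_mul, QuotientGroup.mk_mul, hyN, mul_one, mul_one, QuotientGroup.mk_pow,
      pow_add, pow_one]
  -- invariance under the Sylow subgroup is invariance
  have hPinv : ∀ θ : Cfsg.IrrCharacter N,
      (∀ x ∈ (P : Subgroup G), ∀ n : N,
        (θ : N → ℂ) ⟨x * n * x⁻¹, hN.conj_mem n n.2 x⟩ = (θ : N → ℂ) n) →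
      ∀ (g : G) (n : N), (θ : N → ℂ) (MulAut.conjNormal g n) = (θ : N → ℂ) n := by
    intro θ h g n
    obtain ⟨m, hm, x, hx, rfl⟩ := CfsgLib.Fusion.Basic.exists_eq_pResidual_mul P g
    rw [map_mul, MulAut.mul_apply]
    have hm' : m ∈ N := hNres ▸ hm
    have e : (MulAut.conjNormal m) (MulAut.conjNormal x n)
        = (⟨m, hm'⟩ : N) * MulAut.conjNormal x n * (⟨m, hm'⟩ : N)⁻¹ := Subtype.ext (by simp)
    rw [e, CfsgLib.Char.IsIrrCharacter.isClassFunction θ.2, ← h x hx n]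
    exact congrArg _ (Subtype.ext (MulAut.conjNormal_apply x n))
  let R := {θ : Cfsg.IrrCharacter ↥N // θ ∈ Cfsg.principalBlock M ↥N ∧
    ¬ p ∣ Cfsg.charDegree (θ : ↥N → ℂ) ∧
    (∀ x ∈ (P : Subgroup G), ∀ n : ↥N,
      (θ : ↥N → ℂ) ⟨x * n * x⁻¹, hN.conj_mem n n.2 x⟩ = (θ : ↥N → ℂ) n) ∧
    ∀ n : ↥N, (θ : ↥N → ℂ) (n ^ k) = (θ : ↥N → ℂ) n}
  have hext := fun θ : R => CyclicResidual.exists_extension hNres hk hk₂ θ.1 θ.2.2.1
    (hPinv θ.1 θ.2.2.2.1)
  choose η hη hηk using hext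
  have hηfix : ∀ (θ : R) (g : G), (η θ : G → ℂ) (g ^ k) = (η θ : G → ℂ) g :=
    fun θ => hηk θ θ.2.2.2.2
  let K := {l : CyclicResidual.Dual N // l ^ p = 1}
  haveI : Finite (CyclicResidual.Dual N) := Finite.of_equiv _
    (CommGroup.monoidHom_mulEquiv_of_hasEnoughRootsOfUnity (G ⧸ N) ℂ).some.symm.toEquiv
  have hK : Nat.card K = p := by
    haveI : IsCyclic (CyclicResidual.Dual N) := isCyclic_of_surjective
      (CommGroup.monoidHom_mulEquiv_of_hasEnoughRootsOfUnity (G ⧸ N) ℂ).some.symm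
      (MulEquiv.surjective _)
    have h1 := IsCyclic.card_powMonoidHom_ker (G := CyclicResidual.Dual N) p
    rw [CommGroup.card_monoidHom_of_hasEnoughRootsOfUnity,
      show Nat.card (G ⧸ N) = p ^ r from hr, Nat.gcd_eq_right (dvd_pow_self p hr0)] at h1
    exact h1
  let tw : (θ : R) → CyclicResidual.Dual N → Cfsg.IrrCharacter G := fun θ l =>
    ⟨_, isIrrCharacter_hom_mul (l.comp (QuotientGroup.mk' N)) (η θ)⟩
  have htwN : ∀ (θ : R) (l : CyclicResidual.Dual N) (n : N),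
      (tw θ l : G → ℂ) n = (θ.1 : N → ℂ) n := by
    intro θ l n
    show (l ((n : G) : G ⧸ N) : ℂ) * _ = _
    rw [(QuotientGroup.eq_one_iff (n : G)).2 n.2, map_one, Units.val_one, one_mul, hη]
  have htwk : ∀ (θ : R) (l : CyclicResidual.Dual N) (g : G),
      (tw θ l : G → ℂ) (g ^ k) = (tw θ (l * l ^ p) : G → ℂ) g := by
    intro θ l g
    show (l ((g ^ k : G) : G ⧸ N) : ℂ) * (η θ : G → ℂ) (g ^ k)
      = ((l * l ^ p : CyclicResidual.Dual N) (g : G ⧸ N) : ℂ) * _
    rw [hq, map_mul, map_pow, hηfix θ g]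
    rfl
  have hcoset := fun θ : R => CyclicResidual.twists_bijective θ.1 (η θ) (hη θ)
  let S := {χ : Cfsg.IrrCharacter G // χ ∈ Cfsg.principalBlock M G ∧
    ¬ p ∣ Cfsg.charDegree (χ : G → ℂ) ∧ ∀ g : G, (χ : G → ℂ) (g ^ k) = (χ : G → ℂ) g}
  have hdeg : ∀ (θ : R) (χ : Cfsg.IrrCharacter G), (∀ n : N, (χ : G → ℂ) n = (θ.1 : N → ℂ) n) →
      Cfsg.charDegree (χ : G → ℂ) = Cfsg.charDegree (θ.1 : N → ℂ) := fun θ χ h => by
    simp only [Cfsg.charDegree]
    rw [show (χ : G → ℂ) 1 = (θ.1 : N → ℂ) 1 from h 1]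
  have hself : ∀ (θ : Cfsg.IrrCharacter N) (χ : Cfsg.IrrCharacter G),
      (∀ n : N, (χ : G → ℂ) n = (θ : N → ℂ) n) →
      Cfsg.classInner (fun n : N => (χ : G → ℂ) n) (θ : N → ℂ) ≠ 0 := fun θ χ h => by
    rw [show (fun n : N => (χ : G → ℂ) n) = (θ : N → ℂ) from funext h,
      CfsgLib.Char.classInner_irr_self θ.2]
    exact one_ne_zero
  have hprin : ∀ (θ : R) (χ : Cfsg.IrrCharacter G), (∀ n : N, (χ : G → ℂ) n = (θ.1 : N → ℂ) n) →
      χ ∈ Cfsg.principalBlock M G := by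
    intro θ χ h
    obtain ⟨B, hB, hχB⟩ : ∃ B, Cfsg.IsPBlock M B ∧ χ ∈ B :=
      ⟨_, isPBlock_blockOf χ, SameBlock_refl hM _⟩
    obtain ⟨B₀, -, huniq⟩ := CoverBasics.existsUnique_cover (G := G) (N := N) hM ⟨r, hr⟩
      (isPBlock_principalBlock (M := M) (G := ↥N))
    have h1 := huniq B ⟨hB, χ, hχB, θ.1, θ.2.1, hself θ.1 χ h⟩
    have h2 := huniq _ ⟨isPBlock_principalBlock (M := M) (G := G), _, trivChar_mem_principalBlock hM,
      _, trivChar_mem_principalBlock hM, hself _ _ fun n => rfl⟩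
    rw [h2.trans h1.symm]
    exact hχB
  have hcard : Nat.card (R × K) = Nat.card S := by
    refine Nat.card_eq_of_bijective (fun a => ⟨tw a.1 a.2.1, hprin a.1 _ (htwN a.1 a.2.1),
      by rw [hdeg a.1 _ (htwN a.1 a.2.1)]; exact a.1.2.2.1, fun g => ?_⟩) ⟨?_, ?_⟩
    · rw [htwk]
      refine congrArg (fun l => (tw a.1 l : G → ℂ) g) (MonoidHom.ext fun q => ?_)
      show a.2.1 q * (a.2.1 ^ p) q = a.2.1 q
      rw [a.2.2]; exact mul_one _
    · rintro ⟨θ, l⟩ ⟨θ', l'⟩ hab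
      have h1 : (tw θ l.1 : Cfsg.IrrCharacter G) = tw θ' l'.1 := congrArg Subtype.val hab
      have hθ : θ = θ' := Subtype.ext (Subtype.ext (funext fun n => by
        rw [← htwN θ l.1 n, ← htwN θ' l'.1 n, h1]))
      subst hθ
      exact Prod.ext rfl (Subtype.ext ((hcoset θ).1 h1))
    · rintro ⟨χ, hχB, hχd, hχk⟩
      obtain ⟨φ, hφ, -⟩ := CfsgLib.CharDeep.Clifford.exists_constituent
        (CfsgLib.Char.IsCharacter.isClassFunction
          (CfsgLib.Char.IsCharacter.restrict (CfsgLib.Char.isCharacter_irr χ) N))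
        (ψ := fun n : N => (χ : G → ℂ) n) fun e => by
          have h0 := congrFun (CfsgLib.Char.classInner_self_eq_zero.1 e) 1
          exact CfsgLib.Char.IsIrrCharacter.apply_one_ne_zero χ.2 h0
      let T : Subgroup G :=
        { carrier := {g | ∀ n : N, (φ : N → ℂ) (MulAut.conjNormal g n) = (φ : N → ℂ) n}
          one_mem' := fun n => by rw [map_one]; rfl
          mul_mem' := fun {a b} ha hb n => by rw [map_mul, MulAut.mul_apply, ha, hb]
          inv_mem' := fun {a} ha n => by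
            have e := ha (MulAut.conjNormal a⁻¹ n)
            rw [← MulAut.mul_apply, ← map_mul, mul_inv_cancel, map_one] at e
            exact e.symm }
      have hT : ∀ g, g ∈ T ↔
          ∀ n : N, (φ : N → ℂ) ⟨g * n * g⁻¹, hN.conj_mem (n : G) n.2 g⟩ = (φ : N → ℂ) n := fun g =>
        forall_congr' fun n => by
          rw [show MulAut.conjNormal g n = (⟨g * n * g⁻¹, hN.conj_mem (n : G) n.2 g⟩ : N) from
            Subtype.ext (MulAut.conjNormal_apply g n)]
      have hNT : N ≤ T := fun m hm => (hT m).2 fun n => by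
        rw [← CfsgLib.Char.IsIrrCharacter.isClassFunction φ.2 n ⟨m, hm⟩]
        rfl
      have h1 := CfsgLib.CharDeep.Clifford.apply_one_eq χ.2 φ.2 hφ T hT
      obtain ⟨e, he⟩ := CfsgLib.Char.IsCharacter.classInner_nat
        (CfsgLib.Char.IsCharacter.restrict (CfsgLib.Char.isCharacter_irr χ) N)
        (CfsgLib.Char.isCharacter_irr φ)
      have hd1 : (χ : G → ℂ) 1 = (Cfsg.charDegree (χ : G → ℂ) : ℂ) := by
        rw [irr_one_eq]
      have hd2 : (φ : N → ℂ) 1 = (Cfsg.charDegree (φ : N → ℂ) : ℂ) := by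
        rw [irr_one_eq]
      rw [he, hd1, hd2, ← Nat.cast_mul, ← Nat.cast_mul, Nat.cast_inj] at h1
      have hφd : ¬ p ∣ Cfsg.charDegree (φ : N → ℂ) := fun h => hχd (h1 ▸ dvd_mul_of_dvd_right h _)
      have hTtop : T = ⊤ := by
        obtain ⟨j, -, hj⟩ := (Nat.dvd_prime_pow hp).1 (hr ▸ Subgroup.index_dvd_of_le hNT)
        rcases Nat.eq_zero_or_pos j with rfl | hj0
        · exact Subgroup.index_eq_one.1 (by rw [hj, pow_zero])
        · exact absurd (h1 ▸ dvd_mul_of_dvd_left (dvd_mul_of_dvd_left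
            (hj ▸ dvd_pow_self p hj0.ne') _) _) hχd
      have hinv : ∀ (g : G) (n : N), (φ : N → ℂ) (MulAut.conjNormal g n) = (φ : N → ℂ) n :=
        fun g => (show g ∈ T from hTtop ▸ Subgroup.mem_top g)
      obtain ⟨η₁, hη₁, -⟩ := CyclicResidual.exists_extension hNres hk hk₂ φ hφd hinv
      obtain ⟨l₁, hl₁⟩ := (CyclicResidual.twists_bijective φ η₁ hη₁).2 χ hφ
      have hres : ∀ n : N, (χ : G → ℂ) n = (φ : N → ℂ) n := by
        intro n
        rw [← hl₁]
        show (l₁ ((n : G) : G ⧸ N) : ℂ) * _ = _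
        rw [(QuotientGroup.eq_one_iff (n : G)).2 n.2, map_one, Units.val_one, one_mul, hη₁]
      let θ : R := ⟨φ, mem_principalBlock_of_over hM hφ hχB, hφd,
        fun x hx n => (hT x).1 (hTtop ▸ Subgroup.mem_top x) n,
        fun n => by rw [← hres, ← hres, SubgroupClass.coe_pow, hχk]⟩
      obtain ⟨l, hl⟩ := (hcoset θ).2 χ hφ
      have hlp : l ^ p = 1 := by
        have h2 : tw θ (l * l ^ p) = tw θ l := Subtype.ext (funext fun g => by
          rw [← htwk, show tw θ l = χ from hl]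
          exact hχk g)
        exact mul_eq_left.1 ((hcoset θ).1 h2)
      exact ⟨(θ, ⟨l, hlp⟩), Subtype.ext hl⟩
  rw [Nat.card_prod, hK] at hcard
  exact hcard.symm.trans (mul_comm _ _)

end Cfsg.Agent.S4553
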