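import Cfsg.Statements.S4558
import Cfsg.Agent.Lib.Blocks.Eigen

set_option autoImplicit false
open Cfsg

namespace Cfsg.Agent.S4558

/-- Let χ be a character of the finite group G and g an element of p-power order for the prime p. If χ g = 0, then p divides the degree of χ. -/
theorem result {G : Type*} [Group G] [Finite G] (p : ℕ) [Fact p.Prime] (χ : G → ℂ) (hχ : Cfsg.IsCharacter G χ) (g : G) (hg : ∃ j : ℕ, orderOf g = p ^ j) (h0 : χ g = 0) : p ∣ Cfsg.charDegree χ := by
  obtain ⟨n, ρ, hρ⟩ := hχ
  subst hρ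
  obtain ⟨M, hM⟩ := CfsgLib.Blocks.exists_isPModular (Fact.out : p.Prime)
  obtain ⟨j, hj⟩ := hg
  have h := CfsgLib.Blocks.character_mul_congr hM ρ hj (Commute.one_right g)
  rw [mul_one, h0, zero_sub] at h
  have h1 := CfsgLib.Blocks.LI.neg h
  rw [neg_neg, Representation.char_one] at h1
  have hd := (CfsgLib.Blocks.LI.natCast_iff hM _).1 h1
  rw [Cfsg.charDegree, Representation.char_one, Complex.natCast_re, Nat.floor_natCast]
  exact hd

end Cfsg.Agent.S4558
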