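import Cfsg.Statements.S4560
import Cfsg.Agent.Lib.Char.SymSmallChars

set_option autoImplicit false
open Cfsg

namespace Cfsg.Agent.S4560

open CfsgLib CfsgLib.Char CfsgLib.Char.SymSmallChars

theorem count_one {n : ℕ} : fx (1 : Equiv.Perm (Fin n)) = n ∧ fx2 (1 : Equiv.Perm (Fin n)) = n := by
  simp [fx, fx2]

theorem count_swap {n : ℕ} (a b : Fin n) (hab : a ≠ b) :
    fx (Equiv.swap a b) + 2 = n ∧ fx2 (Equiv.swap a b) = n := by
  classical
  refine ⟨?_, by simp [fx2]⟩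
  rw [fx, Nat.card_eq_fintype_card, Fintype.card_subtype]
  have h : (Finset.univ.filter fun x => Equiv.swap a b x = x) = ({a, b} : Finset (Fin n))ᶜ := by
    ext x
    by_cases ha : x = a
    · subst ha; simp [hab.symm]
    by_cases hb : x = b
    · subst hb; simp [hab]
    simp [ha, hb, Equiv.swap_apply_of_ne_of_ne ha hb]
  have hc := Finset.card_compl_add_card ({a, b} : Finset (Fin n))
  rw [Finset.card_pair hab, Fintype.card_fin] at hc
  rw [h, hc]

/-- The character, irreducible on both groups, with a zero at the given element. -/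
theorem mk_char {n e : ℕ} (hn : 7 ≤ n) {a b : ℕ} (h : Witness e n 1 a b)
    (F : ℕ → ℕ → ℝ) (θ : Equiv.Perm (Fin n) → ℂ) (hθ : ∀ g, θ g = F (fx g) (fx2 g))
    (hgen : IsGeneralizedCharacter (Equiv.Perm (Fin n)) θ)
    (hnorm : ∑ g : Equiv.Perm (Fin n), F (fx g) (fx2 g) ^ 2
      = (Fintype.card (Equiv.Perm (Fin n)) : ℝ))
    (h1 : 0 < F n n) (h2 : F (n - 2) n ≠ 0) (hzero : F a b = 0) :
    ∃ (χ : Cfsg.IrrCharacter (alternatingGroup (Fin n))) (x : alternatingGroup (Fin n)),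
      x ^ e = 1 ∧ fx (x : Equiv.Perm (Fin n)) = a ∧
      (χ : alternatingGroup (Fin n) → ℂ) x = 0 ∧
      ∃ ψ : Cfsg.IrrCharacter (Equiv.Perm (Fin n)), ∀ x : alternatingGroup (Fin n),
        (ψ : Equiv.Perm (Fin n) → ℂ) x = (χ : alternatingGroup (Fin n) → ℂ) x := by
  haveI : Nontrivial (Fin n) := Fin.nontrivial_iff_two_le.2 (by omega)
  obtain ⟨g, hgs, hga, hgb, hge⟩ := h
  let i : Fin n := ⟨0, by omega⟩
  let j : Fin n := ⟨1, by omega⟩
  have hij : i ≠ j := by simp [i, j]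
  obtain ⟨hs1, hs2⟩ := count_swap i j hij
  obtain ⟨hS, hA⟩ := restrict_irr (fun g => F (fx g) (fx2 g)) θ hθ hgen hnorm
    (by simpa [count_one.1, count_one.2] using h1) (Equiv.swap i j)
    (by rw [Equiv.Perm.mem_alternatingGroup, Equiv.Perm.sign_swap hij]; decide)
    (by show F _ _ ≠ 0; rw [hs2, show fx (Equiv.swap i j) = n - 2 by omega]; exact h2)
  refine ⟨⟨_, hA⟩, ⟨g, Equiv.Perm.mem_alternatingGroup.2 hgs⟩, Subtype.ext hge, hga, ?_,
    ⟨_, hS⟩, fun _ => rfl⟩
  show θ g = 0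
  rw [hθ, hga, hgb, hzero, Complex.ofReal_zero]

/-- For n ≥ 7 the alternating group on n letters has an irreducible character that vanishes at some 2-element and is the restriction of an irreducible character of the symmetric group, and an irreducible character that vanishes at some element of order 3 and is the restriction of an irreducible character of the symmetric group. -/
theorem result (n : ℕ) (hn : 7 ≤ n) : (∃ χ : Cfsg.IrrCharacter (alternatingGroup (Fin n)), (∃ x : alternatingGroup (Fin n), (∃ j : ℕ, orderOf x = 2 ^ j) ∧ (χ : alternatingGroup (Fin n) → ℂ) x = 0) ∧ ∃ ψ : Cfsg.IrrCharacter (Equiv.Perm (Fin n)), ∀ x : alternatingGroup (Fin n), (ψ : Equiv.Perm (Fin n) → ℂ) x = (χ : alternatingGroup (Fin n) → ℂ) x) ∧ (∃ χ : Cfsg.IrrCharacter (alternatingGroup (Fin n)), (∃ y : alternatingGroup (Fin n), orderOf y = 3 ∧ (χ : alternatingGroup (Fin n) → ℂ) y = 0) ∧ ∃ ψ : Cfsg.IrrCharacter (Equiv.Perm (Fin n)), ∀ x : alternatingGroup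 (Fin n), (ψ : Equiv.Perm (Fin n) → ℂ) x = (χ : alternatingGroup (Fin n) → ℂ) x) := by
  haveI : NeZero n := ⟨by omega⟩
  have hn4 : 4 ≤ Fintype.card (Fin n) := by rw [Fintype.card_fin]; omega
  obtain ⟨N1, N2, N3⟩ := norm_eq_one (α := Fin n) hn4
  have hR : (7 : ℝ) ≤ n := by exact_mod_cast hn
  have hsub : ((n - 2 : ℕ) : ℝ) = n - 2 := by rw [Nat.cast_sub (by omega)]; norm_num
  have stdC : ∀ {e b : ℕ}, Witness e n 1 1 b →
      ∃ (χ : Cfsg.IrrCharacter (alternatingGroup (Fin n))) (x : alternatingGroup (Fin n)),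
      x ^ e = 1 ∧ fx (x : Equiv.Perm (Fin n)) = 1 ∧
      (χ : alternatingGroup (Fin n) → ℂ) x = 0 ∧
      ∃ ψ : Cfsg.IrrCharacter (Equiv.Perm (Fin n)), ∀ x : alternatingGroup (Fin n),
        (ψ : Equiv.Perm (Fin n) → ℂ) x = (χ : alternatingGroup (Fin n) → ℂ) x :=
    fun h => mk_char hn h (fun x _ => (x : ℝ) - 1) stdChar
      (fun g => by simp only [stdChar]; push_cast; rfl) isGeneralizedCharacter_stdChar N1
      (by linarith) (by show ((n - 2 : ℕ) : ℝ) - 1 ≠ 0; rw [hsub]; linarith) (by norm_num)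
  have pairC : ∀ {e : ℕ}, Witness e n 1 0 0 →
      ∃ (χ : Cfsg.IrrCharacter (alternatingGroup (Fin n))) (x : alternatingGroup (Fin n)),
      x ^ e = 1 ∧ fx (x : Equiv.Perm (Fin n)) = 0 ∧
      (χ : alternatingGroup (Fin n) → ℂ) x = 0 ∧
      ∃ ψ : Cfsg.IrrCharacter (Equiv.Perm (Fin n)), ∀ x : alternatingGroup (Fin n),
        (ψ : Equiv.Perm (Fin n) → ℂ) x = (χ : alternatingGroup (Fin n) → ℂ) x :=
    fun h => mk_char hn h (fun x y => ((x : ℝ) ^ 2 - 4 * x + y) / 2) pairChar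
      (fun g => by simp only [pairChar]; push_cast; rfl) isGeneralizedCharacter_pairChar N2
      (by nlinarith) (by
        show (((n - 2 : ℕ) : ℝ) ^ 2 - 4 * ((n - 2 : ℕ) : ℝ) + (n : ℝ)) / 2 ≠ 0
        rw [hsub]; nlinarith) (by norm_num)
  have hookC : ∀ {e a : ℕ}, Witness e n 1 a 2 → (a = 0 ∨ a = 2) →
      ∃ (χ : Cfsg.IrrCharacter (alternatingGroup (Fin n))) (x : alternatingGroup (Fin n)),
      x ^ e = 1 ∧ fx (x : Equiv.Perm (Fin n)) = a ∧
      (χ : alternatingGroup (Fin n) → ℂ) x = 0 ∧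
      ∃ ψ : Cfsg.IrrCharacter (Equiv.Perm (Fin n)), ∀ x : alternatingGroup (Fin n),
        (ψ : Equiv.Perm (Fin n) → ℂ) x = (χ : alternatingGroup (Fin n) → ℂ) x :=
    fun h ha => mk_char hn h (fun x y => ((x : ℝ) ^ 2 - 2 * x + 2 - y) / 2) hookChar
      (fun g => by simp only [hookChar]; push_cast; rfl) isGeneralizedCharacter_hookChar N3
      (by nlinarith) (by
        show (((n - 2 : ℕ) : ℝ) ^ 2 - 2 * ((n - 2 : ℕ) : ℝ) + 2 - (n : ℝ)) / 2 ≠ 0
        rw [hsub]; nlinarith) (by rcases ha with rfl | rfl <;> norm_num)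
  constructor
  · have fin : ∀ {a : ℕ}, (∃ (χ : Cfsg.IrrCharacter (alternatingGroup (Fin n)))
        (x : alternatingGroup (Fin n)), x ^ 8 = 1 ∧ fx (x : Equiv.Perm (Fin n)) = a ∧
        (χ : alternatingGroup (Fin n) → ℂ) x = 0 ∧
        ∃ ψ : Cfsg.IrrCharacter (Equiv.Perm (Fin n)), ∀ x : alternatingGroup (Fin n),
          (ψ : Equiv.Perm (Fin n) → ℂ) x = (χ : alternatingGroup (Fin n) → ℂ) x) →
        ∃ χ : Cfsg.IrrCharacter (alternatingGroup (Fin n)), (∃ x : alternatingGroup (Fin n),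
          (∃ j : ℕ, orderOf x = 2 ^ j) ∧ (χ : alternatingGroup (Fin n) → ℂ) x = 0) ∧
        ∃ ψ : Cfsg.IrrCharacter (Equiv.Perm (Fin n)), ∀ x : alternatingGroup (Fin n),
          (ψ : Equiv.Perm (Fin n) → ℂ) x = (χ : alternatingGroup (Fin n) → ℂ) x := by
      rintro a ⟨χ, x, hx, -, h0, hψ⟩
      obtain ⟨j, -, hj⟩ := (Nat.dvd_prime_pow Nat.prime_two).1
        (show orderOf x ∣ 2 ^ 3 from orderOf_dvd_of_pow_eq_one hx)
      exact ⟨χ, ⟨x, ⟨j, hj⟩, h0⟩, hψ⟩
    obtain ⟨q, hq⟩ | ⟨q, hq⟩ := Nat.even_or_odd n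
    · obtain ⟨m, hm⟩ | ⟨m, hm⟩ := Nat.even_or_odd q
      · refine fin (pairC ?_)
        have h := witness_quad m (by omega)
        rwa [show 4 * m = n by omega] at h
      · refine fin (hookC (a := 0) ?_ (Or.inl rfl))
        have h := witness_quad_swap m (by omega)
        rwa [show 4 * m + 2 = n by omega] at h
    · obtain ⟨b, hb⟩ := witness_double q (by omega)
      have h := hb.add (witness_one 8)
      rw [show 2 * q + 1 = n by omega, mul_one, zero_add] at h
      exact fin (stdC h)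
  · have fin : ∀ {a : ℕ}, a ≠ n → (∃ (χ : Cfsg.IrrCharacter (alternatingGroup (Fin n)))
        (x : alternatingGroup (Fin n)), x ^ 3 = 1 ∧ fx (x : Equiv.Perm (Fin n)) = a ∧
        (χ : alternatingGroup (Fin n) → ℂ) x = 0 ∧
        ∃ ψ : Cfsg.IrrCharacter (Equiv.Perm (Fin n)), ∀ x : alternatingGroup (Fin n),
          (ψ : Equiv.Perm (Fin n) → ℂ) x = (χ : alternatingGroup (Fin n) → ℂ) x) →
        ∃ χ : Cfsg.IrrCharacter (alternatingGroup (Fin n)), (∃ y : alternatingGroup (Fin n),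
          orderOf y = 3 ∧ (χ : alternatingGroup (Fin n) → ℂ) y = 0) ∧
        ∃ ψ : Cfsg.IrrCharacter (Equiv.Perm (Fin n)), ∀ x : alternatingGroup (Fin n),
          (ψ : Equiv.Perm (Fin n) → ℂ) x = (χ : alternatingGroup (Fin n) → ℂ) x := by
      rintro a ha ⟨χ, x, hx, hfx, h0, hψ⟩
      haveI := Fact.mk Nat.prime_three
      refine ⟨χ, ⟨x, orderOf_eq_prime hx fun h1 => ha ?_, h0⟩, hψ⟩
      rw [← hfx, h1, OneMemClass.coe_one, count_one.1]
    have hw := witness_three.repeat (n / 3)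
    rw [one_pow, zero_mul] at hw
    rcases (show n % 3 = 0 ∨ n % 3 = 1 ∨ n % 3 = 2 by omega) with hr | hr | hr
    · rw [show 3 * (n / 3) = n by omega] at hw
      exact fin (by omega) (pairC hw)
    · have h := hw.add (witness_one 3)
      rw [show 3 * (n / 3) + 1 = n by omega, mul_one, zero_add] at h
      exact fin (by omega) (stdC h)
    · have h := (hw.add (witness_one 3)).add (witness_one 3)
      rw [show 3 * (n / 3) + 1 + 1 = n by omega, mul_one, mul_one, zero_add] at h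
      exact fin (by omega) (hookC h (Or.inr rfl))

end Cfsg.Agent.S4560
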