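import Cfsg.Statements.S4563
import Cfsg.Agent.Lib.CharDeep.FullyRamified
import Cfsg.Agent.Lib.Solvable.SolvabilityCriteria
-- import your own Cfsg.Agent.* helpers here

set_option autoImplicit false
open Cfsg CfsgLib CfsgLib.Char CfsgLib.CharDeep CfsgLib.CharDeep.FullyRamified

namespace Cfsg.Agent.S4563

/-- Let χ be an irreducible character of the finite group H that is fully ramified over the normal subgroup Z: the restriction of χ to Z is e times an irreducible character of Z with e ^ 2 equal to the index of Z. If K is a proper normal subgroup of H containing Z and χ is induced from a character of K, then H/K is solvable; in particular, if K is solvable then so is H. -/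
theorem result {H : Type*} [Group H] [Fintype H] (Z : Subgroup H) [Z.Normal] (χ : Cfsg.IrrCharacter H) (hfr : ∃ (θ : Cfsg.IrrCharacter ↥Z) (e : ℕ), e ^ 2 = Z.index ∧ ∀ z : ↥Z, (χ : H → ℂ) z = (e : ℂ) * (θ : ↥Z → ℂ) z) (K : Subgroup H) [K.Normal] [Fintype K] (hZK : Z ≤ K) (hK : K ≠ ⊤) (φ : ↥K → ℂ) (hφ : Cfsg.IsCharacter ↥K φ) (hind : Cfsg.indFun K φ = (χ : H → ℂ)) : Group.IsSolvable (H ⧸ K) ∧ (Group.IsSolvable ↥K → Group.IsSolvable H) := by
  classical
  haveI : Finite H := Finite.of_fintype H
  letI : Fintype Z := Fintype.ofFinite _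
  obtain ⟨θ, e, he2, hres⟩ := hfr
  have hR : Ramified Z (χ : H → ℂ) (θ : Z → ℂ) e := ⟨χ.2, θ.2, hres, he2⟩
  have hQ : Group.IsSolvable (H ⧸ K) := by
    refine CfsgLib.Solvable.SolvabilityCriteria.hall_converse fun p hp => ?_
    haveI := Fact.mk hp
    refine exists_pComplement hR K hZK p fun L ψ m hLp hψ hm hχL hZL η f hη hf hf0 => ?_
    set T := stab (K ⊓ L) η ⊓ L with hTdef
    rw [inf_relIndex_of_le (inf_le_right : T ≤ L)]
    obtain ⟨j, hj⟩ : ∃ j, K.relIndex T = p ^ j := by
      have h1 := IsPGroup.iff_card.1 (hLp.to_le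
        (Subgroup.map_mono (inf_le_right : T ≤ L) : T.map (QuotientGroup.mk' K) ≤ _))
      rwa [← Subgroup.relIndex_ker T (QuotientGroup.mk' K), QuotientGroup.ker_mk'] at h1
    have hconj : ∀ (g : H) (r : (K ⊓ L : Subgroup H)), g * r * g⁻¹ ∈ K := fun g r =>
      (inferInstance : K.Normal).conj_mem _ r.2.1 g
    let i : H → ((K ⊓ L : Subgroup H) →* K) := fun g =>
      { toFun := fun r => ⟨g * r * g⁻¹, hconj g r⟩
        map_one' := Subtype.ext (by simp)
        map_mul' := fun a b => Subtype.ext (by simp [mul_assoc]) }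
    have hc : ∀ g, ∃ c : ℕ, Cfsg.classInner (φ ∘ i g) η = c := fun g =>
      IsCharacter.classInner_nat (IsCharacter.comp hφ (i g)) (IsIrrCharacter.isCharacter hη.1)
    choose c hc using hc
    have hφc := IsCharacter.isClassFunction hφ
    let U₀ : Subgroup H :=
      { carrier := {u | ∀ g, c (g * u) = c g}
        one_mem' := fun g => by rw [mul_one]
        mul_mem' := fun {a b} ha hb g => by rw [← mul_assoc, hb, ha]
        inv_mem' := fun {a} ha g => by
          have h1 := ha (g * a⁻¹)
          rw [inv_mul_cancel_right] at h1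
          exact h1.symm }
    have hKU : K ≤ U₀ := fun k hk g => by
      apply Nat.cast_injective (R := ℂ)
      rw [← hc, ← hc]
      congr 1
      funext r
      have h1 := hφc (i g r) ⟨g * k * g⁻¹, (inferInstance : K.Normal).conj_mem k hk g⟩
      rw [Function.comp_apply, Function.comp_apply, ← h1]
      exact congrArg φ (Subtype.ext (by simp [i, mul_assoc]))
    have hTU : T ≤ U₀ := fun t ht g => by
      obtain ⟨htn, hteq⟩ := mem_stab.1 ht.1
      apply Nat.cast_injective (R := ℂ)
      rw [← hc, ← hc]
      unfold Cfsg.classInner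
      congr 1
      refine Fintype.sum_equiv (norEquiv (K ⊓ L) t htn).toEquiv _ _ fun r => ?_
      have h1 := congrFun hteq r
      rw [← h1]
      congr 1
      exact congrArg φ (Subtype.ext (by simp [i, norEquiv, mul_assoc]))
    set U := K ⊔ T with hUdef
    have hU : U ≤ U₀ := sup_le hKU hTU
    let F : H ⧸ U → ℕ := fun q => c q.out
    have hF : ∀ g : H, c g = F (QuotientGroup.mk g) := fun g => by
      obtain ⟨u, hu⟩ := QuotientGroup.mk_out_eq_mul U g
      show c g = c (QuotientGroup.mk g : H ⧸ U).out
      rw [hu, hU u.2]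
    have hsum : ∑ g : H, c g = Nat.card U * ∑ q, F q := by
      rw [← Fintype.sum_equiv (Subgroup.groupEquivQuotientProdSubgroup (s := U)).symm
        (fun x => F x.1) c (fun x => ?_), Fintype.sum_prod_type, Finset.mul_sum]
      · exact Finset.sum_congr rfl fun q _ => by
          simp only [Finset.sum_const, Finset.card_univ, smul_eq_mul, Nat.card_eq_fintype_card]
      · have h1 := (Subgroup.groupEquivQuotientProdSubgroup (s := U)).apply_symm_apply x
        rw [hF]
        exact congrArg F (congrArg Prod.fst h1).symm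
    have hcardU : Nat.card U = Nat.card K * K.relIndex T := by
      rw [← Subgroup.relIndex_sup_right (H := T) (K := K), sup_comm T K, ← hUdef, Subgroup.relIndex,
        ← Nat.card_congr (Subgroup.subgroupOfEquivOfLe (le_sup_left : K ≤ U)).toEquiv,
        Subgroup.card_mul_index]
    have hkey : Nat.card K * (m * f) = ∑ g : H, c g := by
      apply Nat.cast_injective (R := ℂ)
      push_cast
      have h2 : (fun r : (K ⊓ L : Subgroup H) => (χ : H → ℂ) r) =
          (Nat.card K : ℂ)⁻¹ • ∑ g : H, φ ∘ i g := by
        funext r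
        rw [Pi.smul_apply, Finset.sum_apply, smul_eq_mul, ← hind]
        exact indFun_apply_of_normal K φ (⟨r, r.2.1⟩ : K)
      have h1 : Cfsg.classInner (fun r : (K ⊓ L : Subgroup H) => (χ : H → ℂ) r) η =
          (m : ℂ) * f := by
        rw [show (fun r : (K ⊓ L : Subgroup H) => (χ : H → ℂ) r) =
          (m : ℂ) • (ψ ∘ Subgroup.inclusion inf_le_right) from
          funext fun r => congrFun hχL (Subgroup.inclusion inf_le_right r),
          classInner_smul_left, hf]
      rw [h2, classInner_smul_left, classInner_sum_left] at h1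
      simp only [hc] at h1
      rw [← h1, ← mul_assoc, mul_inv_cancel₀ card_ne_zero, one_mul]
    rw [hsum, hcardU, mul_assoc] at hkey
    have hdvd : p ^ j ∣ m * f :=
      ⟨_, (Nat.eq_of_mul_eq_mul_left Nat.card_pos hkey).trans (by rw [hj])⟩
    rw [hj]
    exact Nat.le_of_dvd (Nat.pos_of_ne_zero hf0)
      ((Nat.Coprime.pow_left j ((hp.coprime_iff_not_dvd).2 hm)).dvd_of_dvd_mul_left hdvd)
  haveI := hQ
  refine ⟨hQ, fun hK' => ?_⟩
  haveI := hK'
  exact Group.isSolvable_of_ker_le_range K.subtype (QuotientGroup.mk' K) (by simp)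

end Cfsg.Agent.S4563
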