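import Cfsg.Statements.S4564
import Cfsg.Agent.Lib.CharDeep.FullyRamified
-- import your own Cfsg.Agent.* helpers here

set_option autoImplicit false
open Cfsg CfsgLib CfsgLib.Char CfsgLib.CharDeep CfsgLib.CharDeep.FullyRamified

namespace Cfsg.Agent.S4564

/-- Let χ be an irreducible character of the finite group H that is fully ramified over the normal subgroup Z: the restriction of χ to Z is e times an irreducible character of Z with e ^ 2 equal to the index of Z. Let K be a normal subgroup of H containing Z and P a cyclic Sylow p-subgroup of H/K. Then P has a complement in H/K: a subgroup meeting P trivially whose product with P is the whole group. -/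
theorem result {H : Type*} [Group H] [Finite H] (Z : Subgroup H) [Z.Normal] (χ : Cfsg.IrrCharacter H) (hfr : ∃ (θ : Cfsg.IrrCharacter ↥Z) (e : ℕ), e ^ 2 = Z.index ∧ ∀ z : ↥Z, (χ : H → ℂ) z = (e : ℂ) * (θ : ↥Z → ℂ) z) (K : Subgroup H) [K.Normal] (hZK : Z ≤ K) (p : ℕ) [Fact p.Prime] (P : Sylow p (H ⧸ K)) (hcyc : IsCyclic P) : ∃ M : Subgroup (H ⧸ K), M.IsComplement' (P : Subgroup (H ⧸ K)) := by
  classical
  letI : Fintype H := Fintype.ofFinite H
  have hp : p.Prime := Fact.out
  obtain ⟨θ, e, he2, hres⟩ := hfr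
  have hR : Ramified Z (χ : H → ℂ) (θ : Z → ℂ) e := ⟨χ.2, θ.2, hres, he2⟩
  obtain ⟨M, hM⟩ := exists_pComplement hR K hZK p fun L ψ m hLp hψ hm hχL hZL => by
    set R := K ⊓ L with hRdef
    intro η f hη hf hf0
    set T := stab R η ⊓ L with hTdef
    have hRT : R ≤ T := le_inf (fun r hr => mem_stab.2
      ⟨Subgroup.le_normalizer hr, funext fun x =>
        IsIrrCharacter.isClassFunction hη.1 x ⟨r, hr⟩⟩) inf_le_right
    have hTL : T ≤ L := inf_le_right
    -- the cyclic quotient
    set C := T.map (QuotientGroup.mk' K) with hCdef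
    obtain ⟨Q, hQ⟩ := hLp.exists_le_sylow
    have hQc : IsCyclic (Q : Subgroup (H ⧸ K)) :=
      isCyclic_of_surjective (Q.equiv P).symm.toMonoidHom (Q.equiv P).symm.surjective
    haveI hC : IsCyclic C := isCyclic_of_injective
      (Subgroup.inclusion ((Subgroup.map_mono hTL).trans hQ : C ≤ (Q : Subgroup (H ⧸ K))))
      (Subgroup.inclusion_injective _)
    let qC : T →* C := (QuotientGroup.mk' K).subgroupMap T
    have hqC : ∀ t : T, qC t = 1 ↔ (t : H) ∈ R := fun t => by
      constructor
      · intro h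
        exact ⟨(QuotientGroup.eq_one_iff (t : H)).1 (congrArg Subtype.val h), hTL t.2⟩
      · intro h
        exact Subtype.ext ((QuotientGroup.eq_one_iff (t : H)).2 h.1)
    have hqs : Function.Surjective qC := (QuotientGroup.mk' K).subgroupMap_surjective T
    obtain ⟨c, hgen⟩ := hC.exists_generator
    obtain ⟨g, hg⟩ := hqs c
    set N' : Subgroup T := R.subgroupOf T with hN'
    haveI : N'.Normal := ⟨fun a ha b => Subgroup.mem_subgroupOf.2 ((hqC _).1 (by
      rw [map_mul, map_mul, map_inv, (hqC a).2 (Subgroup.mem_subgroupOf.1 ha), mul_one,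
        mul_inv_cancel]))⟩
    set ε : N' ≃* R := Subgroup.subgroupOfEquivOfLe hRT with hε
    have hη' : Cfsg.IsIrrCharacter N' (η ∘ ε.toMonoidHom) :=
      IsIrrCharacter.comp_surjective hη.1 ε.toMonoidHom ε.surjective
    have hinv : ∀ (x : T) (n : N'), η (ε (MulAut.conjNormal x n)) = η (ε n) := by
      intro x n
      obtain ⟨hxn, hxeq⟩ := mem_stab.1 x.2.1
      refine Eq.trans ?_ (congrFun hxeq (ε n))
      exact congrArg η (Subtype.ext rfl)
    obtain ⟨_, ρ, hρi, hρc⟩ := hη'
    obtain ⟨σ, hσ⟩ := ProjExt.exists_extension_of_zpowers ρ (fun x n => by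
        rw [hρc]; exact hinv x n) g fun k => by
      obtain ⟨i, hi⟩ := hgen (qC k)
      refine ⟨⟨k * (g ^ i)⁻¹, ?_⟩, i, by simp⟩
      rw [hN', Subgroup.mem_subgroupOf, ← hqC, map_mul, map_inv, map_zpow, hg, ← hi]
      exact mul_inv_cancel _
    haveI : σ.IsIrreducible := DetExt.isIrreducible_of_extends ρ σ hσ
    have hσc : ∀ n : N', σ.character n = η (ε n) := fun n => by
      show _ = (η ∘ ε.toMonoidHom) n
      rw [← hρc]
      show LinearMap.trace ℂ _ (σ n) = _
      rw [hσ]; rfl
    letI : CommGroup C := IsCyclic.commGroup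
    letI : Fintype C := Fintype.ofFinite _
    haveI : Finite (C →* ℂˣ) := inferInstance
    letI : Fintype (C →* ℂˣ) := Fintype.ofFinite _
    let ξ : (C →* ℂˣ) → T → ℂ := fun μ k => σ.character k * ((μ.comp qC) k : ℂ)
    have hξ : ∀ μ, Cfsg.IsIrrCharacter T (ξ μ) := fun μ =>
      IsIrrCharacter.mul_hom (isIrrCharacter_of_rep σ) (μ.comp qC)
    have hξR : ∀ μ (n : N'), ξ μ n = η (ε n) := fun μ n => by
      simp only [ξ, MonoidHom.comp_apply]
      rw [(hqC _).2 (Subgroup.mem_subgroupOf.1 n.2), map_one, Units.val_one, mul_one, hσc]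
    -- the induced character of `η` is the sum of the extensions
    have hcardC : N'.index = Fintype.card C := by
      have h1 : qC.ker = N' := Subgroup.ext fun t => by
        rw [MonoidHom.mem_ker, hqC, hN', Subgroup.mem_subgroupOf]
      rw [← h1, Subgroup.index_ker, MonoidHom.range_eq_top.2 hqs, Subgroup.card_top,
        Nat.card_eq_fintype_card]
    have hind : Cfsg.indFun N' (η ∘ ε.toMonoidHom) = ∑ μ, ξ μ := by
      funext k
      rw [Finset.sum_apply]
      simp only [ξ, MonoidHom.comp_apply, ← Finset.mul_sum]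
      have h1 := CommIdem.sum_hom_eq (qC k)⁻¹
      simp only [map_inv, inv_inv] at h1
      rw [h1]
      by_cases hk : k ∈ N'
      · rw [if_pos (by rw [(hqC k).2 (Subgroup.mem_subgroupOf.1 hk), inv_one]),
          indFun_apply_of_normal N' _ (⟨k, hk⟩ : N'), hσc ⟨k, hk⟩,
          Finset.sum_congr rfl fun x _ => show (η ∘ ε.toMonoidHom) _ = η (ε ⟨k, hk⟩) from
            Eq.trans (congrArg (fun y => η (ε y)) (Subtype.ext (by simp))) (hinv x ⟨k, hk⟩),
          Finset.sum_const, Finset.card_univ, nsmul_eq_mul, ← Nat.card_eq_fintype_card,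
          ← N'.index_mul_card, hcardC]
        push_cast
        field_simp [Nat.card_pos.ne']
      · rw [if_neg (fun h => hk (Subgroup.mem_subgroupOf.2 ((hqC k).1 (inv_eq_one.1 h)))), mul_zero,
          indFun_eq_zero_of_normal N' _ hk]
    have hψT := IsCharacter.comp (IsIrrCharacter.isCharacter hψ) (Subgroup.inclusion hTL)
    have hpos : ∀ μ, ∃ a : ℕ, a ≠ 0 ∧
        Cfsg.classInner (ψ ∘ Subgroup.inclusion hTL) (ξ μ) = a := fun μ => by
      obtain ⟨a, ha⟩ := IsCharacter.classInner_nat hψT (IsIrrCharacter.isCharacter (hξ μ))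
      refine ⟨a, fun h0 => ?_, ha⟩
      obtain ⟨d, hd0, hd⟩ := cons_restrict hR (le_inf hZK hZL : Z ≤ R) hη
      have h1 := cons_of_over hR ((le_inf hZK hZL : Z ≤ R).trans hRT) (hξ μ) (by
        have h2 : ξ μ ∘ Subgroup.inclusion ((le_inf hZK hZL : Z ≤ R).trans hRT) =
            (d : ℂ) • (θ : Z → ℂ) := by
          rw [← hd]
          funext z
          exact hξR μ ⟨Subgroup.inclusion ((le_inf hZK hZL : Z ≤ R).trans hRT) z,
            (le_inf hZK hZL : Z ≤ R) z.2⟩
        rw [h2, classInner_smul_left, classInner_irr_self θ.2, mul_one]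
        exact Nat.cast_ne_zero.2 hd0)
      refine h1.2 ?_
      rw [show (fun l : T => (χ : H → ℂ) l) = (m : ℂ) • (ψ ∘ Subgroup.inclusion hTL) from
        funext fun r => congrFun hχL (Subgroup.inclusion hTL r),
        classInner_smul_left, ha, h0, Nat.cast_zero, mul_zero]
    choose a ha0 ha using hpos
    have hfsum : f = ∑ μ, a μ := by
      apply Nat.cast_injective (R := ℂ)
      push_cast
      simp only [← ha]
      rw [← classInner_sum_right, ← hind, classInner_indFun_right N' _
        (IsCharacter.isClassFunction hψT), ← hf]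
      exact (classInner_inclusion hRT (ψ ∘ Subgroup.inclusion hTL) η).symm
    have hcard : R.relIndex T ≤ Fintype.card (C →* ℂˣ) := by
      rw [← Nat.card_eq_fintype_card (α := C →* ℂˣ),
        CommGroup.card_monoidHom_of_hasEnoughRootsOfUnity, Nat.card_eq_fintype_card, ← hcardC]
      exact le_refl _
    refine hcard.trans ?_
    rw [hfsum, ← Finset.card_univ, Finset.card_eq_sum_ones]
    exact Finset.sum_le_sum fun μ _ => Nat.one_le_iff_ne_zero.2 (ha0 μ)
  have hv : Nat.card P = p ^ (Nat.card (H ⧸ K)).factorization p := P.card_eq_multiplicity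
  have hmul := M.index_mul_card
  rw [hM] at hmul
  refine ⟨M, Subgroup.isComplement'_of_coprime (by rw [hv, mul_comm, hmul]) ?_⟩
  rw [hv]
  refine Nat.Coprime.pow_right _ ((Nat.coprime_comm).1 ((hp.coprime_iff_not_dvd).2 ?_))
  intro hd
  have h1 := congrArg (fun n => n.factorization p) hmul
  simp only [Nat.factorization_mul (pow_ne_zero _ hp.ne_zero) Nat.card_pos.ne', Finsupp.add_apply,
    hp.factorization_pow, Finsupp.single_eq_same] at h1
  have h2 := Nat.Prime.factorization_pos_of_dvd hp Nat.card_pos.ne' hd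
  omega

end Cfsg.Agent.S4564
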