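import Cfsg.Statements.S4565
import Cfsg.Agent.Lib.CharDeep.Relative
import Cfsg.Agent.Lib.CharDeep.HomogLift
import Cfsg.Agent.Lib.CharDeep.CommIdem
import Cfsg.Agent.Lib.CharDeep.DetExt
-- import your own Cfsg.Agent.* helpers here

set_option autoImplicit false
open Cfsg CfsgLib.Char CfsgLib.CharDeep CfsgLib.CharDeep.Relative
open scoped ComplexConjugate Classical

namespace Cfsg.Agent.S4565

/-- Let χ be an irreducible character of the finite group H that is fully ramified over the normal subgroup Z: the restriction of χ to Z is e times an irreducible character of Z with e ^ 2 equal to the index of Z. If Z ≠ H, then H/Z has no cyclic subgroup that is its own centralizer. -/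
theorem result {H : Type*} [Group H] [Finite H] (Z : Subgroup H) [Z.Normal] (χ : Cfsg.IrrCharacter H) (hfr : ∃ (θ : Cfsg.IrrCharacter ↥Z) (e : ℕ), e ^ 2 = Z.index ∧ ∀ z : ↥Z, (χ : H → ℂ) z = (e : ℂ) * (θ : ↥Z → ℂ) z) (hZ : Z ≠ ⊤) (C : Subgroup (H ⧸ Z)) (hC : IsCyclic C) : Subgroup.centralizer (C : Set (H ⧸ Z)) ≠ C := by
  intro hcent
  letI : Fintype H := Fintype.ofFinite H
  letI : Fintype Z := Fintype.ofFinite _
  obtain ⟨θ, e, he2, hres⟩ := hfr
  have he0 : (e : ℂ) ≠ 0 := Nat.cast_ne_zero.2 fun h0 =>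
    Subgroup.index_ne_zero_of_finite (H := Z) (by rw [← he2, h0]; rfl)
  have hθinv : ∀ (x : H) (z : Z),
      (θ : Z → ℂ) ⟨x * z * x⁻¹, (inferInstance : Z.Normal).conj_mem z z.2 x⟩ = (θ : Z → ℂ) z :=
    fun x z => mul_left_cancel₀ he0 (by
      rw [← hres, ← hres]; exact IsIrrCharacter.isClassFunction χ.2 (z : H) x)
  have hresf : (fun z : Z => (χ : H → ℂ) z) = (e : ℂ) • (θ : Z → ℂ) := funext hres
  have hindθ : Cfsg.indFun Z (θ : Z → ℂ) = (e : ℂ) • (χ : H → ℂ) := by
    refine eq_smul_of_degree (IsCharacter.indFun Z (isCharacter_irr θ)) χ.2 ?_ ?_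
    · rw [classInner_indFun Z _ (IsIrrCharacter.isClassFunction χ.2), hresf, classInner_smul_right,
        classInner_irr_self θ.2, Complex.conj_natCast, mul_one]
    · rw [indFun_one, ← he2, show (χ : H → ℂ) 1 = (e : ℂ) * (θ : Z → ℂ) 1 from hres 1]
      push_cast; ring
  have honly : ∀ ν : Cfsg.IrrCharacter H,
      Cfsg.classInner (fun z : Z => (ν : H → ℂ) z) (θ : Z → ℂ) ≠ 0 → ν = χ := by
    intro ν hν
    by_contra hne
    refine hν ?_
    rw [IsCharacter.classInner_comm (IsCharacter.restrict (isCharacter_irr ν) Z) (isCharacter_irr θ),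
      ← classInner_indFun Z _ (IsIrrCharacter.isClassFunction ν.2), hindθ, classInner_smul_left,
      classInner_irr_ne χ.2 ν.2 fun h => hne (Subtype.ext h.symm), mul_zero]
  have hvan : ∀ y : H, y ∉ Z → (χ : H → ℂ) y = 0 := fun y hy => by
    have h1 := congrFun hindθ y
    rw [indFun_eq_zero_of_normal Z _ hy, Pi.smul_apply, smul_eq_mul, eq_comm, mul_eq_zero] at h1
    exact h1.resolve_left he0
  obtain ⟨c, hgen⟩ := hC.exists_generator
  obtain ⟨g, hg⟩ := QuotientGroup.mk'_surjective Z (c : H ⧸ Z)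
  set Ct := C.comap (QuotientGroup.mk' Z) with hCtdef
  have hZle : Z ≤ Ct := fun z hz => by
    rw [hCtdef, Subgroup.mem_comap, show QuotientGroup.mk' Z z = 1 from (QuotientGroup.eq_one_iff z).2 hz]
    exact one_mem _
  have hgC : g ∈ Ct := by rw [hCtdef, Subgroup.mem_comap, hg]; exact c.2
  let qC : Ct →* C :=
    ((QuotientGroup.mk' Z).comp Ct.subtype).codRestrict C fun k => k.2
  have hc1 : (c : H ⧸ Z) ≠ 1 := fun h0 => hZ (by
    have hCbot : C = ⊥ := (Subgroup.eq_bot_iff_forall _).2 fun x hx => by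
      obtain ⟨i, hi⟩ := hgen ⟨x, hx⟩
      have hi' := congrArg Subtype.val hi
      simp only [SubgroupClass.coe_zpow, h0, one_zpow] at hi'
      exact hi'.symm
    refine (Subgroup.eq_top_iff' Z).2 fun y => ?_
    have hy : QuotientGroup.mk' Z y ∈ Subgroup.centralizer (C : Set (H ⧸ Z)) := by
      rw [hCbot]
      refine Subgroup.mem_centralizer_iff.2 fun u hu => ?_
      rw [Subgroup.mem_bot.1 hu, one_mul, mul_one]
    rw [hcent, hCbot, Subgroup.mem_bot] at hy
    exact (QuotientGroup.eq_one_iff y).1 hy)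
  set N' : Subgroup Ct := Z.subgroupOf Ct with hN'
  letI : Fintype Ct := Fintype.ofFinite _
  letI : Fintype N' := Fintype.ofFinite _
  let ε : N' ≃* Z := Subgroup.subgroupOfEquivOfLe hZle
  obtain ⟨_, ρ, hρi, hρc⟩ := IsIrrCharacter.comp_equiv θ.2 ε
  obtain ⟨σ, hσ⟩ := ProjExt.exists_extension_of_zpowers ρ (fun x n => by
      rw [hρc]
      exact (congrArg (θ : Z → ℂ) (Subtype.ext rfl)).trans (hθinv (x : H) (ε n)))
    ⟨g, hgC⟩ fun k => by
      obtain ⟨i, hi⟩ := hgen (qC k)
      refine ⟨⟨k * ((⟨g, hgC⟩ : Ct) ^ i)⁻¹, ?_⟩, i, by simp⟩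
      show ((k * ((⟨g, hgC⟩ : Ct) ^ i)⁻¹ : Ct) : H) ∈ Z
      rw [← QuotientGroup.eq_one_iff]
      show QuotientGroup.mk' Z ((k : H) * (((⟨g, hgC⟩ : Ct) ^ i : Ct) : H)⁻¹) = 1
      rw [SubgroupClass.coe_zpow, map_mul, map_inv, map_zpow, hg, mul_inv_eq_one]
      exact (congrArg Subtype.val hi).symm
  have hσi : σ.IsIrreducible := DetExt.isIrreducible_of_extends ρ σ hσ
  letI : CommGroup C := IsCyclic.commGroup
  letI : Fintype C := Fintype.ofFinite _
  set F : Ct → ℂ := fun k => ∑ μ : C →* ℂˣ,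
    ((μ c)⁻¹ : ℂˣ).val * (σ.character k * ((μ.comp qC) k : ℂ)) with hFdef
  have hF : ∀ k : Ct, F k = if qC k = c then (Fintype.card C : ℂ) * σ.character k else 0 := by
    intro k
    have h1 := CommIdem.sum_hom_eq (c * (qC k)⁻¹)
    simp only [map_mul, map_inv, mul_inv, inv_inv, Units.val_mul] at h1
    simp only [hFdef, MonoidHom.comp_apply]
    rw [Finset.sum_congr rfl fun μ _ => show ((μ c)⁻¹ : ℂˣ).val * (σ.character k * (μ (qC k) : ℂ))
      = σ.character k * (((μ c)⁻¹ : ℂˣ).val * (μ (qC k) : ℂ)) by ring, ← Finset.mul_sum, h1]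
    by_cases h : qC k = c
    · rw [if_pos h, if_pos (by rw [h, mul_inv_cancel]), mul_comm]
    · rw [if_neg h, if_neg (fun h' => h (mul_inv_eq_one.1 h').symm), mul_zero]
  have hindξ : ∀ μ : C →* ℂˣ, ∀ y : H, y ∉ Z →
      Cfsg.indFun Ct (fun k => σ.character k * ((μ.comp qC) k : ℂ)) y = 0 := by
    intro μ y hy
    set ξ : Ct → ℂ := fun k => σ.character k * ((μ.comp qC) k : ℂ) with hξdef
    have hξ : Cfsg.IsIrrCharacter Ct ξ := IsIrrCharacter.mul_hom (isIrrCharacter_of_rep σ) (μ.comp qC)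
    have hI := IsCharacter.indFun Ct (IsIrrCharacter.isCharacter hξ)
    obtain ⟨k, hk, hexp⟩ := IsCharacter.exists_multiplicity hI
    rw [hexp]
    refine Finset.sum_eq_zero fun ν _ => ?_
    by_cases hν : k ν = 0
    · rw [hν, Nat.cast_zero, zero_mul]
    have h1 : Cfsg.classInner (fun t : Ct => (ν : H → ℂ) t) ξ ≠ 0 := by
      rw [IsCharacter.classInner_comm (IsCharacter.restrict (isCharacter_irr ν) Ct)
        (IsIrrCharacter.isCharacter hξ), ← classInner_indFun Ct _ (IsIrrCharacter.isClassFunction ν.2), hk]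
      exact Nat.cast_ne_zero.2 hν
    have h2 := honly ν (CfsgLib.CharDeep.Clifford.classInner_ne_zero_trans
      (IsCharacter.restrict (isCharacter_irr ν) Ct) hξ h1 (Subgroup.inclusion hZle) (isCharacter_irr θ)
      (by
        have h3 : (fun z : Z => ξ (Subgroup.inclusion hZle z)) = (θ : Z → ℂ) := funext fun z => by
          have h4 : qC (Subgroup.inclusion hZle z) = 1 := Subtype.ext ((QuotientGroup.eq_one_iff _).2 z.2)
          have h5 : σ.character (Subgroup.inclusion hZle z) = (θ : Z → ℂ) z := by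
            show LinearMap.trace ℂ _ (σ ((ε.symm z : N') : Ct)) = _
            rw [hσ]
            show ρ.character (ε.symm z) = _
            rw [hρc, Function.comp_apply, MulEquiv.apply_symm_apply]
          simp [hξdef, h4, h5]
        show Cfsg.classInner (fun z : Z => ξ (Subgroup.inclusion hZle z)) (θ : Z → ℂ) ≠ 0
        rw [h3, classInner_irr_self θ.2]
        exact one_ne_zero))
    rw [h2, hvan y hy, mul_zero]
  have hzero : ∀ k : Ct, qC k = c → σ.character k = 0 := by
    intro k hk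
    have hkZ : (k : H) ∉ Z := fun h => hc1 (by
      rw [← hk]; exact (QuotientGroup.eq_one_iff _).2 h)
    have h1 : Cfsg.indFun Ct F (k : H) = 0 := by
      rw [show F = ∑ μ : C →* ℂˣ, ((μ c)⁻¹ : ℂˣ).val • fun t => σ.character t * ((μ.comp qC) t : ℂ) from
        funext fun t => by simp [hFdef], indFun_sum]
      rw [Finset.sum_apply]
      refine Finset.sum_eq_zero fun μ _ => ?_
      rw [indFun_smul, Pi.smul_apply, hindξ μ _ hkZ, smul_zero]
    rw [indFun_def] at h1
    have hterm : ∀ x : H, Cfsg.extendByZero Ct F (x⁻¹ * (k : H) * x)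
        = if x ∈ Ct then (Fintype.card C : ℂ) * σ.character k else 0 := by
      intro x
      by_cases hx : x ∈ Ct
      · rw [if_pos hx]
        have hmem : x⁻¹ * (k : H) * x ∈ Ct := Ct.mul_mem (Ct.mul_mem (Ct.inv_mem hx) k.2) hx
        rw [extendByZero_apply_mem Ct F hmem, hF]
        have he : (⟨_, hmem⟩ : Ct) = (⟨x, hx⟩ : Ct)⁻¹ * k * ⟨x, hx⟩ := Subtype.ext rfl
        rw [he, if_pos (by rw [map_mul, map_mul, map_inv, hk, mul_comm, mul_inv_cancel_left])]
        congr 1
        have h6 := Representation.char_conj σ k (⟨x, hx⟩ : Ct)⁻¹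
        rwa [inv_inv] at h6
      · rw [if_neg hx]
        by_cases hmem : x⁻¹ * (k : H) * x ∈ Ct
        · rw [extendByZero_apply_mem Ct F hmem, hF, if_neg]
          intro hq
          refine hx ?_
          have hq' : (QuotientGroup.mk' Z x)⁻¹ * (c : H ⧸ Z) * QuotientGroup.mk' Z x = (c : H ⧸ Z) := by
            have h7 : QuotientGroup.mk' Z (x⁻¹ * (k : H) * x) = (c : H ⧸ Z) := congrArg Subtype.val hq
            rw [map_mul, map_mul, map_inv, show QuotientGroup.mk' Z (k : H) = (c : H ⧸ Z) from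
              congrArg Subtype.val hk] at h7
            exact h7
          show QuotientGroup.mk' Z x ∈ C
          rw [← hcent]
          refine Subgroup.mem_centralizer_iff.2 fun u hu => ?_
          obtain ⟨i, hi⟩ := hgen ⟨u, hu⟩
          have hi' : (c : H ⧸ Z) ^ i = u := congrArg Subtype.val hi
          rw [← hi']
          rw [mul_assoc, inv_mul_eq_iff_eq_mul] at hq'
          exact (Commute.zpow_left (show Commute (c : H ⧸ Z) _ from hq') i).eq
        · exact extendByZero_apply_notMem Ct F hmem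
    rw [Finset.sum_congr rfl fun x _ => hterm x, ← Finset.sum_filter, Finset.sum_const, nsmul_eq_mul,
      mul_eq_zero, or_iff_right (inv_ne_zero card_ne_zero), mul_eq_zero, Nat.cast_eq_zero,
      Finset.card_eq_zero] at h1
    rcases h1 with h1 | h1
    · exact absurd (Finset.mem_filter.2 ⟨Finset.mem_univ _, one_mem Ct⟩) (h1 ▸ Finset.notMem_empty _)
    · exact (mul_eq_zero.1 h1).resolve_left (Nat.cast_ne_zero.2 Fintype.card_ne_zero)
  haveI := CfsgLib.CharDeep.IrrTools.apply_ne_zero_of_isIrreducible σ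
  have hz : σ ⟨g, hgC⟩ = 0 := by
    rw [HomogLift.eq_sum ρ (σ ⟨g, hgC⟩)]
    refine smul_eq_zero.2 (Or.inr (Finset.sum_eq_zero fun n _ => ?_))
    rw [← hσ, ← map_mul, show LinearMap.trace ℂ _ (σ (⟨g, hgC⟩ * ((n⁻¹ : N') : Ct)))
      = σ.character (⟨g, hgC⟩ * ((n⁻¹ : N') : Ct)) from rfl, hzero _ (Subtype.ext (by
        show QuotientGroup.mk' Z (g * (((n⁻¹ : N') : Ct) : H)) = (c : H ⧸ Z)
        rw [map_mul, hg, show QuotientGroup.mk' Z (((n⁻¹ : N') : Ct) : H) = 1 from
          (QuotientGroup.eq_one_iff _).2 (n⁻¹).2, mul_one])), zero_smul]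
  have h9 : σ ⟨g, hgC⟩ * σ (⟨g, hgC⟩ : Ct)⁻¹ = 1 := by rw [← map_mul, mul_inv_cancel, map_one]
  rw [hz, zero_mul] at h9
  exact zero_ne_one h9

end Cfsg.Agent.S4565
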