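import Cfsg.Statements.S4566
import Cfsg.Agent.Lib.CharDeep.CentralTrick
import Cfsg.Agent.Lib.Blocks.Basic
-- import your own Cfsg.Agent.* helpers here

set_option autoImplicit false
open Cfsg

namespace Cfsg.Agent.S4566

/-- Let N be a central subgroup of the finite group G, ψ a faithful irreducible (hence degree-one) character of N, and χ an irreducible character of G whose restriction to N contains ψ. If g ∈ G and some x ∈ G has commutator x⁻¹ g⁻¹ x g in N but different from 1, then χ g = 0. -/
theorem result {G : Type*} [Group G] [Fintype G] (N : Subgroup G) [Fintype N] (hN : N ≤ Subgroup.center G) (ψ : Cfsg.IrrCharacter ↥N) (hfaith : ∀ n : ↥N, (ψ : ↥N → ℂ) n = (ψ : ↥N → ℂ) 1 → n = 1) (χ : Cfsg.IrrCharacter G) (hover : Cfsg.classInner (fun n : ↥N => (χ : G → ℂ) n) (ψ : ↥N → ℂ) ≠ 0) (g x : G) (hcomm : x⁻¹ * g⁻¹ * x * g ∈ N) (hne : x⁻¹ * g⁻¹ * x * g ≠ 1) : (χ : G → ℂ) g = 0 := by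
  classical
  set c := x⁻¹ * g⁻¹ * x * g with hc
  obtain ⟨s, hs, hs1⟩ := CfsgLib.CharDeep.CentralTrick.exists_scalar_center χ.2
    (z := c⁻¹) (hN (inv_mem hcomm))
  refine CfsgLib.CharDeep.CentralTrick.eq_zero_of_conj_translate
    (CfsgLib.Char.IsIrrCharacter.isClassFunction χ.2) (y := x⁻¹) (z := c⁻¹) (c := s) ?_ (hs g)
    fun h1 => hne ?_
  · simp only [hc, mul_inv_rev, inv_inv]; group
  · -- the scalar of `χ` at a central element is that of `ψ`
    have hψs : ∀ n : N, ∀ (t : ℂ), (∀ y, (χ : G → ℂ) (y * n) = t * (χ : G → ℂ) y) →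
        (ψ : N → ℂ) n = t * (ψ : N → ℂ) 1 := by
      intro n t ht
      have hnc : n ∈ Subgroup.center N := Subgroup.mem_center_iff.2 fun m =>
        Subtype.ext (Subgroup.mem_center_iff.1 (hN n.2) m)
      obtain ⟨t', ht', -⟩ := CfsgLib.CharDeep.CentralTrick.exists_scalar_center ψ.2 hnc
      have h2 := ht' 1
      rw [one_mul] at h2
      rw [h2]
      congr 1
      have h3 : (starRingEnd ℂ) t' * t' = 1 := by
        have hpow : ∀ i : ℕ, (ψ : N → ℂ) (n ^ i) = t' ^ i * (ψ : N → ℂ) 1 := by
          intro i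
          induction i with
          | zero => simp
          | succ i ih => rw [pow_succ, ht', ih, pow_succ]; ring
        have h4 := hpow (orderOf n)
        rw [pow_orderOf_eq_one] at h4
        have h5 : t' ^ orderOf n = 1 :=
          (mul_eq_right₀ (CfsgLib.Blocks.irr_one_ne_zero ψ)).1 h4.symm
        rw [Complex.conj_mul', Complex.norm_eq_one_of_pow_eq_one h5 (orderOf_pos n).ne']; simp
      set S := Cfsg.classInner (fun m : N => (χ : G → ℂ) m) (ψ : N → ℂ) with hS
      have e0 : S = t * (starRingEnd ℂ) t' * S := by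
        simp only [hS, Cfsg.classInner, Finset.mul_sum]
        symm
        refine Fintype.sum_equiv (Equiv.mulRight n) _ _ fun m => ?_
        simp only [Equiv.coe_mulRight, Subgroup.coe_mul, ht, ht', map_mul]
        ring
      have e : t * S = t' * S := by
        linear_combination -t' * e0 + (-t * S) * h3
      exact (mul_right_cancel₀ hover e).symm
    have h6 := hψs ⟨c⁻¹, inv_mem hcomm⟩ s hs
    rw [h1, one_mul] at h6
    have h7 := congrArg Subtype.val (hfaith _ h6)
    simpa using h7

end Cfsg.Agent.S4566
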