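import Cfsg.Statements.S4567
import Cfsg.Agent.Lib.CharDeep.Relative
import Cfsg.Agent.Lib.CharDeep.IrrTools
-- import your own Cfsg.Agent.* helpers here

set_option autoImplicit false
open Cfsg CfsgLib.Char CfsgLib.CharDeep
open scoped ComplexConjugate Classical

namespace Cfsg.Agent.S4567

/-- Let N be a central subgroup of the finite group G and ψ a faithful irreducible (hence degree-one) character of N. Call a coset g N special when every x ∈ G whose commutator x⁻¹ g⁻¹ x g lies in N actually commutes with g (this depends only on the coset). Then the number of irreducible characters of G whose restriction to N contains ψ equals the number of conjugacy classes of G/N consisting of special cosets. -/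
theorem result {G : Type*} [Group G] [Fintype G] (N : Subgroup G) [N.Normal] [Fintype N] (hN : N ≤ Subgroup.center G) (ψ : Cfsg.IrrCharacter ↥N) (hfaith : ∀ n : ↥N, (ψ : ↥N → ℂ) n = (ψ : ↥N → ℂ) 1 → n = 1) : Nat.card {χ : Cfsg.IrrCharacter G // Cfsg.classInner (fun n : ↥N => (χ : G → ℂ) n) (ψ : ↥N → ℂ) ≠ 0} = Nat.card {C : ConjClasses (G ⧸ N) // ∃ g : G, ConjClasses.mk (g : G ⧸ N) = C ∧ ∀ x : G, x⁻¹ * g⁻¹ * x * g ∈ N → x * g = g * x} := by
  have hcomm : ∀ (n : N) (x : G), (n : G) * x = x * n := fun n x =>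
    (Subgroup.mem_center_iff.1 (hN n.2) x).symm
  have hψ1 : (ψ : N → ℂ) 1 = 1 := apply_one_eq_one_of_comm (fun a b => Subtype.ext (hcomm a b)) ψ.2
  obtain ⟨f, hf₀⟩ := exists_hom_of_apply_one_eq_one (isCharacter_irr ψ) hψ1
  have hf : ∀ n : N, (ψ : N → ℂ) n = (f n : ℂ) := fun n => congrFun hf₀ n
  have hfinj : ∀ n : N, f n = 1 → n = 1 := fun n hn => hfaith n (by rw [hf, hψ1, hn]; rfl)
  have hscal : ∀ (χ : Cfsg.IrrCharacter G) (g : G) (z : N),
      (χ : G → ℂ) (g * z) * (χ : G → ℂ) 1 = (χ : G → ℂ) g * (χ : G → ℂ) z := by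
    intro χ g z
    obtain ⟨_, π, hπ, hπc⟩ := id χ.2
    obtain ⟨c, hc⟩ := CfsgLib.CharDeep.IrrTools.exists_smul_of_commute π (π z) fun x => by
      rw [← map_mul, ← map_mul, hcomm]
    rw [← hπc]
    show LinearMap.trace ℂ _ (π (g * z)) * LinearMap.trace ℂ _ (π 1)
      = LinearMap.trace ℂ _ (π g) * LinearMap.trace ℂ _ (π z)
    rw [map_mul, hc, mul_smul_comm, mul_one, map_smul, map_one, map_smul, smul_eq_mul, smul_eq_mul]
    ring
  set P : Cfsg.IrrCharacter G → Prop := fun χ =>
    Cfsg.classInner (fun n : N => (χ : G → ℂ) n) (ψ : N → ℂ) ≠ 0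
  have hover : ∀ χ, P χ → ∀ (g : G) (z : N), (χ : G → ℂ) (g * z) = (χ : G → ℂ) g * (f z : ℂ) := by
    intro χ hχ g z
    obtain ⟨e, -, -, he⟩ := CfsgLib.CharDeep.Clifford.restrict_eq_smul N χ.2 ψ.2 hχ fun x n =>
      congrArg (ψ : N → ℂ) (Subtype.ext (by show x * (n : G) * x⁻¹ = (n : G); rw [← hcomm, mul_inv_cancel_right]))
    have h1 : ∀ w : N, (χ : G → ℂ) w = (e : ℂ) * (f w : ℂ) := fun w => by
      rw [← hf]; exact congrFun he w
    refine mul_right_cancel₀ (IsIrrCharacter.apply_one_ne_zero χ.2) ?_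
    rw [hscal, h1 z, show (χ : G → ℂ) 1 = (e : ℂ) by simpa using h1 1]
    ring
  set S : G → Prop := fun g => ∀ x : G, x⁻¹ * g⁻¹ * x * g ∈ N → x * g = g * x
  have hSiff : ∀ g, S g ↔ ∀ z : N, IsConj g (g * z) → z = 1 := by
    intro g
    constructor
    · intro hS z hz
      obtain ⟨x, hx⟩ := isConj_iff.1 hz
      have hx' : x * g = g * x * (z : G) := by
        rw [mul_assoc, ← hcomm, ← mul_assoc, ← hx, inv_mul_cancel_right]
      have h1 := hS x (by
        rw [mul_assoc _ x g, hx', show x⁻¹ * g⁻¹ * (g * x * (z : G)) = z by simp [mul_assoc]]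
        exact z.2)
      exact Subtype.ext (mul_eq_left.1 (hx'.symm.trans h1))
    · intro hall x hx
      set z : N := ⟨_, hx⟩
      have hx' : x * g = g * x * (z : G) := by simp [z, mul_assoc]
      have h1 := hall z (isConj_iff.2 ⟨x, by rw [hx', mul_assoc g, ← hcomm, mul_assoc, mul_inv_cancel_right]⟩)
      rwa [h1, OneMemClass.coe_one, mul_one] at hx'
  set cen : G → ℕ := fun g => Nat.card (Subgroup.centralizer ({g} : Set G))
  have key : ∀ g : G, (Nat.card N : ℂ) * ∑ χ ∈ Finset.univ.filter P,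
      (χ : G → ℂ) g * conj ((χ : G → ℂ) g) = if S g then (cen g : ℂ) else 0 := by
    intro g
    have h1 : ∀ χ : Cfsg.IrrCharacter G, ∑ z : N, (f z : ℂ) * ((χ : G → ℂ) g * conj ((χ : G → ℂ) (g * z)))
        = if P χ then (Nat.card N : ℂ) * ((χ : G → ℂ) g * conj ((χ : G → ℂ) g)) else 0 := by
      intro χ
      split_ifs with hχ
      · have h : ∀ z : N, (f z : ℂ) * ((χ : G → ℂ) g * conj ((χ : G → ℂ) (g * z)))
            = ((χ : G → ℂ) g * conj ((χ : G → ℂ) g)) * ((f z : ℂ) * conj (f z : ℂ)) := fun z => by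
          rw [hover χ hχ, map_mul]; ring
        rw [Finset.sum_congr rfl fun z _ => h z, ← Finset.mul_sum, mul_comm (Nat.card N : ℂ)]
        congr 1
        rw [Relative.sum_mul_conj, show (fun z : N => (f z : ℂ)) = (ψ : N → ℂ) from
          funext fun z => (hf z).symm, classInner_irr_self ψ.2, mul_one]
      · have h : ∀ z : N, (f z : ℂ) * ((χ : G → ℂ) g * conj ((χ : G → ℂ) (g * z)))
            = ((χ : G → ℂ) g * conj ((χ : G → ℂ) g) / conj ((χ : G → ℂ) 1))
              * ((ψ : N → ℂ) z * conj ((χ : G → ℂ) z)) := fun z => by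
          have h' := congrArg (starRingEnd ℂ) (hscal χ g z)
          rw [map_mul, map_mul] at h'
          have h1' : conj ((χ : G → ℂ) 1) ≠ 0 :=
            (map_ne_zero _).2 (IsIrrCharacter.apply_one_ne_zero χ.2)
          rw [hf, div_mul_eq_mul_div, eq_div_iff h1']
          linear_combination (f z : ℂ) * (χ : G → ℂ) g * h'
        rw [Finset.sum_congr rfl fun z _ => h z, ← Finset.mul_sum]
        have h0 : Cfsg.classInner (fun n : N => (χ : G → ℂ) n) (ψ : N → ℂ) = 0 := not_not.1 hχ
        have h0' : Cfsg.classInner (ψ : N → ℂ) (fun n : N => (χ : G → ℂ) n) = 0 := by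
          rw [IsCharacter.classInner_comm (isCharacter_irr ψ)
            (IsCharacter.restrict (isCharacter_irr χ) N), h0]
        rw [Cfsg.classInner, mul_eq_zero] at h0'
        rw [h0'.resolve_left (inv_ne_zero card_ne_zero), mul_zero]
    rw [Finset.mul_sum, Finset.sum_filter, ← Finset.sum_congr rfl fun χ _ => h1 χ, Finset.sum_comm]
    have h2 : ∀ z : N, ∑ χ : Cfsg.IrrCharacter G,
        (f z : ℂ) * ((χ : G → ℂ) g * conj ((χ : G → ℂ) (g * z)))
        = (if IsConj g (g * z) then (f z : ℂ) else 0) * (cen g : ℂ) := fun z => by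
      have hc : Subgroup.centralizer ({g * (z : G)} : Set G) = Subgroup.centralizer ({g} : Set G) := by
        ext x
        rw [Subgroup.mem_centralizer_singleton_iff, Subgroup.mem_centralizer_singleton_iff,
          mul_assoc g, hcomm z x, ← mul_assoc g, ← mul_assoc x]
        exact mul_left_inj _
      rw [← Finset.mul_sum, sum_irr_mul_conj, hc]
      split_ifs <;> simp [cen]
    rw [Finset.sum_congr rfl fun z _ => h2 z, ← Finset.sum_mul]
    let Zg : Subgroup N :=
      { carrier := {z | IsConj g (g * z)}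
        one_mem' := by
          show IsConj g (g * ((1 : N) : G))
          rw [OneMemClass.coe_one, mul_one]
        mul_mem' := fun {z w} hz hw => by
          obtain ⟨x, hx⟩ := isConj_iff.1 hz
          refine IsConj.trans (b := g * (w : G)) hw (isConj_iff.2 ⟨x, ?_⟩)
          rw [show x * (g * (w : G)) * x⁻¹ = x * g * x⁻¹ * (w : G) by
            simp only [mul_assoc]; rw [hcomm w x⁻¹], hx, Subgroup.coe_mul, mul_assoc]
        inv_mem' := fun {z} hz => by
          obtain ⟨x, hx⟩ := isConj_iff.1 hz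
          refine isConj_iff.2 ⟨x⁻¹, ?_⟩
          have hg : g = x⁻¹ * (g * (z : G)) * x := by rw [← hx]; simp [mul_assoc]
          rw [Subgroup.coe_inv]
          conv_rhs => rw [hg]
          simp only [mul_assoc, inv_inv]
          congr 2
          rw [← mul_assoc (z : G), hcomm z x, mul_inv_cancel_right] }
    split_ifs with hS
    · rw [Finset.sum_eq_single (1 : N) (fun z _ hz => if_neg fun h => hz ((hSiff g).1 hS z h))
        (fun h => absurd (Finset.mem_univ _) h), if_pos (by rw [OneMemClass.coe_one, mul_one])]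
      simp
    · obtain ⟨z₀, hz₀, hne⟩ : ∃ z₀ : N, z₀ ∈ Zg ∧ z₀ ≠ 1 := by
        by_contra hno
        push Not at hno
        exact hS ((hSiff g).2 hno)
      set T := ∑ z : N, if IsConj g (g * z) then (f z : ℂ) else 0
      have hT : (f z₀ : ℂ) * T = T := by
        rw [Finset.mul_sum]
        refine Fintype.sum_equiv (Equiv.mulLeft z₀) _ _ fun z => ?_
        simp only [Equiv.coe_mulLeft]
        have hmem : IsConj g (g * ((z₀ * z : N) : G)) ↔ IsConj g (g * (z : G)) :=
          Subgroup.mul_mem_cancel_left Zg hz₀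
        rw [map_mul, Units.val_mul, mul_ite, mul_zero]
        exact (if_congr hmem rfl rfl).symm
      by_contra hne0
      exact hne (hfinj z₀ (Units.ext ((mul_eq_right₀ (left_ne_zero_of_mul hne0)).1 hT)))
  have hcount : (Nat.card N : ℂ) * Nat.card {χ : Cfsg.IrrCharacter G // P χ}
      = (Nat.card G : ℂ)⁻¹ * ∑ g : G, (if S g then (cen g : ℂ) else 0) := by
    rw [← Finset.sum_congr rfl fun g _ => key g, ← Finset.mul_sum, Finset.sum_comm,
      mul_left_comm, Finset.mul_sum (a := (Nat.card G : ℂ)⁻¹),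
      Finset.sum_congr rfl fun (χ : Cfsg.IrrCharacter G) _ => (show (Nat.card G : ℂ)⁻¹ * ∑ g : G, (χ : G → ℂ) g
        * conj ((χ : G → ℂ) g) = 1 from classInner_irr_self χ.2),
      Finset.sum_const, nsmul_eq_mul, mul_one,
      Nat.card_eq_fintype_card (α := {χ : Cfsg.IrrCharacter G // P χ}), Fintype.card_subtype]
  letI : Fintype (G ⧸ N) := Fintype.ofFinite _
  letI : Fintype (ConjClasses (G ⧸ N)) := Fintype.ofFinite _
  set Q : ConjClasses (G ⧸ N) → Prop := fun C =>
    ∃ g : G, ConjClasses.mk (g : G ⧸ N) = C ∧ ∀ x : G, x⁻¹ * g⁻¹ * x * g ∈ N → x * g = g * x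
  have hSiff' : ∀ g g' : G, ConjClasses.mk (g : G ⧸ N) = ConjClasses.mk (g' : G ⧸ N) → S g → S g' := by
    intro g g' he hS
    obtain ⟨y, hy⟩ := isConj_iff.1 (ConjClasses.mk_eq_mk_iff_isConj.1 he)
    obtain ⟨y, rfl⟩ := QuotientGroup.mk_surjective y
    rw [← QuotientGroup.mk_mul, ← QuotientGroup.mk_inv, ← QuotientGroup.mk_mul, QuotientGroup.eq] at hy
    set n : N := ⟨_, hy⟩
    have hg' : g' = y * g * y⁻¹ * (n : G) := by simp [n, mul_assoc]
    rw [hSiff] at hS ⊢
    intro z hz
    refine hS z ?_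
    obtain ⟨x, hx⟩ := isConj_iff.1 hz
    refine isConj_iff.2 ⟨y⁻¹ * x * y, mul_right_cancel (b := (n : G)) ?_⟩
    have e1 : y * g * y⁻¹ * (n : G) = g' := hg'.symm
    calc y⁻¹ * x * y * g * (y⁻¹ * x * y)⁻¹ * (n : G)
        = y⁻¹ * (x * (y * g * y⁻¹) * x⁻¹ * (y * (n : G))) := by simp [mul_assoc]
      _ = y⁻¹ * (x * (y * g * y⁻¹) * x⁻¹ * (n : G)) * y := by rw [← hcomm n y]; simp only [mul_assoc]
      _ = y⁻¹ * (x * (y * g * y⁻¹ * (n : G)) * x⁻¹) * y := by
          simp only [mul_assoc]; rw [← mul_assoc (n : G), ← mul_assoc (x⁻¹), hcomm n x⁻¹]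
      _ = y⁻¹ * (g' * (z : G)) * y := by rw [e1, hx]
      _ = g * (z : G) * (n : G) := by
          rw [← e1]; simp only [mul_assoc]
          rw [hcomm z y, ← mul_assoc (n : G), hcomm n y, mul_assoc y, inv_mul_cancel_left,
            ← mul_assoc y⁻¹ y, inv_mul_cancel, one_mul, hcomm n z]
  have hcen : ∀ g, S g → cen g = Nat.card N * Nat.card (Subgroup.centralizer ({(g : G ⧸ N)} : Set (G ⧸ N))) := by
    intro g hS
    have hle : N ≤ Subgroup.centralizer ({g} : Set G) := fun n hn =>
      Subgroup.mem_centralizer_singleton_iff.2 (hcomm ⟨n, hn⟩ g)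
    have hmap : Subgroup.centralizer ({g} : Set G)
        = (Subgroup.centralizer ({(g : G ⧸ N)} : Set (G ⧸ N))).comap (QuotientGroup.mk' N) := by
      ext x
      rw [Subgroup.mem_comap, Subgroup.mem_centralizer_singleton_iff, Subgroup.mem_centralizer_singleton_iff,
        QuotientGroup.mk'_apply, ← QuotientGroup.mk_mul, ← QuotientGroup.mk_mul]
      refine ⟨fun h => by rw [h], fun h => hS x ?_⟩
      rw [eq_comm, QuotientGroup.eq] at h
      simpa [mul_assoc] using h
    show Nat.card (Subgroup.centralizer ({g} : Set G)) = _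
    rw [hmap, CfsgLib.Solvable.Basic.card_comap_mk]
    ring
  set F : G ⧸ N → ℂ := fun q => if Q (ConjClasses.mk q) then
    (Nat.card (Subgroup.centralizer ({q} : Set (G ⧸ N))) : ℂ) else 0
  have hS' : ∀ g : G, (if S g then (cen g : ℂ) else 0) = (Nat.card N : ℂ) * F (g : G ⧸ N) := by
    intro g
    simp only [F]
    by_cases hS : S g
    · rw [if_pos hS, if_pos ⟨g, rfl, hS⟩, hcen g hS, Nat.cast_mul]
    · rw [if_neg hS, if_neg (fun ⟨g', he, hg'⟩ => hS (hSiff' g' g he hg')), mul_zero]
  have hsumG : ∑ g : G, F (g : G ⧸ N) = (Nat.card N : ℂ) * ∑ q : G ⧸ N, F q := by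
    rw [← Fintype.sum_equiv (Subgroup.groupEquivQuotientProdSubgroup (s := N)).symm
      (fun p => F p.1) (fun g => F (g : G ⧸ N)) fun p => ?_, Fintype.sum_prod_type, Finset.mul_sum]
    · refine Finset.sum_congr rfl fun q _ => ?_
      dsimp only
      rw [Finset.sum_const, Finset.card_univ, nsmul_eq_mul, Nat.card_eq_fintype_card]
    · have h := (Subgroup.groupEquivQuotientProdSubgroup (s := N)).apply_symm_apply p
      conv_lhs => rw [← h]
      rfl
  have hsumq : ∑ q : G ⧸ N, F q
      = (Nat.card {C : ConjClasses (G ⧸ N) // Q C} : ℂ) * (Nat.card (G ⧸ N) : ℂ) := by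
    rw [← Finset.sum_fiberwise Finset.univ ConjClasses.mk F]
    have h : ∀ C : ConjClasses (G ⧸ N), ∑ q ∈ Finset.univ.filter (fun q => ConjClasses.mk q = C), F q
        = if Q C then (Nat.card (G ⧸ N) : ℂ) else 0 := by
      intro C
      obtain ⟨q₀, rfl⟩ := C.mk_surjective
      have hval : ∀ q ∈ Finset.univ.filter (fun q => ConjClasses.mk q = ConjClasses.mk q₀),
          F q = F q₀ := by
        intro q hq
        have he := (Finset.mem_filter.1 hq).2
        have h1 := card_conjugates_mul q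
        have h2 := card_conjugates_mul q₀
        have e3 : Nat.card {x // IsConj x q} = Nat.card {x // IsConj x q₀} :=
          Nat.card_congr (Equiv.subtypeEquivRight fun x => by
            rw [← ConjClasses.mk_eq_mk_iff_isConj, ← ConjClasses.mk_eq_mk_iff_isConj, he])
        have e4 : Nat.card (Subgroup.centralizer ({q} : Set (G ⧸ N)))
            = Nat.card (Subgroup.centralizer ({q₀} : Set (G ⧸ N))) := by
          haveI : Nonempty {x // IsConj x q} := ⟨⟨q, IsConj.refl q⟩⟩
          exact Nat.eq_of_mul_eq_mul_left Nat.card_pos (h1.trans (h2.symm.trans (by rw [e3])))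
        simp only [F, he, e4]
      rw [Finset.sum_congr rfl hval, Finset.sum_const, nsmul_eq_mul]
      simp only [F]
      split_ifs
      · rw [← Nat.cast_mul, ← card_conjugates_mul q₀, Nat.card_eq_fintype_card (α := {x // IsConj x q₀}),
          Fintype.card_subtype]
        congr 3
        exact Finset.filter_congr fun x _ => ConjClasses.mk_eq_mk_iff_isConj
      · simp
    rw [Finset.sum_congr rfl fun C _ => h C, ← Finset.sum_filter, Finset.sum_const, nsmul_eq_mul,
      Nat.card_eq_fintype_card (α := {C // Q C}), Fintype.card_subtype]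
  rw [Finset.sum_congr rfl fun g _ => hS' g, ← Finset.mul_sum, hsumG, hsumq,
    Subgroup.card_eq_card_quotient_mul_card_subgroup N, Nat.cast_mul] at hcount
  have hn : (Nat.card N : ℂ) ≠ 0 := card_ne_zero
  have hq : (Nat.card (G ⧸ N) : ℂ) ≠ 0 := card_ne_zero
  field_simp at hcount
  exact_mod_cast (show (Nat.card {χ : Cfsg.IrrCharacter G // P χ} : ℂ)
    = (Nat.card {C : ConjClasses (G ⧸ N) // Q C} : ℂ) by linear_combination hcount)

end Cfsg.Agent.S4567
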