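import Cfsg.Statements.S4571
import Cfsg.Agent.Lib.Blocks.PCentralizer
import Cfsg.Agent.Lib.Blocks.Rank
-- import your own Cfsg.Agent.* helpers here

set_option autoImplicit false
open Cfsg CfsgLib.Blocks
open scoped ComplexConjugate Classical

namespace Cfsg.Agent.S4571

/-- Let Q be a normal p-subgroup of the finite group G with G = Q·C_G(Q), and M a maximal ideal of the algebraic integers containing p. Then the principal p-blocks of G and of G/Q have the same p-regular rank (the same number of irreducible Brauer characters). -/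
theorem result {G : Type*} [Group G] [Finite G] (p : ℕ) [Fact p.Prime] (M : Ideal Cfsg.AlgInt) (hM : Cfsg.IsPModular p M) (Q : Subgroup G) [Q.Normal] (hQ : IsPGroup p Q) (hsup : Q ⊔ Subgroup.centralizer (Q : Set G) = ⊤) : Cfsg.blockRank p (Cfsg.principalBlock M G) = Cfsg.blockRank p (Cfsg.principalBlock M (G ⧸ Q)) := by
  letI : Fintype G := Fintype.ofFinite G
  letI : Fintype (G ⧸ Q) := Fintype.ofFinite _
  have hp := (Fact.out : p.Prime)
  have hC : ∃ k : ℕ, (Subgroup.centralizer (Q : Set G)).index = p ^ k := by
    haveI : (Subgroup.centralizer (Q : Set G)).Normal := Subgroup.normal_centralizer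
    have h1 : (Subgroup.centralizer (Q : Set G)).index ∣ Nat.card Q := by
      rw [← Subgroup.relIndex_top_right, ← hsup, Subgroup.relIndex_sup_right]
      exact Subgroup.relIndex_dvd_card _ _
    obtain ⟨k, hk⟩ := IsPGroup.iff_card.1 hQ
    obtain ⟨j, -, hj⟩ := (Nat.dvd_prime_pow hp).1 (hk ▸ h1)
    exact ⟨j, hj⟩
  have htriv : inflate Q (trivChar (G ⧸ Q)) = trivChar G := Subtype.ext (funext fun g => rfl)
  set B := Cfsg.principalBlock M G
  set Bq := Cfsg.principalBlock M (G ⧸ Q)
  have hB : Cfsg.IsPBlock M B := isPBlock_principalBlock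
  have hmem : ∀ ψ : Cfsg.IrrCharacter (G ⧸ Q), inflate Q ψ ∈ B ↔ ψ ∈ Bq := fun ψ => by
    show SameBlock M (trivChar G : G → ℂ) (inflate Q ψ : G → ℂ)
      ↔ SameBlock M (trivChar (G ⧸ Q) : G ⧸ Q → ℂ) (ψ : G ⧸ Q → ℂ)
    rw [sameBlock_inflate_iff hM hQ hC, htriv]
  let T : (G ⧸ Q → ℂ) →ₗ[ℂ] (G → ℂ) :=
    { toFun := fun F s => if IsPRegular p s then F (QuotientGroup.mk' Q s) else 0
      map_add' := fun F F' => funext fun s => by
        by_cases h : IsPRegular p s <;> simp [h]
      map_smul' := fun c F => funext fun s => by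
        by_cases h : IsPRegular p s <;> simp [h] }
  have hT : ∀ (F : G ⧸ Q → ℂ), T (pRegularPart p F) = pRegularPart p (F ∘ QuotientGroup.mk' Q) := fun F =>
    funext fun s => by
      show (if IsPRegular p s then pRegularPart p F (QuotientGroup.mk' Q s) else 0) = _
      rw [pRegularPart_apply, pRegularPart_apply]
      by_cases h : IsPRegular p s
      · rw [if_pos h, if_pos h, if_pos (show IsPRegular p (QuotientGroup.mk' Q s) from regular_mk h)]; rfl
      · rw [if_neg h, if_neg h]
  set Sq := Submodule.span ℂ ((fun ψ : Cfsg.IrrCharacter (G ⧸ Q) => pRegularPart p (ψ : G ⧸ Q → ℂ)) '' Bq)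
  have hspan : Submodule.span ℂ ((fun χ : Cfsg.IrrCharacter G => pRegularPart p (χ : G → ℂ)) '' B)
      = Sq.map T := by
    rw [Submodule.map_span, ← Set.image_comp]
    refine le_antisymm (Submodule.span_le.2 ?_) (Submodule.span_le.2 ?_)
    · rintro _ ⟨χ, hχ, rfl⟩
      set R : Finset G := Finset.univ.filter fun s => IsPRegular p s with hR
      set f : G ⧸ Q → ℂ := fun q => ∑ s ∈ R with QuotientGroup.mk' Q s = q, (χ : G → ℂ) s with hf
      have hfc : IsClassFunction (G ⧸ Q) f := by
        intro q w
        obtain ⟨w, rfl⟩ := QuotientGroup.mk'_surjective Q w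
        simp only [f]
        refine (Finset.sum_equiv (MulAut.conj w).toEquiv (fun s => ?_) fun s _ => ?_).symm
        · simp only [R, Finset.mem_filter, Finset.mem_univ, true_and, MulEquiv.toEquiv_eq_coe,
            EquivLike.coe_coe, MulAut.conj_apply, map_mul, map_inv]
          simp only [IsPRegular]
          rw [show orderOf (w * s * w⁻¹) = orderOf s from (MulAut.conj w).orderOf_eq s]
          exact and_congr_right fun _ => ⟨fun h => by rw [h], fun h => by
            simpa [mul_assoc] using congrArg
              (fun z => (QuotientGroup.mk' Q w)⁻¹ * z * QuotientGroup.mk' Q w) h⟩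
        · exact (CfsgLib.Char.IsIrrCharacter.isClassFunction χ.2 s w).symm
      have hcoef : ∀ ψ : Cfsg.IrrCharacter (G ⧸ Q), ψ ∉ Bq → classInner f (ψ : G ⧸ Q → ℂ) = 0 := by
        intro ψ hψ
        have h := IsPBlock.regInner_eq_zero hM hB hχ (fun hm => hψ ((hmem ψ).1 hm))
        rw [regInner, mul_eq_zero] at h
        replace h := h.resolve_left (mul_ne_zero (pPartCard_ne_zero hM.1)
          (inv_ne_zero CfsgLib.Char.card_ne_zero))
        rw [Cfsg.classInner]
        refine mul_eq_zero_of_right _ (Eq.trans ?_ h)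
        simp only [f, Finset.sum_mul]
        rw [← Finset.sum_fiberwise R (QuotientGroup.mk' Q)]
        refine Finset.sum_congr rfl fun q _ => Finset.sum_congr rfl fun s hs => ?_
        rw [conj_irr, inflate_apply, map_inv, (Finset.mem_filter.1 hs).2]
      have hexp : pRegularPart p (χ : G → ℂ)
          = ∑ ψ : Cfsg.IrrCharacter (G ⧸ Q), classInner f (ψ : G ⧸ Q → ℂ) • T (pRegularPart p (ψ : G ⧸ Q → ℂ)) := by
        funext s
        simp only [hT, Finset.sum_apply, Pi.smul_apply, pRegularPart_apply, Function.comp_apply,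
          smul_eq_mul]
        by_cases hs : IsPRegular p s
        · simp only [if_pos hs]
          have e1 : f (QuotientGroup.mk' Q s) = (χ : G → ℂ) s := by
            have hset : (R.filter fun t => QuotientGroup.mk' Q t = QuotientGroup.mk' Q s) = {s} := by
              refine Finset.eq_singleton_iff_unique_mem.2 ⟨Finset.mem_filter.2
                ⟨Finset.mem_filter.2 ⟨Finset.mem_univ _, hs⟩, rfl⟩, fun t ht => ?_⟩
              obtain ⟨ht1, ht2⟩ := Finset.mem_filter.1 ht
              exact eq_of_regular_of_mk_eq hp hQ hC (Finset.mem_filter.1 ht1).2 hs ht2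
            rw [hf]
            dsimp only
            rw [hset, Finset.sum_singleton]
          rw [← e1, congrFun (CfsgLib.Char.IsClassFunction.eq_sum_irr hfc) (QuotientGroup.mk' Q s),
            Finset.sum_apply]
          exact Finset.sum_congr rfl fun ψ _ => rfl
        · simp [if_neg hs]
      show pRegularPart p (χ : G → ℂ) ∈ _
      rw [hexp]
      refine Submodule.sum_mem _ fun ψ _ => ?_
      by_cases hψ : ψ ∈ Bq
      · exact Submodule.smul_mem _ _ (Submodule.subset_span ⟨ψ, hψ, rfl⟩)
      · rw [hcoef ψ hψ, zero_smul]; exact Submodule.zero_mem _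
    · rintro _ ⟨ψ, hψ, rfl⟩
      exact Submodule.subset_span ⟨inflate Q ψ, (hmem ψ).2 hψ, (hT _).symm⟩
  have hsupp : ∀ F ∈ Sq, ∀ q, ¬ IsPRegular p q → F q = 0 := by
    intro F hF
    induction hF using Submodule.span_induction with
    | mem x hx =>
      obtain ⟨ψ, -, rfl⟩ := hx
      intro q hq
      show pRegularPart p (ψ : G ⧸ Q → ℂ) q = 0
      rw [pRegularPart_apply, if_neg hq]
    | zero => exact fun q _ => rfl
    | add x y _ _ hx hy => intro q hq; simp [hx q hq, hy q hq]
    | smul a x _ hx => intro q hq; simp [hx q hq]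
  have hinj : Function.Injective (T.domRestrict Sq) := by
    refine (injective_iff_map_eq_zero _).2 fun F hF => Subtype.ext (funext fun q => ?_)
    by_cases hq : IsPRegular p q
    · obtain ⟨s, hs, rfl⟩ := exists_regular_lift hp hq
      have h1 := congrFun hF s
      simpa [T, show IsPRegular p s from hs] using h1
    · exact hsupp F F.2 q hq
  unfold Cfsg.blockRank
  rw [hspan, ← LinearMap.range_domRestrict]
  exact LinearMap.finrank_range_of_inj hinj

end Cfsg.Agent.S4571
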