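import Cfsg.Statements.S4573
import Cfsg.Agent.Lib.Char.Monomial
import Cfsg.Agent.Lib.Char.Induced
import Mathlib.GroupTheory.RegularWreathProduct
import Mathlib.Analysis.Fourier.ZMod

set_option autoImplicit false
universe u
open Cfsg

namespace Cfsg.Agent.S4573

open CfsgLib.Char
open scoped Classical ComplexConjugate

universe v

/-- All irreducible characters are induced from linear characters. -/
def IsM (M : Type v) [Group M] [Fintype M] : Prop :=
  ∀ χ : M → ℂ, Cfsg.IsIrrCharacter M χ →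
    ∃ (H : Subgroup M) (lam : ↥H →* ℂˣ), χ = Cfsg.indFun H (fun h => (lam h : ℂ))

section wreath

variable {D : Type v} [Group D] [Fintype D] {p : ℕ} [Fact p.Prime]


noncomputable instance : Fintype (D ≀ᵣ Multiplicative (ZMod p)) := Fintype.ofFinite _

variable (K : (Multiplicative (ZMod p)) → Subgroup D) (lam : (q : (Multiplicative (ZMod p))) → K q →* ℂˣ)

/-- The product subgroup of the base group. -/
def sub0 : Subgroup (D ≀ᵣ Multiplicative (ZMod p)) where
  carrier := {w | w.right = 1 ∧ ∀ q, w.left q ∈ K q}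
  one_mem' := ⟨rfl, fun q => (K q).one_mem⟩
  mul_mem' {a b} ha hb := ⟨by simp [ha.1, hb.1],
    fun q => by simpa [ha.1] using (K q).mul_mem (ha.2 q) (hb.2 q)⟩
  inv_mem' {a} ha := ⟨by simp [ha.1], fun q => by simpa [ha.1] using (K q).inv_mem (ha.2 q)⟩

/-- The product linear character. -/
noncomputable def lam0 : sub0 K →* ℂˣ where
  toFun w := ∏ q, lam q ⟨(w : (D ≀ᵣ Multiplicative (ZMod p))).left q, w.2.2 q⟩
  map_one' := Finset.prod_eq_one fun q _ => map_one (lam q)
  map_mul' a b := by
    rw [← Finset.prod_mul_distrib]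
    refine Finset.prod_congr rfl fun q _ => ?_
    rw [← map_mul]
    congr 1
    apply Subtype.ext
    simp [a.2.1]

theorem card_sub0 : Nat.card (sub0 K) = ∏ q, Nat.card (K q) := by
  rw [← Nat.card_pi]
  exact Nat.card_congr
    { toFun := fun w q => ⟨(w : (D ≀ᵣ Multiplicative (ZMod p))).left q, w.2.2 q⟩
      invFun := fun f => ⟨⟨fun q => f q, 1⟩, rfl, fun q => (f q).2⟩
      left_inv := fun w => Subtype.ext (RegularWreathProduct.ext rfl w.2.1.symm)
      right_inv := fun f => rfl }

theorem ext0 (x : (D ≀ᵣ Multiplicative (ZMod p))) : Cfsg.extendByZero (sub0 K) (fun h => (lam0 K lam h : ℂ)) x =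
    if x.right = 1 then ∏ q, Cfsg.extendByZero (K q) (fun h => (lam q h : ℂ)) (x.left q) else 0 := by
  by_cases hx : x ∈ sub0 K
  · rw [extendByZero_apply_mem _ _ hx, if_pos hx.1]
    simp only [lam0, MonoidHom.coe_mk, OneHom.coe_mk, Units.coe_prod]
    exact Finset.prod_congr rfl fun q _ =>
      (extendByZero_apply_mem (K q) (fun h => (lam q h : ℂ)) (hx.2 q)).symm
  · rw [extendByZero_apply_notMem _ _ hx]
    split
    · rename_i h
      obtain ⟨q, hq⟩ : ∃ q, x.left q ∉ K q := by
        by_contra! hc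
        exact hx ⟨h, hc⟩
      exact (Finset.prod_eq_zero (Finset.mem_univ q) (extendByZero_apply_notMem (K q) _ hq)).symm
    · rfl

theorem sum_eq (F : (D ≀ᵣ Multiplicative (ZMod p)) → ℂ) : ∑ x : (D ≀ᵣ Multiplicative (ZMod p)), F x = ∑ c : (Multiplicative (ZMod p)), ∑ a : (Multiplicative (ZMod p)) → D, F ⟨a, c⟩ := by
  rw [← Fintype.sum_prod_type_right (f := fun y : ((Multiplicative (ZMod p)) → D) × (Multiplicative (ZMod p)) => F ⟨y.1, y.2⟩)]
  exact Fintype.sum_equiv (RegularWreathProduct.equivProd D (Multiplicative (ZMod p))) _ _ fun x => rfl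

theorem conj_right (x w : (D ≀ᵣ Multiplicative (ZMod p))) : (x⁻¹ * w * x).right = w.right := by
  simp [mul_right_comm]

theorem indFun_sub0 (φ : (Multiplicative (ZMod p)) → D → ℂ) (hφ : ∀ q, φ q = Cfsg.indFun (K q) (fun h => (lam q h : ℂ)))
    (w : (D ≀ᵣ Multiplicative (ZMod p))) :
    Cfsg.indFun (sub0 K) (fun h => (lam0 K lam h : ℂ)) w =
      if w.right = 1 then ∑ c : (Multiplicative (ZMod p)), ∏ q, φ q (w.left (c * q)) else 0 := by
  rw [indFun_def]
  simp only [ext0, conj_right]
  split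
  · rename_i hw
    rw [sum_eq, card_sub0, Finset.mul_sum]
    refine Finset.sum_congr rfl fun c _ => ?_
    have hsh : ∑ a : (Multiplicative (ZMod p)) → D, ∏ q, Cfsg.extendByZero (K q) (fun h => (lam q h : ℂ))
        (((⟨a, c⟩ : (D ≀ᵣ Multiplicative (ZMod p)))⁻¹ * w * ⟨a, c⟩).left q) =
        ∏ q, ∑ d : D, Cfsg.extendByZero (K q) (fun h => (lam q h : ℂ)) (d⁻¹ * w.left (c * q) * d) := by
      rw [Fintype.prod_sum]
      refine Fintype.sum_equiv (Equiv.arrowCongr (Equiv.mulLeft c).symm (Equiv.refl D)) _ _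
        fun a => Finset.prod_congr rfl fun q _ => ?_
      simp [hw, mul_assoc]
    rw [hsh, Nat.cast_prod, ← Finset.prod_inv_distrib, ← Finset.prod_mul_distrib]
    exact Finset.prod_congr rfl fun q _ => by rw [hφ q, indFun_def]
  · simp

theorem classInner_base {φ φ' : (Multiplicative (ZMod p)) → D → ℂ} (hφ : ∀ q, Cfsg.IsIrrCharacter D (φ q))
    (hφ' : ∀ q, Cfsg.IsIrrCharacter D (φ' q)) :
    ∑ b : (Multiplicative (ZMod p)) → D, (∏ q, φ q (b q)) * conj (∏ q, φ' q (b q)) =
      if φ = φ' then (Nat.card D : ℂ) ^ p else 0 := by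
  simp only [map_prod, ← Finset.prod_mul_distrib]
  rw [← Fintype.prod_sum (fun q d => φ q d * conj (φ' q d))]
  have key : ∀ q, ∑ d, φ q d * conj (φ' q d) = if φ q = φ' q then (Nat.card D : ℂ) else 0 := by
    intro q
    have h := classInner_irrCharacter ⟨φ q, hφ q⟩ ⟨φ' q, hφ' q⟩
    rw [Cfsg.classInner, inv_mul_eq_iff_eq_mul₀ card_ne_zero] at h
    rw [show ∑ d, φ q d * conj (φ' q d) = _ from h]
    simp [Subtype.mk.injEq]
  simp only [key]
  split
  · rename_i h
    subst h
    simp [ZMod.card]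
  · rename_i h
    obtain ⟨q, hq⟩ := Function.ne_iff.1 h
    exact Finset.prod_eq_zero (Finset.mem_univ q) (if_neg hq)

/-- The norm of the induced character counts shifts fixing the tuple. -/
theorem norm_sub0 (φ : (Multiplicative (ZMod p)) → D → ℂ) (hφ : ∀ q, φ q = Cfsg.indFun (K q) (fun h => (lam q h : ℂ)))
    (hirr : ∀ q, Cfsg.IsIrrCharacter D (φ q)) :
    Cfsg.classInner (Cfsg.indFun (sub0 K) (fun h => (lam0 K lam h : ℂ)))
      (Cfsg.indFun (sub0 K) (fun h => (lam0 K lam h : ℂ))) =
      ((Finset.univ.filter fun t : (Multiplicative (ZMod p)) => (fun q => φ (t * q)) = φ).card : ℂ) := by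
  have hsh : ∀ (c : (Multiplicative (ZMod p))) (b : (Multiplicative (ZMod p)) → D), ∏ q, φ q (b (c * q)) = ∏ r, φ (c⁻¹ * r) (b r) := fun c b =>
    Fintype.prod_equiv (Equiv.mulLeft c) _ _ fun q => by simp
  rw [Cfsg.classInner]
  simp only [indFun_sub0 K lam φ hφ]
  rw [sum_eq, Finset.sum_eq_single (1 : (Multiplicative (ZMod p)))]
  rotate_left
  · intro c _ hc
    exact Finset.sum_eq_zero fun a _ => by simp [hc]
  · simp
  simp only [if_true, map_sum, Finset.sum_mul_sum, hsh]
  rw [Finset.sum_comm]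
  conv_lhs => arg 2; arg 2; ext c; rw [Finset.sum_comm]
  simp only [classInner_base (fun q => hirr _) (fun q => hirr _)]
  have hin : ∀ c : (Multiplicative (ZMod p)), ∑ c' : (Multiplicative (ZMod p)),
      (if (fun q => φ (c⁻¹ * q)) = (fun q => φ (c'⁻¹ * q)) then (Nat.card D : ℂ) ^ p else 0) =
      ((Finset.univ.filter fun t : (Multiplicative (ZMod p)) => (fun q => φ (t * q)) = φ).card : ℂ) *
        (Nat.card D : ℂ) ^ p := by
    intro c
    rw [Fintype.sum_equiv (Equiv.mulRight c⁻¹) _
      (fun t : (Multiplicative (ZMod p)) => if (fun q => φ (t * q)) = φ then (Nat.card D : ℂ) ^ p else 0) fun c' => ?_]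
    · rw [← Finset.sum_filter, Finset.sum_const, nsmul_eq_mul]
    · refine if_congr ⟨fun h => funext fun q => ?_, fun h => funext fun q => ?_⟩ rfl rfl
      · have := congrFun h (c' * q)
        simpa [Equiv.mulRight, mul_assoc, mul_comm, mul_left_comm] using this
      · have := congrFun h (c'⁻¹ * q)
        simpa [Equiv.mulRight, mul_assoc, mul_comm, mul_left_comm] using this
  simp only [hin, Finset.sum_const, Finset.card_univ, nsmul_eq_mul]
  rw [RegularWreathProduct.card, show Nat.card (Multiplicative (ZMod p)) = p from Nat.card_zmod p,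
    show Fintype.card (Multiplicative (ZMod p)) = p from by rw [Fintype.card_multiplicative, ZMod.card]]
  have : (Nat.card D : ℂ) ≠ 0 := card_ne_zero
  have hp0 : (p : ℂ) ≠ 0 := Nat.cast_ne_zero.2 (Fact.out : p.Prime).ne_zero
  push_cast
  field_simp

variable (K₁ : Subgroup D) (lam₁ : K₁ →* ℂˣ)

/-- The subgroup extending the constant product subgroup by the top group. -/
def sub1 : Subgroup (D ≀ᵣ Multiplicative (ZMod p)) where
  carrier := {w | ∀ q, w.left q ∈ K₁}
  one_mem' := fun q => K₁.one_mem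
  mul_mem' {a b} ha hb := fun q => by simpa using K₁.mul_mem (ha q) (hb _)
  inv_mem' {a} ha := fun q => by simpa using K₁.inv_mem (ha _)

/-- Extensions of the constant product character. -/
noncomputable def lam1 (ε : (Multiplicative (ZMod p)) →* ℂˣ) : sub1 (p := p) K₁ →* ℂˣ where
  toFun w := (∏ q, lam₁ ⟨(w : (D ≀ᵣ Multiplicative (ZMod p))).left q, w.2 q⟩) * ε (w : (D ≀ᵣ Multiplicative (ZMod p))).right
  map_one' := by
    rw [show ε ((1 : sub1 (p := p) K₁) : (D ≀ᵣ Multiplicative (ZMod p))).right = 1 from map_one ε, mul_one]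
    exact Finset.prod_eq_one fun q _ => map_one lam₁
  map_mul' a b := by
    rw [show ε ((a * b : sub1 (p := p) K₁) : (D ≀ᵣ Multiplicative (ZMod p))).right = ε (a : (D ≀ᵣ Multiplicative (ZMod p))).right * ε (b : (D ≀ᵣ Multiplicative (ZMod p))).right from
      map_mul ε _ _, mul_mul_mul_comm]
    congr 1
    have e : ∏ q, lam₁ ⟨(b : (D ≀ᵣ Multiplicative (ZMod p))).left q, b.2 q⟩ =
        ∏ q, lam₁ ⟨(b : (D ≀ᵣ Multiplicative (ZMod p))).left ((a : (D ≀ᵣ Multiplicative (ZMod p))).right⁻¹ * q), b.2 _⟩ :=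
      (Fintype.prod_equiv (Equiv.mulLeft (a : (D ≀ᵣ Multiplicative (ZMod p))).right⁻¹) _ _ fun q => rfl).symm
    rw [e, ← Finset.prod_mul_distrib]
    refine Finset.prod_congr rfl fun q _ => ?_
    rw [← map_mul]
    rfl

theorem ext1 (ε : (Multiplicative (ZMod p)) →* ℂˣ) (x : (D ≀ᵣ Multiplicative (ZMod p))) :
    Cfsg.extendByZero (sub1 K₁) (fun h => (lam1 K₁ lam₁ ε h : ℂ)) x =
      (ε x.right : ℂ) * ∏ q, Cfsg.extendByZero K₁ (fun h => (lam₁ h : ℂ)) (x.left q) := by
  by_cases hx : x ∈ sub1 (p := p) K₁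
  · rw [extendByZero_apply_mem _ _ hx]
    simp only [lam1, MonoidHom.coe_mk, OneHom.coe_mk, Units.val_mul, Units.coe_prod]
    rw [mul_comm]
    congr 1
    exact Finset.prod_congr rfl fun q _ =>
      (extendByZero_apply_mem K₁ (fun h => (lam₁ h : ℂ)) (hx q)).symm
  · rw [extendByZero_apply_notMem _ _ hx]
    obtain ⟨q, hq⟩ : ∃ q, x.left q ∉ K₁ := by
      by_contra! hc
      exact hx hc
    rw [Finset.prod_eq_zero (Finset.mem_univ q) (extendByZero_apply_notMem K₁ _ hq), mul_zero]

theorem indFun_sub1 (ε : (Multiplicative (ZMod p)) →* ℂˣ) (w : (D ≀ᵣ Multiplicative (ZMod p))) :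
    Cfsg.indFun (sub1 K₁) (fun h => (lam1 K₁ lam₁ ε h : ℂ)) w =
      (ε w.right : ℂ) * Cfsg.indFun (sub1 K₁) (fun h => (lam1 K₁ lam₁ 1 h : ℂ)) w := by
  rw [indFun_def, indFun_def]
  simp only [ext1, conj_right, MonoidHom.one_apply, Units.val_one, one_mul, ← Finset.mul_sum]
  ring

theorem card_sub1 : Nat.card (sub1 (p := p) K₁) = p * ∏ _q : (Multiplicative (ZMod p)), Nat.card K₁ := by
  rw [← card_sub0 (fun _ : (Multiplicative (ZMod p)) => K₁)]
  refine Eq.trans (Nat.card_congr (β := Multiplicative (ZMod p) × sub0 (p := p) (fun _ : Multiplicative (ZMod p) => K₁)) ?_)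
    ((Nat.card_prod _ _).trans (congrArg (· * _) (Nat.card_zmod p)))
  exact
    { toFun := fun w => ((w : (D ≀ᵣ Multiplicative (ZMod p))).right, ⟨⟨(w : (D ≀ᵣ Multiplicative (ZMod p))).left, 1⟩, rfl, w.2⟩)
      invFun := fun y => ⟨⟨(y.2 : (D ≀ᵣ Multiplicative (ZMod p))).left, y.1⟩, y.2.2.2⟩
      left_inv := fun w => rfl
      right_inv := fun y => Prod.ext rfl (Subtype.ext (RegularWreathProduct.ext rfl y.2.2.1.symm)) }

/-- The linear characters of the top group. -/
noncomputable def eps (j : ZMod p) : (Multiplicative (ZMod p)) →* ℂˣ :=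
  (AddChar.toMonoidHom (AddChar.mulShift ZMod.stdAddChar j)).toHomUnits

theorem sum_sub1 (w : (D ≀ᵣ Multiplicative (ZMod p))) :
    ∑ j : ZMod p, Cfsg.indFun (sub1 K₁) (fun h => (lam1 K₁ lam₁ (eps j) h : ℂ)) w =
      Cfsg.indFun (sub0 fun _ : (Multiplicative (ZMod p)) => K₁) (fun h => (lam0 (fun _ : (Multiplicative (ZMod p)) => K₁) (fun _ => lam₁) h : ℂ)) w := by
  simp only [indFun_sub1 K₁ lam₁ (eps _), ← Finset.sum_mul]
  have he : ∑ j : ZMod p, ((eps j w.right : ℂˣ) : ℂ) = if w.right = 1 then (p : ℂ) else 0 := by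
    have h := AddChar.sum_mulShift (Multiplicative.toAdd w.right)
      (ZMod.isPrimitive_stdAddChar p)
    rw [ZMod.card] at h
    refine Eq.trans (Finset.sum_congr rfl fun j _ => ?_)
      (h.trans (by push_cast; exact if_congr toAdd_eq_zero rfl rfl))
    rfl
  rw [he, indFun_def, indFun_def]
  simp only [ext0, ext1, conj_right, MonoidHom.one_apply, Units.val_one, one_mul, card_sub1,
    card_sub0]
  split
  · have hp0 : (p : ℂ) ≠ 0 := Nat.cast_ne_zero.2 (Fact.out : p.Prime).ne_zero
    push_cast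
    field_simp
  · simp

theorem ne_zero_of_card (H : Subgroup (D ≀ᵣ Multiplicative (ZMod p))) (l : H →* ℂˣ) :
    Cfsg.indFun H (fun h => (l h : ℂ)) ≠ 0 := by
  intro h
  have h1 := congrFun h 1
  rw [indFun_one, map_one, Units.val_one, mul_one, Pi.zero_apply, Nat.cast_eq_zero] at h1
  exact Subgroup.index_ne_zero_of_finite h1

theorem isM_wreath (hD : IsM D) : IsM (D ≀ᵣ Multiplicative (ZMod p)) := by
  intro χ hχ
  -- a tuple of irreducible characters of `D` inside the restriction of `χ`
  obtain ⟨Φ, hΦ⟩ : ∃ Φ : (Multiplicative (ZMod p)) → Cfsg.IrrCharacter D,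
      ∑ b : (Multiplicative (ZMod p)) → D, χ ⟨b, 1⟩ * conj (∏ q, (Φ q : D → ℂ) (b q)) ≠ 0 := by
    by_contra! hc
    have hreg : ∀ b : (Multiplicative (ZMod p)) → D, ∑ Φ : (Multiplicative (ZMod p)) → Cfsg.IrrCharacter D,
        (∏ q, conj ((Φ q : D → ℂ) 1)) * conj (∏ q, (Φ q : D → ℂ) (b q)) =
          if b = 1 then (Nat.card D : ℂ) ^ p else 0 := by
      intro b
      simp only [map_prod, ← Finset.prod_mul_distrib]
      rw [← Fintype.prod_sum (fun q (φ : Cfsg.IrrCharacter D) =>
        conj ((φ : D → ℂ) 1) * conj ((φ : D → ℂ) (b q)))]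
      simp only [← map_mul, ← map_sum, regular_eq_sum_irr]
      split
      · rename_i hb
        subst hb
        simp [ZMod.card]
      · rename_i hb
        obtain ⟨q, hq⟩ := Function.ne_iff.1 hb
        exact Finset.prod_eq_zero (Finset.mem_univ q) (by rw [if_neg (show ¬ b q = 1 from hq), map_zero])
    have h0 : ∑ Φ : (Multiplicative (ZMod p)) → Cfsg.IrrCharacter D, (∏ q, conj ((Φ q : D → ℂ) 1)) *
        ∑ b : (Multiplicative (ZMod p)) → D, χ ⟨b, 1⟩ * conj (∏ q, (Φ q : D → ℂ) (b q)) = 0 :=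
      Finset.sum_eq_zero fun Φ _ => by rw [hc Φ, mul_zero]
    simp only [Finset.mul_sum] at h0
    rw [Finset.sum_comm] at h0
    have h1 : ∀ b : (Multiplicative (ZMod p)) → D, ∑ Φ : (Multiplicative (ZMod p)) → Cfsg.IrrCharacter D, (∏ q, conj ((Φ q : D → ℂ) 1)) *
        (χ ⟨b, 1⟩ * conj (∏ q, (Φ q : D → ℂ) (b q))) =
          if b = 1 then χ 1 * (Nat.card D : ℂ) ^ p else 0 := by
      intro b
      have e := congrArg (χ ⟨b, 1⟩ * ·) (hreg b)
      simp only [Finset.mul_sum, mul_ite, mul_zero] at e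
      simp only [mul_left_comm _ (χ _)]
      rw [e]
      split
      · rename_i hb
        subst hb
        rfl
      · rfl
    simp only [h1, Finset.sum_ite_eq', Finset.mem_univ, if_true, mul_eq_zero] at h0
    exact h0.elim (IsIrrCharacter.apply_one_ne_zero hχ) (pow_ne_zero _ card_ne_zero)
  choose K lam hlam using fun q => hD (Φ q : D → ℂ) (Φ q).2
  have hχc : Cfsg.IsClassFunction (D ≀ᵣ Multiplicative (ZMod p)) χ := IsIrrCharacter.isClassFunction hχ
  -- `χ` is a constituent of the induced character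
  have hcons : Cfsg.classInner χ (Cfsg.indFun (sub0 K) (fun h => (lam0 K lam h : ℂ))) ≠ 0 := by
    rw [Cfsg.classInner]
    simp only [indFun_sub0 K lam (fun q => (Φ q : D → ℂ)) hlam]
    rw [sum_eq, Finset.sum_eq_single (1 : (Multiplicative (ZMod p)))]
    rotate_left
    · intro c _ hc
      exact Finset.sum_eq_zero fun a _ => by simp [hc]
    · simp
    simp only [if_true, map_sum, Finset.mul_sum]
    rw [Finset.sum_comm]
    have hc : ∀ c : (Multiplicative (ZMod p)), ∑ b : (Multiplicative (ZMod p)) → D, (Nat.card (D ≀ᵣ Multiplicative (ZMod p)) : ℂ)⁻¹ *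
        (χ ⟨b, 1⟩ * conj (∏ q, (Φ q : D → ℂ) (b (c * q)))) =
        (Nat.card (D ≀ᵣ Multiplicative (ZMod p)) : ℂ)⁻¹ * ∑ b : (Multiplicative (ZMod p)) → D, χ ⟨b, 1⟩ * conj (∏ q, (Φ q : D → ℂ) (b q)) := by
      intro c
      rw [Finset.mul_sum]
      refine Fintype.sum_equiv (Equiv.arrowCongr (Equiv.mulLeft c).symm (Equiv.refl D)) _ _
        fun b => ?_
      have e := hχc ⟨b, 1⟩ (RegularWreathProduct.inl c⁻¹)
      rw [show (RegularWreathProduct.inl c⁻¹ : (D ≀ᵣ Multiplicative (ZMod p))) * ⟨b, 1⟩ * (RegularWreathProduct.inl c⁻¹)⁻¹ =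
        ⟨fun q => b (c * q), 1⟩ by ext <;> simp] at e
      rw [← e]
      rfl
    simp only [hc, Finset.sum_const, Finset.card_univ, nsmul_eq_mul]
    exact mul_ne_zero (Nat.cast_ne_zero.2 Fintype.card_ne_zero)
      (mul_ne_zero (inv_ne_zero card_ne_zero) hΦ)
  have hchar : ∀ (H : Subgroup (D ≀ᵣ Multiplicative (ZMod p))) (l : H →* ℂˣ),
      Cfsg.IsCharacter (D ≀ᵣ Multiplicative (ZMod p)) (Cfsg.indFun H (fun h => (l h : ℂ))) := fun H l =>
    IsCharacter.indFun H (isCharacter_hom l)
  have hfin : ∀ (H : Subgroup (D ≀ᵣ Multiplicative (ZMod p))) (l : H →* ℂˣ),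
      Cfsg.classInner (Cfsg.indFun H (fun h => (l h : ℂ))) (Cfsg.indFun H (fun h => (l h : ℂ))) = 1 →
      Cfsg.classInner χ (Cfsg.indFun H (fun h => (l h : ℂ))) ≠ 0 →
      ∃ (H : Subgroup (D ≀ᵣ Multiplicative (ZMod p))) (l : H →* ℂˣ), χ = Cfsg.indFun H (fun h => (l h : ℂ)) := by
    intro H l h1 h0
    refine ⟨H, l, ?_⟩
    have h := classInner_irrCharacter ⟨χ, hχ⟩
      ⟨_, IsCharacter.isIrrCharacter_of_norm_one (hchar H l) h1⟩
    by_contra hne
    rw [if_neg (fun e => hne (congrArg Subtype.val e))] at h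
    exact h0 h
  have hnorm := norm_sub0 K lam (fun q => (Φ q : D → ℂ)) hlam (fun q => (Φ q).2)
  by_cases hconst : ∀ q, Φ q = Φ 1
  · -- constant tuple
    have hone : ∀ q, (fun q => (Φ q : D → ℂ)) q =
        Cfsg.indFun (K 1) (fun h => (lam 1 h : ℂ)) := fun q => by
      rw [← hlam 1]
      exact congrArg Subtype.val (hconst q)
    have hsame : Cfsg.indFun (sub0 fun _ : (Multiplicative (ZMod p)) => K 1)
          (fun h => (lam0 (fun _ : (Multiplicative (ZMod p)) => K 1) (fun _ => lam 1) h : ℂ)) =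
        Cfsg.indFun (sub0 K) (fun h => (lam0 K lam h : ℂ)) := funext fun w => by
      rw [indFun_sub0 K lam _ hlam, indFun_sub0 _ _ _ hone]
    set ψ : ZMod p → (D ≀ᵣ Multiplicative (ZMod p)) → ℂ := fun j =>
      Cfsg.indFun (sub1 (K 1)) (fun h => (lam1 (K 1) (lam 1) (eps j) h : ℂ)) with hψ
    have hsum : (∑ j, ψ j) = Cfsg.indFun (sub0 K) (fun h => (lam0 K lam h : ℂ)) := by
      funext w
      rw [Finset.sum_apply, ← hsame]
      exact sum_sub1 (K 1) (lam 1) w
    have hnat : ∀ i j, ∃ n : ℕ, Cfsg.classInner (ψ i) (ψ j) = (n : ℂ) := fun i j =>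
      IsCharacter.classInner_nat (hchar _ _) (hchar _ _)
    choose n hn using hnat
    have hpos : ∀ j, 0 < n j j := fun j => Nat.pos_of_ne_zero fun h => by
      have h' := hn j j
      rw [h, Nat.cast_zero, classInner_self_eq_zero] at h'
      exact ne_zero_of_card _ _ h'
    have htot : ∑ i, ∑ j, n i j = p := by
      have hall : (Finset.univ.filter fun t : (Multiplicative (ZMod p)) => (fun q => (Φ (t * q) : D → ℂ)) =
          fun q => (Φ q : D → ℂ)) = Finset.univ := by
        refine Finset.filter_eq_self.2 fun t _ => funext fun q => ?_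
        rw [hconst, hconst q]
      rw [hall, ← hsum, classInner_sum_left] at hnorm
      simp only [classInner_sum_right, hn] at hnorm
      rw [Finset.card_univ, Fintype.card_multiplicative, ZMod.card] at hnorm
      exact_mod_cast hnorm
    have hdiag : ∀ j, n j j = 1 := by
      intro j
      have h1 : ∀ i, n i i ≤ ∑ j, n i j := fun i =>
        Finset.single_le_sum (fun _ _ => Nat.zero_le _) (Finset.mem_univ i)
      have h2 : ∑ i, n i i ≤ ∑ _i : ZMod p, 1 := by
        rw [Finset.sum_const, Finset.card_univ, ZMod.card, smul_eq_mul, mul_one]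
        exact (Finset.sum_le_sum fun i _ => h1 i).trans htot.le
      have h3 : ∀ i ∈ (Finset.univ : Finset (ZMod p)), 1 ≤ n i i := fun i _ => hpos i
      exact ((Finset.sum_eq_sum_iff_of_le h3).1 (le_antisymm (Finset.sum_le_sum h3) h2) j
        (Finset.mem_univ j)).symm
    rw [← hsum, classInner_sum_right] at hcons
    obtain ⟨j, -, hj⟩ := Finset.exists_ne_zero_of_sum_ne_zero hcons
    exact hfin _ _ (by rw [hn j j, hdiag j, Nat.cast_one]) hj
  · refine hfin _ _ ?_ hcons
    rw [hnorm, show (Finset.univ.filter fun t : (Multiplicative (ZMod p)) => (fun q => (Φ (t * q) : D → ℂ)) =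
      fun q => (Φ q : D → ℂ)) = {1} from ?_, Finset.card_singleton, Nat.cast_one]
    refine Finset.eq_singleton_iff_unique_mem.2 ⟨by simp, fun t ht => ?_⟩
    simp only [Finset.mem_filter, Finset.mem_univ, true_and] at ht
    by_contra ht1
    refine hconst fun q => ?_
    haveI : Fact (Nat.Prime (Nat.card (Multiplicative (ZMod p)))) := ⟨by
      rw [show Nat.card (Multiplicative (ZMod p)) = p from Nat.card_zmod p]; exact Fact.out⟩
    obtain ⟨k, rfl⟩ : ∃ k : ℕ, t ^ k = q := by
      have hq : q ∈ Subgroup.zpowers t := by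
        rw [((Subgroup.zpowers t).eq_bot_or_eq_top_of_prime_card).resolve_left
          (fun h => ht1 (Subgroup.zpowers_eq_bot.1 h))]
        exact Subgroup.mem_top q
      exact (isOfFinOrder_of_finite t).mem_powers_iff_mem_zpowers.2 hq
    induction k with
    | zero => rw [pow_zero]
    | succ k ih => rw [pow_succ', Subtype.ext (congrFun ht (t ^ k)), ih]

end wreath

theorem exists_isM : ∀ (n : ℕ) (G : Type v) [Group G] [Finite G], Group.IsSolvable G →
    Nat.card G = n → ∃ (M : Type v) (_ : Group M) (_ : Fintype M),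
      IsM M ∧ ∃ f : G →* M, Function.Injective f := by
  intro n
  induction n using Nat.strong_induction_on with
  | _ n IH =>
  intro G _ _ hs hn
  rcases subsingleton_or_nontrivial G with hG | hG
  · haveI : Group.IsNilpotent G := inferInstance
    exact ⟨G, inferInstance, Fintype.ofFinite G, fun χ hχ => by
      letI := Fintype.ofFinite G; exact exists_monomial hχ,
      MonoidHom.id G, Function.injective_id⟩
  · haveI := hs
    have hne : commutator G ≠ ⊤ := (Group.IsSolvable.commutator_lt_top_of_nontrivial G).ne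
    obtain ⟨N, hN, hle⟩ := (IsCoatomic.eq_top_or_exists_le_coatom (commutator G)).resolve_left hne
    haveI hNn : N.Normal := ⟨fun a ha g => by
      have h1 : g * a * g⁻¹ * a⁻¹ ∈ N := hle (Subgroup.commutator_mem_commutator
        (Subgroup.mem_top g) (Subgroup.mem_top a))
      simpa using N.mul_mem h1 ha⟩
    obtain ⟨g, hg⟩ : ∃ g : G, g ∉ N := by
      by_contra! h
      exact hN.1 (eq_top_iff.2 fun x _ => h x)
    haveI : Nontrivial (G ⧸ N) :=
      ⟨⟨(g : G ⧸ N), 1, fun e => hg ((QuotientGroup.eq_one_iff g).1 e)⟩⟩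
    haveI : IsSimpleGroup (G ⧸ N) := ⟨fun H _ => by
      have h1 : N ≤ H.comap (QuotientGroup.mk' N) := fun x hx => by
        simp only [Subgroup.mem_comap, QuotientGroup.mk'_apply, (QuotientGroup.eq_one_iff x).2 hx]
        exact H.one_mem
      rcases hN.le_iff.1 h1 with h | h
      · exact Or.inr (Subgroup.comap_injective (QuotientGroup.mk'_surjective N)
          (h.trans (Subgroup.comap_top _).symm))
      · refine Or.inl (Subgroup.comap_injective (QuotientGroup.mk'_surjective N) (h.trans ?_))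
        ext x
        simp [Subgroup.mem_comap]⟩
    letI : CommGroup (G ⧸ N) :=
      { (inferInstance : Group (G ⧸ N)) with
        mul_comm := fun a b => by
          obtain ⟨a, rfl⟩ := QuotientGroup.mk'_surjective N a
          obtain ⟨b, rfl⟩ := QuotientGroup.mk'_surjective N b
          rw [← map_mul, ← map_mul]
          refine QuotientGroup.eq.2 (hle ?_)
          have h1 := Subgroup.commutator_mem_commutator (Subgroup.mem_top b⁻¹) (Subgroup.mem_top a⁻¹)
          rw [commutatorElement_def] at h1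
          simpa [mul_assoc, commutator_def] using h1 }
    set p := Nat.card (G ⧸ N) with hpdef
    haveI : Fact p.Prime := ⟨IsSimpleGroup.prime_card⟩
    let e : G ⧸ N ≃* Multiplicative (ZMod p) :=
      mulEquivOfPrimeCardEq (p := p) hpdef.symm (Nat.card_zmod p)
    have hlt : Nat.card N < n := by
      rw [← hn, ← Subgroup.index_mul_card N]
      exact lt_mul_of_one_lt_left Nat.card_pos (Fact.out : p.Prime).one_lt
    obtain ⟨D, _, _, hD, f, hf⟩ := IH _ hlt N inferInstance rfl
    refine ⟨D ≀ᵣ Multiplicative (ZMod p), inferInstance, inferInstance, isM_wreath hD, ?_⟩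
    let θ : G →* Multiplicative (ZMod p) := e.toMonoidHom.comp (QuotientGroup.mk' N)
    have hθs : Function.Surjective θ := e.surjective.comp (QuotientGroup.mk'_surjective N)
    choose s hs' using hθs
    have hker : ∀ {x}, θ x = 1 → x ∈ N := fun {x} hx =>
      (QuotientGroup.eq_one_iff x).1 (e.injective (hx.trans (map_one e).symm))
    have hmem : ∀ g q, (s q)⁻¹ * g * s ((θ g)⁻¹ * q) ∈ N := fun g q => hker (by
      rw [map_mul, map_mul, map_inv, hs', hs']; group)
    refine ⟨{ toFun := fun g => ⟨fun q => f ⟨_, hmem g q⟩, θ g⟩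
              map_one' := ?_, map_mul' := ?_ }, ?_⟩
    · refine RegularWreathProduct.ext (funext fun q => ?_) (map_one θ)
      show f _ = 1
      rw [← map_one f]
      congr 1
      refine Subtype.ext ?_
      simp [map_one θ]
    · intro a b
      refine RegularWreathProduct.ext (funext fun q => ?_) (map_mul θ a b)
      show f _ = f _ * f _
      rw [← map_mul]
      congr 1
      refine Subtype.ext ?_
      simp [mul_assoc]
    · rw [injective_iff_map_eq_one]
      intro g hg'
      have h2 : θ g = 1 := congrArg RegularWreathProduct.right hg'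
      have h1 : f ⟨_, hmem g 1⟩ = 1 := congrFun (congrArg RegularWreathProduct.left hg') 1
      have h3 : (s 1)⁻¹ * g * s ((θ g)⁻¹ * 1) = 1 :=
        congrArg Subtype.val (hf (h1.trans (map_one f).symm))
      rw [h2, inv_one, one_mul, mul_assoc, inv_mul_eq_one, eq_comm, mul_eq_right] at h3
      exact h3


/-- Every finite solvable group is isomorphic to a subgroup of a finite M-group, a group each of whose irreducible characters is induced from a homomorphism of some subgroup into ℂˣ. -/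
theorem result {G : Type u} [Group G] [Finite G] (hsolv : Group.IsSolvable G) : ∃ (M : Type u) (_ : Group M) (_ : Fintype M), (∀ χ : M → ℂ, Cfsg.IsIrrCharacter M χ → (∃ (H : Subgroup M) (lam : ↥H →* ℂˣ), χ = Cfsg.indFun H (fun h => (lam h : ℂ)))) ∧ ∃ f : G →* M, Function.Injective f := by
  exact exists_isM _ G hsolv rfl

end Cfsg.Agent.S4573
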