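import Cfsg.Statements.S4574
import Cfsg.Agent.Lib.DegreeTools.CharTools
import Cfsg.Agent.Lib.DegreeTools.Basic
import Cfsg.Agent.Lib.Char.Orth

set_option autoImplicit false
open Cfsg
open CfsgLib

namespace Cfsg.Agent.S4574

/-- Let χ be an irreducible character of the finite group G, of degree d, and let Z(χ) be the set of elements g with |χ g| = d (the centre of χ). Then χ vanishes on at least (d ^ 2 - 1) · |Z(χ)| elements of G, with equality when every value |χ g| is 0, 1 or d. -/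
theorem result {G : Type*} [Group G] [Fintype G] [DecidableEq G] (χ : G → ℂ) (hχ : Cfsg.IsIrrCharacter G χ) : (Cfsg.charDegree χ ^ 2 - 1) * (Finset.univ.filter (fun g : G => ‖χ g‖ = (Cfsg.charDegree χ : ℝ))).card ≤ (Finset.univ.filter (fun g : G => χ g = 0)).card ∧ ((∀ g : G, ‖χ g‖ = 0 ∨ ‖χ g‖ = 1 ∨ ‖χ g‖ = (Cfsg.charDegree χ : ℝ)) → (Cfsg.charDegree χ ^ 2 - 1) * (Finset.univ.filter (fun g : G => ‖χ g‖ = (Cfsg.charDegree χ : ℝ))).card = (Finset.univ.filter (fun g : G => χ g = 0)).card) := by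
  classical
  obtain ⟨n, ρ, hρ, rfl⟩ := hχ
  have : ρ.IsIrreducible := hρ
  have hd : Cfsg.charDegree ρ.character = n := by
    have h : (Cfsg.charDegree ρ.character : ℂ) = ρ.character 1 :=
      DegreeTools.deg_cast (⟨ρ.character, n, ρ, hρ, rfl⟩ : Cfsg.IrrCharacter G)
    rw [Representation.char_one, Module.finrank_fin_fun] at h
    exact_mod_cast h
  simp only [hd]
  have hn : 0 < n := by
    have h := Char.irreducible_finrank_pos (ρ := ρ)
    rwa [Module.finrank_fin_fun] at h
  set Z := Finset.univ.filter (fun g : G => ‖ρ.character g‖ = (n : ℝ)) with hZ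
  set O := Finset.univ.filter (fun g : G => ρ.character g = 0) with hO
  set S := Finset.univ.filter (fun g : G => ρ.character g ≠ 0 ∧ ‖ρ.character g‖ ≠ (n : ℝ)) with hSdef
  have hS : ∀ g ∈ S, ∀ j : ℕ, (Nat.card G).Coprime j → g ^ j ∈ S := by
    intro g hg j hj
    simp only [hSdef, Finset.mem_filter, Finset.mem_univ, true_and] at hg ⊢
    refine ⟨DegreeTools.CharTools.char_pow_ne_zero ρ hj hg.1, fun h => hg.2 ?_⟩
    obtain ⟨ω, hω, hρg, -⟩ := Char.exists_scalar_of_norm_char_eq ρ (g ^ j)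
      (by rw [Module.finrank_fin_fun]; exact h)
    obtain ⟨i, hi⟩ := exists_pow_eq_self_of_coprime
      ((hj.coprime_dvd_left (orderOf_dvd_natCard g)).symm)
    rw [← hi, Representation.character, map_pow, hρg, smul_pow,
      show (LinearMap.id : Module.End ℂ (Fin n → ℂ)) = 1 from rfl, one_pow, map_smul,
      LinearMap.trace_one, Module.finrank_fin_fun, smul_eq_mul, norm_mul, norm_pow, hω, one_pow,
      one_mul, Complex.norm_natCast]
  have hle := DegreeTools.CharTools.card_le_sum_pow 2 ρ S hS fun g hg => (Finset.mem_filter.1 hg).2.1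
  have hsplit : ∀ (f : G → ℝ), ∑ g, f g = (∑ g ∈ Z, f g) + ((∑ g ∈ O, f g) + ∑ g ∈ S, f g) := by
    intro f
    simp only [hZ, hO, hSdef, Finset.sum_filter, ← Finset.sum_add_distrib]
    refine Finset.sum_congr rfl fun g _ => ?_
    by_cases h0 : ρ.character g = 0
    · have : ‖ρ.character g‖ ≠ (n : ℝ) := by
        rw [h0, norm_zero]; exact_mod_cast hn.ne
      rw [if_neg this, if_pos h0, if_neg fun h => h.1 h0]; ring
    · by_cases h1 : ‖ρ.character g‖ = (n : ℝ) <;> simp [h0, h1]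
  have hcard := hsplit fun _ => 1
  simp only [Finset.sum_const, nsmul_one, Finset.card_univ, ← Nat.card_eq_fintype_card] at hcard
  have hsq := DegreeTools.CharTools.sum_norm_sq ρ
  rw [hsplit fun g => ‖ρ.character g‖ ^ 2] at hsq
  have hZv : ∑ g ∈ Z, ‖ρ.character g‖ ^ 2 = (Z.card : ℝ) * (n : ℝ) ^ 2 := by
    rw [Finset.sum_congr rfl fun g hg => by rw [(Finset.mem_filter.1 hg).2], Finset.sum_const,
      nsmul_eq_mul]
  have hOv : ∑ g ∈ O, ‖ρ.character g‖ ^ 2 = 0 :=
    Finset.sum_eq_zero fun g hg => by rw [(Finset.mem_filter.1 hg).2, norm_zero, sq, mul_zero]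
  rw [hZv, hOv, zero_add] at hsq
  have h1 : (1 : ℕ) ≤ n ^ 2 := Nat.one_le_pow 2 n hn
  constructor
  · have h : (((n ^ 2 - 1) * Z.card : ℕ) : ℝ) ≤ (O.card : ℝ) := by
      push_cast [Nat.cast_sub h1]
      nlinarith
    exact_mod_cast h
  · intro hvals
    have hSv : ∑ g ∈ S, ‖ρ.character g‖ ^ 2 = (S.card : ℝ) := by
      rw [Finset.sum_congr rfl (g := fun _ => (1 : ℝ)) (fun g hg => ?_), Finset.sum_const, nsmul_one]
      obtain ⟨h0, h2⟩ := (Finset.mem_filter.1 hg).2
      rcases hvals g with h | h | h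
      · exact absurd (norm_eq_zero.1 h) h0
      · rw [h, one_pow]
      · exact absurd h h2
    rw [hSv] at hsq
    have h : (((n ^ 2 - 1) * Z.card : ℕ) : ℝ) = (O.card : ℝ) := by
      push_cast [Nat.cast_sub h1]
      nlinarith
    exact_mod_cast h

end Cfsg.Agent.S4574
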