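import Cfsg.Statements.S4575
import Cfsg.Agent.Lib.Blocks.TwoMajor

-- import your own Cfsg.Agent.* helpers here

set_option autoImplicit false
open Cfsg CfsgLib.Blocks

namespace Cfsg.Agent.S4575

/-- Let B be a 2-block of the finite group G (relative to a maximal ideal M of the algebraic integers containing 2) of defect d with defect group D. Let z be an element of D commuting with every element of D, and let b be a block of the centralizer of z with defect group D that induces B (a major subsection (z, b)). If the number of irreducible characters in B exceeds the 2-regular rank of b by at most three, then B contains at most 2 ^ d irreducible characters. -/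
theorem result {G : Type*} [Group G] [Finite G] (M : Ideal Cfsg.AlgInt) (hM : Cfsg.IsPModular 2 M) (B : Set (Cfsg.IrrCharacter G)) (hB : Cfsg.IsPBlock M B) (D : Subgroup G) (hD : Cfsg.IsDefectGroup 2 M B D) (z : G) (hzD : z ∈ D) (hzc : ∀ d ∈ D, d * z = z * d) (b : Set (Cfsg.IrrCharacter ↥(Subgroup.centralizer ({z} : Set G)))) (hb : Cfsg.IsInducedBlock M (Subgroup.centralizer ({z} : Set G)) b B) (hbD : Cfsg.IsDefectGroup 2 M b (D.subgroupOf (Subgroup.centralizer ({z} : Set G)))) (h : Nat.card B ≤ Cfsg.blockRank 2 b + 3) : Nat.card B ≤ 2 ^ Cfsg.blockDefect 2 B := by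
  classical
  let _ : Fintype G := Fintype.ofFinite G
  have hDK : D ≤ Subgroup.centralizer ({z} : Set G) := fun d hd =>
    Subgroup.mem_centralizer_singleton_iff.2 (hzc d hd)
  have hmaj : Cfsg.blockDefect 2 b = Cfsg.blockDefect 2 B := by
    have h1 := card_defectGroup hM hb.1 hbD
    rw [Nat.card_congr (Subgroup.subgroupOfEquivOfLe hDK).toEquiv, card_defectGroup hM hB hD] at h1
    exact (Nat.pow_right_injective (le_refl 2) h1).symm
  have hzp : ∃ j : ℕ, orderOf z = 2 ^ j := by
    haveI : Fact (Nat.Prime 2) := ⟨Nat.prime_two⟩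
    obtain ⟨g, hg, S, rfl⟩ := hD
    obtain ⟨j, hj⟩ := (S.2.map (Subgroup.centralizer ({g} : Set G)).subtype) ⟨z, hzD⟩
    obtain ⟨i, -, hi⟩ := (Nat.dvd_prime_pow Nat.prime_two).1
      (orderOf_dvd_of_pow_eq_one (congrArg Subtype.val hj : z ^ 2 ^ j = 1))
    exact ⟨i, hi⟩
  obtain ⟨T⟩ := TwoMajor.nonempty_data hM rfl hzp hb hmaj
  rcases Nat.eq_zero_or_pos (Cfsg.blockDefect 2 B) with h0 | h0
  · have h4 := four_mul_card_le hM hB
    rw [h0] at h4 ⊢
    norm_num at h4 ⊢
    omega
  · refine T.card_le h0 (fun χ hχ hne => ?_) h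
    have h1 := degVal_add_two_le_of_pos hM hB hχ (by simp only [TwoMajor.ht] at hne; omega)
    have h2 := blockDefect_add_min (p := 2) (IsPBlock.nonempty hM hB)
    simp only [TwoMajor.ht]
    omega

end Cfsg.Agent.S4575
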