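import Cfsg.Statements.S4580
import Cfsg.Agent.Lib.Blocks.RealBlocks
import Cfsg.Agent.Lib.Blocks.ExtTwist
-- import your own Cfsg.Agent.* helpers here

set_option autoImplicit false
open Cfsg

namespace Cfsg.Agent.S4580

/-- Let N be a normal subgroup of the finite group G, M a maximal ideal of the algebraic integers containing 2, and θ a real-valued irreducible character of N of odd degree that extends to G (some irreducible character of G restricts to θ). Then θ has an extension to G lying in the principal 2-block of G. -/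
theorem result {G : Type*} [Group G] [Finite G] (N : Subgroup G) [N.Normal] (M : Ideal Cfsg.AlgInt) (hM : Cfsg.IsPModular 2 M) (θ : Cfsg.IrrCharacter N) (hreal : ∀ n : N, ((θ : N → ℂ) n).im = 0) (hodd : Odd (Cfsg.charDegree (θ : N → ℂ))) (hext : ∃ η : Cfsg.IrrCharacter G, ∀ n : N, (η : G → ℂ) n = (θ : N → ℂ) n) :
    ∃ η : Cfsg.IrrCharacter G, (∀ n : N, (η : G → ℂ) n = (θ : N → ℂ) n) ∧ η ∈ Cfsg.principalBlock M G := by
  classical
  letI : Fintype G := Fintype.ofFinite G
  obtain ⟨η, hη⟩ := hext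
  have hconj : ∀ n : N, (CfsgLib.Blocks.irrConj η : G → ℂ) n = (θ : N → ℂ) n := fun n => by
    rw [CfsgLib.Blocks.irrConj_apply, hη]
    exact Complex.conj_eq_iff_im.2 (hreal n)
  obtain ⟨l, hlN, hl⟩ := CfsgLib.Blocks.exists_linear_of_extensions η _ θ hη hconj
  set u := Nat.card G / 2 ^ (Nat.card G).factorization 2
  obtain ⟨m, hm⟩ : Odd u := Nat.odd_iff.2 (Nat.two_dvd_ne_zero.1
    (Nat.not_dvd_ordCompl Nat.prime_two Nat.card_pos.ne'))
  let μ : G →* ℂˣ := l ^ (m + 1)
  let η' : Cfsg.IrrCharacter G := ⟨_, CfsgLib.Blocks.isIrrCharacter_hom_mul μ η⟩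
  have hη' : ∀ n : N, (η' : G → ℂ) n = (θ : N → ℂ) n := fun n => by
    show (μ n : ℂ) * _ = _
    rw [hη, show μ n = 1 by simp [μ, hlN], Units.val_one, one_mul]
  refine ⟨η', hη', CfsgLib.Blocks.mem_principalBlock_of_odd hM ?_ fun g hg => ?_⟩
  · have h1 : (η' : G → ℂ) 1 = (θ : N → ℂ) 1 := hη' 1
    rw [CfsgLib.Blocks.irr_one_eq, CfsgLib.Blocks.irr_one_eq, Nat.cast_inj] at h1
    rwa [h1]
  · have hgu : g ^ u = 1 := by
      refine orderOf_dvd_iff_pow_eq_one.1 ((Nat.Coprime.dvd_mul_left ?_).1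
        (show orderOf g ∣ 2 ^ (Nat.card G).factorization 2 * u by
          rw [Nat.ordProj_mul_ordCompl_eq_self]; exact orderOf_dvd_natCard g))
      exact Nat.Coprime.pow_right _ (Nat.prime_two.coprime_iff_not_dvd.2 hg).symm
    have hlu : (l g : ℂ) ^ (2 * m + 1) = 1 := by
      rw [← hm, ← Units.val_pow_eq_pow_val, ← map_pow, hgu, map_one, Units.val_one]
    have hginv : (η : G → ℂ) g⁻¹ = (l g : ℂ) * (η : G → ℂ) g := by
      rw [← hl g, CfsgLib.Blocks.irrConj_apply_inv]
    show ((μ g⁻¹ : ℂˣ) : ℂ) * (η : G → ℂ) g⁻¹ = (μ g : ℂ) * (η : G → ℂ) g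
    rw [hginv, map_inv, Units.val_inv_eq_inv_val]
    simp only [μ, MonoidHom.pow_apply, Units.val_pow_eq_pow_val]
    have hne : (l g : ℂ) ≠ 0 := Units.ne_zero _
    field_simp
    linear_combination (-(η : G → ℂ) g * (l g : ℂ)) * hlu

end Cfsg.Agent.S4580
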