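import Cfsg.Statements.S4582
import Mathlib.GroupTheory.Transfer

set_option autoImplicit false
open Cfsg

namespace Cfsg.Agent.S4582

open scoped Pointwise

/-- The transfer of a restricted homomorphism is a power of it. -/
lemma transfer_restrict {H A : Type*} [Group H] [CommGroup A] (P : Subgroup H) [P.FiniteIndex]
    (ψ : H →* A) (f : P →* A) (hf : ∀ x : P, f x = ψ x) (g : H) :
    MonoidHom.transfer f g = ψ g ^ P.index := by
  let T : P.LeftTransversal := default
  let _ := P.fintypeQuotientOfFiniteIndex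
  rw [MonoidHom.transfer_def f T, Subgroup.leftTransversals.diff]
  simp only [hf, map_mul, map_inv, Subgroup.smul_apply_eq_smul_apply_inv_smul, smul_eq_mul]
  rw [Finset.prod_mul_distrib, Finset.prod_mul_distrib, Finset.prod_const, Finset.card_univ,
    Finset.prod_inv_distrib, Subgroup.index, Nat.card_eq_fintype_card]
  have : ∏ q : H ⧸ P, ψ (T.2.leftQuotientEquiv (g⁻¹ • q) : H)
      = ∏ q : H ⧸ P, ψ (T.2.leftQuotientEquiv q : H) :=
    Fintype.prod_equiv (MulAction.toPerm g⁻¹) _ _ fun q => rfl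
  rw [this]
  rw [mul_left_comm, inv_mul_cancel, mul_one]

/-- The square of a homomorphism from a Sylow subgroup to an abelian `2`-group is trivial, as soon
as its square is trivial on `N` and squares of the transfer are trivial. -/
lemma core {H A : Type*} [Group H] [Finite H] [CommGroup A] (P : Subgroup H) (N : Subgroup H)
    [N.Normal] (hsup : N ⊔ P = ⊤) (hidx : ¬ 2 ∣ P.index) (f : P →* A)
    (hfN : ∀ x : P, (x : H) ∈ N → f x ^ 2 = 1) (hf4 : ∀ x : P, (f x ^ 2) ^ 2 = 1)
    (hhom : ∀ ν : H →* A, ∀ x : P, ν x ^ 2 = 1) :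
    ∀ x : P, f x ^ 2 = 1 := by
  classical
  intro x
  let π : P →* H ⧸ N := (QuotientGroup.mk' N).comp P.subtype
  have hπ : Function.Surjective π := by
    rw [← MonoidHom.range_eq_top, MonoidHom.range_comp, Subgroup.range_subtype, eq_top_iff]
    have h := congrArg (Subgroup.map (QuotientGroup.mk' N)) hsup
    rw [Subgroup.map_sup, QuotientGroup.map_mk'_self, bot_sup_eq,
      Subgroup.map_top_of_surjective _ (QuotientGroup.mk'_surjective N)] at h
    exact h.ge
  let φ : P →* A := (powMonoidHom 2).comp f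
  have hker : π.ker ≤ φ.ker := fun y hy => by
    rw [MonoidHom.mem_ker] at hy ⊢
    exact hfN y ((QuotientGroup.eq_one_iff (y : H)).1 hy)
  let ψ : H →* A := (π.liftOfSurjective hπ ⟨φ, hker⟩).comp (QuotientGroup.mk' N)
  have hψ : ∀ y : P, φ y = ψ y := fun y =>
    (π.liftOfRightInverse_comp_apply _ (Function.rightInverse_surjInv hπ) ⟨φ, hker⟩ y).symm
  have h1 := transfer_restrict P ψ φ hψ (x : H)
  have h2 : MonoidHom.transfer φ (x : H) = MonoidHom.transfer f (x : H) ^ 2 := by
    let T : P.LeftTransversal := default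
    let _ := P.fintypeQuotientOfFiniteIndex
    rw [MonoidHom.transfer_def φ T, MonoidHom.transfer_def f T, Subgroup.leftTransversals.diff,
      Subgroup.leftTransversals.diff, ← Finset.prod_pow]
    rfl
  rw [h2, hhom (MonoidHom.transfer f) x, ← hψ x] at h1
  obtain ⟨k, hk⟩ := Nat.odd_iff.2 (Nat.two_dvd_ne_zero.1 hidx)
  rw [hk, pow_succ, pow_mul, show φ x = f x ^ 2 from rfl, hf4 x, one_pow, one_mul] at h1
  exact h1.symm



/-- Let N be a normal subgroup of the finite group G, P a Sylow 2-subgroup of G and Q = P ∩ N. Suppose that P/QP' and Q/Q' are elementary abelian (every square of an element of P lies in the subgroup generated by Q and the derived subgroup of P, and every square of an element of Q lies in the derived subgroup of Q), and that the commutator factor group N/N' has odd order. Then P/P' is elementary abelian. -/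
theorem result {G : Type*} [Group G] [Finite G] (N : Subgroup G) [N.Normal] (P : Sylow 2 G)
    (hP : ∀ x ∈ (P : Subgroup G), x ^ 2 ∈ ((P : Subgroup G) ⊓ N) ⊔ ⁅(P : Subgroup G), (P : Subgroup G)⁆)
    (hQ : ∀ x ∈ (P : Subgroup G) ⊓ N, x ^ 2 ∈ ⁅(P : Subgroup G) ⊓ N, (P : Subgroup G) ⊓ N⁆)
    (hodd : Odd (Nat.card (Abelianization N))) :
    ∀ x ∈ (P : Subgroup G), x ^ 2 ∈ ⁅(P : Subgroup G), (P : Subgroup G)⁆ := by
  classical
  haveI : Fact (Nat.Prime 2) := ⟨Nat.prime_two⟩
  let H : Subgroup G := N ⊔ (P : Subgroup G)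
  have hPH : (P : Subgroup G) ≤ H := le_sup_right
  have hNH : N ≤ H := le_sup_left
  let e : ↥((P : Subgroup G).subgroupOf H) ≃* ↥(P : Subgroup G) :=
    Subgroup.subgroupOfEquivOfLe hPH
  let of : ↥(P : Subgroup G) →* Abelianization ↥(P : Subgroup G) := Abelianization.of
  have hof : ∀ y : ↥(P : Subgroup G), (y : G) ∈ ⁅(P : Subgroup G), (P : Subgroup G)⁆ ↔ of y = 1 := by
    intro y
    rw [← Subgroup.map_subtype_commutator, ← MonoidHom.mem_ker, Abelianization.ker_of]
    exact Subgroup.mem_map_iff_mem (P : Subgroup G).subtype_injective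
  have hA : IsPGroup 2 (Abelianization ↥(P : Subgroup G)) :=
    P.2.of_surjective of Quotient.mk_surjective
  have key := core ((P : Subgroup G).subgroupOf H) (N.subgroupOf H) (by
      rw [← Subgroup.subgroupOf_sup hNH hPH, Subgroup.subgroupOf_self]) (by
      intro h
      have h2 := h.trans (Subgroup.relIndex_dvd_index_of_le hPH)
      exact P.not_dvd_index h2) (of.comp e.toMonoidHom) ?_ ?_ ?_
  · intro x hx
    have h := key ⟨⟨x, hPH hx⟩, hx⟩
    exact (hof (⟨x, hx⟩ ^ 2)).2 (by rw [map_pow]; exact h)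
  · intro y hy
    have h : (((e y) ^ 2 : ↥(P : Subgroup G)) : G) ∈ ⁅(P : Subgroup G), (P : Subgroup G)⁆ :=
      Subgroup.commutator_mono inf_le_left inf_le_left (hQ _ ⟨(e y).2, hy⟩)
    have := (hof _).1 h
    rwa [map_pow] at this
  · intro y
    have hle : ((P : Subgroup G) ⊓ N) ⊔ ⁅(P : Subgroup G), (P : Subgroup G)⁆
        ≤ ((powMonoidHom 2).comp of).ker.map (P : Subgroup G).subtype := by
      refine sup_le (fun q hq => ⟨⟨q, hq.1⟩, ?_, rfl⟩) (fun c hc => ?_)
      · have h := (hof (⟨q, hq.1⟩ ^ 2)).1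
          (Subgroup.commutator_mono inf_le_left inf_le_left (hQ q hq))
        rw [map_pow] at h
        exact h
      · have hcP : c ∈ (P : Subgroup G) := Subgroup.commutator_le_self _ hc
        refine ⟨⟨c, hcP⟩, ?_, rfl⟩
        show of ⟨c, hcP⟩ ^ 2 = 1
        rw [(hof ⟨c, hcP⟩).1 hc, one_pow]
    obtain ⟨z, hz, hzx⟩ := hle (hP _ (e y).2)
    have hzy : z = (e y) ^ 2 := Subtype.ext hzx
    have hz' : of z ^ 2 = 1 := hz
    rw [hzy, map_pow] at hz'
    exact hz'
  · intro ν y
    -- `ν` is trivial on `N`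
    have hνN : ∀ n (hn : n ∈ N), ν ⟨n, hNH hn⟩ = 1 := by
      intro n hn
      let νN : ↥N →* Abelianization ↥(P : Subgroup G) := ν.comp (Subgroup.inclusion hNH)
      have h1 : νN ⟨n, hn⟩ ^ Nat.card (Abelianization ↥N) = 1 := by
        rw [← Abelianization.lift_apply_of νN ⟨n, hn⟩, ← map_pow, pow_card_eq_one', map_one]
      obtain ⟨k, hk⟩ := hA (νN ⟨n, hn⟩)
      have h2 := orderOf_dvd_of_pow_eq_one h1
      obtain ⟨j, -, hj⟩ := (Nat.dvd_prime_pow Nat.prime_two).1 (orderOf_dvd_of_pow_eq_one hk)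
      rw [hj] at h2
      have hj0 : j = 0 := by
        by_contra h0
        exact Nat.not_even_iff_odd.2 hodd
          (even_iff_two_dvd.2 ((dvd_pow_self 2 h0).trans h2))
      exact (orderOf_eq_one_iff (x := νN ⟨n, hn⟩)).1 (by rw [hj, hj0, pow_zero])
    have hle : ((P : Subgroup G) ⊓ N) ⊔ ⁅(P : Subgroup G), (P : Subgroup G)⁆
        ≤ (ν.comp (Subgroup.inclusion hPH)).ker.map (P : Subgroup G).subtype := by
      refine sup_le (fun q hq => ⟨⟨q, hq.1⟩, hνN q hq.2, rfl⟩) (fun c hc => ?_)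
      have hcP : c ∈ (P : Subgroup G) := Subgroup.commutator_le_self _ hc
      refine ⟨⟨c, hcP⟩, ?_, rfl⟩
      rw [SetLike.mem_coe, MonoidHom.mem_ker,
        ← Abelianization.lift_apply_of (ν.comp (Subgroup.inclusion hPH)) ⟨c, hcP⟩,
        show Abelianization.of (⟨c, hcP⟩ : ↥(P : Subgroup G)) = 1 from (hof ⟨c, hcP⟩).1 hc, map_one]
    obtain ⟨z, hz, hzx⟩ := hle (hP _ (e y).2)
    have hzy : z = (e y) ^ 2 := Subtype.ext hzx
    have hz' : ν (Subgroup.inclusion hPH z) = 1 := hz
    rw [hzy, map_pow, map_pow] at hz'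
    exact hz'

end Cfsg.Agent.S4582
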