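import Cfsg.Statements.S4583
import Cfsg.Agent.Lib.Blocks.RegularInner
import Cfsg.Agent.Lib.Blocks.Parts
import Cfsg.Agent.Lib.Char.Induced

set_option autoImplicit false
open Cfsg

namespace Cfsg.Agent.S4583

open CfsgLib.Blocks CfsgLib.Char
open scoped Classical ComplexConjugate

/-- The number of `p`-regular elements is prime to `p`. -/
theorem not_dvd_card_regular {G : Type*} [Group G] [Fintype G] {p : ℕ} [Fact p.Prime] :
    ¬ p ∣ (Finset.univ.filter fun x : G => IsPRegular p x).card := by
  have hp : p.Prime := Fact.out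
  intro hd
  obtain ⟨P⟩ : Nonempty (Sylow p G) := inferInstance
  let Ω := {x : G // IsPRegular p x}
  letI : MulAction (P : Subgroup G) Ω :=
    { smul := fun u x => ⟨(u : G) * x.1 * (u : G)⁻¹, by
        show ¬ p ∣ orderOf ((u : G) * x.1 * (u : G)⁻¹)
        rw [show (u : G) * x.1 * (u : G)⁻¹ = MulAut.conj (u : G) x.1 from rfl, MulEquiv.orderOf_eq]
        exact x.2⟩
      one_smul := fun x => Subtype.ext (by show ((1 : (P : Subgroup G)) : G) * _ * _ = _; simp)
      mul_smul := fun u v x => Subtype.ext (by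
        show ((u * v : (P : Subgroup G)) : G) * x.1 * _ = (u : G) * ((v : G) * x.1 * (v : G)⁻¹) * _
        simp [mul_assoc]) }
  have h1 := P.isPGroup'.card_modEq_card_fixedPoints Ω
  rw [Nat.card_eq_fintype_card (α := Ω), Fintype.card_subtype] at h1
  have h2 : p ∣ Nat.card (MulAction.fixedPoints (P : Subgroup G) Ω) :=
    (Nat.ModEq.dvd_iff h1 (dvd_refl p)).1 hd
  set C := Subgroup.centralizer ((P : Subgroup G) : Set G) with hC
  set Z := C ⊓ (P : Subgroup G) with hZ
  have hfix : ∀ x : Ω, x ∈ MulAction.fixedPoints (P : Subgroup G) Ω ↔ x.1 ∈ C := by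
    intro x
    rw [hC, Subgroup.mem_centralizer_iff]
    constructor
    · intro h u hu
      exact mul_inv_eq_iff_eq_mul.1 (congrArg Subtype.val (h ⟨u, hu⟩))
    · intro h u
      exact Subtype.ext (mul_inv_eq_iff_eq_mul.2 (h u u.2))
  have hpel : ∀ x ∈ C, (∃ j, orderOf x = p ^ j) → x ∈ (P : Subgroup G) := by
    intro x hx ⟨j, hj⟩
    have hxp : IsPGroup p (Subgroup.zpowers x) := IsPGroup.of_card (n := j)
      (by rw [Nat.card_zpowers, hj])
    have hn : Subgroup.zpowers x ≤ Subgroup.normalizer ((P : Subgroup G) : Set G) :=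
      (Subgroup.zpowers_le.2 hx).trans (Subgroup.centralizer_le_normalizer _)
    have hsup := hxp.to_sup_of_normal_right' P.isPGroup' hn
    exact P.is_maximal' hsup le_sup_right ▸ Subgroup.mem_sup_left (Subgroup.mem_zpowers x)
  let f : MulAction.fixedPoints (P : Subgroup G) Ω × Z → C := fun a =>
    ⟨a.1.1.1 * a.2.1, mul_mem ((hfix _).1 a.1.2) a.2.2.1⟩
  have hpw : ∀ z : Z, ∃ j, orderOf (z : G) = p ^ j := fun z => by
    obtain ⟨j, hj⟩ := (IsPGroup.iff_orderOf.1 P.isPGroup') ⟨z.1, z.2.2⟩
    exact ⟨j, by rw [← hj, ← Subgroup.orderOf_coe]⟩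
  have hcomm : ∀ (x : MulAction.fixedPoints (P : Subgroup G) Ω) (z : Z),
      Commute (z : G) x.1.1 := fun x z =>
    (Subgroup.mem_centralizer_iff.1 ((hfix _).1 x.2)) z.1 z.2.2
  have hbij : Function.Bijective f := by
    constructor
    · rintro ⟨x, z⟩ ⟨x', z'⟩ e
      have e' : x.1.1 * (z : G) = x'.1.1 * (z' : G) := congrArg Subtype.val e
      obtain ⟨j, hj⟩ := hpw z
      obtain ⟨j', hj'⟩ := hpw z'
      have q1 := isPPart_mul (hcomm x z) hj x.1.2
      have q2 := isPPart_mul (hcomm x' z') hj' x'.1.2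
      rw [(hcomm x z).eq] at q1
      rw [(hcomm x' z').eq, ← e'] at q2
      have ez : (z : G) = z' := isPPart_unique hp q1 q2
      rw [← ez] at e'
      exact Prod.ext (Subtype.ext (Subtype.ext (mul_right_cancel e'))) (Subtype.ext ez)
    · rintro ⟨g, hg⟩
      obtain ⟨x, y, -, he, hc, hy, hx, hxg, hyg⟩ := exists_isPPart hp g
      have hxC : x ∈ C := (Subgroup.zpowers_le.2 hg) hxg
      have hyC : y ∈ C := (Subgroup.zpowers_le.2 hg) hyg
      refine ⟨(⟨⟨y, hy⟩, (hfix _).2 hyC⟩, ⟨x, hxC, hpel x hxC hx⟩), Subtype.ext ?_⟩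
      show y * x = g
      rw [← hc.eq, he]
  have hcard := Nat.card_eq_of_bijective f hbij
  rw [Nat.card_prod] at hcard
  obtain ⟨k, hk⟩ := IsPGroup.iff_card.1 (P.isPGroup'.to_le (inf_le_right : Z ≤ (P : Subgroup G)))
  have h3 : p ^ (k + 1) ∣ Nat.card C := by
    rw [← hcard, hk, pow_succ']
    exact mul_dvd_mul_right h2 _
  obtain ⟨S, hS⟩ := Sylow.exists_subgroup_card_pow_prime p h3
  have hle : S.map C.subtype ≤ Z := by
    intro s hs
    have hsC : s ∈ C := Subgroup.map_subtype_le S hs
    refine ⟨hsC, hpel s hsC ?_⟩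
    obtain ⟨j, hj⟩ := IsPGroup.iff_orderOf.1 ((IsPGroup.of_card hS).map C.subtype) ⟨s, hs⟩
    exact ⟨j, by rw [← hj, ← Subgroup.orderOf_coe]⟩
  have h4 := Subgroup.card_dvd_of_le hle
  rw [Subgroup.card_map_of_injective (Subgroup.subtype_injective _), hS, hk] at h4
  exact absurd ((Nat.pow_dvd_pow_iff_le_right hp.one_lt).1 h4) (by omega)

variable {G : Type*} [Group G] [Fintype G] {p : ℕ} [Fact p.Prime] {M : Ideal AlgInt}

theorem regInner_one_one_not_LI (hM : IsPModular p M) :
    ¬ MemLocalIdeal M (regInner p (fun _ : G => (1 : ℂ)) (fun _ : G => (1 : ℂ))) := by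
  intro h
  refine not_dvd_card_regular (G := G) ((LI.natCast_iff hM _).1 ?_)
  rw [regInner, pPartCard_div hM.1] at h
  simp only [mul_one, Finset.sum_const, nsmul_eq_mul] at h
  have h' := LI.mul_left hM (LR.natCast hM (Nat.card G / p ^ (Nat.card G).factorization p)) h
  rwa [mul_inv_cancel_left₀
    (Nat.cast_ne_zero.2 (Nat.ordCompl_pos p Nat.card_pos.ne').ne')] at h'

/-- For a member of the principal block, the sum over regular elements detects a `p'`-degree. -/
theorem regInner_principal (hM : IsPModular p M) {χ : IrrCharacter G}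
    (hχ : χ ∈ principalBlock M G) :
    (¬ p ∣ charDegree (χ : G → ℂ) →
      ¬ MemLocalIdeal M (regInner p (fun _ : G => (1 : ℂ)) (χ : G → ℂ))) ∧
    (p ∣ charDegree (χ : G → ℂ) →
      MemLocalIdeal M (regInner p (fun _ : G => (1 : ℂ)) (χ : G → ℂ))) := by
  have hcf : IsClassFunction G (regClassFun p (trivChar G : G → ℂ)) :=
    regClassFun_isClassFunction (fun _ _ => rfl)
  have hw : MemLocalRing M (omega (χ : G → ℂ) (regClassFun p (trivChar G : G → ℂ))) :=
    omega_LR hM χ hcf (regClassFun_LR hM (trivChar G))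
  have e := regInner_eq_omega (p := p) (trivChar G : G → ℂ) χ
  rw [irr_one_eq] at e
  have he : (fun _ : G => (1 : ℂ)) = (trivChar G : G → ℂ) := rfl
  constructor
  · intro hd h
    rw [he, e] at h
    rcases LI.mem_or_mem hM (LR.natCast hM _) hw h with h1 | h1
    · exact hd ((LI.natCast_iff hM _).1 h1)
    · have h2 := omega_regClassFun_congr hM (trivChar G) (ψ := trivChar G) (φ := χ) hχ
      have h3 := LI.add hM h2 h1
      rw [sub_add_cancel, omega_regClassFun] at h3
      simp only [trivChar_apply, div_one] at h3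
      exact regInner_one_one_not_LI hM h3
  · intro hd
    rw [he, e]
    exact LI.mul_right hM ((LI.natCast_iff hM _).2 hd) hw


set_option maxHeartbeats 800000


/-- Let N be a normal subgroup of the finite group G, p a prime, M a maximal ideal of the algebraic integers containing p, and P a Sylow p-subgroup of G. Let θ be an irreducible character of N of degree prime to p lying in the principal p-block of N, and suppose θ extends to the subgroup NP (some irreducible character of NP restricts to θ). Then some irreducible character χ of G of degree prime to p in the principal p-block of G lies over θ (θ is a constituent of the restriction of χ to N). -/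
theorem result {G : Type*} [Group G] [Finite G] (N : Subgroup G) [N.Normal] (p : ℕ) [Fact p.Prime] (M : Ideal Cfsg.AlgInt) (hM : Cfsg.IsPModular p M) (P : Sylow p G)
    (θ : Cfsg.IrrCharacter N) (hθ : θ ∈ Cfsg.principalBlock M N) (hdeg : ¬ p ∣ Cfsg.charDegree (θ : N → ℂ))
    (hext : ∃ η : Cfsg.IrrCharacter ↥(N ⊔ (P : Subgroup G)), ∀ n : N, (η : ↥(N ⊔ (P : Subgroup G)) → ℂ) (Subgroup.inclusion le_sup_left n) = (θ : N → ℂ) n) :
    ∃ χ : Cfsg.IrrCharacter G, χ ∈ Cfsg.principalBlock M G ∧ ¬ p ∣ Cfsg.charDegree (χ : G → ℂ) ∧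
      haveI := Fintype.ofFinite N; Cfsg.classInner (fun n : N => (χ : G → ℂ) n) (θ : N → ℂ) ≠ 0 := by
  classical
  letI : Fintype G := Fintype.ofFinite G
  letI := Fintype.ofFinite N
  set K : Subgroup G := N ⊔ (P : Subgroup G) with hK
  letI := Fintype.ofFinite K
  obtain ⟨η, hη⟩ := hext
  have hp : p.Prime := Fact.out
  set π : G → ℂ := Cfsg.indFun K (η : K → ℂ) with hπdef
  have hπ : IsCharacter G π := CfsgLib.Char.IsCharacter.indFun K (IsIrrCharacter.isCharacter η.2)
  obtain ⟨m, hm⟩ : ∃ m : IrrCharacter G → ℕ, ∀ χ : IrrCharacter G,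
      classInner π (χ : G → ℂ) = (m χ : ℂ) :=
    ⟨fun χ => (IsCharacter.classInner_nat hπ (isCharacter_irr χ)).choose,
      fun χ => (IsCharacter.classInner_nat hπ (isCharacter_irr χ)).choose_spec⟩
  -- `p`-regular elements of `K` lie in `N`
  have hKN : ∀ k : K, IsPRegular p (k : G) → (k : G) ∈ N := by
    intro k hk
    obtain ⟨u, hu, v, hv, huv⟩ := Subgroup.mem_sup_of_normal_left.1 k.2
    obtain ⟨j, hj⟩ := IsPGroup.iff_orderOf.1 P.isPGroup' ⟨v, hv⟩
    rw [Subgroup.orderOf_mk] at hj
    have h1 : orderOf ((k : G) : G ⧸ N) ∣ p ^ j := orderOf_dvd_of_pow_eq_one (by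
      rw [← huv, QuotientGroup.mk_mul, (QuotientGroup.eq_one_iff u).2 hu, one_mul,
        ← QuotientGroup.mk_pow, ← hj, pow_orderOf_eq_one]
      rfl)
    have h2 : orderOf ((k : G) : G ⧸ N) ∣ orderOf (k : G) :=
      orderOf_map_dvd (QuotientGroup.mk' N) _
    exact (QuotientGroup.eq_one_iff _).1 (orderOf_eq_one_iff.1 (Nat.eq_one_of_dvd_coprimes
      (Nat.Coprime.pow_left j (hp.coprime_iff_not_dvd.2 hk)) h1 h2))
  -- the regular sum of the induced character
  have hsum : regInner p (fun _ : G => (1 : ℂ)) π =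
      (pPartCard p G : ℂ) * (Nat.card K : ℂ)⁻¹ *
        ∑ n : N with IsPRegular p n, (θ : N → ℂ) n := by
    set F : G → ℂ := fun x => if IsPRegular p x then 1 else 0 with hF
    have hFc : IsClassFunction G F := fun x y => by
      show (if IsPRegular p (y * x * y⁻¹) then (1 : ℂ) else 0) = if IsPRegular p x then 1 else 0
      refine if_congr ?_ rfl rfl
      show ¬ p ∣ orderOf (MulAut.conj y x) ↔ ¬ p ∣ orderOf x
      rw [MulEquiv.orderOf_eq]
    have h1 := classInner_indFun K (η : K → ℂ) hFc
    rw [← hπdef] at h1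
    have hl : ∀ (g : G), π g * conj (F g) = if IsPRegular p g then π g else 0 := fun g => by
      simp only [hF]; split <;> simp
    have hr : ∀ (g : K), (η : K → ℂ) g * conj (F g) =
        if IsPRegular p (g : G) then (η : K → ℂ) g else 0 := fun g => by
      simp only [hF]; split <;> simp
    simp only [Cfsg.classInner, hl, hr] at h1
    rw [← Finset.sum_filter, ← Finset.sum_filter] at h1
    have h2 : ∑ g ∈ Finset.univ.filter (fun g : ↥K => IsPRegular p (g : G)), (η : K → ℂ) g =
        ∑ n : N with IsPRegular p n, (θ : N → ℂ) n := by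
      symm
      refine Finset.sum_bij (fun n _ => Subgroup.inclusion le_sup_left n) ?_ ?_ ?_ ?_
      · intro n hn
        simp only [Finset.mem_filter, Finset.mem_univ, true_and] at hn ⊢
        show ¬ p ∣ orderOf (n : G)
        rwa [Subgroup.orderOf_coe]
      · intro a _ b _ h
        exact Subgroup.inclusion_injective _ h
      · intro k hk
        simp only [Finset.mem_filter, Finset.mem_univ, true_and] at hk
        refine ⟨⟨k, hKN k hk⟩, ?_, Subtype.ext rfl⟩
        simp only [Finset.mem_filter, Finset.mem_univ, true_and]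
        show ¬ p ∣ orderOf (⟨(k : G), hKN k hk⟩ : N)
        rwa [Subgroup.orderOf_mk]
      · intro n _
        exact (hη n).symm
    rw [← h2, regInner_comm, regInner, mul_assoc, mul_assoc, ← h1]
    simp
  -- `[K : N]` is the `p`-part of `[G : N]`
  have hnum : (pPartCard p G : ℂ) * (Nat.card K : ℂ)⁻¹ =
      (pPartCard p N : ℂ) * (Nat.card N : ℂ)⁻¹ := by
    have hd : N.relIndex K * Nat.card N = Nat.card K := by
      rw [← Nat.card_congr (Subgroup.subgroupOfEquivOfLe (le_sup_left : N ≤ K)).toEquiv]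
      exact (N.subgroupOf K).index_mul_card
    obtain ⟨t, ht⟩ : ∃ t, N.relIndex K = p ^ t := by
      have h0 : N.relIndex K = N.relIndex (P : Subgroup G) := by
        rw [hK, sup_comm]
        exact Subgroup.relIndex_sup_right (K := N) (H := (P : Subgroup G))
      obtain ⟨t, -, ht⟩ := (Nat.dvd_prime_pow hp).1
        (show (N.subgroupOf (P : Subgroup G)).index ∣ p ^ (Nat.card G).factorization p by
          rw [← P.card_eq_multiplicity]; exact Subgroup.index_dvd_card _)
      exact ⟨t, h0.trans ht⟩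
    have hK2 : p ^ (Nat.card G).factorization p ∣ Nat.card K := by
      rw [← P.card_eq_multiplicity]; exact Subgroup.card_dvd_of_le le_sup_right
    have hK3 : (Nat.card K).factorization p = (Nat.card G).factorization p :=
      le_antisymm ((Nat.factorization_le_iff_dvd Nat.card_pos.ne' Nat.card_pos.ne').2
        (Subgroup.card_subgroup_dvd_card K) p)
        ((hp.pow_dvd_iff_le_factorization Nat.card_pos.ne').1 hK2)
    rw [← hd, ht, Nat.factorization_mul (pow_ne_zero _ hp.ne_zero) Nat.card_pos.ne',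
      Finsupp.add_apply, hp.factorization_pow, Finsupp.single_eq_same] at hK3
    rw [← hd, ht, pPartCard, pPartCard, ← hK3, pow_add]
    push_cast
    have : (p : ℂ) ≠ 0 := Nat.cast_ne_zero.2 hp.ne_zero
    field_simp
  have hπR : regInner p (fun _ : G => (1 : ℂ)) π =
      regInner p (fun _ : N => (1 : ℂ)) (θ : N → ℂ) := by
    rw [hsum, hnum, regInner_comm (χ := fun _ : N => (1 : ℂ)), regInner]
    simp
  have hnLI := (regInner_principal hM hθ).1 hdeg
  rw [← hπR] at hnLI
  have hdecomp : regInner p (fun _ : G => (1 : ℂ)) π =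
      ∑ χ : IrrCharacter G, (m χ : ℂ) * regInner p (fun _ : G => (1 : ℂ)) (χ : G → ℂ) := by
    have hx : ∀ x, π x = ∑ χ : IrrCharacter G, (m χ : ℂ) * (χ : G → ℂ) x := fun x => by
      conv_lhs => rw [IsClassFunction.eq_sum_irr (IsCharacter.isClassFunction hπ)]
      simp [hm]
    simp only [regInner, hx, Finset.mul_sum]
    rw [Finset.sum_comm]
    exact Finset.sum_congr rfl fun χ _ => Finset.sum_congr rfl fun x _ => by ring
  obtain ⟨χ, hχ⟩ : ∃ χ : IrrCharacter G, ¬ MemLocalIdeal M
      ((m χ : ℂ) * regInner p (fun _ : G => (1 : ℂ)) (χ : G → ℂ)) := by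
    by_contra hc
    push Not at hc
    exact hnLI (hdecomp ▸ LI.sum hM (fun χ _ => hc χ))
  have hm0 : m χ ≠ 0 := fun h => hχ (by rw [h, Nat.cast_zero, zero_mul]; exact LI.zero hM)
  have hχB : χ ∈ principalBlock M G := by
    by_contra hn
    have h0 : regInner p (fun _ : G => (1 : ℂ)) (χ : G → ℂ) = 0 :=
      IsPBlock.regInner_eq_zero hM isPBlock_principalBlock (trivChar_mem_principalBlock hM) hn
    exact hχ (by rw [h0, mul_zero]; exact LI.zero hM)
  refine ⟨χ, hχB, fun hd => hχ (LI.mul_left hM (LR.natCast hM _)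
    ((regInner_principal hM hχB).2 hd)), ?_⟩
  -- `χ` lies over `θ`
  have hKc : classInner (fun k : K => (χ : G → ℂ) k) (η : K → ℂ) = (m χ : ℂ) := by
    rw [← classInner_indFun_right K (η : K → ℂ) (IsIrrCharacter.isClassFunction χ.2),
      ← classInner_conj_symm, ← hπdef, hm]
    simp
  have hres : IsCharacter K (fun k : K => (χ : G → ℂ) k) :=
    IsCharacter.restrict (isCharacter_irr χ) K
  have hncast : ∀ ζ : IrrCharacter K, ∃ a b : ℕ,
      classInner (fun k : K => (χ : G → ℂ) k) (ζ : K → ℂ) = (a : ℂ) ∧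
      classInner (fun n : N => (ζ : K → ℂ) (Subgroup.inclusion le_sup_left n)) (θ : N → ℂ) =
        (b : ℂ) := fun ζ => by
    obtain ⟨a, ha⟩ := IsCharacter.classInner_nat hres (isCharacter_irr ζ)
    obtain ⟨b, hb⟩ := IsCharacter.classInner_nat
      (IsCharacter.comp (isCharacter_irr ζ) (Subgroup.inclusion (le_sup_left : N ≤ K)))
      (isCharacter_irr θ)
    exact ⟨a, b, ha, hb⟩
  choose a b ha hb using hncast
  have hsplit : classInner (fun n : N => (χ : G → ℂ) n) (θ : N → ℂ) =
      ((∑ ζ : IrrCharacter K, a ζ * b ζ : ℕ) : ℂ) := by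
    push_cast
    simp only [← ha, ← hb]
    simp only [Cfsg.classInner, Finset.mul_sum, Finset.sum_mul]
    conv_rhs => rw [Finset.sum_comm]
    refine Finset.sum_congr rfl fun n _ => ?_
    rw [show (χ : G → ℂ) n = (fun k : K => (χ : G → ℂ) k) (Subgroup.inclusion le_sup_left n)
      from rfl, IsClassFunction.eq_sum_irr (IsCharacter.isClassFunction hres)]
    simp only [Finset.sum_apply, Pi.smul_apply, smul_eq_mul, Finset.sum_mul, Finset.mul_sum]
    refine Finset.sum_congr rfl fun ζ _ => ?_
    simp only [Cfsg.classInner, Finset.mul_sum, Finset.sum_mul]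
    exact Finset.sum_congr rfl fun k _ => by ring
  rw [hsplit, Nat.cast_ne_zero]
  refine (Nat.lt_of_lt_of_le ?_
    (Finset.single_le_sum (f := fun ζ => a ζ * b ζ) (fun _ _ => Nat.zero_le _)
      (Finset.mem_univ η))).ne'
  have h1 : a η = m χ := Nat.cast_injective (R := ℂ) ((ha η).symm.trans hKc)
  have h2 : b η = 1 := by
    apply Nat.cast_injective (R := ℂ)
    rw [← hb η, Nat.cast_one, show (fun n : N => (η : K → ℂ) (Subgroup.inclusion le_sup_left n)) =
      (θ : N → ℂ) from funext hη, classInner_irrCharacter, if_pos rfl]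
  rw [h1, h2, mul_one]
  exact Nat.pos_of_ne_zero hm0

end Cfsg.Agent.S4583
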