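import Cfsg.Statements.S4587
import Cfsg.Agent.Lib.Fusion.Tate
import Cfsg.Agent.Lib.Fusion.MaxClass
import Cfsg.Agent.Lib.PGroup.Kulakoff
import Cfsg.Agent.Lib.Components.PComponents

set_option autoImplicit false
open Cfsg

namespace Cfsg.Agent.S4587

open Subgroup
open scoped commutatorElement

variable {G : Type*} [Group G] {p : ℕ}

/-- conjugation as a homomorphism -/
def cj (g : G) : G →* G := (MulAut.conj g).toMonoidHom

theorem mem_cj {T : Subgroup G} {g x : G} : x ∈ T.map (cj g) ↔ g⁻¹ * x * g ∈ T := by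
  constructor
  · rintro ⟨y, hy, rfl⟩
    have : g⁻¹ * (cj g y) * g = y := by simp [cj, mul_assoc]
    rw [this]; exact hy
  · exact fun h => ⟨_, h, by simp [cj, mul_assoc]⟩

theorem map_cj_mul (T : Subgroup G) (a b : G) : (T.map (cj b)).map (cj a) = T.map (cj (a * b)) := by
  rw [Subgroup.map_map]
  congr 1
  ext x
  simp [cj, mul_assoc]

theorem card_cj (T : Subgroup G) (g : G) : Nat.card (T.map (cj g)) = Nat.card T :=
  card_map_of_injective (MulAut.conj g).injective

theorem cj_eq_self [Finite G] {T : Subgroup G} {g : G} (h : ∀ x ∈ T, g * x * g⁻¹ ∈ T) :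
    T.map (cj g) = T := by
  refine Subgroup.eq_of_le_of_card_ge ?_ (card_cj T g).ge
  rintro _ ⟨x, hx, rfl⟩
  exact h x hx

theorem commute_of_inf {A B : Subgroup G} {a b : G} (h : A ⊓ B = ⊥) (ha : a ∈ A) (hb : b ∈ B)
    (hA : b * a⁻¹ * b⁻¹ ∈ A) (hB : a * b * a⁻¹ ∈ B) : Commute a b := by
  have h1 : a * b * a⁻¹ * b⁻¹ ∈ A ⊓ B := by
    refine ⟨?_, B.mul_mem hB (B.inv_mem hb)⟩
    have := A.mul_mem ha hA
    simpa [mul_assoc] using this
  rw [h, mem_bot, ← commutatorElement_def, commutatorElement_eq_one_iff_mul_comm] at h1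
  exact h1

/-- Elements of a Sylow subgroup split along a direct decomposition. -/
theorem split [Finite G] [Fact p.Prime] (S : Sylow p G) (A B : Subgroup G) [A.Normal] [B.Normal]
    (h : A ⊓ B = ⊥) (hs : A ⊔ B = ⊤) {r : G} (hr : r ∈ S) :
    ∃ a ∈ A, ∃ b ∈ B, a ∈ S ∧ b ∈ S ∧ a * b = r := by
  obtain ⟨a, ha, b, hb, hab⟩ := mem_sup_of_normal_left.mp
    (show r ∈ A ⊔ B from hs ▸ mem_top r)
  let X : Subgroup G := ((S : Subgroup G) ⊔ B) ⊓ A
  have hX : IsPGroup p X := by
    have h1 : IsPGroup p (((S : Subgroup G)).map (QuotientGroup.mk' B)) := S.2.map _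
    have h2 : X.map (QuotientGroup.mk' B) ≤ (S : Subgroup G).map (QuotientGroup.mk' B) := by
      refine (map_mono inf_le_left).trans (le_of_eq ?_)
      rw [Subgroup.map_sup, QuotientGroup.map_mk'_self, sup_bot_eq]
    refine (h1.to_le h2).of_injective ((QuotientGroup.mk' B).subgroupMap X) fun x y hxy => ?_
    have hxy' : QuotientGroup.mk' B (x : G) = QuotientGroup.mk' B (y : G) :=
      congrArg Subtype.val hxy
    rw [QuotientGroup.mk'_apply, QuotientGroup.mk'_apply, QuotientGroup.eq] at hxy'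
    have h3 : (x : G)⁻¹ * y ∈ A ⊓ B := ⟨A.mul_mem (A.inv_mem x.2.2) y.2.2, hxy'⟩
    rw [h, mem_bot, inv_mul_eq_one] at h3
    exact Subtype.ext h3
  have hSX : (S : Subgroup G) ⊓ A ≤ X := inf_le_inf_right A le_sup_left
  have h1 : ((S : Subgroup G) ⊓ A).relIndex X = 1 := by
    obtain ⟨k, hk⟩ := hX.index (((S : Subgroup G) ⊓ A).subgroupOf X)
    rw [← relIndex] at hk
    rcases k with _ | k
    · simpa using hk
    · exfalso
      refine CfsgLib.Fusion.Basic.not_dvd_relIndex_of_normal S A ?_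
      rw [← relIndex_mul_relIndex ((S : Subgroup G) ⊓ A) X A hSX inf_le_right, hk]
      exact Dvd.dvd.mul_right (dvd_pow_self p (by omega)) _
  have haS : a ∈ S := by
    refine (relIndex_eq_one.mp h1 (x := a) ⟨?_, ha⟩).1
    rw [show a = r * b⁻¹ by rw [← hab]; simp]
    exact mul_mem (mem_sup_left hr) (mem_sup_right (inv_mem hb))
  refine ⟨a, ha, b, hb, haS, ?_, hab⟩
  rw [show b = a⁻¹ * r by rw [← hab]; simp]
  exact mul_mem (inv_mem haS) hr

/-- Generating commutators. -/
theorem comm_le {Q R K : Subgroup G} {t : G} (hR : R ≤ Q) (ht : t ∈ Q)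
    (hgen : ∀ x ∈ Q, ∃ i : ℕ, ∃ r ∈ R, x = t ^ i * r)
    (hn : ∀ x ∈ Q, ∀ k ∈ K, x * k * x⁻¹ ∈ K)
    (hrr : ∀ r ∈ R, ∀ s ∈ R, ⁅r, s⁆ ∈ K) (htr : ∀ r ∈ R, ⁅t, r⁆ ∈ K) : ⁅Q, Q⁆ ≤ K := by
  have : (K.subgroupOf Q).Normal := ⟨fun k hk x => hn x x.2 k hk⟩
  let q := QuotientGroup.mk' (K.subgroupOf Q)
  have hq : ∀ a b : Q, ⁅(a : G), (b : G)⁆ ∈ K → Commute (q a) (q b) := by
    intro a b h
    refine commutatorElement_eq_one_iff_mul_comm.mp ?_
    rw [← map_commutatorElement]
    exact (QuotientGroup.eq_one_iff _).mpr h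
  rw [commutator_le]
  intro x hx y hy
  obtain ⟨i, r, hr, rfl⟩ := hgen x hx
  obtain ⟨j, s, hs, rfl⟩ := hgen y hy
  have ctt : Commute (q ⟨t, ht⟩) (q ⟨t, ht⟩) := Commute.refl _
  have crs := hq ⟨r, hR hr⟩ ⟨s, hR hs⟩ (hrr r hr s hs)
  have ctr := hq ⟨t, ht⟩ ⟨r, hR hr⟩ (htr r hr)
  have cts := hq ⟨t, ht⟩ ⟨s, hR hs⟩ (htr s hs)
  have h : Commute (q (⟨t, ht⟩ ^ i * ⟨r, hR hr⟩)) (q (⟨t, ht⟩ ^ j * ⟨s, hR hs⟩)) := by
    simp only [map_mul, map_pow]
    exact ((ctt.pow_pow i j).mul_right (cts.pow_left i)).mul_left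
      ((ctr.symm.pow_right j).mul_right crs)
  have h1 := commutatorElement_eq_one_iff_mul_comm.mpr h.eq
  rw [← map_commutatorElement] at h1
  exact (QuotientGroup.eq_one_iff (N := K.subgroupOf Q) _).mp h1

theorem map_commutator_self (Q : Subgroup G) :
    (commutator ↥Q).map Q.subtype = ⁅Q, Q⁆ := by
  rw [commutator_def, map_commutator, ← MonoidHom.range_eq_map, range_subtype]

theorem subgroupOf_commutator (Q : Subgroup G) : ⁅Q, Q⁆.subgroupOf Q = commutator ↥Q := by
  rw [← map_commutator_self]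
  exact comap_map_eq_self_of_injective Q.subtype_injective _

/-- A normal subgroup outside the derived group contains it, if the derived group has index p². -/
theorem absorb [Finite G] [Fact p.Prime] {Q R : Subgroup G} (hQ : IsPGroup p Q)
    (hidx : ⁅Q, Q⁆.relIndex Q = p ^ 2) (hR : R ≤ Q)
    (hn : ∀ x ∈ Q, ∀ r ∈ R, x * r * x⁻¹ ∈ R) (hnot : ¬ R ≤ ⁅Q, Q⁆) : ⁅Q, Q⁆ ≤ R := by
  have : (R.subgroupOf Q).Normal := ⟨fun r hr x => hn x x.2 r hr⟩
  set R' := R.subgroupOf Q
  let q := QuotientGroup.mk' R'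
  have hi : (commutator ↥Q).index = p ^ 2 := by rw [← subgroupOf_commutator]; exact hidx
  have hsup : (commutator ↥Q ⊔ R').index ∣ p := by
    have hd : (commutator ↥Q ⊔ R').index ∣ p ^ 2 := hi ▸ index_dvd_of_le le_sup_left
    obtain ⟨k, hk, hk'⟩ := (Nat.dvd_prime_pow (Fact.out : p.Prime)).mp hd
    rw [hk']
    interval_cases k
    · simp
    · simp
    · exfalso
      refine hnot fun r hr => ?_
      have e : commutator ↥Q ⊔ R' = commutator ↥Q := by
        have h1 := relIndex_mul_index (le_sup_left : commutator ↥Q ≤ commutator ↥Q ⊔ R')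
        rw [hk', hi] at h1
        have : (commutator ↥Q).relIndex (commutator ↥Q ⊔ R') = 1 := by
          refine Nat.eq_of_mul_eq_mul_right (m := p ^ 2) (pow_pos (Fact.out : p.Prime).pos 2) ?_
          rw [h1, one_mul]
        exact le_antisymm (relIndex_eq_one.mp this) le_sup_left
      have h2 : (⟨r, hR hr⟩ : Q) ∈ commutator ↥Q := e ▸ mem_sup_right hr
      rw [← subgroupOf_commutator] at h2
      exact h2
  have hmap : commutator (↥Q ⧸ R') = (commutator ↥Q).map q := by
    rw [commutator_def, commutator_def, map_commutator,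
      map_top_of_surjective q (QuotientGroup.mk'_surjective R')]
  have hcyc : IsCyclic ((↥Q ⧸ R') ⧸ commutator (↥Q ⧸ R')) := by
    refine isCyclic_of_card_dvd_prime (p := p) ?_
    rw [← index_eq_card, hmap, index_map, MonoidHom.range_eq_top.mpr (QuotientGroup.mk'_surjective R'),
      index_top, mul_one, QuotientGroup.ker_mk']
    exact hsup
  have hb := CfsgLib.Fusion.MaxClass.commutator_eq_bot_of_cyclic (hQ.to_quotient R') hcyc
  rw [hmap, Subgroup.map_eq_bot_iff, QuotientGroup.ker_mk'] at hb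
  rw [← map_commutator_self]
  rintro _ ⟨c, hc, rfl⟩
  exact hb hc


/-- Let G be a finite group, p a prime and P a Sylow p-subgroup of order at least p². Assume that G has no nontrivial normal subgroup of order prime to p, that the derived subgroup P' of P contains no nontrivial normal subgroup of G, and that G is not almost simple (there is no non-abelian simple normal subgroup of G with trivial centralizer). Then [P : P'] = p² if and only if some p-element x of G has centralizer whose order has p-part exactly p². -/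
theorem result {G : Type*} [Group G] [Finite G] (p : ℕ) [Fact p.Prime] (P : Sylow p G) (hbig : p ^ 2 ∣ Nat.card G) (hcore : Cfsg.pPrimeCore p G = ⊥)
    (hcore' : (⁅(P : Subgroup G), (P : Subgroup G)⁆).normalCore = ⊥) (hnas : ¬ ∃ S : Subgroup G, S.Normal ∧ IsSimpleGroup S ∧ ¬ IsMulCommutative S ∧ Subgroup.centralizer (S : Set G) = ⊥) :
    (⁅(P : Subgroup G), (P : Subgroup G)⁆).relIndex (P : Subgroup G) = p ^ 2 ↔
      ∃ x : G, (∃ k : ℕ, orderOf x = p ^ k) ∧ (Nat.card (Subgroup.centralizer ({x} : Set G))).factorization p = 2 := by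
  classical
  have hp : p.Prime := Fact.out
  set Q : Subgroup G := (P : Subgroup G) with hQdef
  set C : Subgroup G := ⁅Q, Q⁆ with hCdef
  have hQp : IsPGroup p Q := P.2
  have hCQ : C ≤ Q := commutator_le_self Q
  have hcardP : Nat.card Q = p ^ (Nat.card G).factorization p := P.card_eq_multiplicity
  have hsylow : ∀ (x : G), (∃ k : ℕ, orderOf x = p ^ k) →
      ∀ S : Sylow p (centralizer ({x} : Set G)),
        x ∈ (S : Subgroup (centralizer ({x} : Set G))).map (centralizer ({x} : Set G)).subtype := by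
    intro x hx S
    obtain ⟨k, hk⟩ := hx
    have hxC : x ∈ centralizer ({x} : Set G) := mem_centralizer_singleton_iff.mpr rfl
    let Z : Subgroup (centralizer ({x} : Set G)) := zpowers ⟨x, hxC⟩
    have hZ : IsPGroup p Z := by
      refine IsPGroup.iff_card.mpr ⟨k, ?_⟩
      rw [Nat.card_zpowers, ← orderOf_injective _ (subtype_injective _) (⟨x, hxC⟩ : centralizer ({x} : Set G))]
      exact hk
    have : Z.Normal := ⟨fun z hz g => by
      obtain ⟨i, rfl⟩ := mem_zpowers_iff.mp hz
      have hg := mem_centralizer_singleton_iff.mp g.2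
      have hc : Commute g (⟨x, hxC⟩ : centralizer ({x} : Set G)) := Subtype.ext hg
      rw [(hc.zpow_right i).eq, mul_inv_cancel_right]
      exact zpow_mem (mem_zpowers _) i⟩
    have hle := S.3 (IsPGroup.to_sup_of_normal_right S.2 hZ) le_sup_left
    exact ⟨⟨x, hxC⟩, hle ▸ mem_sup_right (mem_zpowers _), rfl⟩
  have hconjQ : ∀ (x : G) (S : Subgroup G), IsPGroup p S → x ∈ S →
      S ≤ centralizer ({x} : Set G) → ∃ g : G, g⁻¹ * x * g ∈ Q ∧
        Nat.card S ≤ Nat.card (Q ⊓ centralizer ({g⁻¹ * x * g} : Set G) : Subgroup G) := by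
    intro x S hS hxS hSC
    obtain ⟨P1, hP1⟩ := hS.exists_le_sylow
    obtain ⟨g, hg⟩ := MulAction.exists_smul_eq G P P1
    have hgQ : ∀ y ∈ S, g⁻¹ * y * g ∈ Q := by
      intro y hy
      have := hP1 hy
      rw [← hg, Sylow.coe_subgroup_smul, Subgroup.mem_pointwise_smul_iff_inv_smul_mem] at this
      simpa [mul_assoc, hQdef] using this
    refine ⟨g, hgQ x hxS, ?_⟩
    have hle : S.map (cj g⁻¹) ≤ Q ⊓ centralizer ({g⁻¹ * x * g} : Set G) := by
      intro y hy
      rw [mem_cj, inv_inv] at hy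
      have h1 := hgQ _ hy
      have h2 := mem_centralizer_singleton_iff.mp (hSC hy)
      refine ⟨by simpa [mul_assoc] using h1, mem_centralizer_singleton_iff.mpr ?_⟩
      have h3 := congrArg (fun z => g⁻¹ * z * g) h2
      simpa [mul_assoc] using h3
    exact (card_cj S g⁻¹).ge.trans (Nat.le_of_dvd Nat.card_pos (card_dvd_of_le hle))
  constructor
  swap
  · rintro ⟨x, hx, hf⟩
    obtain ⟨S⟩ : Nonempty (Sylow p (centralizer ({x} : Set G))) := inferInstance
    obtain ⟨g, hgQ, hcg⟩ := hconjQ x _ (S.2.map (centralizer ({x} : Set G)).subtype)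
      (hsylow x hx S) (map_subtype_le _)
    set y : Q := ⟨g⁻¹ * x * g, hgQ⟩
    rw [card_map_of_injective (subtype_injective _)] at hcg
    have hS2 : Nat.card (S : Subgroup (centralizer ({x} : Set G))) = p ^ 2 := by
      rw [S.card_eq_multiplicity, hf]
    have hZcard : Nat.card (centralizer ({y} : Set Q)) = p ^ 2 := by
      have e : (centralizer ({y} : Set Q)).map Q.subtype = Q ⊓ centralizer ({g⁻¹ * x * g} : Set G) := by
        ext z
        constructor
        · rintro ⟨z, hz, rfl⟩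
          exact ⟨z.2, mem_centralizer_singleton_iff.mpr
            (congrArg Subtype.val (mem_centralizer_singleton_iff.mp hz))⟩
        · rintro ⟨h1, h2⟩
          exact ⟨⟨z, h1⟩, mem_centralizer_singleton_iff.mpr
            (Subtype.ext (mem_centralizer_singleton_iff.mp h2)), rfl⟩
      have e' := card_map_of_injective (f := Q.subtype) (subtype_injective _) (K := centralizer ({y} : Set Q))
      rw [e] at e'
      refine le_antisymm ?_ (by rw [← e', ← hS2]; exact hcg)
      -- upper bound: transport back into the centralizer of x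
      have hle : (Q ⊓ centralizer ({g⁻¹ * x * g} : Set G)).map (cj g) ≤ centralizer ({x} : Set G) := by
        intro z hz
        rw [mem_cj] at hz
        have h3 := congrArg (fun w => g * w * g⁻¹) (mem_centralizer_singleton_iff.mp hz.2)
        exact mem_centralizer_singleton_iff.mpr (by simpa [mul_assoc] using h3)
      obtain ⟨k, hk⟩ := IsPGroup.iff_card.mp (hQp.to_le (inf_le_left :
        Q ⊓ centralizer ({g⁻¹ * x * g} : Set G) ≤ Q))
      rw [← e', hk]
      refine Nat.pow_le_pow_right hp.pos ?_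
      have := card_dvd_of_le hle
      rw [card_cj, hk, hp.pow_dvd_iff_le_factorization Nat.card_pos.ne', hf] at this
      exact this
    have hle : (centralizer ({y} : Set Q)).index ≤ Nat.card (commutator ↥Q) := by
      rw [index_eq_card]
      refine Nat.card_le_card_of_injective
        (fun z => Quotient.liftOn' z (fun a => (⟨⁅a, y⁆, commutator_mem_commutator (mem_top a) (mem_top y)⟩ : commutator ↥Q)) ?_) ?_
      · intro a b hab
        rw [QuotientGroup.leftRel_apply] at hab
        have h := mem_centralizer_singleton_iff.mp hab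
        apply Subtype.ext
        show ⁅a, y⁆ = ⁅b, y⁆
        rw [show b = a * (a⁻¹ * b) by simp, commutatorElement_def, commutatorElement_def, mul_inv_rev,
          mul_assoc a (a⁻¹ * b) y, h]
        group
      · intro z w
        induction z using QuotientGroup.induction_on with
        | H a =>
          induction w using QuotientGroup.induction_on with
          | H b =>
            intro hab
            have h : a * y * a⁻¹ * y⁻¹ = b * y * b⁻¹ * y⁻¹ := congrArg Subtype.val hab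
            rw [mul_left_inj] at h
            refine QuotientGroup.eq.mpr (mem_centralizer_singleton_iff.mpr ?_)
            have h' := congrArg (fun v => a⁻¹ * v * b) h
            simp [mul_assoc] at h' ⊢
            exact h'.symm
    have hup : (commutator ↥Q).index ≤ p ^ 2 := by
      refine le_of_mul_le_mul_right ?_ (Nat.card_pos (α := commutator ↥Q))
      rw [mul_comm, card_mul_index]
      calc Nat.card Q = Nat.card (centralizer ({y} : Set Q)) * (centralizer ({y} : Set Q)).index :=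
            (card_mul_index _).symm
        _ ≤ p ^ 2 * Nat.card (commutator ↥Q) := by rw [hZcard]; exact Nat.mul_le_mul_left _ hle
    show (C.subgroupOf Q).index = p ^ 2
    rw [hCdef, subgroupOf_commutator]
    refine le_antisymm hup ?_
    by_cases hc : IsCyclic Q
    · have hcomm : ∀ a b : Q, a * b = b * a := IsCyclic.isMulCommutative.is_comm.comm
      have h1 : commutator ↥Q = ⊥ := by
        rw [_root_.commutator_def, eq_bot_iff, commutator_le]
        exact fun a _ b _ => by rw [mem_bot, commutatorElement_eq_one_iff_mul_comm]; exact hcomm a b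
      rw [h1, index_bot, ← hZcard]
      exact Nat.le_of_dvd Nat.card_pos (card_subgroup_dvd_card _)
    · have := Fact.mk hp
      exact CfsgLib.PGroup.Kulakoff.sq_le_commutator_index hQp hc
  intro hidx
  by_cases hC : C = ⊥
  · refine ⟨1, ⟨0, by simp⟩, ?_⟩
    have e : centralizer ({1} : Set G) = ⊤ := by
      ext z; simp [mem_centralizer_singleton_iff]
    rw [e, card_top]
    have : Nat.card Q = p ^ 2 := by rw [← relIndex_bot_left, ← hC]; exact hidx
    exact Nat.pow_right_injective hp.two_le (hcardP.symm.trans this)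
  have hTate : ∀ N : Subgroup G, N.Normal → N ≠ ⊥ → ¬ N ⊓ Q ≤ C := by
    intro N hN hNb hle
    obtain ⟨S, K, hK, hKS⟩ := CfsgLib.Fusion.Tate.npc_of_normal_inf_le_frattini P N (by
      refine hle.trans ?_
      rw [hCdef, ← map_commutator_self]
      exact map_mono (CfsgLib.PGroup.Kulakoff.commutator_le_frattini hQp))
    have hKc : (Nat.card K).Coprime p := by
      refine (hp.coprime_iff_not_dvd.mpr ?_).symm
      rw [← hKS.index_eq_card]
      exact S.not_dvd_index
    have hKb : K.map N.subtype = ⊥ := by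
      refine le_bot_iff.mp (hcore ▸ CfsgLib.Components.le_pPrimeCore_of_subnormal ?_ ?_)
      · refine IsSubnormal.trans (map_subtype_le K) ?_ hN.isSubnormal
        rw [subgroupOf, comap_map_eq_self_of_injective (subtype_injective N)]
        exact hK.isSubnormal
      · rwa [card_map_of_injective (subtype_injective N)]
    have hSc : Nat.card (S : Subgroup N) = Nat.card N := by
      rw [← hKS.card_mul_card, (map_eq_bot_iff_of_injective _ (subtype_injective N)).mp hKb, card_bot, one_mul]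
    have hNp : IsPGroup p N := IsPGroup.of_card (hSc.symm.trans S.card_eq_multiplicity)
    have hNQ : N ≤ Q := by
      obtain ⟨P1, hP1⟩ := hNp.exists_le_sylow
      obtain ⟨g, hg⟩ := MulAction.exists_smul_eq G P1 P
      intro n hn
      rw [hQdef, ← hg, Sylow.coe_subgroup_smul, Subgroup.mem_pointwise_smul_iff_inv_smul_mem]
      apply hP1
      simpa [mul_assoc] using hN.conj_mem n hn g⁻¹
    have := hN
    exact hNb (le_bot_iff.mp (hcore' ▸ normal_le_normalCore.mpr ((le_inf le_rfl hNQ).trans hle)))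
  have hInfN : ∀ (N : Subgroup G), N.Normal → ∀ x ∈ Q, ∀ r ∈ N ⊓ Q, x * r * x⁻¹ ∈ N ⊓ Q :=
    fun N hN x hx r hr => ⟨hN.conj_mem r hr.1 x, Q.mul_mem (Q.mul_mem hx hr.2) (Q.inv_mem hx)⟩
  have hCN : ∀ N : Subgroup G, N.Normal → N ≠ ⊥ → C ≤ N ⊓ Q := fun N hN hNb =>
    absorb hQp hidx inf_le_right (hInfN N hN) (hTate N hN hNb)
  obtain ⟨N, ⟨hN, hNb⟩, hNmin⟩ := Set.Finite.exists_minimal (Set.toFinite {N : Subgroup G | N.Normal ∧ N ≠ ⊥})
    ⟨⊤, inferInstance, fun h => by
      have h1 : Nat.card G = 1 := by rw [← card_top, h, card_bot]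
      rw [h1, Nat.dvd_one] at hbig
      exact (Nat.one_lt_pow (by norm_num) hp.one_lt).ne' hbig⟩
  set R : Subgroup G := N ⊓ Q with hRdef
  have hCR : C ≤ R := hCN N hN hNb
  have hRC : ¬ R ≤ C := hTate N hN hNb
  have hRQ : R ≤ Q := inf_le_right
  have hRn : ∀ x ∈ Q, ∀ r ∈ R, x * r * x⁻¹ ∈ R := hInfN N hN
  have hmul : C.relIndex R * R.relIndex Q = p ^ 2 :=
    (relIndex_mul_relIndex C R Q hCR hRQ).trans hidx
  have hidxR : R ≠ Q → R.relIndex Q = p ∧ C.relIndex R = p := by
    intro hne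
    obtain ⟨k, hk, hk'⟩ := (Nat.dvd_prime_pow hp).mp (Dvd.intro_left _ hmul)
    interval_cases k
    · exact absurd (le_antisymm hRQ (relIndex_eq_one.mp (by simpa using hk'))) hne
    · rw [pow_one] at hk'
      refine ⟨hk', ?_⟩
      rw [hk'] at hmul
      exact Nat.eq_of_mul_eq_mul_right hp.pos (hmul.trans (sq p))
    · exfalso
      refine hRC (relIndex_eq_one.mp (Nat.eq_of_mul_eq_mul_right (pow_pos hp.pos 2) ?_))
      rw [one_mul, ← hk', hmul, hk']
  have hgen : R ≠ Q → ∀ t ∈ Q, t ∉ R → t ^ p ∈ R ∧ ∀ x ∈ Q, ∃ i < p, ∃ r ∈ R, x = t ^ i * r := by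
    intro hne t ht htR
    have : (R.subgroupOf Q).Normal := ⟨fun r hr x => hRn x x.2 r hr⟩
    have hc : Nat.card (↥Q ⧸ R.subgroupOf Q) = p := by rw [← index_eq_card]; exact (hidxR hne).1
    set T' : ↥Q ⧸ R.subgroupOf Q := QuotientGroup.mk (⟨t, ht⟩ : Q)
    have htp : t ^ p ∈ R := by
      have h1 : T' ^ p = 1 := by rw [← hc]; exact pow_card_eq_one'
      rw [← QuotientGroup.mk_pow, QuotientGroup.eq_one_iff] at h1
      exact h1
    refine ⟨htp, fun x hx => ?_⟩
    have hne1 : T' ≠ 1 := fun h => htR ((QuotientGroup.eq_one_iff (N := R.subgroupOf Q) _).mp h)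
    have := Fact.mk hp
    obtain ⟨i, hi⟩ := mem_powers_of_prime_card hc (g' := QuotientGroup.mk (⟨x, hx⟩ : Q)) hne1
    change T' ^ i = _ at hi
    rw [← QuotientGroup.mk_pow, QuotientGroup.eq] at hi
    have hi' : (t ^ i)⁻¹ * x ∈ R := hi
    refine ⟨i % p, Nat.mod_lt _ hp.pos, (t ^ p) ^ (i / p) * ((t ^ i)⁻¹ * x),
      R.mul_mem (R.pow_mem htp _) hi', ?_⟩
    rw [← mul_assoc, ← pow_mul, ← pow_add, Nat.mod_add_div, mul_inv_cancel_left]
  have habel : ∀ a ∈ R, ∀ b ∈ R, a * b = b * a := by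
    by_cases hNa : ∀ a ∈ N, ∀ b ∈ N, a * b = b * a
    · exact fun a ha b hb => hNa a ha.1 b hb.1
    have hNor := hN
    have hcent : centralizer (N : Set G) = ⊥ := by
      by_contra hcb
      have h1 : centralizer (N : Set G) ⊓ N = ⊥ := by
        by_contra h2
        refine hNa fun a ha b hb => ?_
        have h3 := hNmin ⟨inferInstance, h2⟩ inf_le_right
        exact (mem_centralizer_iff.mp (h3 hb).1 a ha)
      refine hC (le_bot_iff.mp (h1 ▸ le_inf ?_ ?_))
      · exact (hCN _ inferInstance hcb).trans inf_le_left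
      · exact hCR.trans inf_le_left
    have hNZ : ∀ z ∈ N, (∀ n ∈ N, n * z = z * n) → z = 1 := by
      intro z hz h
      have : z ∈ centralizer (N : Set G) := mem_centralizer_iff.mpr h
      rwa [hcent, mem_bot] at this
    -- sylow of N
    have hSN : ¬ p ∣ R.relIndex N := by
      rw [hRdef, inf_comm]; exact CfsgLib.Fusion.Basic.not_dvd_relIndex_of_normal P N
    let SN : Sylow p N := CfsgLib.Fusion.Basic.sylowSubgroupOf inf_le_left (hQp.to_le hRQ) hSN
    have hsub : ∀ A : Subgroup G, A ≤ N → (∀ n ∈ N, ∀ a ∈ A, n * a * n⁻¹ ∈ A) →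
        (∀ a ∈ A, a ∈ R → a = 1) → A = ⊥ := by
      intro A hA hAn hAR
      have : (A.subgroupOf N).Normal := ⟨fun a ha n => hAn n n.2 a ha⟩
      have h1 := CfsgLib.Fusion.Basic.coprime_card_of_inf_sylow_eq_bot SN (A.subgroupOf N) (by
        rw [eq_bot_iff]
        intro a ha
        rw [mem_bot, ← Subtype.coe_inj]
        exact hAR a ha.2 ha.1)
      refine le_bot_iff.mp (hcore ▸ CfsgLib.Components.le_pPrimeCore_of_subnormal ?_ ?_)
      · exact IsSubnormal.trans hA this.isSubnormal hN.isSubnormal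
      · rwa [Nat.card_congr (subgroupOfEquivOfLe hA).toEquiv] at h1
    have hsplit : ∀ A B : Subgroup G, A ≤ N → B ≤ N → (∀ n ∈ N, ∀ a ∈ A, n * a * n⁻¹ ∈ A) →
        (∀ n ∈ N, ∀ a ∈ B, n * a * n⁻¹ ∈ B) → A ⊓ B = ⊥ → N ≤ A ⊔ B →
        ∀ r ∈ R, ∃ a ∈ A ⊓ R, ∃ b ∈ B ⊓ R, a * b = r := by
      intro A B hA hB hAn hBn hAB hNAB r hr
      have : (A.subgroupOf N).Normal := ⟨fun a ha n => hAn n n.2 a ha⟩
      have : (B.subgroupOf N).Normal := ⟨fun a ha n => hBn n n.2 a ha⟩
      obtain ⟨a, ha, b, hb, haS, hbS, hab⟩ := split SN (A.subgroupOf N) (B.subgroupOf N)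
        (by
          rw [eq_bot_iff]; intro z hz
          have h1 : (z : G) ∈ A ⊓ B := ⟨hz.1, hz.2⟩
          rw [hAB, mem_bot] at h1
          rw [mem_bot]; exact Subtype.ext h1)
        (by
          rw [← subgroupOf_sup hA hB, subgroupOf_eq_top]
          exact hNAB)
        (r := ⟨r, hr.1⟩) hr
      exact ⟨a, ⟨ha, haS⟩, b, ⟨hb, hbS⟩, congrArg Subtype.val hab⟩
    -- a minimal N-invariant subgroup T
    obtain ⟨T, ⟨hTN, hTb, hTn⟩, hTmin⟩ := Set.Finite.exists_minimal (Set.toFinite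
        {T : Subgroup G | T ≤ N ∧ T ≠ ⊥ ∧ ∀ n ∈ N, ∀ a ∈ T, n * a * n⁻¹ ∈ T})
      ⟨N, le_rfl, hNb, fun n hn a ha => N.mul_mem (N.mul_mem hn ha) (N.inv_mem hn)⟩
    have hTne : T ≠ N := by
      intro hTeq
      refine hnas ⟨N, hN, ?_, fun h => hNa fun a ha b hb => ?_, hcent⟩
      · have : Nontrivial N := N.nontrivial_iff_ne_bot.mpr hNb
        refine ⟨fun H hH => ?_⟩
        by_cases hb : H = ⊥
        · exact Or.inl hb
        right
        have h1 : H.map N.subtype ≤ N := map_subtype_le H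
        have h2 := hTmin (y := H.map N.subtype) ⟨h1,
          fun h => hb ((map_eq_bot_iff_of_injective _ (subtype_injective N)).mp h), by
            rintro n hn _ ⟨a, ha, rfl⟩
            exact ⟨⟨n, hn⟩ * a * ⟨n, hn⟩⁻¹, hH.conj_mem a ha _, rfl⟩⟩ (hTeq ▸ h1)
        rw [hTeq] at h2
        rw [eq_top_iff]
        intro a _
        obtain ⟨b, hb', hba⟩ := h2 a.2
        exact (subtype_injective N hba) ▸ hb'
      · exact congrArg Subtype.val (h.is_comm.comm (⟨a, ha⟩ : N) ⟨b, hb⟩)
    let U : G → Subgroup G := fun g => T.map (cj g)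
    have hU1 : U 1 = T := cj_eq_self (by simp)
    have hUmul : ∀ a b : G, (U b).map (cj a) = U (a * b) := fun a b => map_cj_mul T a b
    have hUN : ∀ g, U g ≤ N := by
      rintro g _ ⟨x, hx, rfl⟩
      exact hN.conj_mem x (hTN hx) g
    have hUn : ∀ g, ∀ n ∈ N, ∀ a ∈ U g, n * a * n⁻¹ ∈ U g := by
      intro g n hn a ha
      rw [mem_cj] at ha ⊢
      have := hTn (g⁻¹ * n * g) (by simpa using hN.conj_mem n hn g⁻¹) _ ha
      simpa [mul_assoc] using this
    have hUr : ∀ a, ∀ r ∈ N, U (a * r) = U a := by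
      intro a r hr
      rw [← hUmul a r]
      exact congrArg (Subgroup.map (cj a)) (cj_eq_self (hTn r hr))
    have hdich : ∀ g h, U g ⊓ U h = ⊥ ∨ U g = U h := by
      intro g h
      by_cases hb : U g ⊓ U h = ⊥
      · exact Or.inl hb
      right
      set X := (U g ⊓ U h).map (cj g⁻¹)
      have hXT : X ≤ T := by
        refine (map_mono inf_le_left).trans ?_
        rw [hUmul, inv_mul_cancel, hU1]
      have hX : T ≤ X := hTmin ⟨hXT.trans hTN,
        fun hx => hb ((map_eq_bot_iff_of_injective _ (MulAut.conj g⁻¹).injective).mp hx), by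
          intro n hn a ha
          rw [mem_cj, inv_inv] at ha ⊢
          have hn' : g * n * g⁻¹ ∈ N := hN.conj_mem n hn g
          have h1 := hUn g _ hn' _ ha.1
          have h2 := hUn h _ hn' _ ha.2
          exact ⟨by simpa [mul_assoc] using h1, by simpa [mul_assoc] using h2⟩⟩ hXT
      have hc : Nat.card T ≤ Nat.card (U g ⊓ U h : Subgroup G) := by
        rw [← card_cj (U g ⊓ U h) g⁻¹]
        exact Nat.le_of_dvd Nat.card_pos (card_dvd_of_le hX)
      have e1 : U g ⊓ U h = U g := Subgroup.eq_of_le_of_card_ge inf_le_left ((card_cj T g).le.trans hc)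
      have e2 : U g ⊓ U h = U h := Subgroup.eq_of_le_of_card_ge inf_le_right ((card_cj T h).le.trans hc)
      exact e1.symm.trans e2
    have hUcomm : ∀ g h, U g ⊓ U h = ⊥ → ∀ a ∈ U g, ∀ b ∈ U h, Commute a b := fun g h hb a ha b hb' =>
      commute_of_inf hb ha hb' (hUn g b (hUN h hb') _ ((U g).inv_mem ha)) (hUn h a (hUN g ha) b hb')
    -- N is generated by all conjugates of T
    have hgenN : N ≤ ⨆ g, U g := by
      have hn' : (⨆ g, U g).Normal := ⟨fun x hx g => by
        have h1 : cj g x ∈ (⨆ h, U h).map (cj g) := ⟨x, hx, rfl⟩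
        rw [Subgroup.map_iSup] at h1
        refine (iSup_le fun h => ?_ : (⨆ h, (U h).map (cj g)) ≤ ⨆ h, U h) h1
        rw [hUmul]; exact le_iSup U (g * h)⟩
      refine hNmin ⟨hn', fun h => hTb ?_⟩ (iSup_le hUN)
      exact le_bot_iff.mp (h ▸ hU1 ▸ le_iSup U 1)
    set O : Subgroup G := ⨆ u : Q, U (u : G) with hOdef
    set O' : Subgroup G := N ⊓ centralizer (O : Set G) with hO'def
    have hON : O ≤ N := iSup_le fun u => hUN u
    have hTO : T ≤ O := hU1 ▸ le_iSup (fun u : Q => U (u : G)) 1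
    have hOn : ∀ x, (x ∈ N ∨ x ∈ Q) → ∀ a ∈ O, x * a * x⁻¹ ∈ O := by
      intro x hx a ha
      have h1 : cj x a ∈ O.map (cj x) := ⟨a, ha, rfl⟩
      rw [hOdef, Subgroup.map_iSup] at h1
      refine (iSup_le fun u => ?_ : (⨆ u : Q, (U (u : G)).map (cj x)) ≤ O) h1
      rcases hx with hx | hx
      · rw [cj_eq_self (hUn u x hx)]; exact le_iSup (fun u : Q => U (u : G)) u
      · rw [hUmul]; exact le_iSup (fun u : Q => U (u : G)) ⟨x * u, Q.mul_mem hx u.2⟩
    have hO'n : ∀ x, (x ∈ N ∨ x ∈ Q) → ∀ a ∈ O', x * a * x⁻¹ ∈ O' := by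
      intro x hx a ha
      refine ⟨hN.conj_mem a ha.1 x, mem_centralizer_iff.mpr fun o ho => ?_⟩
      have hinv : x⁻¹ ∈ N ∨ x⁻¹ ∈ Q := hx.imp N.inv_mem Q.inv_mem
      have h1 := mem_centralizer_iff.mp ha.2 _ (hOn _ hinv o ho)
      have h2 := congrArg (fun z => x * z * x⁻¹) h1
      simpa [mul_assoc] using h2
    have hsup : N ≤ O ⊔ O' := by
      refine hgenN.trans (iSup_le fun g => ?_)
      by_cases h : ∃ u : Q, U g = U u
      · obtain ⟨u, hu⟩ := h
        rw [hu]; exact le_sup_of_le_left (le_iSup (fun u : Q => U (u : G)) u)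
      · refine le_sup_of_le_right (le_inf (hUN g) (le_centralizer_iff.mp ?_))
        refine iSup_le fun u => fun b hb => mem_centralizer_iff.mpr fun a ha => ?_
        exact hUcomm g u ((hdich g u).resolve_right fun e => h ⟨u, e⟩) a ha b hb
    have hOO : O ⊓ O' = ⊥ := by
      rw [eq_bot_iff]
      intro z hz
      rw [mem_bot]
      refine hNZ z (hON hz.1) fun n hn => ?_
      have h1 : O ⊔ O' ≤ centralizer ({z} : Set G) := by
        refine sup_le (fun o ho => ?_) (fun o ho => ?_)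
        · exact mem_centralizer_singleton_iff.mpr (mem_centralizer_iff.mp hz.2.2 o ho)
        · exact mem_centralizer_singleton_iff.mpr (mem_centralizer_iff.mp ho.2 z hz.1).symm
      exact mem_centralizer_singleton_iff.mp (h1 (hsup hn))
    have hsp := hsplit O O' hON inf_le_left (fun n hn => hOn n (Or.inl hn))
      (fun n hn => hO'n n (Or.inl hn)) hOO hsup
    have hinfn : ∀ A : Subgroup G, (∀ x, (x ∈ N ∨ x ∈ Q) → ∀ a ∈ A, x * a * x⁻¹ ∈ A) →
        ∀ x ∈ Q, ∀ r ∈ A ⊓ R, x * r * x⁻¹ ∈ A ⊓ R :=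
      fun A hA x hx r hr => ⟨hA x (Or.inr hx) r hr.1, hRn x hx r hr.2⟩
    have hO' : O' = ⊥ := by
      by_cases hOC : O ⊓ R ≤ C
      · exfalso
        have h2 : C ≤ O' ⊓ R := by
          refine absorb hQp hidx (inf_le_right.trans hRQ) (hinfn O' hO'n) fun h => hRC ?_
          intro r hr
          obtain ⟨a, ha, b, hb, rfl⟩ := hsp r hr
          exact C.mul_mem (hOC ha) (h hb)
        refine hTb (le_bot_iff.mp (hTO.trans (hsub O hON (fun n hn => hOn n (Or.inl hn)) fun a ha haR => ?_).le))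
        have h3 : a ∈ O ⊓ O' := ⟨ha, (h2 (hOC ⟨ha, haR⟩)).1⟩
        rwa [hOO, mem_bot] at h3
      · have h2 : C ≤ O ⊓ R := absorb hQp hidx (inf_le_right.trans hRQ) (hinfn O hOn) hOC
        refine hsub O' inf_le_left (fun n hn => hO'n n (Or.inl hn)) fun a ha haR => ?_
        by_cases h4 : O' ⊓ R ≤ C
        · have h3 : a ∈ O ⊓ O' := ⟨(h2 (h4 ⟨ha, haR⟩)).1, ha⟩
          rwa [hOO, mem_bot] at h3
        · exfalso
          have h5 := absorb hQp hidx (inf_le_right.trans hRQ) (hinfn O' hO'n) h4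
          refine hC (le_bot_iff.mp (hOO ▸ le_inf (h2.trans inf_le_left) (h5.trans inf_le_left)))
    have hNO : N ≤ O := by rwa [hO', sup_bot_eq] at hsup
    obtain ⟨t, htQ, htT⟩ : ∃ t ∈ Q, U t ≠ T := by
      by_contra h
      push Not at h
      exact hTne (le_antisymm hTN (hNO.trans (iSup_le fun u => (h u u.2).le)))
    have htR : t ∉ R := fun h => htT (cj_eq_self (hTn t h.1))
    have hne : R ≠ Q := fun h => htR (h ▸ htQ)
    obtain ⟨htp, hgt⟩ := hgen hne t htQ htR
    have hstab : ∀ j, 0 < j → j < p → T ⊓ U (t ^ j) = ⊥ := by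
      intro j hj hjp
      refine ((hU1 ▸ hdich 1 (t ^ j)).resolve_right fun e => htT ?_)
      let St : Subgroup G :=
        { carrier := {x | U x = T}
          one_mem' := hU1
          mul_mem' := fun {a b} (ha : U a = T) (hb : U b = T) => show U (a * b) = T by
            rw [← hUmul, hb]; exact ha
          inv_mem' := fun {a} (ha : U a = T) => show U a⁻¹ = T by
            calc U a⁻¹ = (U a).map (cj a⁻¹) := by rw [ha]
              _ = T := by rw [hUmul, inv_mul_cancel, hU1] }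
      have h1 : t ^ j ∈ St := e.symm
      have h2 : t ^ p ∈ St := cj_eq_self (hTn _ htp.1)
      show t ∈ St
      have hg := Nat.gcd_eq_gcd_ab j p
      have hco : Nat.gcd j p = 1 := ((hp.coprime_iff_not_dvd.mpr fun h => absurd (Nat.le_of_dvd hj h) (by omega)).symm)
      rw [hco, Nat.cast_one] at hg
      have : t = (t ^ j) ^ Nat.gcdA j p * (t ^ p) ^ Nat.gcdB j p := by
        rw [← zpow_natCast t j, ← zpow_natCast t p, ← zpow_mul, ← zpow_mul, ← zpow_add, ← hg, zpow_one]
      rw [this]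
      exact St.mul_mem (St.zpow_mem h1 _) (St.zpow_mem h2 _)
    have hNU : ∀ z, (∀ j < p, ∀ a ∈ U (t ^ j), Commute a z) → ∀ n ∈ N, n * z = z * n := by
      intro z hz n hn
      have h1 : O ≤ centralizer ({z} : Set G) := by
        refine iSup_le fun u => ?_
        obtain ⟨i, hi, r, hr, hu⟩ := hgt u u.2
        rw [hu, hUr _ r hr.1]
        exact fun a ha => mem_centralizer_singleton_iff.mpr (hz i hi a ha)
      exact mem_centralizer_singleton_iff.mp (h1 (hNO hn))
    set K : Subgroup G := N ⊓ centralizer (T : Set G) with hKdef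
    have hKn : ∀ n ∈ N, ∀ a ∈ K, n * a * n⁻¹ ∈ K := by
      intro n hn a ha
      refine ⟨hN.conj_mem a ha.1 n, mem_centralizer_iff.mpr fun o ho => ?_⟩
      have h1 := mem_centralizer_iff.mp ha.2 _ (hTn n⁻¹ (N.inv_mem hn) o ho)
      have h2 := congrArg (fun z => n * z * n⁻¹) h1
      simpa [mul_assoc] using h2
    have hUK : ∀ j, 0 < j → j < p → U (t ^ j) ≤ K := fun j hj hjp => le_inf (hUN _)
      fun b hb => mem_centralizer_iff.mpr fun a ha =>
        (hUcomm 1 (t ^ j) (by rw [hU1]; exact hstab j hj hjp) a (by rw [hU1]; exact ha) b hb).eq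
    have hTK : T ⊓ K = ⊥ := by
      rw [eq_bot_iff]
      intro z hz
      rw [mem_bot]
      refine hNZ z (hTN hz.1) (hNU z fun j hj a ha => ?_)
      rcases Nat.eq_zero_or_pos j with rfl | hj0
      · rw [pow_zero, hU1] at ha
        exact mem_centralizer_iff.mp hz.2.2 a ha
      · exact (mem_centralizer_iff.mp (hUK j hj0 hj ha).2 z hz.1).symm
    have hNTK : N ≤ T ⊔ K := by
      refine hNO.trans (iSup_le fun u => ?_)
      obtain ⟨i, hi, r, hr, hu⟩ := hgt u u.2
      rw [hu, hUr _ r hr.1]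
      rcases Nat.eq_zero_or_pos i with rfl | hi0
      · rw [pow_zero, hU1]; exact le_sup_left
      · exact (hUK i hi0 hi).trans le_sup_right
    have : (K.subgroupOf N).Normal := ⟨fun a ha n => hKn n n.2 a ha⟩
    let φ : R →* ↥N ⧸ K.subgroupOf N := (QuotientGroup.mk' _).comp (Subgroup.inclusion inf_le_left)
    let c : ℕ → (R →* R) := fun j => ((cj (t ^ j)).comp R.subtype).codRestrict R
      fun r => hRn _ (Q.pow_mem htQ j) r r.2
    let f : R →* Abelianization φ.range := Abelianization.of.comp φ.rangeRestrict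
    let μ : R →* Abelianization φ.range := ∏ j ∈ Finset.range p, f.comp (c j)
    have hμ : ∀ r, μ r = ∏ j ∈ Finset.range p, f (c j r) := fun r => by
      simp [μ, MonoidHom.finsetProd_apply]
    have hμR : ∀ a r : R, μ (a * r * a⁻¹) = μ r := by
      intro a r
      rw [map_mul, map_mul, map_inv, mul_comm (μ a), mul_inv_cancel_right]
    have hμt : ∀ r, μ (c 1 r) = μ r := by
      intro r
      have hstep : ∀ j, c j (c 1 r) = c (j + 1) r := fun j => Subtype.ext (by
        show t ^ j * (t ^ 1 * (r : G) * (t ^ 1)⁻¹) * (t ^ j)⁻¹ = t ^ (j + 1) * (r : G) * (t ^ (j + 1))⁻¹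
        rw [pow_succ t j, pow_one]; simp [mul_assoc])
      have hp0 : f (c p r) = f (c 0 r) := by
        have : c p r = ⟨t ^ p, htp⟩ * c 0 r * (⟨t ^ p, htp⟩ : R)⁻¹ := Subtype.ext (by
          show t ^ p * (r : G) * (t ^ p)⁻¹ = t ^ p * (t ^ 0 * (r : G) * (t ^ 0)⁻¹) * (t ^ p)⁻¹
          simp)
        rw [this, map_mul, map_mul, map_inv, mul_comm (f ⟨t ^ p, htp⟩), mul_inv_cancel_right]
      rw [hμ, hμ]
      simp_rw [hstep]
      refine mul_right_cancel (b := f (c 0 r)) ?_
      rw [← Finset.prod_range_succ' (fun j => f (c j r)), Finset.prod_range_succ, hp0]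
    have hμi : ∀ (i : ℕ) (r : R), μ (c i r) = μ r := by
      intro i
      induction i with
      | zero => intro r; congr 1; exact Subtype.ext (by show t ^ 0 * (r : G) * (t ^ 0)⁻¹ = r; simp)
      | succ i ih =>
        intro r
        have : c (i + 1) r = c i (c 1 r) := Subtype.ext (by
          show t ^ (i + 1) * (r : G) * (t ^ (i + 1))⁻¹ = t ^ i * (t ^ 1 * (r : G) * (t ^ 1)⁻¹) * (t ^ i)⁻¹
          rw [pow_succ]; simp [mul_assoc])
        rw [this, ih, hμt]
    have hCK : C ≤ μ.ker.map R.subtype := by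
      refine comm_le hRQ htQ (fun x hx => (hgt x hx).imp fun i hi => hi.2) ?_ ?_ ?_
      · intro x hx k hk
        obtain ⟨k, hk, rfl⟩ := hk
        obtain ⟨i, -, a, ha, rfl⟩ := hgt x hx
        refine ⟨c i (⟨a, ha⟩ * k * ⟨a, ha⟩⁻¹), ?_, ?_⟩
        · show μ _ = 1
          rw [hμi, hμR]; exact hk
        · show t ^ i * (a * (k : G) * a⁻¹) * (t ^ i)⁻¹ = t ^ i * a * (k : G) * (t ^ i * a)⁻¹
          simp [mul_assoc]
      · intro r hr s hs
        refine ⟨⁅(⟨r, hr⟩ : R), ⟨s, hs⟩⁆, ?_, rfl⟩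
        show μ _ = 1
        rw [map_commutatorElement, commutatorElement_eq_one_iff_mul_comm]
        exact mul_comm _ _
      · intro r hr
        refine ⟨c 1 ⟨r, hr⟩ * (⟨r, hr⟩ : R)⁻¹, ?_, ?_⟩
        · show μ _ = 1
          rw [map_mul, map_inv, hμt, mul_inv_cancel]
        · show t ^ 1 * r * (t ^ 1)⁻¹ * r⁻¹ = ⁅t, r⁆
          rw [pow_one, commutatorElement_def]
    have hsurj : Function.Surjective μ := by
      intro A
      obtain ⟨⟨_, r, rfl⟩, rfl⟩ := QuotientGroup.mk'_surjective _ A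
      obtain ⟨a, ha, b, hb, hab⟩ := hsplit T K hTN inf_le_left hTn hKn hTK hNTK r r.2
      refine ⟨⟨a, ha.2⟩, ?_⟩
      have hcj : ∀ j, j ∈ Finset.range p → j ≠ 0 → f (c j ⟨a, ha.2⟩) = 1 := by
        intro j hj hj0
        have h1 : φ (c j ⟨a, ha.2⟩) = 1 := by
          refine (QuotientGroup.eq_one_iff _).mpr ?_
          exact hUK j (Nat.pos_of_ne_zero hj0) (Finset.mem_range.mp hj) ⟨a, ha.1, rfl⟩
        have h2 : φ.rangeRestrict (c j ⟨a, ha.2⟩) = 1 := Subtype.ext h1
        show Abelianization.of (φ.rangeRestrict (c j ⟨a, ha.2⟩)) = 1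
        rw [h2, map_one]
      rw [hμ, Finset.prod_eq_single_of_mem 0 (Finset.mem_range.mpr hp.pos) hcj]
      show Abelianization.of (φ.rangeRestrict (c 0 ⟨a, ha.2⟩)) = Abelianization.of _
      congr 1
      apply Subtype.ext
      show φ (c 0 ⟨a, ha.2⟩) = φ r
      refine QuotientGroup.eq.mpr ?_
      show ((t ^ 0 * a * (t ^ 0)⁻¹)⁻¹ * (r : G)) ∈ K
      rw [pow_zero, ← hab]
      simpa using hb.1
    have hSc : IsCyclic (φ.range ⧸ commutator φ.range) := by
      refine isCyclic_of_card_dvd_prime (p := p) ?_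
      have hc : Nat.card (Abelianization φ.range) ∣ p := by
        rw [← card_top (G := Abelianization φ.range), ← MonoidHom.range_eq_top.mpr hsurj, ← index_ker,
          ← (hidxR hne).2]
        refine index_dvd_of_le (fun x hx => ?_)
        obtain ⟨y, hy, hyx⟩ := hCK hx
        exact (Subtype.ext hyx : y = x) ▸ hy
      exact hc
    have hS := CfsgLib.Fusion.MaxClass.commutator_eq_bot_of_cyclic
      ((hQp.to_le hRQ).of_surjective φ.rangeRestrict φ.rangeRestrict_surjective) hSc
    intro a ha b hb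
    refine commutatorElement_eq_one_iff_mul_comm.mp (hNZ _ (N.mul_mem (N.mul_mem (N.mul_mem ha.1 hb.1) (N.inv_mem ha.1)) (N.inv_mem hb.1)) (hNU _ fun j hj z hz => ?_))
    -- move the commutator back to T
    have hgt' : ∃ i : ℕ, ∃ q ∈ R, (t ^ j)⁻¹ = t ^ i * q := (hgt _ (Q.inv_mem (Q.pow_mem htQ j))).imp fun i hi => hi.2
    obtain ⟨i, q, hq, hiq⟩ := hgt'
    have hmem : ∀ r : R, (t ^ j)⁻¹ * (r : G) * t ^ j ∈ R := fun r => by
      have := hRn _ (Q.inv_mem (Q.pow_mem htQ j)) r r.2
      simpa using this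
    let a' : R := ⟨_, hmem ⟨a, ha⟩⟩
    let b' : R := ⟨_, hmem ⟨b, hb⟩⟩
    have h1 : ⁅φ.rangeRestrict a', φ.rangeRestrict b'⁆ = 1 :=
      mem_bot.mp (hS ▸ commutator_mem_commutator (mem_top _) (mem_top _))
    rw [← map_commutatorElement] at h1
    have h2 : φ ⁅a', b'⁆ = 1 := congrArg Subtype.val h1
    have h3 : ((⁅a', b'⁆ : R) : G) ∈ K := (QuotientGroup.eq_one_iff (N := K.subgroupOf N) _).mp h2
    rw [mem_cj] at hz
    have h4 := mem_centralizer_iff.mp h3.2 _ hz
    have h5 := congrArg (fun w => t ^ j * w * (t ^ j)⁻¹) h4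
    show z * (a * b * a⁻¹ * b⁻¹) = (a * b * a⁻¹ * b⁻¹) * z
    simpa [a', b', commutatorElement_def, mul_assoc] using h5
  have hne : R ≠ Q := by
    intro h
    refine hC (le_bot_iff.mp (commutator_le.mpr fun a ha b hb => ?_))
    rw [mem_bot, commutatorElement_eq_one_iff_mul_comm]
    exact habel a (h ▸ ha) b (h ▸ hb)
  obtain ⟨t0, ht0Q, ht0R⟩ : ∃ t ∈ Q, t ∉ R := by
    by_contra h
    push Not at h
    exact hne (le_antisymm hRQ h)
  have hcentQ : ∀ t ∈ Q, t ∉ R → Nat.card (Q ⊓ centralizer ({t} : Set G) : Subgroup G) = p ^ 2 := by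
    intro t ht htR
    obtain ⟨htp, hgt⟩ := hgen hne t ht htR
    have hmem : ∀ r ∈ R, ⁅t, r⁆ ∈ R := fun r hr => by
      rw [commutatorElement_def]; exact R.mul_mem (hRn t ht r hr) (R.inv_mem hr)
    let θ : R →* R := MonoidHom.mk' (fun r => ⟨⁅t, (r : G)⁆, hmem r r.2⟩) (fun r s => Subtype.ext (by
      show ⁅t, (r : G) * s⁆ = ⁅t, (r : G)⁆ * ⁅t, (s : G)⁆
      have h1 : t * ((r : G) * s) * t⁻¹ * ((r : G) * s)⁻¹ =
          (t * r * t⁻¹) * ((t * s * t⁻¹ * (s : G)⁻¹) * (r : G)⁻¹) := by group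
      have hh := habel _ (hmem s s.2) _ (R.inv_mem r.2)
      rw [commutatorElement_def] at hh
      rw [commutatorElement_def, commutatorElement_def, commutatorElement_def, h1, hh]
      group))
    have hrange : θ.range.map R.subtype = C := by
      refine le_antisymm ?_ ?_
      · rintro _ ⟨_, ⟨r, rfl⟩, rfl⟩
        exact commutator_mem_commutator ht (hRQ r.2)
      · refine comm_le hRQ ht (fun x hx => (hgt x hx).imp fun i hi => hi.2) ?_ ?_ ?_
        · rintro x hx _ ⟨_, ⟨r, rfl⟩, rfl⟩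
          obtain ⟨i, -, a, ha, rfl⟩ := hgt x hx
          refine ⟨_, ⟨⟨t ^ i * (r : G) * (t ^ i)⁻¹, hRn _ (Q.pow_mem ht i) r r.2⟩, rfl⟩, ?_⟩
          show ⁅t, t ^ i * (r : G) * (t ^ i)⁻¹⁆ = t ^ i * a * ⁅t, (r : G)⁆ * (t ^ i * a)⁻¹
          have h1 : t ^ i * a * ⁅t, (r : G)⁆ * (t ^ i * a)⁻¹ = t ^ i * ⁅t, (r : G)⁆ * (t ^ i)⁻¹ := by
            rw [mul_inv_rev, mul_assoc (t ^ i) a, habel a ha _ (hmem r r.2)]
            simp [mul_assoc]
          rw [h1, commutatorElement_def, commutatorElement_def]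
          have hc : t ^ i * t = t * t ^ i := (Commute.pow_self t i).eq
          calc t * (t ^ i * (r : G) * (t ^ i)⁻¹) * t⁻¹ * (t ^ i * (r : G) * (t ^ i)⁻¹)⁻¹
              = (t * t ^ i) * (r : G) * (t * t ^ i)⁻¹ * t ^ i * (r : G)⁻¹ * (t ^ i)⁻¹ := by group
            _ = _ := by rw [← hc]; group
        · intro r hr s hs
          rw [commutatorElement_eq_one_iff_mul_comm.mpr (habel r hr s hs)]
          exact one_mem _
        · exact fun r hr => ⟨_, ⟨⟨r, hr⟩, rfl⟩, rfl⟩
    have hker : θ.ker.map R.subtype = R ⊓ centralizer ({t} : Set G) := by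
      ext z
      constructor
      · rintro ⟨r, hr, rfl⟩
        exact ⟨r.2, mem_centralizer_singleton_iff.mpr
          (commutatorElement_eq_one_iff_mul_comm.mp (congrArg Subtype.val hr)).symm⟩
      · rintro ⟨h1, h2⟩
        exact ⟨⟨z, h1⟩, Subtype.ext (commutatorElement_eq_one_iff_mul_comm.mpr
          (mem_centralizer_singleton_iff.mp h2).symm), rfl⟩
    have hk : Nat.card (R ⊓ centralizer ({t} : Set G) : Subgroup G) = p := by
      have h1 := θ.ker.card_mul_index
      rw [index_ker, ← card_map_of_injective (subtype_injective R) (K := θ.ker), hker,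
        ← card_map_of_injective (subtype_injective R) (K := θ.range), hrange] at h1
      have h2 : Nat.card C * C.relIndex R = Nat.card R := by
        rw [relIndex, ← Nat.card_congr (subgroupOfEquivOfLe hCR).toEquiv, card_mul_index]
      rw [(hidxR hne).2, ← h1, mul_comm] at h2
      exact (Nat.eq_of_mul_eq_mul_right Nat.card_pos h2).symm
    set Ct := Q ⊓ centralizer ({t} : Set G)
    have h3 : R ⊓ centralizer ({t} : Set G) ≤ Ct := inf_le_inf_right _ hRQ
    have h4 : (R ⊓ centralizer ({t} : Set G)).relIndex Ct = R.relIndex Ct := by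
      rw [← inf_relIndex_right R Ct]
      congr 1
      ext z
      exact ⟨fun h => ⟨h.1, hRQ h.1, h.2⟩, fun h => ⟨h.1, h.2.2⟩⟩
    have h5 : R.relIndex Ct ≤ p := by
      rw [← (hidxR hne).1]
      exact relIndex_le_of_le_right inf_le_left (by rw [(hidxR hne).1]; exact hp.ne_zero)
    have h6 : R.relIndex Ct ≠ 1 := fun h => htR (relIndex_eq_one.mp h
      ⟨ht, mem_centralizer_singleton_iff.mpr rfl⟩)
    obtain ⟨k, hk'⟩ := (hQp.to_le (inf_le_left : Ct ≤ Q)).index ((R ⊓ centralizer ({t} : Set G)).subgroupOf Ct)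
    rw [← relIndex, h4] at hk'
    have h7 : R.relIndex Ct = p := by
      rcases k with _ | _ | k
      · exact absurd (by simpa using hk') h6
      · simpa using hk'
      · exfalso
        have : p ^ 2 ≤ p := (Nat.pow_le_pow_right hp.pos (by omega)).trans (hk' ▸ h5)
        nlinarith [hp.two_le]
    rw [← card_mul_index ((R ⊓ centralizer ({t} : Set G)).subgroupOf Ct),
      Nat.card_congr (subgroupOfEquivOfLe h3).toEquiv, hk, ← relIndex, h4, h7, sq]
  refine ⟨t0, ?_, ?_⟩
  · obtain ⟨k, hk⟩ := hQp ⟨t0, ht0Q⟩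
    obtain ⟨m, -, hm⟩ := (Nat.dvd_prime_pow hp).mp
      (orderOf_dvd_of_pow_eq_one (by simpa using congrArg Subtype.val hk : t0 ^ p ^ k = 1))
    exact ⟨m, hm⟩
  · have hpo : ∃ k : ℕ, orderOf t0 = p ^ k := by
      obtain ⟨k, hk⟩ := hQp ⟨t0, ht0Q⟩
      obtain ⟨m, -, hm⟩ := (Nat.dvd_prime_pow hp).mp
        (orderOf_dvd_of_pow_eq_one (by simpa using congrArg Subtype.val hk : t0 ^ p ^ k = 1))
      exact ⟨m, hm⟩
    refine le_antisymm ?_ ?_
    · obtain ⟨S⟩ : Nonempty (Sylow p (centralizer ({t0} : Set G))) := inferInstance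
      obtain ⟨g, hgQ, hcg⟩ := hconjQ t0 _ (S.2.map (centralizer ({t0} : Set G)).subtype)
        (hsylow t0 hpo S) (map_subtype_le _)
      rw [card_map_of_injective (subtype_injective _), S.card_eq_multiplicity,
        hcentQ _ hgQ (fun h => ht0R ⟨by simpa [mul_assoc] using hN.conj_mem _ h.1 g, ht0Q⟩)] at hcg
      exact (Nat.pow_le_pow_iff_right hp.one_lt).mp hcg
    · refine (hp.pow_dvd_iff_le_factorization Nat.card_pos.ne').mp ?_
      rw [← hcentQ t0 ht0Q ht0R]
      exact card_dvd_of_le inf_le_right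
end Cfsg.Agent.S4587
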