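import Cfsg.Statements.S4588
import Cfsg.Agent.Lib.Blocks.HeightZeroCount
import Cfsg.Agent.S0936

set_option autoImplicit false
open Cfsg

namespace Cfsg.Agent.S4588

open Cfsg CfsgLib.Blocks

/-- Let G be a finite group, p a prime and M a maximal ideal of the algebraic integers containing p. If some p-element x of G (possibly x = 1) has centralizer whose order has p-part at most p², then the principal p-block of G contains at most p² irreducible characters of degree prime to p. -/
theorem result {G : Type*} [Group G] [Finite G] (p : ℕ) [Fact p.Prime] (M : Ideal Cfsg.AlgInt) (hM : Cfsg.IsPModular p M)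
    (hx : ∃ x : G, (∃ k : ℕ, orderOf x = p ^ k) ∧ (Nat.card (Subgroup.centralizer ({x} : Set G))).factorization p ≤ 2) :
    Nat.card {χ : Cfsg.IrrCharacter G // χ ∈ Cfsg.principalBlock M G ∧ ¬ p ∣ Cfsg.charDegree (χ : G → ℂ)} ≤ p ^ 2 := by
  classical
  let _ : Fintype G := Fintype.ofFinite G
  haveI := Fact.mk hM.1
  obtain ⟨x, ⟨k, hk⟩, hc⟩ := hx
  set B := principalBlock M G
  have hB : IsPBlock M B := isPBlock_principalBlock
  have hB0 : minDegVal p B = 0 := minDegVal_principalBlock hM
  set T := Finset.univ.filter fun χ : IrrCharacter G => χ ∈ B ∧ ¬ p ∣ charDegree (χ : G → ℂ)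
  have hT : ∀ χ ∈ T, χ ∈ B ∧ degVal p χ = minDegVal p B := by
    intro χ hχ
    obtain ⟨h1, h2⟩ := (Finset.mem_filter.1 hχ).2
    refine ⟨h1, ?_⟩
    rw [hB0]
    exact Nat.factorization_eq_zero_of_not_dvd h2
  rw [Nat.card_eq_fintype_card, Fintype.card_subtype]
  show T.card ≤ p ^ 2
  rcases Nat.eq_zero_or_pos k with rfl | hk0
  · have hx1 : x = 1 := orderOf_eq_one_iff.1 (by simpa using hk)
    have htop : Subgroup.centralizer ({x} : Set G) = ⊤ :=
      top_le_iff.1 fun g _ => Subgroup.mem_centralizer_singleton_iff.2 (by simp [hx1])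
    rw [htop, Subgroup.card_top] at hc
    have hd : blockDefect p B = (Nat.card G).factorization p := by
      have := blockDefect_add_min (p := p) (IsPBlock.nonempty hM hB)
      omega
    have h := DefectBound.card_le_bound hM _ G B hB hd
    rw [if_pos hc] at h
    refine le_trans ?_ (h.trans (Nat.pow_le_pow_right hM.1.pos hc))
    rw [Nat.card_eq_card_toFinset]
    exact Finset.card_le_card fun χ hχ => Set.mem_toFinset.2 (hT χ hχ).1
  let K := Subgroup.centralizer ({x} : Set G)
  set b := principalBlock M K
  have hb : IsPBlock M b := isPBlock_principalBlock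
  obtain ⟨B', hind'⟩ := exists_isInducedBlock_centralizer_singleton hM ⟨k, hk⟩ hb
  have hind : IsInducedBlock M K b B :=
    (Cfsg.Agent.S0936.result p M hM K b ⟨B', hind'⟩).2 rfl
  have hd : blockDefect p b = (Nat.card K).factorization p := by
    have := blockDefect_add_min (p := p) (IsPBlock.nonempty hM hb)
    rw [minDegVal_principalBlock hM] at this
    omega
  set z : K := ⟨x, Subgroup.mem_centralizer_singleton_iff.2 rfl⟩
  have hzc : z ∈ Subgroup.center K := Subgroup.mem_center_iff.2 fun c => Subtype.ext
    (Subgroup.mem_centralizer_singleton_iff.1 c.2)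
  have hzo : orderOf z = p ^ k := by rw [← Subgroup.orderOf_coe]; exact hk
  have hkc : k ≤ (Nat.card K).factorization p :=
    (hM.1.pow_dvd_iff_le_factorization Nat.card_pos.ne').1 (hzo ▸ orderOf_dvd_natCard z)
  by_cases hcyc : k = (Nat.card K).factorization p
  · -- the Sylow subgroup of the centralizer is generated by `x`
    have hS : Nat.card (Subgroup.zpowers z) = p ^ (Nat.card K).factorization p := by
      rw [Nat.card_zpowers, hzo, hcyc]
    have hD : IsDefectGroup p M b (Subgroup.zpowers z) :=
      (isDefectGroup_principalBlock_iff hM _).2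
        ⟨Sylow.ofCard (Subgroup.zpowers z) hS, Sylow.coe_ofCard _ hS⟩
    have hl := HeightZeroCount.blockRank_le_one_of_central hM hb (Subgroup.zpowers_le.2 hzc) hD
    refine (Nat.pow_le_pow_iff_left two_ne_zero).1
      ((HeightZeroCount.card_sq_le_of_set hM rfl ⟨k, hk⟩ hind T hT).trans ?_)
    refine (Nat.mul_le_mul_left _ hl).trans ?_
    rw [mul_one, ← pow_mul, hd]
    exact Nat.pow_le_pow_right hM.1.pos (Nat.mul_le_mul_left 2 hc)
  · -- `x` has order `p`, the block of the centralizer defect `2`
    have hc' : (Nat.card K).factorization p ≤ 2 := hc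
    obtain rfl : k = 1 := by omega
    rw [pow_one] at hk
    refine DefectTwo.card_le_of_defect_two hM hk (K := K) rfl hb (by omega) T fun χ hχ => ?_
    by_contra hall
    push Not at hall
    refine contrib_ne_zero_of_min hM hind (x := x) (z := z) rfl hzc (k := 1)
      (by rw [← hzo]; exact pow_orderOf_eq_one z) (hT χ hχ).1 (hT χ hχ).1 (hT χ hχ).2
      (hT χ hχ).2 ?_
    rw [contrib, Finset.sum_eq_zero fun s hs => by
      rw [hall s (Finset.mem_filter.1 hs).2, zero_mul], mul_zero]

end Cfsg.Agent.S4588
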