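import Cfsg.Statements.S4591
import Cfsg.Agent.Lib.CharDeep.PrimeDegreeKernel
import Cfsg.Agent.Lib.Blocks.Eigen
-- import your own Cfsg.Agent.* helpers here

set_option autoImplicit false
open Cfsg

namespace Cfsg.Agent.S4591

/-- Let G be a finite group, p a prime and P a Sylow p-subgroup, and let N be the largest normal subgroup of G in which P has trivial centralizer (N is normal with C_N(P) = 1 and contains every normal subgroup with that property). Then the intersection of the kernels of the irreducible characters of G of degree prime to p is the normal core in G of the subgroup N·P' (P' the derived subgroup of P). In particular, when G has no nontrivial normal subgroup of order prime to p, that intersection is the normal core of P'. -/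
theorem result {G : Type*} [Group G] [Finite G] (p : ℕ) [Fact p.Prime] (P : Sylow p G) (N : Subgroup G) [N.Normal]
    (hN : N ⊓ Subgroup.centralizer ((P : Subgroup G) : Set G) = ⊥)
    (hmax : ∀ L : Subgroup G, L.Normal → L ⊓ Subgroup.centralizer ((P : Subgroup G) : Set G) = ⊥ → L ≤ N) :
    {g : G | ∀ χ : Cfsg.IrrCharacter G, ¬ p ∣ Cfsg.charDegree (χ : G → ℂ) → (χ : G → ℂ) g = (χ : G → ℂ) 1} =
      ((N ⊔ ⁅(P : Subgroup G), (P : Subgroup G)⁆).normalCore : Set G) := by
  classical
  cases nonempty_fintype G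
  obtain ⟨M, hM⟩ := CfsgLib.Blocks.exists_isPModular (Fact.out : p.Prime)
  have hK : ∀ χ : Cfsg.IrrCharacter G, ¬ p ∣ Cfsg.charDegree (χ : G → ℂ) →
      ∀ x ∈ N, (χ : G → ℂ) x = (χ : G → ℂ) 1 := fun χ hd =>
    CfsgLib.CharDeep.PrimeDegreeKernel.apply_eq_one_of_fixedPointFree P hM N hN χ hd
  have hNP : N ⊓ (P : Subgroup G) = ⊥ := by
    refine Subgroup.eq_bot_of_card_le _ (Nat.le_of_eq ?_)
    have h1 : Nat.card (N ⊓ (P : Subgroup G) : Subgroup G) ∣ Nat.card N :=
      Subgroup.card_dvd_of_le inf_le_left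
    obtain ⟨k, hk⟩ := P.2.exists_card_eq
    have h2 : Nat.card (N ⊓ (P : Subgroup G) : Subgroup G) ∣ p ^ k :=
      hk ▸ Subgroup.card_dvd_of_le inf_le_right
    refine Nat.eq_one_of_dvd_coprimes ?_ h1 h2
    exact Nat.Coprime.pow_right k ((Nat.Prime.coprime_iff_not_dvd Fact.out).2
      (CfsgLib.CharDeep.PrimeDegreeKernel.not_dvd_card P N hN)).symm
  ext g
  refine Iff.trans CfsgLib.CharDeep.PrimeDegreeKernel.mem_kerSub.symm ?_
  constructor
  · intro hg
    haveI := CfsgLib.CharDeep.PrimeDegreeKernel.kerSub_normal (p := p) (G := G)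
    exact Subgroup.normal_le_normalCore.2
      (CfsgLib.CharDeep.PrimeDegreeKernel.kerSub_le P hM N hmax) hg
  · intro hg
    refine CfsgLib.CharDeep.PrimeDegreeKernel.mem_kerSub.2 fun χ hd => ?_
    exact CfsgLib.DegreeTools.le_ker_of_sum_ne_zero χ _
      (CfsgLib.CharDeep.PrimeDegreeKernel.sum_ne_zero P N _ hNP
        (Subgroup.normal_le_normalCore.2 le_sup_left)
        (Subgroup.normalCore_le _) χ hd (hK χ hd)) g hg

end Cfsg.Agent.S4591
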