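import Cfsg.Statements.S4593
import Cfsg.Agent.Lib.Involution.ZStar.Weakly
import Cfsg.Agent.Lib.Fusion.Transfer

-- import your own Cfsg.Agent.* helpers here

set_option autoImplicit false
open Cfsg 

namespace Cfsg.Agent.S4593

/-- A 2-power index supplement-free version: an element of a Sylow subgroup fixed by the
normalizer is central when the odd core is trivial. -/
theorem central_of_normalizer_fixed {Γ : Type*} [Group Γ] [Finite Γ] (hO : oddCore Γ = ⊥)
    (S : Sylow 2 Γ) (hab : ∀ a ∈ (S : Subgroup Γ), ∀ b ∈ (S : Subgroup Γ), a * b = b * a) {u : Γ}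
    (hu : u ∈ (S : Subgroup Γ))
    (hN : ∀ n ∈ Subgroup.normalizer ((S : Subgroup Γ) : Set Γ), n * u * n⁻¹ = u) :
    ∀ g : Γ, u * g = g * u := by
  haveI : Fact (Nat.Prime 2) := ⟨Nat.prime_two⟩
  have hc : ∀ x ∈ (S : Subgroup Γ), x ∈ Subgroup.centralizer ((S : Subgroup Γ) : Set Γ) :=
    fun x hx => Subgroup.mem_centralizer_iff.2 fun y hy => hab y hy x hx
  intro g
  have h := CfsgLib.Involution.ZStar.comm_mem_oddCore_of_fixed S hu (fun t ht => by
    obtain ⟨n, hn, he⟩ := CfsgLib.Fusion.Transfer.burnside_central S (hc u hu) (hc _ ht) ⟨t, rfl⟩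
    rw [← he, hN n hn]) g
  rw [hO, Subgroup.mem_bot, mul_inv_eq_one, mul_inv_eq_iff_eq_mul] at h
  exact h

/-- Averaging over the normalizer modulo the Sylow subgroup. -/
theorem exists_fixed {Γ A : Type*} [Group Γ] [Finite Γ] [CommGroup A] (π : Γ →* A) (S : Sylow 2 Γ)
    (hab : ∀ a ∈ (S : Subgroup Γ), ∀ b ∈ (S : Subgroup Γ), a * b = b * a) {b : Γ}
    (hb : b ∈ (S : Subgroup Γ)) :
    ∃ u ∈ (S : Subgroup Γ), ∃ e : ℕ, Odd e ∧ π u = π b ^ e ∧
      ∀ n ∈ Subgroup.normalizer ((S : Subgroup Γ) : Set Γ), n * u * n⁻¹ = u := by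
  classical
  haveI : Fact (Nat.Prime 2) := ⟨Nat.prime_two⟩
  set N := Subgroup.normalizer ((S : Subgroup Γ) : Set Γ)
  set P := (S : Subgroup Γ).subgroupOf N
  letI : CommGroup (S : Subgroup Γ) :=
    { (inferInstance : Group (S : Subgroup Γ)) with
      mul_comm := fun x y => Subtype.ext (hab _ x.2 _ y.2) }
  letI : Fintype (N ⧸ P) := Fintype.ofFinite _
  have hconj : ∀ (n : N) (s : Γ), s ∈ (S : Subgroup Γ) → (n : Γ) * s * (n : Γ)⁻¹ ∈ (S : Subgroup Γ) :=
    fun n s hs => (Subgroup.mem_normalizer_iff.1 n.2 s).1 hs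
  let c : N → (S : Subgroup Γ) := fun n => ⟨(n : Γ) * b * (n : Γ)⁻¹, hconj n b hb⟩
  have hwell : ∀ (n : N) (q : N ⧸ P), (QuotientGroup.mk n : N ⧸ P) = q → c n = c q.out := by
    intro n q hq
    have hm : q.out⁻¹ * n ∈ P := QuotientGroup.eq.1 ((QuotientGroup.out_eq' q).trans hq.symm)
    have hh : ((q.out⁻¹ * n : N) : Γ) * b = b * ((q.out⁻¹ * n : N) : Γ) := hab _ hm _ hb
    refine Subtype.ext ?_
    show (n : Γ) * b * (n : Γ)⁻¹ = (q.out : Γ) * b * (q.out : Γ)⁻¹
    calc (n : Γ) * b * (n : Γ)⁻¹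
        = (q.out : Γ) * (((q.out⁻¹ * n : N) : Γ) * b) * (n : Γ)⁻¹ := by simp [mul_assoc]
      _ = _ := by rw [hh]; simp [mul_assoc]
  refine ⟨((∏ q : N ⧸ P, c q.out : (S : Subgroup Γ)) : Γ), SetLike.coe_mem _,
    Fintype.card (N ⧸ P), ?_, ?_, fun n hn => ?_⟩
  · rw [← Nat.card_eq_fintype_card, ← Subgroup.index_eq_card, ← Nat.not_even_iff_odd,
      even_iff_two_dvd]
    intro h
    exact S.not_dvd_index (h.trans (Subgroup.relIndex_dvd_index_of_le Subgroup.le_normalizer))
  · have h := map_prod (π.comp (S : Subgroup Γ).subtype) (fun q : N ⧸ P => c q.out) Finset.univ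
    rw [MonoidHom.comp_apply, Subgroup.coe_subtype] at h
    rw [h, ← Finset.card_univ, ← Finset.prod_const]
    refine Finset.prod_congr rfl fun q _ => ?_
    simp [c, mul_comm]
  · let κ : (S : Subgroup Γ) →* (S : Subgroup Γ) :=
      { toFun := fun s => ⟨n * (s : Γ) * n⁻¹, hconj ⟨n, hn⟩ _ s.2⟩
        map_one' := Subtype.ext (by simp)
        map_mul' := fun x y => Subtype.ext (by simp [mul_assoc]) }
    have h : κ (∏ q : N ⧸ P, c q.out) = ∏ q : N ⧸ P, c q.out := by
      rw [map_prod]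
      refine Fintype.prod_equiv (MulAction.toPerm (⟨n, hn⟩ : N)) _ _ fun q => ?_
      rw [show (MulAction.toPerm (⟨n, hn⟩ : N)) q = (⟨n, hn⟩ : N) • q from rfl]
      refine Eq.trans ?_ (hwell (⟨n, hn⟩ * q.out) ((⟨n, hn⟩ : N) • q) ?_)
      · exact Subtype.ext (show n * ((q.out : Γ) * b * (q.out : Γ)⁻¹) * n⁻¹
          = n * (q.out : Γ) * b * (n * (q.out : Γ))⁻¹ by simp [mul_assoc])
      · conv_rhs => rw [← QuotientGroup.out_eq' q]
        rfl
    exact congrArg Subtype.val h


/-- Let G be a finite group with trivial centre and no nontrivial normal subgroup of odd order, whose Sylow 2-subgroups are abelian, and let P be a Sylow 2-subgroup. Every automorphism of G of 2-power order that fixes P elementwise is inner. -/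
theorem result {G : Type*} [Group G] [Finite G] (hZ : Subgroup.center G = ⊥) (hcore : Cfsg.pPrimeCore 2 G = ⊥) (P : Sylow 2 G) (hab : IsMulCommutative (P : Subgroup G))
    (α : MulAut G) (h2 : ∃ j : ℕ, orderOf α = 2 ^ j) (hfix : ∀ x ∈ (P : Subgroup G), α x = x) :
    ∃ g : G, ∀ x : G, α x = g * x * g⁻¹ := by
  haveI : Fact (Nat.Prime 2) := ⟨Nat.prime_two⟩
  classical
  obtain ⟨j, hj⟩ := h2
  let A := Subgroup.zpowers α
  have hA : Nat.card A = 2 ^ j := by rw [Nat.card_zpowers, hj]
  haveI : Finite A := Nat.finite_of_card_ne_zero (by rw [hA]; positivity)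
  letI : CommGroup A := { (inferInstance : Group A) with
    mul_comm := fun x y => (IsMulCommutative.is_comm.comm x y : x * y = y * x) }
  let φ : A →* MulAut G := A.subtype
  let Γ := G ⋊[φ] A
  haveI : Finite Γ := Finite.of_equiv _ SemidirectProduct.equivProd.symm
  have hfix' : ∀ a : A, ∀ x ∈ (P : Subgroup G), φ a x = x := by
    rintro ⟨β, hβ⟩ x hx
    have h : A ≤ MulAction.stabilizer (MulAut G) x := Subgroup.zpowers_le.2 (hfix x hx)
    exact h hβ
  -- the Sylow subgroup
  let ι : ↥(P : Subgroup G) × A →* Γ :=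
    { toFun := fun z => ⟨(z.1 : G), z.2⟩
      map_one' := rfl
      map_mul' := fun z w => by
        refine SemidirectProduct.ext ?_ rfl
        show ((z.1 : G) * (w.1 : G)) = (z.1 : G) * φ z.2 (w.1 : G)
        rw [hfix' z.2 _ w.1.2] }
  have hι : Function.Injective ι := fun z w h => by
    have h1 := congrArg SemidirectProduct.left h
    have h2 := congrArg SemidirectProduct.right h
    exact Prod.ext (Subtype.ext h1) h2
  have hcardΓ : Nat.card Γ = Nat.card G * 2 ^ j := by
    show Nat.card (G ⋊[φ] A) = _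
    rw [Nat.card_congr SemidirectProduct.equivProd, Nat.card_prod, hA]
  have hcard : Nat.card ι.range = 2 ^ (Nat.card Γ).factorization 2 := by
    rw [← Nat.card_congr (MonoidHom.ofInjective hι).toEquiv, Nat.card_prod, P.card_eq_multiplicity,
      hA, hcardΓ, Nat.factorization_mul Nat.card_pos.ne' (by positivity), Finsupp.add_apply,
      Nat.prime_two.factorization_pow, Finsupp.single_eq_same, pow_add]
  let S : Sylow 2 Γ := Sylow.ofCard ι.range hcard
  have hcomm : ∀ a ∈ (S : Subgroup Γ), ∀ b ∈ (S : Subgroup Γ), a * b = b * a := by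
    rintro _ ⟨z, rfl⟩ _ ⟨w, rfl⟩
    rw [← map_mul, ← map_mul]
    congr 1
    exact Prod.ext (hab.is_comm.comm z.1 w.1) (mul_comm z.2 w.2)
  -- the odd core is trivial
  have hcop : (Nat.card (oddCore Γ)).Coprime 2 :=
    CfsgLib.Solvable.Cores.coprime_card_pPrimeCore 2
  have hO : oddCore Γ = ⊥ := by
    refine (Subgroup.eq_bot_iff_forall _).2 fun x hx => ?_
    have hr : x.right = 1 := by
      refine orderOf_eq_one_iff.1 (Nat.eq_one_of_dvd_coprimes (hcop.pow_right j)
        ((orderOf_map_dvd SemidirectProduct.rightHom x).trans ?_) (hA ▸ orderOf_dvd_natCard _))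
      have h := orderOf_dvd_natCard (⟨x, hx⟩ : oddCore Γ)
      rwa [← Subgroup.orderOf_coe] at h
    have hK : ((oddCore Γ).comap (SemidirectProduct.inl : G →* Γ)) = ⊥ := by
      refine le_bot_iff.1 (hcore ▸ CfsgLib.Solvable.Cores.le_pPrimeCore ?_)
      refine hcop.coprime_dvd_left ?_
      exact Subgroup.card_comap_dvd_of_injective _ _ SemidirectProduct.inl_injective
    have hx' : x = SemidirectProduct.inl x.left := by
      exact SemidirectProduct.ext rfl hr
    have : x.left ∈ (oddCore Γ).comap (SemidirectProduct.inl : G →* Γ) := by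
      show SemidirectProduct.inl x.left ∈ oddCore Γ
      rwa [← hx']
    rw [hK, Subgroup.mem_bot] at this
    rw [hx', this, map_one]
  obtain ⟨u, hu, e, he, hπ, hN⟩ := exists_fixed (SemidirectProduct.rightHom : Γ →* A) S hcomm
    (b := ι (1, ⟨α, Subgroup.mem_zpowers α⟩)) ⟨_, rfl⟩
  have hcent := central_of_normalizer_fixed hO S hcomm hu hN
  have hr : ((u.right : A) : MulAut G) = α ^ e := congrArg Subtype.val hπ
  -- `α ^ e` is inner, and `e` is odd
  have hinner : α ^ e = MulAut.conj u.left⁻¹ := by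
    ext x
    have h := congrArg SemidirectProduct.left (hcent (SemidirectProduct.inl x))
    rw [SemidirectProduct.mul_left, SemidirectProduct.mul_left, SemidirectProduct.left_inl,
      SemidirectProduct.right_inl, map_one, MulAut.one_apply] at h
    rw [← hr, MulAut.conj_apply, inv_inv, mul_assoc, ← h, inv_mul_cancel_left]
    rfl
  have hcop' : e.Coprime (2 ^ j) :=
    (Nat.prime_two.coprime_iff_not_dvd.2 fun h => Nat.not_even_iff_odd.2 he (even_iff_two_dvd.2 h)).symm.pow_right j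
  obtain ⟨m, hm⟩ : ∃ m, e * m ≡ 1 [MOD 2 ^ j] := by
    rcases j with _ | j
    · exact ⟨0, by simp [Nat.ModEq, Nat.mod_one]⟩
    · obtain ⟨m, -, hm⟩ := Nat.exists_mul_mod_eq_one_of_coprime hcop' (Nat.one_lt_two_pow (by omega))
      exact ⟨m, hm.trans (Nat.mod_eq_of_lt (Nat.one_lt_two_pow (by omega))).symm⟩
  refine ⟨u.left⁻¹ ^ m, fun x => ?_⟩
  have hα : α = MulAut.conj (u.left⁻¹ ^ m) := by
    rw [map_pow, ← hinner, ← pow_mul, ← pow_one α]
    simp only [← pow_mul, one_mul]
    exact (pow_eq_pow_iff_modEq.2 (hj ▸ hm)).symm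
  rw [hα, MulAut.conj_apply]

end Cfsg.Agent.S4593
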