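import Cfsg.Statements.S4604
import Cfsg.Agent.S0876
import Cfsg.Agent.Lib.Blocks.Eigen

set_option autoImplicit false
open Cfsg

namespace Cfsg.Agent.S4604

open Cfsg CfsgLib

/-- Let G be a finite group, p a prime and p^a the p-part of the order of G. Let x, y ∈ G and let x′, y′ be their p-regular parts: x′ has order prime to p, commutes with x·x′⁻¹, and x·x′⁻¹ has p-power order (likewise for y). Then x′ and y′ are conjugate in G if and only if for every irreducible character χ of G the algebraic integer χ(x)^(p^a) − χ(y)^(p^a) is p times an algebraic integer. -/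
theorem result {G : Type*} [Group G] [Finite G] (p : ℕ) [Fact p.Prime] (x y x' y' : G)
    (hx : (∃ k : ℕ, orderOf (x * x'⁻¹) = p ^ k) ∧ Commute (x * x'⁻¹) x' ∧ ¬ p ∣ orderOf x')
    (hy : (∃ k : ℕ, orderOf (y * y'⁻¹) = p ^ k) ∧ Commute (y * y'⁻¹) y' ∧ ¬ p ∣ orderOf y') :
    IsConj x' y' ↔ ∀ χ : Cfsg.IrrCharacter G, ∃ γ : Cfsg.AlgInt,
      (χ : G → ℂ) x ^ (p ^ (Nat.card G).factorization p) - (χ : G → ℂ) y ^ (p ^ (Nat.card G).factorization p) = (p : ℂ) * (γ : ℂ) := by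
  classical
  haveI := Fintype.ofFinite G
  have hp : p.Prime := Fact.out
  set a := (Nat.card G).factorization p with ha
  set P := p ^ a with hPdef
  let Dv : ℂ → Prop := fun z => ∃ γ : Cfsg.AlgInt, z = (p : ℂ) * (γ : ℂ)
  have hadd : ∀ {u v}, Dv u → Dv v → Dv (u + v) := by
    rintro u v ⟨c, rfl⟩ ⟨d, rfl⟩
    exact ⟨c + d, by push_cast; ring⟩
  have hneg : ∀ {u}, Dv u → Dv (-u) := by
    rintro u ⟨c, rfl⟩
    exact ⟨-c, by push_cast; ring⟩
  -- powers of sums of algebraic integers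
  have hsum : ∀ {ι : Type} (s : Finset ι) (f : ι → Cfsg.AlgInt),
      ∃ γ : Cfsg.AlgInt, (∑ i ∈ s, f i) ^ P = ∑ i ∈ s, f i ^ P + (p : Cfsg.AlgInt) * γ := by
    intro ι s f
    induction s using Finset.induction_on with
    | empty => exact ⟨0, by simp [hPdef, zero_pow (pow_ne_zero a hp.ne_zero)]⟩
    | insert i s hi ih =>
      obtain ⟨γ, hγ⟩ := ih
      obtain ⟨r, hr⟩ := (Commute.all (f i) (∑ j ∈ s, f j)).exists_add_pow_prime_pow_eq hp a
      refine ⟨γ + f i * (∑ j ∈ s, f j) * r, ?_⟩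
      rw [Finset.sum_insert hi, Finset.sum_insert hi, hr, hγ]
      ring
  have hpow : ∀ (χ : Cfsg.IrrCharacter G) (g : G), Dv ((χ : G → ℂ) g ^ P - (χ : G → ℂ) (g ^ P)) := by
    intro χ g
    obtain ⟨d, ρ, -, hρ⟩ := χ.2
    obtain ⟨μ, hμ, hk⟩ := Char.exists_eigenvalues ρ g
    let f : Fin (Module.finrank ℂ (Fin d → ℂ)) → Cfsg.AlgInt := fun i =>
      ⟨μ i, Char.isIntegral_of_pow_eq_one (orderOf_pos g).ne' (hμ i)⟩
    obtain ⟨γ, hγ⟩ := hsum Finset.univ f
    refine ⟨γ, ?_⟩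
    have e := congrArg (fun z : Cfsg.AlgInt => (z : ℂ)) hγ
    push_cast at e
    have h1 := hk 1
    simp only [pow_one] at h1
    rw [← congrFun hρ, ← congrFun hρ, h1, hk]
    linear_combination e
  have hcard : P ∣ Nat.card G := Nat.ordProj_dvd _ _
  have hpart : ∀ z z' : G, ((∃ k : ℕ, orderOf (z * z'⁻¹) = p ^ k) ∧ Commute (z * z'⁻¹) z' ∧
      ¬ p ∣ orderOf z') → z ^ P = z' ^ P := by
    rintro z z' ⟨⟨j, hj⟩, hc, -⟩
    have h1 : (z * z'⁻¹) ^ P = 1 := orderOf_dvd_iff_pow_eq_one.1 (by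
      rw [hj, hPdef, ha]
      exact pow_dvd_pow p ((hp.pow_dvd_iff_le_factorization Nat.card_pos.ne').1
        (hj ▸ orderOf_dvd_natCard _)))
    calc z ^ P = (z * z'⁻¹ * z') ^ P := by rw [inv_mul_cancel_right]
      _ = z' ^ P := by rw [hc.mul_pow, h1, one_mul]
  have key : ∀ χ : Cfsg.IrrCharacter G,
      Dv ((χ : G → ℂ) x ^ P - (χ : G → ℂ) y ^ P) ↔
      Dv ((χ : G → ℂ) (x' ^ P) - (χ : G → ℂ) (y' ^ P)) := by
    intro χ
    have ex := hpow χ x
    have ey := hpow χ y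
    rw [hpart x x' hx] at ex
    rw [hpart y y' hy] at ey
    constructor
    · intro h
      convert hadd (hadd h (hneg ex)) ey using 1
      ring
    · intro h
      convert hadd (hadd h ex) (hneg ey) using 1
      ring
  refine Iff.trans ?_ (forall_congr' key).symm
  constructor
  · intro h χ
    obtain ⟨c, hc⟩ := isConj_iff.1 h
    refine ⟨0, ?_⟩
    rw [← hc, conj_pow, Blocks.irr_conj_apply]
    simp
  · intro h
    obtain ⟨M, hM⟩ := Blocks.exists_isPModular hp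
    have hregP : ∀ z : G, ¬ p ∣ orderOf z → ¬ p ∣ orderOf (z ^ P) := fun z hz h1 =>
      hz (h1.trans (orderOf_pow_dvd P))
    have hone : ∀ z : G, ¬ p ∣ orderOf z → Cfsg.IsPPart p (z ^ P) 1 := fun z hz =>
      ⟨z ^ P, one_mul _, Commute.one_left _, ⟨0, by rw [orderOf_one, pow_zero]⟩, hregP z hz⟩
    have hc := (Cfsg.Agent.S0876.result p M hM (x' ^ P) (y' ^ P) 1 1 (hone x' hx.2.2)
      (hone y' hy.2.2)).2 fun χ => by
        obtain ⟨γ, hγ⟩ := h χ
        rw [hγ, mul_comm]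
        exact Blocks.LI.mul_left hM (Blocks.LR.of_algInt hM γ) ((Blocks.LI.natCast_iff hM p).2 dvd_rfl)
    rw [inv_one, one_mul, one_mul] at hc
    obtain ⟨c, hc⟩ := isConj_iff.1 hc
    -- undo the power
    have hroot : ∀ j : ℕ, c * (x' ^ P) ^ j * c⁻¹ = (y' ^ P) ^ j := fun j => by
      rw [← hc, conj_pow]
    have hcop : Nat.Coprime P (orderOf x' * orderOf y') :=
      Nat.Coprime.pow_left a (Nat.Coprime.mul_right ((hp.coprime_iff_not_dvd).2 hx.2.2)
        ((hp.coprime_iff_not_dvd).2 hy.2.2))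
    obtain ⟨j, hj⟩ : ∃ j : ℕ, P * j ≡ 1 [MOD orderOf x' * orderOf y'] := by
      refine ⟨P ^ ((orderOf x' * orderOf y').totient - 1), ?_⟩
      rw [← pow_succ', Nat.sub_add_cancel
        (Nat.totient_pos.mpr (Nat.mul_pos (orderOf_pos x') (orderOf_pos y')))]
      exact Nat.ModEq.pow_totient hcop
    refine isConj_iff.2 ⟨c, ?_⟩
    have e := hroot j
    rw [← pow_mul, ← pow_mul,
      (pow_eq_pow_iff_modEq (x := x')).2 (Nat.ModEq.of_dvd (dvd_mul_right _ _) hj),
      (pow_eq_pow_iff_modEq (x := y')).2 (Nat.ModEq.of_dvd (dvd_mul_left _ _) hj),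
      pow_one, pow_one] at e
    exact e

end Cfsg.Agent.S4604
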