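import Cfsg.Statements.S4606
import Cfsg.Agent.Lib.DegreeTools.DeficiencyOneSolvable

set_option autoImplicit false
open Cfsg

namespace Cfsg.Agent.S4606

/-- Let G be a finite group, p a prime, M a maximal ideal of the algebraic integers containing p, and B a p-block of G with defect group D. Suppose the number of irreducible characters in B exceeds the p-regular rank of B (the number of irreducible Brauer characters in B) by exactly one. If B is the principal block, or if G is p-solvable, then D is elementary abelian. -/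
theorem result {G : Type*} [Group G] [Finite G] (p : ℕ) [Fact p.Prime] (M : Ideal Cfsg.AlgInt) (hM : Cfsg.IsPModular p M) (B : Set (Cfsg.IrrCharacter G)) (hB : Cfsg.IsPBlock M B) (D : Subgroup G) (hD : Cfsg.IsDefectGroup p M B D)
    (hk : Nat.card B = Cfsg.blockRank p B + 1) (hB0 : B = Cfsg.principalBlock M G ∨ Cfsg.IsPSolvable p G) :
    Cfsg.IsElementaryAbelian p D := by
  classical
  haveI := Fintype.ofFinite G
  have hconj : ∀ x ∈ D, ∀ y ∈ D, x ≠ 1 → y ≠ 1 → IsConj x y := fun x hx y hy =>
    CfsgLib.DegreeTools.DeficiencyOne.isConj_of_mem hM hB hk.le hD hx hy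
  have hab : ∀ a ∈ D, ∀ b ∈ D, a * b = b * a := by
    rcases hB0 with rfl | hs
    · obtain ⟨S, rfl⟩ := (CfsgLib.Blocks.isDefectGroup_principalBlock_iff hM D).1 hD
      exact CfsgLib.DegreeTools.DeficiencyOne.abelian_principal hM hk.le S
    · exact CfsgLib.DegreeTools.DeficiencyOne.abelian_pSolvable hM _ G rfl hs B hB hk.le D hD
  refine ⟨⟨⟨fun a b => Subtype.ext (hab _ a.2 _ b.2)⟩⟩, fun a ha => ?_⟩
  exact CfsgLib.DegreeTools.DeficiencyOne.pow_eq_one_of_conj
    (CfsgLib.Blocks.isPGroup_defectGroup hD) hconj ha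

end Cfsg.Agent.S4606
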