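import Cfsg.Statements.S4608
import Cfsg.Agent.Lib.Blocks.SmallCocentre.Block
import Cfsg.Agent.Lib.Blocks.SmallCocentre.AbelianEight
import Cfsg.Agent.Lib.Blocks.RankOneFewChars
-- import your own Cfsg.Agent.* helpers here

set_option autoImplicit false
open Cfsg

namespace Cfsg.Agent.S4608

/-- Let G be a finite group, p a prime, M a maximal ideal of the algebraic integers containing p, and B a p-block of G with defect group D. If B has p-regular rank one and exactly five irreducible characters, then D is cyclic of order 5, or D has order 8 and is non-abelian (dihedral or quaternion). -/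
theorem result {G : Type*} [Group G] [Finite G] (p : ℕ) [Fact p.Prime] (M : Ideal Cfsg.AlgInt) (hM : Cfsg.IsPModular p M) (B : Set (Cfsg.IrrCharacter G)) (hB : Cfsg.IsPBlock M B) (D : Subgroup G) (hD : Cfsg.IsDefectGroup p M B D)
    (hl : Cfsg.blockRank p B = 1) (hk : Nat.card B = 5) :
    (Nat.card D = 5) ∨ (Nat.card D = 8 ∧ ¬ IsMulCommutative D) := by
  classical
  haveI := Fintype.ofFinite G
  haveI := Fact.mk hM.1
  have hDc := CfsgLib.Blocks.card_defectGroup hM hB hD
  have hDp : IsPGroup p D := IsPGroup.of_card hDc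
  have hpair : (∀ x ∈ D, ∀ y ∈ D, x * y = y * x) → ∃ c, IsMaximalBrauerPair p M B D c := fun hab => by
    obtain ⟨c, -, hc⟩ := CfsgLib.Blocks.exists_defectGroup_inducing_local
      (L := Subgroup.centralizer (D : Set G)) hM hB hD
      (fun x hx => Subgroup.mem_centralizer_iff.2 fun y hy => hab y hy x hx) le_rfl
      (CfsgLib.Blocks.centralizer_le_normalizer _)
    exact ⟨c, CfsgLib.BrouePuig.maximal_of_induced hM hD hDp hc⟩
  rcases CfsgLib.Blocks.SmallCocentre.defect_cases hM hB hl hk with ⟨rfl, hd⟩ | ⟨rfl, hd⟩ | ⟨rfl, hd⟩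
  · exact Or.inl (by rw [hDc, hd, pow_one])
  · exfalso
    rw [hd, pow_one] at hDc
    haveI hcyc : IsCyclic D := isCyclic_of_prime_card (p := 7) hDc
    have hab : ∀ x ∈ D, ∀ y ∈ D, x * y = y * x := fun x hx y hy =>
      congrArg Subtype.val (IsCyclic.commGroup.mul_comm (⟨x, hx⟩ : D) ⟨y, hy⟩)
    obtain ⟨c, hmax⟩ := hpair hab
    have h := CfsgLib.BrouePuig.card_block_free hM hmax hab fun g hg x hx hx1 hfix =>
      CfsgLib.BrouePuig.free_of_cyclic hM hmax hcyc hg hx hx1 hfix
    rw [hl, hk, hDc] at h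
    omega
  · refine Or.inr ⟨by rw [hDc, hd]; norm_num, fun hc => ?_⟩
    have hab : ∀ x ∈ D, ∀ y ∈ D, x * y = y * x := fun x hx y hy =>
      congrArg Subtype.val (hc.is_comm.comm (⟨x, hx⟩ : D) ⟨y, hy⟩)
    obtain ⟨c, hmax⟩ := hpair hab
    exact CfsgLib.Blocks.SmallCocentre.not_abelian_eight hM hmax hab (by rw [hDc, hd]; norm_num) hl hk

end Cfsg.Agent.S4608
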