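import Cfsg.Statements.S4609
import Cfsg.Agent.Lib.Blocks.HeightZeroThree.Inertial
import Cfsg.Agent.Lib.Blocks.QuotientDefect
import Mathlib.GroupTheory.Frattini

set_option autoImplicit false
open Cfsg CfsgLib.Blocks
open scoped commutatorElement

set_option linter.style.haveILetI false

namespace Cfsg.Agent.S4609

/-- Let G be a finite group, p a prime, M a maximal ideal of the algebraic integers containing p, and B a p-block of G with defect group D containing exactly three irreducible characters. Suppose the number of height-zero characters of B equals the number of height-zero characters of its Brauer correspondent b, the block of N_G(D) with defect group D inducing B (as the Alperin–McKay conjecture predicts). Then D has order 3. -/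
theorem result {G : Type*} [Group G] [Finite G] (p : ℕ) [Fact p.Prime] (M : Ideal Cfsg.AlgInt) (hM : Cfsg.IsPModular p M) (B : Set (Cfsg.IrrCharacter G)) (hB : Cfsg.IsPBlock M B) (D : Subgroup G) (hD : Cfsg.IsDefectGroup p M B D) (hk : Nat.card B = 3)
    (b : Set (Cfsg.IrrCharacter (Subgroup.normalizer (D : Set G)))) (hbB : Cfsg.IsInducedBlock M (Subgroup.normalizer (D : Set G)) b B)
    (hbD : Cfsg.IsDefectGroup p M b (D.subgroupOf (Subgroup.normalizer (D : Set G))))
    (hAM : Nat.card {χ : Cfsg.IrrCharacter G // χ ∈ B ∧ Cfsg.blockHeight p B (χ : G → ℂ) = 0} =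
           Nat.card {ψ : Cfsg.IrrCharacter (Subgroup.normalizer (D : Set G)) // ψ ∈ b ∧ Cfsg.blockHeight p b (ψ : Subgroup.normalizer (D : Set G) → ℂ) = 0}) :
    Nat.card D = 3 := by
  classical
  haveI := Fintype.ofFinite G
  let DN := D.subgroupOf (Subgroup.normalizer (D : Set G))
  haveI hDNn : DN.Normal := Subgroup.normal_in_normalizer
  have hp := hM.1
  have hDp := isPGroup_defectGroup hbD
  have hb := hbB.1
  set K : Subgroup (Subgroup.normalizer (D : Set G)) := ⁅DN, DN⁆
  haveI : Fintype ((Subgroup.normalizer (D : Set G)) ⧸ K) := Fintype.ofFinite _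
  obtain ⟨c, hc, hsub, hcdef⟩ := QuotientDefect.exists_block_map_eq hM
    (hDp.to_le (Subgroup.commutator_le_left DN DN)) hb
  set P := DN.map (QuotientGroup.mk' K) with hP
  haveI : P.Normal := Subgroup.Normal.map inferInstance _ (QuotientGroup.mk'_surjective _)
  have hcP : IsDefectGroup p M c P := (hcdef P).2 ⟨DN, hbD, rfl⟩
  have hab : ∀ x ∈ P, ∀ y ∈ P, x * y = y * x := by
    rintro _ ⟨x, hx, rfl⟩ _ ⟨y, hy, rfl⟩
    rw [← map_mul, ← map_mul]
    exact QuotientGroup.eq.2 (by
      have := Subgroup.commutator_mem_commutator (Subgroup.inv_mem _ hy) (Subgroup.inv_mem _ hx)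
      simpa [commutatorElement_def, mul_assoc] using this)
  have hmin : minDegVal p c = minDegVal p b := by
    rw [minDegVal_eq_of_defectGroup hM hb hbD, minDegVal_eq_of_defectGroup hM hc hcP, hP,
      Subgroup.index_map_eq _ (QuotientGroup.mk'_surjective _)
        (by rw [QuotientGroup.ker_mk']; exact Subgroup.commutator_le_left DN DN)]
  have hh := (comm_iff_heights hM hc hcP).1 fun x y => Subtype.ext (hab x x.2 y y.2)
  -- the characters of the quotient block have height zero in `b`
  have hkc : Nat.card c ≤ 3 := by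
    refine le_trans ?_ (hAM.symm.le.trans ((Nat.card_le_card_of_injective
      (fun χ : {χ : IrrCharacter G // χ ∈ B ∧ blockHeight p B (χ : G → ℂ) = 0} =>
        (⟨χ.1, χ.2.1⟩ : B))
      (fun x y hxy => Subtype.ext (congrArg Subtype.val hxy :))).trans hk.le))
    refine Nat.card_le_card_of_injective (fun ψ => ⟨inflate K ψ.1, hsub _ ψ.2, ?_⟩) fun x y hxy => ?_
    · rw [blockHeight_eq, degVal_inflate, hh _ ψ.2, hmin, Nat.sub_self]
    · refine Subtype.ext (Subtype.ext (funext fun q => ?_))
      obtain ⟨g, rfl⟩ := QuotientGroup.mk'_surjective K q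
      exact congrFun (congrArg Subtype.val (congrArg Subtype.val hxy)) g
  have hP3 := HeightZeroThree.card_defect_le_three hM hc hcP hab hkc
  -- `D` is cyclic
  have hcard : Nat.card D = Nat.card DN :=
    (Nat.card_congr (Subgroup.subgroupOfEquivOfLe (Subgroup.le_normalizer (H := D))).toEquiv).symm
  have hle : Nat.card DN ≤ 3 := by
    by_contra hgt
    haveI : Nontrivial DN := Finite.one_lt_card_iff_nontrivial.1 (by omega)
    set Φ := frattini DN
    have hΦ : Φ ≠ ⊤ := fun h => by
      have h1 : (⊥ : Subgroup DN) = ⊤ := frattini_nongenerating (by rw [bot_sup_eq]; exact h)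
      exact bot_ne_top h1
    let f : DN →* P := ((QuotientGroup.mk' K).comp DN.subtype).codRestrict P
      fun x => Subgroup.mem_map_of_mem _ x.2
    have hf : Function.Surjective f := by
      rintro ⟨_, x, hx, rfl⟩
      exact ⟨⟨x, hx⟩, rfl⟩
    have hker : f.ker ≤ Φ := by
      intro x hx
      have h1 : (x : (Subgroup.normalizer (D : Set G))) ∈ K := (QuotientGroup.eq_one_iff _).1
        (congrArg Subtype.val (MonoidHom.mem_ker.1 hx))
      have h2 : K ≤ Φ.map DN.subtype := by
        refine Subgroup.commutator_le.2 fun a ha b' hb' => ?_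
        exact ⟨⁅(⟨a, ha⟩ : DN), ⟨b', hb'⟩⁆,
          CfsgLib.PGroup.Frattini.commutatorElement_mem_frattini hDp _ _, rfl⟩
      obtain ⟨y, hy, hxy⟩ := h2 h1
      rwa [← show y = x from Subtype.ext hxy]
    have hidx : Φ.index ≤ 3 := by
      refine le_trans (Nat.le_of_dvd ?_ (Subgroup.index_dvd_of_le hker)) ?_
      · exact Nat.pos_of_ne_zero Subgroup.index_ne_zero_of_finite
      · rw [Subgroup.index_ker, MonoidHom.range_eq_top.2 hf, Subgroup.card_top]
        exact hP3
    have hidx1 : 2 ≤ Φ.index := by
      by_contra hc1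
      exact hΦ (Subgroup.index_eq_one.1 (by
        have := Subgroup.index_ne_zero_of_finite (H := Φ); omega))
    have hprime : Φ.index.Prime := by
      generalize Φ.index = m at hidx hidx1
      interval_cases m <;> norm_num
    obtain ⟨x, hx⟩ : ∃ x, x ∉ Φ := by
      by_contra hall
      push Not at hall
      exact hΦ (Subgroup.eq_top_iff' Φ |>.2 hall)
    have htop : Subgroup.zpowers x ⊔ Φ = ⊤ := by
      rw [sup_comm, ← Subgroup.index_eq_one]
      rcases (Nat.dvd_prime hprime).1 (Subgroup.index_dvd_of_le
        (le_sup_left : Φ ≤ Φ ⊔ Subgroup.zpowers x)) with h | h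
      · exact h
      · exfalso
        have heq : Φ = Φ ⊔ Subgroup.zpowers x := Subgroup.eq_of_le_of_card_ge le_sup_left (by
          have h1 := Subgroup.card_mul_index Φ
          have h2 := Subgroup.card_mul_index (Φ ⊔ Subgroup.zpowers x)
          rw [h, ← h1] at h2
          exact (Nat.eq_of_mul_eq_mul_right hprime.pos h2).le)
        exact hx (heq.ge (Subgroup.mem_sup_right (Subgroup.mem_zpowers x)))
    have hgen := frattini_nongenerating htop
    have hK1 : K = ⊥ := by
      rw [eq_bot_iff]
      refine Subgroup.commutator_le.2 fun a ha b' hb' => ?_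
      obtain ⟨i, hi⟩ := Subgroup.mem_zpowers_iff.1 (hgen.ge (Subgroup.mem_top (⟨a, ha⟩ : DN)))
      obtain ⟨j, hj⟩ := Subgroup.mem_zpowers_iff.1 (hgen.ge (Subgroup.mem_top (⟨b', hb'⟩ : DN)))
      rw [Subgroup.mem_bot, commutatorElement_eq_one_iff_mul_comm,
        show a = ((x ^ i : DN) : (Subgroup.normalizer (D : Set G))) by rw [hi], show b' = ((x ^ j : DN) : (Subgroup.normalizer (D : Set G))) by rw [hj],
        ← Subgroup.coe_mul, ← Subgroup.coe_mul, ← zpow_add, ← zpow_add, add_comm]
    have hinj : Function.Injective f := fun a b' h => by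
      have h1 := QuotientGroup.eq.1 (congrArg Subtype.val h :)
      rw [hK1, Subgroup.mem_bot] at h1
      exact Subtype.ext (inv_mul_eq_one.1 h1)
    have := Nat.card_le_card_of_injective f hinj
    exact hgt (this.trans hP3)
  rcases Nat.lt_or_ge (Nat.card D) 3 with h3 | h3
  · exfalso
    have h1 : Nat.card D ≠ 0 := Nat.card_pos.ne'
    rcases (by omega : Nat.card D = 1 ∨ Nat.card D = 2) with h | h
    · have h0 : blockDefect p B = 0 := Nat.pow_right_injective hp.two_le (by
        show p ^ blockDefect p B = p ^ 0
        rw [← card_defectGroup hM hB hD, h, pow_zero])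
      have h4 := four_mul_card_le hM hB
      rw [h0, hk] at h4
      norm_num at h4
    · have := (TwoCharacters.card_eq_two_iff hM hB hD).2 h
      omega
  · omega

end Cfsg.Agent.S4609
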