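import Cfsg.Statements.S4611
import Cfsg.Agent.S4492
import Cfsg.Agent.Lib.Blocks.Kernel
import Cfsg.Agent.Lib.Blocks.PCentralizer
import Cfsg.Agent.Lib.Fusion.PSolvable
import Cfsg.Agent.Lib.CharDeep.Clifford
-- import your own Cfsg.Agent.* helpers here

set_option autoImplicit false
open Cfsg CfsgLib.Blocks
open scoped ComplexConjugate Classical

namespace Cfsg.Agent.S4611

/-- Let G be a finite solvable group and π a nonempty set of primes, each dividing the order of G; fix for each p in π a maximal ideal M p of the algebraic integers containing p. Then the only irreducible character lying in the principal p-block for every p in π is the principal character if and only if G is generated by the subgroups O_{p'}(G), p in π (the largest normal subgroups of order prime to p). -/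
theorem result {G : Type*} [Group G] [Finite G] [Group.IsSolvable G] (π : Set ℕ) (hπ : ∀ p ∈ π, p.Prime ∧ p ∣ Nat.card G) (hne : π.Nonempty) (M : ℕ → Ideal Cfsg.AlgInt) (hM : ∀ p ∈ π, Cfsg.IsPModular p (M p)) :
    (∀ χ : Cfsg.IrrCharacter G, (∀ p ∈ π, χ ∈ Cfsg.principalBlock (M p) G) → (χ : G → ℂ) = fun _ => 1) ↔
      ⨆ p ∈ π, Cfsg.pPrimeCore p G = ⊤ := by
  letI : Fintype G := Fintype.ofFinite G
  have hkey : ∀ p ∈ π, ∀ χ : Cfsg.IrrCharacter G,
      χ ∈ Cfsg.principalBlock (M p) G ↔ Cfsg.pPrimeCore p G ≤ irrKer χ := by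
    intro p hp χ
    haveI : Fact p.Prime := ⟨(hπ p hp).1⟩
    set N := Cfsg.pPrimeCore p G with hNdef
    haveI : N.Normal := Cfsg.pPrimeCore_normal p G
    letI : Fintype N := Fintype.ofFinite _
    obtain ⟨B, hB, hmem, -, -⟩ := Cfsg.Agent.S4492.result p (M p) (hM p hp)
      CfsgLib.Fusion.PSolvable.psolvable_of_solvable N hNdef (trivChar N) (fun g n => rfl)
    have hiff : ∀ ξ : Cfsg.IrrCharacter G,
        Cfsg.classInner (fun n : N => (ξ : G → ℂ) n) (trivChar N : N → ℂ) ≠ 0 ↔ N ≤ irrKer ξ := by
      intro ξ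
      constructor
      · intro h
        obtain ⟨e, -, -, he⟩ := CfsgLib.CharDeep.Clifford.restrict_eq_smul N ξ.2 (trivChar N).2 h
          fun g n => rfl
        intro n hn
        rw [mem_irrKer]
        have h1 := congrFun he ⟨n, hn⟩
        have h2 := congrFun he 1
        simp only [Pi.smul_apply, OneMemClass.coe_one, trivChar_apply] at h1 h2
        rw [h1, h2]
      · intro h
        have he : (fun n : N => (ξ : G → ℂ) n) = ((ξ : G → ℂ) 1) • (trivChar N : N → ℂ) :=
          funext fun n => by simp [mem_irrKer.1 (h n.2)]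
        rw [he, CfsgLib.Char.classInner_smul_left, CfsgLib.Char.classInner_irr_self (trivChar N).2,
          mul_one]
        exact irr_one_ne_zero ξ
    have htriv : trivChar G ∈ B := (hmem _).2 ((hiff _).2 fun n _ => by simp [mem_irrKer])
    rw [IsPBlock.eq_of_mem (hM p hp) isPBlock_principalBlock hB
      (trivChar_mem_principalBlock (hM p hp)) htriv, hmem, hiff]
  constructor
  · intro h
    set T := ⨆ p ∈ π, Cfsg.pPrimeCore p G with hT
    haveI hTn : T.Normal := by
      have hT2 : T = sSup ((fun p => Cfsg.pPrimeCore p G) '' π) := by rw [hT, sSup_image]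
      rw [hT2]
      exact Subgroup.sSup_normal _ (by rintro _ ⟨p, -, rfl⟩; exact Cfsg.pPrimeCore_normal p G)
    by_contra hne
    obtain ⟨x, hx⟩ : ∃ x : G, x ∉ T := by
      by_contra hall
      push Not at hall
      exact hne ((Subgroup.eq_top_iff' T).2 hall)
    letI : Fintype (G ⧸ T) := Fintype.ofFinite _
    refine hx ((QuotientGroup.eq_one_iff x).1 (CfsgLib.Char.eq_one_of_forall_irr fun ψ => ?_))
    have h1 := h (inflate T ψ) fun p hp => (hkey p hp _).2 fun n hn => by
      have h2 : (QuotientGroup.mk n : G ⧸ T) = 1 := (QuotientGroup.eq_one_iff n).2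
        ((le_biSup (fun p => Cfsg.pPrimeCore p G) hp : Cfsg.pPrimeCore p G ≤ T) hn)
      rw [mem_irrKer]
      simp only [inflate, Function.comp_apply, QuotientGroup.mk'_apply, h2, QuotientGroup.mk_one]
    have e1 := congrFun h1 x
    have e2 := congrFun h1 1
    simp only [inflate, Function.comp_apply, QuotientGroup.mk'_apply, QuotientGroup.mk_one] at e1 e2
    rw [e1, e2]
  · intro htop χ hχ
    have hker : (⊤ : Subgroup G) ≤ irrKer χ :=
      htop ▸ iSup₂_le fun p hp => (hkey p hp χ).1 (hχ p hp)
    have hconst : ∀ g, (χ : G → ℂ) g = (χ : G → ℂ) 1 := fun g => mem_irrKer.1 (hker (Subgroup.mem_top g))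
    obtain ⟨d, -, hd⟩ := CfsgLib.Char.IsIrrCharacter.apply_one_eq χ.2
    have h1 := CfsgLib.Char.classInner_irr_self χ.2
    rw [Cfsg.classInner, Finset.sum_congr rfl fun g _ => by rw [hconst g, hd, Complex.conj_natCast],
      Finset.sum_const, Finset.card_univ, nsmul_eq_mul, ← Nat.card_eq_fintype_card, ← mul_assoc,
      inv_mul_cancel₀ CfsgLib.Char.card_ne_zero, one_mul] at h1
    have h2 : d * d = 1 := by exact_mod_cast h1
    funext g
    rw [hconst g, hd, Nat.eq_one_of_mul_eq_one_right h2, Nat.cast_one]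

end Cfsg.Agent.S4611
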