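import Cfsg.Statements.S4613
import Cfsg.Agent.Lib.BNPair.SylowFixedLie
import Cfsg.Agent.S2363

set_option autoImplicit false
open Cfsg

namespace Cfsg.Agent.S4613

open CfsgLib.BNPair.SylowFixed in
/-- Let G be a finite simple group of Lie type in characteristic p and α an automorphism of G of order prime to p that fixes some Sylow p-subgroup of G elementwise. Then α is the identity. -/
theorem result {G : Type*} [Group G] [Finite G] [IsSimpleGroup G] (p : ℕ) [Fact p.Prime] (hG : Cfsg.IsLieTypeChar p G) (α : MulAut G) (hα : ¬ p ∣ orderOf α) (U : Sylow p G) (hfix : ∀ x ∈ (U : Subgroup G), α x = x) : α = 1 := by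
  have hne : (U : Subgroup G) ≠ ⊥ := by
    intro h
    have h1 := U.card_eq_multiplicity
    rw [h, Subgroup.card_bot] at h1
    have h0 : (Nat.card G).factorization p = 0 := by
      exact (Nat.pow_eq_one.mp h1.symm).resolve_left (Fact.out : p.Prime).one_lt.ne'
    have h2 := (Cfsg.Agent.S2363.result p (Fact.out) hG).1
    rw [h0] at h2
    simp at h2
    exact (Nat.card_pos (α := G)).ne' h2
  suffices h : Split p G from aut_eq_one h U hne α hα hfix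
  rcases hG with ⟨F, i1, i2, i3, n, -, -, ⟨e⟩⟩ | ⟨F, i1, i2, i3, m, -, -, ⟨e⟩⟩ |
    ⟨F, i1, i2, i3, n, q, hF, -, -, ⟨e⟩⟩ | ⟨F, i1, i2, i3, m, -, hodd, ⟨e⟩⟩ |
    ⟨F, i1, i2, i3, m, hm, ⟨e⟩⟩ | ⟨F, i1, i2, i3, m, a, b, -, hab, ⟨e⟩⟩ |
    ⟨F, i1, i2, i3, hc⟩ | ⟨K, i1, i2, i3, q, hpp, hc⟩ | ⟨rfl, K, i1, i2, m, -, hK, ⟨e⟩⟩ |
    ⟨rfl, K, i1, i2, m, -, hK, ⟨e⟩⟩ | ⟨rfl, K, i1, i2, m, -, hK, ⟨e⟩⟩
  · exact (split_psl (F := F) n).of_equiv e.symm
  · exact (split_psp (F := F) m).of_equiv e.symm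
  · exact (split_psu (F := F) hF n).of_equiv e.symm
  · exact (split_odd (F := F) m hodd).of_equiv e.symm
  · exact (split_plus (F := F) m (by omega)).of_equiv e.symm
  · exact (split_minus (F := F) (m - 1) a b hab).of_equiv e.symm
  · rcases hc with ⟨-, ⟨e⟩⟩ | ⟨⟨e⟩⟩ | ⟨⟨e⟩⟩ | ⟨⟨e⟩⟩ | ⟨⟨e⟩⟩ <;>
      exact (split_chev (F := F) (by simp)).of_equiv e.symm
  · rcases hc with ⟨hK, ⟨e⟩⟩ | ⟨hK, ⟨e⟩⟩
    · exact (split_twistedE6 hpp hK).of_equiv e.symm
    · exact (split_twistedD4 hpp hK).of_equiv e.symm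
  · exact (split_suzuki hK).of_equiv e.symm
  · exact (split_twistedF4 hK).of_equiv e.symm
  · exact (split_twistedG2 hK).of_equiv e.symm

end Cfsg.Agent.S4613
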