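import Cfsg.Statements.S4620
import Cfsg.Agent.Lib.CharDeep.SylowNormalize
-- import your own Cfsg.Agent.* helpers here

set_option autoImplicit false
open scoped Pointwise
open Cfsg CfsgLib.Solvable CfsgLib.CharDeep.SylowNormalize
open scoped Pointwise

namespace Cfsg.Agent.S4620

/-- Let H be a finite group with no nontrivial normal p-subgroup and no nontrivial normal subgroup of order prime to p, whose Sylow p-subgroup P is nontrivial and a trivial-intersection set (P meets its conjugates by elements outside N_H(P) trivially). Then H has a unique minimal normal subgroup N; N is non-abelian simple with trivial centralizer in H (so H embeds in Aut(N)), and a Sylow p-subgroup of N is again a nontrivial trivial-intersection set in N. -/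
theorem result {H : Type*} [Group H] [Finite H] (p : ℕ) [Fact p.Prime] (hOp : Cfsg.pCore p H = ⊥) (hOp' : Cfsg.pPrimeCore p H = ⊥) (P : Sylow p H) (hP1 : (P : Subgroup H) ≠ ⊥)
    (hTI : ∀ g : H, g ∉ Subgroup.normalizer ((P : Subgroup H) : Set H) → (P : Subgroup H) ⊓ (MulAut.conj g • (P : Subgroup H)) = ⊥) :
    ∃ N : Subgroup H, N.Normal ∧ N ≠ ⊥ ∧ (∀ K : Subgroup H, K.Normal → K ≠ ⊥ → N ≤ K) ∧
      IsSimpleGroup N ∧ ¬ IsMulCommutative N ∧ Subgroup.centralizer (N : Set H) = ⊥ ∧
      ∀ Q : Sylow p N, (Q : Subgroup N) ≠ ⊥ ∧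
        ∀ n : N, n ∉ Subgroup.normalizer ((Q : Subgroup N) : Set N) → (Q : Subgroup N) ⊓ (MulAut.conj n • (Q : Subgroup N)) = ⊥ := by
  set NP := Subgroup.normalizer ((P : Subgroup H) : Set H) with hNP
  have hcentral : ∀ x z : H, z ∈ (P : Subgroup H) → z ≠ 1 → x * z = z * x → x ∈ NP := by
    intro x z hz hz1 hc
    by_contra hx
    refine hz1 (Subgroup.mem_bot.1 (hTI x hx ▸ Subgroup.mem_inf.2 ⟨hz, ?_⟩))
    rw [Subgroup.mem_pointwise_smul_iff_inv_smul_mem, MulAut.smul_def, MulAut.inv_def]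
    rw [show (MulAut.conj x).symm z = z by
      rw [MulEquiv.symm_apply_eq, MulAut.conj_apply, hc, mul_inv_cancel_right]]
    exact hz
  obtain ⟨hHnt⟩ : Nonempty (Nontrivial H) := by
    by_contra hn
    have := not_nontrivial_iff_subsingleton.1 fun h => hn ⟨h⟩
    exact hP1 (Subsingleton.elim _ _)
  obtain ⟨N, -, ⟨hNn, hNne⟩, hmin⟩ := Finite.exists_le_minimal
    (p := fun K : Subgroup H => K.Normal ∧ K ≠ ⊥) ⟨(inferInstance : (⊤ : Subgroup H).Normal), top_ne_bot⟩
  haveI := hNn
  have hsolvP : ∀ (M : Subgroup H) [M.Normal], IsPGroup p M → M = ⊥ := fun M _ hM =>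
    le_bot_iff.1 (hOp ▸ Cores.le_pCore hM)
  have hsolvP' : ∀ (M : Subgroup H) [M.Normal], (Nat.card M).Coprime p → M = ⊥ := fun M _ hM =>
    le_bot_iff.1 (hOp' ▸ Cores.le_pPrimeCore hM)
  have hcore : ∀ (M : Subgroup H) [M.Normal], Cfsg.pCore p M = ⊥ ∧ Cfsg.pPrimeCore p M = ⊥ := by
    intro M _
    refine ⟨?_, ?_⟩
    · exact (Subgroup.map_eq_bot_iff_of_injective _ M.subtype_injective).1
        (hsolvP _ ((Cores.isPGroup_pCore p).map M.subtype))
    · refine (Subgroup.map_eq_bot_iff_of_injective _ M.subtype_injective).1 (hsolvP' _ ?_)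
      rw [CfsgLib.Coprime.card_map_subtype]
      exact Cores.coprime_card_pPrimeCore p
  set Q : Subgroup N := (P : Subgroup H).subgroupOf N with hQ
  have hQp : IsPGroup p Q := P.2.comap_of_injective N.subtype N.subtype_injective
  have hQidx : ¬ p ∣ Q.index := fun hd => P.not_dvd_index (hd.trans (by
    show (P : Subgroup H).relIndex N ∣ _
    rw [← relIndex_sup_normal]
    exact Subgroup.relIndex_dvd_index_of_le le_sup_right))
  have hmeet : ∀ S : Subgroup N, S.Normal → S ≠ ⊥ → ∃ z ∈ S, (z : H) ∈ (P : Subgroup H) ∧ z ≠ 1 := by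
    intro S hS hS0
    by_contra hno
    push Not at hno
    refine hS0 (le_bot_iff.1 ((hcore N).2 ▸ Cores.le_pPrimeCore ?_))
    refine ((Fact.out : p.Prime).coprime_iff_not_dvd.2 fun hd => ?_).symm
    have hbot : Q.subgroupOf S = ⊥ := (Subgroup.eq_bot_iff_forall _).2 fun z hz =>
      Subtype.ext (hno z z.2 hz)
    have hd' : p ∣ Q.relIndex S := by rwa [Subgroup.relIndex, hbot, Subgroup.index_bot]
    refine hQidx (hd'.trans ?_)
    rw [← relIndex_sup_normal]
    exact Subgroup.relIndex_dvd_index_of_le le_sup_right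
  have hnorm : ∀ S : Subgroup N, S.Normal → (∀ T : Subgroup N, T.Normal → T ≤ S → T ≠ ⊥ → T = S) →
      (∀ x ∈ S, (x : H) ∈ NP) → S = ⊥ := by
    intro S hS hSmin hSN
    by_contra hS0
    obtain ⟨z, hzS, hzP, hz1⟩ := hmeet S hS hS0
    haveI := hS
    set R : Subgroup S := Q.subgroupOf S
    haveI hR : R.Normal := ⟨fun r hr s => ((Subgroup.mem_normalizer_iff.1 (hSN s s.2) _).1 hr :)⟩
    have hRle : R ≤ Cfsg.pCore p S :=
      Cores.le_pCore (hQp.comap_of_injective S.subtype S.subtype_injective)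
    have hT := hSmin ((Cfsg.pCore p S).map S.subtype) inferInstance (Subgroup.map_subtype_le _)
      fun h0 => hz1 (Subgroup.mem_bot.1 (h0 ▸ ⟨⟨z, hzS⟩, hRle hzP, rfl⟩))
    have hSp : IsPGroup p S := hT ▸ (Cores.isPGroup_pCore p).map S.subtype
    exact hS0 (le_bot_iff.1 ((hcore N).1 ▸ Cores.le_pCore hSp))
  have hNt : Nontrivial N := (Subgroup.nontrivial_iff_ne_bot N).2 hNne
  obtain ⟨S, -, ⟨hSn, hSne⟩, hSmin⟩ := Finite.exists_le_minimal
    (p := fun K : Subgroup N => K.Normal ∧ K ≠ ⊥) ⟨(inferInstance : (⊤ : Subgroup N).Normal), top_ne_bot⟩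
  have hST : S = ⊤ := by
    by_contra hStop
    obtain ⟨g, hg⟩ : ∃ g : H, S.map (MulAut.conjNormal (H := N) g).toMonoidHom ≠ S := by
      by_contra hall
      push Not at hall
      have hSH : (S.map N.subtype).Normal := ⟨by
        rintro _ ⟨s, hs, rfl⟩ g
        exact ⟨MulAut.conjNormal g s, hall g ▸ Subgroup.mem_map_of_mem _ hs, by simp⟩⟩
      have h1 := le_antisymm (Subgroup.map_subtype_le S) (hmin ⟨hSH, fun h0 => hSne
        ((Subgroup.map_eq_bot_iff_of_injective _ N.subtype_injective).1 h0)⟩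
          (Subgroup.map_subtype_le S))
      exact hStop ((Subgroup.eq_top_iff' S).2 fun x => by
        obtain ⟨y, hy, hye⟩ := (h1.symm ▸ x.2 : (x : H) ∈ S.map N.subtype)
        rwa [← show y = x from Subtype.ext hye])
    set c := MulAut.conjNormal (H := N) g
    set S2 := S.map c.toMonoidHom
    have hS2 : S2.Normal := Subgroup.Normal.map hSn _ c.surjective
    have hS2min : ∀ T : Subgroup N, T.Normal → T ≤ S2 → T ≠ ⊥ → T = S2 := by
      intro T hT hTle hT0
      have hle : T.comap c.toMonoidHom ≤ S :=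
        (Subgroup.comap_mono hTle).trans (Subgroup.comap_map_eq_self_of_injective c.injective S).le
      have hne : T.comap c.toMonoidHom ≠ ⊥ := fun h0 => hT0 (by
        rw [← Subgroup.map_comap_eq_self_of_surjective (f := c.toMonoidHom) c.surjective T, h0,
          Subgroup.map_bot])
      rw [← Subgroup.map_comap_eq_self_of_surjective (f := c.toMonoidHom) c.surjective T,
        le_antisymm hle (hSmin ⟨hT.comap _, hne⟩ hle)]
    have hdisj : Disjoint S S2 := disjoint_iff.2 (by
      by_contra h0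
      haveI : (S ⊓ S2).Normal := Subgroup.normal_inf_normal S S2
      have e1 := hS2min _ inferInstance inf_le_right h0
      have e2 := le_antisymm inf_le_left (hSmin ⟨inferInstance, h0⟩ inf_le_left)
      exact hg (e1.symm.trans e2))
    obtain ⟨z, hzS, hzP, hz1⟩ := hmeet S hSn hSne
    have h0 := hnorm S2 hS2 hS2min fun x hx => hcentral x z hzP (by simpa using hz1)
      (congrArg Subtype.val (Subgroup.commute_of_normal_of_disjoint S S2 hSn hS2 hdisj z x hzS hx).symm.eq)
    exact hSne ((Subgroup.map_eq_bot_iff_of_injective _ c.injective).1 h0)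
  have hsimple : IsSimpleGroup N := ⟨fun T hT => by
    rcases eq_or_ne T ⊥ with h | h
    · exact Or.inl h
    · exact Or.inr (top_le_iff.1 (hST.ge.trans (hSmin ⟨hT, h⟩ (hST.symm ▸ le_top))))⟩
  have hCN : Subgroup.centralizer (N : Set H) = ⊥ := by
    by_contra h0
    obtain ⟨K, hKle, ⟨hKn, hKne⟩, hKmin⟩ := Finite.exists_le_minimal
      (p := fun K : Subgroup H => K.Normal ∧ K ≠ ⊥)
      (a := Subgroup.centralizer (N : Set H)) ⟨inferInstance, h0⟩
    obtain ⟨z, -, hzP, hz1⟩ := hmeet ⊤ inferInstance top_ne_bot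
    have hKP : ∀ x ∈ K, x ∈ NP := fun x hx => hcentral x z hzP (by simpa using hz1)
      (Subgroup.mem_centralizer_iff.1 (hKle hx) z z.2).symm
    set R : Subgroup K := (P : Subgroup H).subgroupOf K
    haveI hR : R.Normal := ⟨fun r hr s => ((Subgroup.mem_normalizer_iff.1 (hKP s s.2) _).1 hr :)⟩
    have hR0 : R = ⊥ := le_bot_iff.1 ((hcore K).1 ▸
      Cores.le_pCore (P.2.comap_of_injective K.subtype K.subtype_injective))
    refine hKne (hsolvP' K ((Fact.out : p.Prime).coprime_iff_not_dvd.2 fun hd => ?_).symm)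
    have hd' : p ∣ (P : Subgroup H).relIndex K := by
      rw [Subgroup.relIndex]; show p ∣ R.index; rwa [hR0, Subgroup.index_bot]
    refine P.not_dvd_index (hd'.trans ?_)
    rw [← relIndex_sup_normal]
    exact Subgroup.relIndex_dvd_index_of_le le_sup_right
  refine ⟨N, hNn, hNne, fun K hK hK0 => ?_, hsimple, fun hab => hNne ?_, hCN, fun Q' => ?_⟩
  · haveI := hK
    have hNK : N ⊓ K ≠ ⊥ := fun h0 => hK0 (le_bot_iff.1 (hCN ▸ fun k hk =>
      Subgroup.mem_centralizer_iff.2 fun n hn =>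
        (Subgroup.commute_of_normal_of_disjoint N K hNn hK (disjoint_iff.2 h0) n k hn hk).eq))
    exact (hmin ⟨Subgroup.normal_inf_normal N K, hNK⟩ inf_le_left).trans inf_le_right
  · exact le_bot_iff.1 (hCN ▸ fun x hx => Subgroup.mem_centralizer_iff.2 fun y hy =>
      congrArg Subtype.val (hab.is_comm.comm (⟨y, hy⟩ : N) ⟨x, hx⟩))
  · obtain ⟨n₀, hn₀⟩ := MulAction.exists_smul_eq N Q' (hQp.toSylow hQidx)
    obtain ⟨z, -, hzP, hz1⟩ := hmeet ⊤ inferInstance top_ne_bot
    have hQ'mem : ∀ w : N, w ∈ (Q' : Subgroup N) ↔ ((n₀ * w * n₀⁻¹ : N) : H) ∈ (P : Subgroup H) := by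
      intro w
      show _ ↔ n₀ * w * n₀⁻¹ ∈ (hQp.toSylow hQidx : Subgroup N)
      rw [← hn₀, Sylow.coe_subgroup_smul]
      exact ⟨fun hw => ⟨w, hw, rfl⟩, fun ⟨w', hw', he⟩ => by
        rwa [← show w' = w from (MulAut.conj n₀).injective he]⟩
    refine ⟨fun h0 => hz1 ?_, fun n hn => ?_⟩
    · have h1 := (hQ'mem (n₀⁻¹ * z * n₀)).2 (by simpa [mul_assoc] using hzP)
      rw [h0, Subgroup.mem_bot] at h1
      have h2 : n₀ * (n₀⁻¹ * z * n₀) * n₀⁻¹ = 1 := by rw [h1]; simp
      simpa [mul_assoc] using h2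
    · set m : N := n₀ * n * n₀⁻¹ with hm
      have hmP : (m : H) ∉ NP := fun hmem => hn (Subgroup.mem_normalizer_iff.2 fun w => by
        rw [hQ'mem, hQ'mem, Subgroup.mem_normalizer_iff.1 hmem]
        simp [hm, mul_assoc])
      refine (Subgroup.eq_bot_iff_forall _).2 fun w hw => ?_
      obtain ⟨hw1, hw2⟩ := Subgroup.mem_inf.1 hw
      rw [Subgroup.mem_pointwise_smul_iff_inv_smul_mem, MulAut.smul_def, MulAut.inv_def,
        MulAut.conj_symm_apply] at hw2
      have h1 : ((n₀ * w * n₀⁻¹ : N) : H) ∈ (P : Subgroup H) ⊓ (MulAut.conj (m : H) • (P : Subgroup H)) := by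
        refine Subgroup.mem_inf.2 ⟨(hQ'mem w).1 hw1, ?_⟩
        rw [Subgroup.mem_pointwise_smul_iff_inv_smul_mem, MulAut.smul_def, MulAut.inv_def,
          MulAut.conj_symm_apply]
        have h2 := (hQ'mem _).1 hw2
        simpa [hm, mul_assoc] using h2
      rw [hTI _ hmP, Subgroup.mem_bot, ← OneMemClass.coe_one N, Subtype.coe_inj] at h1
      simpa [mul_inv_eq_one] using h1

end Cfsg.Agent.S4620
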