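import Cfsg.Statements.S4621
import Cfsg.Agent.Lib.Perm.CoprimeBase.Main

set_option autoImplicit false
open Cfsg

namespace Cfsg.Agent.S4621

open CfsgLib.Perm

/-- Let F be a finite field of odd characteristic, V a finite-dimensional vector space over F, and G a finite solvable group acting faithfully and linearly on V with the order of G coprime to the number of vectors of V. Then there are two vectors x, y ∈ V such that the only element of G fixing both x and y is the identity. -/
theorem result {F : Type*} [Field F] [Fintype F] (hF : ringChar F ≠ 2) {V : Type*} [AddCommGroup V] [Module F V] [FiniteDimensional F V] [Finite V]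
    {G : Type*} [Group G] [Finite G] [Group.IsSolvable G] (ρ : Representation F G V) (hfaith : Function.Injective ρ) (hcop : (Nat.card G).Coprime (Nat.card V)) :
    ∃ x y : V, ∀ g : G, ρ g x = x → ρ g y = y → g = 1 := by
  classical
  have hone : ∀ g : G, (∀ x, ρ g x = x) → g = 1 := fun g h =>
    hfaith (LinearMap.ext fun x => by rw [h x, map_one]; rfl)
  rcases subsingleton_or_nontrivial V with hV | hV
  · exact ⟨0, 0, fun g _ _ => hone g fun x => Subsingleton.elim _ _⟩
  let φ : G →* (AddMonoid.End V)ˣ :=
    ({ toFun := fun g => (ρ g).toAddMonoidHom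
       map_one' := by rw [map_one]; rfl
       map_mul' := fun a b => by rw [map_mul]; rfl } : G →* AddMonoid.End V).toHomUnits
  letI : DistribMulAction φ.range V :=
    DistribMulAction.compHom V ((Units.coeHom (AddMonoid.End V)).comp φ.range.subtype)
  haveI : Finite φ.range := Finite.of_surjective φ.rangeRestrict φ.rangeRestrict_surjective
  haveI : Group.IsSolvable φ.range := solvable_of_surjective φ.rangeRestrict_surjective
  set p := ringChar F with hp
  haveI : Fact p.Prime := ⟨CharP.char_is_prime F p⟩
  have hpV : ∀ x : V, p • x = 0 := fun x => by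
    rw [← Nat.cast_smul_eq_nsmul F, CharP.cast_eq_zero, zero_smul]
  have hdvd : p ∣ Nat.card V := by
    obtain ⟨x, hx⟩ := exists_ne (0 : V)
    rw [← addOrderOf_eq_prime (hpV x) hx]
    exact addOrderOf_dvd_natCard x
  have hcop' : (Nat.card φ.range).Coprime p :=
    (Nat.Coprime.coprime_dvd_left (Subgroup.card_range_dvd φ) hcop).coprime_dvd_right hdvd
  obtain ⟨x, y, h⟩ := CoprimeBase.exists_pair φ.range V hpV hcop'
  exact ⟨x, y, fun g hx hy => hone g fun z => h ⟨φ g, g, rfl⟩ hx hy z⟩

end Cfsg.Agent.S4621
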