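import Cfsg.Statements.S4623
import Cfsg.Agent.Lib.Perm.SylowGenerators

set_option autoImplicit false
open Cfsg

namespace Cfsg.Agent.S4623

open Cfsg CfsgLib.Perm.SylowGen

/-- For every prime p and every n, a Sylow p-subgroup P of the symmetric group on n letters has P/P' elementary abelian (the p-th power of every element of P lies in the derived subgroup of P), and the same holds for a Sylow p-subgroup of the alternating group on n letters. -/
theorem result (p : ℕ) [Fact p.Prime] (n : ℕ) (P : Sylow p (Equiv.Perm (Fin n))) (Q : Sylow p (alternatingGroup (Fin n))) :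
    (∀ x : (P : Subgroup (Equiv.Perm (Fin n))), x ^ p ∈ commutator (P : Subgroup (Equiv.Perm (Fin n)))) ∧
    (∀ x : (Q : Subgroup (alternatingGroup (Fin n))), x ^ p ∈ commutator (Q : Subgroup (alternatingGroup (Fin n)))) := by
  constructor
  · obtain ⟨S, hS⟩ := exists_closure_eq P
    exact pow_mem_commutator_of_closure (P : Subgroup (Equiv.Perm (Fin n))) hS S.pow
  · obtain ⟨P', hP'⟩ := (IsPGroup.map Q.isPGroup' (alternatingGroup (Fin n)).subtype).exists_le_sylow
    obtain ⟨S, hS⟩ := exists_closure_eq P'
    have hQ : (P' : Subgroup (Equiv.Perm (Fin n))).subgroupOf (alternatingGroup (Fin n))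
        = (Q : Subgroup (alternatingGroup (Fin n))) :=
      Q.is_maximal' (IsPGroup.comap_of_injective P'.isPGroup' (alternatingGroup (Fin n)).subtype
        Subtype.val_injective) fun v hv => hP' ⟨v, hv, rfl⟩
    set T : Set (alternatingGroup (Fin n)) :=
      {g | (g : Equiv.Perm (Fin n)) ∈ Subgroup.closure S.S ∧ (g : Equiv.Perm (Fin n)) ^ p = 1}
    refine pow_mem_commutator_of_closure (T := T) (Q : Subgroup (alternatingGroup (Fin n))) ?_
      fun g hg => Subtype.ext hg.2
    refine Subgroup.map_injective (alternatingGroup (Fin n)).subtype_injective ?_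
    rw [← hQ, MonoidHom.map_closure]
    refine le_antisymm ((Subgroup.closure_le _).2 ?_) ?_
    · rintro _ ⟨g, hg, rfl⟩
      exact ⟨g, hS ▸ hg.1, rfl⟩
    · rintro _ ⟨g, hg, rfl⟩
      refine Subgroup.closure_mono ?_ (even_mem S (hS.symm ▸ hg) (Equiv.Perm.mem_alternatingGroup.1 g.2))
      rintro v ⟨h1, h2, h3⟩
      exact ⟨⟨v, Equiv.Perm.mem_alternatingGroup.2 h3⟩, ⟨h1, h2⟩, rfl⟩

end Cfsg.Agent.S4623
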