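import Cfsg.Statements.S4625
import Cfsg.Agent.Lib.KnownC.SylowTwoAb.Classical
import Cfsg.Agent.Lib.KnownC.SylowTwoAb.OrthForms
import Cfsg.Agent.Lib.KnownC.SylowTwoAb.Exceptional

set_option autoImplicit false
open Cfsg

namespace Cfsg.Agent.S4625

open CfsgLib.KnownC.SylowTwoAb

/-- Let G be a finite simple group of Lie type in characteristic 2, not counting the Tits group ²F₄(2)′. Then a Sylow 2-subgroup P of G has P/P' elementary abelian: the square of every element of P lies in the derived subgroup of P. -/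
theorem result {G : Type*} [Group G] [Finite G] [IsSimpleGroup G] (hG : Cfsg.IsLieTypeChar 2 G) (P : Sylow 2 G) :
    ∀ x : (P : Subgroup G), x ^ 2 ∈ commutator (P : Subgroup G) := by
  suffices h : CfsgLib.KnownC.SylowTwoAb.Ok G from h.result P
  rcases hG with ⟨F, i1, i2, i3, n, hn, -, ⟨e⟩⟩ | ⟨F, i1, i2, i3, m, hm, -, ⟨e⟩⟩ |
    ⟨F, i1, i2, i3, n, q, hF, hn, -, ⟨e⟩⟩ | ⟨F, i1, i2, i3, m, hm, hodd, ⟨e⟩⟩ |
    ⟨F, i1, i2, i3, m, hm, ⟨e⟩⟩ | ⟨F, i1, i2, i3, m, a, b, hm, hab, ⟨e⟩⟩ |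
    ⟨F, i1, i2, i3, hc⟩ | ⟨K, i1, i2, i3, q, hpp, hc⟩ | ⟨-, K, i1, i2, m, hm, hK, ⟨e⟩⟩ |
    ⟨-, K, i1, i2, m, hm, hK, ⟨e⟩⟩ | ⟨h32, -⟩
  · exact (ok_psl (F := F) n).of_surjective e.symm.toMonoidHom e.symm.surjective
  · exact (ok_psp (F := F) m).of_surjective e.symm.toMonoidHom e.symm.surjective
  · exact (ok_psu (F := F) hF n).of_surjective e.symm.toMonoidHom e.symm.surjective
  · refine absurd hodd (Nat.not_odd_iff_even.2 ?_)
    simpa using even_card_pow (F := F) one_ne_zero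
  · exact (ok_plus (F := F) m hm).of_surjective e.symm.toMonoidHom e.symm.surjective
  · exact (ok_minus (F := F) m hm a b hab).of_surjective e.symm.toMonoidHom e.symm.surjective
  · rcases hc with ⟨-, ⟨e⟩⟩ | ⟨⟨e⟩⟩ | ⟨⟨e⟩⟩ | ⟨⟨e⟩⟩ | ⟨⟨e⟩⟩ <;>
      exact (ok_chev (F := F) (by simp)).of_surjective e.symm.toMonoidHom e.symm.surjective
  · rcases hc with ⟨hK, ⟨e⟩⟩ | ⟨hK, ⟨e⟩⟩
    · exact (ok_twistedE6 hpp hK).of_surjective e.symm.toMonoidHom e.symm.surjective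
    · exact (ok_twistedD4 hpp hK).of_surjective e.symm.toMonoidHom e.symm.surjective
  · exact (ok_suzuki hm hK).of_surjective e.symm.toMonoidHom e.symm.surjective
  · haveI : Fact (Nat.Prime 2) := ⟨Nat.prime_two⟩
    haveI : CharP K 2 := charP_of_card_eq_prime_pow hK
    exact (ok_twistedF4 hm hK).of_surjective e.symm.toMonoidHom e.symm.surjective
  · exact absurd h32 (by decide)

end Cfsg.Agent.S4625
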