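import Cfsg.Statements.S4626
import Cfsg.Agent.Lib.Blocks.Kernel
import Cfsg.Agent.Lib.Blocks.Defect
import Cfsg.Agent.Lib.Char.Quotient
-- import your own Cfsg.Agent.* helpers here

set_option autoImplicit false
open Cfsg

namespace Cfsg.Agent.S4626

/-- Let G be a finite group, p a prime, M a maximal ideal of the algebraic integers containing p, P a Sylow p-subgroup of G and N a normal subgroup of index prime to p containing the centralizer C_G(P). Then every irreducible character of G whose kernel contains N lies in the principal p-block of G. -/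
theorem result {G : Type*} [Group G] [Finite G] (p : ℕ) [Fact p.Prime] (M : Ideal Cfsg.AlgInt) (hM : Cfsg.IsPModular p M) (P : Sylow p G) (N : Subgroup G) [N.Normal] (hidx : ¬ p ∣ N.index)
    (hC : Subgroup.centralizer ((P : Subgroup G) : Set G) ≤ N) (χ : Cfsg.IrrCharacter G) (hker : ∀ n ∈ N, (χ : G → ℂ) n = (χ : G → ℂ) 1) :
    χ ∈ Cfsg.principalBlock M G := by
  classical
  cases nonempty_fintype G
  haveI := Fact.mk hM.1
  set B₀ := Cfsg.principalBlock M G
  have hB : Cfsg.IsPBlock M B₀ := CfsgLib.Blocks.isPBlock_principalBlock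
  have htriv := CfsgLib.Blocks.trivChar_mem_principalBlock (G := G) hM
  have hdeg : ¬ p ∣ Cfsg.charDegree (χ : G → ℂ) := by
    intro hd
    obtain ⟨ψ, hψ, he⟩ := CfsgLib.Char.IsIrrCharacter.exists_deflate χ.2 N hker
    obtain ⟨n, hn, hdvd⟩ := CfsgLib.Char.IsIrrCharacter.apply_one_dvd_card hψ
    have h1 : (χ : G → ℂ) 1 = (n : ℂ) := by rw [congrFun he 1]; simpa using hn
    rw [CfsgLib.Blocks.irr_one_eq, Nat.cast_inj] at h1
    exact hidx ((h1 ▸ hd).trans (hdvd.trans (by rw [Subgroup.index_eq_card])))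
  have hωLR : ∀ g, Cfsg.MemLocalRing M ((χ : G → ℂ) g / (χ : G → ℂ) 1) := fun g => by
    rw [div_eq_mul_inv, CfsgLib.Blocks.irr_one_eq]
    exact CfsgLib.Blocks.LR.mul hM (CfsgLib.Blocks.LR.of_isIntegral hM
      (CfsgLib.Blocks.irr_isIntegral χ g)) (CfsgLib.Blocks.LR.inv hM
      (CfsgLib.Blocks.LR.natCast hM _) fun h => hdeg ((CfsgLib.Blocks.LI.natCast_iff hM _).1 h))
  let act : MulAction (P : Subgroup G) G :=
    MulAction.compHom G (ConjAct.toConjAct.toMonoidHom.comp (P : Subgroup G).subtype)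
  letI := act
  set f : G → ℂ := fun g => Cfsg.blockCoeff B₀ g * ((χ : G → ℂ) g / (χ : G → ℂ) 1)
  set f₁ : G → ℂ := fun g => Cfsg.blockCoeff B₀ g
  have hinv : ∀ (u g : G), f (u * g * u⁻¹) = f g := fun u g => by
    have : Cfsg.blockCoeff B₀ (u * g * u⁻¹) = Cfsg.blockCoeff B₀ g :=
      CfsgLib.Blocks.blockCoeff_isClassFunction B₀ g u
    simp only [f, this, CfsgLib.Blocks.irr_conj_apply]
  have h1 := CfsgLib.Blocks.sum_congr_fixedPoints hM P.isPGroup' f
    (fun g => CfsgLib.Blocks.LR.mul hM (CfsgLib.Blocks.blockCoeff_LR hM hB g) (hωLR g))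
    fun u g => hinv _ _
  have h2 := CfsgLib.Blocks.sum_congr_fixedPoints hM P.isPGroup' f₁
    (fun g => CfsgLib.Blocks.blockCoeff_LR hM hB g)
    fun u g => CfsgLib.Blocks.blockCoeff_isClassFunction B₀ g _
  have h3 : ∑ g : G with g ∈ MulAction.fixedPoints (P : Subgroup G) G, f g
      = ∑ g : G with g ∈ MulAction.fixedPoints (P : Subgroup G) G, f₁ g := by
    refine Finset.sum_congr rfl fun g hg => ?_
    have hgC : g ∈ Subgroup.centralizer ((P : Subgroup G) : Set G) :=
      Subgroup.mem_centralizer_iff.2 fun u hu =>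
        mul_inv_eq_iff_eq_mul.1 ((Finset.mem_filter.1 hg).2 ⟨u, hu⟩)
    simp only [f, f₁]
    rw [hker g (hC hgC), div_self (CfsgLib.Blocks.irr_one_ne_zero χ), mul_one]
  rw [h3] at h1
  have h4 := CfsgLib.Blocks.LI.trans hM h1 (CfsgLib.Blocks.LI.sub_comm h2)
  have e1 : ∑ g, f g = CfsgLib.Blocks.blockInd B₀ χ := by
    rw [← CfsgLib.Blocks.omega_blockCoeff B₀ χ, CfsgLib.Blocks.omega, Finset.sum_div]
    exact Finset.sum_congr rfl fun g _ => (mul_div_assoc _ _ _).symm
  have e2 : ∑ g, f₁ g = 1 := by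
    rw [← CfsgLib.Blocks.blockInd_of_mem htriv, ← CfsgLib.Blocks.omega_blockCoeff B₀,
      CfsgLib.Blocks.omega]
    simp [f₁]
  rw [e1, e2] at h4
  by_contra hne
  rw [CfsgLib.Blocks.blockInd_of_notMem hne, zero_sub] at h4
  have := CfsgLib.Blocks.LI.neg h4
  rw [neg_neg] at this
  exact CfsgLib.Blocks.LI.not_one hM this

end Cfsg.Agent.S4626
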