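import Cfsg.Statements.S4633
import Cfsg.Agent.Lib.BrauerPairs.MaximalCriterion

set_option autoImplicit false
open Cfsg

namespace Cfsg.Agent.S4633

/-- Let B be a block of the finite group G relative to a maximal ideal M of the algebraic integers containing the prime p, with a nontrivial cyclic defect group P. Let c be a block of C_G(P) inducing B and T the stabilizer of c in N_G(P) (the elements of N_G(P) conjugating c to itself); T contains C_G(P). Then T/C_G(P) is cyclic of order dividing p − 1, and it acts freely on the non-identity elements of P: an element of T fixing some non-identity element of P under conjugation lies in C_G(P). -/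
theorem result {G : Type*} [Group G] [Finite G] (p : ℕ) [Fact p.Prime] (M : Ideal Cfsg.AlgInt) (hM : Cfsg.IsPModular p M) (B : Set (Cfsg.IrrCharacter G)) (hB : Cfsg.IsPBlock M B) (P : Subgroup G) (hPD : Cfsg.IsDefectGroup p M B P) (hP1 : P ≠ ⊥) (hcyc : IsCyclic P) (c : Set (Cfsg.IrrCharacter (Subgroup.centralizer (P : Set G)))) (hc : Cfsg.IsInducedBlock M (Subgroup.centralizer (P : Set G)) c B) (T : Subgroup G) (hT : ∀ g : G, g ∈ T ↔ (g ∈ Subgroup.normalizer (P : Set G) ∧ Cfsg.StabilizesBlock (Subgroup.centralizer (P : Set G)) c g)) [hn : ((Subgroup.centralizer (P : Set G)).subgroupOf T).Normal] : IsCyclic (T ⧸ (Subgroup.centralizer (P : Set G)).subgroupOf T) ∧ (Subgroup.centralizer (P : Set G)).relIndex T ∣ p - 1 ∧ ∀ g ∈ T, ∀ x ∈ P, x ≠ 1 → g * x * g⁻¹ = x → g ∈ Subgroup.centralizer (P : Set G) := by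
  classical
  haveI := Fintype.ofFinite G
  have hp : p.Prime := Fact.out
  set C := Subgroup.centralizer (P : Set G) with hCdef
  have hPp : IsPGroup p P := CfsgLib.Blocks.isPGroup_defectGroup hPD
  have hmax := CfsgLib.BrauerPairs.isMaximal_of_defectGroup hM hPD
    ((CfsgLib.Blocks.isBrauerPairOf_iff_induced hM hPp hc.1).2 hc)
  have hPC : P ≤ C := fun a ha => Subgroup.mem_centralizer_iff.2 fun b hb =>
    congrArg Subtype.val ((IsCyclic.commGroup (α := ↥P)).mul_comm (⟨b, hb⟩ : P) ⟨a, ha⟩)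
  have hpC : ∀ g ∈ T, (∃ k : ℕ, orderOf g = p ^ k) → g ∈ C := fun g hg hk => by
    have h := (CfsgLib.BrauerPairs.of_isMaximal hM hmax).2 g ((hT g).1 hg).1 ((hT g).1 hg).2 hk
    exact sup_le hPC le_rfl h
  obtain ⟨⟨z, hzP⟩, hz⟩ := hcyc.exists_generator
  have hgen : ∀ y ∈ P, ∃ k : ℕ, z ^ k = y := fun y hy => by
    obtain ⟨k, hk⟩ := (Submonoid.mem_powers_iff _ _).1
      (mem_powers_iff_mem_zpowers.2 (hz ⟨y, hy⟩))
    exact ⟨k, congrArg Subtype.val hk⟩
  obtain ⟨n, hn'⟩ : ∃ n, orderOf z = p ^ (n + 1) := by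
    obtain ⟨k, hk⟩ := (IsPGroup.iff_orderOf).1 hPp ⟨z, hzP⟩
    rw [Subgroup.orderOf_mk] at hk
    rcases k with _ | k
    · refine absurd ((Subgroup.eq_bot_iff_forall P).2 fun y hy => ?_) hP1
      obtain ⟨i, rfl⟩ := hgen y hy
      have hz1 : z = 1 := orderOf_eq_one_iff.1 (by rw [hk, pow_zero])
      rw [hz1, one_pow]
    · exact ⟨k, hk⟩
  have hpdvd : p ∣ orderOf z := hn' ▸ dvd_pow_self p (Nat.succ_ne_zero n)
  have hconj : ∀ g : T, ∃ k : ℕ, z ^ k = (g : G) * z * (g : G)⁻¹ := fun g =>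
    hgen _ ((Subgroup.mem_normalizer_iff.1 ((hT g).1 g.2).1 z).1 hzP)
  choose k hk using hconj
  have huniq : ∀ i j : ℕ, z ^ i = z ^ j → (i : ZMod p) = (j : ZMod p) := fun i j h =>
    (ZMod.natCast_eq_natCast_iff _ _ _).2 ((pow_eq_pow_iff_modEq.1 h).of_dvd hpdvd)
  let f : ↥T →* ZMod p :=
    { toFun := fun g => (k g : ZMod p)
      map_one' := by
        rw [← Nat.cast_one]
        exact huniq _ _ (by rw [hk, pow_one]; simp)
      map_mul' := fun g h => by
        rw [← Nat.cast_mul]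
        refine huniq _ _ ?_
        rw [hk, pow_mul, hk g, conj_pow, hk h]
        simp [mul_assoc] }
  let ψ : ↥T →* (ZMod p)ˣ := f.toHomUnits
  have hψ : ∀ g : T, ψ g = 1 → (g : G) ∈ C := by
    intro g hg
    have h1 : (k g : ZMod p) = ((1 : ℕ) : ZMod p) := by
      have := congrArg Units.val hg
      rw [Nat.cast_one]
      exact this
    have hdvd : (p : ℤ) ∣ (k g : ℤ) - 1 := by
      rw [← ZMod.intCast_zmod_eq_zero_iff_dvd]
      push_cast
      rw [h1]
      simp
    have h2 := dvd_sub_pow_of_dvd_sub (R := ℤ) hdvd (n + 1)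
    rw [one_pow] at h2
    have hmod : k g ^ p ^ (n + 1) ≡ 1 [MOD p ^ (n + 2)] := by
      refine (Nat.modEq_iff_dvd.2 ?_).symm
      push_cast
      exact h2
    have hpow : ∀ j : ℕ, (g : G) ^ j * z * ((g : G) ^ j)⁻¹ = z ^ (k g ^ j) := by
      intro j
      induction j with
      | zero => simp
      | succ j ih =>
        rw [pow_succ, pow_succ (k g), pow_mul, ← ih, conj_pow, hk]
        simp [mul_assoc]
    have hin : (g : G) ^ p ^ (n + 1) ∈ C := by
      refine Subgroup.mem_centralizer_iff.2 fun y hy => ?_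
      obtain ⟨i, rfl⟩ := hgen y hy
      have e : (g : G) ^ p ^ (n + 1) * z * ((g : G) ^ p ^ (n + 1))⁻¹ = z := by
        rw [hpow]
        conv_rhs => rw [← pow_one z]
        exact pow_eq_pow_iff_modEq.2 (by rw [hn']; exact hmod.of_dvd (pow_dvd_pow p (Nat.le_succ _)))
      exact ((show Commute ((g : G) ^ p ^ (n + 1)) z from mul_inv_eq_iff_eq_mul.1 e).pow_right i).eq.symm
    obtain ⟨a, m, hm, ha⟩ := Nat.exists_eq_pow_mul_and_not_dvd (orderOf_pos (g : G)).ne' p hp.ne_one
    have hin' : (g : G) ^ m ∈ C := by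
      refine hpC _ (T.pow_mem g.2 _) ⟨a, ?_⟩
      have hm0 : m ≠ 0 := fun e => hm (by rw [e]; exact dvd_zero p)
      rw [orderOf_pow' _ hm0, ha, Nat.gcd_mul_left_left, Nat.mul_div_cancel _ (Nat.pos_of_ne_zero hm0)]
    have hgcd : (((p ^ (n + 1)).gcd m : ℕ) : ℤ) = 1 := by
      exact_mod_cast ((hp.coprime_iff_not_dvd.2 hm).pow_left _).gcd_eq_one
    rw [Nat.gcd_eq_gcd_ab] at hgcd
    rw [← zpow_one (g : G), ← hgcd, zpow_add, zpow_mul, zpow_mul, zpow_natCast, zpow_natCast]
    exact C.mul_mem (C.zpow_mem hin _) (C.zpow_mem hin' _)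
  have hker : ψ.ker = C.subgroupOf T := by
    ext g
    rw [MonoidHom.mem_ker, Subgroup.mem_subgroupOf]
    refine ⟨hψ g, fun hg => Units.ext ?_⟩
    show (k g : ZMod p) = 1
    rw [← Nat.cast_one]
    refine huniq _ _ ?_
    rw [hk, pow_one, ← (Subgroup.mem_centralizer_iff.1 hg z hzP), mul_inv_cancel_right]
  let φ := QuotientGroup.lift (C.subgroupOf T) ψ (hker ▸ le_rfl)
  have hφ : Function.Injective φ := by
    rw [injective_iff_map_eq_one]
    intro q
    induction q using QuotientGroup.induction_on with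
    | H g => exact fun hg => (QuotientGroup.eq_one_iff g).2 (hψ g hg)
  refine ⟨isCyclic_of_injective φ hφ, ?_, ?_⟩
  · rw [show p - 1 = Nat.card (ZMod p)ˣ by rw [Nat.card_eq_fintype_card, ZMod.card_units],
      Subgroup.relIndex, Subgroup.index_eq_card]
    exact Subgroup.card_dvd_of_injective φ hφ
  · intro g hg x hx hx1 hgx
    refine hψ ⟨g, hg⟩ (Units.ext ?_)
    show (k ⟨g, hg⟩ : ZMod p) = 1
    obtain ⟨i, rfl⟩ := hgen x hx
    rw [← conj_pow, ← hk ⟨g, hg⟩, ← pow_mul, pow_eq_pow_iff_modEq, hn'] at hgx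
    have hi : ¬ p ^ (n + 1) ∣ i := fun hd => hx1 (orderOf_dvd_iff_pow_eq_one.1 (hn' ▸ hd))
    rw [← Nat.cast_one, eq_comm, ZMod.natCast_eq_natCast_iff]
    have hdv : (p : ℤ) ^ (n + 1) ∣ ((i : ℤ)) * ((k ⟨g, hg⟩ : ℤ) - 1) := by
      have := Nat.modEq_iff_dvd.1 hgx.symm
      push_cast at this
      rw [mul_sub, mul_one, mul_comm]
      exact this
    refine Nat.modEq_iff_dvd.2 ?_
    by_contra hnd
    refine hi (Int.natCast_dvd_natCast.1 ?_)
    push_cast
    refine IsCoprime.dvd_of_dvd_mul_right ?_ hdv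
    exact ((Nat.prime_iff_prime_int.1 hp).coprime_iff_not_dvd.2 (by simpa using hnd)).pow_left

end Cfsg.Agent.S4633
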