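import Cfsg.Statements.S4634
import Cfsg.Agent.Lib.Blocks.CyclicProfile.Frobenius
import Cfsg.Agent.Lib.Blocks.CyclicProfile.Correspond

set_option autoImplicit false
open Cfsg CfsgLib.Blocks CfsgLib.BrauerPairs CfsgLib.BrouePuig CfsgLib.Blocks.CyclicDecomp

namespace Cfsg.Agent.S4634

/-- Let B be a block of the finite group G relative to a maximal ideal M of the algebraic integers containing the prime p, with a nontrivial cyclic defect group P, let c be a block of C_G(P) inducing B, T the stabilizer of c in N_G(P) and e the index of C_G(P) in T. Let F be any finite group of order #P · e having a cyclic subgroup Q of order #P that is its own centralizer (F is then the semidirect product of Q by a cyclic group of order e acting faithfully). Then there is a perfect isometry from the set of all irreducible characters of F onto B whose signs agree on all the characters of F that do not contain Q in their kernel. -/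
theorem result {G : Type*} [Group G] [Finite G] (p : ℕ) [Fact p.Prime] (M : Ideal Cfsg.AlgInt) (hM : Cfsg.IsPModular p M) (B : Set (Cfsg.IrrCharacter G)) (hB : Cfsg.IsPBlock M B) (P : Subgroup G) (hPD : Cfsg.IsDefectGroup p M B P) (hP1 : P ≠ ⊥) (hcyc : IsCyclic P) (c : Set (Cfsg.IrrCharacter (Subgroup.centralizer (P : Set G)))) (hc : Cfsg.IsInducedBlock M (Subgroup.centralizer (P : Set G)) c B) (T : Subgroup G) (hT : ∀ g : G, g ∈ T ↔ (g ∈ Subgroup.normalizer (P : Set G) ∧ Cfsg.StabilizesBlock (Subgroup.centralizer (P : Set G)) c g)) (e : ℕ) (he : (Subgroup.centralizer (P : Set G)).relIndex T = e) (F : Type*) [Group F] [Finite F] (hF : Nat.card F = Nat.card P * e) (Q : Subgroup F) (hQ : IsCyclic Q) (hQcard : Nat.card Q = Nat.card P) (hQC : Subgroup.centralizer (Q : Set F) = Q) : ∃ (I : Cfsg.IrrCharacter F → Cfsg.IrrCharacter G) (ε : Cfsg.IrrCharacter F → ℤ), Cfsg.IsPerfectIsometry p M (Set.univ : Set (Cfsg.IrrCharacter F)) B I ε ∧ ∀ η η' : Cfsg.IrrCharacter F, (∃ x ∈ Q, (η : F → ℂ) x ≠ (η : F → ℂ)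 1) → (∃ x ∈ Q, (η' : F → ℂ) x ≠ (η' : F → ℂ) 1) → ε η = ε η' := by
  classical
  haveI := Fintype.ofFinite G
  haveI := Fintype.ofFinite F
  have hPp := CfsgLib.Blocks.isPGroup_defectGroup hPD
  obtain ⟨a, ha⟩ := hPp.exists_card_eq
  have hmax := CfsgLib.BrouePuig.maximal_of_induced hM hPD hPp hc
  have hTS : T = CfsgLib.BrauerPairs.pairStab P c := by
    ext g
    rw [hT, CfsgLib.BrauerPairs.mem_pairStab]
  subst hTS
  haveI : ((Subgroup.centralizer (P : Set G)).subgroupOf (CfsgLib.BrauerPairs.pairStab P c)).Normal :=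
    Subgroup.normal_subgroupOf_iff_le_normalizer (centralizer_le_pairStab c) |>.2
      ((CfsgLib.BrouePuig.pairStab_le_normalizer c).trans
        (normalizer_le_normalizer_centralizer P))
  have hdiv : e ∣ p - 1 := he ▸ (CfsgLib.BrouePuig.cyclic_inertial hM hmax hcyc hP1 rfl).2
  obtain ⟨huniv, A, hA, R, hR⟩ := CfsgLib.Blocks.CyclicProfile.exists_frobenius_profile hM hQ
    (hQcard.trans ha) hdiv (hQcard ▸ hF) hQC
  obtain ⟨FG⟩ := CfsgLib.Blocks.CyclicProfile.exists_profile hM hmax hcyc hP1
  haveI := hcyc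
  haveI := hQ
  let φ : Q ≃* P := mulEquivOfCyclicCardEq hQcard
  have hAm : A.map (MulAut.congr φ).toMonoidHom
      = Cfsg.autInducedBy (CfsgLib.BrauerPairs.pairStab P c) P := by
    have hc' : Nat.card (A.map (MulAut.congr φ).toMonoidHom) = e :=
      ((Nat.card_congr (A.equivMapOfInjective _ (MulAut.congr φ).injective).toEquiv).symm).trans hA
    refine CfsgLib.Blocks.CyclicProfile.eq_of_card hcyc ha (hc'.symm ▸ hdiv) ?_
    rw [hc', CfsgLib.Blocks.CyclicProfile.card_autStab, he]
  obtain ⟨I, ε, hiso, hsame, -⟩ := CfsgLib.Blocks.CyclicProfile.exists_isometry hM hB huniv FG R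
    (fun x y => IsCyclic.commGroup.mul_comm x y)
    (CfsgLib.Blocks.CyclicProfile.free hQ (hQcard.trans ha) (hA ▸ hdiv)) φ hAm
  exact ⟨I, ε, hiso, fun η η' h h' => hsame η (hR ▸ h) η' (hR ▸ h')⟩

end Cfsg.Agent.S4634
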