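import Cfsg.Statements.S4635
import Cfsg.Agent.Lib.Blocks.CyclicProfile.Correspond

set_option autoImplicit false
open Cfsg

namespace Cfsg.Agent.S4635

/-- Let B be a block of the finite group G relative to a maximal ideal M of the algebraic integers containing the prime p, with a nontrivial cyclic defect group P; let Z be the subgroup of order p of P and H = N_G(Z), which contains N_G(P). Let c be the block of H with defect group P that induces B. Then B and c contain the same number of irreducible characters, have the same p-regular rank, and there is a perfect isometry from c onto B. -/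
theorem result {G : Type*} [Group G] [Finite G] (p : ℕ) [Fact p.Prime] (M : Ideal Cfsg.AlgInt) (hM : Cfsg.IsPModular p M) (B : Set (Cfsg.IrrCharacter G)) (hB : Cfsg.IsPBlock M B) (P : Subgroup G) (hPD : Cfsg.IsDefectGroup p M B P) (hP1 : P ≠ ⊥) (hcyc : IsCyclic P) (Z : Subgroup G) (hZ : Z ≤ P) (hZcard : Nat.card Z = p) (H : Subgroup G) (hH : H = Subgroup.normalizer (Z : Set G)) (c : Set (Cfsg.IrrCharacter H)) (hcD : Cfsg.IsDefectGroup p M c (P.subgroupOf H)) (hc : Cfsg.IsInducedBlock M H c B) : Nat.card c = Nat.card B ∧ Cfsg.blockRank p c = Cfsg.blockRank p B ∧ ∃ (I : Cfsg.IrrCharacter H → Cfsg.IrrCharacter G) (ε : Cfsg.IrrCharacter H → ℤ), Cfsg.IsPerfectIsometry p M c B I ε := by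
  classical
  haveI := Fintype.ofFinite G
  subst hH
  obtain ⟨z, hz⟩ := (isCyclic_of_prime_card (p := p) hZcard).exists_zpow_surjective
  have hzZ : Subgroup.zpowers (z : G) = Z := by
    refine le_antisymm (Subgroup.zpowers_le.2 z.2) fun x hx => ?_
    obtain ⟨i, hi⟩ := hz ⟨x, hx⟩
    exact ⟨i, congrArg Subtype.val hi⟩
  have hN : Subgroup.normalizer (P : Set G) ≤ Subgroup.normalizer (Z : Set G) := by
    intro g hg
    rw [← hzZ]
    exact CfsgLib.Blocks.CyclicRank.mem_normalizer_zpowers hcyc hg (hZ z.2)
  have hPH : P ≤ Subgroup.normalizer (Z : Set G) := Subgroup.le_normalizer.trans hN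
  have hCH : Subgroup.centralizer (P : Set G) ≤ Subgroup.normalizer (Z : Set G) :=
    (Subgroup.centralizer_le_normalizer _).trans hN
  obtain ⟨g', hg'⟩ := CfsgLib.BrauerPairs.exists_pair_of_defectGroup hM hc.1 hcD
  obtain ⟨f, hiff, hmax, himg⟩ :=
    CfsgLib.Blocks.CyclicProfile.exists_pair_of_induced hM hPD hPH hCH hc hg'
  refine CfsgLib.Blocks.CyclicProfile.cyclic_isometry hM hmax
    (CfsgLib.BrauerPairs.isMaximal_of_defectGroup hM hcD hg') hcyc hP1
    (Subgroup.subgroupOfEquivOfLe hPH) ?_
  have hC : Subgroup.centralizer ((P.subgroupOf (Subgroup.normalizer (Z : Set G)) : Subgroup _) :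
      Set (Subgroup.normalizer (Z : Set G)))
      = (Subgroup.centralizer (P : Set G)).subgroupOf (Subgroup.normalizer (Z : Set G)) :=
    Subgroup.ext fun x => (hiff x).symm
  rw [← himg, CfsgLib.BrouePuig.pairStab_subgroupOf hPH hCH hiff, hC]
  exact Subgroup.relIndex_subgroupOf ((CfsgLib.BrouePuig.pairStab_le_normalizer f).trans hN)

end Cfsg.Agent.S4635
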