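import Cfsg.Statements.S4638
import Cfsg.Agent.Lib.BrouePuig.Isometry.Klein

set_option autoImplicit false
open Cfsg

namespace Cfsg.Agent.S4638

/-- Let B be a block of the finite group G relative to a maximal ideal M of the algebraic integers containing 2, with a Klein four defect group P, and let c be its Brauer correspondent: the block of N_G(P) with defect group P that induces B. Then there is a perfect isometry from c onto B. -/
theorem result {G : Type*} [Group G] [Finite G] (M : Ideal Cfsg.AlgInt) (hM : Cfsg.IsPModular 2 M) (B : Set (Cfsg.IrrCharacter G)) (hB : Cfsg.IsPBlock M B) (P : Subgroup G) (hPD : Cfsg.IsDefectGroup 2 M B P) (hV : IsKleinFour P) (c : Set (Cfsg.IrrCharacter (Subgroup.normalizer (P : Set G)))) (hcD : Cfsg.IsDefectGroup 2 M c (P.subgroupOf (Subgroup.normalizer (P : Set G)))) (hc : Cfsg.IsInducedBlock M (Subgroup.normalizer (P : Set G)) c B) : ∃ (I : Cfsg.IrrCharacter (Subgroup.normalizer (P : Set G)) → Cfsg.IrrCharacter G) (ε : Cfsg.IrrCharacter (Subgroup.normalizer (P : Set G)) →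 ℤ), Cfsg.IsPerfectIsometry 2 M c B I ε := by
  classical
  haveI := Fintype.ofFinite G
  haveI : Fact (Nat.Prime 2) := ⟨Nat.prime_two⟩
  obtain ⟨g', hg'⟩ := CfsgLib.BrauerPairs.exists_pair_of_defectGroup hM hc.1 hcD
  obtain ⟨f, hle, hiff, hmax, himg⟩ :=
    CfsgLib.BrouePuig.Isometry.exists_pair_normalizer hM hPD hc hg'
  have hmax' := CfsgLib.BrauerPairs.isMaximal_of_defectGroup hM hcD hg'
  have hPN : P ≤ Subgroup.normalizer (P : Set G) := Subgroup.le_normalizer
  have φ : P.subgroupOf (Subgroup.normalizer (P : Set G)) ≃* P :=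
    Subgroup.subgroupOfEquivOfLe hPN
  have hV' : IsKleinFour (P.subgroupOf (Subgroup.normalizer (P : Set G))) := by
    refine ⟨(Nat.card_congr φ.toEquiv).trans hV.card_four, ?_⟩
    rw [Monoid.exponent_eq_of_mulEquiv φ]
    exact hV.exponent_two
  have hst : CfsgLib.BrauerPairs.pairStab (P.subgroupOf (Subgroup.normalizer (P : Set G))) g'
      = (CfsgLib.BrauerPairs.pairStab P f).subgroupOf (Subgroup.normalizer (P : Set G)) := by
    rw [← himg, CfsgLib.BrouePuig.pairStab_subgroupOf hPN hle hiff]
  by_cases h : CfsgLib.BrauerPairs.pairStab P f ≤ Subgroup.centralizer (P : Set G)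
  · refine CfsgLib.BrouePuig.Isometry.klein_isometry_one hM hmax hmax' hV hV' φ h fun x hx => ?_
    rw [hst] at hx
    exact (hiff x).1 (h hx)
  · refine CfsgLib.BrouePuig.Isometry.klein_isometry_three hM hmax hmax' hV hV' h fun h' => h ?_
    intro t ht
    have hN : t ∈ Subgroup.normalizer (P : Set G) :=
      CfsgLib.BrouePuig.pairStab_le_normalizer f ht
    exact (hiff ⟨t, hN⟩).2 (h' (by rw [hst]; exact ht))

end Cfsg.Agent.S4638
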