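import Cfsg.Statements.S4640
import Cfsg.Agent.Lib.Blocks.CoverBasics
import Cfsg.Agent.Lib.Blocks.Rank
import Cfsg.Agent.Lib.Char.CliffordAbelian
import Cfsg.Agent.S0970
-- import your own Cfsg.Agent.* helpers here

set_option autoImplicit false
open Cfsg CfsgLib.Blocks CfsgLib.Blocks.FongReynolds

namespace Cfsg.Agent.S4640


/-- For a commutative group the homomorphisms to `ℂˣ` separate. -/
theorem sum_hom {Q : Type*} [Group Q] [Finite Q] (hQ : ∀ a b : Q, a * b = b * a)
    [Fintype (Q →* ℂˣ)] (q : Q) [Decidable (q = 1)] :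
    ∑ f : Q →* ℂˣ, (f q : ℂ) = if q = 1 then (Nat.card Q : ℂ) else 0 := by
  classical
  letI : Fintype Q := Fintype.ofFinite Q
  by_cases hq : q = 1
  · rw [if_pos hq]
    have hcard : Nat.card (Q →* ℂˣ) = Nat.card Q := by
      rw [Nat.card_congr CfsgLib.Char.homEquivLinear, CfsgLib.Char.card_linear,
        show commutator Q = ⊥ from (commutator_eq_bot_iff_center_eq_top Q).2
          ((Subgroup.eq_top_iff' _).2 fun a => Subgroup.mem_center_iff.2 fun b => hQ b a),
        Subgroup.index_bot]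
    simp only [hq, map_one, Units.val_one, Finset.sum_const, nsmul_eq_mul, mul_one, Finset.card_univ]
    rw [← hcard, Nat.card_eq_fintype_card]
  · rw [if_neg hq]
    obtain ⟨f₀, hf₀⟩ : ∃ f₀ : Q →* ℂˣ, f₀ q ≠ 1 := by
      by_contra hcon
      push Not at hcon
      refine hq (CfsgLib.Char.eq_one_of_forall_irr fun χ => ?_)
      obtain ⟨f, hf⟩ := CfsgLib.Char.exists_hom_of_apply_one_eq_one
        (CfsgLib.Char.isCharacter_irr χ) (CfsgLib.Char.apply_one_eq_one_of_comm hQ χ.2)
      simp only [hf, hcon f, map_one]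
    have h : (f₀ q : ℂ) * ∑ f : Q →* ℂˣ, (f q : ℂ) = ∑ f : Q →* ℂˣ, (f q : ℂ) := by
      rw [Finset.mul_sum]
      exact Fintype.sum_equiv (Equiv.mulLeft f₀) _ _ fun f => by simp
    refine (mul_eq_zero.1 (show ((f₀ q : ℂ) - 1) * ∑ f : Q →* ℂˣ, (f q : ℂ) = 0 by
      rw [sub_mul, h, one_mul, sub_self])).resolve_left fun h1 => hf₀ (Units.ext ?_)
    exact sub_eq_zero.1 h1


/-- Let N be a normal subgroup of the finite group G of index a power of the prime p, M a maximal ideal of the algebraic integers containing p, b a block of N stabilized by every element of G, and B a block of G covering b (some member of B has a member of b as a constituent of its restriction to N). Suppose that B has a commutative defect group P. Then G = NP and P ∩ N is a defect group of b; every member of B restricts to a member of b; every member of b is the restriction of exactly [G : N] members of B; B contains exactly [G : N] times as many irreducible characters as b; and B and b have the same p-regular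 rank. -/
theorem result {G : Type*} [Group G] [Fintype G] (p : ℕ) [Fact p.Prime] (M : Ideal Cfsg.AlgInt) (hM : Cfsg.IsPModular p M) (N : Subgroup G) [N.Normal] [Fintype N] (hNi : ∃ k : ℕ, N.index = p ^ k) (b : Set (Cfsg.IrrCharacter N)) (hb : Cfsg.IsPBlock M b) (hstab : ∀ g : G, Cfsg.StabilizesBlock N b g) (B : Set (Cfsg.IrrCharacter G)) (hB : Cfsg.IsPBlock M B) (hcov : ∃ χ ∈ B, ∃ θ ∈ b, Cfsg.classInner (fun n : N => (χ : G → ℂ) n) (θ : N → ℂ) ≠ 0) (P : Subgroup G) (hPD : Cfsg.IsDefectGroup p M B P) (hPab : ∀ x ∈ P, ∀ y ∈ P, x * y = y * x) : N ⊔ P = ⊤ ∧ Cfsg.IsDefectGroup p M b ((P ⊓ N).subgroupOf N) ∧ (∀ χ ∈ B, ∃ θ ∈ b, ∀ n : N, (χ : G → ℂ) n = (θ : N → ℂ) n) ∧ (∀ θ ∈ b, Nat.card {χ : Cfsg.IrrCharacter G // χ ∈ B ∧ ∀ n : N, (χ : G → ℂ) n = (θ : N → ℂ) n} = N.index) ∧ Nat.card B = N.index * Nat.card b ∧ Cfsg.blockRank p B = Cfsg.blockRank p b := by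

  classical
  have hT := CoverDefect.mem_stabilizer (G := G) hM hb
  have hcj : ∀ (x : G), ∀ θ ∈ b, conjIrr x θ ∈ b := by
    intro x θ hθ
    obtain ⟨χ', hχ', hconj⟩ := (hstab x⁻¹).2 θ hθ
    have e : χ' = conjIrr x θ := Subtype.ext (funext fun n => hconj (MulAut.conjNormal x n) n (by
      rw [MulAut.conjNormal_apply]; group))
    exact e ▸ hχ'
  have huniq : ∀ B₁ : Set (IrrCharacter G), IsPBlock M B₁ →
      (∃ χ ∈ B₁, ∃ θ ∈ b, classInner (fun n : N => (χ : G → ℂ) n) (θ : N → ℂ) ≠ 0) → B₁ = B :=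
    fun B₁ h₁ hc₁ => (CoverBasics.existsUnique_cover hM hNi hb).unique ⟨h₁, hc₁⟩ ⟨hB, hcov⟩
  have h0970 := Cfsg.Agent.S0970.result p M hM N b hb (fun g θ hθ θ' hθ' => by
    have e : θ' = conjIrr g θ := Subtype.ext (funext fun n => (hθ' n).trans
      (congrArg (θ : N → ℂ) (Subtype.ext (MulAut.conjNormal_apply g n).symm)))
    exact e ▸ hcj g θ hθ) B hB hcov
    (fun B'' hB'' hc'' => (congrArg (blockDefect p) (huniq B'' hB'' hc'')).le) P hPD
  obtain ⟨k, hk⟩ := hNi
  have hsup : N ⊔ P = ⊤ := by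
    obtain ⟨i, -, hi⟩ := (Nat.dvd_prime_pow hM.1).1
      (hk ▸ Subgroup.index_dvd_of_le (le_sup_right : N ≤ P ⊔ N))
    rw [sup_comm, ← Subgroup.index_eq_one, hi]
    rcases Nat.eq_zero_or_pos i with rfl | hi'
    · rfl
    · exact absurd (hi ▸ dvd_pow_self p hi'.ne') h0970.1
  have hregN : ∀ g : G, ¬ p ∣ orderOf g → g ∈ N := by
    intro g hg
    rw [← QuotientGroup.eq_one_iff, ← orderOf_eq_one_iff]
    have h1 : orderOf (g : G ⧸ N) ∣ orderOf g := orderOf_map_dvd (QuotientGroup.mk' N) g
    have h2 : orderOf (g : G ⧸ N) ∣ p ^ k := by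
      rw [← hk, Subgroup.index_eq_card]; exact orderOf_dvd_natCard _
    exact Nat.eq_one_of_dvd_coprimes (((hM.1.coprime_iff_not_dvd).2 hg).pow_left k) h2 h1
  have hQab : ∀ a b : G ⧸ N, a * b = b * a := by
    intro a c
    obtain ⟨a, rfl⟩ := QuotientGroup.mk'_surjective N a
    obtain ⟨c, rfl⟩ := QuotientGroup.mk'_surjective N c
    obtain ⟨n, hn, u, hu, rfl⟩ := Subgroup.mem_sup_of_normal_left.1 (hsup ▸ Subgroup.mem_top a)
    obtain ⟨m, hm, v, hv, rfl⟩ := Subgroup.mem_sup_of_normal_left.1 (hsup ▸ Subgroup.mem_top c)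
    simp only [map_mul, show QuotientGroup.mk' N n = 1 from (QuotientGroup.eq_one_iff n).2 hn,
      show QuotientGroup.mk' N m = 1 from (QuotientGroup.eq_one_iff m).2 hm, one_mul]
    rw [← map_mul, hPab u hu v hv, map_mul]
  letI : Fintype (G ⧸ N →* ℂˣ) := by
    haveI : Finite (G ⧸ N →* ℂˣ) := Finite.of_equiv _ CfsgLib.Char.homEquivLinear.symm
    exact Fintype.ofFinite _
  have hyP : ∃ y ∈ N, ∀ χ ∈ B, ∀ x ∈ P, (χ : G → ℂ) (x * y) ≠ 0 := by
    obtain ⟨y, hy, S, hS⟩ := id hPD
    have hPy : ∀ u ∈ P, Commute u y := by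
      intro u hu
      rw [hS] at hu
      obtain ⟨c, -, rfl⟩ := hu
      exact Subgroup.mem_centralizer_singleton_iff.1 c.2
    refine ⟨y, hregN y fun hd => hy.2.1 (by rw [IsPBlock.blockCoeff_eq_zero hM hB hd]; exact LI.zero hM),
      fun χ hχ x hx h0 => ?_⟩
    obtain ⟨j, hj⟩ := (IsPGroup.iff_orderOf.1 (isPGroup_defectGroup hPD)) ⟨x, hx⟩
    rw [Subgroup.orderOf_mk] at hj
    refine not_LI_centralChar_mul_defectClass hM hB hy (hPy x hx) hj ?_ hχ ?_
    · have hle : P ≤ Subgroup.centralizer ({x * y} : Set G) := fun u hu =>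
        Subgroup.mem_centralizer_singleton_iff.2
          (Commute.mul_right (show Commute u x from hPab u hu x hx) (hPy u hu))
      have hc : p ^ centExp p y = Nat.card P := by
        rw [hS, Subgroup.card_map_of_injective (Subgroup.subtype_injective _),
          S.card_eq_multiplicity]
        rfl
      exact (hM.1.pow_dvd_iff_le_factorization Nat.card_pos.ne').1
        (hc ▸ Subgroup.card_dvd_of_le hle)
    · rw [centralChar, h0, mul_zero, zero_div]
      exact LI.zero hM
  obtain ⟨y, hyN, hy0⟩ := hyP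
  have hres : ∀ χ ∈ B, ∃ θ ∈ b, ∀ n : N, (χ : G → ℂ) n = (θ : N → ℂ) n := by
    intro χ hχ
    have hc := CfsgLib.Char.IsCharacter.restrict (CfsgLib.Char.isCharacter_irr χ) N
    have hirr : IsIrrCharacter N fun n : N => (χ : G → ℂ) n := by
      refine CfsgLib.Char.IsCharacter.isIrrCharacter_of_norm_one hc ?_
      have hf : ∀ f : G ⧸ N →* ℂˣ,
          classInner (fun g => (χ : G → ℂ) g * (f (g : G ⧸ N) : ℂ)) (χ : G → ℂ)
            = if f = 1 then 1 else 0 := by
        intro f
        by_cases hf1 : f = 1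
        · subst hf1
          rw [if_pos rfl]
          simp only [MonoidHom.one_apply, Units.val_one, mul_one]
          exact CfsgLib.Char.classInner_irr_self χ.2
        · rw [if_neg hf1]
          refine CfsgLib.Char.classInner_irr_ne
            (CfsgLib.Char.IsIrrCharacter.mul_hom χ.2 (f.comp (QuotientGroup.mk' N))) χ.2 fun he => ?_
          obtain ⟨x, hx, hfx⟩ : ∃ x ∈ P, f (x : G ⧸ N) ≠ 1 := by
            by_contra hcon
            push Not at hcon
            refine hf1 (MonoidHom.ext fun q => ?_)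
            obtain ⟨g, rfl⟩ := QuotientGroup.mk'_surjective N q
            obtain ⟨n, hn, u, hu, rfl⟩ := Subgroup.mem_sup_of_normal_left.1 (hsup ▸ Subgroup.mem_top g)
            rw [map_mul, show QuotientGroup.mk' N n = 1 from (QuotientGroup.eq_one_iff n).2 hn,
              one_mul]
            exact hcon u hu
          have h1 := congrFun he (x * y)
          simp only [Pi.mul_apply, MonoidHom.comp_apply, QuotientGroup.mk'_apply,
            QuotientGroup.mk_mul, (QuotientGroup.eq_one_iff y).2 hyN, mul_one] at h1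
          exact hfx (Units.ext ((mul_eq_left₀ (hy0 χ hχ x hx)).1 h1))
      have h1 : ∑ f : G ⧸ N →* ℂˣ,
          classInner (fun g => (χ : G → ℂ) g * (f (g : G ⧸ N) : ℂ)) (χ : G → ℂ) = 1 := by
        rw [Finset.sum_congr rfl fun f _ => hf f, Finset.sum_ite_eq' Finset.univ 1 fun _ => (1 : ℂ),
          if_pos (Finset.mem_univ _)]
      simp only [Cfsg.classInner] at h1 ⊢
      rw [← Finset.mul_sum, Finset.sum_comm] at h1
      have h2 : ∀ g : G, ∑ f : G ⧸ N →* ℂˣ,
          (χ : G → ℂ) g * (f (g : G ⧸ N) : ℂ) * (starRingEnd ℂ) ((χ : G → ℂ) g)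
          = if g ∈ N then (N.index : ℂ) * ((χ : G → ℂ) g * (starRingEnd ℂ) ((χ : G → ℂ) g))
            else 0 := by
        intro g
        rw [← Finset.sum_mul, ← Finset.mul_sum, sum_hom hQab, Subgroup.index_eq_card]
        by_cases hg : g ∈ N
        · rw [if_pos hg, if_pos ((QuotientGroup.eq_one_iff g).2 hg)]; ring
        · rw [if_neg hg, if_neg fun h => hg ((QuotientGroup.eq_one_iff g).1 h)]; ring
      rw [Finset.sum_congr rfl fun g _ => h2 g, ← Finset.sum_filter,
        Finset.sum_subtype _ (p := fun x : G => x ∈ N) (fun x => by simp), ← Finset.mul_sum,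
        ← Subgroup.index_mul_card N] at h1
      refine Eq.trans ?_ h1
      have hI : (N.index : ℂ) ≠ 0 := Nat.cast_ne_zero.2 Subgroup.index_ne_zero_of_finite
      push_cast
      field_simp
    obtain ⟨χ₀, hχ₀, θ₀, hθ₀, h₀⟩ := hcov
    obtain ⟨θ, hθ, h⟩ := CoverBasics.exists_over_of_sameBlock' hM hb hθ₀ h₀
      (IsPBlock.sameBlock hM hB hχ₀ hχ)
    refine ⟨θ, hθ, fun n => ?_⟩
    by_contra hne
    exact h (CfsgLib.Char.classInner_irr_ne hirr θ.2 fun he => hne (congrFun he n))
  have hcnt : ∀ θ ∈ b, Nat.card {χ : IrrCharacter G //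
      χ ∈ B ∧ ∀ n : N, (χ : G → ℂ) n = (θ : N → ℂ) n} = N.index := by
    intro θ hθ
    have hI := CfsgLib.Char.IsCharacter.indFun N (CfsgLib.Char.isCharacter_irr θ)
    have hco : ∀ χ : IrrCharacter G, classInner (indFun N (θ : N → ℂ)) (χ : G → ℂ)
        = if χ ∈ B ∧ ∀ n : N, (χ : G → ℂ) n = (θ : N → ℂ) n then 1 else 0 := by
      intro χ
      rw [CfsgLib.Char.classInner_indFun N _ (CfsgLib.Char.IsIrrCharacter.isClassFunction χ.2),
        CfsgLib.Char.IsCharacter.classInner_comm (CfsgLib.Char.isCharacter_irr θ)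
          (CfsgLib.Char.IsCharacter.restrict (CfsgLib.Char.isCharacter_irr χ) N)]
      split_ifs with h
      · rw [show (fun n : N => (χ : G → ℂ) n) = (θ : N → ℂ) from funext h.2]
        exact CfsgLib.Char.classInner_irr_self θ.2
      · by_contra hne
        have hχB : χ ∈ B := by
          rw [← huniq _ (isPBlock_blockOf χ) ⟨χ, SameBlock_refl hM _, θ, hθ, hne⟩]
          exact SameBlock_refl hM _
        obtain ⟨φ, hφ, hφe⟩ := hres χ hχB
        refine hne ?_
        rw [show (fun n : N => (χ : G → ℂ) n) = (φ : N → ℂ) from funext hφe]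
        refine CfsgLib.Char.classInner_irr_ne φ.2 θ.2 fun he => h ⟨hχB, fun n => ?_⟩
        rw [hφe n, he]
    have h1 := congrFun (CfsgLib.Char.IsClassFunction.eq_sum_irr
      (CfsgLib.Char.IsCharacter.isClassFunction hI)) 1
    simp only [Finset.sum_apply, Pi.smul_apply, smul_eq_mul, hco, ite_mul, one_mul, zero_mul,
      Finset.sum_ite, Finset.sum_const_zero, add_zero, CfsgLib.Char.indFun_one] at h1
    rw [Finset.sum_eq_card_nsmul (b := (θ : N → ℂ) 1) fun (χ : IrrCharacter G) hχ =>
      ((Finset.mem_filter.1 hχ).2).2 1, nsmul_eq_mul] at h1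
    have h2 := mul_right_cancel₀ (irr_one_ne_zero θ) h1
    rw [Nat.card_eq_fintype_card, Fintype.card_subtype]
    exact_mod_cast h2.symm
  refine ⟨hsup, h0970.2.1, hres, hcnt, ?_, ?_⟩
  · choose r hrb hr using hres
    rw [Nat.card_eq_card_toFinset B, Nat.card_eq_card_toFinset b]
    rw [Finset.card_eq_sum_card_fiberwise (t := b.toFinset)
      (f := fun χ => if h : χ ∈ B then r χ h else Classical.choice ⟨(IsPBlock.nonempty hM hb).some⟩)
      (fun χ hχ => by
        simp only [Finset.mem_coe, Set.mem_toFinset] at hχ ⊢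
        rw [dif_pos hχ]; exact hrb χ hχ)]
    rw [Finset.sum_congr rfl fun θ hθ => ?_, Finset.sum_const, smul_eq_mul, mul_comm]
    rw [← hcnt θ (Set.mem_toFinset.1 hθ), Nat.card_eq_fintype_card, Fintype.card_subtype]
    congr 1
    ext χ
    simp only [Finset.mem_filter, Set.mem_toFinset, Finset.mem_univ, true_and]
    constructor
    · rintro ⟨hχ, he⟩
      rw [dif_pos hχ] at he
      exact ⟨hχ, fun n => by rw [hr χ hχ n, he]⟩
    · rintro ⟨hχ, he⟩
      rw [dif_pos hχ]
      exact ⟨hχ, Subtype.ext (funext fun n => (hr χ hχ n).symm.trans (he n))⟩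
  · let E : (N → ℂ) →ₗ[ℂ] (G → ℂ) :=
      { toFun := fun f g => if hg : g ∈ N then f ⟨g, hg⟩ else 0
        map_add' := fun f f' => funext fun g => by by_cases hg : g ∈ N <;> simp [hg]
        map_smul' := fun c f => funext fun g => by by_cases hg : g ∈ N <;> simp [hg] }
    have hE : Function.Injective E := fun f f' h => funext fun n => by
      have := congrFun h (n : G)
      simpa [E] using this
    have hreg : ∀ (χ : IrrCharacter G) (θ : IrrCharacter N),
        (∀ n : N, (χ : G → ℂ) n = (θ : N → ℂ) n) →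
        E (pRegularPart p (θ : N → ℂ)) = pRegularPart p (χ : G → ℂ) := fun χ θ h => funext fun g => by
      show (if hg : g ∈ N then _ else 0) = _
      by_cases hg : g ∈ N
      · have ho : IsPRegular p (⟨g, hg⟩ : N) ↔ IsPRegular p g := by
          rw [IsPRegular, IsPRegular, Subgroup.orderOf_mk]
        rw [dif_pos hg, pRegularPart_apply, pRegularPart_apply, ← h ⟨g, hg⟩]
        simp only [ho]
      · rw [dif_neg hg, pRegularPart_apply, if_neg (show ¬ IsPRegular p g from fun h' => hg (hregN g h'))]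
    have himg : (fun χ : IrrCharacter G => pRegularPart p (χ : G → ℂ)) '' B
        = E '' ((fun θ : IrrCharacter N => pRegularPart p (θ : N → ℂ)) '' b) := by
      rw [Set.image_image]
      ext f
      constructor
      · rintro ⟨χ, hχ, rfl⟩
        obtain ⟨θ, hθ, h⟩ := hres χ hχ
        exact ⟨θ, hθ, hreg χ θ h⟩
      · rintro ⟨θ, hθ, rfl⟩
        obtain ⟨⟨χ, hχ, h⟩⟩ := (Nat.card_ne_zero.1
          (by rw [hcnt θ hθ]; exact Subgroup.index_ne_zero_of_finite)).1
        exact ⟨χ, hχ, (hreg χ θ h).symm⟩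
    rw [blockRank, blockRank, himg, ← Submodule.map_span]
    exact (Submodule.equivMapOfInjective E hE _).finrank_eq.symm


end Cfsg.Agent.S4640
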