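import Cfsg.Statements.S4642
import Cfsg.Agent.Lib.Blocks.PrincipalType
-- import your own Cfsg.Agent.* helpers here

set_option autoImplicit false
open Cfsg CfsgLib.Blocks CfsgLib.Blocks.FongReynolds

namespace Cfsg.Agent.S4642

/-- Let G be a finite group, p a prime, M a maximal ideal of the algebraic integers containing p, K the largest normal subgroup of G of order prime to p, and L the preimage in G of the largest normal p-subgroup of G/K. Let Q be a Sylow p-subgroup of L and suppose C_G(Q) ≤ L. Let θ be an irreducible character of K invariant under conjugation by every element of G, and let B be the set of irreducible characters of G whose restriction to K contains θ. Then B is a block of G, every Sylow p-subgroup of G is a defect group of B, and B is of principal type: for every p-subgroup R of G exactly one block of C_G(R) induces B. -/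
theorem result {G : Type*} [Group G] [Fintype G] (p : ℕ) [Fact p.Prime] (M : Ideal Cfsg.AlgInt) (hM : Cfsg.IsPModular p M) (K : Subgroup G) (hK : K = Cfsg.pPrimeCore p G) [Fintype K] (L : Subgroup G) (hL : L = Cfsg.pPrimePCore p G) (Q : Subgroup G) (hQL : Q ≤ L) (hQp : IsPGroup p Q) (hQS : ¬ p ∣ Q.relIndex L) (hCQ : Subgroup.centralizer (Q : Set G) ≤ L) (θ : Cfsg.IrrCharacter K) (hθ : ∀ g : G, Cfsg.IsConjCharOf K g (θ : K → ℂ) (θ : K → ℂ)) (B : Set (Cfsg.IrrCharacter G)) (hBdef : ∀ χ : Cfsg.IrrCharacter G, χ ∈ B ↔ Cfsg.classInner (fun k : K => (χ : G → ℂ) k) (θ : K → ℂ) ≠ 0) : Cfsg.IsPBlock M B ∧ (∀ S : Sylow p G, Cfsg.IsDefectGroup p M B S) ∧ ∀ R : Subgroup G, IsPGroup p R → ∃! f : Set (Cfsg.IrrCharacter (Subgroup.centralizer (R : Set G))), Cfsg.IsInducedBlock M (Subgroup.centralizer (R : Set G)) f B := by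
  classical
  have := Fact.mk hM.1
  subst hK hL
  haveI : (Cfsg.pPrimeCore p G).Normal := inferInstance
  haveI : (Cfsg.pPrimePCore p G).Normal := Subgroup.Normal.comap inferInstance _
  have hK' : ¬ p ∣ Nat.card (Cfsg.pPrimeCore p G) :=
    hM.1.coprime_iff_not_dvd.1 (CfsgLib.Solvable.Cores.coprime_card_pPrimeCore p).symm
  have hKL : Cfsg.pPrimeCore p G ≤ Cfsg.pPrimePCore p G := fun x hx => by
    show QuotientGroup.mk' (Cfsg.pPrimeCore p G) x ∈ Cfsg.pCore p (G ⧸ Cfsg.pPrimeCore p G)
    rw [show QuotientGroup.mk' (Cfsg.pPrimeCore p G) x = 1 from (QuotientGroup.eq_one_iff x).2 hx]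
    exact one_mem _
  obtain ⟨k, hk⟩ : ∃ k, (Cfsg.pPrimeCore p G).relIndex (Cfsg.pPrimePCore p G) = p ^ k := by
    obtain ⟨k, hk⟩ := (CfsgLib.Solvable.Cores.isPGroup_pCore (G := G ⧸ Cfsg.pPrimeCore p G) p).exists_card_eq
    refine ⟨k, ?_⟩
    rw [← hk, ← Subgroup.relIndex_bot_left]
    conv_rhs => rw [← Subgroup.map_comap_eq_self_of_surjective
      (QuotientGroup.mk'_surjective (Cfsg.pPrimeCore p G)) (Cfsg.pCore p _), ← Subgroup.relIndex_comap,
      MonoidHom.comap_bot, QuotientGroup.ker_mk']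
    rfl
  have hθ' : ∀ g : G, conjIrr g θ = θ := fun g => Subtype.ext (funext fun n =>
    hθ g n (MulAut.conjNormal g n) (MulAut.conjNormal_apply g n))
  obtain ⟨h1, h2, -⟩ := PrincipalType.block_over hM hK' hKL hk hQL hQp hQS hCQ hθ' hBdef
  exact ⟨h1, h2, fun R hR =>
    PrincipalType.existsUnique_inducing hM hK' hKL hk hQL hQp hQS hCQ hθ' hBdef hR⟩

end Cfsg.Agent.S4642
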