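import Cfsg.Statements.S4682
import Cfsg.Agent.Lib.BrauerPairs.Nilpotent
-- import your own Cfsg.Agent.* helpers here

set_option autoImplicit false
open Cfsg

namespace Cfsg.Agent.S4682

/-- Fix a prime p and a maximal ideal M of the algebraic integers containing p, a p-block B of the finite group G with maximal Brauer pair (P, e), P abelian, and a Brauer pair (Q, f) ≤ (P, e). Let T_Q be the stabilizer of f in N_G(Q) and T_P the stabilizer of e in N_G(P). Then every element of T_Q is a product of an element of T_P and an element of C_G(Q); and the index of C_G(Q) in T_Q equals the index of T_P ∩ C_G(Q) in T_P ∩ N_G(Q). -/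
theorem result {G : Type*} [Group G] [Fintype G] (p : ℕ) [Fact p.Prime] (M : Ideal Cfsg.AlgInt) (hM : Cfsg.IsPModular p M) (B : Set (Cfsg.IrrCharacter G)) (P : Subgroup G) (e : Set (Cfsg.IrrCharacter (Subgroup.centralizer (P : Set G)))) (hmax : Cfsg.IsMaximalBrauerPair p M B P e) (hab : ∀ x ∈ P, ∀ y ∈ P, x * y = y * x) (Q : Subgroup G) (f : Set (Cfsg.IrrCharacter (Subgroup.centralizer (Q : Set G)))) (hQP : Q ≤ P) (hf : Cfsg.IsPBlock M f) (hle : Cfsg.SubpairLE p M Q f P e) (TQ : Subgroup G) (hTQ : ∀ y : G, y ∈ TQ ↔ y ∈ Subgroup.normalizer (Q : Set G) ∧ Cfsg.StabilizesBlock (Subgroup.centralizer (Q : Set G)) f y) (TP : Subgroup G) (hTP : ∀ y : G, y ∈ TP ↔ y ∈ Subgroup.normalizer (P : Set G) ∧ Cfsg.StabilizesBlock (Subgroup.centralizer (P : Set G)) e y) : (∀ x ∈ TQ, ∃ y ∈ TP, ∃ c ∈ Subgroup.centralizer (Q : Set G), x = y * c) ∧ ((Subgroup.centralizer (Q : Set G)).subgroupOf TQ).index = ((TP ⊓ Subgroup.centralizer (Q : Set G)).subgroupOf (TP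 ⊓ Subgroup.normalizer (Q : Set G))).index := by
  classical
  have hfac : ∀ x ∈ TQ, ∃ y ∈ TP, ∃ c ∈ Subgroup.centralizer (Q : Set G), x = y * c := by
    intro x hx
    obtain ⟨y, hy, c, hc, he⟩ := CfsgLib.BrauerPairs.exists_factor_abelian hM hmax hab hle
      (x := x) ((CfsgLib.BrauerPairs.mem_stab_iff hTQ x).1 hx)
    exact ⟨y, (CfsgLib.BrauerPairs.mem_stab_iff hTP y).2 hy, c, hc, he⟩
  refine ⟨hfac, ?_⟩
  have hTQN : TQ ≤ Subgroup.normalizer (Q : Set G) := fun x hx => ((hTQ x).1 hx).1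
  have e : (TP ⊓ Subgroup.centralizer (Q : Set G)).subgroupOf (TP ⊓ Subgroup.normalizer (Q : Set G))
      = (Subgroup.centralizer (Q : Set G)).subgroupOf (TP ⊓ Subgroup.normalizer (Q : Set G)) :=
    Subgroup.ext fun x => ⟨fun h => h.2, fun h => ⟨x.2.1, h⟩⟩
  rw [e, CfsgLib.BrauerPairs.index_eq_card_aut hTQN,
    CfsgLib.BrauerPairs.index_eq_card_aut inf_le_right]
  refine congrArg (fun H : Subgroup (MulAut Q) => Nat.card H) (le_antisymm (fun α hα => ?_) ?_)
  · rw [CfsgLib.Fsys.mem_autInducedBy] at hα ⊢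
    obtain ⟨x, hx, hα⟩ := hα
    obtain ⟨y, hy, c, hc, rfl⟩ := hfac x hx
    refine ⟨y, ⟨hy, ?_⟩, fun q => ?_⟩
    · have := Subgroup.mul_mem _ (hTQN hx)
        (Subgroup.inv_mem _ (Subgroup.centralizer_le_normalizer _ hc))
      simpa using this
    · rw [hα, show y * c * (q : G) * (y * c)⁻¹ = y * (c * q * c⁻¹) * y⁻¹ by simp [mul_assoc],
        ← Subgroup.mem_centralizer_iff.1 hc q q.2, mul_inv_cancel_right]
  · exact CfsgLib.BrauerPairs.autInducedBy_mono fun y hy =>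
      (CfsgLib.BrauerPairs.mem_stab_iff hTQ y).2 (CfsgLib.BrauerPairs.stab_le_stab_of_below hM
        hmax.1.1 hle ((CfsgLib.BrauerPairs.mem_stab_iff hTP y).1 hy.1) hy.2)

end Cfsg.Agent.S4682
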