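import Cfsg.Statements.S4645
import Cfsg.Agent.Lib.BrouePuig.CyclicInertial
import Cfsg.Agent.S4682

set_option autoImplicit false
open Cfsg

namespace Cfsg.Agent.S4645

open CfsgLib.BrouePuig CfsgLib.Blocks CfsgLib.BrauerPairs

/-- Let B be a block of the finite group G relative to a maximal ideal M of the algebraic integers containing the prime p, with a nontrivial cyclic defect group P; let c be a block of C_G(P) inducing B and T the stabilizer of c in N_G(P). Let Q be a nontrivial subgroup of P (so C_G(P) ≤ C_G(Q)), f the block of C_G(Q) induced by c inside C_G(Q), and T' the stabilizer of f in N_G(Q). Then T' = T·C_G(Q), the index of C_G(Q) in T' equals the index of C_G(P) in T, f has p-regular rank 1, and f is a nilpotent block of C_G(Q). -/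
theorem result {G : Type*} [Group G] [Finite G] (p : ℕ) [Fact p.Prime] (M : Ideal Cfsg.AlgInt) (hM : Cfsg.IsPModular p M) (B : Set (Cfsg.IrrCharacter G)) (hB : Cfsg.IsPBlock M B) (P : Subgroup G) (hPD : Cfsg.IsDefectGroup p M B P) (hP1 : P ≠ ⊥) (hcyc : IsCyclic P) (c : Set (Cfsg.IrrCharacter (Subgroup.centralizer (P : Set G)))) (hc : Cfsg.IsInducedBlock M (Subgroup.centralizer (P : Set G)) c B) (T : Subgroup G) (hT : ∀ g : G, g ∈ T ↔ (g ∈ Subgroup.normalizer (P : Set G) ∧ Cfsg.StabilizesBlock (Subgroup.centralizer (P : Set G)) c g)) (Q : Subgroup G) (hQP : Q ≤ P) (hQ1 : Q ≠ ⊥) (f : Set (Cfsg.IrrCharacter (Subgroup.centralizer (Q : Set G)))) (hf : Cfsg.IsInducedBlockIn M (Subgroup.centralizer (Q : Set G)) (Subgroup.centralizer (P : Set G)) c f) (T' : Subgroup G) (hT' : ∀ g : G, g ∈ T' ↔ (g ∈ Subgroup.normalizer (Q : Set G) ∧ Cfsg.StabilizesBlock (Subgroup.centralizer (Q : Set G)) f g)) : T' = T ⊔ Subgroup.centralizer (Q : Set G) ∧ (Subgroup.centralizer (Q : Set G)).relIndex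 T' = (Subgroup.centralizer (P : Set G)).relIndex T ∧ Cfsg.blockRank p f = 1 ∧ Cfsg.IsNilpotentBlock p M f := by
  classical
  haveI := Fintype.ofFinite G
  have hPp := isPGroup_defectGroup hPD
  have hmax := maximal_of_induced hM hPD hPp hc
  have hab := abelian_of_isCyclic hcyc
  have hTe := stab_eq_pairStab hT
  have hle : Cfsg.SubpairLE p M Q f P c :=
    Relation.ReflTransGen.single (normalSubpair_of_inducedIn hM hQP hab hPp hf)
  obtain ⟨x, hx, hx1⟩ : ∃ x ∈ Q, x ≠ 1 := by
    by_contra hc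
    push Not at hc
    exact hQ1 ((Subgroup.eq_bot_iff_forall Q).2 hc)
  have hTN : ∀ g ∈ T, g ∈ Subgroup.normalizer (Q : Set G) := by
    intro g hg
    obtain ⟨m, hm⟩ := exists_exp hcyc ((hT g).1 hg).1
    refine CfsgLib.Fsys.mem_normalizer_of_map_le fun u hu => ?_
    show g * u * g⁻¹ ∈ Q
    rw [hm u (hQP hu)]
    exact Subgroup.zpow_mem _ hu m
  have hfree : ∀ g ∈ T, g ∈ Subgroup.centralizer (Q : Set G) →
      g ∈ Subgroup.centralizer (P : Set G) := fun g hg hgQ =>
    free_of_cyclic hM hmax hcyc (hTe ▸ hg) (hQP hx) hx1 (mem_centralizer_iff_conj.1 hgQ x hx)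
  obtain ⟨hfac, hidx⟩ := Cfsg.Agent.S4682.result p M hM B P c hmax hab Q f hQP hf.2.1 hle T' hT' T hT
  have hCT' : Subgroup.centralizer (Q : Set G) ≤ T' := by
    rw [stab_eq_pairStab hT']
    exact centralizer_le_pairStab f
  have hnil : Cfsg.IsNilpotentBlock p M f :=
    (nilpotent_nested_iff hM hmax hab hQP hf).2 fun g hg hgQ => hfree g (hTe ▸ hg) hgQ
  refine ⟨le_antisymm (fun g hg => ?_) (sup_le (fun g hg => ?_) hCT'), ?_,
    blockRank_eq_one_of_nilpotent hM hnil (maximal_nested hM hmax hab hQP hf), hnil⟩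
  · obtain ⟨y, hy, z, hz, rfl⟩ := hfac g hg
    exact Subgroup.mul_mem_sup hy hz
  · rw [stab_eq_pairStab hT']
    exact stab_le_stab_of_below hM hmax.1.1 hle (hTe ▸ hg) (hTN g hg)
  · have e1 : T ⊓ Subgroup.normalizer (Q : Set G) = T := inf_eq_left.2 hTN
    have e2 : T ⊓ Subgroup.centralizer (Q : Set G) = Subgroup.centralizer (P : Set G) := by
      refine le_antisymm (fun g hg => hfree g hg.1 hg.2) (le_inf ?_ (centralizer_le_centralizer hQP))
      rw [hTe]
      exact centralizer_le_pairStab c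
    rw [Subgroup.relIndex, Subgroup.relIndex, hidx, e1, e2]

end Cfsg.Agent.S4645
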