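import Cfsg.Statements.S4649
import Cfsg.Agent.Lib.Blocks.CyclicCorner
import Cfsg.Agent.Lib.BrouePuig.FreeAbelian
import Cfsg.Agent.Lib.Blocks.Local2
import Cfsg.Agent.S4687

set_option autoImplicit false
open Cfsg

namespace Cfsg.Agent.S4649

/-- A block with cyclic defect group, of a finite group relative to a maximal ideal M of the algebraic integers containing the prime p, is nilpotent if and only if its p-regular rank is 1 (it has a unique irreducible Brauer character). -/
theorem result {G : Type*} [Group G] [Finite G] (p : ℕ) [Fact p.Prime] (M : Ideal Cfsg.AlgInt) (hM : Cfsg.IsPModular p M) (B : Set (Cfsg.IrrCharacter G)) (hB : Cfsg.IsPBlock M B) (P : Subgroup G) (hPD : Cfsg.IsDefectGroup p M B P) (hcyc : IsCyclic P) : Cfsg.IsNilpotentBlock p M B ↔ Cfsg.blockRank p B = 1 := by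
  haveI := Fintype.ofFinite G
  have hab := CfsgLib.BrouePuig.abelian_of_isCyclic hcyc
  obtain ⟨c, -, hc⟩ := CfsgLib.Blocks.exists_defectGroup_inducing_local
    (L := Subgroup.centralizer (P : Set G)) hM hB hPD
    (CfsgLib.BrouePuig.le_centralizer_of_abelian hab le_rfl) le_rfl
    (CfsgLib.Blocks.centralizer_le_normalizer _)
  have hPp := CfsgLib.Blocks.isPGroup_defectGroup hPD
  have hmax := CfsgLib.BrouePuig.maximal_of_induced hM hPD hPp hc
  refine ⟨fun h => CfsgLib.BrouePuig.blockRank_eq_one_of_nilpotent hM h hmax, fun hl => ?_⟩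
  have hcard : Nat.card B = Nat.card P := by
    rw [CfsgLib.Blocks.RankOneFrame.card_eq_pow hM hB hl fun F =>
      CfsgLib.Blocks.CyclicCorner.comSub_eq_bot hM hB hPD hcyc F,
      CfsgLib.Blocks.card_defectGroup hM hB hPD]
  have hfree : CfsgLib.BrouePuig.FreeAct P c := fun g hg x hx hx1 hfix =>
    CfsgLib.BrouePuig.free_of_cyclic hM hmax hcyc hg hx hx1 hfix
  have hcount := CfsgLib.BrouePuig.card_block_free hM hmax hab hfree
  rw [hl, hcard, one_mul] at hcount
  refine (Cfsg.Agent.S4687.result p M hM B P c hmax hab).2 fun g hgN hgs => ?_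
  rcases Nat.lt_or_ge (Nat.card P) 2 with hP | hP
  · have hb : P = ⊥ := Subgroup.eq_bot_of_card_eq P (by
      have := Nat.card_pos (α := P)
      omega)
    refine Subgroup.mem_centralizer_iff.2 fun x hx => ?_
    rw [hb, SetLike.mem_coe, Subgroup.mem_bot] at hx
    rw [hx, one_mul, mul_one]
  · have he : (Subgroup.centralizer (P : Set G)).relIndex (CfsgLib.BrauerPairs.pairStab P c) = 1 := by
      obtain ⟨j, hj⟩ := Nat.exists_eq_add_of_le hP
      rw [hj] at hcount
      ring_nf at hcount
      nlinarith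
    exact Subgroup.relIndex_eq_one.1 he ((CfsgLib.BrauerPairs.mem_pairStab g).2 ⟨hgN, hgs⟩)

end Cfsg.Agent.S4649
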