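import Cfsg.Statements.S4650
import Cfsg.Agent.Lib.BrouePuig.CyclicInertial

set_option autoImplicit false
open Cfsg

namespace Cfsg.Agent.S4650

open CfsgLib.BrouePuig CfsgLib.Blocks CfsgLib.BrauerPairs

/-- Let B be a block of the finite group G relative to a maximal ideal M of the algebraic integers containing the prime p, with a nontrivial commutative defect group P; let c be a block of C_G(P) inducing B and T the stabilizer of c in N_G(P). Then T/C_G(P) acts freely on the non-identity elements of P (an element of T fixing a non-identity element of P under conjugation lies in C_G(P)) if and only if, for every nontrivial subgroup Q of P, the block of C_G(Q) induced by c inside C_G(Q) is a nilpotent block of C_G(Q). -/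
theorem result {G : Type*} [Group G] [Finite G] (p : ℕ) [Fact p.Prime] (M : Ideal Cfsg.AlgInt) (hM : Cfsg.IsPModular p M) (B : Set (Cfsg.IrrCharacter G)) (hB : Cfsg.IsPBlock M B) (P : Subgroup G) (hPD : Cfsg.IsDefectGroup p M B P) (hPab : ∀ x ∈ P, ∀ y ∈ P, x * y = y * x) (hP1 : P ≠ ⊥) (c : Set (Cfsg.IrrCharacter (Subgroup.centralizer (P : Set G)))) (hc : Cfsg.IsInducedBlock M (Subgroup.centralizer (P : Set G)) c B) (T : Subgroup G) (hT : ∀ g : G, g ∈ T ↔ (g ∈ Subgroup.normalizer (P : Set G) ∧ Cfsg.StabilizesBlock (Subgroup.centralizer (P : Set G)) c g)) : (∀ g ∈ T, ∀ x ∈ P, x ≠ 1 → g * x * g⁻¹ = x → g ∈ Subgroup.centralizer (P : Set G)) ↔ ∀ Q : Subgroup G, Q ≤ P → Q ≠ ⊥ → ∀ f : Set (Cfsg.IrrCharacter (Subgroup.centralizer (Q : Set G))), Cfsg.IsInducedBlockIn M (Subgroup.centralizer (Q : Set G)) (Subgroup.centralizer (P : Set G)) c f → Cfsg.IsNilpotentBlock p M f := by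
  classical
  haveI := Fintype.ofFinite G
  have hmax := maximal_of_induced hM hPD (isPGroup_defectGroup hPD) hc
  have hT' := stab_eq_pairStab hT
  subst hT'
  constructor
  · intro h Q hQP hQ1 f hf
    refine (nilpotent_nested_iff hM hmax hPab hQP hf).2 fun g hg hgQ => ?_
    obtain ⟨x, hx, hx1⟩ : ∃ x ∈ Q, x ≠ 1 := by
      by_contra hc
      push Not at hc
      exact hQ1 ((Subgroup.eq_bot_iff_forall Q).2 hc)
    exact h g hg x (hQP hx) hx1 (mem_centralizer_iff_conj.1 hgQ x hx)
  · intro h g hg x hx hx1 hfix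
    have hQP : Subgroup.zpowers x ≤ P := Subgroup.zpowers_le.2 hx
    have hgQ : g ∈ Subgroup.centralizer ((Subgroup.zpowers x : Subgroup G) : Set G) := by
      rw [centralizer_zpowers]
      exact Subgroup.mem_centralizer_singleton_iff.2 (mul_inv_eq_iff_eq_mul.1 hfix)
    obtain ⟨f, hf⟩ := exists_inducedIn hM (le_centralizer_of_abelian hPab hQP)
      (isPGroup_defectGroup hPD) (centralizer_le_centralizer hQP) hc.1
    exact (nilpotent_nested_iff hM hmax hPab hQP hf).1
      (h _ hQP (fun hb => hx1 (Subgroup.zpowers_eq_bot.1 hb)) f hf) g hg hgQ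

end Cfsg.Agent.S4650
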