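import Cfsg.Statements.S4651
import Cfsg.Agent.Lib.Blocks.ChainCount
import Cfsg.Agent.Lib.PChains.AlternatingSum

set_option autoImplicit false
open Cfsg

namespace Cfsg.Agent.S4651

/-- An alternating-sum identity over chains of p-subgroups (the character-count form behind the chain reformulation of Alperin's weight conjecture, which holds unconditionally for the difference k − l). Let b be a block of the finite group G relative to a maximal ideal M of the algebraic integers containing the prime p. Consider the nonempty chains s = {Q_0 < Q_1 < ⋯ < Q_m} of nontrivial p-subgroups of G in which every member is normal in the largest member; let N_G(s) be the intersection of the normalizers of the members (the stabilizer of the chain), and let b_s be the set of irreducible characters of N_G(s) lying in blocks of N_G(s) that induce b. Then #G · (k(b) − l(b)) equals the sum over all such chains s of (−1)^m · #N_G(s) · (k(b_s) − l(b_s)), where k counts irreducible characters and l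 is the p-regular rank; equivalently, k(b) − l(b) is the alternating sum of k(b_s) − l(b_s) over representatives of the conjugacy classes of such chains. -/
theorem result {G : Type*} [Group G] [Finite G] (p : ℕ) [Fact p.Prime] (M : Ideal Cfsg.AlgInt) (hM : Cfsg.IsPModular p M) (b : Set (Cfsg.IrrCharacter G)) (hb : Cfsg.IsPBlock M b) : (Nat.card G : ℤ) * ((Nat.card b : ℤ) - (Cfsg.blockRank p b : ℤ)) = ∑ᶠ s ∈ {s : Finset (Subgroup G) | s.Nonempty ∧ (∀ Q ∈ s, ∀ R ∈ s, Q ≤ R ∨ R ≤ Q) ∧ (∀ Q ∈ s, Q ≠ ⊥ ∧ IsPGroup p Q) ∧ ∃ T ∈ s, ∀ Q ∈ s, Q ≤ T ∧ T ≤ Subgroup.normalizer ((Q : Subgroup G) : Set G)}, (-1 : ℤ) ^ (s.card - 1) * (Nat.card (((⨅ Q ∈ s, Subgroup.normalizer ((Q : Subgroup G) : Set G) : Subgroup G))) : ℤ) * ((Nat.card {ψ : Cfsg.IrrCharacter (((⨅ Q ∈ s, Subgroup.normalizer ((Q : Subgroup G) : Set G) : Subgroup G))) | ∃ β : Set (Cfsg.IrrCharacter (((⨅ Q ∈ s, Subgroup.normalizer ((Q : Subgroup G) : Set G) : Subgroup G)))), ψ ∈ β ∧ Cfsg.IsInducedBlock M (((⨅ Q ∈ s, Subgroup.normalizer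 ((Q : Subgroup G) : Set G) : Subgroup G))) β b} : ℤ) - (Cfsg.blockRank p {ψ : Cfsg.IrrCharacter (((⨅ Q ∈ s, Subgroup.normalizer ((Q : Subgroup G) : Set G) : Subgroup G))) | ∃ β : Set (Cfsg.IrrCharacter (((⨅ Q ∈ s, Subgroup.normalizer ((Q : Subgroup G) : Set G) : Subgroup G)))), ψ ∈ β ∧ Cfsg.IsInducedBlock M (((⨅ Q ∈ s, Subgroup.normalizer ((Q : Subgroup G) : Set G) : Subgroup G))) β b} : ℤ)) := by
  haveI := Fintype.ofFinite G
  classical
  set 𝒮 := {s : Finset (Subgroup G) | s.Nonempty ∧ (∀ Q ∈ s, ∀ R ∈ s, Q ≤ R ∨ R ≤ Q) ∧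
    (∀ Q ∈ s, Q ≠ ⊥ ∧ IsPGroup p Q) ∧
    ∃ T ∈ s, ∀ Q ∈ s, Q ≤ T ∧ T ≤ Subgroup.normalizer ((Q : Subgroup G) : Set G)} with h𝒮
  rw [finsum_mem_eq_finite_toFinset_sum _ 𝒮.toFinite]
  refine Int.cast_injective (α := ℂ) ?_
  simp only [Int.cast_mul, Int.cast_sub, Int.cast_sum, Int.cast_pow, Int.cast_neg, Int.cast_one,
    Int.cast_natCast]
  rw [CfsgLib.Blocks.card_mul_sub_block hM hb]
  symm
  calc _ = ∑ s ∈ 𝒮.toFinite.toFinset, (-1 : ℂ) ^ (s.card - 1) *
        ((Nat.card (CfsgLib.PChains.chainNormalizer s) : ℂ) *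
          ((Nat.card (CfsgLib.Blocks.sectionSet M (CfsgLib.PChains.chainNormalizer s) b) : ℂ) -
            (Cfsg.blockRank p
              (CfsgLib.Blocks.sectionSet M (CfsgLib.PChains.chainNormalizer s) b) : ℂ))) := by
        refine Finset.sum_congr rfl fun s _ => ?_
        rw [CfsgLib.Blocks.sectionSet_eq hM]
        exact mul_assoc _ _ _
    _ = _ := by
        simp only [CfsgLib.Blocks.card_mul_sub_eq_sum hM b, Finset.mul_sum, mul_ite, mul_zero]
        rw [Finset.sum_comm]
        refine Finset.sum_congr rfl fun x hx => ?_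
        simp only [Finset.mem_filter, Finset.mem_univ, true_and] at hx
        rw [← Finset.sum_filter]
        exact CfsgLib.PChains.sum_chains hx.1 hx.2 _ (fun s => 𝒮.toFinite.mem_toFinset)
          (CfsgLib.Blocks.regKernelSum p M b)

end Cfsg.Agent.S4651
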