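import Cfsg.Statements.S4654
import Cfsg.Agent.Lib.BrauerPairs.Stabilizer
-- import your own Cfsg.Agent.* helpers here

set_option autoImplicit false
open Cfsg

namespace Cfsg.Agent.S4654

open CfsgLib.Blocks CfsgLib.BrauerPairs
open scoped Classical

variable {G : Type*} [Group G] [Fintype G] {p : ℕ} {M : Ideal AlgInt}

theorem isPBlock_image {K : Subgroup G} (φ : K ≃* K) {e : Set (IrrCharacter K)}
    (he : IsPBlock M e) : IsPBlock M (irrEquiv φ '' e) := by
  obtain ⟨χ, rfl⟩ := he
  refine ⟨irrEquiv φ χ, ?_⟩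
  ext ψ
  obtain ⟨ψ', rfl⟩ := (irrEquiv φ).surjective ψ
  rw [(irrEquiv φ).injective.mem_set_image]
  exact (sameBlock_irrEquiv φ _ _).symm

theorem gconv_conj (hM : IsPModular p M) {K T : Subgroup G} [K.Normal] {e : Set (IrrCharacter K)}
    (he : IsPBlock M e) (hT : ∀ x : G, x ∈ T ↔ StabilizesBlock K e x) (z c : G) :
    gconv (subgroupBlockCoeff K e) (fun x => subgroupBlockCoeff K e (z * x * z⁻¹)) c
      = if z ∈ T then subgroupBlockCoeff K e c else 0 := by
  have hn : z ∈ Subgroup.normalizer (K : Set G) := by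
    rw [Subgroup.normalizer_eq_top]; exact Subgroup.mem_top z
  set φ := conjIso z (mem_iff_of_normalizer hn)
  have hfe : (fun x => subgroupBlockCoeff K e (z * x * z⁻¹))
      = subgroupBlockCoeff K (irrEquiv φ '' e) :=
    funext fun x => (bc_image_conjIso z (mem_iff_of_normalizer hn) e x).symm
  rw [hfe, gconv_bc]
  by_cases hz : z ∈ T
  · have h2 := ((stabilizesBlock_iff K e z).1 ((hT z).1 hz)).2
    have heq : irrEquiv φ '' e = e := bc_injective K (funext fun x => by
      show subgroupBlockCoeff K (irrEquiv φ '' e) x = subgroupBlockCoeff K e x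
      rw [bc_image_conjIso z (mem_iff_of_normalizer hn) e x, h2 x])
    rw [if_pos hz, heq, Set.inter_self]
  · have hne : e ∩ irrEquiv φ '' e = ∅ := by
      refine Set.eq_empty_iff_forall_notMem.2 fun η hη => hz ?_
      have heq := IsPBlock.eq_of_mem hM he (isPBlock_image φ he) hη.1 hη.2
      refine (hT z).2 ((stabilizesBlock_iff K e z).2 ⟨hn, fun x => ?_⟩)
      rw [← bc_image_conjIso z (mem_iff_of_normalizer hn) e x, ← heq]
    rw [if_neg hz, hne]
    by_cases hc : c ∈ K
    · rw [bc_of_mem hc, blockCoeff_empty]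
    · exact bc_of_notMem hc _

/-- Fix a prime p and a maximal ideal M of the algebraic integers containing p. Let P be a normal p-subgroup of the finite group G, B a p-block of G and e a p-block of C_G(P) such that (P, e) is a Brauer pair of B (as P is normal, this says that e occurs in the idempotent of B, which is supported on C_G(P)). Let T be the stabilizer of e in G under conjugation. Then the idempotent of e is a block idempotent of T: some block E of T has, at every element of T, the same idempotent coefficient as e (zero off C_G(P)); and the idempotent of B is the sum of the distinct G-conjugates of the idempotent of e: its coefficient at g is the sum over all x in G of the coefficient of e at x⁻¹ g x, divided by the order of T. -/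
theorem result {G : Type*} [Group G] [Fintype G] (p : ℕ) [Fact p.Prime] (M : Ideal Cfsg.AlgInt) (hM : Cfsg.IsPModular p M) (P : Subgroup G) [P.Normal] (hP : IsPGroup p P) (B : Set (Cfsg.IrrCharacter G)) (e : Set (Cfsg.IrrCharacter (Subgroup.centralizer (P : Set G)))) (hBe : Cfsg.IsBrauerPairOf p M B P e) (T : Subgroup G) (hT : ∀ x : G, x ∈ T ↔ Cfsg.StabilizesBlock (Subgroup.centralizer (P : Set G)) e x) : (∃ E : Set (Cfsg.IrrCharacter T), Cfsg.IsPBlock M E ∧ ∀ t : T, Cfsg.blockCoeff E t = Cfsg.subgroupBlockCoeff (Subgroup.centralizer (P : Set G)) e (t : G)) ∧ ∀ g : G, Cfsg.blockCoeff B g = (Nat.card T : ℂ)⁻¹ * ∑ x : G, Cfsg.subgroupBlockCoeff (Subgroup.centralizer (P : Set G)) e (x⁻¹ * g * x) := by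
  haveI hCn : (Subgroup.centralizer (P : Set G)).Normal := Subgroup.normalizer_eq_top_iff.1
    (top_le_iff.1 (le_trans (le_of_eq (Subgroup.normalizer_eq_top (H := P)).symm)
      (normalizer_le_normalizer_centralizer P)))
  have hQf := hBe.1
  have hTn : ∀ y : G, y ∈ T ↔ y ∈ Subgroup.normalizer (P : Set G)
      ∧ StabilizesBlock (Subgroup.centralizer (P : Set G)) e y := fun y => by
    rw [hT y, Subgroup.normalizer_eq_top]
    exact (and_iff_right (Subgroup.mem_top y)).symm
  have h : StabHyp p M P T e := stabHyp_of_iff hQf hM hTn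
  obtain ⟨E, hE, hEc⟩ := exists_stabBlock hM h
  refine ⟨⟨E, hE, hEc⟩, ?_⟩
  set fe := subgroupBlockCoeff (Subgroup.centralizer (P : Set G)) e with hfe
  set β : G → ℂ := fun g => (Nat.card T : ℂ)⁻¹ * ∑ x : G, fe (x⁻¹ * g * x) with hβ
  have hfeT : ∀ t ∈ T, Fixes t fe := h.fix
  have hT0 : (Nat.card T : ℂ) ≠ 0 := Nat.cast_ne_zero.2 Nat.card_pos.ne'
  have hβ' : ∀ g, β g = (Nat.card T : ℂ)⁻¹ * ∑ z : G, fe (z * g * z⁻¹) := fun g => by
    simp only [hβ]
    congr 1
    exact Fintype.sum_equiv (Equiv.inv G) _ _ fun x => by simp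
  have hcl : IsClassFunction G β := fun g y => by
    rw [hβ', hβ']
    congr 1
    exact Fintype.sum_equiv (Equiv.mulRight y) _ _ fun z => by simp [mul_assoc]
  -- values of the sum over the cosets
  have hR : ∀ g, MemLocalRing M (β g) := fun g => by
    have e1 : β g = ∑ q : G ⧸ T, fe (q.out⁻¹ * g * q.out) := by
      have e2 : ∑ x : G, fe (x⁻¹ * g * x)
          = ∑ q : (G ⧸ T) × T, fe (q.1.out⁻¹ * g * q.1.out) := by
        refine Fintype.sum_equiv Subgroup.groupEquivQuotientProdSubgroup _ _ fun x => ?_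
        show fe (x⁻¹ * g * x) = fe ((QuotientGroup.mk x : G ⧸ T).out⁻¹ * g * (QuotientGroup.mk x : G ⧸ T).out)
        obtain ⟨t, ht⟩ := QuotientGroup.mk_out_eq_mul T x
        rw [ht, ← hfeT t t.2 ((x * t)⁻¹ * g * (x * t))]
        simp [mul_assoc]
      simp only [hβ]
      rw [e2, Fintype.sum_prod_type]
      simp only [Finset.sum_const, Finset.card_univ, nsmul_eq_mul, ← Finset.mul_sum]
      rw [← mul_assoc, ← Nat.card_eq_fintype_card, inv_mul_cancel₀ hT0, one_mul]
    rw [e1]
    exact LR.sum hM fun q _ => bc_LR hM hQf.2 _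
  -- idempotency
  have hfeβ : ∀ c, gconv fe β c = fe c := fun c => by
    have e1 : gconv fe β c = (Nat.card T : ℂ)⁻¹
        * ∑ z : G, gconv fe (fun x => fe (z * x * z⁻¹)) c := by
      simp only [gconv, hβ', Finset.mul_sum]
      rw [Finset.sum_comm]
      exact Finset.sum_congr rfl fun z _ => Finset.sum_congr rfl fun x _ => by ring
    rw [e1, Finset.sum_congr rfl fun z _ => gconv_conj hM hQf.2 hT z c, Finset.sum_ite,
      Finset.sum_const_zero, add_zero, Finset.sum_const, nsmul_eq_mul,
      ← Fintype.card_subtype, ← Nat.card_eq_fintype_card]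
    exact inv_mul_cancel_left₀ hT0 _
  have hgen : ∀ w : G → ℂ, (∀ z, Fixes z w) → ∀ c,
      gconv w β c = (Nat.card T : ℂ)⁻¹ * ∑ z : G, gconv w fe (z * c * z⁻¹) := fun w hw c => by
    simp only [gconv, hβ', Finset.mul_sum]
    rw [Finset.sum_comm]
    refine Finset.sum_congr rfl fun z _ => ?_
    refine Fintype.sum_equiv (MulAut.conj z).toEquiv _ _ fun x => ?_
    show w x * _ = _ * (w (z * x * z⁻¹) * fe ((z * x * z⁻¹)⁻¹ * (z * c * z⁻¹)))
    rw [hw z x, show (z * x * z⁻¹)⁻¹ * (z * c * z⁻¹) = z * (x⁻¹ * c) * z⁻¹ by simp [mul_assoc]]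
    ring
  have hββ : gconv β β = β := funext fun c => by
    have hfix : ∀ z, Fixes z β := fun z x => hcl x z
    have e1 : ∀ d, gconv β fe d = fe d := fun d => by
      rw [← hfeβ d]
      refine Fintype.sum_equiv ((Equiv.inv G).trans (Equiv.mulRight d)) _ _ fun x => ?_
      show β x * fe (x⁻¹ * d) = fe (x⁻¹ * d) * β ((x⁻¹ * d)⁻¹ * d)
      rw [← hfix d⁻¹ x, show (x⁻¹ * d)⁻¹ * d = d⁻¹ * x * d⁻¹⁻¹ by simp [mul_assoc]]
      ring
    rw [hgen β hfix, Finset.sum_congr rfl fun z _ => e1 _, ← hβ']
  -- the block `B` fixes `e`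
  have hB0 : ∀ x ∉ (Subgroup.centralizer (P : Set G)), blockCoeff B x = 0 := fun x hx =>
    blockCoeff_eq_zero_of_notMem_centralizer hM hP hBe.2.1 hx
  have hwfe : ∀ d, gconv (blockCoeff B) fe d = fe d := fun d => by
    rw [gconv, sum_supported (K := (Subgroup.centralizer (P : Set G))) hB0]
    by_cases hd : d ∈ (Subgroup.centralizer (P : Set G))
    · set w : (Subgroup.centralizer (P : Set G)) → ℂ := fun k => blockCoeff B k with hw
      have hwcl : IsClassFunction (Subgroup.centralizer (P : Set G)) w := fun x y => blockCoeff_isClassFunction B (x : G) (y : G)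
      have hww : gconv w w = w := funext fun k => by
        have h1 := congrFun (gconv_blockCoeff B B) (k : G)
        rw [Set.inter_self, gconv, sum_supported (K := (Subgroup.centralizer (P : Set G))) hB0] at h1
        exact h1
      have key : gconv w (blockCoeff e) = blockCoeff e := by
        refine (fourierInv_omega (gconv_isClassFunction hwcl
          (blockCoeff_isClassFunction e))).symm.trans
          (Eq.trans (congrArg fourierInv (funext fun η => ?_))
            (fourierInv_omega (blockCoeff_isClassFunction e)))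
        rw [omega_gconv η hwcl (blockCoeff_isClassFunction e), omega_blockCoeff]
        by_cases hη : η ∈ e
        · have h1 := hBe.2.2 η hη
          rw [brauerOmega_eq_omega] at h1
          rcases eq_zero_or_one_of_sq (w := omega (η : (Subgroup.centralizer (P : Set G)) → ℂ) w)
            (by rw [← omega_gconv η hwcl hwcl, hww]) with h0 | h1'
          · refine absurd ?_ (LI.not_one hM)
            have h2 : omega (η : (Subgroup.centralizer (P : Set G)) → ℂ) (fun c : (Subgroup.centralizer (P : Set G)) => blockCoeff B c) = 0 := h0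
            rw [h2, zero_sub] at h1
            simpa using LI.neg h1
          · rw [h1', one_mul]
        · rw [blockInd_of_notMem hη, mul_zero]
      have h1 := congrFun key ⟨d, hd⟩
      rw [hfe, bc_of_mem hd, ← h1, gconv]
      refine Finset.sum_congr rfl fun k _ => ?_
      rw [bc_of_mem ((Subgroup.centralizer (P : Set G)).mul_mem ((Subgroup.centralizer (P : Set G)).inv_mem k.2) hd)]
      rfl
    · rw [hfe, bc_of_notMem hd]
      refine Finset.sum_eq_zero fun k _ => ?_
      rw [bc_of_notMem (g := (k : G)⁻¹ * d) (fun h' => hd (by simpa using (Subgroup.centralizer (P : Set G)).mul_mem k.2 h')),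
        mul_zero]
  have hBβ : gconv (blockCoeff B) β = β := funext fun c => by
    rw [hgen _ (fun z x => blockCoeff_isClassFunction B x z),
      Finset.sum_congr rfl fun z _ => hwfe _, ← hβ']
  -- conclusion
  have h01 : ∀ χ : IrrCharacter G, omega (χ : G → ℂ) β = 0 ∨ omega (χ : G → ℂ) β = 1 := fun χ =>
    eq_zero_or_one_of_sq (by rw [← omega_gconv χ hcl hcl, hββ])
  have hmul : ∀ χ : IrrCharacter G,
      omega (χ : G → ℂ) β = blockInd B χ * omega (χ : G → ℂ) β := fun χ => by
    conv_lhs => rw [← hBβ, omega_gconv χ (blockCoeff_isClassFunction B) hcl, omega_blockCoeff]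
  obtain ⟨χ₀, hχ₀⟩ : ∃ χ : IrrCharacter G, omega (χ : G → ℂ) β = 1 := by
    by_contra hcon
    push Not at hcon
    have h0 : ∀ χ : IrrCharacter G, omega (χ : G → ℂ) β = 0 := fun χ =>
      (h01 χ).resolve_right (hcon χ)
    have h1 : β 1 = 0 := by
      rw [← fourierInv_omega hcl]
      simp [fourierInv, h0]
    rw [hβ'] at h1
    simp at h1
    exact bc_ne_zero hM hQf.2 (hfe ▸ h1)
  have hχB : χ₀ ∈ B := by
    by_contra hn
    have h1 := hmul χ₀
    rw [hχ₀, blockInd_of_notMem hn, zero_mul] at h1
    exact one_ne_zero h1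
  have hval : ∀ χ : IrrCharacter G, blockInd B χ = omega (χ : G → ℂ) β := fun χ => by
    by_cases hχ : χ ∈ B
    · rw [blockInd_of_mem hχ]
      rcases h01 χ with h0 | h1
      · have h2 := omega_congr hM (IsPBlock.sameBlock hM hBe.2.1 hχB hχ) hcl hR
        rw [h0, hχ₀, sub_zero] at h2
        exact absurd h2 (LI.not_one hM)
      · exact h1.symm
    · rw [hmul, blockInd_of_notMem hχ, zero_mul]
  intro g
  show blockCoeff B g = β g
  rw [blockCoeff_eq_fourierInv, show blockInd B = fun χ : IrrCharacter G => omega (χ : G → ℂ) β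
    from funext hval, fourierInv_omega hcl]

end Cfsg.Agent.S4654
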