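import Cfsg.Statements.S4662
import Cfsg.Agent.Lib.BrauerPairs.Stabilizer
-- import your own Cfsg.Agent.* helpers here

set_option autoImplicit false
open Cfsg

namespace Cfsg.Agent.S4662

/-- Fix a prime p and a maximal ideal M of the algebraic integers containing p. Let (P, e) be a maximal Brauer pair of the p-block B of the finite group G, Q ≤ P, and f the p-block of C_G(Q) with (Q, f) ≤ (P, e). Let T be the stabilizer of f in N_G(Q). Then the idempotent of f is a block idempotent of T, and N_P(Q) is contained in a defect group of that block of T; moreover for some x in G the conjugate pair (x Q x⁻¹, conjugate of f) again lies below (P, e) and, with T' the stabilizer of the conjugate of f in N_G(x Q x⁻¹), N_P(x Q x⁻¹) is a defect group of the block of T' whose idempotent is that of the conjugate of f. -/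
theorem result {G : Type*} [Group G] [Fintype G] (p : ℕ) [Fact p.Prime] (M : Ideal Cfsg.AlgInt) (hM : Cfsg.IsPModular p M) (B : Set (Cfsg.IrrCharacter G)) (P Q : Subgroup G) (e : Set (Cfsg.IrrCharacter (Subgroup.centralizer (P : Set G)))) (f : Set (Cfsg.IrrCharacter (Subgroup.centralizer (Q : Set G)))) (hmax : Cfsg.IsMaximalBrauerPair p M B P e) (hQP : Q ≤ P) (hf : Cfsg.IsPBlock M f) (hle : Cfsg.SubpairLE p M Q f P e) (T : Subgroup G) (hT : ∀ y : G, y ∈ T ↔ y ∈ Subgroup.normalizer (Q : Set G) ∧ Cfsg.StabilizesBlock (Subgroup.centralizer (Q : Set G)) f y) : (∃ F : Set (Cfsg.IrrCharacter T), Cfsg.IsPBlock M F ∧ (∀ t : T, Cfsg.blockCoeff F t = Cfsg.subgroupBlockCoeff (Subgroup.centralizer (Q : Set G)) f (t : G)) ∧ ∃ D : Subgroup T, Cfsg.IsDefectGroup p M F D ∧ (P ⊓ Subgroup.normalizer (Q : Set G)).subgroupOf T ≤ D) ∧ ∃ x : G, Cfsg.SubpairLE p M (Q.map (MulAut.conj x).toMonoidHom) (Cfsg.conjBlock Q x f) P e ∧ ∀ (T' : Subgroup G),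 (∀ y : G, y ∈ T' ↔ y ∈ Subgroup.normalizer ((Q.map (MulAut.conj x).toMonoidHom) : Set G) ∧ Cfsg.StabilizesBlock (Subgroup.centralizer ((Q.map (MulAut.conj x).toMonoidHom) : Set G)) (Cfsg.conjBlock Q x f) y) → ∃ F' : Set (Cfsg.IrrCharacter T'), Cfsg.IsPBlock M F' ∧ (∀ t : T', Cfsg.blockCoeff F' t = Cfsg.subgroupBlockCoeff (Subgroup.centralizer ((Q.map (MulAut.conj x).toMonoidHom) : Set G)) (Cfsg.conjBlock Q x f) (t : G)) ∧ Cfsg.IsDefectGroup p M F' ((P ⊓ Subgroup.normalizer ((Q.map (MulAut.conj x).toMonoidHom) : Set G)).subgroupOf T') := by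
  classical
  have hQB := CfsgLib.BrauerPairs.isBrauerPairOf_down hM hle hmax.1
  have hh := CfsgLib.BrauerPairs.stabHyp_of_iff hQB.1 hM hT
  obtain ⟨F, hF, hFc⟩ := CfsgLib.BrauerPairs.exists_stabBlock hM hh
  refine ⟨⟨F, hF, hFc,
    CfsgLib.BrauerPairs.exists_defect_ge_normalizer hM hmax.1.1 hle hT hF hFc⟩, ?_⟩
  obtain ⟨D, hD⟩ := CfsgLib.Blocks.exists_isDefectGroup hM hF
  obtain ⟨hQD, hunit⟩ := CfsgLib.BrauerPairs.stab_defect_data hM hh hF hFc hD
  obtain ⟨x, hx, hxD⟩ := CfsgLib.BrauerPairs.exists_conj_le_maximal hM hmax hQB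
    (IsPGroup.map (CfsgLib.Blocks.isPGroup_defectGroup hD) _) hQD
    ((Subgroup.map_subtype_le D).trans hh.norm) (fun s hs => hh.fix s (Subgroup.map_subtype_le D hs))
    hunit
  refine ⟨x, hx, fun T' hT' => ?_⟩
  have hh' := CfsgLib.BrauerPairs.stabHyp_of_iff (CfsgLib.BrauerPairs.isBrauerPair_conj x hQB.1) hM hT'
  obtain ⟨F', hF', hFc'⟩ := CfsgLib.BrauerPairs.exists_stabBlock hM hh'
  refine ⟨F', hF', hFc', ?_⟩
  have hiff : ∀ y, x * y * x⁻¹ ∈ T' ↔ y ∈ T := fun y => by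
    rw [CfsgLib.BrauerPairs.mem_stab_iff hT', CfsgLib.BrauerPairs.mem_stab_iff hT,
      CfsgLib.BrauerPairs.mem_normalizer_map_conj]
    refine and_congr_right fun _ => ⟨fun h z => ?_, fun h z => ?_⟩
    · have h2 := h (x * z * x⁻¹)
      rw [CfsgLib.BrauerPairs.bc_conjBlock, show x * y * x⁻¹ * (x * z * x⁻¹) * (x * y * x⁻¹)⁻¹
        = x * (y * z * y⁻¹) * x⁻¹ by simp [mul_assoc], CfsgLib.BrauerPairs.bc_conjBlock] at h2
      exact h2
    · rw [CfsgLib.BrauerPairs.bc_conjBlock', CfsgLib.BrauerPairs.bc_conjBlock']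
      have h2 := h (x⁻¹ * z * x)
      simpa [mul_assoc] using h2
  have himg : CfsgLib.BrauerPairs.irrEquiv (CfsgLib.BrauerPairs.conjIso x hiff) '' F' = F := by
    refine CfsgLib.BrauerPairs.blockCoeff_injective (funext fun t => ?_)
    show Cfsg.blockCoeff _ t = Cfsg.blockCoeff F t
    rw [CfsgLib.BrauerPairs.blockCoeff_image, hFc', hFc, CfsgLib.BrauerPairs.coe_conjIso,
      CfsgLib.BrauerPairs.bc_conjBlock]
  have hDx := CfsgLib.BrauerPairs.isDefectGroup_map (CfsgLib.BrauerPairs.conjIso x hiff)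
    (himg.symm ▸ hD)
  obtain ⟨E, hE, hPE⟩ :=
    CfsgLib.BrauerPairs.exists_defect_ge_normalizer hM hmax.1.1 hx hT' hF' hFc'
  have h1 : D.map (CfsgLib.BrauerPairs.conjIso x hiff).toMonoidHom
      ≤ (P ⊓ Subgroup.normalizer ((Q.map (MulAut.conj x).toMonoidHom : Subgroup G) : Set G)).subgroupOf T' := by
    rintro _ ⟨d, hd, rfl⟩
    exact ⟨hxD ⟨(d : G), ⟨d, hd, rfl⟩, rfl⟩,
      CfsgLib.BrauerPairs.mem_normalizer_map_conj.2 (hh.norm d.2)⟩
  have hcard : D.map (CfsgLib.BrauerPairs.conjIso x hiff).toMonoidHom = E :=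
    Subgroup.eq_of_le_of_card_ge (h1.trans hPE)
      (by rw [CfsgLib.Blocks.card_defectGroup hM hF' hE, CfsgLib.Blocks.card_defectGroup hM hF' hDx])
  rwa [← le_antisymm h1 (hcard ▸ hPE)]

end Cfsg.Agent.S4662
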