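import Cfsg.Statements.S4664
import Cfsg.Agent.Lib.Blocks.Idempotent
import Cfsg.Agent.Lib.Blocks.Parts
-- import your own Cfsg.Agent.* helpers here

set_option autoImplicit false
open Cfsg

namespace Cfsg.Agent.S4664

/-- Fix a prime p and a maximal ideal M of the algebraic integers containing p, and let B be a p-block of the finite group G. Let m be the p'-part of the order of G and η = exp(2πi/m). Then every coefficient of the idempotent of B lies in the cyclotomic field ℚ(η). -/
theorem result {G : Type*} [Group G] [Fintype G] (p : ℕ) [Fact p.Prime] (M : Ideal Cfsg.AlgInt) (hM : Cfsg.IsPModular p M) (B : Set (Cfsg.IrrCharacter G)) (hB : Cfsg.IsPBlock M B) (g : G) : Cfsg.blockCoeff B g ∈ IntermediateField.adjoin ℚ ({Complex.exp (2 * Real.pi * Complex.I / ((Nat.card G / p ^ (Nat.card G).factorization p : ℕ) : ℂ))} : Set ℂ) := by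
  classical
  set η : ℂ := Complex.exp (2 * Real.pi * Complex.I /
    ((Nat.card G / p ^ (Nat.card G).factorization p : ℕ) : ℂ)) with hη
  set m := Nat.card G / p ^ (Nat.card G).factorization p
  have hm : m ≠ 0 := (Nat.ordCompl_pos p Nat.card_pos.ne').ne'
  have hprim : IsPrimitiveRoot η m := Complex.isPrimitiveRoot_exp m hm
  haveI : NeZero m := ⟨hm⟩
  by_cases hg : p ∣ orderOf g
  · rw [CfsgLib.Blocks.IsPBlock.blockCoeff_eq_zero hM hB hg]
    exact zero_mem _
  rw [CfsgLib.Blocks.blockCoeff_eq_fourierInv, CfsgLib.Blocks.fourierInv]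
  refine mul_mem (inv_mem (natCast_mem _ _)) (sum_mem fun ψ _ => mul_mem ?_ (mul_mem ?_ ?_))
  · by_cases hψ : ψ ∈ B
    · rw [CfsgLib.Blocks.blockInd_of_mem hψ]; exact one_mem _
    · rw [CfsgLib.Blocks.blockInd_of_notMem hψ]; exact zero_mem _
  · rw [CfsgLib.Blocks.irr_one_eq]; exact natCast_mem _ _
  · obtain ⟨n, ρ, hρ, he⟩ := ψ.2
    obtain ⟨μ, hμ, hk⟩ := CfsgLib.Char.exists_eigenvalues ρ g⁻¹
    have h1 := hk 1
    rw [pow_one] at h1
    rw [← he, h1]
    refine sum_mem fun i _ => ?_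
    rw [pow_one]
    have hdvd : orderOf g⁻¹ ∣ m :=
      CfsgLib.Blocks.dvd_ordCompl_of_not_dvd hM.1 (by rwa [orderOf_inv])
    obtain ⟨c, hc⟩ := hdvd
    have hpow : μ i ^ m = 1 := by rw [hc, pow_mul, hμ i, one_pow]
    obtain ⟨j, -, hj⟩ := hprim.eq_pow_of_pow_eq_one hpow
    rw [← hj]
    exact pow_mem (IntermediateField.mem_adjoin_simple_self ℚ η) j

end Cfsg.Agent.S4664
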