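import Cfsg.Statements.S4665
import Cfsg.Agent.Lib.Blocks.Defect2
-- import your own Cfsg.Agent.* helpers here

set_option autoImplicit false
open Cfsg

namespace Cfsg.Agent.S4665

/-- Fix a prime p, a maximal ideal M of the algebraic integers containing p, and a p-block B of the finite group G, and let p^a be the p-part of the order of G. Let χ be an integer combination of the irreducible characters in B. If the function that agrees with χ on p-regular elements and vanishes on p-singular elements is again an integer combination of the irreducible characters in B, then p^a divides χ(1). -/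
theorem result {G : Type*} [Group G] [Fintype G] (p : ℕ) [Fact p.Prime] (M : Ideal Cfsg.AlgInt) (hM : Cfsg.IsPModular p M) (B : Set (Cfsg.IrrCharacter G)) (hB : Cfsg.IsPBlock M B) (χ : G → ℂ) (hχ : (∃ n : Cfsg.IrrCharacter G → ℤ, ∀ g : G, χ g = ∑ᶠ ψ ∈ B, (n ψ : ℂ) * (ψ : G → ℂ) g)) (h0 : (∃ n : Cfsg.IrrCharacter G → ℤ, ∀ g : G, Cfsg.pRegularPart p χ g = ∑ᶠ ψ ∈ B, (n ψ : ℂ) * (ψ : G → ℂ) g)) : ∃ k : ℤ, χ 1 = (p ^ (Nat.card G).factorization p : ℂ) * k := by
  obtain ⟨n, hn⟩ := h0
  classical
  have hgc : Cfsg.IsGeneralizedCharacter G (Cfsg.pRegularPart p χ) := by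
    convert CfsgLib.Blocks.isGeneralizedCharacter_intSum (fun ψ => if ψ ∈ B then n ψ else 0) using 1
    funext g
    rw [hn g, finsum_mem_eq_toFinset_sum]
    refine (Finset.sum_subset_zero_on_sdiff (Finset.subset_univ _) (fun ψ hψ => ?_)
      fun ψ hψ => ?_)
    · simp at hψ; simp [hψ]
    · simp at hψ; simp [hψ]
  obtain ⟨k, hk⟩ := CfsgLib.Blocks.pPartCard_dvd_of_vanish hM.1 hgc fun x hx => by
    simp [Cfsg.pRegularPart, CfsgLib.Blocks.not_isPRegular.2 hx]
  refine ⟨k, ?_⟩
  simpa [Cfsg.pRegularPart, Cfsg.IsPRegular, hM.1.ne_one, CfsgLib.Blocks.pPartCard] using hk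


end Cfsg.Agent.S4665
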