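import Cfsg.Statements.S4666
import Cfsg.Agent.Lib.Blocks.Defect2
-- import your own Cfsg.Agent.* helpers here

set_option autoImplicit false
open Cfsg

namespace Cfsg.Agent.S4666

/-- Fix a prime p and a maximal ideal M of the algebraic integers containing p, and a p-block B of the finite group G of defect d. For every integer combination χ of the irreducible characters in B, p^d times the function that agrees with χ on p-regular elements and vanishes elsewhere is again an integer combination of the irreducible characters in B. -/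
theorem result {G : Type*} [Group G] [Fintype G] (p : ℕ) [Fact p.Prime] (M : Ideal Cfsg.AlgInt) (hM : Cfsg.IsPModular p M) (B : Set (Cfsg.IrrCharacter G)) (hB : Cfsg.IsPBlock M B) (χ : G → ℂ) (hχ : (∃ n : Cfsg.IrrCharacter G → ℤ, ∀ g : G, χ g = ∑ᶠ ψ ∈ B, (n ψ : ℂ) * (ψ : G → ℂ) g)) : (∃ n : Cfsg.IrrCharacter G → ℤ, ∀ g : G, (p ^ Cfsg.blockDefect p B : ℂ) * Cfsg.pRegularPart p χ g = ∑ᶠ ψ ∈ B, (n ψ : ℂ) * (ψ : G → ℂ) g) := by
  obtain ⟨n, hn⟩ := hχ
  classical
  set m := CfsgLib.Blocks.minDegVal p B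
  have hdiv : ∀ φ ψ, ψ ∈ B → (p : ℤ) ^ m ∣ CfsgLib.Blocks.regInt p φ ψ := fun φ ψ hψ =>
    (pow_dvd_pow _ (CfsgLib.Blocks.minDegVal_le (p := p) hψ)).trans
      (CfsgLib.Blocks.regInt_mod hM φ ψ).1
  refine ⟨fun ψ => ∑ φ ∈ B.toFinset, n φ * (CfsgLib.Blocks.regInt p φ ψ / (p : ℤ) ^ m),
    fun g => ?_⟩
  rw [finsum_mem_eq_toFinset_sum]
  have hp0 : ((p : ℂ) ^ m) ≠ 0 := pow_ne_zero _ (by exact_mod_cast hM.1.ne_zero)
  apply mul_left_cancel₀ hp0
  have hreg : Cfsg.pRegularPart p χ g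
      = ∑ φ ∈ B.toFinset, (n φ : ℂ) * (if Cfsg.IsPRegular p g then (φ : G → ℂ) g else 0) := by
    by_cases hg : Cfsg.IsPRegular p g
    · simp [Cfsg.pRegularPart, hg, hn g, finsum_mem_eq_toFinset_sum]
    · simp [Cfsg.pRegularPart, hg]
  have hd := CfsgLib.Blocks.blockDefect_add_min (p := p) (CfsgLib.Blocks.IsPBlock.nonempty hM hB)
  rw [hreg, ← mul_assoc, ← pow_add, add_comm, hd, Finset.mul_sum, Finset.mul_sum]
  calc _ = ∑ φ ∈ B.toFinset, (n φ : ℂ) * ∑ ψ ∈ B.toFinset,
        (CfsgLib.Blocks.regInt p φ ψ : ℂ) * (ψ : G → ℂ) g := by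
        refine Finset.sum_congr rfl fun φ hφ => ?_
        have h := CfsgLib.Blocks.sum_regInner_mul hM (CfsgLib.Blocks.IsPBlock.isLocalOn hM hB) φ g
        rw [CfsgLib.Blocks.blockInd_of_mem (Set.mem_toFinset.1 hφ), mul_one] at h
        have h' : ∑ ψ ∈ B.toFinset, (CfsgLib.Blocks.regInt p φ ψ : ℂ) * (ψ : G → ℂ) g
            = ∑ ψ : Cfsg.IrrCharacter G, CfsgLib.Blocks.blockInd B ψ *
              CfsgLib.Blocks.regInner p (φ : G → ℂ) (ψ : G → ℂ) * (ψ : G → ℂ) g := by
          refine (Finset.sum_congr rfl fun ψ hψ => ?_).trans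
            (Finset.sum_subset (Finset.subset_univ _) fun ψ _ hψ => ?_)
          · rw [CfsgLib.Blocks.blockInd_of_mem (Set.mem_toFinset.1 hψ), one_mul,
              CfsgLib.Blocks.cast_regInt hM.1]
          · rw [CfsgLib.Blocks.blockInd_of_notMem (by simpa using hψ), zero_mul, zero_mul]
        rw [h', h, CfsgLib.Blocks.pPartCard]
        split <;> push_cast <;> ring
    _ = _ := by
        simp only [Finset.mul_sum]
        rw [Finset.sum_comm]
        refine Finset.sum_congr rfl fun ψ hψ => ?_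
        rw [Int.cast_sum, Finset.sum_mul, Finset.mul_sum]
        refine Finset.sum_congr rfl fun φ _ => ?_
        have h2 := congrArg (fun z : ℤ => (z : ℂ))
          (Int.mul_ediv_cancel' (hdiv φ ψ (Set.mem_toFinset.1 hψ)))
        push_cast at h2 ⊢
        linear_combination (-((n φ : ℂ) * (ψ : G → ℂ) g)) * h2


end Cfsg.Agent.S4666
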