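import Cfsg.Statements.S4668
import Cfsg.Agent.Lib.Blocks.NormalP
import Cfsg.Agent.Lib.KGroups.CharP
-- import your own Cfsg.Agent.* helpers here

set_option autoImplicit false
open Cfsg

namespace Cfsg.Agent.S4668

/-- Fix a prime p and a maximal ideal M of the algebraic integers containing p. Let Q₀ < Q₁ < ⋯ < Q_m be a strictly increasing chain of p-subgroups of the finite group G and N the intersection of their normalizers. Then every block idempotent of N is supported on C_G(Q_m): for every p-block E of N, the idempotent coefficient of E vanishes at every element of N outside C_G(Q_m). -/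
theorem result {G : Type*} [Group G] [Fintype G] (p : ℕ) [Fact p.Prime] (M : Ideal Cfsg.AlgInt) (hM : Cfsg.IsPModular p M) (m : ℕ) (Q : Fin (m + 1) → Subgroup G) (hQ : StrictMono Q) (hQp : ∀ i, IsPGroup p (Q i)) (N : Subgroup G) (hN : ∀ g : G, g ∈ N ↔ ∀ i, g ∈ Subgroup.normalizer (Q i : Set G)) (E : Set (Cfsg.IrrCharacter N)) (hE : Cfsg.IsPBlock M E) (n : N) (hn : (n : G) ∉ Subgroup.centralizer (Q (Fin.last m) : Set G)) : Cfsg.blockCoeff E n = 0 := by
  classical
  have hp : p.Prime := hM.1
  by_contra hne
  set P : Subgroup N := (Q (Fin.last m)).subgroupOf N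
  have hnN : ∀ i, (n : G) ∈ Subgroup.normalizer (Q i : Set G) := (hN _).1 n.2
  haveI : P.Normal := ⟨fun x hx y => by
    simp only [P, Subgroup.mem_subgroupOf] at hx ⊢
    simpa using (Subgroup.mem_normalizer_iff.1 ((hN _).1 y.2 (Fin.last m)) _).1 hx⟩
  have hP : IsPGroup p P := (hQp (Fin.last m)).comap_subtype
  have hreg : ¬ p ∣ orderOf (n : G) := fun h => hne (by
    rw [Subgroup.orderOf_coe] at h
    exact CfsgLib.Blocks.IsPBlock.blockCoeff_eq_zero hM hE h)
  have hcentP : n ∈ Subgroup.centralizer (P : Set N) := by
    by_contra h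
    exact hne (CfsgLib.Blocks.blockCoeff_eq_zero_of_notMem_centralizer hM hP hE h)
  have hfix : ∀ x ∈ Q (Fin.last m), x ∈ N → (n : G) * x = x * n := fun x hx hxN => by
    have := Subgroup.mem_centralizer_iff.1 hcentP ⟨x, hxN⟩ hx
    exact (congrArg Subtype.val this).symm
  have hcop : (orderOf (n : G)).Coprime p := Nat.Coprime.symm (hp.coprime_iff_not_dvd.2 hreg)
  have key : ∀ i, ∀ x ∈ Q i, (n : G) * x = x * n := by
    intro i
    induction i using Fin.induction with
    | zero =>
      intro x hx
      refine hfix x (hQ.monotone (Fin.zero_le _) hx) ((hN x).2 fun j => ?_)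
      exact Subgroup.le_normalizer (hQ.monotone (Fin.zero_le j) hx)
    | succ i ih =>
      have hle : Q i.castSucc ≤ Q i.succ := hQ.monotone Fin.castSucc_lt_succ.le
      refine CfsgLib.KGroups.CharP.commute_of_commute_fixed (p := p) (A := Q i.castSucc) (hQp _) (hQp _)
        (hle.trans Subgroup.le_normalizer) hcop ih (hnN _) fun x hx hxA => ?_
      refine hfix x (hQ.monotone (Fin.le_last _) hx) ((hN x).2 fun j => ?_)
      rcases le_or_gt j i.castSucc with hj | hj
      · refine Subgroup.mem_normalizer_iff.2 fun a => ?_
        constructor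
        · intro ha
          rwa [← hxA a (hQ.monotone hj ha), mul_inv_cancel_right]
        · intro ha
          have h := hxA _ (hQ.monotone hj ha)
          have h' : x * a * x⁻¹ = a := by
            have := congrArg (fun u => x⁻¹ * u) h
            simp [mul_assoc] at this
            rw [mul_assoc, ← this]
          rwa [h'] at ha
      · exact Subgroup.le_normalizer (hQ.monotone (Fin.castSucc_lt_iff_succ_le.1 hj) hx)
  exact hn (Subgroup.mem_centralizer_iff.2 fun x hx => (key (Fin.last m) x hx).symm)

end Cfsg.Agent.S4668
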