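import Cfsg.Statements.S4669
import Cfsg.Agent.Lib.Blocks.PCentralizer
import Cfsg.Agent.Lib.Blocks.Rank
-- import your own Cfsg.Agent.* helpers here

set_option autoImplicit false
open Cfsg CfsgLib.Blocks

namespace Cfsg.Agent.S4669

/-- Fix a prime p and a maximal ideal M of the algebraic integers containing p. If the p-block B of the finite group G has a defect group P contained in the centre of G, then B has p-regular rank one (a single irreducible Brauer character). -/
theorem result {G : Type*} [Group G] [Fintype G] (p : ℕ) [Fact p.Prime] (M : Ideal Cfsg.AlgInt) (hM : Cfsg.IsPModular p M) (B : Set (Cfsg.IrrCharacter G)) (hB : Cfsg.IsPBlock M B) (P : Subgroup G) (hD : Cfsg.IsDefectGroup p M B P) (hPZ : P ≤ Subgroup.center G) : Cfsg.blockRank p B = 1 := by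

  classical
  haveI : P.Normal := ⟨fun n hn g => by
    rwa [Subgroup.mem_center_iff.1 (hPZ hn) g, mul_inv_cancel_right]⟩
  have hP : IsPGroup p P := by
    obtain ⟨g, -, S, rfl⟩ := hD
    exact S.isPGroup'.map _
  have hG : P ⊔ Subgroup.centralizer (P : Set G) = ⊤ := by
    refine top_le_iff.1 (le_trans (fun x _ => ?_) le_sup_right)
    exact Subgroup.mem_centralizer_iff.2 fun u hu => ((Subgroup.mem_center_iff.1 (hPZ hu)) x).symm
  obtain ⟨ψ, hψB, -, -, hall⟩ := exists_canonical hM hP hG hB hD
  set f := pRegularPart p (inflate P ψ : G → ℂ) with hf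
  have hf0 : f ≠ 0 := fun h0 => by
    have h1 := congrFun h0 1
    rw [hf, pRegularPart_apply, if_pos (by simp [IsPRegular, hM.1.ne_one])] at h1
    exact irr_one_ne_zero (inflate P ψ) h1
  rw [blockRank]
  refine (LinearEquiv.finrank_eq (LinearEquiv.ofEq _ (Submodule.span ℂ {f}) ?_)).trans
    (finrank_span_singleton hf0)
  refine le_antisymm (Submodule.span_le.2 ?_) (Submodule.span_le.2 ?_)
  · rintro _ ⟨χ, hχ, rfl⟩
    obtain ⟨ζ, hζ⟩ := hall χ hχ
    refine Submodule.mem_span_singleton.2 ⟨(ζ : P → ℂ) 1, funext fun s => ?_⟩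
    show _ = pRegularPart p (χ : G → ℂ) s
    rw [Pi.smul_apply, smul_eq_mul, hf, pRegularPart_apply, pRegularPart_apply]
    by_cases hs : IsPRegular p s
    · rw [if_pos hs, if_pos hs]
      have h1 := prodChar_mul (ψ := ψ) (ζ := (ζ : P → ℂ)) hM.1 hP 1 hs
        (by rw [OneMemClass.coe_one]; exact Commute.one_left s)
      rw [OneMemClass.coe_one, one_mul, ← hζ] at h1
      exact h1.symm
    · rw [if_neg hs, if_neg hs, mul_zero]
  · exact Set.singleton_subset_iff.2 (Submodule.subset_span ⟨_, hψB, rfl⟩)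


end Cfsg.Agent.S4669
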