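import Cfsg.Statements.S4671
import Cfsg.Agent.Lib.Blocks.CoverBasics
-- import your own Cfsg.Agent.* helpers here

set_option autoImplicit false
open Cfsg CfsgLib.Blocks CfsgLib.Blocks.FongReynolds CfsgLib.CharDeep

namespace Cfsg.Agent.S4671

/-- Fix a prime p and a maximal ideal M of the algebraic integers containing p. Let N be a normal subgroup of the finite group G, B a p-block of G and P a defect group of B. Then there is a p-block c of N, stable under conjugation by P and covered by B (some member of B has a constituent in c on restriction to N), such that P ∩ N is a defect group of c. -/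
theorem result {G : Type*} [Group G] [Fintype G] (p : ℕ) [Fact p.Prime] (M : Ideal Cfsg.AlgInt) (hM : Cfsg.IsPModular p M) (N : Subgroup G) [N.Normal] [Fintype N] (B : Set (Cfsg.IrrCharacter G)) (hB : Cfsg.IsPBlock M B) (P : Subgroup G) (hP : Cfsg.IsDefectGroup p M B P) : ∃ c : Set (Cfsg.IrrCharacter N), Cfsg.IsPBlock M c ∧ (∀ x ∈ P, Cfsg.StabilizesBlock N c x) ∧ (∃ χ ∈ B, ∃ θ ∈ c, Cfsg.classInner (fun n : N => (χ : G → ℂ) n) (θ : N → ℂ) ≠ 0) ∧ Cfsg.IsDefectGroup p M c ((P ⊓ N).subgroupOf N) := by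

  classical
  obtain ⟨χ, hχ⟩ := IsPBlock.nonempty hM hB
  obtain ⟨θ, hθ⟩ := CfsgLib.Blocks.exists_over (N := N) χ
  set c₀ := blockOf M (θ : N → ℂ) with hc₀def
  have hc₀ : IsPBlock M c₀ := isPBlock_blockOf θ
  have hθc : θ ∈ c₀ := SameBlock_refl hM _
  let T := CoverDefect.stabilizer (G := G) hM hc₀
  let _ : Fintype T := Fintype.ofFinite T
  have hT : ∀ g : G, g ∈ T ↔ ∀ φ ∈ c₀, conjIrr g φ ∈ c₀ := CoverDefect.mem_stabilizer hM hc₀
  have hNT : N ≤ T := CoverDefect.le_stabilizer hM hc₀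
  obtain ⟨B', hB', ⟨ψ, hψB, hψ⟩, hind⟩ := exists_inducing hNT hM hc₀ hT hB ⟨χ, hχ, θ, hθc, hθ⟩
  obtain ⟨D₀, hD₀⟩ := exists_isDefectGroup hM hB'
  obtain ⟨y, hy⟩ := exists_conj_eq_defectGroup hM hB
    ((defectGroup_and_height hNT hM hc₀ hT hB' ⟨ψ, hψB, hψ⟩ hind).1 D₀ hD₀) hP
  have hQ : IsDefectGroup p M c₀ (D₀.comap (Subgroup.inclusion hNT)) :=
    CoverDefect.isDefectGroup_comap hNT hM hc₀ hT hB' hψB hψ hD₀
  have hpre : preim (preim c₀ y) y⁻¹ = c₀ := by
    ext φ
    show conjIrr y (conjIrr y⁻¹ φ) ∈ c₀ ↔ φ ∈ c₀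
    rw [conjIrr_mul, inv_mul_cancel, conjIrr_one]
  let e : N ≃* N := MulAut.conjNormal y
  refine ⟨preim c₀ y, isPBlock_preim hM hc₀ y, fun x hx => ⟨?_, fun φ hφ => ?_⟩,
    ⟨χ, hχ, conjIrr y⁻¹ θ, ?_, ?_⟩, ?_⟩
  · rw [Subgroup.normalizer_eq_top]; exact Subgroup.mem_top x
  · refine ⟨conjIrr x⁻¹ φ, ?_, fun k k' hk => congrArg (φ : N → ℂ) (Subtype.ext ?_)⟩
    · rw [hy] at hx
      obtain ⟨u, ⟨t, -, rfl⟩, rfl⟩ := hx
      show conjIrr y (conjIrr _ φ) ∈ c₀
      rw [conjIrr_mul, show ((MulAut.conj y).toMonoidHom (T.subtype t))⁻¹ * y = y * (t : G)⁻¹ by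
        simp [mul_assoc], ← conjIrr_mul]
      exact (hT _).1 (inv_mem t.2) _ hφ
    · rw [MulAut.conjNormal_apply, hk]; group
  · show conjIrr y (conjIrr y⁻¹ θ) ∈ c₀
    rw [conjIrr_mul, inv_mul_cancel, conjIrr_one]
    exact hθc
  · show classInner _ (Clifford.conjFun N y⁻¹ θ) ≠ 0
    rwa [Clifford.classInner_restrict_conjFun N y⁻¹ (CfsgLib.Char.IsIrrCharacter.isClassFunction χ.2)]
  · obtain ⟨g, ⟨hg1, hg2, hg3⟩, S, hS⟩ := hQ
    have hcl : IsDefectClass M (preim c₀ y) (e g) := by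
      have hco : blockCoeff (preim c₀ y) (e g) = blockCoeff c₀ g := by
        show blockCoeff (preim c₀ y) (MulAut.conjNormal y g) = _
        rw [blockCoeff_conjNormal, hpre]
      refine ⟨hco ▸ hg1, hco ▸ hg2, fun φ hφ => ?_⟩
      show ¬ MemLocalIdeal M (centralChar (φ : N → ℂ) (MulAut.conjNormal y g))
      rw [← centralChar_conjFun]
      exact hg3 (conjIrr y φ) hφ
    refine ⟨e g, hcl, ?_⟩
    have he : (Subgroup.centralizer ({g} : Set N)).map e.toMonoidHom
        = Subgroup.centralizer ({e g} : Set N) := by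
      ext z
      obtain ⟨z, rfl⟩ := e.surjective z
      simp [Subgroup.mem_centralizer_singleton_iff, ← map_mul]
    let f := ((Subgroup.centralizer ({g} : Set N)).equivMapOfInjective e.toMonoidHom
      e.injective).trans (MulEquiv.subgroupCongr he)
    have hsurj : Function.Surjective f.toMonoidHom := f.surjective
    refine ⟨S.mapSurjective hsurj, ?_⟩
    rw [Sylow.coe_mapSurjective, Subgroup.map_map,
      show ((Subgroup.centralizer ({e g} : Set N)).subtype.comp f.toMonoidHom)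
        = e.toMonoidHom.comp (Subgroup.centralizer ({g} : Set N)).subtype from rfl,
      ← Subgroup.map_map, ← hS]
    ext n
    simp only [Subgroup.mem_subgroupOf, Subgroup.mem_inf, hy]
    constructor
    · rintro ⟨⟨u, ⟨t, ht, rfl⟩, hu⟩, -⟩
      have htN : (t : G) ∈ N := by
        have h1 := Subgroup.Normal.conj_mem (inferInstance : N.Normal) _ n.2 y⁻¹
        rw [← hu] at h1
        simpa [mul_assoc] using h1
      refine ⟨⟨(t : G), htN⟩, ht, Subtype.ext ?_⟩
      rw [← hu]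
      exact MulAut.conjNormal_apply y _
    · rintro ⟨m, hm, rfl⟩
      exact ⟨⟨(m : G), ⟨_, hm, rfl⟩, (MulAut.conjNormal_apply y m).symm⟩, (e m).2⟩


end Cfsg.Agent.S4671
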