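import Cfsg.Statements.S4672
import Cfsg.Agent.Lib.Blocks.CoverBasics
import Cfsg.Agent.Lib.BrauerPairs.Idem
import Cfsg.Agent.S0970
-- import your own Cfsg.Agent.* helpers here

set_option autoImplicit false
open Cfsg CfsgLib.Blocks CfsgLib.Blocks.FongReynolds

namespace Cfsg.Agent.S4672

/-- Fix a prime p and a maximal ideal M of the algebraic integers containing p. Let N be a normal subgroup of the finite group G of p-power index and c a p-block of N stable under conjugation by G. Then the idempotent of c is a block idempotent of G: there is a p-block B of G whose idempotent coefficients agree with those of c on N and vanish off N; and for every defect group P of such a block B, G = NP and P ∩ N is a defect group of c. -/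
theorem result {G : Type*} [Group G] [Fintype G] (p : ℕ) [Fact p.Prime] (M : Ideal Cfsg.AlgInt) (hM : Cfsg.IsPModular p M) (N : Subgroup G) [N.Normal] (hN : ∃ k : ℕ, N.index = p ^ k) (c : Set (Cfsg.IrrCharacter N)) (hc : Cfsg.IsPBlock M c) (hst : ∀ x : G, Cfsg.StabilizesBlock N c x) : (∃ B : Set (Cfsg.IrrCharacter G), Cfsg.IsPBlock M B ∧ ∀ g : G, Cfsg.blockCoeff B g = Cfsg.subgroupBlockCoeff N c g) ∧ ∀ B : Set (Cfsg.IrrCharacter G), Cfsg.IsPBlock M B → (∀ g : G, Cfsg.blockCoeff B g = Cfsg.subgroupBlockCoeff N c g) → ∀ P : Subgroup G, Cfsg.IsDefectGroup p M B P → N ⊔ P = ⊤ ∧ Cfsg.IsDefectGroup p M c ((P ⊓ N).subgroupOf N) := by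

  classical
  haveI : Fintype N := Fintype.ofFinite N
  have hcj : ∀ (x : G), ∀ θ ∈ c, conjIrr x θ ∈ c := by
    intro x θ hθ
    obtain ⟨χ', hχ', hconj⟩ := (hst x⁻¹).2 θ hθ
    have e : χ' = conjIrr x θ := Subtype.ext (funext fun n => hconj (MulAut.conjNormal x n) n (by
      rw [MulAut.conjNormal_apply]; group))
    exact e ▸ hχ'
  have hT := CoverDefect.mem_stabilizer (G := G) hM hc
  have hf : ∀ (g : G) (n : N), blockCoeff c (MulAut.conjNormal g n) = blockCoeff c n := fun g n => by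
    rw [blockCoeff_conjNormal, preim_of_mem hM hc hT ((hT g⁻¹).2 fun θ hθ => hcj g⁻¹ θ hθ)]
  set F : G → ℂ := fun x => if hx : x ∈ N then blockCoeff c ⟨x, hx⟩ else 0 with hF
  have hFeq : ∀ g, subgroupBlockCoeff N c g = F g := fun g => by
    by_cases hg : g ∈ N <;> simp [subgroupBlockCoeff, hF, hg]
  have hFcl : IsClassFunction G F := by
    intro x y
    simp only [F]
    by_cases hx : x ∈ N
    · rw [dif_pos hx, dif_pos (Subgroup.Normal.conj_mem inferInstance x hx y)]
      exact (congrArg (blockCoeff c) (Subtype.ext (MulAut.conjNormal_apply y ⟨x, hx⟩).symm)).trans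
        (hf y ⟨x, hx⟩)
    · rw [dif_neg hx, dif_neg fun h' => hx (by
        simpa [mul_assoc] using Subgroup.Normal.conj_mem (inferInstance : N.Normal) _ h' y⁻¹)]
  obtain ⟨B, ⟨hB, hcov⟩, huniq⟩ := CoverBasics.existsUnique_cover hM hN hc
  have hval : ∀ χ : IrrCharacter G, omega (χ : G → ℂ) F = blockInd B χ := by
    intro χ
    by_cases hχ : χ ∈ B
    · obtain ⟨χ₀, hχ₀, θ₀, hθ₀, h₀⟩ := hcov
      obtain ⟨θ, hθ, h⟩ := CoverBasics.exists_over_of_sameBlock' hM hc hθ₀ h₀
        (IsPBlock.sameBlock hM hB hχ₀ hχ)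
      rw [hF, omega_extend, omega_eq_of_over h hf, omega_blockCoeff, blockInd_of_mem hθ,
        blockInd_of_mem hχ]
    · obtain ⟨θ, h⟩ := CfsgLib.Blocks.exists_over (N := N) χ
      have hθ : θ ∉ c := fun hθ => hχ (huniq _ ⟨isPBlock_blockOf χ, χ, SameBlock_refl hM _, θ, hθ, h⟩ ▸
        (SameBlock_refl hM (χ : G → ℂ)))
      rw [hF, omega_extend, omega_eq_of_over h hf, omega_blockCoeff, blockInd_of_notMem hθ,
        blockInd_of_notMem hχ]
  have hcoeff : ∀ g, blockCoeff B g = subgroupBlockCoeff N c g := fun g => by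
    rw [hFeq, blockCoeff_eq_fourierInv, ← funext hval, fourierInv_omega hFcl]
  refine ⟨⟨B, hB, hcoeff⟩, fun B' _ hco P hP => ?_⟩
  obtain rfl : B' = B := CfsgLib.BrauerPairs.blockCoeff_injective
    (funext fun g => (hco g).trans (hcoeff g).symm)
  have h := Cfsg.Agent.S0970.result p M hM N c hc (fun g θ hθ θ' hθ' => by
    have e : θ' = conjIrr g θ := Subtype.ext (funext fun n => (hθ' n).trans
      (congrArg (θ : N → ℂ) (Subtype.ext (MulAut.conjNormal_apply g n).symm)))
    exact e ▸ hcj g θ hθ) B' hB hcov (fun B'' hB'' hc'' => (congrArg (blockDefect p) (huniq _ ⟨hB'', hc''⟩)).le)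
    P hP
  refine ⟨?_, h.2.1⟩
  obtain ⟨k, hk⟩ := hN
  obtain ⟨i, -, hi⟩ := (Nat.dvd_prime_pow hM.1).1
    (hk ▸ Subgroup.index_dvd_of_le (le_sup_right : N ≤ P ⊔ N))
  rw [sup_comm, ← Subgroup.index_eq_one, hi]
  rcases Nat.eq_zero_or_pos i with rfl | hi'
  · rfl
  · exact absurd (hi ▸ dvd_pow_self p hi'.ne') h.1


end Cfsg.Agent.S4672
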