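import Cfsg.Statements.S4673
import Cfsg.Agent.Lib.Blocks.CoverBasics
import Cfsg.Agent.Lib.BrauerPairs.Transport
import Cfsg.Agent.S4438
-- import your own Cfsg.Agent.* helpers here

set_option autoImplicit false
open Cfsg CfsgLib.Blocks CfsgLib.Blocks.FongReynolds

namespace Cfsg.Agent.S4673

/-- Fix a prime p and a maximal ideal M of the algebraic integers containing p. Let N ≤ L be normal subgroups of the finite group G with L/N a p-group, let B be a p-block of G covering the p-block c of N (some member of B has a constituent in c on restriction to N), and suppose that N contains a defect group of B. Then the stabilizer T of c in G satisfies T ∩ L = N. -/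
theorem result {G : Type*} [Group G] [Fintype G] (p : ℕ) [Fact p.Prime] (M : Ideal Cfsg.AlgInt) (hM : Cfsg.IsPModular p M) (N L : Subgroup G) [N.Normal] [L.Normal] [Fintype N] (hNL : N ≤ L) (hLN : ∃ k : ℕ, (N.subgroupOf L).index = p ^ k) (B : Set (Cfsg.IrrCharacter G)) (hB : Cfsg.IsPBlock M B) (c : Set (Cfsg.IrrCharacter N)) (hc : Cfsg.IsPBlock M c) (hcov : (∃ χ ∈ B, ∃ θ ∈ c, Cfsg.classInner (fun n : N => (χ : G → ℂ) n) (θ : N → ℂ) ≠ 0)) (hD : ∃ D : Subgroup G, Cfsg.IsDefectGroup p M B D ∧ D ≤ N) (T : Subgroup G) (hT : ∀ x : G, x ∈ T ↔ Cfsg.StabilizesBlock N c x) : T ⊓ L = N := by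

  classical
  haveI : Fintype L := Fintype.ofFinite L
  haveI : Fintype (N.subgroupOf L) := Fintype.ofFinite _
  let e : (N.subgroupOf L) ≃* N := Subgroup.subgroupOfEquivOfLe hNL
  let ι := CfsgLib.BrauerPairs.irrEquiv e
  obtain ⟨χ, hχ, θ, hθ, h⟩ := hcov
  set θ' := ι θ with hθ'
  set c' := blockOf M (θ' : N.subgroupOf L → ℂ) with hc'def
  have hc' : IsPBlock M c' := isPBlock_blockOf θ'
  have hθ'c : θ' ∈ c' := SameBlock_refl hM _
  obtain ⟨ψ, hψ1, hψ2⟩ : ∃ ψ : IrrCharacter L,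
      classInner (fun l : L => (χ : G → ℂ) l) (ψ : L → ℂ) ≠ 0 ∧
      classInner (fun n : N.subgroupOf L => (ψ : L → ℂ) n) (θ' : N.subgroupOf L → ℂ) ≠ 0 := by
    by_contra hcon
    push Not at hcon
    refine h ?_
    have hexp : ∀ l : L, (χ : G → ℂ) l = ∑ ψ : IrrCharacter L,
        classInner (fun l : L => (χ : G → ℂ) l) (ψ : L → ℂ) * (ψ : L → ℂ) l := fun l => by
      have := congrFun (CfsgLib.Char.IsClassFunction.eq_sum_irr
        (CfsgLib.Char.IsCharacter.isClassFunction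
          (CfsgLib.Char.IsCharacter.restrict (CfsgLib.Char.isCharacter_irr χ) L))) l
      simpa using this
    have e1 : classInner (fun n : N => (χ : G → ℂ) n) (θ : N → ℂ)
        = classInner (fun n : N.subgroupOf L => (χ : G → ℂ) ((n : L) : G)) (θ' : N.subgroupOf L → ℂ) := by
      simp only [Cfsg.classInner]
      rw [Nat.card_congr e.toEquiv]
      congr 1
      exact (Fintype.sum_equiv e.toEquiv _ _ fun n => rfl).symm
    have e2 : classInner (fun n : N.subgroupOf L => (χ : G → ℂ) ((n : L) : G)) (θ' : N.subgroupOf L → ℂ)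
        = ∑ ψ : IrrCharacter L, classInner (fun l : L => (χ : G → ℂ) l) (ψ : L → ℂ)
          * classInner (fun n : N.subgroupOf L => (ψ : L → ℂ) n) (θ' : N.subgroupOf L → ℂ) := by
      generalize hcψ : (fun ψ : IrrCharacter L =>
        classInner (fun l : L => (χ : G → ℂ) l) (ψ : L → ℂ)) = cψ
      have hexp' : ∀ l : L, (χ : G → ℂ) l = ∑ ψ : IrrCharacter L, cψ ψ * (ψ : L → ℂ) l := fun l => by
        rw [← hcψ]; exact hexp l
      rw [show (∑ ψ : IrrCharacter L, classInner (fun l : L => (χ : G → ℂ) l) (ψ : L → ℂ)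
          * classInner (fun n : N.subgroupOf L => (ψ : L → ℂ) n) (θ' : N.subgroupOf L → ℂ))
        = ∑ ψ : IrrCharacter L, cψ ψ
          * classInner (fun n : N.subgroupOf L => (ψ : L → ℂ) n) (θ' : N.subgroupOf L → ℂ) from by
        rw [← hcψ]]
      unfold Cfsg.classInner
      simp only [hexp', Finset.sum_mul, Finset.mul_sum]
      rw [Finset.sum_comm]
      exact Finset.sum_congr rfl fun ψ _ => Finset.sum_congr rfl fun n _ => by ring
    rw [e1, e2]
    refine Finset.sum_eq_zero fun ψ _ => ?_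
    by_cases h0 : classInner (fun l : L => (χ : G → ℂ) l) (ψ : L → ℂ) = 0
    · rw [h0, zero_mul]
    · rw [hcon ψ h0, mul_zero]
  set d := blockOf M (ψ : L → ℂ) with hddef
  have hd : IsPBlock M d := isPBlock_blockOf ψ
  obtain ⟨D, hD, hDN⟩ := hD
  have hQN : ∀ Q : Subgroup L, IsDefectGroup p M d Q → Q ≤ N.subgroupOf L := by
    intro Q hQ
    have hQ' : IsDefectGroup p M d ((Q.map L.subtype).subgroupOf L) := by
      rwa [Subgroup.subgroupOf, Subgroup.comap_map_eq_self_of_injective L.subtype_injective]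
    obtain ⟨P, hP, hPL⟩ := Cfsg.Agent.S4438.result p M hM L d hd (Q.map L.subtype)
      (Subgroup.map_subtype_le Q) hQ' B hB ⟨χ, hχ, ψ, SameBlock_refl hM _, hψ1⟩
    obtain ⟨y, hy⟩ := exists_conj_eq_defectGroup hM hB hD hP
    intro l hl
    have h1 : (l : G) ∈ P := (hPL.symm ▸ (⟨l, hl, rfl⟩ : (l : G) ∈ Q.map L.subtype) :
      (l : G) ∈ P ⊓ L).1
    rw [hy] at h1
    obtain ⟨z, hz, he⟩ := h1
    show (l : G) ∈ N
    rw [← he]
    exact Subgroup.Normal.conj_mem inferInstance z (hDN hz) y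
  let T' := CoverDefect.stabilizer (G := L) hM hc'
  let _ : Fintype T' := Fintype.ofFinite T'
  have hT' : ∀ g : L, g ∈ T' ↔ ∀ φ ∈ c', conjIrr g φ ∈ c' := CoverDefect.mem_stabilizer hM hc'
  have hNT : N.subgroupOf L ≤ T' := CoverDefect.le_stabilizer hM hc'
  have hle : T' ≤ N.subgroupOf L := by
    obtain ⟨B', hB', ⟨ψ', hψ'B, hψ'⟩, -⟩ :=
      exists_inducing hNT hM hc' hT' hd ⟨ψ, SameBlock_refl hM _, θ', hθ'c, hψ2⟩
    obtain ⟨B₀, hB₀, hall, hmax⟩ := CoverDefect.exists_maximal hNT hM hc' hT' hψ'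
    obtain ⟨ψ₀, hψ₀⟩ := IsPBlock.nonempty hM hB₀
    obtain ⟨B₁, hind₁, hcov₁, -, -⟩ := exists_induced hNT hM hc' hT' hB₀ ⟨ψ₀, hψ₀, hall ψ₀ hψ₀⟩
    obtain rfl : B₁ = d := (CoverBasics.existsUnique_cover hM hLN hc').unique
      ⟨hind₁.2.1, hcov₁⟩ ⟨hd, ψ, SameBlock_refl hM _, θ', hθ'c, hψ2⟩
    obtain ⟨D₀, hD₀⟩ := exists_isDefectGroup hM hB₀
    have hD₀N := hQN _ ((defectGroup_and_height hNT hM hc' hT' hB₀ ⟨ψ₀, hψ₀, hall ψ₀ hψ₀⟩
      hind₁).1 D₀ hD₀)
    have hcard : Nat.card (D₀.comap (Subgroup.inclusion hNT)) = Nat.card D₀ :=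
      Nat.card_congr (Equiv.ofBijective (fun x => ⟨Subgroup.inclusion hNT x.1, x.2⟩)
        ⟨fun a b h => Subtype.ext (Subgroup.inclusion_injective hNT (congrArg Subtype.val h)),
          fun t => ⟨⟨⟨(t.1 : L), hD₀N ⟨t.1, t.2, rfl⟩⟩, t.2⟩, rfl⟩⟩)
    have hdd : blockDefect p c' = blockDefect p B₀ := Nat.pow_right_injective hM.1.two_le
      ((card_defectGroup hM hc'
        (CoverDefect.isDefectGroup_comap hNT hM hc' hT' hB₀ hψ₀ (hall ψ₀ hψ₀) hD₀)).symm.trans
        (hcard.trans (card_defectGroup hM hB₀ hD₀)))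
    obtain ⟨k, hk⟩ := hLN
    have h1 : (N.subgroupOf L).relIndex T' * T'.index = p ^ k := by
      rw [Subgroup.relIndex_mul_index hNT, hk]
    obtain ⟨i, -, hi⟩ := (Nat.dvd_prime_pow hM.1).1 (h1 ▸ dvd_mul_right _ T'.index)
    have h2 : Nat.card T' = p ^ i * Nat.card (N.subgroupOf L) := by
      rw [← hi, Subgroup.relIndex, ← Subgroup.index_mul_card ((N.subgroupOf L).subgroupOf T'),
        Nat.card_congr (Subgroup.subgroupOfEquivOfLe hNT).toEquiv]
    have h3 := congrArg (fun n => Nat.factorization n p) h2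
    simp only [Nat.factorization_mul (pow_ne_zero _ hM.1.ne_zero) Nat.card_pos.ne',
      Finsupp.add_apply, hM.1.factorization_pow, Finsupp.single_eq_same] at h3
    obtain rfl : i = 0 := by omega
    rw [pow_zero, Subgroup.relIndex_eq_one] at hi
    exact hi
  refine le_antisymm ?_ (le_inf ?_ hNL)
  · rintro x ⟨hxT, hxL⟩
    show ((⟨x, hxL⟩ : L) : G) ∈ N
    refine hle ((hT' ⟨x, hxL⟩).2 fun φ hφ => ?_)
    obtain ⟨φ₀, rfl⟩ := ι.surjective φ
    have hφ₀ : φ₀ ∈ c := (IsPBlock.mem_iff hM hc hθ).2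
      ((CfsgLib.BrauerPairs.sameBlock_irrEquiv e _ _).1 hφ)
    obtain ⟨φ₁, hφ₁, hconj⟩ := ((hT x⁻¹).1 (inv_mem hxT)).2 φ₀ hφ₀
    have e1 : conjIrr (⟨x, hxL⟩ : L) (ι φ₀) = ι φ₁ := Subtype.ext (funext fun n => by
      refine (hconj (e (MulAut.conjNormal (⟨x, hxL⟩ : L) n)) (e n) ?_).symm
      show ((n : L) : G) = x⁻¹ * ((MulAut.conjNormal (⟨x, hxL⟩ : L) n : N.subgroupOf L) : L) * x⁻¹⁻¹
      rw [MulAut.conjNormal_apply]
      push_cast
      group)
    rw [e1]
    exact (CfsgLib.BrauerPairs.sameBlock_irrEquiv e _ _).2 ((IsPBlock.mem_iff hM hc hθ).1 hφ₁)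
  · intro x hx
    refine (hT x).2 ⟨?_, fun φ hφ => ⟨conjIrr x⁻¹ φ, ?_, fun k k' hk =>
      congrArg (φ : N → ℂ) (Subtype.ext ?_)⟩⟩
    · rw [Subgroup.normalizer_eq_top]; exact Subgroup.mem_top x
    · exact (CoverDefect.mem_stabilizer hM hc x⁻¹).1
        (CoverDefect.le_stabilizer hM hc (inv_mem hx)) φ hφ
    · rw [MulAut.conjNormal_apply, hk]; group


end Cfsg.Agent.S4673
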