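import Cfsg.Statements.S4675
import Cfsg.Agent.Lib.Blocks.Rank
import Cfsg.Agent.Lib.Blocks.Defect2

set_option autoImplicit false
open Cfsg

namespace Cfsg.Agent.S4675

open CfsgLib.Blocks

/-- Fix a prime p and a maximal ideal M of the algebraic integers containing p. Let B be a p-block of the finite group G with defect group P and p-regular rank one (a single irreducible Brauer character). Then there are a function φ on G that is, on the p-regular elements, an integer combination of the members of B, and natural numbers d_χ (χ ∈ B), such that every χ ∈ B agrees with d_χ·φ on the p-regular elements and Σ_{χ ∈ B} d_χ² equals the order of P (the single Cartan invariant of B is the order of P). -/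
theorem result {G : Type*} [Group G] [Fintype G] (p : ℕ) [Fact p.Prime] (M : Ideal Cfsg.AlgInt) (hM : Cfsg.IsPModular p M) (B : Set (Cfsg.IrrCharacter G)) (hB : Cfsg.IsPBlock M B) (P : Subgroup G) (hP : Cfsg.IsDefectGroup p M B P) (hl : Cfsg.blockRank p B = 1) : ∃ φ : G → ℂ, ∃ d : Cfsg.IrrCharacter G → ℕ, (∃ n : Cfsg.IrrCharacter G → ℤ, ∀ x : G, Cfsg.IsPRegular p x → φ x = ∑ᶠ ψ ∈ B, (n ψ : ℂ) * (ψ : G → ℂ) x) ∧ (∀ χ ∈ B, ∀ x : G, Cfsg.IsPRegular p x → (χ : G → ℂ) x = (d χ : ℂ) * φ x) ∧ ∑ᶠ χ ∈ B, d χ ^ 2 = Nat.card P := by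
  classical
  have hp : p.Prime := Fact.out
  obtain ⟨χ₀, hχ₀, h0⟩ := exists_degVal_eq_min (p := p) (IsPBlock.nonempty hM hB)
  set m := minDegVal p B with hm
  have hreg1 : Cfsg.IsPRegular p (1 : G) := by
    rw [Cfsg.IsPRegular, orderOf_one]; exact hp.not_dvd_one
  set deg : Cfsg.IrrCharacter G → ℤ := fun χ => (Cfsg.charDegree (χ : G → ℂ) : ℤ) with hdeg
  have hdegC : ∀ χ : Cfsg.IrrCharacter G, ((deg χ : ℤ) : ℂ) = (χ : G → ℂ) 1 := fun χ => by
    rw [irr_one_eq]; exact Int.cast_natCast _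
  have hd0pos : 0 < deg χ₀ := Int.natCast_pos.2 (charDegree_pos χ₀)
  -- regular parts are proportional
  have hprop : ∀ χ ∈ B, ∀ x : G, Cfsg.IsPRegular p x →
      (χ₀ : G → ℂ) 1 * (χ : G → ℂ) x = (χ : G → ℂ) 1 * (χ₀ : G → ℂ) x := by
    intro χ hχ
    set W := Submodule.span ℂ
      ((fun χ : Cfsg.IrrCharacter G => Cfsg.pRegularPart p (χ : G → ℂ)) '' B) with hW
    have hv : Cfsg.pRegularPart p (χ₀ : G → ℂ) ∈ W := Submodule.subset_span ⟨χ₀, hχ₀, rfl⟩
    have hw : Cfsg.pRegularPart p (χ : G → ℂ) ∈ W := Submodule.subset_span ⟨χ, hχ, rfl⟩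
    have hne : (⟨_, hv⟩ : W) ≠ 0 := by
      intro h
      have h1 := congrFun (congrArg Subtype.val h) 1
      rw [show ((⟨_, hv⟩ : W) : G → ℂ) = Cfsg.pRegularPart p (χ₀ : G → ℂ) from rfl,
        pRegularPart_apply, if_pos hreg1] at h1
      exact irr_one_ne_zero χ₀ h1
    obtain ⟨r, hr⟩ := exists_smul_eq_of_finrank_eq_one (K := ℂ) (V := W) hl hne ⟨_, hw⟩
    have hr' : ∀ x, Cfsg.IsPRegular p x → r * (χ₀ : G → ℂ) x = (χ : G → ℂ) x := by
      intro x hx
      have h1 := congrFun (congrArg Subtype.val hr) x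
      simp only [SetLike.val_smul, Pi.smul_apply, smul_eq_mul, pRegularPart_apply, if_pos hx] at h1
      exact h1
    intro x hx
    rw [← hr' x hx, ← hr' 1 hreg1]
    ring
  -- the gcd of the degrees
  obtain ⟨n, hn⟩ := Finset.gcd_eq_sum_mul B.toFinset deg
  set g := B.toFinset.gcd deg with hg
  have hgd : ∀ χ ∈ B, g ∣ deg χ := fun χ hχ => Finset.gcd_dvd (Set.mem_toFinset.2 hχ)
  have hg0 : g ≠ 0 := fun h => by
    have := hgd χ₀ hχ₀
    rw [h, zero_dvd_iff] at this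
    omega
  have hgnn : 0 ≤ g := by
    exact Int.nonneg_of_normalize_eq_self Finset.normalize_gcd
  set d : Cfsg.IrrCharacter G → ℕ := fun χ => (deg χ / g).toNat with hd
  have hdmul : ∀ χ ∈ B, (d χ : ℤ) * g = deg χ := by
    intro χ hχ
    have h1 : 0 ≤ deg χ / g := Int.ediv_nonneg (Int.natCast_nonneg _) hgnn
    rw [hd, Int.toNat_of_nonneg h1, Int.ediv_mul_cancel (hgd χ hχ)]
  have hsum1 : ∑ χ ∈ B.toFinset, (d χ : ℤ) * n χ = 1 := by
    refine mul_left_cancel₀ hg0 ?_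
    rw [mul_one, Finset.mul_sum]
    conv_rhs => rw [hn]
    refine Finset.sum_congr rfl fun χ hχ => ?_
    rw [← hdmul χ (Set.mem_toFinset.1 hχ)]
    ring
  -- the common Brauer character
  refine ⟨fun x => ∑ χ ∈ B.toFinset, (n χ : ℂ) * (χ : G → ℂ) x, d, ⟨n, fun x _ => ?_⟩, ?_, ?_⟩
  · rw [finsum_mem_eq_toFinset_sum]
  · intro χ hχ x hx
    apply mul_left_cancel₀ (irr_one_ne_zero χ₀)
    rw [mul_left_comm, Finset.mul_sum, hprop χ hχ x hx]
    have e : ∀ ψ ∈ B.toFinset, (χ₀ : G → ℂ) 1 * ((n ψ : ℂ) * (ψ : G → ℂ) x)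
        = (g : ℂ) * ((d ψ : ℂ) * (n ψ : ℂ)) * (χ₀ : G → ℂ) x := by
      intro ψ hψ
      have h1 := congrArg (fun z : ℤ => (z : ℂ)) (hdmul ψ (Set.mem_toFinset.1 hψ))
      simp only [Int.cast_mul, Int.cast_natCast, hdegC] at h1
      rw [mul_left_comm, hprop ψ (Set.mem_toFinset.1 hψ) x hx, ← h1]
      ring
    rw [Finset.sum_congr rfl e, ← Finset.sum_mul, ← Finset.mul_sum]
    have h2 := congrArg (fun z : ℤ => (z : ℂ)) hsum1
    push_cast at h2
    have h3 := congrArg (fun z : ℤ => (z : ℂ)) (hdmul χ hχ)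
    simp only [Int.cast_mul, Int.cast_natCast, hdegC] at h3
    rw [h2, mul_one, ← h3]
    ring
  · rw [finsum_mem_eq_toFinset_sum]
    set S := ∑ χ ∈ B.toFinset, d χ ^ 2 with hS
    -- the regular inner products
    have hdd : ∀ χ ∈ B, ((d χ : ℂ) * (g : ℂ)) = (χ : G → ℂ) 1 := by
      intro χ hχ
      have h1 := congrArg (fun z : ℤ => (z : ℂ)) (hdmul χ hχ)
      simpa only [Int.cast_mul, Int.cast_natCast, hdegC] using h1
    set K : ℂ := regInner p (χ₀ : G → ℂ) (χ₀ : G → ℂ) * (g : ℂ) ^ 2 / (χ₀ : G → ℂ) 1 ^ 2 with hK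
    have hsc : ∀ χ ∈ B, ∀ x : G, Cfsg.IsPRegular p x →
        (χ : G → ℂ) x = (d χ : ℂ) * ((g : ℂ) / (χ₀ : G → ℂ) 1 * (χ₀ : G → ℂ) x) := by
      intro χ hχ x hx
      rw [← mul_assoc, mul_div_assoc', hdd χ hχ, div_mul_eq_mul_div, ← hprop χ hχ x hx,
        mul_div_cancel_left₀ _ (irr_one_ne_zero χ₀)]
    have hR : ∀ χ ∈ B, ∀ ψ ∈ B, regInner p (χ : G → ℂ) (ψ : G → ℂ) = (d χ : ℂ) * d ψ * K := by
      intro χ hχ ψ hψ
      have e : ∑ x : G with Cfsg.IsPRegular p x, (χ : G → ℂ) x * (ψ : G → ℂ) x⁻¹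
          = (d χ : ℂ) * d ψ * ((g : ℂ) / (χ₀ : G → ℂ) 1) ^ 2
            * ∑ x : G with Cfsg.IsPRegular p x, (χ₀ : G → ℂ) x * (χ₀ : G → ℂ) x⁻¹ := by
        rw [Finset.mul_sum]
        refine Finset.sum_congr rfl fun x hx => ?_
        rw [hsc χ hχ x (Finset.mem_filter.1 hx).2,
          hsc ψ hψ x⁻¹ (isPRegular_inv.2 (Finset.mem_filter.1 hx).2)]
        ring
      rw [hK, regInner, regInner, e, div_pow]
      ring
    have hKS : K * (S : ℂ) = (pPartCard p G : ℂ) := by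
      have h1 := pPartCard_mul_blockRank hM hB
      rw [hl, Nat.cast_one, mul_one] at h1
      rw [h1, hS, Nat.cast_sum, Finset.mul_sum,
        Finset.sum_subtype B.toFinset (fun x => Set.mem_toFinset)]
      refine Finset.sum_congr rfl fun χ _ => ?_
      rw [hR χ.1 χ.2 χ.1 χ.2]
      push_cast
      ring
    -- `K` is an integer, by Bezout
    set k : ℤ := ∑ χ ∈ B.toFinset, ∑ ψ ∈ B.toFinset, n χ * n ψ * regInt p χ ψ with hk
    have hkK : (k : ℂ) = K := by
      rw [hk]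
      push_cast
      rw [Finset.sum_congr rfl fun χ hχ => Finset.sum_congr rfl fun ψ hψ => by
        rw [cast_regInt hp, hR χ (Set.mem_toFinset.1 hχ) ψ (Set.mem_toFinset.1 hψ)]]
      have h2 := congrArg (fun z : ℤ => (z : ℂ)) hsum1
      push_cast at h2
      calc ∑ χ ∈ B.toFinset, ∑ ψ ∈ B.toFinset, (n χ : ℂ) * n ψ * ((d χ : ℂ) * d ψ * K)
          = (∑ χ ∈ B.toFinset, (d χ : ℂ) * n χ) * (∑ ψ ∈ B.toFinset, (d ψ : ℂ) * n ψ) * K := by
            rw [Finset.sum_mul_sum, Finset.sum_mul]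
            refine Finset.sum_congr rfl fun χ _ => ?_
            rw [Finset.sum_mul]
            exact Finset.sum_congr rfl fun ψ _ => by ring
        _ = K := by rw [h2, one_mul, one_mul]
    have hkS : k * (S : ℤ) = ((p ^ (Nat.card G).factorization p : ℕ) : ℤ) := by
      apply Int.cast_injective (α := ℂ)
      rw [Int.cast_mul, Int.cast_natCast, Int.cast_natCast, hkK, hKS]
      norm_cast
    have hSdvd : S ∣ p ^ (Nat.card G).factorization p :=
      Int.natCast_dvd_natCast.1 ⟨k, by rw [← hkS, mul_comm]⟩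
    obtain ⟨j, hj, hjS⟩ := (Nat.dvd_prime_pow hp).1 hSdvd
    rw [hjS, card_defectGroup hM hB hP]
    congr 1
    set a := (Nat.card G).factorization p with ha
    have hkp : k = (p : ℤ) ^ (a - j) := by
      have hj0 : ((p : ℤ) ^ j) ≠ 0 := pow_ne_zero _ (by exact_mod_cast hp.ne_zero)
      refine mul_right_cancel₀ hj0 ?_
      rw [← pow_add, Nat.sub_add_cancel hj]
      have := hkS
      rw [hjS] at this
      push_cast at this
      exact this
    -- exponents
    have hR0 : regInt p χ₀ χ₀ = (d χ₀ : ℤ) ^ 2 * k := by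
      apply Int.cast_injective (α := ℂ)
      rw [cast_regInt hp, hR χ₀ hχ₀ χ₀ hχ₀, Int.cast_mul, Int.cast_pow, Int.cast_natCast, hkK]
      ring
    obtain ⟨he1, he2⟩ := regInt_exact_of_min hM hB hχ₀ h0 hχ₀
    rw [h0] at he1 he2
    have hgm : (p : ℤ) ^ m ∣ g := Finset.dvd_gcd fun χ hχ => by
      have := (hp.pow_dvd_iff_le_factorization (charDegree_pos χ).ne').2
        (minDegVal_le (p := p) (Set.mem_toFinset.1 hχ))
      show (p : ℤ) ^ m ∣ (Cfsg.charDegree (χ : G → ℂ) : ℤ)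
      exact_mod_cast this
    have hd0 : ¬ (p : ℤ) ∣ (d χ₀ : ℤ) := by
      intro hdv
      have h1 : (p : ℤ) ^ (m + 1) ∣ deg χ₀ := by
        rw [← hdmul χ₀ hχ₀, pow_succ']
        exact mul_dvd_mul hdv hgm
      have h2 : p ^ (m + 1) ∣ Cfsg.charDegree (χ₀ : G → ℂ) :=
        Int.natCast_dvd_natCast.1 (by rw [Nat.cast_pow]; exact h1)
      have := (hp.pow_dvd_iff_le_factorization (charDegree_pos χ₀).ne').1 h2
      simp only [degVal] at h0
      omega
    have hpZ : Prime (p : ℤ) := Nat.prime_iff_prime_int.1 hp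
    rw [hR0, hkp] at he1 he2
    have hle : m ≤ a - j := by
      by_contra hlt
      have h1 : (p : ℤ) ^ (a - j + 1) ∣ (d χ₀ : ℤ) ^ 2 * (p : ℤ) ^ (a - j) :=
        (pow_dvd_pow _ (by omega)).trans he1
      rw [pow_succ', mul_dvd_mul_iff_right (pow_ne_zero _ hpZ.ne_zero)] at h1
      exact hd0 (hpZ.dvd_of_dvd_pow h1)
    have hge : ¬ m + 1 ≤ a - j := fun h => he2 ((pow_dvd_pow _ h).mul_left _)
    have hdef := blockDefect_add_min (p := p) (IsPBlock.nonempty hM hB)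
    rw [← ha, ← hm] at hdef
    omega

end Cfsg.Agent.S4675
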