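import Cfsg.Statements.S4679
import Cfsg.Agent.Lib.BrauerPairs.Fusion
-- import your own Cfsg.Agent.* helpers here

set_option autoImplicit false
open Cfsg

namespace Cfsg.Agent.S4679

/-- Fix a prime p and a maximal ideal M of the algebraic integers containing p, a p-block B of the finite group G with maximal Brauer pair (P, e), its fusion system F on P, a Brauer pair (Q, f) ≤ (P, e), and let T be the stabilizer of f in N_G(Q). Then Q is fully normalized in F if and only if N_P(Q) is a defect group of the block of T whose idempotent is that of f. -/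
theorem result {G : Type*} [Group G] [Fintype G] (p : ℕ) [Fact p.Prime] (M : Ideal Cfsg.AlgInt) (hM : Cfsg.IsPModular p M) (B : Set (Cfsg.IrrCharacter G)) (P : Subgroup G) (e : Set (Cfsg.IrrCharacter (Subgroup.centralizer (P : Set G)))) (hmax : Cfsg.IsMaximalBrauerPair p M B P e) (F : Cfsg.FusionSystem P) (hF : Cfsg.IsBlockFusionSystemOn p M B P e F) (Q : Subgroup G) (f : Set (Cfsg.IrrCharacter (Subgroup.centralizer (Q : Set G)))) (hQP : Q ≤ P) (hf : Cfsg.IsPBlock M f) (hle : Cfsg.SubpairLE p M Q f P e) (T : Subgroup G) (hT : ∀ y : G, y ∈ T ↔ y ∈ Subgroup.normalizer (Q : Set G) ∧ Cfsg.StabilizesBlock (Subgroup.centralizer (Q : Set G)) f y) : F.IsFullyNormalized Q ↔ ∃ F' : Set (Cfsg.IrrCharacter T), Cfsg.IsPBlock M F' ∧ (∀ t : T, Cfsg.blockCoeff F' t = Cfsg.subgroupBlockCoeff (Subgroup.centralizer (Q : Set G)) f (t : G)) ∧ Cfsg.IsDefectGroup p M F' ((P ⊓ Subgroup.normalizer (Q : Set G)).subgroupOf T) := by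
  classical
  have hQf := CfsgLib.BrauerPairs.isBrauerPair_of_subpairLE hle hmax.1.1
  have hh := CfsgLib.BrauerPairs.stabHyp_of_iff hQf hM hT
  have hfix := (CfsgLib.BrauerPairs.stabHyp_inf hM hmax.1.1 hle).2.1
  have hRT : P ⊓ Subgroup.normalizer (Q : Set G) ≤ T := fun s hs =>
    (CfsgLib.BrauerPairs.mem_stab_iff hT s).2 ⟨hs.2, hfix s hs⟩
  constructor
  · intro h
    obtain ⟨F', hF', hFc⟩ := CfsgLib.BrauerPairs.exists_stabBlock hM hh
    refine ⟨F', hF', hFc, ?_⟩
    have hcard := (CfsgLib.BrauerPairs.isFullyNormalized_iff hM hF hle hT hF' hFc).1 h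
    obtain ⟨D, hD, hRD⟩ :=
      CfsgLib.BrauerPairs.exists_defect_ge_normalizer hM hmax.1.1 hle hT hF' hFc
    rwa [Subgroup.eq_of_le_of_card_ge hRD (by
      rw [CfsgLib.Blocks.card_defectGroup hM hF' hD,
        Nat.card_congr (Subgroup.subgroupOfEquivOfLe hRT).toEquiv, hcard])]
  · rintro ⟨F', hF', hFc, hD⟩
    refine (CfsgLib.BrauerPairs.isFullyNormalized_iff hM hF hle hT hF' hFc).2 ?_
    rw [← CfsgLib.Blocks.card_defectGroup hM hF' hD,
      Nat.card_congr (Subgroup.subgroupOfEquivOfLe hRT).toEquiv]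

end Cfsg.Agent.S4679
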