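import Cfsg.Statements.S4680
import Cfsg.Agent.Lib.BrauerPairs.Fusion
-- import your own Cfsg.Agent.* helpers here

set_option autoImplicit false
open Cfsg

namespace Cfsg.Agent.S4680

/-- Fix a prime p and a maximal ideal M of the algebraic integers containing p, a p-block B of the finite group G with maximal Brauer pair (P, e), its fusion system F on P, and a Brauer pair (Q, f) ≤ (P, e). Then Q is centric in F if and only if Z(Q) is a defect group of f as a block of C_G(Q). -/
theorem result {G : Type*} [Group G] [Fintype G] (p : ℕ) [Fact p.Prime] (M : Ideal Cfsg.AlgInt) (hM : Cfsg.IsPModular p M) (B : Set (Cfsg.IrrCharacter G)) (P : Subgroup G) (e : Set (Cfsg.IrrCharacter (Subgroup.centralizer (P : Set G)))) (hmax : Cfsg.IsMaximalBrauerPair p M B P e) (F : Cfsg.FusionSystem P) (hF : Cfsg.IsBlockFusionSystemOn p M B P e F) (Q : Subgroup G) (f : Set (Cfsg.IrrCharacter (Subgroup.centralizer (Q : Set G)))) (hQP : Q ≤ P) (hf : Cfsg.IsPBlock M f) (hle : Cfsg.SubpairLE p M Q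 f P e) : F.IsCentric Q ↔ Cfsg.IsDefectGroup p M f ((Q ⊓ Subgroup.centralizer (Q : Set G)).subgroupOf (Subgroup.centralizer (Q : Set G))) := by
  classical
  have hle0 : Q ⊓ Subgroup.centralizer (Q : Set G) ≤ P ⊓ Subgroup.centralizer (Q : Set G) :=
    inf_le_inf_right _ hQP
  have hdg := CfsgLib.BrauerPairs.isDefectGroup_centralizer_iff hM hmax.1.1 hle
  have hcf : ∀ A : Subgroup G, A ≤ Subgroup.centralizer (Q : Set G) →
      Nat.card (A.subgroupOf (Subgroup.centralizer (Q : Set G))) = Nat.card A :=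
    fun A hA => Nat.card_congr (Subgroup.subgroupOfEquivOfLe hA).toEquiv
  constructor
  · intro hc
    have heq : P ⊓ Subgroup.centralizer (Q : Set G) = Q ⊓ Subgroup.centralizer (Q : Set G) :=
      le_antisymm (le_inf (hc.2 Q (CfsgLib.Fsys.isConj_refl hQP)) inf_le_right) hle0
    rw [← heq, hdg]
    refine le_antisymm (CfsgLib.BrauerPairs.card_centralizerIn_le hM hmax.1.1 hle) ?_
    obtain ⟨x, hx, hD⟩ := CfsgLib.BrauerPairs.exists_conj_centralizer_defect hM hmax
      (CfsgLib.BrauerPairs.isBrauerPairOf_down hM hle hmax.1)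
    rw [CfsgLib.BrauerPairs.isDefectGroup_centralizer_iff hM hmax.1.1 hx,
      CfsgLib.BrauerPairs.blockDefect_conjBlock hM hf] at hD
    rw [← hD]
    have hcj : F.IsConj Q (Q.map (MulAut.conj x).toMonoidHom) :=
      (CfsgLib.BrauerPairs.isConj_iff_moves hF).2 ⟨hQP, x, ⟨f, hle, hx⟩, rfl⟩
    refine le_trans (Subgroup.card_le_of_le (le_inf (hc.2 _ hcj) inf_le_right :
      P ⊓ Subgroup.centralizer ((Q.map (MulAut.conj x).toMonoidHom : Subgroup G) : Set G)
        ≤ (Q.map (MulAut.conj x).toMonoidHom) ⊓ Subgroup.centralizer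
            ((Q.map (MulAut.conj x).toMonoidHom : Subgroup G) : Set G))) ?_
    rw [heq, ← Subgroup.card_map_of_injective (K := Q ⊓ Subgroup.centralizer (Q : Set G))
      (f := (MulAut.conj x).toMonoidHom) (MulAut.conj x).injective]
    refine Subgroup.card_le_of_le ?_
    rintro z ⟨⟨q, hq, rfl⟩, hz⟩
    exact ⟨q, ⟨hq, (CfsgLib.BrauerPairs.conj_mem_centralizer_map_iff Q x q).1 hz⟩, rfl⟩
  · intro hD
    have hcard : Nat.card (Q ⊓ Subgroup.centralizer (Q : Set G) : Subgroup G)
        = p ^ Cfsg.blockDefect p f := by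
      rw [← hcf _ inf_le_right]; exact CfsgLib.Blocks.card_defectGroup hM hf hD
    refine ⟨hQP, fun R hR => ?_⟩
    obtain ⟨-, g, ⟨f', hf', hgf⟩, rfl⟩ := (CfsgLib.BrauerPairs.isConj_iff_moves hF).1 hR
    obtain rfl : f' = f :=
      (CfsgLib.BrauerPairs.existsUnique_below hM hmax.1.1 hQP).unique hf' hle
    have h1 : (Q ⊓ Subgroup.centralizer (Q : Set G)).map (MulAut.conj g).toMonoidHom
        ≤ P ⊓ Subgroup.centralizer ((Q.map (MulAut.conj g).toMonoidHom : Subgroup G) : Set G) := by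
      rintro _ ⟨z, hz, rfl⟩
      exact ⟨CfsgLib.BrauerPairs.Below.le hgf ⟨z, hz.1, rfl⟩,
        (CfsgLib.BrauerPairs.conj_mem_centralizer_map_iff Q g z).2 hz.2⟩
    have h2 := Subgroup.eq_of_le_of_card_ge h1 (by
      refine (CfsgLib.BrauerPairs.card_centralizerIn_le hM hmax.1.1 hgf).trans ?_
      rw [CfsgLib.BrauerPairs.blockDefect_conjBlock hM hf, ← hcard,
        Subgroup.card_map_of_injective (MulAut.conj g).injective])
    show P ⊓ _ ≤ _
    rw [← h2]
    exact Subgroup.map_mono inf_le_left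

end Cfsg.Agent.S4680
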