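import Cfsg.Statements.S4683
import Cfsg.Agent.Lib.Blocks.SectionGram
import Cfsg.Agent.Lib.Blocks.BrauerPair
-- import your own Cfsg.Agent.* helpers here

set_option autoImplicit false
open Cfsg

namespace Cfsg.Agent.S4683

/-- Fix a prime p and a maximal ideal M of the algebraic integers containing p, a p-block B of the finite group G, a p-element u and a p-block e of C = C_G(u) such that (⟨u⟩, e) is a Brauer pair of B (a Brauer element of B). For χ ∈ B let χ_u be the e-part of the class function c ↦ χ(u c) on C and χ_u' the e-part of c ↦ χ(u⁻¹ c). Then the sum over χ ∈ B and over the p-regular elements s of C of χ_u(s)·χ_u'(s⁻¹) equals the order of C times the p-regular rank of e (the number of irreducible Brauer characters of e). -/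
theorem result {G : Type*} [Group G] [Fintype G] (p : ℕ) [Fact p.Prime] (M : Ideal Cfsg.AlgInt) (hM : Cfsg.IsPModular p M) (B : Set (Cfsg.IrrCharacter G)) (u : G) (hu : ∃ k : ℕ, orderOf u = p ^ k) (e : Set (Cfsg.IrrCharacter (Subgroup.centralizer (Subgroup.zpowers u : Set G)))) (hBe : Cfsg.IsBrauerPairOf p M B (Subgroup.zpowers u) e) : ∑ᶠ χ ∈ B, ∑ᶠ s : Subgroup.centralizer (Subgroup.zpowers u : Set G), Cfsg.pRegularPart p (Cfsg.blockPart e (fun c : Subgroup.centralizer (Subgroup.zpowers u : Set G) => (χ : G → ℂ) (u * c))) s * Cfsg.blockPart e (fun c : Subgroup.centralizer (Subgroup.zpowers u : Set G) => (χ : G → ℂ) (u⁻¹ * c)) s⁻¹ = (Nat.card (Subgroup.centralizer (Subgroup.zpowers u : Set G)) : ℂ) * (Cfsg.blockRank p e : ℂ) := by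
  classical
  have hK := CfsgLib.Blocks.centralizer_zpowers u
  have hind := (CfsgLib.Blocks.isBrauerPairOf_iff_induced hM hBe.1.1 hBe.1.2).1 hBe
  rw [← CfsgLib.Blocks.sum_sum_secPart_mul hM hK hu hBe.1.2, finsum_mem_eq_toFinset_sum]
  have e : ∀ χ : Cfsg.IrrCharacter G,
      ∑ᶠ s : Subgroup.centralizer (Subgroup.zpowers u : Set G), Cfsg.pRegularPart p
          (Cfsg.blockPart e (fun c : Subgroup.centralizer (Subgroup.zpowers u : Set G) =>
            (χ : G → ℂ) (u * c))) s *
        Cfsg.blockPart e (fun c : Subgroup.centralizer (Subgroup.zpowers u : Set G) =>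
            (χ : G → ℂ) (u⁻¹ * c)) s⁻¹
      = ∑ s : Subgroup.centralizer (Subgroup.zpowers u : Set G) with Cfsg.IsPRegular p s,
          CfsgLib.Blocks.secPart u _ e χ s * CfsgLib.Blocks.secPart u⁻¹ _ e χ s⁻¹ := by
    intro χ
    rw [finsum_eq_sum_of_fintype, Finset.sum_filter]
    refine Finset.sum_congr rfl fun s _ => ?_
    rw [CfsgLib.Blocks.pRegularPart_apply]
    split
    · rfl
    · rw [zero_mul]
  rw [Finset.sum_congr rfl fun χ _ => e χ]
  refine Finset.sum_subset (Finset.subset_univ _) fun χ _ hχ => Finset.sum_eq_zero fun s hs => ?_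
  rw [CfsgLib.Blocks.secPart_eq_zero_of_notMem hM hK hu hind (by simpa using hχ)
    (Finset.mem_filter.1 hs).2, zero_mul]

end Cfsg.Agent.S4683
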