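import Cfsg.Statements.S4688
import Cfsg.Agent.Lib.BrauerPairs.Nilpotent
-- import your own Cfsg.Agent.* helpers here

set_option autoImplicit false
open Cfsg

namespace Cfsg.Agent.S4688

/-- Fix a prime p and a maximal ideal M of the algebraic integers containing p, and a nilpotent p-block B of the finite group G with maximal Brauer pair (P, e). Then for every Brauer pair (Q, f) of B, f is a nilpotent block of C_G(Q); and if moreover (Q, f) ≤ (P, e), then C_P(Q) is a defect group of f as a block of C_G(Q). -/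
theorem result {G : Type*} [Group G] [Fintype G] (p : ℕ) [Fact p.Prime] (M : Ideal Cfsg.AlgInt) (hM : Cfsg.IsPModular p M) (B : Set (Cfsg.IrrCharacter G)) (P : Subgroup G) (e : Set (Cfsg.IrrCharacter (Subgroup.centralizer (P : Set G)))) (hmax : Cfsg.IsMaximalBrauerPair p M B P e) (hnil : Cfsg.IsNilpotentBlock p M B) (Q : Subgroup G) (f : Set (Cfsg.IrrCharacter (Subgroup.centralizer (Q : Set G)))) (hQf : Cfsg.IsBrauerPairOf p M B Q f) : Cfsg.IsNilpotentBlock p M f ∧ (Cfsg.SubpairLE p M Q f P e → Cfsg.IsDefectGroup p M f ((P ⊓ Subgroup.centralizer (Q : Set G)).subgroupOf (Subgroup.centralizer (Q : Set G)))) := by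
  classical
  refine ⟨⟨hQf.1.2, fun R k hRk x hxN hxs hxr => ?_⟩, fun hle => ?_⟩
  ·
    have hR' : R.map (Subgroup.centralizer (Q : Set G)).subtype ≤ (Subgroup.centralizer (Q : Set G)) := Subgroup.map_subtype_le R
    have hmem : ∀ z : (Subgroup.centralizer (Q : Set G)), (z : G) ∈ Subgroup.centralizer ((Q ⊔ R.map (Subgroup.centralizer (Q : Set G)).subtype : Subgroup G) : Set G)
        ↔ z ∈ Subgroup.centralizer (R : Set (Subgroup.centralizer (Q : Set G))) := by
      intro z
      rw [← CfsgLib.BrauerPairs.coe_mem_centralizer_iff (R := R) rfl z]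
      refine ⟨fun h => CfsgLib.BrauerPairs.centralizer_anti le_sup_right h, fun h => ?_⟩
      have h1 : Q ⊔ R.map (Subgroup.centralizer (Q : Set G)).subtype ≤ Subgroup.centralizer ({(z : G)} : Set G) := sup_le
        (fun q hq => Subgroup.mem_centralizer_singleton_iff.2
          (Subgroup.mem_centralizer_iff.1 z.2 q hq))
        (fun q hq => Subgroup.mem_centralizer_singleton_iff.2
          (Subgroup.mem_centralizer_iff.1 h q hq))
      exact Subgroup.mem_centralizer_iff.2 fun u hu =>
        Subgroup.mem_centralizer_singleton_iff.1 (h1 hu)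
    have hL : Subgroup.centralizer ((Q ⊔ R.map (Subgroup.centralizer (Q : Set G)).subtype : Subgroup G) : Set G) ≤ (Subgroup.centralizer (Q : Set G)) :=
      CfsgLib.BrauerPairs.centralizer_anti le_sup_left
    obtain ⟨k', hk', hkk⟩ := CfsgLib.BrauerPairs.exists_block_unnested hL hmem hRk.1.2
    have hRN : R.map (Subgroup.centralizer (Q : Set G)).subtype ≤ Subgroup.normalizer (Q : Set G) :=
      hR'.trans (Subgroup.centralizer_le_normalizer _)
    have hS : IsPGroup p (Q ⊔ R.map (Subgroup.centralizer (Q : Set G)).subtype : Subgroup G) := by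
      rw [sup_comm]
      exact (IsPGroup.map hRk.1.1 _).to_sup_of_normal_right' hQf.1.1 hRN
    have hQs := CfsgLib.BrauerPairs.goodAt_bc_self (P := Q) hM hQf.1.2
    have hfix : Q ⊔ R.map (Subgroup.centralizer (Q : Set G)).subtype ≤ CfsgLib.BrauerPairs.pairStab Q f :=
      sup_le (fun q hq => ⟨Subgroup.le_normalizer hq, hQs.fixP q hq⟩)
        (fun q hq => ⟨hRN hq, hQs.fixC q (hR' hq)⟩)
    have hnorm : Cfsg.IsNormalSubpair p M Q f (Q ⊔ R.map (Subgroup.centralizer (Q : Set G)).subtype) k' := by
      refine CfsgLib.BrauerPairs.isNormalSubpair_iff.2 ⟨hQf.1, ⟨hS, hk'⟩, le_sup_left,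
        sup_le Subgroup.le_normalizer hRN, fun u hu => (hfix hu).2, fun ξ hξ => ?_⟩
      have himg : CfsgLib.BrauerPairs.irrEquiv (CfsgLib.BrauerPairs.nestIso hL hmem) '' k' = k :=
        CfsgLib.BrauerPairs.bc_injective _ (funext fun z =>
          (CfsgLib.BrauerPairs.bc_image_nestIso hL hmem k' z).trans (hkk z).symm)
      have h1 := hRk.2.2 _ (himg ▸ Set.mem_image_of_mem _ hξ)
      convert h1 using 2
      rw [CfsgLib.Blocks.brauerOmega_eq_omega,
        CfsgLib.Blocks.brauerOmega_eq_omega, CfsgLib.Blocks.omega, CfsgLib.Blocks.omega,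
        CfsgLib.BrauerPairs.irrEquiv_apply, map_one]
      congr 1
      refine (Fintype.sum_equiv (CfsgLib.BrauerPairs.nestIso hL hmem).toEquiv _ _ fun c => ?_).symm
      exact congrArg (· * _) (CfsgLib.BrauerPairs.bc_coe (Subgroup.centralizer (Q : Set G)) f (c : (Subgroup.centralizer (Q : Set G)))).symm
    have hpair := CfsgLib.BrauerPairs.isBrauerPairOf_up_normal hM hnorm hQf
    have hxN' : (x : G) ∈ Subgroup.normalizer ((Q ⊔ R.map (Subgroup.centralizer (Q : Set G)).subtype : Subgroup G) : Set G) := by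
      refine CfsgLib.Fsys.mem_normalizer_of_map_le fun u hu => ?_
      have h1 : Q ⊔ R.map (Subgroup.centralizer (Q : Set G)).subtype
          ≤ (Q ⊔ R.map (Subgroup.centralizer (Q : Set G)).subtype).comap (MulAut.conj (x : G)).toMonoidHom := by
        refine sup_le (fun q hq => ?_) ?_
        · rw [Subgroup.mem_comap, MulEquiv.coe_toMonoidHom, MulAut.conj_apply]
          rw [← Subgroup.mem_centralizer_iff.1 x.2 q hq, mul_inv_cancel_right]
          exact Subgroup.mem_sup_left hq
        · rintro _ ⟨r, hr, rfl⟩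
          exact Subgroup.mem_sup_right
            ⟨x * r * x⁻¹, (Subgroup.mem_normalizer_iff.1 hxN r).1 hr, rfl⟩
      exact h1 hu
    have hxst : Cfsg.StabilizesBlock
        (Subgroup.centralizer ((Q ⊔ R.map (Subgroup.centralizer (Q : Set G)).subtype : Subgroup G) : Set G)) k' (x : G) := by
      refine (CfsgLib.BrauerPairs.stabilizesBlock_iff _ k' _).2
        ⟨CfsgLib.BrauerPairs.normalizer_le_normalizer_centralizer _ hxN', fun z => ?_⟩
      by_cases hz : z ∈ (Subgroup.centralizer (Q : Set G))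
      · have h1 := ((CfsgLib.BrauerPairs.stabilizesBlock_iff _ k x).1 hxs).2 ⟨z, hz⟩
        rw [hkk, hkk] at h1
        exact h1
      · rw [CfsgLib.BrauerPairs.bc_of_notMem (fun h => hz (hL h)),
          CfsgLib.BrauerPairs.bc_of_notMem (fun h => hz ?_)]
        have := (Subgroup.centralizer (Q : Set G)).mul_mem ((Subgroup.centralizer (Q : Set G)).mul_mem ((Subgroup.centralizer (Q : Set G)).inv_mem x.2) (hL h)) x.2
        simpa [mul_assoc] using this
    have hreg : Cfsg.IsPRegular p (x : G) := by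
      rw [Cfsg.IsPRegular, Subgroup.orderOf_coe]; exact hxr
    exact (hmem x).1 (hnil.2 _ _ hpair _ hxN' hxst hreg)
  · have hF := CfsgLib.BrauerPairs.isBlockFusionSystemOn_blockFusion hM hmax
    rw [CfsgLib.BrauerPairs.isDefectGroup_centralizer_iff hM hmax.1.1 hle,
      ← CfsgLib.BrauerPairs.isFullyCentralized_iff hM hF hle]
    refine ⟨CfsgLib.BrauerPairs.subgroup_le_of_subpairLE hle, ?_⟩
    rintro R ⟨φ, hφ, rfl⟩
    rw [CfsgLib.BrauerPairs.hom_eq_inner_of_nilpotent hM hF hnil] at hφ
    obtain ⟨-, u, hu, hux⟩ := hφ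
    rw [← Subgroup.card_map_of_injective (K := Cfsg.FusionSystem.centralizerIn P Q)
      (f := (MulAut.conj u).toMonoidHom) (MulAut.conj u).injective]
    refine Subgroup.card_le_of_le fun z hz => ⟨u⁻¹ * z * u, ⟨?_, ?_⟩, by simp [mul_assoc]⟩
    · exact P.mul_mem (P.mul_mem (P.inv_mem hu) hz.1) hu
    · refine (CfsgLib.BrauerPairs.conj_mem_centralizer_map_iff Q u _).1 ?_
      have e : φ.range = Q.map (MulAut.conj u).toMonoidHom := by
        ext y
        constructor
        · rintro ⟨a, rfl⟩; exact ⟨a, a.2, (hux a).symm⟩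
        · rintro ⟨a, ha, rfl⟩; exact ⟨⟨a, ha⟩, hux _⟩
      rw [← e]
      simpa [mul_assoc] using hz.2

end Cfsg.Agent.S4688
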