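import Cfsg.Statements.S4689
import Cfsg.Agent.Lib.BrouePuig.Nilpotent

set_option autoImplicit false
open Cfsg

namespace Cfsg.Agent.S4689



/-- Fix a prime p and a maximal ideal M of the algebraic integers containing p, and a nilpotent p-block B of the finite group G. Then B has p-regular rank one (a single irreducible Brauer character), and some χ₀ ∈ B restricts to that Brauer character: every χ ∈ B agrees on the p-regular elements with a natural-number multiple of χ₀. -/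
theorem result {G : Type*} [Group G] [Fintype G] (p : ℕ) [Fact p.Prime] (M : Ideal Cfsg.AlgInt) (hM : Cfsg.IsPModular p M) (B : Set (Cfsg.IrrCharacter G)) (hnil : Cfsg.IsNilpotentBlock p M B) : Cfsg.blockRank p B = 1 ∧ ∃ χ₀ ∈ B, ∀ χ ∈ B, ∃ d : ℕ, ∀ x : G, Cfsg.pRegularPart p (χ : G → ℂ) x = (d : ℂ) * Cfsg.pRegularPart p (χ₀ : G → ℂ) x := by
  classical
  obtain ⟨D, hD⟩ := CfsgLib.Blocks.exists_isDefectGroup hM hnil.1
  obtain ⟨g, hg⟩ := CfsgLib.BrauerPairs.exists_pair_of_defectGroup hM hnil.1 hD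
  obtain ⟨χ₀, hχ₀, -, Φ, hΦ⟩ := CfsgLib.BrouePuig.exists_param hM hnil
    (CfsgLib.BrauerPairs.isMaximal_of_defectGroup hM hD hg)
  have key : ∀ χ ∈ B, ∃ d : ℕ, ∀ x : G, Cfsg.pRegularPart p (χ : G → ℂ) x
      = (d : ℂ) * Cfsg.pRegularPart p (χ₀ : G → ℂ) x := by
    intro χ hχ
    obtain ⟨ζ, hζ⟩ := Φ.surjective ⟨χ, hχ⟩
    refine ⟨Cfsg.charDegree ((ζ : Cfsg.IrrCharacter D) : D → ℂ), fun x => ?_⟩
    rw [CfsgLib.Blocks.pRegularPart_apply, CfsgLib.Blocks.pRegularPart_apply]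
    by_cases hx : Cfsg.IsPRegular p x
    · rw [if_pos hx, if_pos hx, ← CfsgLib.Blocks.irr_one_eq, ← hΦ ζ x hx, hζ]
    · rw [if_neg hx, if_neg hx, mul_zero]
  refine ⟨?_, χ₀, hχ₀, key⟩
  set f := Cfsg.pRegularPart p (χ₀ : G → ℂ) with hf
  have hf0 : f ≠ 0 := fun h0 => by
    have h1 := congrFun h0 1
    rw [hf, CfsgLib.Blocks.pRegularPart_apply,
      if_pos (by simp [Cfsg.IsPRegular, hM.1.ne_one])] at h1
    exact CfsgLib.Blocks.irr_one_ne_zero χ₀ h1
  rw [Cfsg.blockRank]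
  refine (LinearEquiv.finrank_eq (LinearEquiv.ofEq _ (Submodule.span ℂ {f}) ?_)).trans
    (finrank_span_singleton hf0)
  refine le_antisymm (Submodule.span_le.2 ?_) (Submodule.span_le.2 ?_)
  · rintro _ ⟨χ, hχ, rfl⟩
    obtain ⟨d, hd⟩ := key χ hχ
    exact Submodule.mem_span_singleton.2 ⟨(d : ℂ), funext fun x => (hd x).symm⟩
  · exact Set.singleton_subset_iff.2 (Submodule.subset_span ⟨_, hχ₀, rfl⟩)

end Cfsg.Agent.S4689
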