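import Cfsg.Statements.S4690
import Cfsg.Agent.Lib.BrouePuig.Nilpotent

set_option autoImplicit false
open Cfsg

namespace Cfsg.Agent.S4690



/-- Fix a prime p and a maximal ideal M of the algebraic integers containing p, and a nilpotent p-block B of the finite group G with defect group P. Then there is a bijection from B onto the irreducible characters of P carrying the height of each χ ∈ B to the exponent of p in the degree of its image. -/
theorem result {G : Type*} [Group G] [Fintype G] (p : ℕ) [Fact p.Prime] (M : Ideal Cfsg.AlgInt) (hM : Cfsg.IsPModular p M) (B : Set (Cfsg.IrrCharacter G)) (hnil : Cfsg.IsNilpotentBlock p M B) (P : Subgroup G) (hP : Cfsg.IsDefectGroup p M B P) : ∃ Φ : B ≃ Cfsg.IrrCharacter P, ∀ χ : B, Cfsg.blockHeight p B ((χ : Cfsg.IrrCharacter G) : G → ℂ) = (Cfsg.charDegree ((Φ χ : Cfsg.IrrCharacter P) : P → ℂ)).factorization p := by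
  classical
  obtain ⟨g, hg⟩ := CfsgLib.BrauerPairs.exists_pair_of_defectGroup hM hnil.1 hP
  obtain ⟨χ₀, hχ₀, h0, Φ, hΦ⟩ := CfsgLib.BrouePuig.exists_param hM hnil
    (CfsgLib.BrauerPairs.isMaximal_of_defectGroup hM hP hg)
  refine ⟨Φ.symm, fun χ => ?_⟩
  obtain ⟨ζ, rfl⟩ := Φ.surjective χ
  rw [Equiv.symm_apply_apply, CfsgLib.Blocks.blockHeight_eq]
  have h1 := hΦ ζ 1 (by rw [orderOf_one]; exact hM.1.not_dvd_one)
  rw [CfsgLib.Blocks.irr_one_eq, CfsgLib.Blocks.irr_one_eq, CfsgLib.Blocks.irr_one_eq,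
    ← Nat.cast_mul, Nat.cast_inj] at h1
  show CfsgLib.Blocks.degVal p _ - _ = _
  rw [CfsgLib.Blocks.degVal, h1, Nat.factorization_mul (CfsgLib.Blocks.charDegree_pos ζ).ne'
    (CfsgLib.Blocks.charDegree_pos χ₀).ne', Finsupp.add_apply]
  change _ + CfsgLib.Blocks.degVal p χ₀ - _ = _
  rw [h0, Nat.add_sub_cancel]

end Cfsg.Agent.S4690
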