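import Cfsg.Statements.S4692
import Cfsg.Agent.Lib.BrauerPairs.PExtension

set_option autoImplicit false
open Cfsg

namespace Cfsg.Agent.S4692

open CfsgLib.Blocks CfsgLib.BrauerPairs CfsgLib.BrauerPairs.PExtension
open scoped Classical

/-- Fix a prime p and a maximal ideal M of the algebraic integers containing p. Let N be a normal subgroup of p-power index in the finite group G and c a p-block of N stable under conjugation by G, and let B be the p-block of G whose idempotent is that of c (it exists and is unique). Then c is nilpotent as a block of N if and only if B is nilpotent as a block of G. -/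
theorem result {G : Type*} [Group G] [Fintype G] (p : ℕ) [Fact p.Prime] (M : Ideal Cfsg.AlgInt) (hM : Cfsg.IsPModular p M) (N : Subgroup G) [N.Normal] (hN : ∃ k : ℕ, N.index = p ^ k) (c : Set (Cfsg.IrrCharacter N)) (hc : Cfsg.IsPBlock M c) (hst : ∀ x : G, Cfsg.StabilizesBlock N c x) (B : Set (Cfsg.IrrCharacter G)) (hB : Cfsg.IsPBlock M B) (hBc : ∀ g : G, Cfsg.blockCoeff B g = Cfsg.subgroupBlockCoeff N c g) : Cfsg.IsNilpotentBlock p M c ↔ Cfsg.IsNilpotentBlock p M B := by
  have hp := hM.1
  have hmemR : ∀ (R₀ : Subgroup N) (n : N), (n : G) ∈ R₀.map N.subtype ↔ n ∈ R₀ := fun R₀ n => by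
    simp
  constructor
  · intro hnil
    refine ⟨hB, fun Q e hQe x hxN hxst hxr => ?_⟩
    have hx : x ∈ N := mem_of_regular hp hN hxr
    set R₀ : Subgroup N := Q.subgroupOf N with hR₀
    have hmap : ∀ g : G, g ∈ R₀.map N.subtype ↔ g ∈ Q ∧ g ∈ N := fun g => by
      rw [hR₀, Subgroup.subgroupOf_map_subtype, Subgroup.mem_inf]
    have hRQ : R₀.map N.subtype ≤ Q := fun g hg => ((hmap g).1 hg).1
    have hQN : Q ≤ Subgroup.normalizer ((R₀.map N.subtype : Subgroup G) : Set G) := by
      intro q hq
      refine Subgroup.mem_normalizer_iff.2 fun g => ?_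
      rw [hmap, hmap]
      exact and_congr ⟨fun h => Q.mul_mem (Q.mul_mem hq h) (Q.inv_mem hq),
          fun h => by simpa [mul_assoc] using Q.mul_mem (Q.mul_mem (Q.inv_mem hq) h) hq⟩
        ⟨fun h => Subgroup.Normal.conj_mem (inferInstance : N.Normal) _ h q,
          fun h => by
            simpa [mul_assoc] using Subgroup.Normal.conj_mem (inferInstance : N.Normal) _ h q⁻¹⟩
    have hxR : x ∈ Subgroup.normalizer ((R₀.map N.subtype : Subgroup G) : Set G) := by
      refine Subgroup.mem_normalizer_iff.2 fun g => ?_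
      rw [hmap, hmap]
      exact and_congr (Subgroup.mem_normalizer_iff.1 hxN g)
        ⟨fun h => N.mul_mem (N.mul_mem hx h) (N.inv_mem hx),
          fun h => by simpa [mul_assoc] using N.mul_mem (N.mul_mem (N.inv_mem hx) h) hx⟩
    obtain ⟨f, hf, hfu⟩ := existsUnique_normal hM hRQ hQN hQe.1
    have hfB := isBrauerPairOf_down hM (Relation.ReflTransGen.single hf) hQe
    -- `x` fixes the block below
    have hefix := ((stabilizesBlock_iff _ _ _).1 hxst).2
    have hffix : Fixes x (subgroupBlockCoeff (Subgroup.centralizer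
        ((R₀.map N.subtype : Subgroup G) : Set G)) f) := by
      have heq : conjPair x ⟨Q, e⟩ = (⟨Q, e⟩ : BrauerPairIdx G) :=
        pair_ext (map_conj_of_mem_normalizer hxN) fun z => by
          show subgroupBlockCoeff _ (conjBlock Q x e) z = subgroupBlockCoeff _ e z
          rw [bc_conjBlock']
          simpa using hefix.inv z
      have hrel : NormalSubpairRel p M (conjPair x ⟨_, f⟩) (conjPair x ⟨Q, e⟩) :=
        isNormalSubpair_conj x hf
      rw [heq] at hrel
      have hfst : (conjPair x ⟨_, f⟩ : BrauerPairIdx G).1 = R₀.map N.subtype :=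
        map_conj_of_mem_normalizer hxR
      have hbc : ∀ z, subgroupBlockCoeff
          (Subgroup.centralizer ((conjPair x ⟨_, f⟩ : BrauerPairIdx G).1 : Set G))
          (conjPair x ⟨_, f⟩ : BrauerPairIdx G).2 z
          = subgroupBlockCoeff (Subgroup.centralizer ((R₀.map N.subtype : Subgroup G) : Set G)) f
              (x⁻¹ * z * x) := fun z => bc_conjBlock' _ x f z
      generalize conjPair x ⟨_, f⟩ = a at hrel hfst hbc
      obtain ⟨A, v⟩ := a
      simp only at hfst
      subst hfst
      obtain rfl := hfu v hrel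
      intro z
      have := hbc (x * z * x⁻¹)
      simpa [mul_assoc] using this
    have hfst' : StabilizesBlock (Subgroup.centralizer ((R₀.map N.subtype : Subgroup G) : Set G))
        f x := (stabilizesBlock_iff _ _ _).2 ⟨normalizer_le_normalizer_centralizer _ hxR, hffix⟩
    have hR₀p : IsPGroup p R₀ := hQe.1.1.comap_of_injective _ N.subtype_injective
    -- a covered block
    obtain ⟨χ, hχ⟩ := IsPBlock.nonempty hM hfB.1.2
    obtain ⟨θ', hθ'⟩ := CfsgLib.Blocks.exists_over
      (N := N.subgroupOf (Subgroup.centralizer ((R₀.map N.subtype : Subgroup G) : Set G))) χ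
    obtain ⟨θ, rfl⟩ := (irrEquiv (capIso R₀)).surjective θ'
    set b := blockOf M (θ : Subgroup.centralizer (R₀ : Set N) → ℂ)
    have hb : IsPBlock M b := isPBlock_blockOf θ
    have hcov : ∃ χ ∈ f, ∃ θ ∈ b, Over R₀ χ θ :=
      ⟨χ, hχ, θ, SameBlock_refl hM _, hθ'⟩
    have hpair := (pair_iff hM hB hc hBc hR₀p hb hfB.1.2 hcov).1 hfB
    obtain ⟨g, hg, hgfix⟩ := exists_fix_covered hM hb hfB.1.2 hcov (y := ⟨x, hx⟩)
      ((normalizer_map_iff _).1 hxR) hfst'
    -- the `p'`-part of `x g`
    set w := x * g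
    have hwR : ∀ (k : ℕ), ∀ r ∈ R₀.map N.subtype,
        w ^ k * r * (w ^ k)⁻¹ = x ^ k * r * (x ^ k)⁻¹ := by
      intro k
      induction k with
      | zero => simp
      | succ k ih =>
        intro r hr
        have hxr' : x * r * x⁻¹ ∈ R₀.map N.subtype := (Subgroup.mem_normalizer_iff.1 hxR r).1 hr
        calc w ^ (k + 1) * r * (w ^ (k + 1))⁻¹ = w ^ k * (x * (g * r * g⁻¹) * x⁻¹) * (w ^ k)⁻¹ := by
              simp [pow_succ, mul_assoc, w]
          _ = w ^ k * (x * r * x⁻¹) * (w ^ k)⁻¹ := by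
              rw [← Subgroup.mem_centralizer_iff.1 hg r hr, mul_inv_cancel_right]
          _ = _ := by rw [ih _ hxr']; simp [pow_succ, mul_assoc]
    set a := (orderOf w).factorization p
    have hyr : IsPRegular p (w ^ p ^ a) := by
      rw [IsPRegular, orderOf_pow' w (pow_ne_zero _ hp.ne_zero),
        Nat.gcd_eq_right (Nat.ordProj_dvd _ _)]
      exact Nat.not_dvd_ordCompl hp (orderOf_pos w).ne'
    have hy : w ^ p ^ a ∈ N := mem_of_regular hp hN hyr
    have hwn : w ∈ Subgroup.normalizer ((R₀.map N.subtype : Subgroup G) : Set G) :=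
      Subgroup.mul_mem _ hxR (Subgroup.centralizer_le_normalizer _ hg)
    have hyn : (⟨_, hy⟩ : N) ∈ Subgroup.normalizer (R₀ : Set N) :=
      (normalizer_map_iff _).1 (Subgroup.pow_mem _ hwn _)
    have hyst : StabilizesBlock (Subgroup.centralizer (R₀ : Set N)) b ⟨_, hy⟩ := by
      refine (stabilizesBlock_iff _ _ _).2 ⟨normalizer_le_normalizer_centralizer _ hyn, fun z => ?_⟩
      have hfx : ∀ k : ℕ, Fixes (w ^ k)
          (fun z => if hz : z ∈ N then subgroupBlockCoeff (Subgroup.centralizer (R₀ : Set N)) b ⟨z, hz⟩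
            else 0) := by
        intro k
        induction k with
        | zero => intro z; simp
        | succ k ih => rw [pow_succ]; exact ih.mul hgfix
      have := hfx (p ^ a) (z : G)
      simp only at this
      rw [dif_pos z.2, dif_pos (N.mul_mem (N.mul_mem hy z.2) (N.inv_mem hy))] at this
      exact this
    have hyreg : IsPRegular p (⟨_, hy⟩ : N) := by
      rw [IsPRegular, ← Subgroup.orderOf_coe]; exact hyr
    have hyC := hnil.2 R₀ b hpair _ hyn hyst hyreg
    have hxC : x ∈ Subgroup.centralizer ((R₀.map N.subtype : Subgroup G) : Set G) := by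
      have h1 : x ^ p ^ a ∈ Subgroup.centralizer ((R₀.map N.subtype : Subgroup G) : Set G) := by
        refine Subgroup.mem_centralizer_iff.2 fun r hr => ?_
        have h2 := (hwR (p ^ a) r hr).symm.trans (by
          rw [← Subgroup.mem_centralizer_iff.1
            ((coe_mem_centralizer_map R₀ ⟨_, hy⟩).2 hyC) r hr, mul_inv_cancel_right] :
            w ^ p ^ a * r * (w ^ p ^ a)⁻¹ = r)
        exact (mul_inv_eq_iff_eq_mul.1 h2).symm
      obtain ⟨m, hm⟩ := exists_pow_eq_self_of_coprime
        (((hp.coprime_iff_not_dvd.2 hxr).pow_left a : Nat.Coprime (p ^ a) (orderOf x)))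
      rw [← hm]
      exact Subgroup.pow_mem _ h1 m
    refine Subgroup.mem_centralizer_iff.2 fun q hq => ?_
    set r := q⁻¹ * (x * q * x⁻¹) with hr
    have hrR : r ∈ R₀.map N.subtype := (hmap r).2
      ⟨Q.mul_mem (Q.inv_mem hq) ((Subgroup.mem_normalizer_iff.1 hxN q).1 hq), by
        have := N.mul_mem (Subgroup.Normal.conj_mem (inferInstance : N.Normal) x hx q⁻¹) (N.inv_mem hx)
        simpa [hr, mul_assoc] using this⟩
    have hk : ∀ k : ℕ, x ^ k * q * (x ^ k)⁻¹ = q * r ^ k := by
      intro k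
      induction k with
      | zero => simp
      | succ k ih =>
        have hxrk : x * r ^ k * x⁻¹ = r ^ k := by
          rw [← Subgroup.mem_centralizer_iff.1 hxC _ ((R₀.map N.subtype).pow_mem hrR k),
            mul_inv_cancel_right]
        calc x ^ (k + 1) * q * (x ^ (k + 1))⁻¹ = x * (x ^ k * q * (x ^ k)⁻¹) * x⁻¹ := by
              simp [pow_succ', mul_assoc]
          _ = (x * q * x⁻¹) * (x * r ^ k * x⁻¹) := by rw [ih]; simp [mul_assoc]
          _ = q * r ^ (k + 1) := by
              rw [hxrk, show x * q * x⁻¹ = q * r by simp [hr], pow_succ', mul_assoc]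
    have h1 : r ^ orderOf x = 1 := by
      have := hk (orderOf x)
      rw [pow_orderOf_eq_one] at this
      simpa using this
    obtain ⟨j, hj⟩ := hQe.1.1 ⟨r, hRQ hrR⟩
    have h2 : r ^ p ^ j = 1 := congrArg Subtype.val hj
    have h3 : r = 1 := by
      rw [← orderOf_eq_one_iff]
      exact Nat.eq_one_of_dvd_coprimes ((hp.coprime_iff_not_dvd.2 hxr).pow_left j)
        (orderOf_dvd_of_pow_eq_one h2) (orderOf_dvd_of_pow_eq_one h1)
    have h4 := hk 1
    rw [pow_one, pow_one, h3, mul_one] at h4
    exact (mul_inv_eq_iff_eq_mul.1 h4).symm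
  · intro hnil
    refine ⟨hc, fun R₀ b hRb y hyn hyst hyr => ?_⟩
    obtain ⟨f, ⟨hf, χ, hχ, _, ⟨θ, hθ, rfl⟩, h⟩, -⟩ := CoverBasics.existsUnique_cover hM
      (index_cap R₀ hp hN) (isPBlock_image (capIso R₀) hRb.1.2)
    have hcov : ∃ χ ∈ f, ∃ θ ∈ b, Over R₀ χ θ := ⟨χ, hχ, θ, hθ, h⟩
    have hpair := (pair_iff hM hB hc hBc hRb.1.1 hRb.1.2 hf hcov).2 hRb
    have hst := stabilizes_cover hM hN hRb.1.2 hf hcov hyn hyst
    exact (coe_mem_centralizer_map R₀ y).1 (hnil.2 _ f hpair (y : G) ((normalizer_map_iff y).2 hyn)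
      hst (by rw [IsPRegular, Subgroup.orderOf_coe]; exact hyr))

end Cfsg.Agent.S4692
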