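import Cfsg.Statements.S4693
import Cfsg.Agent.Lib.BrauerPairs.Nilpotent
import Cfsg.Agent.S4680
-- import your own Cfsg.Agent.* helpers here

set_option autoImplicit false
open Cfsg

namespace Cfsg.Agent.S4693

/-- Fix a prime p and a maximal ideal M of the algebraic integers containing p, a p-block B of the finite group G with maximal Brauer pair (P, e) and fusion system F on P, and a Brauer pair (Q, f) ≤ (P, e) with Q centric in F. Suppose every element of G normalizes Q and stabilizes f. Then the idempotent of B agrees with that of f modulo M at every element of G, and f is the idempotent of a nilpotent block of Q·C_G(Q): some p-block of Q·C_G(Q) has the idempotent coefficients of f and is nilpotent. -/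
theorem result {G : Type*} [Group G] [Fintype G] (p : ℕ) [Fact p.Prime] (M : Ideal Cfsg.AlgInt) (hM : Cfsg.IsPModular p M) (B : Set (Cfsg.IrrCharacter G)) (P : Subgroup G) (e : Set (Cfsg.IrrCharacter (Subgroup.centralizer (P : Set G)))) (hmax : Cfsg.IsMaximalBrauerPair p M B P e) (F : Cfsg.FusionSystem P) (hF : Cfsg.IsBlockFusionSystemOn p M B P e F) (Q : Subgroup G) (f : Set (Cfsg.IrrCharacter (Subgroup.centralizer (Q : Set G)))) (hQP : Q ≤ P) (hf : Cfsg.IsPBlock M f) (hle : Cfsg.SubpairLE p M Q f P e) (hcen : F.IsCentric Q) (hG : ∀ x : G, x ∈ Subgroup.normalizer (Q : Set G) ∧ Cfsg.StabilizesBlock (Subgroup.centralizer (Q : Set G)) f x) : (∀ g : G, Cfsg.MemLocalIdeal M (Cfsg.blockCoeff B g - Cfsg.subgroupBlockCoeff (Subgroup.centralizer (Q : Set G)) f g)) ∧ ∃ F' : Set (Cfsg.IrrCharacter ↥(Q ⊔ Subgroup.centralizer (Q : Set G))), Cfsg.IsPBlock M F' ∧ (∀ t : ↥(Q ⊔ Subgroup.centralizer (Q : Set G)), Cfsg.blockCoeff F' t = Cfsg.subgroupBlockCoeff (Subgroup.centralizer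 (Q : Set G)) f (t : G)) ∧ Cfsg.IsNilpotentBlock p M F' := by
  classical
  have hQf := CfsgLib.BrauerPairs.isBrauerPair_of_subpairLE hle hmax.1.1
  have hQB := CfsgLib.BrauerPairs.isBrauerPairOf_down hM hle hmax.1
  have hfix : ∀ x : G, CfsgLib.BrauerPairs.Fixes x
      (Cfsg.subgroupBlockCoeff (Subgroup.centralizer (Q : Set G)) f) := fun x =>
    ((CfsgLib.BrauerPairs.stabilizesBlock_iff _ f x).1 (hG x).2).2
  refine ⟨fun g => ?_, ?_⟩
  · have hh : CfsgLib.BrauerPairs.StabHyp p M Q ⊤ f :=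
      ⟨hQf, le_top, le_top, fun t _ => (hG t).1, fun t _ => hfix t⟩
    obtain ⟨F₁, hF₁, hF₁c⟩ := CfsgLib.BrauerPairs.exists_stabBlock hM hh
    have hB₁ := CfsgLib.BrauerPairs.isPBlock_image (Subgroup.topEquiv (G := G)).symm hF₁
    have hB₁c : ∀ x, Cfsg.blockCoeff
        (CfsgLib.BrauerPairs.irrEquiv (Subgroup.topEquiv (G := G)).symm '' F₁) x
        = Cfsg.subgroupBlockCoeff (Subgroup.centralizer (Q : Set G)) f x := fun x => by
      rw [CfsgLib.BrauerPairs.blockCoeff_image, hF₁c]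
      rfl
    have hp : Cfsg.IsBrauerPairOf p M
        (CfsgLib.BrauerPairs.irrEquiv (Subgroup.topEquiv (G := G)).symm '' F₁) Q f := by
      refine ⟨hQf, hB₁, fun ξ hξ => ?_⟩
      rw [funext hB₁c, CfsgLib.BrauerPairs.brauerOmega_bc_self,
        CfsgLib.Blocks.blockInd_of_mem hξ, sub_self]
      exact CfsgLib.Blocks.LI.zero hM
    rw [CfsgLib.BrauerPairs.block_unique hM hQB hp, hB₁c, sub_self]
    exact CfsgLib.Blocks.LI.zero hM
  ·
    have hh : CfsgLib.BrauerPairs.StabHyp p M Q (Q ⊔ (Subgroup.centralizer (Q : Set G))) f :=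
      ⟨hQf, le_sup_left, le_sup_right,
        sup_le Subgroup.le_normalizer (Subgroup.centralizer_le_normalizer _), fun t _ => hfix t⟩
    obtain ⟨F', hF', hF'c⟩ := CfsgLib.BrauerPairs.exists_stabBlock hM hh
    refine ⟨F', hF', hF'c, hF', fun R k hRk x hxN _ hxr => ?_⟩
    have hmul : ∀ u ∈ Q ⊔ (Subgroup.centralizer (Q : Set G)), ∃ q ∈ Q, ∃ c ∈ (Subgroup.centralizer (Q : Set G)), q * c = u := by
      intro u hu
      rw [← SetLike.mem_coe, Subgroup.coe_mul_of_left_le_normalizer_right Q (Subgroup.centralizer (Q : Set G))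
        (fun q hq => CfsgLib.BrauerPairs.normalizer_le_normalizer_centralizer Q
          (Subgroup.le_normalizer hq))] at hu
      obtain ⟨q, hq, c, hc, rfl⟩ := Set.mem_mul.1 hu
      exact ⟨q, hq, c, hc, rfl⟩
    obtain ⟨D, hD, hRD⟩ := CfsgLib.BrauerPairs.exists_defect_ge_of_pair hM hRk
    obtain ⟨hQD, -⟩ := CfsgLib.BrauerPairs.stab_defect_data hM hh hF' hF'c hD
    have hdf := (Cfsg.Agent.S4680.result p M hM B P e hmax F hF Q f hQP hf hle).1 hcen
    have hbound := CfsgLib.BrauerPairs.card_defect_le_of_aut hM hh hF' hF'c hD (R₀ := Q)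
      fun α hα => by
        rw [CfsgLib.Fsys.mem_autInducedBy] at hα ⊢
        obtain ⟨u, hu, hα⟩ := hα
        obtain ⟨q, hq, c, hc, rfl⟩ := hmul u hu
        refine ⟨q, hq, fun y => ?_⟩
        rw [hα, show q * c * (y : G) * (q * c)⁻¹ = q * (c * y * c⁻¹) * q⁻¹ by simp [mul_assoc],
          ← Subgroup.mem_centralizer_iff.1 hc y y.2, mul_inv_cancel_right]
    rw [← CfsgLib.Blocks.card_defectGroup hM hf hdf,
      Nat.card_congr (Subgroup.subgroupOfEquivOfLe inf_le_right).toEquiv,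
      CfsgLib.BrauerPairs.card_autInducedBy Subgroup.le_normalizer] at hbound
    have hDQ : Q = D.map (Q ⊔ (Subgroup.centralizer (Q : Set G))).subtype := Subgroup.eq_of_le_of_card_ge hQD
      ((Subgroup.card_map_of_injective (Q ⊔ (Subgroup.centralizer (Q : Set G))).subtype_injective).trans_le hbound)
    have hRQ : R.map (Q ⊔ (Subgroup.centralizer (Q : Set G))).subtype ≤ Q := (Subgroup.map_mono hRD).trans hDQ.ge
    obtain ⟨q, hq, c, hc, hqc⟩ := hmul (x : G) x.2
    have hcon := CfsgLib.BrauerPairs.centralizes_of_conj_eq (R := R.map (Q ⊔ (Subgroup.centralizer (Q : Set G))).subtype) hQf.1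
      (x := (x : G)) (Subgroup.le_normalizer_map (Q ⊔ (Subgroup.centralizer (Q : Set G))).subtype ⟨x, hxN, rfl⟩)
      (by rw [Cfsg.IsPRegular, Subgroup.orderOf_coe]; exact hxr) hq fun r hr => by
        rw [← hqc, show q * c * r * (q * c)⁻¹ = q * (c * r * c⁻¹) * q⁻¹ by simp [mul_assoc],
          ← Subgroup.mem_centralizer_iff.1 hc r (hRQ hr), mul_inv_cancel_right]
    exact (CfsgLib.BrauerPairs.coe_mem_centralizer_iff (R := R) rfl x).1 hcon

end Cfsg.Agent.S4693
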