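import Cfsg.Statements.S4694
import Cfsg.Agent.Lib.BrauerPairs.Weight
-- import your own Cfsg.Agent.* helpers here

set_option autoImplicit false
open Cfsg

namespace Cfsg.Agent.S4694

/-- Fix a prime p and a maximal ideal M of the algebraic integers containing p, a p-block B of the finite group G and a Brauer pair (Q, e) of B. Let T be the stabilizer of e in N_G(Q) and suppose that (Q, e) carries a weight: the block of T whose idempotent is that of e contains an irreducible character χ that is constant on the cosets of Q and whose degree has p-part equal to the p-part of the index of Q in T. Then Z(Q) is a defect group of e as a block of C_G(Q), and Q is the largest normal p-subgroup of T: every p-subgroup of T normalized by T lies in Q. -/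
theorem result {G : Type*} [Group G] [Fintype G] (p : ℕ) [Fact p.Prime] (M : Ideal Cfsg.AlgInt) (hM : Cfsg.IsPModular p M) (B : Set (Cfsg.IrrCharacter G)) (Q : Subgroup G) (e : Set (Cfsg.IrrCharacter (Subgroup.centralizer (Q : Set G)))) (hQe : Cfsg.IsBrauerPairOf p M B Q e) (T : Subgroup G) (hT : ∀ y : G, y ∈ T ↔ y ∈ Subgroup.normalizer (Q : Set G) ∧ Cfsg.StabilizesBlock (Subgroup.centralizer (Q : Set G)) e y) (F' : Set (Cfsg.IrrCharacter T)) (hF' : Cfsg.IsPBlock M F') (hF'e : ∀ t : T, Cfsg.blockCoeff F' t = Cfsg.subgroupBlockCoeff (Subgroup.centralizer (Q : Set G)) e (t : G)) (χ : Cfsg.IrrCharacter T) (hχ : χ ∈ F') (hχQ : ∀ q : G, q ∈ Q → ∀ t : T, ∀ t' : T, (t' : G) = q * (t : G) → (χ : T → ℂ) t' = (χ : T → ℂ) t) (hdeg : (Cfsg.charDegree (χ : T → ℂ)).factorization p + (Nat.card Q).factorization p = (Nat.card T).factorization p) : Cfsg.IsDefectGroup p M e ((Q ⊓ Subgroup.centralizer (Q : Set G)).subgroupOf (Subgroup.centralizer (Q : Set G))) ∧ ∀ R : Subgroup G, R ≤ T → IsPGroup p R →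 (∀ t ∈ T, t ∈ Subgroup.normalizer (R : Set G)) → R ≤ Q := by
  classical
  have hle : Q ≤ T := fun q hq => (hT q).2 ⟨Subgroup.le_normalizer hq,
    (CfsgLib.BrauerPairs.stabilizesBlock_iff _ e q).2
      ⟨CfsgLib.BrauerPairs.normalizer_le_normalizer_centralizer Q (Subgroup.le_normalizer hq),
        (CfsgLib.BrauerPairs.goodAt_bc_self hM hQe.1.2).fixP q hq⟩⟩
  have hcent : Subgroup.centralizer (Q : Set G) ≤ T := fun c hc => (hT c).2
    ⟨Subgroup.centralizer_le_normalizer _ hc,
      (CfsgLib.BrauerPairs.stabilizesBlock_iff _ e c).2 ⟨Subgroup.le_normalizer hc,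
        CfsgLib.BrauerPairs.bc_fixes_of_mem hc e⟩⟩
  have hnorm : T ≤ Subgroup.normalizer (Q : Set G) := fun t ht => ((hT t).1 ht).1
  have hconst : ∀ q : T, (q : G) ∈ Q → (χ : T → ℂ) q = (χ : T → ℂ) 1 := fun q hq =>
    hχQ q hq 1 q (by simp)
  exact ⟨CfsgLib.BrauerPairs.isDefectGroup_of_weight hM
      ⟨hQe.1, hle, hcent, hnorm,
        fun t ht => ((CfsgLib.BrauerPairs.stabilizesBlock_iff _ e t).1 ((hT t).1 ht).2).2⟩
      hF'e hχ hconst hdeg,
    fun R hRT hR hRn => CfsgLib.BrauerPairs.le_of_weight hQe.1.1 hle hnorm hconst hdeg hRT hR hRn⟩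

end Cfsg.Agent.S4694
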