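import Cfsg.Statements.S4697
import Cfsg.Agent.Lib.Blocks.AbelianRankTwo
-- import your own Cfsg.Agent.* helpers here

set_option autoImplicit false
open Cfsg CfsgLib.Blocks

namespace Cfsg.Agent.S4697

/-- Let p be a prime, M a maximal ideal of the algebraic integers containing p, and B a p-block of the finite group G with an abelian defect group D of order p^d. If D has rank 2 (its least number of generators is 2) then B contains at most p^d irreducible characters; if D has rank 3 then the number k of irreducible characters in B satisfies k^3 ≤ p^(5d). -/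
theorem result {G : Type*} [Group G] [Finite G] (p : ℕ) [Fact p.Prime] (M : Ideal Cfsg.AlgInt) (hM : Cfsg.IsPModular p M) (B : Set (Cfsg.IrrCharacter G)) (hB : Cfsg.IsPBlock M B) (D : Subgroup G) (hBD : Cfsg.IsDefectGroup p M B D) (hab : IsMulCommutative D) (d : ℕ) (hDd : Nat.card D = p ^ d) : (Group.rank D = 2 → Nat.card B ≤ p ^ d) ∧ (Group.rank D = 3 → Nat.card B ^ 3 ≤ p ^ (5 * d)) := by
  classical
  let _ : Fintype G := Fintype.ofFinite G
  have hc : ∀ x ∈ D, ∀ y ∈ D, x * y = y * x := fun x hx y hy =>
    congrArg Subtype.val (hab.is_comm.comm (⟨x, hx⟩ : D) ⟨y, hy⟩)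
  have hd : Cfsg.blockDefect p B = d := by
    have h := card_defectGroup hM hB hBD
    rw [hDd] at h
    exact (Nat.pow_right_injective hM.1.two_le h).symm
  obtain ⟨g, hg⟩ := CfsgLib.BrauerPairs.exists_pair_of_defectGroup hM hB hBD
  have hmax := CfsgLib.BrauerPairs.isMaximal_of_defectGroup hM hBD hg
  subst hd
  refine ⟨fun h2 => AbelianRankTwo.card_le_of_socle hM hmax hc ?_,
    fun h3 => AbelianRankTwo.card_pow_three_le hM hmax hc h3⟩
  letI : CommGroup D :=
    { (inferInstance : Group D) with mul_comm := fun a b => Subtype.ext (hc a a.2 b b.2) }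
  exact AbelianRankTwo.card_socle_le (A := D) h2.le

end Cfsg.Agent.S4697
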