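import Cfsg.Statements.S4702
import Cfsg.Agent.Lib.Perm.SharpThreeOdd

set_option autoImplicit false
open Cfsg

namespace Cfsg.Agent.S4702

open CfsgLib.Perm

/-- Let G be a triply transitive permutation group on a finite set of odd size m ≥ 3 in which only the identity fixes three or more points. Then m = 2^a + 1 for some a ≥ 1 and G is isomorphic to SL(2, 2^a). -/
theorem result {α : Type*} [Fintype α] [DecidableEq α] (hm : 3 ≤ Fintype.card α) (hodd : Odd (Fintype.card α)) (G : Subgroup (Equiv.Perm α)) (h3 : MulAction.IsMultiplyPretransitive G α 3) (hfix : ∀ g : G, 3 ≤ Nat.card (MulAction.fixedBy α g) → g = 1) : ∃ a : ℕ, 1 ≤ a ∧ Fintype.card α = 2 ^ a + 1 ∧ ∃ (F : Type) (_ : Field F) (_ : Fintype F), Fintype.card F = 2 ^ a ∧ Nonempty (G ≃* Matrix.SpecialLinearGroup (Fin 2) F) := by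
  have hfree := SharpThreeOdd.free_of_fixedBy G hfix
  by_cases hm3 : Fintype.card α = 3
  · refine ⟨1, le_rfl, by omega, ZMod 2, inferInstance, inferInstance, by simp, ?_⟩
    haveI : CharP (ZMod 2) 2 := ZMod.charP 2
    obtain ⟨e₁⟩ := SharpThreeOdd.perm_three_equiv (α := α) hm3
    obtain ⟨e₂⟩ := SharpThreeOdd.psl_equiv_pgl (F := ZMod 2)
    obtain ⟨e₃⟩ := SharpThreeOdd.psl_equiv_sl (F := ZMod 2)
    exact ⟨(MulEquiv.subgroupCongr (SharpThreeOdd.eq_top_of_card_three G h3 hm3)).trans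
      (Subgroup.topEquiv.trans (e₁.trans (e₂.symm.trans e₃)))⟩
  have h5 : 5 ≤ Fintype.card α := by
    obtain ⟨r, hr⟩ := hodd
    omega
  obtain ⟨j, hj, hcard, F, hF, hFin, hFc, ⟨e⟩⟩ := SharpThreeOdd.exists_psl G h3 hfree hodd h5
  refine ⟨j, by omega, hcard, F, hF, hFin, hFc, ?_⟩
  haveI : CharP F 2 := charP_of_card_eq_prime_pow (f := j) hFc
  obtain ⟨e'⟩ := SharpThreeOdd.psl_equiv_sl (F := F)
  exact ⟨e.trans e'⟩

end Cfsg.Agent.S4702
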