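import Cfsg.Statements.S4704
import Cfsg.Agent.Lib.Char.FeitDegree.Main

set_option autoImplicit false
open Cfsg

namespace Cfsg.Agent.S4704

/-- Let G be a finite group with centre Z, p > 7 a prime, and suppose a Sylow p-subgroup of G has order p and is not normal. Let ζ be a faithful irreducible character of G and t the number of conjugacy classes of G consisting of elements of order p. Then one of the following holds: G/Z is isomorphic to PSL(2, p), ζ has degree (p + 1)/2 or (p − 1)/2 and t = 2; or ζ has degree at least p − 1; or ζ has degree at least p + 3/2 − √(p + 5/4) and p ≤ t^2 − 3t + 1. -/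
theorem result {G : Type*} [Group G] [Finite G] (p : ℕ) [Fact p.Prime] (hp : 7 < p) (P : Sylow p G) (hP : Nat.card P = p) (hnn : ¬ (P : Subgroup G).Normal) (ζ : G → ℂ) (hζ : Cfsg.IsIrrCharacter G ζ) (hfaith : ∀ g : G, ζ g = ζ 1 → g = 1) (t : ℕ) (ht : Nat.card {c : ConjClasses G // ∃ g : G, ConjClasses.mk g = c ∧ orderOf g = p} = t) : ((∃ (F : Type) (_ : Field F) (_ : Fintype F), Fintype.card F = p ∧ Nonempty (G ⧸ Subgroup.center G ≃* Matrix.ProjectiveSpecialLinearGroup (Fin 2) F)) ∧ (2 * Cfsg.charDegree ζ = p + 1 ∨ 2 * Cfsg.charDegree ζ = p - 1) ∧ t = 2) ∨ p - 1 ≤ Cfsg.charDegree ζ ∨ ((p : ℝ) + 3 / 2 - Real.sqrt ((p : ℝ) + 5 / 4) ≤ (Cfsg.charDegree ζ : ℝ) ∧ (p : ℤ) ≤ (t : ℤ) ^ 2 - 3 * t + 1) := by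
  classical
  letI := Fintype.ofFinite G
  set z : Cfsg.IrrCharacter G := ⟨ζ, hζ⟩
  by_cases hd : p - 1 ≤ Cfsg.charDegree ζ
  · exact Or.inr (Or.inl hd)
  have hd2 : Cfsg.charDegree ζ + 2 ≤ p := by omega
  rcases CfsgLib.Char.FeitDegree.Main.shapes (ζ := z) hp hnn hfaith hd2 hP ht with
    ⟨h1, h2, h3⟩ | ⟨e, he, het, ht3, hcase⟩
  · exact Or.inl ⟨h1, h2, h3⟩
  refine Or.inr (Or.inr ?_)
  change Cfsg.charDegree ζ + e = p at he
  have hp11 : 11 ≤ p := by
    by_contra h
    have h2 := (Fact.out : p.Prime)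
    interval_cases p <;> norm_num at h2
  have heR : (Cfsg.charDegree ζ : ℝ) = (p : ℝ) - e := by
    rw [← he]; push_cast; ring
  have hpR : (p : ℝ) = (e : ℝ) * t + 1 := by
    have : p = e * t + 1 := by omega
    exact_mod_cast this
  have hpZ : (p : ℤ) = (e : ℤ) * t + 1 := by
    have : p = e * t + 1 := by omega
    exact_mod_cast this
  rcases hcase with rfl | ⟨he3, hbound, -⟩
  · constructor
    · have h72 : (7 : ℝ) / 2 ≤ Real.sqrt ((p : ℝ) + 5 / 4) := by
        have : (11 : ℝ) ≤ p := by exact_mod_cast hp11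
        exact Real.le_sqrt_of_sq_le (by linarith)
      rw [heR]
      push_cast
      linarith
    · have : (5 : ℤ) ≤ t := by omega
      rw [hpZ]
      push_cast
      nlinarith
  · constructor
    · have hs : (e : ℝ) + 3 / 2 ≤ Real.sqrt ((p : ℝ) + 5 / 4) := by
        have hb : (e : ℝ) + 3 ≤ t := by exact_mod_cast hbound
        refine Real.le_sqrt_of_sq_le ?_
        nlinarith
      rw [heR]
      linarith
    · have hb : (e : ℤ) + 3 ≤ t := by exact_mod_cast hbound
      rw [hpZ]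
      nlinarith

end Cfsg.Agent.S4704
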