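import Cfsg.Statements.S4708
import Cfsg.Agent.Lib.Blocks.CoverBasics
-- import your own Cfsg.Agent.* helpers here

set_option autoImplicit false
open Cfsg CfsgLib.Blocks CfsgLib.Blocks.FongReynolds

namespace Cfsg.Agent.S4708

/-- Let p be a prime, M a maximal ideal of the algebraic integers containing p, G a finite group and H a normal subgroup. Write λ(X) for the sum of the squares of the degrees of the irreducible characters in the principal p-block of a group X. Then λ(H) ≤ λ(G) ≤ [G : H]·λ(H). -/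
theorem result {G : Type*} [Group G] [Finite G] (p : ℕ) [Fact p.Prime] (M : Ideal Cfsg.AlgInt) (hM : Cfsg.IsPModular p M) (H : Subgroup G) [H.Normal] : (∑ᶠ θ ∈ Cfsg.principalBlock M H, Cfsg.charDegree (θ : H → ℂ) ^ 2) ≤ (∑ᶠ χ ∈ Cfsg.principalBlock M G, Cfsg.charDegree (χ : G → ℂ) ^ 2) ∧ (∑ᶠ χ ∈ Cfsg.principalBlock M G, Cfsg.charDegree (χ : G → ℂ) ^ 2) ≤ H.index * ∑ᶠ θ ∈ Cfsg.principalBlock M H, Cfsg.charDegree (θ : H → ℂ) ^ 2 := by

  classical
  letI : Fintype G := Fintype.ofFinite G
  letI : Fintype H := Fintype.ofFinite H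
  set b := principalBlock M H
  set B := principalBlock M G
  rw [finsum_mem_eq_toFinset_sum, finsum_mem_eq_toFinset_sum]
  have hb : IsPBlock M b := isPBlock_principalBlock
  have hB : IsPBlock M B := isPBlock_principalBlock
  obtain ⟨θ₀, hθ₀⟩ := CfsgLib.Blocks.exists_over (N := H) (trivChar G)
  have hcov : ∃ χ ∈ B, ∃ θ ∈ b, classInner (fun n : H => (χ : G → ℂ) n) (θ : H → ℂ) ≠ 0 :=
    ⟨_, trivChar_mem_principalBlock hM, θ₀,
      mem_principalBlock_of_over hM hθ₀ (trivChar_mem_principalBlock hM), hθ₀⟩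
  constructor
  · have hstep : ∀ χ : IrrCharacter G, ∑ θ ∈ b.toFinset,
        (if classInner (fun n : H => (χ : G → ℂ) n) (θ : H → ℂ) ≠ 0
          then charDegree (θ : H → ℂ) ^ 2 else 0) ≤ charDegree (χ : G → ℂ) ^ 2 := by
      intro χ
      rw [← Finset.sum_filter]
      refine (Finset.sum_sq_le_sq_sum_of_nonneg fun θ _ => Nat.zero_le _).trans
        (Nat.pow_le_pow_left ?_ 2)
      have hres := CfsgLib.Char.IsCharacter.restrict (CfsgLib.Char.isCharacter_irr χ) H
      choose m hm using fun θ : IrrCharacter H =>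
        CfsgLib.Char.IsCharacter.classInner_nat hres (CfsgLib.Char.isCharacter_irr θ)
      have h1 := congrFun (CfsgLib.Char.IsClassFunction.eq_sum_irr
        (CfsgLib.Char.IsCharacter.isClassFunction hres)) 1
      simp only [hm, Finset.sum_apply, Pi.smul_apply, smul_eq_mul, irr_one_eq,
        OneMemClass.coe_one] at h1
      have h2 : charDegree (χ : G → ℂ) = ∑ θ, m θ * charDegree (θ : H → ℂ) := by exact_mod_cast h1
      rw [h2]
      refine (Finset.sum_le_sum fun θ hθ => ?_).trans
        (Finset.sum_le_sum_of_subset (Finset.subset_univ _))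
      refine Nat.le_mul_of_pos_left _ (Nat.pos_of_ne_zero fun h0 => (Finset.mem_filter.1 hθ).2 ?_)
      rw [hm, h0, Nat.cast_zero]
    calc ∑ θ ∈ b.toFinset, charDegree (θ : H → ℂ) ^ 2
        ≤ ∑ θ ∈ b.toFinset, ∑ χ ∈ B.toFinset,
          (if classInner (fun n : H => (χ : G → ℂ) n) (θ : H → ℂ) ≠ 0
            then charDegree (θ : H → ℂ) ^ 2 else 0) := Finset.sum_le_sum fun θ hθ => by
          obtain ⟨χ, hχ, h⟩ := CoverBasics.exists_over_mem hM hB hb hcov (Set.mem_toFinset.1 hθ)
          exact le_trans (le_of_eq (if_pos h).symm) (Finset.single_le_sum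
            (f := fun χ : IrrCharacter G => if classInner (fun n : H => (χ : G → ℂ) n) (θ : H → ℂ) ≠ 0
              then charDegree (θ : H → ℂ) ^ 2 else 0) (fun _ _ => Nat.zero_le _)
            (Set.mem_toFinset.2 hχ))
      _ ≤ _ := by rw [Finset.sum_comm]; exact Finset.sum_le_sum fun χ _ => hstep χ
  · have hf : ∀ (g : G) (n : H), blockCoeff b (MulAut.conjNormal g n) = blockCoeff b n :=
      fun g n => blockCoeff_principalBlock_conj hM g n
    set F : G → ℂ := fun x => if hx : x ∈ H then blockCoeff b ⟨x, hx⟩ else 0 with hF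
    have hFcl : IsClassFunction G F := by
      intro x y
      simp only [F]
      by_cases hx : x ∈ H
      · rw [dif_pos hx, dif_pos (Subgroup.Normal.conj_mem inferInstance x hx y)]
        exact (congrArg (blockCoeff b) (Subtype.ext (MulAut.conjNormal_apply y ⟨x, hx⟩).symm)).trans
          (hf y ⟨x, hx⟩)
      · rw [dif_neg hx, dif_neg fun h' => hx (by
          simpa [mul_assoc] using Subgroup.Normal.conj_mem (inferInstance : H.Normal) _ h' y⁻¹)]
    choose φ hφ using fun χ : IrrCharacter G => CfsgLib.Blocks.exists_over (N := H) χ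
    set U := Finset.univ.filter fun χ : IrrCharacter G => φ χ ∈ b with hU
    have hsub : B.toFinset ⊆ U := fun χ hχ => Finset.mem_filter.2 ⟨Finset.mem_univ _,
      mem_principalBlock_of_over hM (hφ χ) (Set.mem_toFinset.1 hχ)⟩
    refine (Finset.sum_le_sum_of_subset hsub).trans (le_of_eq ?_)
    have hF1 : F 1 = blockCoeff b 1 := dif_pos (one_mem H)
    have h1 := congrFun (fourierInv_omega hFcl) 1
    have hval : ∀ χ : IrrCharacter G, omega (χ : G → ℂ) F = blockInd b (φ χ) := fun χ => by
      rw [hF, omega_extend, omega_eq_of_over (hφ χ) hf, omega_blockCoeff]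
    simp only [hF1, blockCoeff_eq_fourierInv, fourierInv, hval, blockInd, inv_one, irr_one_eq,
      ite_mul, one_mul, zero_mul, Finset.sum_ite, Finset.sum_const_zero, add_zero] at h1
    rw [show Finset.univ.filter (fun θ : IrrCharacter H => θ ∈ b) = b.toFinset by ext; simp,
      ← hU, ← Subgroup.index_mul_card H] at h1
    have hH : (Nat.card H : ℂ) ≠ 0 := Nat.cast_ne_zero.2 Nat.card_pos.ne'
    have hI : (H.index : ℂ) ≠ 0 := Nat.cast_ne_zero.2 Subgroup.index_ne_zero_of_finite
    push_cast at h1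
    field_simp at h1
    have h2 : ((∑ χ ∈ U, charDegree (χ : G → ℂ) ^ 2 : ℕ) : ℂ)
        = ((H.index * ∑ θ ∈ b.toFinset, charDegree (θ : H → ℂ) ^ 2 : ℕ) : ℂ) := by
      push_cast
      linear_combination h1
    exact_mod_cast h2


end Cfsg.Agent.S4708
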