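import Cfsg.Statements.S4709
import Cfsg.Agent.Lib.Blocks.TIAbelianExceptional

set_option autoImplicit false
open Cfsg

namespace Cfsg.Agent.S4709

/-- Let p be a prime, M a maximal ideal of the algebraic integers containing p, and G a finite group with a nontrivial abelian Sylow p-subgroup P; put N = N_G(P), C = C_G(P). Suppose N/C is cyclic of order m with 1 < m < #P − 1 (C has index m in N and N is generated by C and one element), and C_G(y) ∩ N = C for every non-identity y ∈ P. Put r = (#P − 1)/m. Then there is s ≤ m such that the principal p-block is the disjoint union of a set X of s characters containing the principal character and a set Y of r characters, with integers a_χ ≠ 0 (χ ∈ X), d and a sign δ = ±1, such that: every χ ∈ X takes the value a_χ at every element whose p-part is a non-identity element of P; there is a map ζ from the non-principal linear characters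 ψ of P onto Y, constant on N-conjugacy classes, with ζ_ψ(z) = d + δ·Σ ψ'(y) for every z whose p-part y is a non-identity element of P, the sum running over the N-conjugates ψ' of ψ; (d − δ)^2 + (r − 1) d^2 + Σ_{χ ∈ X} a_χ^2 = m + 1; all members of Y agree on p-regular elements; and (r d − δ) η(g) + Σ_{χ ∈ X} a_χ χ(g) = 0 for every η ∈ Y and every p-regular g. -/
theorem result {G : Type*} [Group G] [Finite G] (p : ℕ) [Fact p.Prime] (M : Ideal Cfsg.AlgInt) (hM : Cfsg.IsPModular p M) (P : Sylow p G) (hab : IsMulCommutative P) (hP1 : Nat.card P ≠ 1) (m : ℕ) (hm1 : 1 < m) (hm2 : m + 1 < Nat.card P) (hCN : (Subgroup.centralizer ((P : Subgroup G) : Set G)).relIndex (Subgroup.normalizer ((P : Subgroup G) : Set G)) = m) (hcyc : ∃ g : G, g ∈ Subgroup.normalizer ((P : Subgroup G) : Set G) ∧ Subgroup.centralizer ((P : Subgroup G) : Set G) ⊔ Subgroup.zpowers g = Subgroup.normalizer ((P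 : Subgroup G) : Set G)) (hfrob : ∀ y : G, y ∈ (P : Subgroup G) → y ≠ 1 → Subgroup.centralizer ({y} : Set G) ⊓ Subgroup.normalizer ((P : Subgroup G) : Set G) = Subgroup.centralizer ((P : Subgroup G) : Set G)) : ∃ (s : ℕ) (X Y : Set (Cfsg.IrrCharacter G)), s ≤ m ∧ Cfsg.principalBlock M G = X ∪ Y ∧ Disjoint X Y ∧ Nat.card X = s ∧ Nat.card Y = (Nat.card P - 1) / m ∧ (∃ χ₁ ∈ X, (χ₁ : G → ℂ) = fun _ => 1) ∧ ∃ (a : Cfsg.IrrCharacter G → ℤ) (d δ : ℤ) (ζ : (↥(P : Subgroup G) →* ℂˣ) → Cfsg.IrrCharacter G), (δ = 1 ∨ δ = -1) ∧ (∀ χ ∈ X, a χ ≠ 0 ∧ ∀ z y : G, Cfsg.IsPPart p z y → y ∈ (P : Subgroup G) → y ≠ 1 → (χ : G → ℂ) z = (a χ : ℂ)) ∧ (∀ ψ : ↥(P : Subgroup G) →* ℂˣ, ψ ≠ 1 → ζ ψ ∈ Y) ∧ (∀ η ∈ Y, ∃ ψ : ↥(P : Subgroup G) →* ℂˣ, ψ ≠ 1 ∧ ζ ψ = η) ∧ (∀ ψ ψ' : ↥(P : Subgroup G) →* ℂˣ, ψ ≠ 1 → (∃ n : G, n ∈ Subgroup.normalizer ((P : Subgroup G) : Set G) ∧ ∀ w w' : ↥(P : Subgroup G), (w' : G)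 = n * w * n⁻¹ → ψ' w' = ψ w) → ζ ψ' = ζ ψ) ∧ (∀ ψ : ↥(P : Subgroup G) →* ℂˣ, ψ ≠ 1 → ∀ (z : G) (y : ↥(P : Subgroup G)), Cfsg.IsPPart p z (y : G) → (y : G) ≠ 1 → (ζ ψ : G → ℂ) z = (d : ℂ) + (δ : ℂ) * ∑ᶠ ψ' ∈ {ψ' : ↥(P : Subgroup G) →* ℂˣ | ∃ n : G, n ∈ Subgroup.normalizer ((P : Subgroup G) : Set G) ∧ ∀ w w' : ↥(P : Subgroup G), (w' : G) = n * w * n⁻¹ → ψ' w' = ψ w}, ((ψ' y : ℂˣ) : ℂ)) ∧ ((d - δ) ^ 2 + ((Nat.card P - 1) / m - 1 : ℤ) * d ^ 2 + ∑ᶠ χ ∈ X, a χ ^ 2 = (m : ℤ) + 1) ∧ (∀ η ∈ Y, ∀ η' ∈ Y, ∀ g : G, ¬ p ∣ orderOf g → (η : G → ℂ) g = (η' : G → ℂ) g) ∧ (∀ η ∈ Y, ∀ g : G, ¬ p ∣ orderOf g → ((((Nat.card P - 1) / m : ℕ) : ℂ) * d - δ) * (η : G → ℂ) g + ∑ᶠ χ ∈ X, (a χ : ℂ) * (χ : G → ℂ) g = 0) := by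
  classical
  haveI := Fintype.ofFinite G
  have h : CfsgLib.Blocks.TIAbelian.FrobSylow P :=
    ⟨fun x hx y hy => congrArg Subtype.val (hab.is_comm.comm (⟨x, hx⟩ : ↥(P : Subgroup G)) ⟨y, hy⟩),
      fun y hy hy1 => (hfrob y hy hy1).le⟩
  have hm : CfsgLib.Blocks.TIAbelian.autCard P = m := (CfsgLib.Blocks.TIAbelian.autCard_eq P).trans hCN
  obtain ⟨X, Y, a, d, δ, ζ, hB, hdisj, htX, hXm, hYm, hδ, hX, hζY, hsurj, hiff, hval, hnorm, hagree, hrel⟩ :=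
    CfsgLib.Blocks.TIAbelian.exceptional h (by rw [hm]; exact hm2) hM
  rw [hm] at hXm hYm hnorm
  have horb : ∀ ψ : ↥(P : Subgroup G) →* ℂˣ, {ψ' : ↥(P : Subgroup G) →* ℂˣ | ∃ n : G,
      n ∈ Subgroup.normalizer ((P : Subgroup G) : Set G) ∧
        ∀ w w' : ↥(P : Subgroup G), (w' : G) = n * w * n⁻¹ → ψ' w' = ψ w} =
      ↑(CfsgLib.Blocks.TIAbelian.orb P ψ) := by
    intro ψ
    ext μ
    simp only [Set.mem_ofPred_eq, Finset.mem_coe, CfsgLib.Blocks.TIAbelian.orb, Finset.mem_image,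
      Finset.mem_univ, true_and]
    constructor
    · rintro ⟨n, hn, hw⟩
      refine ⟨⟨(P : Subgroup G).normalizerMonoidHom ⟨n⁻¹, inv_mem hn⟩, ⟨_, rfl⟩⟩, MonoidHom.ext fun x => ?_⟩
      exact (hw ((P : Subgroup G).normalizerMonoidHom ⟨n⁻¹, inv_mem hn⟩ x) x (by
        show (x : G) = n * (n⁻¹ * (x : G) * n⁻¹⁻¹) * n⁻¹
        group)).symm
    · rintro ⟨⟨α, ⟨g, rfl⟩⟩, rfl⟩
      refine ⟨(g : G)⁻¹, inv_mem g.2, fun w w' hw' => ?_⟩
      show ψ ((P : Subgroup G).normalizerMonoidHom g w') = ψ w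
      congr 1
      apply Subtype.ext
      show (g : G) * (w' : G) * (g : G)⁻¹ = w
      rw [hw']
      group
  have hYcard : (Nat.card ↥(P : Subgroup G) - 1) / m = Y.card := by
    rw [← hYm, Nat.add_sub_cancel, Nat.mul_div_cancel_left _ (by omega : 0 < m)]
  refine ⟨X.card, ↑X, ↑Y, hXm, ?_, ?_, ?_, ?_, ⟨_, Finset.mem_coe.2 htX, rfl⟩, a, d, δ, ζ, hδ,
    fun χ hχ => hX χ (Finset.mem_coe.1 hχ), fun ψ hψ => Finset.mem_coe.2 (hζY ψ hψ),
    fun η hη => hsurj η (Finset.mem_coe.1 hη), ?_, ?_, ?_,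
    fun η hη η' hη' => hagree η (Finset.mem_coe.1 hη) η' (Finset.mem_coe.1 hη'), ?_⟩
  · ext χ
    rw [Set.mem_union, Finset.mem_coe, Finset.mem_coe]
    exact hB χ
  · exact Finset.disjoint_coe.2 hdisj
  · simp
  · rw [show (Nat.card P - 1) / m = Y.card from hYcard]
    simp
  · intro ψ ψ' hψ hψ'
    have hmem : ψ' ∈ (↑(CfsgLib.Blocks.TIAbelian.orb P ψ) : Set (↥(P : Subgroup G) →* ℂˣ)) := by
      rw [← horb ψ]; exact hψ'
    have hψ'1 : ψ' ≠ 1 := by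
      obtain ⟨n, hn, hw⟩ := hψ'
      intro e
      refine hψ (MonoidHom.ext fun w => ?_)
      rw [← hw w ⟨_, (Subgroup.mem_normalizer_iff.1 hn w).1 w.2⟩ rfl, e]
      rfl
    exact ((hiff ψ ψ' hψ hψ'1).2 (Finset.mem_coe.1 hmem)).symm
  · intro ψ hψ z y hzy hy1
    rw [horb ψ, finsum_mem_coe_finset]
    exact hval ψ hψ z y hzy hy1
  · rw [finsum_mem_coe_finset]
    have e : ((Nat.card P : ℤ) - 1) / (m : ℤ) = (Y.card : ℤ) := by
      have h2 : ((Nat.card P : ℤ) - 1) = (m : ℤ) * (Y.card : ℤ) := by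
        rw [show Nat.card P = m * Y.card + 1 from hYm.symm]
        push_cast
        ring
      rw [h2, Int.mul_ediv_cancel_left _ (by omega : (m : ℤ) ≠ 0)]
    rw [e]
    exact hnorm
  · intro η hη g hg
    rw [finsum_mem_coe_finset, show (Nat.card P - 1) / m = Y.card from hYcard]
    exact hrel η (Finset.mem_coe.1 hη) g hg

end Cfsg.Agent.S4709
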