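import Cfsg.Statements.S4713
import Cfsg.Agent.Lib.CharDeep.ItoMichler

set_option autoImplicit false
open Cfsg
open CfsgLib.CharDeep

namespace Cfsg.Agent.S4713

/-- Let p be a prime and G a finite p-solvable group. Then G has a normal abelian Sylow p-subgroup if and only if the degree of every irreducible character of G is prime to p. -/
theorem result {G : Type*} [Group G] [Finite G] (p : ℕ) [Fact p.Prime] (hsolv : Cfsg.IsPSolvable p G) (P : Sylow p G) : ((P : Subgroup G).Normal ∧ IsMulCommutative P) ↔ ∀ χ : Cfsg.IrrCharacter G, ¬ p ∣ Cfsg.charDegree (χ : G → ℂ) := by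
  constructor
  · rintro ⟨hn, hc⟩ χ hd
    exact P.not_dvd_index (hd.trans (CfsgLib.DegreeTools.deg_dvd_index (P : Subgroup G)
      (fun a b => hc.is_comm.comm a b) χ))
  · intro h
    have hn := ItoMichler.normal_sylow_of_degrees p _ rfl hsolv P h
    exact ⟨hn, ⟨⟨ItoMichler.comm_of_normal P h⟩⟩⟩

end Cfsg.Agent.S4713
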