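import Cfsg.Statements.S4714
import Cfsg.Agent.Lib.Blocks.PCentralizer
import Cfsg.Agent.S0968
-- import your own Cfsg.Agent.* helpers here

set_option autoImplicit false
open Cfsg

namespace Cfsg.Agent.S4714

/-- Let p be a prime, M a maximal ideal of the algebraic integers containing p, D a p-subgroup of the finite group G with G = D·C_G(D), and B a p-block with defect group D. Let χ be a member of B having D in its kernel (there is exactly one, the canonical character of B). Then the irreducible characters in B are exactly the functions θ on G for which there is an irreducible character ζ of D such that θ(yx) = ζ(y)χ(x) whenever y ∈ D, x has order prime to p and x commutes with y, and θ(z) = 0 whenever the p-part of z does not lie in D. -/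
theorem result {G : Type*} [Group G] [Finite G] (p : ℕ) [Fact p.Prime] (M : Ideal Cfsg.AlgInt) (hM : Cfsg.IsPModular p M) (D : Subgroup G) (hD : IsPGroup p D) (hG : D ⊔ Subgroup.centralizer (D : Set G) = ⊤) (B : Set (Cfsg.IrrCharacter G)) (hB : Cfsg.IsPBlock M B) (hBD : Cfsg.IsDefectGroup p M B D) (χ : Cfsg.IrrCharacter G) (hχ : χ ∈ B) (hχD : ∀ y ∈ D, (χ : G → ℂ) y = (χ : G → ℂ) 1) : (∀ θ : Cfsg.IrrCharacter G, θ ∈ B ↔ ∃ ζ : Cfsg.IrrCharacter D, (∀ (y : D) (x : G), ¬ p ∣ orderOf x → Commute (y : G) x → (θ : G → ℂ) ((y : G) * x) = (ζ : D → ℂ) y * (χ : G → ℂ) x) ∧ (∀ z : G, (∀ y : G, Cfsg.IsPPart p z y → y ∉ D) → (θ : G → ℂ) z = 0)) ∧ ∀ ζ : Cfsg.IrrCharacter D, ∃ θ ∈ B, (∀ (y : D) (x : G), ¬ p ∣ orderOf x → Commute (y : G) x → (θ : G → ℂ) ((y : G) * x) = (ζ : D → ℂ) y * (χ : G → ℂ) x) ∧ (∀ z : G, (∀ y : G, Cfsg.IsPPart p z y → y ∉ D) → (θ : G → ℂ) z = 0) := by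
  classical
  letI : Fintype G := Fintype.ofFinite G
  haveI : D.Normal := Subgroup.normalizer_eq_top_iff.1 (top_le_iff.1 (hG ▸
    sup_le Subgroup.le_normalizer (CfsgLib.Blocks.centralizer_le_normalizer D)))
  have hp : p.Prime := Fact.out
  obtain ⟨ψ, hψB, hψ, hex, hall⟩ := CfsgLib.Blocks.exists_canonical hM hD hG hB hBD
  have hθ : χ = CfsgLib.Blocks.inflate D ψ :=
    (Cfsg.Agent.S0968.result p M hM D hD hG B hB hBD).1.unique ⟨hχ, hχD⟩
      ⟨hψB, fun x hx => CfsgLib.Blocks.inflate_ker ψ hx⟩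
  subst hθ
  have hprop : ∀ (θ : G → ℂ) (ζ : D → ℂ),
      θ = CfsgLib.Blocks.prodChar p D ζ (CfsgLib.Blocks.inflate D ψ : G → ℂ) →
      (∀ (y : D) (x : G), ¬ p ∣ orderOf x → Commute (y : G) x →
        θ ((y : G) * x) = ζ y * (CfsgLib.Blocks.inflate D ψ : G → ℂ) x) ∧
      (∀ z : G, (∀ y : G, Cfsg.IsPPart p z y → y ∉ D) → θ z = 0) := fun θ ζ h => by
    subst h
    refine ⟨fun y x hx hc => CfsgLib.Blocks.prodChar_mul hp hD y hx hc, fun z hz => ?_⟩
    rw [CfsgLib.Blocks.prodChar, dif_neg (hz _ (CfsgLib.Blocks.pPart_spec hp z))]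
  refine ⟨fun θ => ⟨fun h => ?_, fun ⟨ζ, h1, h2⟩ => ?_⟩, fun ζ => ?_⟩
  · obtain ⟨ζ, hζ⟩ := hall θ h
    exact ⟨ζ, hprop _ _ hζ⟩
  · obtain ⟨η, hη, he⟩ := hex ζ
    have : θ = η := by
      refine Subtype.ext (funext fun g => ?_)
      rw [he]
      by_cases hg : CfsgLib.Blocks.pPart p g ∈ D
      · obtain ⟨y, hy, hc, -, hyr⟩ := CfsgLib.Blocks.pPart_spec hp g
        conv_lhs => rw [← hy]
        conv_rhs => rw [← hy]
        rw [h1 ⟨_, hg⟩ y hyr hc]
        exact (CfsgLib.Blocks.prodChar_mul hp hD ⟨_, hg⟩ hyr hc).symm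
      · rw [CfsgLib.Blocks.prodChar, dif_neg hg]
        exact h2 g fun y hy => CfsgLib.Blocks.pPart_eq hp hy ▸ hg
    rw [this]; exact hη
  · obtain ⟨η, hη, he⟩ := hex ζ
    exact ⟨η, hη, hprop _ _ he⟩

end Cfsg.Agent.S4714
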