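import Cfsg.Statements.S4717
import Cfsg.Agent.S0936
import Cfsg.Agent.Lib.Blocks.Local
import Cfsg.Agent.Lib.Blocks.Section
import Cfsg.Agent.Lib.Blocks.Parts
-- import your own Cfsg.Agent.* helpers here

set_option autoImplicit false
open Cfsg

namespace Cfsg.Agent.S4717

/-- Let p be a prime, M a maximal ideal of the algebraic integers containing p, and r a natural number; say that a finite group X has deficiency class r when X has no non-principal p-block of defect ≥ r. If G has deficiency class r then so does the centralizer of every p-element of G; conversely, if r > 0 and the centralizer of every element of order p has deficiency class r, then G has deficiency class r. -/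
theorem result {G : Type*} [Group G] [Finite G] (p : ℕ) [Fact p.Prime] (M : Ideal Cfsg.AlgInt) (hM : Cfsg.IsPModular p M) (r : ℕ) : ((∀ B' : Set (Cfsg.IrrCharacter G), Cfsg.IsPBlock M B' → B' ≠ Cfsg.principalBlock M G → Cfsg.blockDefect p B' < r) → ∀ y : G, (∃ k : ℕ, orderOf y = p ^ k) → (∀ B' : Set (Cfsg.IrrCharacter ↥(Subgroup.centralizer ({y} : Set G))), Cfsg.IsPBlock M B' → B' ≠ Cfsg.principalBlock M ↥(Subgroup.centralizer ({y} : Set G)) → Cfsg.blockDefect p B' < r)) ∧ (0 < r → (∀ y : G, orderOf y = p → (∀ B' : Set (Cfsg.IrrCharacter ↥(Subgroup.centralizer ({y} : Set G))), Cfsg.IsPBlock M B' → B' ≠ Cfsg.principalBlock M ↥(Subgroup.centralizer ({y} : Set G)) → Cfsg.blockDefect p B' < r)) → (∀ B' : Set (Cfsg.IrrCharacter G), Cfsg.IsPBlock M B' → B' ≠ Cfsg.principalBlock M G → Cfsg.blockDefect p B' < r)) := by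
  classical
  letI : Fintype G := Fintype.ofFinite G
  have hp : p.Prime := Fact.out
  constructor
  · intro h y hy b hb hne
    by_contra hle
    obtain ⟨B, hind⟩ := CfsgLib.Blocks.exists_isInducedBlock_centralizer_singleton hM hy hb
    have hd := CfsgLib.Blocks.blockDefect_le_of_induced hM hind
    by_cases hB : B = Cfsg.principalBlock M G
    · subst hB
      exact hne ((Cfsg.Agent.S0936.result p M hM _ b ⟨_, hind⟩).1 hind)
    · exact absurd (h B hind.2.1 hB) (by omega)
  · intro hr h B hB hne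
    by_contra hle
    obtain ⟨D, hD⟩ := CfsgLib.Blocks.exists_isDefectGroup hM hB
    have hDp := CfsgLib.Blocks.isPGroup_defectGroup hD
    have hcard := CfsgLib.Blocks.card_defectGroup hM hB hD
    haveI : Nontrivial D := Finite.one_lt_card_iff_nontrivial.1
      (hcard ▸ Nat.one_lt_pow (by omega) hp.one_lt)
    haveI := hDp.center_nontrivial
    obtain ⟨j, hj⟩ := IsPGroup.iff_card.1 (hDp.to_subgroup (Subgroup.center D))
    have hdvd : p ∣ Nat.card (Subgroup.center D) := by
      rw [hj]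
      refine dvd_pow_self p fun h0 => ?_
      have := (Finite.one_lt_card_iff_nontrivial (α := Subgroup.center D)).2 inferInstance
      rw [hj, h0, pow_zero] at this
      exact lt_irrefl 1 this
    obtain ⟨z₀, hz₀⟩ := exists_prime_orderOf_dvd_card' p hdvd
    set z : G := ((z₀ : D) : G)
    have hz : orderOf z = p := by rw [Subgroup.orderOf_coe, Subgroup.orderOf_coe, hz₀]
    set K := Subgroup.centralizer ({z} : Set G)
    have hKC : Subgroup.centralizer (Subgroup.zpowers z : Set G) = K :=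
      CfsgLib.Blocks.centralizer_zpowers z
    have hDK : D ≤ K := fun u hu => Subgroup.mem_centralizer_singleton_iff.2
      (congrArg Subtype.val (Subgroup.mem_center_iff.1 z₀.2 ⟨u, hu⟩))
    have hzp : IsPGroup p (Subgroup.zpowers z) :=
      IsPGroup.of_card (n := 1) (by rw [Nat.card_zpowers, hz, pow_one])
    obtain ⟨c, hc, hcl⟩ := CfsgLib.Blocks.exists_unit_coeff_centralizer hM hD
    have hcK : c ∈ K := Subgroup.mem_centralizer_singleton_iff.2
      (Subgroup.mem_centralizer_iff.1 hc z z₀.1.2).symm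
    obtain ⟨S, hev, hsat, hS⟩ := CfsgLib.Blocks.isLocalZero_trunc_sub hM hB hzp (K := K) hKC.le
      (hKC.symm.le.trans (CfsgLib.Blocks.centralizer_le_normalizer _))
    have hne0 : ¬ Cfsg.MemLocalIdeal M
        (CfsgLib.Blocks.fourierInv (CfsgLib.Blocks.blockInd S) (⟨c, hcK⟩ : K)) := fun hI => by
      refine hcl.2.1 ?_
      have h1 := CfsgLib.Blocks.LI.add hM (hS ⟨c, hcK⟩) hI
      rwa [sub_add_cancel, show CfsgLib.Blocks.brTrunc (Subgroup.zpowers z) K
        (fun g => Cfsg.blockCoeff B g) ⟨c, hcK⟩ = Cfsg.blockCoeff B c from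
        if_pos (hKC.ge hcK)] at h1
    obtain ⟨b, hbS, hb⟩ : ∃ b : Set (Cfsg.IrrCharacter K), (∃ ψ ∈ S,
        b = Cfsg.blockOf M (ψ : K → ℂ)) ∧
        ¬ Cfsg.MemLocalIdeal M (Cfsg.blockCoeff b (⟨c, hcK⟩ : K)) := by
      by_contra hall
      push Not at hall
      refine hne0 ?_
      have e : CfsgLib.Blocks.fourierInv (CfsgLib.Blocks.blockInd S) (⟨c, hcK⟩ : K)
          = ∑ b ∈ CfsgLib.Blocks.blockFinset M K,
            (if ∃ ψ ∈ S, b = Cfsg.blockOf M (ψ : K → ℂ) then (1 : ℂ) else 0)
              * Cfsg.blockCoeff b (⟨c, hcK⟩ : K) := by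
        simp only [CfsgLib.Blocks.blockCoeff_eq_fourierInv, CfsgLib.Blocks.fourierInv]
        simp only [mul_left_comm _ (Nat.card K : ℂ)⁻¹, ← Finset.mul_sum]
        congr 1
        rw [← CfsgLib.Blocks.sum_eq_sum_blocks hM]
        refine Finset.sum_congr rfl fun ψ _ => ?_
        congr 1
        by_cases hψ : ψ ∈ S
        · rw [CfsgLib.Blocks.blockInd_of_mem hψ, if_pos ⟨ψ, hψ, rfl⟩]
        · rw [CfsgLib.Blocks.blockInd_of_notMem hψ, if_neg]
          rintro ⟨φ, hφ, he⟩
          exact hψ (hsat φ hφ ψ (CfsgLib.Blocks.mem_blockOf.1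
            (he ▸ CfsgLib.Blocks.SameBlock_refl hM _)))
      rw [e]
      refine CfsgLib.Blocks.LI.sum hM fun b _ => ?_
      by_cases hb : ∃ ψ ∈ S, b = Cfsg.blockOf M (ψ : K → ℂ)
      · rw [if_pos hb, one_mul]; exact hall b hb
      · rw [if_neg hb, zero_mul]; exact CfsgLib.Blocks.LI.zero hM
    obtain ⟨ψ, hψ, rfl⟩ := hbS
    obtain ⟨χ, hχ, heval⟩ := hev ψ hψ
    have hind : Cfsg.IsInducedBlock M K (Cfsg.blockOf M (ψ : K → ℂ)) B := by
      refine ⟨CfsgLib.Blocks.isPBlock_blockOf ψ, hB, fun ξ hξ χ' hχ' g => ?_⟩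
      have hg := CfsgLib.Blocks.classInd_isClassFunction (G := G) g
      refine CfsgLib.Blocks.LI.trans hM ?_ (CfsgLib.Blocks.IsPBlock.sameBlock hM hB hχ hχ' g)
      rw [CfsgLib.Blocks.inducedCentralChar_eq]
      refine CfsgLib.Blocks.LI.trans hM (CfsgLib.Blocks.omega_congr hM
        (CfsgLib.Blocks.SameBlock_symm (CfsgLib.Blocks.mem_blockOf.1 hξ))
        (CfsgLib.Blocks.resFun_isClassFunction K hg) fun k => CfsgLib.Blocks.classInd_LR hM g k) ?_
      have h1 := heval _ hg (CfsgLib.Blocks.classInd_LR hM g)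
      rwa [CfsgLib.Blocks.omega_classInd, show CfsgLib.Blocks.brTrunc (Subgroup.zpowers z) K
        (CfsgLib.Blocks.classInd g) = fun k : K => CfsgLib.Blocks.classInd g (k : G) from
        funext fun k => if_pos (hKC.ge k.2)] at h1
    obtain ⟨E, hE, hle'⟩ := CfsgLib.Blocks.exists_isDefectGroup_ge hM hind.1
      (hDp.of_injective (Subgroup.subgroupOfEquivOfLe hDK).toMonoidHom
        (Subgroup.subgroupOfEquivOfLe hDK).injective)
      (c := (⟨c, hcK⟩ : K)) ((CfsgLib.Blocks.mem_centralizer_subgroupOf hDK _).2 hc) hb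
    have h1 := Subgroup.card_le_of_le hle'
    rw [Nat.card_congr (Subgroup.subgroupOfEquivOfLe hDK).toEquiv, hcard,
      CfsgLib.Blocks.card_defectGroup hM hind.1 hE] at h1
    have h2 := (Nat.pow_le_pow_iff_right hp.one_lt).1 h1
    by_cases hbp : Cfsg.blockOf M (ψ : K → ℂ) = Cfsg.principalBlock M K
    · exact hne (CfsgLib.Blocks.IsInducedBlock.unique hM hind
        ((Cfsg.Agent.S0936.result p M hM K _ ⟨B, hind⟩).2 hbp))
    · exact absurd (h z hz _ hind.1 hbp) (by omega)

end Cfsg.Agent.S4717
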