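import Cfsg.Statements.S4718
import Cfsg.Agent.Lib.Blocks.Landau
import Cfsg.Agent.Lib.Blocks.Height
import Cfsg.Agent.Lib.Char.Orth
-- import your own Cfsg.Agent.* helpers here

set_option autoImplicit false
universe u
open Cfsg

namespace Cfsg.Agent.S4718

/-- Let p be a prime and a a natural number. There is a bound N such that every finite group whose Sylow p-subgroups have order p^a and whose only p-block (relative to a maximal ideal of the algebraic integers containing p) is the principal block has order at most N. -/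
theorem result (p : ℕ) [Fact p.Prime] (a : ℕ) : ∃ N : ℕ, ∀ (G : Type u) [Group G] [Finite G] (M : Ideal Cfsg.AlgInt), Cfsg.IsPModular p M → (Nat.card G).factorization p = a → (∀ B : Set (Cfsg.IrrCharacter G), Cfsg.IsPBlock M B → B = Cfsg.principalBlock M G) → Nat.card G ≤ N := by
  obtain ⟨N, hN⟩ := CfsgLib.Blocks.exists_card_le_of_card_conjClasses.{u} (p ^ (2 * a) + 4)
  refine ⟨N, fun G _ _ M hM ha hone => hN G ?_⟩
  classical
  letI : Fintype G := Fintype.ofFinite G
  rw [← CfsgLib.Char.card_irrCharacter]
  have hB : Cfsg.IsPBlock M (Cfsg.principalBlock M G) := CfsgLib.Blocks.isPBlock_principalBlock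
  have h4 := CfsgLib.Blocks.four_mul_card_le hM hB
  have hall : Nat.card (Cfsg.IrrCharacter G) ≤ Nat.card (Cfsg.principalBlock M G) :=
    Nat.card_le_card_of_injective (fun χ => ⟨χ, by
      rw [← hone _ (CfsgLib.Blocks.isPBlock_blockOf χ)]
      exact CfsgLib.Blocks.SameBlock_refl hM _⟩) fun a b h => by
      simpa using congrArg Subtype.val h
  have hd : Cfsg.blockDefect p (Cfsg.principalBlock M G) ≤ a := ha ▸ Nat.sub_le _ _
  have hp : p ^ (2 * Cfsg.blockDefect p (Cfsg.principalBlock M G)) ≤ p ^ (2 * a) :=
    Nat.pow_le_pow_right hM.1.pos (by omega)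
  omega

end Cfsg.Agent.S4718
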