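import Cfsg.Statements.S4720
import Cfsg.Agent.Lib.Blocks.PrincipalColumns
-- import your own Cfsg.Agent.* helpers here

set_option autoImplicit false
open Cfsg

namespace Cfsg.Agent.S4720

/-- Let p be a prime, M a maximal ideal of the algebraic integers containing p, P a p-subgroup of the finite group G, N a subgroup with P ≤ N ≤ N_G(P), and U a nonempty subset of P normalized by N such that an element of U and an element of P that are conjugate in G are already conjugate in N, and such that λ(C_G(y)) = w·#C_N(y) for every y ∈ U with one rational number w, where λ(X) denotes the sum of the squares of the degrees of the irreducible characters in the principal p-block of X. For a complex function θ on P and χ in the principal block of G put a_χ(θ) = #P⁻¹ Σ_{y ∈ P} χ(y) θ(y⁻¹). Then for generalized characters θ, η of P with θ vanishing outside U, Σ_χ a_χ(θ)·conj(a_χ(η)) = (w/#P²)·Σ_{y ∈ P} θ(y)·conj(Σ_{x ∈ N} η(x y x⁻¹)) (η extended by zero off P;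 the conjugates lie in P), the first sum over the principal p-block of G. -/
theorem result {G : Type*} [Group G] [Finite G] (p : ℕ) [Fact p.Prime] (M : Ideal Cfsg.AlgInt) (hM : Cfsg.IsPModular p M) (P : Subgroup G) (hP : IsPGroup p P) (N : Subgroup G) (hPN : P ≤ N) (hNN : N ≤ Subgroup.normalizer (P : Set G)) (U : Set G) (hUne : U.Nonempty) (hUP : U ⊆ (P : Set G)) (hUN : ∀ n ∈ N, ∀ u ∈ U, n * u * n⁻¹ ∈ U) (hfus : ∀ u ∈ U, ∀ g : G, g * u * g⁻¹ ∈ (P : Set G) → ∃ n ∈ N, n * u * n⁻¹ = g * u * g⁻¹) (w : ℚ) (hw : ∀ y ∈ U, ((∑ᶠ ψ ∈ Cfsg.principalBlock M ↥(Subgroup.centralizer ({y} : Set G)), Cfsg.charDegree (ψ : ↥(Subgroup.centralizer ({y} : Set G)) → ℂ) ^ 2) : ℚ) = w * Nat.card ↥(N ⊓ Subgroup.centralizer ({y} : Set G))) (θ η : ↥P → ℂ) (hθ : Cfsg.IsGeneralizedCharacter ↥P θ) (hη : Cfsg.IsGeneralizedCharacter ↥P η) (hθU : ∀ y : ↥P, (y : G) ∉ U → θ y = 0) : ∑ᶠ χ ∈ Cfsg.principalBlock M G, ((Nat.card ↥P : ℂ)⁻¹ * ∑ᶠ y : ↥P, (χ : G → ℂ) (y : G) * θ y⁻¹) * (starRingEnd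 ℂ) ((Nat.card ↥P : ℂ)⁻¹ * ∑ᶠ y : ↥P, (χ : G → ℂ) (y : G) * η y⁻¹) = ((w : ℂ) / ((Nat.card ↥P : ℂ) ^ 2)) * ∑ᶠ y : ↥P, θ y * (starRingEnd ℂ) (∑ᶠ x : ↥N, Cfsg.extendByZero P η ((x : G) * (y : G) * (x : G)⁻¹)) := by
  classical
  cases nonempty_fintype G
  have hpord : ∀ x ∈ P, ∃ k : ℕ, orderOf x = p ^ k := fun x hx => by
    obtain ⟨k, hk⟩ := IsPGroup.iff_orderOf.1 hP ⟨x, hx⟩
    exact ⟨k, by rwa [Subgroup.orderOf_mk] at hk⟩
  set B := Cfsg.principalBlock M G
  -- the column sums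
  have hcol : ∀ u v : ↥P, (u : G) ∈ U →
      ∑ χ : Cfsg.IrrCharacter G, CfsgLib.Blocks.blockInd B χ *
          ((χ : G → ℂ) (v : G) * (χ : G → ℂ) (u : G)⁻¹)
        = (w : ℂ) * ((Finset.univ.filter fun n : ↥N =>
            (n : G) * (u : G) * (n : G)⁻¹ = (v : G)).card : ℂ) := by
    intro u v hu
    rw [CfsgLib.Blocks.sum_principal_columns hM (hpord v v.2) (hpord u u.2)]
    split_ifs with h
    · obtain ⟨g, hg⟩ := isConj_iff.1 h.symm
      obtain ⟨n, hn, hnv⟩ := hfus u hu g (by rw [hg]; exact v.2)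
      rw [hg] at hnv
      have hvU : (v : G) ∈ U := hnv ▸ hUN n hn u hu
      have h1 := hw v hvU
      have hcard : (Finset.univ.filter fun m : ↥N => (m : G) * (u : G) * (m : G)⁻¹ = (v : G)).card
          = Nat.card ↥(N ⊓ Subgroup.centralizer ({(v : G)} : Set G)) := by
        rw [Nat.card_eq_fintype_card, ← Finset.card_univ]
        refine Finset.card_bij (fun m hm => (⟨(m : G) * n⁻¹, N.mul_mem m.2 (N.inv_mem hn), ?_⟩ :
          ↥(N ⊓ Subgroup.centralizer ({(v : G)} : Set G)))) (fun _ _ => Finset.mem_univ _) ?_ ?_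
        · refine Subgroup.mem_centralizer_singleton_iff.2 ?_
          have hm' := (Finset.mem_filter.1 hm).2
          have e1 : (m : G) * n⁻¹ * (v : G) = (m : G) * (u : G) * n⁻¹ := by
            rw [← hnv]; simp [mul_assoc]
          have e2 : (v : G) * ((m : G) * n⁻¹) = (m : G) * (u : G) * n⁻¹ := by
            rw [← hm']; simp [mul_assoc]
          rw [e1, e2]
        · intro a _ b _ hab
          exact Subtype.ext (mul_right_cancel (congrArg Subtype.val hab))
        · intro c _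
          refine ⟨⟨(c : G) * n, N.mul_mem c.2.1 hn⟩, Finset.mem_filter.2 ⟨Finset.mem_univ _, ?_⟩,
            Subtype.ext (by simp [mul_assoc])⟩
          have hc := Subgroup.mem_centralizer_singleton_iff.1 c.2.2
          show (c : G) * n * (u : G) * ((c : G) * n)⁻¹ = (v : G)
          rw [show (c : G) * n * (u : G) * ((c : G) * n)⁻¹ = (c : G) * (n * (u : G) * n⁻¹) * (c : G)⁻¹ by
            simp [mul_assoc], hnv, hc, mul_inv_cancel_right]
      rw [hcard, CfsgLib.Blocks.principalLambda, finsum_mem_eq_toFinset_sum]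
      rw [finsum_mem_eq_toFinset_sum] at h1
      have h2 := congrArg (fun r : ℚ => (r : ℂ)) h1
      push_cast at h2 ⊢
      exact h2
    · rw [Finset.filter_false_of_mem, Finset.card_empty, Nat.cast_zero, mul_zero]
      exact fun m _ hm => h (isConj_iff.2 ⟨(m : G)⁻¹, by rw [← hm]; simp [mul_assoc]⟩)
  have hPinv : ∀ u : ↥P, ∑ n : ↥N, Cfsg.extendByZero P η ((n : G) * (u : G) * (n : G)⁻¹)
      = ∑ v : ↥P, ((Finset.univ.filter fun n : ↥N =>
          (n : G) * (u : G) * (n : G)⁻¹ = (v : G)).card : ℂ) * η v := by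
    intro u
    let c : ↥N → ↥P := fun n => ⟨(n : G) * (u : G) * (n : G)⁻¹,
      (Subgroup.mem_normalizer_iff.1 (hNN n.2) _).1 u.2⟩
    rw [← Finset.sum_fiberwise Finset.univ c]
    refine Finset.sum_congr rfl fun v _ => ?_
    rw [Finset.sum_congr rfl (g := fun _ => η v) fun n hn => ?_, Finset.sum_const, nsmul_eq_mul]
    · congr 3
      ext n
      simp [c, Subtype.ext_iff]
    · rw [← (Finset.mem_filter.1 hn).2]
      exact Subtype.val_injective.extend_apply η 0 (c n)
  rw [finsum_mem_eq_toFinset_sum]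
  simp only [finsum_eq_sum_of_fintype]
  calc _ = ∑ χ : Cfsg.IrrCharacter G, CfsgLib.Blocks.blockInd B χ *
        (((Nat.card ↥P : ℂ)⁻¹ * ∑ y : ↥P, (χ : G → ℂ) (y : G) * θ y⁻¹) *
        (starRingEnd ℂ) ((Nat.card ↥P : ℂ)⁻¹ * ∑ y : ↥P, (χ : G → ℂ) (y : G) * η y⁻¹)) := by
        rw [← Finset.sum_subset (Finset.subset_univ B.toFinset) (fun χ _ hχ => by
          rw [CfsgLib.Blocks.blockInd_of_notMem (by simpa using hχ), zero_mul])]
        exact Finset.sum_congr rfl fun χ hχ => by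
          rw [CfsgLib.Blocks.blockInd_of_mem (Set.mem_toFinset.1 hχ), one_mul]
    _ = ((Nat.card ↥P : ℂ)⁻¹ * (Nat.card ↥P : ℂ)⁻¹) * ∑ u : ↥P, ∑ v : ↥P,
        (θ u * (starRingEnd ℂ) (η v)) * ∑ χ : Cfsg.IrrCharacter G, CfsgLib.Blocks.blockInd B χ *
          ((χ : G → ℂ) (v : G) * (χ : G → ℂ) (u : G)⁻¹) := by
        have e : ∀ χ : Cfsg.IrrCharacter G, CfsgLib.Blocks.blockInd B χ *
            (((Nat.card ↥P : ℂ)⁻¹ * ∑ y : ↥P, (χ : G → ℂ) (y : G) * θ y⁻¹) *
            (starRingEnd ℂ) ((Nat.card ↥P : ℂ)⁻¹ * ∑ y : ↥P, (χ : G → ℂ) (y : G) * η y⁻¹))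
            = ∑ u : ↥P, ∑ v : ↥P, ((Nat.card ↥P : ℂ)⁻¹ * (Nat.card ↥P : ℂ)⁻¹) *
              ((θ u * (starRingEnd ℂ) (η v)) * (CfsgLib.Blocks.blockInd B χ *
                ((χ : G → ℂ) (v : G) * (χ : G → ℂ) (u : G)⁻¹))) := by
          intro χ
          rw [← Equiv.sum_comp (Equiv.inv ↥P) (fun y : ↥P => (χ : G → ℂ) (y : G) * θ y⁻¹),
            ← Equiv.sum_comp (Equiv.inv ↥P) (fun y : ↥P => (χ : G → ℂ) (y : G) * η y⁻¹)]
          simp only [map_mul, map_inv₀, Complex.conj_natCast, map_sum, Equiv.inv_apply, inv_inv,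
            InvMemClass.coe_inv, CfsgLib.Blocks.conj_irr]
          rw [Finset.mul_sum, Finset.mul_sum, Finset.sum_mul_sum, Finset.mul_sum]
          simp only [Finset.mul_sum]
          exact Finset.sum_congr rfl fun u _ => Finset.sum_congr rfl fun v _ => by ring
        rw [Finset.sum_congr rfl fun χ _ => e χ, Finset.sum_comm, Finset.mul_sum]
        refine Finset.sum_congr rfl fun u _ => ?_
        rw [Finset.sum_comm, Finset.mul_sum]
        refine Finset.sum_congr rfl fun v _ => ?_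
        simp only [Finset.mul_sum]
    _ = _ := by
        rw [div_eq_mul_inv, sq, mul_inv, mul_comm (w : ℂ), mul_assoc _ (w : ℂ), Finset.mul_sum (a := (w : ℂ))]
        congr 1
        refine Finset.sum_congr rfl fun u _ => ?_
        by_cases hu : (u : G) ∈ U
        · rw [hPinv u, map_sum, Finset.mul_sum, Finset.mul_sum]
          refine Finset.sum_congr rfl fun v _ => ?_
          rw [hcol u v hu, map_mul, Complex.conj_natCast]
          ring
        · simp [hθU u hu]

end Cfsg.Agent.S4720
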