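import Cfsg.Statements.S4721
import Cfsg.Agent.Lib.Blocks.IndexThree
-- import your own Cfsg.Agent.* helpers here

set_option autoImplicit false
open Cfsg 

namespace Cfsg.Agent.S4721

/-- Let p be a prime, M a maximal ideal of the algebraic integers containing p, and G a finite group with a nontrivial abelian Sylow p-subgroup P, N = N_G(P), C = C_G(P), such that N/C is cyclic of order 3, #P > 4, and C_G(y) ∩ N = C for every non-identity y ∈ P. Then the principal p-block is the disjoint union of a set X of exactly 3 characters containing the principal character and a set Y of (#P − 1)/3 characters, with signs a_χ = ±1 (χ ∈ X, a = 1 at the principal character) and δ = ±1 such that every χ ∈ X takes the value a_χ at every element whose p-part is a non-identity element of P, and there is a map ζ from the non-principal linear characters of P onto Y, constant on N-conjugacy classes, with ζ_ψ(z)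 = δ·Σ ψ'(y) over the N-orbit of ψ, for z with p-part y ≠ 1 in P. If moreover G has an involution lying in no proper normal subgroup of G, then exactly two of the three numbers −δ and a_χ (χ ∈ X non-principal) equal −1, and the product of the degrees of the two non-principal members of X and of any member of Y is a perfect square. -/
theorem result {G : Type*} [Group G] [Finite G] (p : ℕ) [Fact p.Prime] (M : Ideal Cfsg.AlgInt) (hM : Cfsg.IsPModular p M) (P : Sylow p G) (hab : IsMulCommutative P) (hP1 : Nat.card P ≠ 1) (hCN : (Subgroup.centralizer ((P : Subgroup G) : Set G)).relIndex (Subgroup.normalizer ((P : Subgroup G) : Set G)) = 3) (hcyc : ∃ g : G, g ∈ Subgroup.normalizer ((P : Subgroup G) : Set G) ∧ Subgroup.centralizer ((P : Subgroup G) : Set G) ⊔ Subgroup.zpowers g = Subgroup.normalizer ((P : Subgroup G) : Set G)) (hm2 : 3 + 1 < Nat.card P) (hfrob : ∀ y : G, y ∈ (P : Subgroup G)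 → y ≠ 1 → Subgroup.centralizer ({y} : Set G) ⊓ Subgroup.normalizer ((P : Subgroup G) : Set G) = Subgroup.centralizer ((P : Subgroup G) : Set G)) : ∃ (X Y : Set (Cfsg.IrrCharacter G)), Cfsg.principalBlock M G = X ∪ Y ∧ Disjoint X Y ∧ Nat.card X = 3 ∧ Nat.card Y = (Nat.card P - 1) / 3 ∧ (∃ χ₁ ∈ X, (χ₁ : G → ℂ) = fun _ => 1) ∧ ∃ (a : Cfsg.IrrCharacter G → ℤ) (δ : ℤ) (ζ : (↥(P : Subgroup G) →* ℂˣ) → Cfsg.IrrCharacter G), (δ = 1 ∨ δ = -1) ∧ (∀ χ ∈ X, (a χ = 1 ∨ a χ = -1) ∧ ∀ z y : G, Cfsg.IsPPart p z y → y ∈ (P : Subgroup G) → y ≠ 1 → (χ : G → ℂ) z = (a χ : ℂ)) ∧ (∀ ψ : ↥(P : Subgroup G) →* ℂˣ, ψ ≠ 1 → ζ ψ ∈ Y) ∧ (∀ η ∈ Y, ∃ ψ : ↥(P : Subgroup G) →* ℂˣ, ψ ≠ 1 ∧ ζ ψ = η) ∧ (∀ ψ ψ' : ↥(P : Subgroup G) →* ℂˣ, ψ ≠ 1 → (∃ n : G, n ∈ Subgroup.normalizer ((P : Subgroup G) : Set G) ∧ ∀ w w' : ↥(P : Subgroup G), (w' : G) = n * w * n⁻¹ → ψ' w' = ψ w) → ζ ψ' = ζ ψ) ∧ (∀ ψ : ↥(P : Subgroup G) →* ℂˣ, ψ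 ≠ 1 → ∀ (z : G) (y : ↥(P : Subgroup G)), Cfsg.IsPPart p z (y : G) → (y : G) ≠ 1 → (ζ ψ : G → ℂ) z = (δ : ℂ) * ∑ᶠ ψ' ∈ {ψ' : ↥(P : Subgroup G) →* ℂˣ | ∃ n : G, n ∈ Subgroup.normalizer ((P : Subgroup G) : Set G) ∧ ∀ w w' : ↥(P : Subgroup G), (w' : G) = n * w * n⁻¹ → ψ' w' = ψ w}, ((ψ' y : ℂˣ) : ℂ)) ∧ ((∃ t : G, orderOf t = 2 ∧ ∀ K : Subgroup G, K.Normal → t ∈ K → K = ⊤) → Nat.card {χ : Cfsg.IrrCharacter G // χ ∈ X ∧ (χ : G → ℂ) ≠ (fun _ => 1) ∧ a χ = -1} + (if δ = 1 then 1 else 0) = 2 ∧ ∀ η ∈ Y, IsSquare (Cfsg.charDegree (η : G → ℂ) * ∏ᶠ χ ∈ {χ : Cfsg.IrrCharacter G | χ ∈ X ∧ (χ : G → ℂ) ≠ fun _ => 1}, Cfsg.charDegree (χ : G → ℂ))) := by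
  classical
  haveI := Fintype.ofFinite G
  have h : CfsgLib.Blocks.TIAbelian.FrobSylow P :=
    ⟨fun x hx y hy => congrArg Subtype.val (hab.is_comm.comm (⟨x, hx⟩ : ↥(P : Subgroup G)) ⟨y, hy⟩),
      fun y hy hy1 => (hfrob y hy hy1).le⟩
  have hm : CfsgLib.Blocks.TIAbelian.autCard P = 3 := (CfsgLib.Blocks.TIAbelian.autCard_eq P).trans hCN
  obtain ⟨X, Y, a, δ, ζ, hB, hdisj, htX, hXc, hYm, hδ, hX, hζY, hsurj, hiff, hval, hinv⟩ :=
    CfsgLib.Blocks.IndexThree.main h hm hm2 hM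
  have horb : ∀ ψ : ↥(P : Subgroup G) →* ℂˣ, {ψ' : ↥(P : Subgroup G) →* ℂˣ | ∃ n : G,
      n ∈ Subgroup.normalizer ((P : Subgroup G) : Set G) ∧
        ∀ w w' : ↥(P : Subgroup G), (w' : G) = n * w * n⁻¹ → ψ' w' = ψ w} =
      ↑(CfsgLib.Blocks.TIAbelian.orb P ψ) := by
    intro ψ
    ext μ
    simp only [Set.mem_ofPred_eq, Finset.mem_coe, CfsgLib.Blocks.TIAbelian.orb, Finset.mem_image,
      Finset.mem_univ, true_and]
    constructor
    · rintro ⟨n, hn, hw⟩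
      refine ⟨⟨(P : Subgroup G).normalizerMonoidHom ⟨n⁻¹, inv_mem hn⟩, ⟨_, rfl⟩⟩, MonoidHom.ext fun x => ?_⟩
      exact (hw ((P : Subgroup G).normalizerMonoidHom ⟨n⁻¹, inv_mem hn⟩ x) x (by
        show (x : G) = n * (n⁻¹ * (x : G) * n⁻¹⁻¹) * n⁻¹
        group)).symm
    · rintro ⟨⟨α, ⟨g, rfl⟩⟩, rfl⟩
      refine ⟨(g : G)⁻¹, inv_mem g.2, fun w w' hw' => ?_⟩
      show ψ ((P : Subgroup G).normalizerMonoidHom g w') = ψ w
      congr 1
      apply Subtype.ext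
      show (g : G) * (w' : G) * (g : G)⁻¹ = w
      rw [hw']
      group
  have hYcard : (Nat.card ↥(P : Subgroup G) - 1) / 3 = Y.card := by omega
  have htriv : ∀ χ : Cfsg.IrrCharacter G,
      (χ : G → ℂ) ≠ (fun _ => 1) ↔ χ ≠ CfsgLib.Blocks.trivChar G := fun χ =>
    ⟨fun h e => h (by rw [e]; rfl), fun h e => h (Subtype.ext e)⟩
  refine ⟨↑X, ↑Y, ?_, Finset.disjoint_coe.2 hdisj, ?_, ?_, ⟨_, Finset.mem_coe.2 htX, rfl⟩, a, δ, ζ, hδ,
    fun χ hχ => hX χ (Finset.mem_coe.1 hχ), fun ψ hψ => Finset.mem_coe.2 (hζY ψ hψ),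
    fun η hη => hsurj η (Finset.mem_coe.1 hη), ?_, ?_, ?_⟩
  · ext χ
    rw [Set.mem_union, Finset.mem_coe, Finset.mem_coe]
    exact hB χ
  · simpa using hXc
  · rw [show (Nat.card P - 1) / 3 = Y.card from hYcard]
    simp
  · intro ψ ψ' hψ hψ'
    have hmem : ψ' ∈ (↑(CfsgLib.Blocks.TIAbelian.orb P ψ) : Set (↥(P : Subgroup G) →* ℂˣ)) := by
      rw [← horb ψ]; exact hψ'
    exact ((hiff ψ ψ' hψ (CfsgLib.Blocks.IndexThree.orb_ne_one hψ (Finset.mem_coe.1 hmem))).2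
      (Finset.mem_coe.1 hmem)).symm
  · intro ψ hψ z y hzy hy1
    rw [horb ψ, finsum_mem_coe_finset]
    exact hval ψ hψ z y hzy hy1
  · intro ht
    obtain ⟨h1, h2⟩ := hinv ht
    refine ⟨?_, fun η hη => ?_⟩
    · rw [Nat.card_eq_fintype_card, Fintype.card_subtype,
        show (Finset.univ.filter fun χ : Cfsg.IrrCharacter G =>
            χ ∈ (↑X : Set (Cfsg.IrrCharacter G)) ∧ (χ : G → ℂ) ≠ (fun _ => 1) ∧ a χ = -1)
          = X.filter (fun χ => χ ≠ CfsgLib.Blocks.trivChar G ∧ a χ = -1) by ext χ; simp [htriv]]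
      exact h1
    · rw [show {χ : Cfsg.IrrCharacter G | χ ∈ (↑X : Set (Cfsg.IrrCharacter G)) ∧
            (χ : G → ℂ) ≠ fun _ => 1} = ↑(X.erase (CfsgLib.Blocks.trivChar G)) by
          ext χ; simp [htriv, and_comm], finprod_mem_coe_finset]
      exact h2 η (Finset.mem_coe.1 hη)


end Cfsg.Agent.S4721
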