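import Cfsg.Statements.S4722
import Cfsg.Agent.Lib.Blocks.InvolutionColumns
import Cfsg.Agent.Lib.Char.Constituent
-- import your own Cfsg.Agent.* helpers here

set_option autoImplicit false
open Cfsg

namespace Cfsg.Agent.S4722

/-- Let M be a maximal ideal of the algebraic integers containing 2, P a 2-subgroup of the finite group G, U a subset of P, and t an involution of G such that no element of U is inverted by any conjugate of t. Let θ be a generalized character of P vanishing outside U, and for χ in the principal 2-block B₀ put a_χ = #P⁻¹ Σ_{y ∈ P} χ(y) θ(y⁻¹). Then Σ_{χ ∈ B₀} a_χ χ(t)^2/χ(1) = 0, Σ_{χ ∈ B₀} a_χ χ(1) = 0 and Σ_{χ ∈ B₀} a_χ χ(t) = 0. If moreover #P⁻¹ Σ_{y ∈ P} θ(y) ≠ 0, then either at least two of the a_χ have positive real part and at least two have negative real part, or G has a proper normal subgroup containing O_2'(G) and t. -/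
theorem result {G : Type*} [Group G] [Finite G] (M : Ideal Cfsg.AlgInt) (hM : Cfsg.IsPModular 2 M) (P : Subgroup G) (hP : IsPGroup 2 P) (U : Set G) (hUP : U ⊆ (P : Set G)) (t : G) (ht : orderOf t = 2) (hinv : ∀ u ∈ U, ∀ g : G, (g * t * g⁻¹) * u * (g * t * g⁻¹)⁻¹ ≠ u⁻¹) (θ : ↥P → ℂ) (hθ : Cfsg.IsGeneralizedCharacter ↥P θ) (hθU : ∀ y : ↥P, (y : G) ∉ U → θ y = 0) : (∑ᶠ χ ∈ Cfsg.principalBlock M G, ((Nat.card ↥P : ℂ)⁻¹ * ∑ᶠ y : ↥P, (χ : G → ℂ) (y : G) * θ y⁻¹) * (χ : G → ℂ) t ^ 2 / (χ : G → ℂ) 1 = 0) ∧ (∑ᶠ χ ∈ Cfsg.principalBlock M G, ((Nat.card ↥P : ℂ)⁻¹ * ∑ᶠ y : ↥P, (χ : G → ℂ) (y : G) * θ y⁻¹) * (χ : G → ℂ) 1 = 0) ∧ (∑ᶠ χ ∈ Cfsg.principalBlock M G, ((Nat.card ↥P : ℂ)⁻¹ * ∑ᶠ y : ↥P, (χ : G → ℂ) (y : G) * θ y⁻¹) * (χ : G → ℂ) t = 0) ∧ ((Nat.card ↥P : ℂ)⁻¹ * ∑ᶠ y : ↥P, θ y ≠ 0 → (2 ≤ Nat.card {χ : Cfsg.IrrCharacter G // χ ∈ Cfsg.principalBlock M G ∧ 0 < (((Nat.card ↥P : ℂ)⁻¹ * ∑ᶠ y : ↥P, (χ : G → ℂ)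 (y : G) * θ y⁻¹)).re} ∧ 2 ≤ Nat.card {χ : Cfsg.IrrCharacter G // χ ∈ Cfsg.principalBlock M G ∧ (((Nat.card ↥P : ℂ)⁻¹ * ∑ᶠ y : ↥P, (χ : G → ℂ) (y : G) * θ y⁻¹)).re < 0}) ∨ ∃ K : Subgroup G, K.Normal ∧ K ≠ ⊤ ∧ Cfsg.pPrimeCore 2 G ≤ K ∧ t ∈ K) := by
  classical
  cases nonempty_fintype G
  set B := Cfsg.principalBlock M G
  set a : Cfsg.IrrCharacter G → ℂ := fun χ =>
    (Nat.card ↥P : ℂ)⁻¹ * ∑ᶠ y : ↥P, (χ : G → ℂ) (y : G) * θ y⁻¹ with ha
  have hrel : ∀ coef : Cfsg.IrrCharacter G → ℂ,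
      (∀ v : ↥P, (v : G)⁻¹ ∈ U → ∑ χ : Cfsg.IrrCharacter G,
        CfsgLib.Blocks.blockInd B χ * (coef χ * (χ : G → ℂ) (v : G)) = 0) →
      ∑ χ : Cfsg.IrrCharacter G, CfsgLib.Blocks.blockInd B χ * (a χ * coef χ) = 0 := by
    intro coef h
    have e : ∀ χ : Cfsg.IrrCharacter G, CfsgLib.Blocks.blockInd B χ * (a χ * coef χ)
        = ∑ y : ↥P, ((Nat.card ↥P : ℂ)⁻¹ * θ y⁻¹) *
          (CfsgLib.Blocks.blockInd B χ * (coef χ * (χ : G → ℂ) (y : G))) := fun χ => by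
      simp only [ha, finsum_eq_sum_of_fintype, Finset.mul_sum, Finset.sum_mul]
      exact Finset.sum_congr rfl fun y _ => by ring
    rw [Finset.sum_congr rfl fun χ _ => e χ, Finset.sum_comm]
    refine Finset.sum_eq_zero fun y _ => ?_
    rw [← Finset.mul_sum]
    by_cases hy : ((y⁻¹ : ↥P) : G) ∈ U
    · rw [h y (by simpa using hy), mul_zero]
    · rw [hθU _ hy, mul_zero, zero_mul]
  have hinv' : ∀ v : ↥P, (v : G)⁻¹ ∈ U → ∀ g : G,
      (g * t * g⁻¹) * (v : G) * (g * t * g⁻¹)⁻¹ ≠ (v : G)⁻¹ := fun v hv g he => by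
    refine hinv _ hv g ?_
    have := congrArg (fun z => z⁻¹) he
    simpa [mul_assoc] using this
  have hp2 : ∀ v : ↥P, ∃ k : ℕ, orderOf (v : G) = 2 ^ k := fun v => by
    obtain ⟨k, hk⟩ := IsPGroup.iff_orderOf.1 hP v
    exact ⟨k, by rwa [Subgroup.orderOf_coe]⟩
  have r1 := hrel (fun χ => (χ : G → ℂ) t ^ 2 / (χ : G → ℂ) 1) fun v hv =>
    (CfsgLib.Blocks.column_relations hM ht (hp2 v) (hinv' v hv)).1
  have r2 := hrel (fun χ => (χ : G → ℂ) 1) fun v hv =>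
    (CfsgLib.Blocks.column_relations hM ht (hp2 v) (hinv' v hv)).2.1
  have r3 := hrel (fun χ => (χ : G → ℂ) t) fun v hv =>
    (CfsgLib.Blocks.column_relations hM ht (hp2 v) (hinv' v hv)).2.2
  have conv : ∀ f : Cfsg.IrrCharacter G → ℂ,
      ∑ᶠ χ ∈ B, f χ = ∑ χ : Cfsg.IrrCharacter G, CfsgLib.Blocks.blockInd B χ * f χ := fun f => by
    rw [finsum_mem_eq_toFinset_sum, ← Finset.sum_subset (Finset.subset_univ B.toFinset)
      (f := fun χ => CfsgLib.Blocks.blockInd B χ * f χ) (fun χ _ hχ => by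
        rw [CfsgLib.Blocks.blockInd_of_notMem (by simpa using hχ), zero_mul])]
    exact Finset.sum_congr rfl fun χ hχ => by
      rw [CfsgLib.Blocks.blockInd_of_mem (Set.mem_toFinset.1 hχ), one_mul]
  refine ⟨?_, ?_, ?_, fun hθ0 => ?_⟩
  · rw [conv]
    refine Eq.trans (Finset.sum_congr rfl fun χ _ => ?_) r1
    rw [mul_div_assoc]
  · rw [conv]; exact r2
  · rw [conv]; exact r3
  -- realness
  obtain ⟨θ₁, θ₂, hθ₁, hθ₂, hθe⟩ := hθ
  have hreal : ∀ χ : Cfsg.IrrCharacter G, a χ = ((a χ).re : ℂ) := fun χ => by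
    have hres := CfsgLib.Char.IsCharacter.restrict (CfsgLib.Char.isCharacter_irr χ) P
    obtain ⟨m, hm⟩ := CfsgLib.Char.IsCharacter.classInner_nat hres hθ₁
    obtain ⟨n, hn⟩ := CfsgLib.Char.IsCharacter.classInner_nat hres hθ₂
    have : a χ = (m : ℂ) - (n : ℂ) := by
      rw [← hm, ← hn]
      simp only [ha, finsum_eq_sum_of_fintype, Cfsg.classInner, ← mul_sub, ← Finset.sum_sub_distrib]
      congr 1
      refine Finset.sum_congr rfl fun y _ => ?_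
      rw [hθe, Pi.sub_apply, CfsgLib.Char.IsCharacter.apply_inv hθ₁,
        CfsgLib.Char.IsCharacter.apply_inv hθ₂, mul_sub]
    rw [this]; simp
  have htr : ∀ χ : Cfsg.IrrCharacter G, (χ : G → ℂ) t = (((χ : G → ℂ) t).re : ℂ) := fun χ => by
    refine (Complex.conj_eq_iff_re.1 ?_).symm
    rw [CfsgLib.Blocks.conj_irr, inv_eq_of_mul_eq_one_right
      (CfsgLib.Blocks.mul_self_of_order_two ht)]
  let d : B → ℝ := fun χ => (Cfsg.charDegree ((χ : Cfsg.IrrCharacter G) : G → ℂ) : ℝ)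
  let r : B → ℝ := fun χ => (((χ : Cfsg.IrrCharacter G) : G → ℂ) t).re
  let A : B → ℝ := fun χ => (a (χ : Cfsg.IrrCharacter G)).re
  have hd : ∀ χ, 0 < d χ := fun χ => Nat.cast_pos.2 (CfsgLib.Blocks.charDegree_pos _)
  have sumB : ∀ f : Cfsg.IrrCharacter G → ℂ, ∑ χ : B, f χ
      = ∑ χ : Cfsg.IrrCharacter G, CfsgLib.Blocks.blockInd B χ * f χ := fun f => by
    rw [← conv, finsum_mem_eq_toFinset_sum]
    exact (Finset.sum_subtype B.toFinset (fun χ => Set.mem_toFinset) f).symm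
  have e1 : ∑ χ, A χ * d χ = 0 := by
    have h := sumB fun χ => a χ * (χ : G → ℂ) 1
    rw [r2] at h
    apply Complex.ofReal_injective
    rw [Complex.ofReal_sum, Complex.ofReal_zero, ← h]
    refine Finset.sum_congr rfl fun χ _ => ?_
    rw [Complex.ofReal_mul, ← hreal, Complex.ofReal_natCast, CfsgLib.Blocks.irr_one_eq]
  have e2 : ∑ χ, A χ * r χ = 0 := by
    have h := sumB fun χ => a χ * (χ : G → ℂ) t
    rw [r3] at h
    apply Complex.ofReal_injective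
    rw [Complex.ofReal_sum, Complex.ofReal_zero, ← h]
    refine Finset.sum_congr rfl fun χ _ => ?_
    rw [Complex.ofReal_mul, ← hreal, ← htr]
  have e3 : ∑ χ, A χ * (r χ ^ 2 / d χ) = 0 := by
    have h := sumB fun χ => a χ * ((χ : G → ℂ) t ^ 2 / (χ : G → ℂ) 1)
    rw [r1] at h
    apply Complex.ofReal_injective
    rw [Complex.ofReal_sum, Complex.ofReal_zero, ← h]
    refine Finset.sum_congr rfl fun χ _ => ?_
    rw [Complex.ofReal_mul, ← hreal, Complex.ofReal_div, Complex.ofReal_pow, ← htr,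
      Complex.ofReal_natCast, CfsgLib.Blocks.irr_one_eq]
  by_cases hgood : (2 ≤ Nat.card {χ : Cfsg.IrrCharacter G // χ ∈ B ∧ 0 < (a χ).re}) ∧
      2 ≤ Nat.card {χ : Cfsg.IrrCharacter G // χ ∈ B ∧ (a χ).re < 0}
  · exact Or.inl hgood
  refine Or.inr ?_
  have small : ∀ {P' : Cfsg.IrrCharacter G → Prop}, ¬ 2 ≤ Nat.card {χ // P' χ} →
      ∀ i j, P' i → P' j → i = j := fun {P'} h i j hi hj => by
    haveI : Subsingleton {χ // P' χ} := by
      rw [← Finite.card_le_one_iff_subsingleton]; omega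
    exact congrArg Subtype.val (Subsingleton.elim (⟨i, hi⟩ : {χ // P' χ}) ⟨j, hj⟩)
  obtain ⟨c, hc⟩ : ∃ c : ℝ, ∀ χ : B, A χ ≠ 0 → r χ = c * d χ := by
    rcases not_and_or.1 hgood with h | h
    · exact CfsgLib.Blocks.ratio_eq_of_one_pos A d r hd e1 e2 e3 fun i j hi hj =>
        Subtype.ext (small h i j ⟨i.2, hi⟩ ⟨j.2, hj⟩)
    · obtain ⟨c, hc⟩ := CfsgLib.Blocks.ratio_eq_of_one_pos (fun χ => -A χ) d r hd
        (by simp [e1]) (by simp [e2]) (by simp [e3]) fun i j hi hj =>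
          Subtype.ext (small h i j ⟨i.2, neg_pos.1 hi⟩ ⟨j.2, neg_pos.1 hj⟩)
      exact ⟨c, fun χ hχ => hc χ (neg_ne_zero.2 hχ)⟩
  set one : B := ⟨CfsgLib.Blocks.trivChar G, CfsgLib.Blocks.trivChar_mem_principalBlock hM⟩
  have hA1 : A one ≠ 0 := by
    intro h
    refine hθ0 ?_
    have h2 : a (one : Cfsg.IrrCharacter G) = 0 := by rw [hreal]; simp [A] at h; simp [h]
    rw [← h2]
    simp only [ha, finsum_eq_sum_of_fintype]
    rw [← Equiv.sum_comp (Equiv.inv ↥P) (fun y : ↥P => θ y)]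
    refine congrArg _ (Finset.sum_congr rfl fun y _ => ?_)
    rw [CfsgLib.Blocks.trivChar_apply, one_mul]
    rfl
  have hc1 : c = 1 := by
    have h := hc one hA1
    have hd1 : d one = 1 := by simp [d, one, Cfsg.charDegree]
    simp only [r, one, hd1, mul_one, CfsgLib.Blocks.trivChar_apply, Complex.one_re] at h
    exact h.symm
  obtain ⟨χ, hχA, hχne⟩ : ∃ χ : B, A χ ≠ 0 ∧ χ ≠ one := by
    by_contra hcon
    push Not at hcon
    rw [Finset.sum_eq_single one (fun χ _ hne => by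
      rw [not_not.1 fun h0 => hne (hcon χ h0), zero_mul]) (by simp)] at e1
    exact hA1 ((mul_eq_zero.1 e1).resolve_right (hd one).ne')
  have hχt : ((χ : Cfsg.IrrCharacter G) : G → ℂ) t = ((χ : Cfsg.IrrCharacter G) : G → ℂ) 1 := by
    rw [htr, CfsgLib.Blocks.irr_one_eq, ← Complex.ofReal_natCast]
    have := hc χ hχA
    rw [hc1, one_mul] at this
    exact congrArg _ this
  have hchar := CfsgLib.Char.isCharacter_irr (χ : Cfsg.IrrCharacter G)
  refine ⟨CfsgLib.Char.charKer hchar, CfsgLib.Char.charKer_normal hchar, fun htop => ?_, ?_, hχt⟩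
  · refine hχne (Subtype.ext (Subtype.ext (funext fun g => ?_)))
    show ((χ : Cfsg.IrrCharacter G) : G → ℂ) g = (CfsgLib.Blocks.trivChar G : G → ℂ) g
    have hconst : ∀ g : G, ((χ : Cfsg.IrrCharacter G) : G → ℂ) g
        = ((χ : Cfsg.IrrCharacter G) : G → ℂ) 1 := fun g =>
      (CfsgLib.Char.mem_charKer hchar).1 (htop ▸ Subgroup.mem_top g)
    have hn : (χ : Cfsg.IrrCharacter G) = CfsgLib.Blocks.trivChar G := by
      by_contra hne
      have h := CfsgLib.Char.classInner_irr (χ : Cfsg.IrrCharacter G).2 (CfsgLib.Blocks.trivChar G).2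
      rw [if_neg fun h' => hne (Subtype.ext h')] at h
      simp only [Cfsg.classInner, CfsgLib.Blocks.trivChar_apply, map_one, mul_one, hconst,
        Finset.sum_const, Finset.card_univ, nsmul_eq_mul, ← Nat.card_eq_fintype_card] at h
      rw [inv_mul_cancel_left₀ (Nat.cast_ne_zero.2 Nat.card_pos.ne')] at h
      exact CfsgLib.Blocks.irr_one_ne_zero _ h
    rw [hn]
  · refine sSup_le fun N hN w hw => ?_
    exact CfsgLib.Involution.ZStar.apply_eq_one_of_mem hM χ.2 hN.1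
      ((Nat.Prime.coprime_iff_not_dvd Nat.prime_two).1 hN.2.symm) hw

end Cfsg.Agent.S4722
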