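import Cfsg.Statements.S4723
import Cfsg.Agent.Lib.Blocks.CoverDefect
import Cfsg.Agent.Lib.Blocks.Height
import Cfsg.Agent.Lib.CharDeep.ItoMichler
import Cfsg.Agent.Lib.DegreeTools.Basic

set_option autoImplicit false
open Cfsg

namespace Cfsg.Agent.S4723

open CfsgLib.Blocks CfsgLib.Blocks.FongReynolds CfsgLib.Blocks.CoverDefect
open scoped Classical

/-- Let p be a prime, M a maximal ideal of the algebraic integers containing p, H a normal subgroup of the finite group G and b a p-block of H. Let T be the stabilizer of b in G. Then b contains a character θ of height zero whose own stabilizer in G (the elements g with θ(g h g⁻¹) = θ(h) for all h ∈ H) has index prime to p in T, i.e. contains a Sylow p-subgroup of T. -/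
theorem result {G : Type*} [Group G] [Finite G] (p : ℕ) [Fact p.Prime] (M : Ideal Cfsg.AlgInt) (hM : Cfsg.IsPModular p M) (H : Subgroup G) [H.Normal] (b : Set (Cfsg.IrrCharacter ↥H)) (hb : Cfsg.IsPBlock M b) (T : Subgroup G) (hT : (∀ g : G, g ∈ T ↔ ∀ θ ∈ b, ∀ θ' : Cfsg.IrrCharacter ↥H, (∀ h h' : ↥H, (h' : G) = g * h * g⁻¹ → (θ' : ↥H → ℂ) h' = (θ : ↥H → ℂ) h) → θ' ∈ b)) : ∃ θ ∈ b, Cfsg.blockHeight p b (θ : ↥H → ℂ) = 0 ∧ ∃ S : Subgroup G, S ≤ T ∧ (∀ g : G, g ∈ S ↔ (g ∈ T ∧ ∀ h h' : ↥H, (h' : G) = g * h * g⁻¹ → (θ : ↥H → ℂ) h' = (θ : ↥H → ℂ) h)) ∧ ¬ p ∣ S.relIndex T := by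
  have := Fintype.ofFinite G
  have := Fintype.ofFinite H
  have := Fintype.ofFinite T
  have hp : p.Prime := Fact.out
  have hval : ∀ (g : G) (φ : IrrCharacter H) (h h' : H), (h' : G) = g * h * g⁻¹ →
      (conjIrr g φ : H → ℂ) h = (φ : H → ℂ) h' := by
    intro g φ h h' e
    show (φ : H → ℂ) (MulAut.conjNormal g h) = _
    exact congrArg _ (Subtype.ext ((MulAut.conjNormal_apply g h).trans e.symm))
  have hT' : ∀ g : G, g ∈ T ↔ ∀ θ ∈ b, conjIrr g θ ∈ b := by
    intro g
    rw [hT, ← mem_stabilizer hM hb g, ← inv_mem_iff (x := g) (H := stabilizer hM hb),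
      mem_stabilizer]
    refine forall₂_congr fun θ _ => ⟨fun h => h _ fun x x' e => hval g⁻¹ θ x' x ?_, fun h θ' hθ' => ?_⟩
    · rw [e]; group
    · convert h using 1
      refine Subtype.ext (funext fun n => ?_)
      let m : H := ⟨g⁻¹ * n * g, by
        simpa using (inferInstance : H.Normal).conj_mem n n.2 g⁻¹⟩
      have e : (n : G) = g * (m : G) * g⁻¹ := by simp only [m]; group
      rw [hθ' m n e, hval g⁻¹ θ n m (by simp only [m]; group)]
  have hHT : H ≤ T := fun n hn => (hT' n).2 fun θ hθ => le_stabilizer hM hb hn θ hθ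
  obtain ⟨θ₀, hθ₀⟩ := IsPBlock.nonempty hM hb
  -- a character of T over b
  obtain ⟨ψ₀, hψ₀⟩ : ∃ ψ₀ : IrrCharacter T, Covers hHT ψ₀ b := by
    let e : H.subgroupOf T ≃* H := Subgroup.subgroupOfEquivOfLe hHT
    have := Fintype.ofFinite (H.subgroupOf T)
    obtain ⟨ψ, hψ⟩ := CfsgLib.CharDeep.ItoMichler.exists_over (H.subgroupOf T)
      ⟨(θ₀ : H → ℂ) ∘ e,
        CfsgLib.Char.IsIrrCharacter.comp_surjective θ₀.2 e.toMonoidHom e.surjective⟩
    refine ⟨ψ, θ₀, hθ₀, ?_⟩
    convert hψ using 1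
    unfold Cfsg.classInner
    rw [Nat.card_congr e.toEquiv]
    congr 1
    symm
    exact Fintype.sum_equiv e.toEquiv _ _ fun n => rfl
  obtain ⟨B', hB', hcov, hmax⟩ := exists_maximal hHT hM hb hT' hψ₀
  obtain ⟨ψ, hψB, hψmin⟩ := exists_degVal_eq_min (p := p) (IsPBlock.nonempty hM hB')
  obtain ⟨θ, hθ, hne⟩ := hcov ψ hψB
  let S : Subgroup G :=
  { carrier := {g | g ∈ T ∧ conjIrr g θ = θ}
    one_mem' := ⟨T.one_mem, conjIrr_one θ⟩
    mul_mem' := fun {a b} ha hb => ⟨T.mul_mem ha.1 hb.1, by rw [← conjIrr_mul, ha.2, hb.2]⟩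
    inv_mem' := fun {a} ha => ⟨T.inv_mem ha.1, by
      have h := congrArg (conjIrr a⁻¹) ha.2
      rw [conjIrr_mul, mul_inv_cancel, conjIrr_one] at h
      exact h.symm⟩ }
  have hST : S ≤ T := fun g hg => hg.1
  -- multiplicities
  have hres := isCharacter_res hHT (ψ := (ψ : T → ℂ)) (CfsgLib.Char.isCharacter_irr ψ)
  obtain ⟨m, hm, hexp⟩ := CfsgLib.Char.IsCharacter.exists_multiplicity hres
  have hmT : ∀ t : T, m (conjIrr (t : G) θ) = m θ := fun t => by
    have h := classInner_res_conj hHT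
      (CfsgLib.Char.IsIrrCharacter.isClassFunction ψ.2) t.2 (θ : H → ℂ)
    rw [← @Nat.cast_inj ℂ, ← hm, ← hm]
    exact h
  have hcount : Nat.card S * charDegree (ψ : T → ℂ)
      = Nat.card T * (m θ * charDegree (θ : H → ℂ)) := by
    have hdeg : charDegree (ψ : T → ℂ) = ∑ φ : IrrCharacter H, m φ * charDegree (φ : H → ℂ) := by
      have h := hexp 1
      rw [show res hHT (ψ : T → ℂ) 1 = (ψ : T → ℂ) 1 from rfl] at h
      simp only [← CfsgLib.DegreeTools.deg_cast] at h
      exact_mod_cast h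
    have hθdeg : ∀ t : T, charDegree (conjIrr (t : G) θ : H → ℂ) = charDegree (θ : H → ℂ) := by
      intro t
      simp only [charDegree, hval (t : G) θ 1 1 (by simp)]
    have h1 : ∑ t : T, m (conjIrr (t : G) θ) * charDegree (conjIrr (t : G) θ : H → ℂ)
        = Nat.card T * (m θ * charDegree (θ : H → ℂ)) := by
      rw [Nat.card_eq_fintype_card, Finset.sum_congr rfl fun t _ => by rw [hmT, hθdeg],
        Finset.sum_const, Finset.card_univ, smul_eq_mul]
    rw [← h1, ← Finset.sum_fiberwise Finset.univ (fun t : T => conjIrr (t : G) θ), hdeg,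
      Finset.mul_sum]
    refine Finset.sum_congr rfl fun φ _ => ?_
    rw [Finset.sum_congr rfl fun t ht => by rw [(Finset.mem_filter.1 ht).2], Finset.sum_const,
      smul_eq_mul]
    by_cases hφ : m φ = 0
    · simp [hφ]
    congr 1
    obtain ⟨t, ht, rfl⟩ := exists_conj_of_constituent_le hHT hne
      (φ := φ) (by rw [hm]; exact_mod_cast hφ)
    rw [← Fintype.card_subtype, ← Nat.card_eq_fintype_card]
    refine Nat.card_congr
      { toFun := fun s => ⟨⟨(s : G) * t, T.mul_mem (hST s.2) ht⟩, by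
          rw [← conjIrr_mul, s.2.2]⟩
        invFun := fun u => ⟨(u.1 : G) * t⁻¹, T.mul_mem u.1.2 (T.inv_mem ht), by
          rw [← conjIrr_mul, u.2, conjIrr_mul, mul_inv_cancel, conjIrr_one]⟩
        left_inv := fun s => Subtype.ext (mul_inv_cancel_right (s : G) t)
        right_inv := fun u => Subtype.ext (Subtype.ext (inv_mul_cancel_right (u.1 : G) t)) }
  have hm0 : m θ ≠ 0 := fun h => hne (by rw [hm, h, Nat.cast_zero])
  have hd0 := CfsgLib.DegreeTools.deg_pos θ
  have hd1 := CfsgLib.DegreeTools.deg_pos ψ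
  have hfac := congrArg (fun n => n.factorization p) hcount
  simp only [Nat.factorization_mul Nat.card_pos.ne' hd1.ne',
    Nat.factorization_mul Nat.card_pos.ne' (Nat.mul_ne_zero hm0 hd0.ne'),
    Nat.factorization_mul hm0 hd0.ne', Finsupp.add_apply] at hfac
  have hidx : (Nat.card S).factorization p + (S.relIndex T).factorization p
      = (Nat.card T).factorization p := by
    have h : Nat.card S * S.relIndex T = Nat.card T := by
      rw [Subgroup.relIndex, ← Nat.card_congr (Subgroup.subgroupOfEquivOfLe hST).toEquiv]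
      exact Subgroup.card_mul_index _
    have hr : S.relIndex T ≠ 0 := fun h0 => by
      rw [h0, mul_zero] at h
      exact Nat.card_pos.ne' h.symm
    rw [← h, Nat.factorization_mul Nat.card_pos.ne' hr, Finsupp.add_apply]
  have e1 := blockDefect_add_min (p := p) (IsPBlock.nonempty hM hB')
  have e2 := blockDefect_add_min (p := p) (IsPBlock.nonempty hM hb)
  have e3 := minDegVal_le (p := p) hθ
  simp only [degVal] at e3 hψmin
  refine ⟨θ, hθ, ?_, S, hST, fun g => ?_, ?_⟩
  · rw [blockHeight_eq_zero_iff hθ, degVal]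
    omega
  · refine and_congr_right fun _ => ⟨fun he h h' e => ?_, fun he => Subtype.ext (funext fun n => ?_)⟩
    · rw [← hval g θ h h' e, he]
    · let m' : H := ⟨g * n * g⁻¹, (inferInstance : H.Normal).conj_mem n n.2 g⟩
      rw [hval g θ n m' rfl, he n m' rfl]
  · intro hd
    have hr : S.relIndex T ≠ 0 := Subgroup.index_ne_zero_of_finite
    have := hp.factorization_pos_of_dvd hr hd
    omega

end Cfsg.Agent.S4723
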