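import Cfsg.Statements.S4725
import Cfsg.Agent.Lib.Blocks.InducedBlock
-- import your own Cfsg.Agent.* helpers here

set_option autoImplicit false
open Cfsg

namespace Cfsg.Agent.S4725

/-- Let p be a prime, M a maximal ideal of the algebraic integers containing p, H a subgroup of the finite group G, and b a p-block of H inducing the p-block B of G, with b and B of the same defect. Then for every height-zero ζ ∈ b there is a height-zero χ ∈ B whose multiplicity in the character induced from ζ is not divisible by p. -/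
theorem result {G : Type*} [Group G] [Fintype G] (p : ℕ) [Fact p.Prime] (M : Ideal Cfsg.AlgInt) (hM : Cfsg.IsPModular p M) (H : Subgroup G) (b : Set (Cfsg.IrrCharacter ↥H)) (B : Set (Cfsg.IrrCharacter G)) (hind : Cfsg.IsInducedBlock M H b B) (hdef : Cfsg.blockDefect p b = Cfsg.blockDefect p B) (ζ : Cfsg.IrrCharacter ↥H) (hζ : ζ ∈ b) (hζ0 : Cfsg.blockHeight p b (ζ : ↥H → ℂ) = 0) : ∃ χ ∈ B, Cfsg.blockHeight p B (χ : G → ℂ) = 0 ∧ ∃ a : ℕ, Cfsg.classInner (Cfsg.indFun H (ζ : ↥H → ℂ)) (χ : G → ℂ) = (a : ℂ) ∧ ¬ p ∣ a := by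
  classical
  have hp : p.Prime := hM.1
  by_contra hcon
  obtain ⟨χ₀, hχ₀⟩ := CfsgLib.Blocks.IsPBlock.nonempty hM hind.2.1
  choose a ha using fun χ : Cfsg.IrrCharacter G => CfsgLib.Char.IsCharacter.classInner_nat
    (CfsgLib.Char.IsCharacter.indFun (H := H) (CfsgLib.Char.isCharacter_irr ζ))
    (CfsgLib.Char.isCharacter_irr χ)
  set w := CfsgLib.Blocks.omega (ζ : H → ℂ) (fun h : H => Cfsg.blockCoeff B (h : G)) with hw
  have hcong := CfsgLib.Blocks.IsInducedBlock.omega_congr hM hind hζ hχ₀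
    (CfsgLib.Blocks.blockCoeff_isClassFunction B) (CfsgLib.Blocks.blockCoeff_LR hM hind.2.1)
  rw [CfsgLib.Blocks.omega_blockCoeff, CfsgLib.Blocks.blockInd_of_mem hχ₀] at hcong
  have hwR : Cfsg.MemLocalRing M w := by
    have := CfsgLib.Blocks.LR.add hM (CfsgLib.Blocks.LI.memLocalRing hcong) (CfsgLib.Blocks.LR.one hM)
    simpa [hw] using this
  have hwI : ¬ Cfsg.MemLocalIdeal M w := by
    intro h
    apply CfsgLib.Blocks.LI.not_one hM
    simpa [hw] using CfsgLib.Blocks.LI.sub hM h hcong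
  set n : ℕ := ∑ χ ∈ B.toFinset, a χ * Cfsg.charDegree (χ : G → ℂ) with hn
  set d : ℕ := H.index * Cfsg.charDegree (ζ : H → ℂ) with hd
  have hd0 : d ≠ 0 :=
    mul_ne_zero Subgroup.index_ne_zero_of_finite (CfsgLib.Blocks.charDegree_pos ζ).ne'
  have heq : ((n : ℤ) : ℂ) = (d : ℂ) * w := by
    have h1 := CfsgLib.Blocks.blockPart_indFun_one B ζ
    rw [Cfsg.blockPart, Subsingleton.elim (Fintype.ofFinite G) ‹Fintype G›,
      finsum_mem_eq_toFinset_sum] at h1
    rw [Int.cast_natCast, hn, Nat.cast_sum, hd, Nat.cast_mul, ← CfsgLib.Blocks.irr_one_eq ζ, hw,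
      ← h1]
    refine Finset.sum_congr rfl fun χ _ => ?_
    rw [Nat.cast_mul, CfsgLib.Blocks.irr_one_eq, ha]
  obtain ⟨-, hiff⟩ := CfsgLib.Blocks.dvd_of_eq_natCast_mul hM hd0 hwR heq
  refine hwI (hiff.mpr ?_)
  -- the exponent of `p` in `d`
  have hdv : d.factorization p = CfsgLib.Blocks.minDegVal p B := by
    have h1 : Cfsg.blockDefect p b + CfsgLib.Blocks.minDegVal p b =
        (Nat.card H).factorization p :=
      CfsgLib.Blocks.blockDefect_add_min (CfsgLib.Blocks.IsPBlock.nonempty hM hind.1)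
    have h2 := CfsgLib.Blocks.blockDefect_add_min (p := p) ⟨χ₀, hχ₀⟩
    have h3 := congrArg (fun m : ℕ => m.factorization p) (Subgroup.card_mul_index H)
    simp only [Nat.factorization_mul Nat.card_pos.ne' Subgroup.index_ne_zero_of_finite,
      Finsupp.add_apply] at h3
    have h4 := (CfsgLib.Blocks.blockHeight_eq_zero_iff hζ).mp hζ0
    rw [hd, Nat.factorization_mul Subgroup.index_ne_zero_of_finite
      (CfsgLib.Blocks.charDegree_pos ζ).ne', Finsupp.add_apply]
    rw [CfsgLib.Blocks.degVal] at h4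
    omega
  rw [hdv, ← Nat.cast_pow, Int.natCast_dvd_natCast, hn]
  refine Finset.dvd_sum fun χ hχ => ?_
  rw [Set.mem_toFinset] at hχ
  have hpos := (CfsgLib.Blocks.charDegree_pos χ).ne'
  rcases Nat.lt_or_ge (CfsgLib.Blocks.minDegVal p B) (CfsgLib.Blocks.degVal p χ) with hlt | hge
  · exact dvd_mul_of_dvd_right ((hp.pow_dvd_iff_le_factorization hpos).mpr hlt) _
  · have hmin : CfsgLib.Blocks.degVal p χ = CfsgLib.Blocks.minDegVal p B :=
      le_antisymm hge (CfsgLib.Blocks.minDegVal_le hχ)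
    have hdvd : p ∣ a χ := by
      by_contra hnd
      exact hcon ⟨χ, hχ, (CfsgLib.Blocks.blockHeight_eq_zero_iff hχ).mpr hmin, a χ, ha χ, hnd⟩
    rw [pow_succ']
    exact Nat.mul_dvd_mul hdvd ((hp.pow_dvd_iff_le_factorization hpos).mpr hmin.ge)

end Cfsg.Agent.S4725
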