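import Cfsg.Statements.S4726
import Cfsg.Agent.Lib.BrauerPairs.MaximalCriterion
import Cfsg.Agent.Lib.BrauerPairs.NestedPairs

set_option autoImplicit false
open Cfsg

namespace Cfsg.Agent.S4726

open CfsgLib.Blocks CfsgLib.BrauerPairs
open scoped Classical

/-- Let p be a prime, M a maximal ideal of the algebraic integers containing p, H a subgroup of the finite group G and b a p-block of H with defect group D₀ such that C_G(D₀) ≤ H. Then b induces a block of G, and for every block B of G induced by b there is a defect group D of B with Z(D) ≤ Z(D₀) ≤ D₀ ≤ D (as subgroups of G). In particular, if the defect groups of B are abelian then D₀ is a defect group of B. -/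
theorem result {G : Type*} [Group G] [Finite G] (p : ℕ) [Fact p.Prime] (M : Ideal Cfsg.AlgInt) (hM : Cfsg.IsPModular p M) (H : Subgroup G) (b : Set (Cfsg.IrrCharacter ↥H)) (hb : Cfsg.IsPBlock M b) (D₀ : Subgroup ↥H) (hD₀ : Cfsg.IsDefectGroup p M b D₀) (hC : Subgroup.centralizer ((D₀.map H.subtype : Subgroup G) : Set G) ≤ H) : Cfsg.InducedBlockDefined M H b ∧ ∀ B : Set (Cfsg.IrrCharacter G), Cfsg.IsInducedBlock M H b B → (∃ D : Subgroup G, Cfsg.IsDefectGroup p M B D ∧ (Subgroup.center ↥D).map D.subtype ≤ ((Subgroup.center ↥D₀).map D₀.subtype).map H.subtype ∧ ((Subgroup.center ↥D₀).map D₀.subtype).map H.subtype ≤ D₀.map H.subtype ∧ D₀.map H.subtype ≤ D) ∧ (∀ D : Subgroup G, Cfsg.IsDefectGroup p M B D → IsMulCommutative ↥D → Cfsg.IsDefectGroup p M B (D₀.map H.subtype)) := by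
  have := Fintype.ofFinite G
  set Q := D₀.map H.subtype with hQ
  have hQp : IsPGroup p Q := IsPGroup.map (isPGroup_defectGroup hD₀) _
  obtain ⟨k, hk⟩ := exists_pair_of_defectGroup hM hb hD₀
  obtain ⟨k', hk', hl⟩ := exists_lift hC hk.1.2
  obtain ⟨B₀, hB₀⟩ := exists_block_of_pair hM (Q := Q) ⟨hQp, hk'⟩
  have hkind := (isBrauerPairOf_iff_induced hM hk.1.1 hk.1.2).1 hk
  have hk'ind := (isBrauerPairOf_iff_induced hM hQp hk').1 hB₀
  have hind : IsInducedBlock M H b B₀ := by
    refine ⟨hb, hB₀.2.1, fun ξ hξ χ hχ g => ?_⟩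
    obtain ⟨η, hη⟩ := IsPBlock.nonempty hM hk'
    obtain ⟨η₁, hη₁, he⟩ := (brauerOmega_lift (β := classInd g)
      (β₁ := fun x : H => classInd g (x : G)) hC (fun x => rfl) hl).1 η hη
    rw [brauerOmega_eq_omega, brauerOmega_eq_omega] at he
    have h1 := IsInducedBlock.omega_congr hM hkind hη₁ hξ
      (resFun_isClassFunction H (classInd_isClassFunction g)) (fun x => classInd_LR hM g _)
    have h2 := IsInducedBlock.omega_congr hM hk'ind hη hχ
      (classInd_isClassFunction g) (classInd_LR hM g)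
    rw [omega_classInd] at h2
    rw [inducedCentralChar_eq]
    exact LI.trans hM (LI.sub_comm h1) (he.symm ▸ h2)
  refine ⟨⟨B₀, hind⟩, fun B hB => ?_⟩
  obtain rfl : B₀ = B := IsInducedBlock.unique hM hind hB
  -- the defect group of the block of the centralizer
  have hmaxk := isMaximal_of_defectGroup hM hD₀ hk
  have hdk := (of_isMaximal hM hmaxk).1
  let φ := nestIso hC (coe_mem_centralizer_iff (R := D₀) (R' := Q) rfl)
  have himg : irrEquiv φ '' k' = k := bc_injective _ (funext fun x =>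
    (bc_image_nestIso hC (coe_mem_centralizer_iff rfl) k' x).trans (hl x).symm)
  have hdk' : IsDefectGroup p M k'
      (((D₀ ⊓ Subgroup.centralizer (D₀ : Set H)).subgroupOf
        (Subgroup.centralizer (D₀ : Set H))).map φ.toMonoidHom) :=
    isDefectGroup_map φ (himg.symm ▸ hdk)
  obtain ⟨P, e, hle, hmax⟩ := exists_maximal_above hM hB₀
  have hQP : Q ≤ P := subgroup_le_of_subpairLE hle
  have hPB := isDefectGroup_of_isMaximal hM hmax
  have hZ : P ⊓ Subgroup.centralizer (Q : Set G)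
      ≤ ((Subgroup.center ↥D₀).map D₀.subtype).map H.subtype := by
    intro x hx
    obtain ⟨D', hD', hDle⟩ := exists_defect_ge_centralizer hM hmax.1.1 hle
    obtain ⟨c, hc⟩ := exists_conj_eq_defectGroup hM hk' hdk' hD'
    have hmem : (⟨x, hx.2⟩ : Subgroup.centralizer (Q : Set G)) ∈ D' := hDle hx
    rw [hc] at hmem
    obtain ⟨_, ⟨y, hy, rfl⟩, hyx⟩ := hmem
    have hy1 : (y : H) ∈ D₀ := hy.1
    have hyQ : ((y : H) : G) ∈ Q := ⟨(y : H), hy1, rfl⟩
    have hyc : (c : G) * ((y : H) : G) * (c : G)⁻¹ = x := congrArg Subtype.val hyx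
    have hcy : (c : G) * ((y : H) : G) * (c : G)⁻¹ = ((y : H) : G) := by
      rw [← Subgroup.mem_centralizer_iff.1 c.2 _ hyQ, mul_inv_cancel_right]
    rw [← hyc, hcy]
    refine ⟨(y : H), ⟨⟨(y : H), hy1⟩, Subgroup.mem_center_iff.2 fun u => Subtype.ext ?_, rfl⟩, rfl⟩
    exact Subgroup.mem_centralizer_iff.1 hy.2 (u : H) u.2
  refine ⟨⟨P, hPB, ?_, Subgroup.map_mono (Subgroup.map_subtype_le _), hQP⟩, fun D hD hab => ?_⟩
  · rintro _ ⟨z, hz, rfl⟩
    exact hZ ⟨z.2, Subgroup.mem_centralizer_iff.2 fun q hq =>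
      congrArg Subtype.val (Subgroup.mem_center_iff.1 hz ⟨q, hQP hq⟩)⟩
  · obtain ⟨g, hg⟩ := exists_conj_eq_defectGroup hM hB₀.2.1 hD hPB
    have hPab : P ≤ Subgroup.centralizer (Q : Set G) := by
      intro x hx
      refine Subgroup.mem_centralizer_iff.2 fun q hq => ?_
      have hq' := hQP hq
      rw [hg] at hx hq'
      obtain ⟨u, hu, rfl⟩ := hx
      obtain ⟨v, hv, rfl⟩ := hq'
      rw [← map_mul, ← map_mul]
      exact congrArg _ (congrArg Subtype.val (hab.1.1 ⟨v, hv⟩ ⟨u, hu⟩))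
    have hPQ : P = Q := le_antisymm
      (fun x hx => Subgroup.map_mono (Subgroup.map_subtype_le _) (hZ ⟨hx, hPab hx⟩)) hQP
    exact hPQ ▸ hPB

end Cfsg.Agent.S4726
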