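import Cfsg.Statements.S4727
import Cfsg.Agent.Lib.BrauerPairs.KernelDescent
import Cfsg.Agent.Lib.Blocks.Section

set_option autoImplicit false
open Cfsg

namespace Cfsg.Agent.S4727

/-- Let p be a prime, π a set of primes containing p, M a maximal ideal of the algebraic integers containing p, and B a p-block of the finite group G with defect group D; let B₁ be the block of N_G(D) with defect group D that induces B (the Brauer correspondent of B). Suppose every element of O_π'(N_G(D)), the largest normal subgroup of N_G(D) whose order has no prime divisor in π, lies in the kernel of every member of B₁. If y is a p-element whose centralizer C has a normal Hall π'-subgroup (every element of C whose order has no prime divisor in π lies in O_π'(C)), then χ(y x) = χ(y) for every χ ∈ B and every x ∈ C whose order has no prime divisor in π. -/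
theorem result {G : Type*} [Group G] [Finite G] (p : ℕ) [Fact p.Prime] (M : Ideal Cfsg.AlgInt) (hM : Cfsg.IsPModular p M) (π : Set ℕ) (hpπ : p ∈ π) (B : Set (Cfsg.IrrCharacter G)) (hB : Cfsg.IsPBlock M B) (D : Subgroup G) (hBD : Cfsg.IsDefectGroup p M B D) (B₁ : Set (Cfsg.IrrCharacter ↥(Subgroup.normalizer (D : Set G)))) (hB₁ : Cfsg.IsInducedBlock M (Subgroup.normalizer (D : Set G)) B₁ B) (hB₁D : Cfsg.IsDefectGroup p M B₁ (D.subgroupOf (Subgroup.normalizer (D : Set G)))) (hker : ∀ n : ↥(Subgroup.normalizer (D : Set G)), n ∈ Cfsg.piCore {q | q ∉ π} ↥(Subgroup.normalizer (D : Set G)) → n ∈ Cfsg.blockKer B₁) (y : G) (hy : ∃ k : ℕ, orderOf y = p ^ k) (hC : ∀ x : ↥(Subgroup.centralizer ({y} : Set G)), (∀ q : ℕ, q.Prime → q ∣ orderOf x → q ∉ π) → x ∈ Cfsg.piCore {q | q ∉ π} ↥(Subgroup.centralizer ({y} : Set G))) : ∀ χ ∈ B, ∀ x : G, x ∈ Subgroup.centralizer ({y} : Set G) → (∀ q : ℕ, q.Prime → q ∣ orderOf x → q ∉ π) → (χ : G → ℂ) (y * x) = (χ : G → ℂ)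 y := by
  haveI := Fintype.ofFinite G
  intro χ hχ x hx hord
  classical
  have hyC : y ∈ Subgroup.centralizer ({y} : Set G) :=
    Subgroup.mem_centralizer_singleton_iff.2 rfl
  set C := Subgroup.centralizer ({y} : Set G) with hCdef
  have hordC : ∀ q : ℕ, q.Prime → q ∣ orderOf (⟨x, hx⟩ : C) → q ∉ π := by
    rwa [Subgroup.orderOf_mk]
  have hxcore : (⟨x, hx⟩ : C) ∈ Cfsg.piCore {q | q ∉ π} C := hC _ hordC
  have hreg : ¬ p ∣ orderOf (⟨x, hx⟩ : C) := fun h => hordC p hM.1 h hpπ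
  have hreg1 : ¬ p ∣ orderOf (1 : C) := by
    rw [orderOf_one]; exact fun h => hM.1.one_lt.ne' (Nat.dvd_one.1 h)
  have key : ∀ ψ ∈ CfsgLib.Blocks.sectionSet M C B,
      (ψ : C → ℂ) ⟨x, hx⟩ = (ψ : C → ℂ) 1 := by
    intro ψ hψ
    obtain ⟨D₀, hD₀⟩ := CfsgLib.Blocks.exists_isDefectGroup hM
      (CfsgLib.Blocks.isPBlock_blockOf (M := M) ψ)
    haveI : (Subgroup.zpowers (⟨y, hyC⟩ : C)).Normal := ⟨fun n hn g => by
      obtain ⟨i, rfl⟩ := Subgroup.mem_zpowers_iff.1 hn
      have hc : Commute g (⟨y, hyC⟩ : C) :=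
        Subtype.ext (Subgroup.mem_centralizer_singleton_iff.1 g.2)
      rw [(hc.zpow_right i).eq, mul_inv_cancel_right]
      exact hn⟩
    have hp' : IsPGroup p (Subgroup.zpowers (⟨y, hyC⟩ : C)) := by
      obtain ⟨k, hk⟩ := hy
      exact IsPGroup.of_card (n := k) (by rw [Nat.card_zpowers, Subgroup.orderOf_mk, hk])
    have hle := CfsgLib.Blocks.le_defectGroup_of_normal hM
      (CfsgLib.Blocks.isPBlock_blockOf ψ) hp' hD₀
    have hyQ : y ∈ D₀.map C.subtype := ⟨⟨y, hyC⟩, hle (Subgroup.mem_zpowers _), rfl⟩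
    have hcent : Subgroup.centralizer ((D₀.map C.subtype : Subgroup G) : Set G) ≤ C := fun z hz =>
      Subgroup.mem_centralizer_singleton_iff.2 (Subgroup.mem_centralizer_iff.1 hz y hyQ).symm
    exact CfsgLib.BrauerPairs.inKer_coreOut_iff.1 (CfsgLib.BrauerPairs.inKer_of_sub hM hpπ
      (CfsgLib.BrauerPairs.inKer_all_of_normalizer hM hpπ hBD hB₁ hB₁D hker) hψ hD₀ hcent)
      ⟨x, hx⟩ hxcore ψ (CfsgLib.Blocks.SameBlock_refl hM _)
  have e1 := CfsgLib.Blocks.blockPart_sectionSet hM hCdef hy hB χ hreg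
  have e2 := CfsgLib.Blocks.blockPart_sectionSet hM hCdef hy hB χ hreg1
  rw [CfsgLib.Blocks.blockPart_eq_sum, CfsgLib.Blocks.blockInd_of_mem hχ, one_mul] at e1 e2
  rw [Subgroup.coe_one, mul_one] at e2
  rw [← e2, ← e1]
  refine Finset.sum_congr rfl fun ψ _ => ?_
  by_cases hψ : ψ ∈ CfsgLib.Blocks.sectionSet M C B
  · rw [key ψ hψ]
  · rw [CfsgLib.Blocks.blockInd_of_notMem hψ, zero_mul, zero_mul]

end Cfsg.Agent.S4727
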