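import Cfsg.Statements.S4728
import Cfsg.Agent.Lib.BrauerPairs.KernelDescent

set_option autoImplicit false
open Cfsg

namespace Cfsg.Agent.S4728

/-- Let p be a prime, π a set of primes containing p, M a maximal ideal of the algebraic integers containing p, B a p-block of the finite group G with defect group D, and B₁ the block of N_G(D) with defect group D inducing B. Let D₀ be a p-subgroup, H₀ = D₀·C_G(D₀), and b a block of H₀ inducing B. Write O_π'(X) for the largest normal subgroup of X whose order has no prime divisor in π. Suppose that O_π'(C_G(D₀)) is a normal Hall π'-subgroup of C_G(D₀) (it contains every element of C_G(D₀) whose order has no prime divisor in π) and that every element of it lies in the kernel of every member of b. Then every element of O_π'(N_G(D)) lies in the kernel of every member of B₁. -/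
theorem result {G : Type*} [Group G] [Finite G] (p : ℕ) [Fact p.Prime] (M : Ideal Cfsg.AlgInt) (hM : Cfsg.IsPModular p M) (π : Set ℕ) (hpπ : p ∈ π) (B : Set (Cfsg.IrrCharacter G)) (hB : Cfsg.IsPBlock M B) (D : Subgroup G) (hBD : Cfsg.IsDefectGroup p M B D) (B₁ : Set (Cfsg.IrrCharacter ↥(Subgroup.normalizer (D : Set G)))) (hB₁ : Cfsg.IsInducedBlock M (Subgroup.normalizer (D : Set G)) B₁ B) (hB₁D : Cfsg.IsDefectGroup p M B₁ (D.subgroupOf (Subgroup.normalizer (D : Set G)))) (D₀ : Subgroup G) (hD₀ : IsPGroup p D₀) (H₀ : Subgroup G) (hH₀ : H₀ = D₀ ⊔ Subgroup.centralizer (D₀ : Set G)) (b : Set (Cfsg.IrrCharacter ↥H₀)) (hb : Cfsg.IsInducedBlock M H₀ b B) (hcompl : ∀ x : ↥(Subgroup.centralizer (D₀ : Set G)), (∀ q : ℕ, q.Prime → q ∣ orderOf x → q ∉ π) → x ∈ Cfsg.piCore {q | q ∉ π} ↥(Subgroup.centralizer (D₀ : Set G))) (hkerb : ∀ x : ↥(Subgroup.centralizer (D₀ : Set G)), x ∈ Cfsg.piCore {q | q ∉ π} ↥(Subgroup.centralizer (D₀ : Set G)) → ∀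 θ ∈ b, ∀ h : ↥H₀, (h : G) = (x : G) → (θ : ↥H₀ → ℂ) h = (θ : ↥H₀ → ℂ) 1) : ∀ n : ↥(Subgroup.normalizer (D : Set G)), n ∈ Cfsg.piCore {q | q ∉ π} ↥(Subgroup.normalizer (D : Set G)) → n ∈ Cfsg.blockKer B₁ := by
  haveI := Fintype.ofFinite G
  classical
  have hDH : D₀ ≤ H₀ := by rw [hH₀]; exact le_sup_left
  have hCH : Subgroup.centralizer (D₀ : Set G) ≤ H₀ := by rw [hH₀]; exact le_sup_right
  have hHN : H₀ ≤ Subgroup.normalizer (D₀ : Set G) :=
    hH₀ ▸ sup_le Subgroup.le_normalizer (CfsgLib.Blocks.centralizer_le_normalizer D₀)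
  haveI := CfsgLib.Blocks.normal_subgroupOf_of_le_normalizer hDH hHN
  have hD₀' : IsPGroup p (D₀.subgroupOf H₀) := hD₀.of_injective
    (Subgroup.subgroupOfEquivOfLe hDH).toMonoidHom (Subgroup.subgroupOfEquivOfLe hDH).injective
  obtain ⟨c, hc, hne⟩ := CfsgLib.Blocks.exists_coeff_not_LI_centralizer hM hD₀' hb.1
  obtain ⟨k₀, hk₀, h1⟩ := CfsgLib.BrauerPairs.exists_pair_sub hM hD₀ hDH hCH hb
    ((CfsgLib.BrauerPairs.mem_centralizer_subgroupOf_iff hDH c).1 hc) hne
  have hkb : CfsgLib.BrauerPairs.InKer H₀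
      (CfsgLib.BrauerPairs.coreOut π (Subgroup.centralizer (D₀ : Set G))) b := by
    rintro θ hθ n ⟨m, hm, hmn⟩
    exact hkerb m hm θ hθ n hmn.symm
  have hk0 := (CfsgLib.BrauerPairs.inKer_step hM hD₀ hCH hb.1
    (fun u hu => CfsgLib.BrauerPairs.bc_fixes_of_mem (hDH hu) _) hk₀.1.2 h1
    ((CfsgLib.BrauerPairs.coreOut_le π _).trans hCH)
    (fun x hx => CfsgLib.BrauerPairs.coreOut_normalized
      (CfsgLib.BrauerPairs.centralizer_conj_iff (hHN hx)))
    (fun u hu => CfsgLib.BrauerPairs.coreOut_normalized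
      (CfsgLib.BrauerPairs.centralizer_conj_iff (hHN (hDH hu))))
    (CfsgLib.BrauerPairs.coreOut_p' hM hpπ _)).1 hkb
  obtain ⟨R, g, hle, hmax⟩ := CfsgLib.BrauerPairs.exists_maximal_above hM hk₀
  have hg := CfsgLib.BrauerPairs.inKer_up hM hpπ hle (fun x hx hx' =>
    CfsgLib.BrauerPairs.mem_coreOut_coe_iff.2
      (hcompl ⟨x, hx⟩ (by rwa [Subgroup.orderOf_mk]))) hk0
  obtain ⟨k, hk, hiff⟩ := CfsgLib.BrauerPairs.exists_maximal_inKer_iff hM hpπ hBD hB₁ hB₁D
  exact CfsgLib.BrauerPairs.inKer_coreOut_iff.1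
    (hiff.2 (CfsgLib.BrauerPairs.inKer_all hM hpπ hmax hg D k hk.1))

end Cfsg.Agent.S4728
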