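import Cfsg.Statements.S4729
import Cfsg.Agent.Lib.DegreeTools.Eigen
import Cfsg.Agent.Lib.DegreeTools.ModM
import Mathlib.LinearAlgebra.Determinant
-- import your own Cfsg.Agent.* helpers here

set_option autoImplicit false
open Cfsg

namespace Cfsg.Agent.S4729

open CfsgLib.DegreeTools

/-- A map equal to `c` on a `p`-dimensional range of an idempotent and `1` on its kernel. -/
theorem det_eq_pow {V : Type*} [AddCommGroup V] [Module ℂ V] [FiniteDimensional ℂ V]
    (P : Module.End ℂ V) (hP : IsIdempotentElem P) (c : ℂ) :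
    LinearMap.det (1 + (c - 1) • P) = c ^ Module.finrank ℂ (LinearMap.range P) := by
  have hproj : LinearMap.IsProj (LinearMap.range P) P :=
    LinearMap.IsProj.mk (fun x => LinearMap.mem_range_self _ x) (by
      rintro x ⟨y, rfl⟩; exact LinearMap.congr_fun hP.eq y)
  let e := Submodule.prodEquivOfIsCompl _ _ hproj.isCompl
  have h : (1 + (c - 1) • P : Module.End ℂ V) = (e : _ →ₗ[ℂ] V) ∘ₗ
      LinearMap.prodMap (c • LinearMap.id) LinearMap.id ∘ₗ (e.symm : V →ₗ[ℂ] LinearMap.range P × LinearMap.ker P) := by
    apply LinearMap.ext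
    intro v
    obtain ⟨⟨a, b⟩, rfl⟩ := e.surjective v
    simp only [LinearMap.coe_comp, LinearEquiv.coe_coe, Function.comp_apply,
      LinearEquiv.symm_apply_apply, LinearMap.prodMap_apply, LinearMap.smul_apply,
      LinearMap.id_apply]
    have ha : P (a : V) = a := hproj.map_id _ a.2
    have hb : P (b : V) = 0 := LinearMap.mem_ker.mp b.2
    simp only [e, Submodule.coe_prodEquivOfIsCompl', LinearMap.add_apply, Module.End.one_apply,
      LinearMap.smul_apply, map_add, ha, hb, add_zero, Submodule.coe_smul]
    module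
  rw [h, LinearMap.det_conj, LinearMap.det_prodMap, LinearMap.det_smul, LinearMap.det_id,
    LinearMap.det_id, mul_one, mul_one]

/-- Perfect group: every representation has determinant one. -/
theorem det_eq_one {G V : Type*} [Group G] [AddCommGroup V] [Module ℂ V]
    (hperf : commutator G = ⊤) (ρ : Representation ℂ G V) (g : G) : LinearMap.det (ρ g) = 1 := by
  let f : G →* ℂˣ := MonoidHom.toHomUnits ((LinearMap.det).comp ρ)
  have := Abelianization.commutator_subset_ker f (hperf ▸ Subgroup.mem_top g)
  simpa [f] using congrArg Units.val (MonoidHom.mem_ker.mp this)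

/-- Let p be a prime, M a maximal ideal of the algebraic integers containing p, G a finite perfect group and P a Sylow p-subgroup. If the principal p-block of G contains a faithful irreducible character of degree less than 2p, then the centralizer of P is a p-group. -/
theorem result {G : Type*} [Group G] [Finite G] (p : ℕ) [Fact p.Prime] (M : Ideal Cfsg.AlgInt) (hM : Cfsg.IsPModular p M) (hperf : commutator G = ⊤) (P : Sylow p G) (χ : Cfsg.IrrCharacter G) (hχ : χ ∈ Cfsg.principalBlock M G) (hfaith : ∀ g : G, (χ : G → ℂ) g = (χ : G → ℂ) 1 → g = 1) (hdeg : Cfsg.charDegree (χ : G → ℂ) < 2 * p) : IsPGroup p ↥(Subgroup.centralizer ((P : Subgroup G) : Set G)) := by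
  have hp : p.Prime := Fact.out
  have hMp : M.IsPrime := hM.2.1.isPrime
  obtain ⟨d, ρ, hirr, hρ⟩ := χ.2
  have hχ1 : (χ : G → ℂ) 1 = (d : ℂ) := by rw [← hρ, Representation.char_one]; simp
  have hd : Cfsg.charDegree (χ : G → ℂ) = d := by
    rw [Cfsg.charDegree, hχ1, Complex.natCast_re, Nat.floor_natCast]
  have hd2 : d < 2 * p := hd ▸ hdeg
  rw [IsPGroup.iff_card]
  suffices h : ∀ {q : ℕ}, q.Prime →
      q ∣ Nat.card (Subgroup.centralizer ((P : Subgroup G) : Set G)) → q = p from
    ⟨_, Nat.eq_prime_pow_of_unique_prime_dvd Nat.card_pos.ne' h⟩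
  intro q hq hqdvd
  by_contra hqp
  haveI : Fact q.Prime := ⟨hq⟩
  obtain ⟨⟨x, hxC⟩, hxo⟩ := exists_prime_orderOf_dvd_card' q hqdvd
  rw [Subgroup.orderOf_mk] at hxo
  have hxq : x ^ q = 1 := hxo ▸ pow_orderOf_eq_one x
  -- the class of `x` has size prime to `p`
  have hidx : ¬ p ∣ (Subgroup.centralizer ({x} : Set G)).index := by
    intro h
    refine P.not_dvd_index (h.trans (Subgroup.index_dvd_of_le ?_))
    intro y hy
    rw [Subgroup.mem_centralizer_singleton_iff]
    exact Subgroup.mem_centralizer_iff.mp hxC y hy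
  obtain ⟨ω, hω⟩ : ∃ ω : ℂ, IsPrimitiveRoot ω q :=
    ⟨_, Complex.isPrimitiveRoot_exp q hq.ne_zero⟩
  let w : Cfsg.AlgInt := ⟨ω, hω.isIntegral hq.pos⟩
  have hw : IsPrimitiveRoot w q := IsPrimitiveRoot.of_map_of_injective
    (f := Cfsg.AlgInt.val.toRingHom.toMonoidHom) hω Subtype.val_injective
  set m : ℕ → ℕ := fun k => Eigen.mult (ρ x) q (ω ^ k) with hm
  have hT : ρ x ^ q = 1 := by rw [← map_pow, hxq, map_one]
  let S : ℕ → Cfsg.AlgInt := fun j => ∑ k ∈ Finset.range q, (m k : Cfsg.AlgInt) * w ^ (k * j)
  have hS : ∀ j, ((S j : Cfsg.AlgInt) : ℂ) = (χ : G → ℂ) (x ^ j) := by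
    intro j
    rw [← hρ, Eigen.char_pow_eq_sum ρ x hω hq.ne_zero hxq]
    simp [S, m, w]
  -- the congruence coming from the principal block
  have hcong : ∀ j, S j - (d : Cfsg.AlgInt) ∈ M := by
    intro j
    rcases Nat.eq_zero_or_pos (j % q) with hj | hj
    · have hx1 : x ^ j = 1 := by
        rw [← pow_mod_orderOf, hxo, hj, pow_zero]
      have : S j = (d : Cfsg.AlgInt) := Subtype.ext (by rw [hS, hx1, hχ1]; simp)
      simp [this]
    · have hcop : Nat.Coprime (orderOf x) j := by
        rw [hxo]
        exact hq.coprime_iff_not_dvd.mpr fun h => by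
          simp [Nat.mod_eq_zero_of_dvd h] at hj
      have hC : Subgroup.centralizer ({x ^ j} : Set G) = Subgroup.centralizer ({x} : Set G) := by
        obtain ⟨i, hi⟩ := exists_pow_eq_self_of_coprime hcop.symm
        ext y
        simp only [Subgroup.mem_centralizer_singleton_iff]
        constructor
        · intro h
          have h' : Commute (x ^ j) y := h.symm
          have := h'.pow_left i
          rw [hi] at this
          exact this.eq.symm
        · intro h
          exact ((show Commute x y from h.symm).pow_left j).eq.symm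
      obtain ⟨a, b, ha, hb, hab⟩ := hχ (x ^ j)
      rw [Cfsg.centralChar, Cfsg.centralChar, hC] at hab
      set e := (Subgroup.centralizer ({x} : Set G)).index
      have hb0 : (b : ℂ) ≠ 0 := fun h0 => hb (by
        rw [show b = 0 from Subtype.ext h0]; exact M.zero_mem)
      have hd0 : (d : ℂ) ≠ 0 := by
        rcases Nat.eq_zero_or_pos d with h0 | h0
        · exfalso
          subst h0
          haveI := CfsgLib.DegreeTools.Eigen.nontrivial_of_isIrreducible hirr
          exact not_subsingleton (Fin 0 → ℂ) inferInstance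
        · exact_mod_cast h0.ne'
      rw [← hS, hχ1] at hab
      have key : a * (d : Cfsg.AlgInt) + b * ((e : Cfsg.AlgInt) * (S j - (d : Cfsg.AlgInt))) = 0 := by
        apply Subtype.ext
        field_simp at hab
        push_cast
        linear_combination hab
      have hmem : b * ((e : Cfsg.AlgInt) * (S j - (d : Cfsg.AlgInt))) ∈ M := by
        rw [eq_neg_of_add_eq_zero_right key]
        exact M.neg_mem (M.mul_mem_right _ ha)
      rcases hMp.mem_or_mem hmem with h | h
      · exact absurd h hb
      rcases hMp.mem_or_mem h with h | h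
      · exact absurd ((ModM.natCast_mem_iff hM e).mp h) hidx
      · exact h
  have hdvd : ∀ l, l < q → l ≠ 0 → p ∣ m l := by
    intro l hl hl0
    have h1 : ∑ j ∈ Finset.range q, w ^ ((q - l) * j) * (S j - (d : Cfsg.AlgInt)) ∈ M :=
      M.sum_mem fun j _ => M.mul_mem_left _ (hcong j)
    have h2 : ∑ j ∈ Finset.range q, w ^ ((q - l) * j) * (S j - (d : Cfsg.AlgInt))
        = (q : Cfsg.AlgInt) * (m l : Cfsg.AlgInt) := by
      have horth : ∀ i : ℕ, ∑ j ∈ Finset.range q, w ^ (i * j) =
          if q ∣ i then (q : Cfsg.AlgInt) else 0 := by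
        intro i
        split_ifs with hi
        · obtain ⟨r, rfl⟩ := hi
          simp [pow_mul, hw.pow_eq_one]
        · have hne : w ^ i ≠ 1 := fun h => hi ((hw.pow_eq_one_iff_dvd i).mp h)
          have := geom_sum_mul (w ^ i) q
          rw [← pow_mul, mul_comm i q, pow_mul, hw.pow_eq_one, one_pow, sub_self] at this
          simp only [← pow_mul] at this
          rcases mul_eq_zero.mp this with h | h
          · exact h
          · exact absurd (sub_eq_zero.mp h) hne
      simp only [mul_sub, Finset.sum_sub_distrib, ← Finset.sum_mul, S, Finset.mul_sum]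
      rw [Finset.sum_comm, horth (q - l), if_neg (fun h => by
        have := Nat.le_of_dvd (by omega) h; omega), zero_mul, sub_zero]
      rw [Finset.sum_eq_single l]
      · calc _ = (∑ j ∈ Finset.range q, w ^ (q * j)) * (m l : Cfsg.AlgInt) := by
              rw [Finset.sum_mul]
              refine Finset.sum_congr rfl fun j _ => ?_
              rw [mul_left_comm, ← pow_add, ← add_mul, Nat.sub_add_cancel hl.le, mul_comm]
          _ = _ := by rw [horth, if_pos dvd_rfl]
      · intro k hk hkl
        calc _ = (∑ j ∈ Finset.range q, w ^ ((q - l + k) * j)) * (m k : Cfsg.AlgInt) := by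
              rw [Finset.sum_mul]
              refine Finset.sum_congr rfl fun j _ => ?_
              rw [mul_left_comm, ← pow_add, ← add_mul, mul_comm]
          _ = 0 := by
            rw [horth, if_neg, zero_mul]
            intro h
            have hkq := Finset.mem_range.mp hk
            rcases h with ⟨r, hr⟩
            rcases r with _ | _ | r
            · omega
            · omega
            · have : q * 2 ≤ q * (r + 1 + 1) := Nat.mul_le_mul_left q (by omega)
              omega
      · intro h; exact absurd (Finset.mem_range.mpr hl) h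
    rw [h2] at h1
    rcases hMp.mem_or_mem h1 with h | h
    · exact absurd ((ModM.natCast_mem_iff hM q).mp h)
        (fun h => hqp ((Nat.prime_dvd_prime_iff_eq hp hq).mp h).symm)
    · exact (ModM.natCast_mem_iff hM _).mp h
  have hsum : ∑ k ∈ Finset.range q, m k = d := by
    simp only [m]
    rw [Eigen.sum_mult hω hT hq.ne_zero]; simp
  have hx1 : ρ x = 1 := by
    by_cases hz : ∀ k < q, k ≠ 0 → m k = 0
    · have := Eigen.eq_smul_of_mult_eq_zero hω hT hq.ne_zero hq.pos hz
      simpa using this
    push Not at hz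
    obtain ⟨l, hl, hl0, hml⟩ := hz
    have hlp : m l = p := by
      obtain ⟨r, hr⟩ := hdvd l hl hl0
      have : m l ≤ d := hsum ▸ Finset.single_le_sum (fun _ _ => Nat.zero_le _)
        (Finset.mem_range.mpr hl)
      rcases r with _ | _ | r
      · simp [hr] at hml
      · simpa using hr
      · rw [hr] at this; nlinarith
    have hothers : ∀ k < q, k ≠ 0 → k ≠ l → m k = 0 := by
      intro k hk hk0 hkl
      by_contra hmk
      have hkp : p ≤ m k := Nat.le_of_dvd (Nat.pos_of_ne_zero hmk) (hdvd k hk hk0)
      have := Finset.sum_le_sum_of_subset (f := m) (s := {k, l}) (t := Finset.range q)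
        (by intro a ha; simp only [Finset.mem_insert, Finset.mem_singleton] at ha
            rcases ha with rfl | rfl <;> simpa)
      rw [Finset.sum_pair hkl, hsum] at this
      omega
    set Q := Eigen.proj (ρ x) q (ω ^ l) with hQ
    have hQ' : ∀ k ∈ Finset.range q, k ≠ 0 → k ≠ l → Eigen.proj (ρ x) q (ω ^ k) = 0 := by
      intro k hk h0 hkl
      rw [← LinearMap.range_eq_bot]
      exact Submodule.finrank_eq_zero.mp (hothers k (Finset.mem_range.mp hk) h0 hkl)
    have e0 := Eigen.sum_pow_smul_proj hω hT hq.ne_zero 0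
    have e1 := Eigen.sum_pow_smul_proj hω hT hq.ne_zero 1
    have hsub : ({0, l} : Finset ℕ) ⊆ Finset.range q := by
      intro a ha; simp only [Finset.mem_insert, Finset.mem_singleton] at ha
      rcases ha with rfl | rfl <;> simp [hl, hq.pos]
    rw [← Finset.sum_subset hsub (fun k hk hk' => by
      simp only [Finset.mem_insert, Finset.mem_singleton, not_or] at hk'
      simp [hQ' k hk hk'.1 hk'.2]), Finset.sum_pair (Ne.symm hl0)] at e0 e1
    simp only [mul_zero, pow_zero, one_smul, mul_one, zero_mul, pow_one] at e0 e1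
    have hρx : ρ x = 1 + (ω ^ l - 1) • Q := by
      rw [← e1, ← e0, hQ]; module
    have hdet := det_eq_one hperf ρ x
    rw [hρx, det_eq_pow Q (Eigen.isIdempotentElem_proj hT
      (by rw [← pow_mul, mul_comm, pow_mul, hω.pow_eq_one, one_pow]) hq.ne_zero)] at hdet
    change (ω ^ l) ^ (m l) = 1 at hdet
    rw [hlp, ← pow_mul, hω.pow_eq_one_iff_dvd] at hdet
    exfalso
    rcases hq.dvd_mul.mp hdet with h | h
    · have := Nat.le_of_dvd (Nat.pos_of_ne_zero hl0) h
      omega
    · exact hqp ((Nat.prime_dvd_prime_iff_eq hq hp).mp h)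
  have : x = 1 := hfaith x (by rw [← hρ]; simp [Representation.character, hx1])
  rw [this, orderOf_one] at hxo
  exact hq.ne_one hxo.symm


end Cfsg.Agent.S4729
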