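import Cfsg.Statements.S4730
import Cfsg.Agent.Lib.DegreeTools.Basic
import Cfsg.Agent.Lib.Blocks.LocalRing
-- import your own Cfsg.Agent.* helpers here

set_option autoImplicit false
open Cfsg

namespace Cfsg.Agent.S4730

open CfsgLib.Char CfsgLib.DegreeTools

/-- Let p be a prime, M a maximal ideal of the algebraic integers containing p, and G a finite group with trivial centre, Sylow p-subgroup P of order p^a and centre Z(P) of order p^b. If χ is a faithful irreducible character of G whose degree is a power of p, then the p-block of χ has defect at most a − b; in particular, if P is abelian then χ lies in a block of defect zero. -/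
theorem result {G : Type*} [Group G] [Finite G] (p : ℕ) [Fact p.Prime] (M : Ideal Cfsg.AlgInt) (hM : Cfsg.IsPModular p M) (hZ : Subgroup.center G = ⊥) (P : Sylow p G) (a b : ℕ) (ha : Nat.card P = p ^ a) (hb : Nat.card (Subgroup.center ↥(P : Subgroup G)) = p ^ b) (χ : Cfsg.IrrCharacter G) (hfaith : ∀ g : G, (χ : G → ℂ) g = (χ : G → ℂ) 1 → g = 1) (n : ℕ) (hdeg : Cfsg.charDegree (χ : G → ℂ) = p ^ n) : Cfsg.blockDefect p (Cfsg.blockOf M (χ : G → ℂ)) ≤ a - b ∧ (IsMulCommutative ↥(P : Subgroup G) → Cfsg.blockDefect p (Cfsg.blockOf M (χ : G → ℂ)) = 0) := by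
  classical
  cases nonempty_fintype G
  have hp : p.Prime := Fact.out
  have hA : (Nat.card G).factorization p = a :=
    Nat.pow_right_injective hp.two_le (P.card_eq_multiplicity.symm.trans ha)
  set Z : Subgroup G := (Subgroup.center ↥(P : Subgroup G)).map (P : Subgroup G).subtype with hZdef
  have hZcard : Nat.card Z = p ^ b := by
    rw [hZdef, Subgroup.card_map_of_injective (Subgroup.subtype_injective _), hb]
  -- the class of a central element of `P` has size prime to `p`
  have hZidx : ∀ z ∈ Z, ¬ p ∣ (Subgroup.centralizer ({z} : Set G)).index := by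
    rintro _ ⟨z, hz, rfl⟩ hd
    refine P.not_dvd_index (hd.trans (Subgroup.index_dvd_of_le fun g hg => ?_))
    rw [Subgroup.mem_centralizer_singleton_iff]
    exact congrArg Subtype.val (Subgroup.mem_center_iff.mp hz ⟨g, hg⟩)
  have hvan : ∀ z ∈ Z, z ≠ 1 → (χ : G → ℂ) z = 0 := by
    intro z hz hz1
    have hcop : ((Subgroup.centralizer ({z} : Set G)).index).Coprime
        (Cfsg.charDegree (χ : G → ℂ)) := by
      rw [hdeg]
      exact ((hp.coprime_iff_not_dvd.mpr (hZidx z hz)).symm).pow_right n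
    refine (eq_zero_or_norm_eq_of_coprime χ z hcop).resolve_right fun h => hz1 ?_
    have := mem_center_of_norm_eq χ hfaith z h
    rwa [hZ, Subgroup.mem_bot] at this
  have hmain : ∀ ψ ∈ Cfsg.blockOf M (χ : G → ℂ),
      b ≤ (Cfsg.charDegree (ψ : G → ℂ)).factorization p := by
    intro ψ hψ
    by_contra hlt
    push Not at hlt
    set d := Cfsg.charDegree (ψ : G → ℂ) with hd
    have hd0 : (d : ℂ) ≠ 0 := Nat.cast_ne_zero.mpr (deg_pos ψ).ne'
    have hsmall : ∀ z ∈ Z, z ≠ 1 → Cfsg.MemLocalIdeal M ((ψ : G → ℂ) z / (ψ : G → ℂ) 1) := by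
      intro z hz hz1
      have h1 := CfsgLib.Blocks.LI.neg (hψ z)
      rw [Cfsg.centralChar, hvan z hz hz1, mul_zero, zero_div, zero_sub, neg_neg, Cfsg.centralChar]
        at h1
      have hk : ¬ Cfsg.MemLocalIdeal M
          ((Subgroup.centralizer ({z} : Set G)).index : ℂ) :=
        fun h => hZidx z hz ((CfsgLib.Blocks.LI.natCast_iff hM _).mp h)
      have h2 := CfsgLib.Blocks.LI.mul_left hM
        (CfsgLib.Blocks.LR.inv hM (CfsgLib.Blocks.LR.natCast hM _) hk) h1
      have hne := CfsgLib.Blocks.ne_zero_of_not_LI hM hk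
      convert h2 using 1
      field_simp
    obtain ⟨m, hm⟩ := IsCharacter.classInner_nat (IsCharacter.restrict (isCharacter_irr ψ) Z)
      (isCharacter_one (G := Z))
    rw [classInner_fun_one_right, inv_mul_eq_iff_eq_mul₀ card_ne_zero, hZcard] at hm
    rw [← Finset.add_sum_erase _ _ (Finset.mem_univ (1 : Z))] at hm
    have hsum : Cfsg.MemLocalIdeal M
        (∑ z ∈ Finset.univ.erase (1 : Z), (ψ : G → ℂ) z / (ψ : G → ℂ) 1) :=
      CfsgLib.Blocks.LI.sum hM fun z hz =>
        hsmall z z.2 fun e => Finset.ne_of_mem_erase hz (Subtype.ext e)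
    set v := d.factorization p with hv
    obtain ⟨r, hr⟩ : p ^ v ∣ d := Nat.ordProj_dvd d p
    have hrp : ¬ p ∣ r := by
      have := Nat.not_dvd_ordCompl hp (deg_pos ψ).ne'
      rwa [← hv, ← hd, hr, Nat.mul_div_cancel_left _ (pow_pos hp.pos v)] at this
    have hrLI : ¬ Cfsg.MemLocalIdeal M (r : ℂ) :=
      fun h => hrp ((CfsgLib.Blocks.LI.natCast_iff hM _).mp h)
    have hr0 := CfsgLib.Blocks.ne_zero_of_not_LI hM hrLI
    have hq : Cfsg.MemLocalIdeal M ((p ^ b : ℕ) * (m : ℂ) / (d : ℂ)) := by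
      have h1 : (((p ^ b : ℕ) : ℂ)) * (m : ℂ) / (d : ℂ) =
          ((p ^ (b - v) * m : ℕ) : ℂ) * (r : ℂ)⁻¹ := by
        rw [hr, show p ^ b = p ^ v * p ^ (b - v) by rw [← pow_add]; congr 1; omega]
        push_cast
        have hp0 : (p : ℂ) ^ v ≠ 0 := pow_ne_zero _ (Nat.cast_ne_zero.mpr hp.ne_zero)
        field_simp
      rw [h1]
      exact CfsgLib.Blocks.LI.mul_right hM
        ((CfsgLib.Blocks.LI.natCast_iff hM _).mpr
          (dvd_mul_of_dvd_left (dvd_pow_self p (by omega)) m))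
        (CfsgLib.Blocks.LR.inv hM (CfsgLib.Blocks.LR.natCast hM _) hrLI)
    apply CfsgLib.Blocks.LI.not_one hM
    have h2 : (1 : ℂ) = (p ^ b : ℕ) * (m : ℂ) / (d : ℂ) -
        ∑ z ∈ Finset.univ.erase (1 : Z), (ψ : G → ℂ) z / (ψ : G → ℂ) 1 := by
      rw [← Finset.sum_div, hd, deg_cast, ← hm, Subgroup.coe_one, ← sub_div]
      rw [add_sub_cancel_right, div_self (IsIrrCharacter.apply_one_ne_zero ψ.2)]
    rw [h2]
    exact CfsgLib.Blocks.LI.sub hM hq hsum
  have hbound : Cfsg.blockDefect p (Cfsg.blockOf M (χ : G → ℂ)) ≤ a - b := by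
    rw [Cfsg.blockDefect, hA]
    refine Nat.sub_le_sub_left ?_ a
    refine le_csInf ?_ ?_
    · exact ⟨_, χ, fun g => by rw [sub_self]; exact CfsgLib.Blocks.LI.zero hM, rfl⟩
    · rintro _ ⟨ψ, hψ, rfl⟩
      exact hmain ψ hψ
  refine ⟨hbound, fun hab => ?_⟩
  have hc : Subgroup.center ↥(P : Subgroup G) = ⊤ :=
    eq_top_iff.mpr fun x _ => Subgroup.mem_center_iff.mpr fun y => hab.is_comm.comm y x
  rw [hc, Subgroup.card_top, ha] at hb
  rw [Nat.pow_right_injective hp.two_le hb, Nat.sub_self] at hbound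
  exact Nat.le_zero.mp hbound

end Cfsg.Agent.S4730
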