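import Cfsg.Statements.S4731
import Cfsg.Agent.Lib.Blocks.RegularInner
import Cfsg.Agent.Lib.DegreeTools.Basic

set_option autoImplicit false
open Cfsg

namespace Cfsg.Agent.S4731

open CfsgLib.Blocks
open scoped Classical

/-- Let p ≠ q be primes, M_p and M_q maximal ideals of the algebraic integers containing p and q respectively, and G a finite group with no element of order pq; let q^b be the q-part of the order of G. For a p-block B_p (relative to M_p), a q-block B_q (relative to M_q) and a p-singular element y, the sum of χ(1)χ(y) over the irreducible characters χ lying in both B_p and B_q is q^b times an algebraic integer. -/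
theorem result {G : Type*} [Group G] [Finite G] (p q : ℕ) [Fact p.Prime] [Fact q.Prime] (hpq : p ≠ q) (Mp Mq : Ideal Cfsg.AlgInt) (hMp : Cfsg.IsPModular p Mp) (hMq : Cfsg.IsPModular q Mq) (hno : ∀ g : G, orderOf g ≠ p * q) (b : ℕ) (hb : (Nat.card G).factorization q = b) (Bp : Set (Cfsg.IrrCharacter G)) (hBp : Cfsg.IsPBlock Mp Bp) (Bq : Set (Cfsg.IrrCharacter G)) (hBq : Cfsg.IsPBlock Mq Bq) (y : G) (hy : p ∣ orderOf y) : ∃ ω : Cfsg.AlgInt, ∑ᶠ χ ∈ Bp ∩ Bq, (Cfsg.charDegree (χ : G → ℂ) : ℂ) * (χ : G → ℂ) y = (q : ℂ) ^ b * (ω : ℂ) := by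
  have := Fintype.ofFinite G
  have hq : q.Prime := Fact.out
  have hreg : ∀ x : G, q ∣ orderOf x → IsPRegular p x := by
    intro x hx
    by_contra hs
    rw [not_isPRegular] at hs
    have hd : p * q ∣ orderOf x :=
      ((Nat.coprime_primes Fact.out hq).2 hpq).mul_dvd_of_dvd_of_dvd hs hx
    obtain ⟨k, hk⟩ := hd
    refine hno (x ^ k) ?_
    have hpos := orderOf_pos x
    have hk0 : k ≠ 0 := by rintro rfl; rw [mul_zero] at hk; omega
    rw [orderOf_pow' x hk0, Nat.gcd_eq_right ⟨p * q, by rw [hk]; ring⟩, hk,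
      Nat.mul_div_cancel _ (Nat.pos_of_ne_zero hk0)]
  let a : IrrCharacter G → ℂ := fun χ => blockInd Bp χ * (χ : G → ℂ) y
  have hf : ∀ x : G, q ∣ orderOf x → ∑ χ, a χ * (χ : G → ℂ) x = 0 := by
    intro x hx
    simp only [a, mul_assoc]
    exact (IsPBlock.isLocalOn hMp hBp).sum_mul_eq_zero hMp (blockInd_mul_self Bp) hy (hreg x hx)
  have hq0 : (pPartCard q G : ℂ) ≠ 0 := pPartCard_ne_zero hq
  have hG0 := CfsgLib.Char.card_ne_zero (G := G)
  have hcoef : ∀ ψ : IrrCharacter G,
      ∑ χ, a χ * regInner q (χ : G → ℂ) (ψ : G → ℂ) = (pPartCard q G : ℂ) * a ψ := by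
    intro ψ
    calc ∑ χ, a χ * regInner q (χ : G → ℂ) (ψ : G → ℂ)
        = (pPartCard q G : ℂ) * (Nat.card G : ℂ)⁻¹ *
            ∑ x : G with IsPRegular q x, (∑ χ, a χ * (χ : G → ℂ) x) * (ψ : G → ℂ) x⁻¹ := by
          simp only [regInner, Finset.mul_sum, Finset.sum_mul]
          rw [Finset.sum_comm]
          exact Finset.sum_congr rfl fun x _ => Finset.sum_congr rfl fun χ _ => by ring
      _ = (pPartCard q G : ℂ) * (Nat.card G : ℂ)⁻¹ *
            ∑ x : G, (∑ χ, a χ * (χ : G → ℂ) x) * (ψ : G → ℂ) x⁻¹ := by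
          rw [Finset.sum_filter_of_ne fun x _ hx => by
            by_contra hs
            exact hx (by rw [hf x (not_isPRegular.1 hs), zero_mul])]
      _ = _ := by
          simp only [Finset.sum_mul]
          rw [Finset.sum_comm, Finset.sum_eq_single ψ]
          · simp only [mul_assoc]
            rw [← Finset.mul_sum, sum_mul_inv, if_pos rfl]
            field_simp
          · intro χ _ hne
            simp only [mul_assoc]
            rw [← Finset.mul_sum, sum_mul_inv, if_neg hne, mul_zero]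
          · simp
  let g : G → ℂ := fun x => ∑ ψ, blockInd Bq ψ * a ψ * (ψ : G → ℂ) x
  have hg : ∀ x : G, q ∣ orderOf x → g x = 0 := by
    intro x hx
    have h1 : (pPartCard q G : ℂ) * g x = ∑ χ, a χ *
        ∑ ψ, blockInd Bq ψ * regInner q (χ : G → ℂ) (ψ : G → ℂ) * (ψ : G → ℂ) x := by
      simp only [g, Finset.mul_sum]
      rw [Finset.sum_comm]
      refine Finset.sum_congr rfl fun ψ _ => ?_
      calc (pPartCard q G : ℂ) * (blockInd Bq ψ * a ψ * (ψ : G → ℂ) x)
          = (blockInd Bq ψ * (ψ : G → ℂ) x) * ((pPartCard q G : ℂ) * a ψ) := by ring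
        _ = _ := by
          rw [← hcoef, Finset.mul_sum]
          exact Finset.sum_congr rfl fun χ _ => by ring
    rw [Finset.sum_eq_zero fun χ _ => by
      rw [sum_regInner_mul hMq (IsPBlock.isLocalOn hMq hBq) χ x,
        if_neg (not_isPRegular.2 hx), mul_zero]] at h1
    exact (mul_eq_zero.1 h1).resolve_left hq0
  obtain ⟨Q⟩ : Nonempty (Sylow q G) := inferInstance
  have hQ : Nat.card (Q : Subgroup G) = q ^ b := by rw [Q.card_eq_multiplicity, hb]
  have hnum : ∀ χ : IrrCharacter G,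
      ∃ n : ℕ, ∑ x : (Q : Subgroup G), (χ : G → ℂ) x = (q : ℂ) ^ b * n := by
    intro χ
    obtain ⟨n, hn⟩ := CfsgLib.Char.IsCharacter.classInner_nat
      (CfsgLib.Char.IsCharacter.restrict (CfsgLib.Char.isCharacter_irr χ) (Q : Subgroup G))
      CfsgLib.Char.isCharacter_one
    refine ⟨n, ?_⟩
    rw [Cfsg.classInner, inv_mul_eq_iff_eq_mul₀ CfsgLib.Char.card_ne_zero, hQ] at hn
    simpa using hn
  choose n hn using hnum
  have h1 : g 1 = (q : ℂ) ^ b * ∑ ψ, blockInd Bq ψ * a ψ * (n ψ : ℂ) := by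
    calc g 1 = ∑ x : (Q : Subgroup G), g x := by
          rw [Finset.sum_eq_single (1 : (Q : Subgroup G))]
          · rfl
          · intro x _ hx
            refine hg x ?_
            obtain ⟨j, hj⟩ := IsPGroup.iff_orderOf.1 Q.isPGroup' x
            rw [Subgroup.orderOf_coe, hj]
            refine dvd_pow_self q fun h => hx ?_
            rwa [h, pow_zero, orderOf_eq_one_iff] at hj
          · simp
      _ = _ := by
          simp only [g]
          rw [Finset.sum_comm, Finset.mul_sum]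
          refine Finset.sum_congr rfl fun ψ _ => ?_
          rw [← Finset.mul_sum, hn]
          ring
  have hint : IsIntegral ℤ (∑ ψ, blockInd Bq ψ * a ψ * (n ψ : ℂ)) := by
    refine IsIntegral.sum _ fun ψ _ => IsIntegral.mul (IsIntegral.mul ?_ (IsIntegral.mul ?_
      (CfsgLib.Char.IsCharacter.isIntegral (CfsgLib.Char.isCharacter_irr ψ) y))) ?_
    · simp only [blockInd]; split
      · exact isIntegral_one
      · exact isIntegral_zero
    · simp only [blockInd]; split
      · exact isIntegral_one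
      · exact isIntegral_zero
    · simpa using (isIntegral_algebraMap (R := ℤ) (A := ℂ) (x := (n ψ : ℤ)))
  refine ⟨⟨_, hint⟩, ?_⟩
  show _ = (q : ℂ) ^ b * ∑ ψ, blockInd Bq ψ * a ψ * (n ψ : ℂ)
  rw [← h1, finsum_mem_eq_toFinset_sum]
  simp only [g, a, CfsgLib.DegreeTools.deg_cast]
  rw [← Finset.sum_subset (Finset.subset_univ (Bp ∩ Bq).toFinset)]
  · refine Finset.sum_congr rfl fun ψ hψ => ?_
    obtain ⟨h2, h3⟩ := Set.mem_toFinset.1 hψ
    rw [blockInd_of_mem h2, blockInd_of_mem h3]; ring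
  · intro ψ _ hψ
    rw [Set.mem_toFinset, Set.mem_inter_iff] at hψ
    by_cases h2 : ψ ∈ Bp
    · rw [blockInd_of_notMem (fun h3 => hψ ⟨h2, h3⟩)]; ring
    · rw [blockInd_of_notMem h2]; ring

end Cfsg.Agent.S4731
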