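import Cfsg.Statements.S4735
import Cfsg.Agent.Lib.Involution.ZStar.PrincipalBlock
import Cfsg.Agent.Lib.Blocks.DerivedQuotient
import Cfsg.Agent.Lib.DegreeTools.Rationality
import Cfsg.Agent.Lib.DegreeTools.Basic
import Cfsg.Agent.Lib.Solvable.Cores
import Cfsg.Agent.Lib.Char.Quotient

set_option autoImplicit false
open Cfsg

namespace Cfsg.Agent.S4735

open CfsgLib.Blocks
open scoped Classical

/-- Deflation by a normal `p'`-subgroup preserves blocks. -/
theorem sameBlock_of_inflate {G : Type*} [Group G] [Fintype G] {p : ℕ} {M : Ideal AlgInt}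
    (hM : IsPModular p M) {N : Subgroup G} [N.Normal] (hN : ¬ p ∣ Nat.card N)
    {χ ψ : IrrCharacter (G ⧸ N)}
    (h : SameBlock M (inflate N χ : G → ℂ) (inflate N ψ : G → ℂ)) :
    SameBlock M (χ : G ⧸ N → ℂ) (ψ : G ⧸ N → ℂ) := by
  have := Fintype.ofFinite (G ⧸ N)
  intro q
  let f : G → ℂ := fun x => classInd q (QuotientGroup.mk' N x)
  have hf : IsClassFunction G f := fun x y => by
    show classInd q _ = classInd q _
    rw [map_mul, map_mul, map_inv]
    exact classInd_isClassFunction q _ _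
  have key : ∀ φ : IrrCharacter (G ⧸ N),
      omega (inflate N φ : G → ℂ) f = (Nat.card N : ℂ) * centralChar (φ : G ⧸ N → ℂ) q := by
    intro φ
    rw [← omega_classInd, omega, omega, inflate_apply, map_one, ← mul_div_assoc]
    congr 1
    rw [← Finset.sum_fiberwise Finset.univ (QuotientGroup.mk' N), Finset.mul_sum]
    refine Finset.sum_congr rfl fun r _ => ?_
    rw [Finset.sum_congr rfl fun x hx => by
      rw [inflate_apply, show f x = classInd q r from congrArg (classInd q) (Finset.mem_filter.1 hx).2,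
        (Finset.mem_filter.1 hx).2], Finset.sum_const, nsmul_eq_mul]
    congr 1
    rw [Nat.cast_inj, ← Fintype.card_subtype, ← Nat.card_eq_fintype_card]
    obtain ⟨x₀, rfl⟩ := QuotientGroup.mk'_surjective N r
    refine Nat.card_congr
      { toFun := fun x => ⟨x₀⁻¹ * x.1, QuotientGroup.eq.1 x.2.symm⟩
        invFun := fun n => ⟨x₀ * n.1, by
          rw [map_mul]
          exact mul_eq_left.2 ((QuotientGroup.eq_one_iff _).2 n.2)⟩
        left_inv := fun x => Subtype.ext (mul_inv_cancel_left _ _)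
        right_inv := fun n => Subtype.ext (inv_mul_cancel_left _ _) }
  have h1 := omega_congr hM h hf (fun x => classInd_LR hM q _)
  rw [key, key, ← mul_sub] at h1
  refine (LI.mem_or_mem hM (LR.natCast hM _)
    (LR.sub hM (centralChar_LR hM _ _) (centralChar_LR hM _ _)) h1).resolve_left ?_
  rwa [LI.natCast_iff hM]

/-- Let p be a prime, M a maximal ideal of the algebraic integers containing p, G a finite group, H = O_p'(G) and Ḡ = G/H. For x ∈ G write λ(G, x) for the sum of |χ(x)|^2 over the irreducible characters χ in the principal p-block of G. Then λ(G, x) is a positive integer, λ(G, x) = λ(Ḡ, x̄) where x̄ is the image of x, and λ(G, x) ≤ #C_Ḡ(x̄). Moreover λ(G, 1) = [G : H] if and only if the principal block is the only p-block of Ḡ. -/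
theorem result {G : Type*} [Group G] [Finite G] (p : ℕ) [Fact p.Prime] (M : Ideal Cfsg.AlgInt) (hM : Cfsg.IsPModular p M) (x : G) : (∃ n : ℕ, 0 < n ∧ ∑ᶠ χ ∈ Cfsg.principalBlock M G, Complex.normSq ((χ : G → ℂ) x) = n) ∧ ∑ᶠ χ ∈ Cfsg.principalBlock M G, Complex.normSq ((χ : G → ℂ) x) = ∑ᶠ ψ ∈ Cfsg.principalBlock M (G ⧸ Cfsg.pPrimeCore p G), Complex.normSq ((ψ : G ⧸ Cfsg.pPrimeCore p G → ℂ) (QuotientGroup.mk x)) ∧ ∑ᶠ χ ∈ Cfsg.principalBlock M G, Complex.normSq ((χ : G → ℂ) x) ≤ (Nat.card ↥(Subgroup.centralizer ({(QuotientGroup.mk x : G ⧸ Cfsg.pPrimeCore p G)} : Set (G ⧸ Cfsg.pPrimeCore p G))) : ℝ) ∧ ((∑ᶠ χ ∈ Cfsg.principalBlock M G, Cfsg.charDegree (χ : G → ℂ) ^ 2) = (Cfsg.pPrimeCore p G).index ↔ ∀ B : Set (Cfsg.IrrCharacter (G ⧸ Cfsg.pPrimeCore p G)), Cfsg.IsPBlock M B → B = Cfsg.principalBlock M (G ⧸ Cfsg.pPrimeCore p G)) := by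
  have := Fintype.ofFinite G
  have hp : p.Prime := Fact.out
  set N := pPrimeCore p G
  have := Fintype.ofFinite (G ⧸ N)
  have hNp : ¬ p ∣ Nat.card N :=
    (hp.coprime_iff_not_dvd).mp (CfsgLib.Solvable.Cores.coprime_card_pPrimeCore p).symm
  set B := principalBlock M G
  set Bb := principalBlock M (G ⧸ N)
  have htriv : inflate N (trivChar (G ⧸ N)) = trivChar G := Subtype.ext (funext fun g => rfl)
  have hmem : ∀ ψ : IrrCharacter (G ⧸ N), inflate N ψ ∈ B ↔ ψ ∈ Bb := by
    intro ψ
    constructor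
    · intro h
      exact sameBlock_of_inflate hM hNp (χ := trivChar (G ⧸ N)) (htriv.symm ▸ h)
    · intro h
      have h' := sameBlock_inflate (P := N) hM
        (show SameBlock M (trivChar (G ⧸ N) : G ⧸ N → ℂ) (ψ : G ⧸ N → ℂ) from h)
      rw [htriv] at h'
      exact h'
  have himg : B.toFinset = Bb.toFinset.image (inflate N) := by
    ext χ
    simp only [Set.mem_toFinset, Finset.mem_image]
    constructor
    · intro hχ
      obtain ⟨ψ, hψ, he⟩ := CfsgLib.Char.IsIrrCharacter.exists_deflate χ.2 N fun n hn =>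
        CfsgLib.Involution.ZStar.apply_eq_one_of_mem hM hχ inferInstance hNp hn
      have he' : inflate N ⟨ψ, hψ⟩ = χ := Subtype.ext he.symm
      exact ⟨⟨ψ, hψ⟩, (hmem _).1 (he' ▸ hχ), he'⟩
    · rintro ⟨ψ, hψ, rfl⟩
      exact (hmem ψ).2 hψ
  have hinj : Function.Injective (inflate N) := fun a b h => Subtype.ext (funext fun q => by
    obtain ⟨g, rfl⟩ := QuotientGroup.mk'_surjective N q
    exact congrFun (congrArg Subtype.val h) g)
  simp only [finsum_mem_eq_toFinset_sum]
  refine ⟨?_, ?_, ?_, ?_⟩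
  · obtain ⟨n, hn⟩ := CfsgLib.DegreeTools.Rationality.exists_int_sum_principal (p := p) hM x
    simp only [← conj_irr, Complex.mul_conj] at hn
    have hn' : ∑ χ ∈ B.toFinset, Complex.normSq ((χ : G → ℂ) x) = (n : ℝ) := by exact_mod_cast hn
    have h1 : (1 : ℝ) ≤ ∑ χ ∈ B.toFinset, Complex.normSq ((χ : G → ℂ) x) := by
      refine le_trans ?_ (Finset.single_le_sum (fun χ _ => Complex.normSq_nonneg _)
        (Set.mem_toFinset.2 (trivChar_mem_principalBlock (G := G) hM)))
      simp
    rw [hn'] at h1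
    have hn1 : (1 : ℤ) ≤ n := by exact_mod_cast h1
    refine ⟨n.toNat, by omega, ?_⟩
    rw [hn']
    exact_mod_cast (Int.toNat_of_nonneg (by omega)).symm
  · rw [himg, Finset.sum_image fun a _ b _ h => hinj h]
    exact Finset.sum_congr rfl fun ψ _ => rfl
  · rw [himg, Finset.sum_image fun a _ b _ h => hinj h, ← CfsgLib.DegreeTools.sum_norm_sq_col]
    simp only [← Complex.normSq_eq_norm_sq]
    exact Finset.sum_le_univ_sum_of_nonneg fun ψ => Complex.normSq_nonneg _
  · rw [himg, Finset.sum_image fun a _ b _ h => hinj h]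
    have hdeg : ∀ ψ : IrrCharacter (G ⧸ N),
        charDegree (inflate N ψ : G → ℂ) = charDegree (ψ : G ⧸ N → ℂ) := fun ψ => rfl
    simp only [hdeg]
    rw [Subgroup.index_eq_card, ← CfsgLib.DegreeTools.sum_deg_sq (G := G ⧸ N)]
    constructor
    · intro he C hC
      have hall : ∀ ψ, ψ ∈ Bb := by
        intro ψ
        by_contra hψ
        have hlt : ∑ φ ∈ Bb.toFinset, charDegree (φ : G ⧸ N → ℂ) ^ 2
            < ∑ φ : IrrCharacter (G ⧸ N), charDegree (φ : G ⧸ N → ℂ) ^ 2 :=
          Finset.sum_lt_sum_of_subset (Finset.subset_univ _) (Finset.mem_univ ψ)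
            (fun h => hψ (Set.mem_toFinset.1 h))
            (pow_pos (CfsgLib.DegreeTools.deg_pos ψ) 2) (fun _ _ _ => Nat.zero_le _)
        omega
      obtain ⟨φ, hφ⟩ := IsPBlock.nonempty hM hC
      exact IsPBlock.eq_of_mem hM hC isPBlock_principalBlock hφ (hall φ)
    · intro h
      refine Finset.sum_subset (Finset.subset_univ _) fun ψ _ hψ => absurd ?_ hψ
      rw [Set.mem_toFinset, ← h _ (isPBlock_blockOf ψ)]
      exact SameBlock_refl hM _

end Cfsg.Agent.S4735
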