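import Cfsg.Statements.S4736
import Cfsg.Agent.Lib.Involution.ZStar.PrincipalBlock
import Cfsg.Agent.Lib.Blocks.DerivedQuotient
import Cfsg.Agent.Lib.Blocks.Height
import Cfsg.Agent.Lib.Blocks.Defect2
import Cfsg.Agent.Lib.CharDeep.ItoMichler
import Cfsg.Agent.Lib.Components.PComponents
import Cfsg.Agent.Lib.Char.Quotient
import Cfsg.Agent.Lib.DegreeTools.PDegree

set_option autoImplicit false
open Cfsg

namespace Cfsg.Agent.S4736

open CfsgLib.Blocks
open scoped Classical

/-- A normal `p`-subgroup containing its centraliser forces a single block. -/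
theorem mem_principalBlock_of_centralizer_le {G : Type*} [Group G] [Fintype G] {p : ℕ}
    {M : Ideal AlgInt} (hM : IsPModular p M) {Q : Subgroup G} [Q.Normal] (hQ : IsPGroup p Q)
    (hc : Subgroup.centralizer (Q : Set G) ≤ Q) (χ : IrrCharacter G) :
    χ ∈ principalBlock M G := by
  have hp : p.Prime := hM.1
  have : Fact p.Prime := ⟨hp⟩
  set B := principalBlock M G
  have hB : IsPBlock M B := isPBlock_principalBlock
  have hz : ∀ g : G, g ≠ 1 → blockCoeff B g = 0 := by
    intro g hg
    by_cases hgc : g ∈ Subgroup.centralizer (Q : Set G)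
    · refine IsPBlock.blockCoeff_eq_zero hM hB ?_
      obtain ⟨k, hk⟩ := IsPGroup.iff_orderOf.mp hQ ⟨g, hc hgc⟩
      rw [Subgroup.orderOf_mk] at hk
      rw [hk]
      refine dvd_pow_self p fun hk0 => hg ?_
      rw [hk0, pow_zero] at hk
      exact orderOf_eq_one_iff.mp hk
    · exact blockCoeff_eq_zero_of_notMem_centralizer hM hQ hB hgc
  have key : ∀ ψ : IrrCharacter G, blockInd B ψ = blockCoeff B 1 := fun ψ => by
    rw [← omega_blockCoeff B ψ, omega, Finset.sum_eq_single (1 : G)
      (fun g _ hg => by rw [hz g hg, zero_mul]) (fun h => absurd (Finset.mem_univ _) h),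
      mul_div_assoc, div_self (CfsgLib.Char.IsIrrCharacter.apply_one_ne_zero ψ.2), mul_one]
  by_contra hχ
  have h := (key χ).trans (key (trivChar G)).symm
  rw [blockInd_of_notMem hχ, blockInd_of_mem (trivChar_mem_principalBlock hM)] at h
  exact zero_ne_one h

/-- Let p be a prime, M a maximal ideal of the algebraic integers containing p, and G a finite p-solvable group with Sylow p-subgroup P. Then P is abelian if and only if every irreducible character in the principal p-block of G has height zero. -/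
theorem result {G : Type*} [Group G] [Finite G] (p : ℕ) [Fact p.Prime] (M : Ideal Cfsg.AlgInt) (hM : Cfsg.IsPModular p M) (hsolv : Cfsg.IsPSolvable p G) (P : Sylow p G) : IsMulCommutative P ↔ ∀ χ ∈ Cfsg.principalBlock M G, Cfsg.blockHeight p (Cfsg.principalBlock M G) (χ : G → ℂ) = 0 := by
  have := Fintype.ofFinite G
  have hp : p.Prime := Fact.out
  have hh : ∀ χ : IrrCharacter G, χ ∈ principalBlock M G →
      (blockHeight p (principalBlock M G) (χ : G → ℂ) = 0 ↔ ¬ p ∣ charDegree (χ : G → ℂ)) := by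
    intro χ hχ
    rw [blockHeight_eq_zero_iff hχ, minDegVal_principalBlock hM, degVal,
      Nat.factorization_eq_zero_iff]
    have := CfsgLib.DegreeTools.deg_pos χ
    constructor
    · rintro (h | h | h) <;> first | exact absurd hp h | exact h | omega
    · exact fun h => Or.inr (Or.inl h)
  set N := pPrimeCore p G with hN
  have hNc : (Nat.card N).Coprime p := CfsgLib.Solvable.Cores.coprime_card_pPrimeCore p
  have hNp : ¬ p ∣ Nat.card N := (hp.coprime_iff_not_dvd).mp hNc.symm
  have hNn : N.Normal := inferInstance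
  let π := QuotientGroup.mk' N
  have hπ : Function.Surjective π := QuotientGroup.mk'_surjective N
  let Pb : Sylow p (G ⧸ N) := P.mapSurjective hπ
  have hinj : Set.InjOn π (P : Subgroup G) := by
    intro a ha b hb h
    have hmem : a⁻¹ * b ∈ N := QuotientGroup.eq.mp h
    have hmemP : a⁻¹ * b ∈ (P : Subgroup G) := mul_mem (inv_mem ha) hb
    obtain ⟨k, hk⟩ := IsPGroup.iff_orderOf.mp P.2 ⟨_, hmemP⟩
    rw [Subgroup.orderOf_mk] at hk
    have h1 : orderOf (a⁻¹ * b) = 1 := Nat.eq_one_of_dvd_coprimes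
      (Nat.Coprime.pow_right k hNc) (Subgroup.orderOf_dvd_natCard N hmem) hk.dvd
    exact inv_mul_eq_one.mp (orderOf_eq_one_iff.mp h1)
  have hsolv' : IsPSolvable p (G ⧸ N) := CfsgLib.Fusion.PSolvable.psolvable_quotient hsolv N
  have hbot : pPrimeCore p (G ⧸ N) = ⊥ := CfsgLib.Components.pPrimeCore_quotient_eq_bot
  have hQle := CfsgLib.Fusion.PSolvable.centralizer_pCore_le hsolv' hbot
  have hQ : IsPGroup p (pCore p (G ⧸ N)) := CfsgLib.Solvable.Cores.isPGroup_pCore p
  constructor
  · intro hcomm χ hχ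
    rw [hh χ hχ]
    obtain ⟨ψ, hψ, he⟩ := CfsgLib.Char.IsIrrCharacter.exists_deflate χ.2 N fun n hn =>
      CfsgLib.Involution.ZStar.apply_eq_one_of_mem hM hχ hNn hNp hn
    have hdeg : charDegree (χ : G → ℂ) = charDegree ψ := by rw [he]; simp [charDegree]
    have hab : ∀ a b : (Pb : Subgroup (G ⧸ N)), a * b = b * a := by
      rintro ⟨_, u, hu, rfl⟩ ⟨_, v, hv, rfl⟩
      apply Subtype.ext
      show π u * π v = π v * π u
      rw [← map_mul, ← map_mul]
      exact congrArg π (congrArg Subtype.val (hcomm.1.1 ⟨u, hu⟩ ⟨v, hv⟩))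
    have hQP : pCore p (G ⧸ N) ≤ Pb := by
      have h := Pb.3 (IsPGroup.to_sup_of_normal_left hQ Pb.2) le_sup_right
      exact h ▸ le_sup_left
    have hPQ : (Pb : Subgroup (G ⧸ N)) ≤ pCore p (G ⧸ N) := fun x hx =>
      hQle (Subgroup.mem_centralizer_iff.2 fun y hy =>
        congrArg Subtype.val (hab ⟨y, hQP hy⟩ ⟨x, hx⟩))
    have : (Pb : Subgroup (G ⧸ N)).Normal := (le_antisymm hPQ hQP) ▸ inferInstance
    have hdvd := CfsgLib.DegreeTools.deg_dvd_index (Pb : Subgroup (G ⧸ N)) hab ⟨ψ, hψ⟩
    rw [hdeg]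
    exact fun h => Pb.not_dvd_index (h.trans hdvd)
  · intro h0
    have hall : ∀ ψ : IrrCharacter (G ⧸ N), ¬ p ∣ charDegree (ψ : G ⧸ N → ℂ) := by
      intro ψ
      have := Fintype.ofFinite (G ⧸ N)
      have hmem : inflate N ψ ∈ principalBlock M G := by
        have h := sameBlock_inflate (P := N) hM
          (show SameBlock M (trivChar (G ⧸ N) : G ⧸ N → ℂ) (ψ : G ⧸ N → ℂ) from
            mem_principalBlock_of_centralizer_le hM hQ hQle ψ)
        exact h
      have h := (hh _ hmem).1 (h0 _ hmem)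
      simpa [charDegree, inflate_apply] using h
    have hn := CfsgLib.CharDeep.ItoMichler.normal_sylow_of_degrees p (Nat.card (G ⧸ N)) rfl
      hsolv' Pb hall
    have hab := CfsgLib.CharDeep.ItoMichler.comm_of_normal Pb hall
    refine ⟨⟨fun a b => Subtype.ext (hinj (mul_mem a.2 b.2) (mul_mem b.2 a.2) ?_)⟩⟩
    show π ((a : G) * b) = π ((b : G) * a)
    rw [map_mul, map_mul]
    exact congrArg Subtype.val
      (hab ⟨π a, a, a.2, rfl⟩ ⟨π b, b, b.2, rfl⟩)

end Cfsg.Agent.S4736
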