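import Cfsg.Statements.S4737
import Cfsg.Agent.Lib.DegreeTools.ClassPairs2
import Cfsg.Agent.Lib.DegreeTools.LocalDet
import Cfsg.Agent.Lib.Blocks.DefectGroup
import Cfsg.Agent.Lib.Blocks.Eigen
import Cfsg.Agent.Lib.Char.Quotient
-- import your own Cfsg.Agent.* helpers here

set_option autoImplicit false
open Cfsg

namespace Cfsg.Agent.S4737

open CfsgLib CfsgLib.Blocks CfsgLib.DegreeTools

/-- An element of order 3 normalising no nontrivial 2-subgroup is separated from its like by the
elements squaring to one. -/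
theorem eq_of_sq {G : Type*} [Group G] {a b : G} (ha : a ^ 3 = 1) (hb : b ^ 3 = 1)
    (hQ : ∀ Q : Subgroup G, IsPGroup 2 ↥Q → a ∈ Subgroup.normalizer (Q : Set G) → Q = ⊥)
    (hab : (a * b⁻¹) * (a * b⁻¹) = 1) : a = b := by
  set w := a * b⁻¹ with hw
  set u := a * w * a⁻¹ with hu
  set v := a * u * a⁻¹ with hv
  have hww : w * w = 1 := hab
  have hwi : w⁻¹ = w := inv_eq_of_mul_eq_one_right hww
  have huu : u * u = 1 := by
    rw [hu, show a * w * a⁻¹ * (a * w * a⁻¹) = a * (w * w) * a⁻¹ by group, hww]; group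
  have hvv : v * v = 1 := by
    rw [hv, show a * u * a⁻¹ * (a * u * a⁻¹) = a * (u * u) * a⁻¹ by group, huu]; group
  have hwa : (w * a) ^ 3 = 1 := by
    have h1 : b⁻¹ = a⁻¹ * w := by rw [hw]; group
    have h2 : (a⁻¹ * w) ^ 3 = 1 := by rw [← h1, inv_pow, hb, inv_one]
    have h3 : (a⁻¹ * w) = (w * a)⁻¹ := by rw [mul_inv_rev, hwi]
    rw [h3, inv_pow, inv_eq_one] at h2
    exact h2
  have hprod : w * u * v = 1 := by
    calc w * u * v = (w * a) ^ 3 * (a ^ 3)⁻¹ := by rw [pow_three', pow_three', hv, hu]; group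
      _ = 1 := by rw [hwa, ha]; group
  have hva : a * v * a⁻¹ = w := by
    rw [hv, hu, show a * (a * (a * w * a⁻¹) * a⁻¹) * a⁻¹ = (a * a * a) * w * (a * a * a)⁻¹ by group,
      ← pow_three', ha]
    group
  have hui : u⁻¹ = u := inv_eq_of_mul_eq_one_right huu
  have hvi : v⁻¹ = v := inv_eq_of_mul_eq_one_right hvv
  have hwu : w * u = v := by rw [← hvi]; exact eq_inv_of_mul_eq_one_left hprod
  have huw : u * w = v := by
    have := congrArg Inv.inv hwu
    rwa [mul_inv_rev, hui, hwi, hvi] at this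
  have huv : u * v = w := by rw [← huw, ← mul_assoc, huu, one_mul]
  have hvu : v * u = w := by rw [← hwu, mul_assoc, huu, mul_one]
  have hwv : w * v = u := by rw [← hwu, ← mul_assoc, hww, one_mul]
  have hvw : v * w = u := by rw [← huw, mul_assoc, hww, mul_one]
  let Q : Subgroup G :=
    { carrier := {z | z = 1 ∨ z = w ∨ z = u ∨ z = v}
      one_mem' := Or.inl rfl
      mul_mem' := by
        intro x y hx hy
        rcases hx with rfl | rfl | rfl | rfl <;> rcases hy with rfl | rfl | rfl | rfl <;>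
          simp [hww, huu, hvv, hwu, huw, huv, hvu, hwv, hvw]
      inv_mem' := by
        intro x hx
        rcases hx with rfl | rfl | rfl | rfl <;> simp [hwi, hui, hvi] }
  have hmem : ∀ z : G, z ∈ Q ↔ z = 1 ∨ z = w ∨ z = u ∨ z = v := fun z => Iff.rfl
  have hQbot := hQ Q (fun z => ⟨1, Subtype.ext (by
      show (z : G) ^ (2 ^ 1) = 1
      rw [pow_one, sq]
      rcases (hmem z).mp z.2 with e | e | e | e <;> rw [e] <;> simp [hww, huu, hvv])⟩)
    (Subgroup.mem_normalizer_iff.mpr fun z => by
      constructor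
      · intro hz
        rcases (hmem z).mp hz with rfl | rfl | rfl | rfl
        · simp
        · exact (hmem _).mpr (Or.inr (Or.inr (Or.inl hu.symm)))
        · exact (hmem _).mpr (Or.inr (Or.inr (Or.inr hv.symm)))
        · exact (hmem _).mpr (Or.inr (Or.inl hva))
      · intro hz
        have key : ∀ c : G, a * z * a⁻¹ = a * c * a⁻¹ → z = c := fun c e =>
          mul_left_cancel (mul_right_cancel e)
        rcases (hmem _).mp hz with e | e | e | e
        · exact (hmem _).mpr (Or.inl (key 1 (by rw [e]; group)))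
        · exact (hmem _).mpr (Or.inr (Or.inr (Or.inr (key v (e.trans hva.symm)))))
        · exact (hmem _).mpr (Or.inr (Or.inl (key w (e.trans hu))))
        · exact (hmem _).mpr (Or.inr (Or.inr (Or.inl (key u (e.trans hv))))))
  have : w ∈ Q := (hmem w).mpr (Or.inr (Or.inl rfl))
  rw [hQbot, Subgroup.mem_bot, hw, mul_inv_eq_one] at this
  exact this

/-- The indicator of the elements squaring to one. -/
noncomputable def sqOne (G : Type*) [Group G] : G → ℂ :=
  open scoped Classical in fun g => if g * g = 1 then 1 else 0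

theorem sqOne_isClassFunction {G : Type*} [Group G] :
    Cfsg.IsClassFunction G (sqOne G) := fun x y => by
  classical
  simp only [sqOne]
  refine if_congr ?_ rfl rfl
  rw [show y * x * y⁻¹ * (y * x * y⁻¹) = y * (x * x) * y⁻¹ by group]
  exact ⟨fun h => by simpa using mul_inv_eq_iff_eq_mul.mp h, fun h => by rw [h]; group⟩

theorem sqOne_LR {G : Type*} [Group G] {p : ℕ} {M : Ideal Cfsg.AlgInt}
    (hM : Cfsg.IsPModular p M) (g : G) : Cfsg.MemLocalRing M (sqOne G g) := by
  simp only [sqOne]; split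
  · exact LR.one hM
  · exact LR.zero hM

/-- With a central involution the mean of `ψ` over the elements squaring to one is even. -/
theorem omega_sqOne_LI {K : Type*} [Group K] [Fintype K] {M : Ideal Cfsg.AlgInt}
    (hM : Cfsg.IsPModular 2 M) {z : K} (hz : ∀ k, z * k = k * z) (hzz : z * z = 1) (hz1 : z ≠ 1)
    (ψ : Cfsg.IrrCharacter K) : Cfsg.MemLocalIdeal M (omega (ψ : K → ℂ) (sqOne K)) := by
  classical
  obtain ⟨n, ρ, hρ, hψ⟩ := ψ.2
  obtain ⟨ω, hω⟩ := Char.exists_eq_smul_of_commute ρ (ρ z) fun a => by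
    rw [← Module.End.mul_eq_comp, ← Module.End.mul_eq_comp, ← map_mul, ← map_mul, hz a]
  have hmul : ∀ k : K, (ψ : K → ℂ) (z * k) = ω * (ψ : K → ℂ) k := by
    intro k
    rw [← hψ]
    show LinearMap.trace ℂ _ (ρ (z * k)) = ω * LinearMap.trace ℂ _ (ρ k)
    rw [map_mul, hω, ← Module.End.one_eq_id, smul_one_mul, map_smul, smul_eq_mul]
  have hψ1 : (ψ : K → ℂ) 1 ≠ 0 := Char.IsIrrCharacter.apply_one_ne_zero ψ.2
  have hω2 : ω * ω = 1 := by
    have h1 := hmul z
    have h2 := hmul 1
    rw [hzz] at h1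
    rw [mul_one] at h2
    rw [h2, ← mul_assoc] at h1
    exact mul_right_cancel₀ hψ1 (h1.symm.trans (one_mul _).symm)
  have hinv : ∀ k, sqOne K (z * k) = sqOne K k := by
    intro k
    simp only [sqOne]
    refine if_congr ?_ rfl rfl
    rw [show z * k * (z * k) = z * (k * z) * k by group, ← hz k,
      show z * (z * k) * k = (z * z) * (k * k) by group, hzz, one_mul]
  have hshift : ∑ k : K, sqOne K k * (ψ : K → ℂ) k = ω * ∑ k : K, sqOne K k * (ψ : K → ℂ) k := by
    rw [Finset.mul_sum]
    refine Fintype.sum_equiv (Equiv.mulLeft z) _ _ fun k => ?_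
    simp only [Equiv.coe_mulLeft]
    rw [hinv, hmul, mul_comm ω, mul_assoc, mul_assoc, mul_comm _ ω, ← mul_assoc ω, hω2, one_mul]
  rcases (mul_self_eq_one_iff.mp hω2) with h | h
  swap
  · rw [omega, show (∑ k : K, sqOne K k * (ψ : K → ℂ) k) = 0 by
      rw [h] at hshift; linear_combination hshift / 2, zero_div]
    exact LI.zero hM
  -- `ψ` factors through `K ⧸ ⟨z⟩`
  subst h
  set Z := Subgroup.zpowers z with hZ
  haveI : Z.Normal := ⟨fun x hx g => by
    obtain ⟨i, rfl⟩ := Subgroup.mem_zpowers_iff.mp hx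
    have hc : Commute z g := hz g
    rw [← (hc.zpow_left i).eq, mul_inv_cancel_right]
    exact hx⟩
  have hker : ∀ x ∈ Z, (ψ : K → ℂ) x = (ψ : K → ℂ) 1 := by
    intro x hx
    obtain ⟨i, rfl⟩ := Subgroup.mem_zpowers_iff.mp hx
    rcases Int.even_or_odd' i with ⟨j, rfl | rfl⟩
    · rw [zpow_mul, zpow_two, hzz, one_zpow]
    · rw [zpow_add, zpow_mul, zpow_two, hzz, one_zpow, one_mul, zpow_one]
      simpa using hmul 1
  obtain ⟨θ, hθ, he⟩ := Char.IsIrrCharacter.exists_deflate ψ.2 Z hker
  set T : K ⧸ Z → ℂ := fun q => if ∃ k : K, k * k = 1 ∧ (k : K ⧸ Z) = q then 1 else 0 with hT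
  have hTc : Cfsg.IsClassFunction (K ⧸ Z) T := by
    intro q u
    obtain ⟨c, rfl⟩ := QuotientGroup.mk_surjective u
    simp only [hT]
    refine if_congr ⟨?_, ?_⟩ rfl rfl
    · rintro ⟨k, hk, hkq⟩
      refine ⟨c⁻¹ * k * c,
        (by rw [show c⁻¹ * k * c * (c⁻¹ * k * c) = c⁻¹ * (k * k) * c by group, hk]; simp), ?_⟩
      simp [hkq, mul_assoc]
    · rintro ⟨k, hk, rfl⟩
      exact ⟨c * k * c⁻¹,
        (by rw [show c * k * c⁻¹ * (c * k * c⁻¹) = c * (k * k) * c⁻¹ by group, hk]; simp), by simp⟩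
  have hT1 : ∀ k : K, T (k : K ⧸ Z) = sqOne K k := by
    intro k
    simp only [hT, sqOne]
    refine if_congr ⟨?_, fun h => ⟨k, h, rfl⟩⟩ rfl rfl
    rintro ⟨k', hk', he'⟩
    rw [QuotientGroup.eq] at he'
    obtain ⟨i, hi⟩ := Subgroup.mem_zpowers_iff.mp he'
    have hk : k = k' * z ^ i := by rw [hi]; group
    have hc : Commute (z ^ i) k' := (show Commute z k' from hz k').zpow_left i
    have hzi : z ^ i * z ^ i = 1 := by rw [← (Commute.refl z).mul_zpow, hzz, one_zpow]
    rw [hk, mul_assoc, ← mul_assoc (z ^ i), hc.eq, mul_assoc k' (z ^ i), hzi, mul_one, hk']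
  have hsum : ∑ k : K, sqOne K k * (ψ : K → ℂ) k = 2 * ∑ q : K ⧸ Z, T q * θ q := by
    rw [← Finset.sum_fiberwise Finset.univ (QuotientGroup.mk (s := Z)), Finset.mul_sum]
    refine Finset.sum_congr rfl fun q _ => ?_
    have hfc : (Finset.univ.filter fun k : K => (k : K ⧸ Z) = q).card = 2 := by
      obtain ⟨k, rfl⟩ := QuotientGroup.mk_surjective q
      rw [← Fintype.card_subtype, ← Nat.card_eq_fintype_card]
      have h2 : Nat.card Z = 2 := by
        rw [hZ, Nat.card_zpowers]
        exact orderOf_eq_prime (by rw [sq, hzz]) hz1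
      rw [← h2]
      exact Nat.card_congr ((Equiv.mulLeft k⁻¹).subtypeEquiv fun y => by
        rw [Equiv.coe_mulLeft, eq_comm, QuotientGroup.eq])
    rw [Finset.sum_congr rfl fun k hk => show sqOne K k * (ψ : K → ℂ) k = T q * θ q by
      rw [← (Finset.mem_filter.mp hk).2, hT1, he]; rfl, Finset.sum_const, hfc, nsmul_eq_mul,
      Nat.cast_ofNat]
  rw [omega, hsum, mul_div_assoc]
  refine LI.mul_right hM (by simpa using LI.natCast_prime hM) ?_
  have hθ1 : θ 1 = (ψ : K → ℂ) 1 := by rw [he]; simp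
  rw [← hθ1]
  exact omega_LR hM ⟨θ, hθ⟩ hTc fun q => by
    simp only [hT]; split
    · exact LR.one hM
    · exact LR.zero hM


/-- Let G be a finite group of order divisible by 6. Then the number of irreducible characters of G whose degree has the same 2-part as the order of G (the characters of 2-defect zero, each forming a 2-block of defect zero on its own) is at least the number of conjugacy classes of elements of order 3 that normalize no nontrivial 2-subgroup of G. In particular G has a 2-block of defect zero as soon as some element of order 3 normalizes no nontrivial 2-subgroup. -/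
theorem result {G : Type*} [Group G] [Finite G] (h6 : 6 ∣ Nat.card G) : Nat.card {C : ConjClasses G // ∃ g ∈ C.carrier, orderOf g = 3 ∧ ∀ Q : Subgroup G, IsPGroup 2 ↥Q → g ∈ Subgroup.normalizer (Q : Set G) → Q = ⊥} ≤ Nat.card {χ : Cfsg.IrrCharacter G // (Cfsg.charDegree (χ : G → ℂ)).factorization 2 = (Nat.card G).factorization 2} := by
  classical
  cases nonempty_fintype G
  haveI : Fact (Nat.Prime 2) := ⟨Nat.prime_two⟩
  obtain ⟨M, hM⟩ := exists_isPModular Nat.prime_two
  set T := {C : ConjClasses G // ∃ g ∈ C.carrier, orderOf g = 3 ∧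
    ∀ Q : Subgroup G, IsPGroup 2 ↥Q → g ∈ Subgroup.normalizer (Q : Set G) → Q = ⊥}
  choose x hxC hx3 hxQ using fun C : T => C.2
  have hxinj : ∀ C C' : T, IsConj (x C) (x C') → C = C' := by
    intro C C' h
    apply Subtype.ext
    rw [← ConjClasses.mem_carrier_iff_mk_eq.mp (hxC C), ← ConjClasses.mem_carrier_iff_mk_eq.mp (hxC C'),
      ConjClasses.mk_eq_mk_iff_isConj.mpr h]
  have hodd : ∀ C : T, ¬ 2 ∣ Nat.card (Subgroup.centralizer ({x C} : Set G)) := by
    intro C h2
    obtain ⟨t, ht⟩ := exists_prime_orderOf_dvd_card' 2 h2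
    rw [← Subgroup.orderOf_coe] at ht
    have hb := hxQ C (Subgroup.zpowers (t : G))
      (IsPGroup.of_card (n := 1) (by rw [Nat.card_zpowers, ht, pow_one]))
      (Subgroup.centralizer_le_normalizer _ (Subgroup.mem_centralizer_iff.mpr fun y hy => by
        obtain ⟨i, rfl⟩ := Subgroup.mem_zpowers_iff.mp hy
        exact ((show Commute (t : G) (x C) from
          Subgroup.mem_centralizer_singleton_iff.mp t.2).zpow_left i).eq))
    rw [Subgroup.zpowers_eq_bot] at hb
    rw [hb, orderOf_one] at ht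
    omega
  let S : Finset G := Finset.univ.filter fun w => w * w = 1
  set t : Cfsg.IrrCharacter G → ℂ := fun χ => omega (χ : G → ℂ) (sqOne G) with ht
  have htLR : ∀ χ, Cfsg.MemLocalRing M (t χ) := fun χ =>
    omega_LR hM χ sqOne_isClassFunction (sqOne_LR hM)
  have hI : ∀ χ : Cfsg.IrrCharacter G,
      ∑ w : S, (χ : G → ℂ) (w : G)⁻¹ = t χ * (χ : G → ℂ) 1 := by
    intro χ
    rw [ht]
    simp only [omega]
    rw [div_mul_cancel₀ _ (irr_one_ne_zero χ), ← Finset.sum_subtype S (fun _ => Iff.rfl)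
      (fun w : G => (χ : G → ℂ) w⁻¹), Finset.sum_filter]
    refine Finset.sum_congr rfl fun w _ => ?_
    by_cases hw : w * w = 1
    · simp [sqOne, hw, inv_eq_of_mul_eq_one_right hw]
    · simp [sqOne, hw]
  -- main equation
  have hU : ∀ C C' : T, ∑ χ : Cfsg.IrrCharacter G,
      (χ : G → ℂ) (x C)⁻¹ * t χ * (χ : G → ℂ) (x C') =
        if C = C' then (Nat.card (Subgroup.centralizer ({x C} : Set G)) : ℂ) else 0 := by
    intro C C'
    have hS1 : (1 : G) ∈ S := by simp [S]
    have h := sum_pairs_set (x C') (x C) S hS1 fun g k hg hk hgk => by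
      have hord : ∀ y z : G, IsConj y z → y ^ 3 = 1 → z ^ 3 = 1 := by
        intro y z hyz hy
        obtain ⟨c, rfl⟩ := isConj_iff.mp hyz
        rw [conj_pow, hy]; group
      obtain ⟨c, hc⟩ := isConj_iff.mp hg
      refine eq_of_sq (hord _ _ hg (by rw [← hx3 C', pow_orderOf_eq_one]))
        (hord _ _ hk (by rw [← hx3 C, pow_orderOf_eq_one])) (fun Q hQ hgQ => ?_)
        (Finset.mem_filter.mp hgk).2
      have hb := hxQ C' (Q.map (MulAut.conj c⁻¹).toMonoidHom) (hQ.map _) (by
        rw [Subgroup.mem_normalizer_iff]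
        intro y
        simp only [Subgroup.mem_map_equiv, MulAut.conj_symm_apply, inv_inv]
        rw [Subgroup.mem_normalizer_iff.mp hgQ, ← hc]
        group)
      exact (Subgroup.map_eq_bot_iff_of_injective _ (MulAut.conj c⁻¹).injective).mp hb
    simp only [hI] at h
    rw [Finset.sum_congr rfl fun (χ : Cfsg.IrrCharacter G) _ => show (χ : G → ℂ) (x C)⁻¹ * t χ * (χ : G → ℂ) (x C') =
      (χ : G → ℂ) (x C') * (χ : G → ℂ) (x C)⁻¹ / (χ : G → ℂ) 1 * (t χ * (χ : G → ℂ) 1) by
        have := irr_one_ne_zero χ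
        field_simp, h]
    by_cases hC : C = C'
    · subst hC; rw [if_pos (IsConj.refl _), if_pos rfl]
    · rw [if_neg fun h => hC (hxinj _ _ h).symm, if_neg hC]
  have hdet : ¬ Cfsg.MemLocalIdeal M (Matrix.of fun C C' : T =>
      ∑ χ : Cfsg.IrrCharacter G, ((χ : G → ℂ) (x C)⁻¹ * t χ) * (χ : G → ℂ) (x C')).det := by
    rw [show (Matrix.of fun C C' : T =>
        ∑ χ : Cfsg.IrrCharacter G, ((χ : G → ℂ) (x C)⁻¹ * t χ) * (χ : G → ℂ) (x C')) =
        Matrix.diagonal fun C => ((Nat.card (Subgroup.centralizer ({x C} : Set G)) : ℕ) : ℂ) from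
          Matrix.ext fun C C' => by rw [Matrix.of_apply, hU, Matrix.diagonal_apply],
      Matrix.det_diagonal, ← Nat.cast_prod, LI.natCast_iff hM]
    intro hd
    obtain ⟨C, -, hC⟩ := (Prime.dvd_finsetProd_iff Nat.prime_two.prime _).mp hd
    exact hodd C hC
  rw [LocalDet.det_sum_expand (fun (C : T) (χ : Cfsg.IrrCharacter G) => (χ : G → ℂ) (x C)⁻¹ * t χ)
    (fun χ C => (χ : G → ℂ) (x C))] at hdet
  obtain ⟨f, hf⟩ : ∃ f : T → Cfsg.IrrCharacter G,
      ¬ Cfsg.MemLocalIdeal M ((∏ C, ((f C : G → ℂ) (x C)⁻¹ * t (f C))) *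
        (Matrix.of fun C C' => (f C : G → ℂ) (x C')).det) := by
    by_contra hcon
    push Not at hcon
    exact hdet (LI.sum hM fun f _ => hcon f)
  have hinj : Function.Injective f := by
    intro C C' he
    by_contra hne
    apply hf
    rw [Matrix.det_zero_of_row_eq (M := Matrix.of fun C C' => (f C : G → ℂ) (x C')) hne
      (by funext j; simp [he]), mul_zero]
    exact LI.zero hM
  have hALR : ∀ C, Cfsg.MemLocalRing M ((f C : G → ℂ) (x C)⁻¹ * t (f C)) := fun C =>
    LR.mul hM (LR.of_isIntegral hM (irr_isIntegral _ _)) (htLR _)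
  have hdz : ∀ C, (Cfsg.charDegree (f C : G → ℂ)).factorization 2 =
      (Nat.card G).factorization 2 := by
    intro C
    by_contra hne
    apply hf
    rw [← Finset.mul_prod_erase _ _ (Finset.mem_univ C)]
    refine LI.mul_right hM (LI.mul_right hM ?_ (LR.prod hM fun j _ => hALR j))
      (LocalDet.det_LR hM _ fun a b => LR.of_isIntegral hM (irr_isIntegral _ _))
    refine LI.mul_left hM (LR.of_isIntegral hM (irr_isIntegral _ _)) ?_
    -- the block has a nontrivial defect group
    set χ := f C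
    set B := Cfsg.blockOf M (χ : G → ℂ)
    have hB : Cfsg.IsPBlock M B := ⟨χ, rfl⟩
    have hχB : χ ∈ B := SameBlock_refl hM _
    have hpos : 0 < blockDefect 2 B := by
      have h1 := degVal_le (p := 2) χ
      have h2 := minDegVal_le (p := 2) hχB
      have h3 := blockDefect_add_min (p := 2) ⟨χ, hχB⟩
      rw [degVal] at h1 h2
      omega
    obtain ⟨D, hD⟩ := exists_isDefectGroup hM hB
    have h2D : 2 ∣ Nat.card D := by rw [card_defectGroup hM hB hD]; exact dvd_pow_self 2 hpos.ne'
    obtain ⟨z, hz⟩ := exists_prime_orderOf_dvd_card' 2 h2D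
    rw [← Subgroup.orderOf_coe] at hz
    obtain ⟨c, hc, hcl⟩ := exists_unit_coeff_centralizer hM hD
    set P := Subgroup.zpowers (z : G)
    have hcP : c ∈ Subgroup.centralizer (P : Set G) :=
      Subgroup.centralizer_le (SetLike.coe_subset_coe.mpr ((Subgroup.zpowers_le).mpr z.2)) hc
    obtain ⟨ψ, χ', hχ', heval⟩ := exists_brauer_eval hM hB
      (IsPGroup.of_card (n := 1) (by rw [Nat.card_zpowers, hz, pow_one]) : IsPGroup 2 P) hcP hcl.2.1
    have h1 := heval _ sqOne_isClassFunction (sqOne_LR hM)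
    have h2 : brTrunc P (Subgroup.centralizer (P : Set G)) (sqOne G) =
        sqOne (Subgroup.centralizer (P : Set G)) := by
      funext k
      rw [brTrunc, if_pos k.2]
      simp only [sqOne]
      by_cases hk : k * k = 1
      · rw [if_pos hk, if_pos (show (k : G) * k = 1 from congrArg Subtype.val hk)]
      · rw [if_neg hk, if_neg (show ¬ (k : G) * k = 1 from fun h => hk (Subtype.ext h))]
    have hzK : (z : G) ∈ Subgroup.centralizer (P : Set G) :=
      Subgroup.mem_centralizer_iff.mpr fun y hy => by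
        obtain ⟨i, rfl⟩ := Subgroup.mem_zpowers_iff.mp hy
        exact ((Commute.refl (z : G)).zpow_left i).eq
    have h3 := omega_sqOne_LI hM (z := (⟨(z : G), hzK⟩ : Subgroup.centralizer (P : Set G)))
      (fun k => Subtype.ext (Subgroup.mem_centralizer_iff.mp k.2 _ (Subgroup.mem_zpowers _)))
      (Subtype.ext (by
        show (z : G) * z = 1
        rw [← sq, ← hz, pow_orderOf_eq_one]))
      (fun e => by
        have := congrArg Subtype.val e
        simp only [OneMemClass.coe_one] at this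
        rw [this, orderOf_one] at hz
        omega) ψ
    rw [h2] at h1
    have h4 := LI.sub hM h3 h1
    rw [sub_sub_cancel] at h4
    have h5 := LI.add hM
      (omega_congr hM (IsPBlock.sameBlock hM hB hχB hχ') sqOne_isClassFunction (sqOne_LR hM)) h4
    rwa [sub_add_cancel] at h5
  exact Nat.card_le_card_of_injective (fun C => ⟨f C, hdz C⟩)
    fun a b h => hinj (congrArg Subtype.val h)

end Cfsg.Agent.S4737
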