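import Cfsg.Statements.S4738
import Cfsg.Agent.Lib.DegreeTools.OddSylow
-- import your own Cfsg.Agent.* helpers here

set_option autoImplicit false
open Cfsg

namespace Cfsg.Agent.S4738

open CfsgLib.DegreeTools

/-- Let p be an odd prime and G a finite group of even order containing no element of order 2p. Then either G has an irreducible character of p-defect zero (its degree has the same p-part as the order of G), or every Sylow p-subgroup of G is abelian and all involutions of G are conjugate. -/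
theorem result {G : Type*} [Group G] [Finite G] (p : ℕ) [Fact p.Prime] (hp2 : p ≠ 2) (hG : Even (Nat.card G)) (h2p : ∀ g : G, orderOf g ≠ 2 * p) : (∃ χ : Cfsg.IrrCharacter G, (Cfsg.charDegree (χ : G → ℂ)).factorization p = (Nat.card G).factorization p) ∨ ((∀ P : Sylow p G, IsMulCommutative ↥(P : Subgroup G)) ∧ ∀ s t : G, orderOf s = 2 → orderOf t = 2 → IsConj s t) := by
  have hp : p.Prime := Fact.out
  refine Classical.or_iff_not_imp_left.mpr fun hdz => ?_
  have hpG : p ∣ Nat.card G := by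
    by_contra hn
    exact hdz ⟨oneChar G, by
      rw [deg_oneChar, Nat.factorization_one, Nat.factorization_eq_zero_of_not_dvd hn]; rfl⟩
  have h2G : 2 ∣ Nat.card G := even_iff_two_dvd.mp hG
  have hC : ∀ g : G, g ≠ 1 → (∃ k : ℕ, orderOf g = p ^ k) →
      Odd (Nat.card ↥(Subgroup.centralizer ({g} : Set G))) := by
    rintro g hg1 ⟨k, hk⟩
    rw [← Nat.not_even_iff_odd, even_iff_two_dvd]
    intro h2
    haveI : Fact (Nat.Prime 2) := ⟨Nat.prime_two⟩
    obtain ⟨t, ht⟩ := exists_prime_orderOf_dvd_card' 2 h2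
    rw [← Subgroup.orderOf_coe] at ht
    cases k with
    | zero => exact hg1 (orderOf_eq_one_iff.mp (by rw [hk, pow_zero]))
    | succ k =>
      have hg' : orderOf (g ^ p ^ k) = p := by
        rw [orderOf_pow' g (pow_ne_zero k hp.ne_zero), hk,
          Nat.gcd_eq_right (pow_dvd_pow p (Nat.le_succ k)), pow_succ,
          Nat.mul_div_cancel_left _ (pow_pos hp.pos k)]
      have hc : Commute (t : G) (g ^ p ^ k) :=
        Commute.pow_right (Subgroup.mem_centralizer_singleton_iff.mp t.2) _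
      refine h2p ((t : G) * g ^ p ^ k) ?_
      rw [hc.orderOf_mul_eq_mul_orderOf_of_coprime (by
        rw [ht, hg']; exact (Nat.coprime_primes Nat.prime_two hp).mpr (Ne.symm hp2)), ht, hg']
  have hsyl : ∀ t₀ : G, orderOf t₀ = 2 → ∃ t : G, IsConj t₀ t ∧ orderOf t = 2 ∧
      ∃ Q : Sylow p G, (∀ a ∈ (Q : Subgroup G), t * a * t⁻¹ = a⁻¹) := by
    intro t₀ ht₀
    obtain ⟨t, u, hc, ht, hu1, hu, htu⟩ := exists_inverted_conj hp2 hpG h2G hC hdz ht₀
    obtain ⟨Q, hQ, -⟩ := exists_sylow_inverted hC ht hu1 hu htu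
    exact ⟨t, hc, ht, Q, hQ⟩
  constructor
  · intro P
    haveI : Fact (Nat.Prime 2) := ⟨Nat.prime_two⟩
    obtain ⟨t₀, ht₀⟩ := exists_prime_orderOf_dvd_card' 2 h2G
    obtain ⟨t, -, -, Q, hQ⟩ := hsyl t₀ ht₀
    have hab := isMulCommutative_of_inverted hQ
    let e := P.equiv Q
    exact ⟨⟨fun a b => e.injective (by rw [map_mul, map_mul, hab.is_comm.comm])⟩⟩
  · intro s₀ t₀ hs₀ ht₀
    obtain ⟨s, hsc, hs, Q, hQ⟩ := hsyl s₀ hs₀
    obtain ⟨t₁, htc, ht₁, Q₁, hQ₁⟩ := hsyl t₀ ht₀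
    obtain ⟨c, hc⟩ := MulAction.exists_smul_eq G Q₁ Q
    refine hsc.trans (IsConj.trans ?_ (htc.trans (isConj_iff.mpr ⟨c, rfl⟩)).symm)
    set t := c * t₁ * c⁻¹ with ht'
    have ht : orderOf t = 2 := ((MulAut.conj c).orderOf_eq t₁).trans ht₁
    have hss : s * s = 1 := by rw [← sq, ← hs, pow_orderOf_eq_one]
    have htt : t * t = 1 := by rw [← sq, ← ht, pow_orderOf_eq_one]
    have hQt : ∀ a ∈ (Q : Subgroup G), t * a * t⁻¹ = a⁻¹ := by
      intro a ha
      rw [← hc, Sylow.coe_subgroup_smul,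
        Subgroup.mem_pointwise_smul_iff_inv_smul_mem, ← map_inv, MulAut.smul_def,
        MulAut.conj_apply, inv_inv] at ha
      have h := hQ₁ _ ha
      calc t * a * t⁻¹ = c * (t₁ * (c⁻¹ * a * c) * t₁⁻¹) * c⁻¹ := by rw [ht']; group
        _ = a⁻¹ := by rw [h]; group
    have hQne : (Q : Subgroup G) ≠ ⊥ := Q.ne_bot_of_dvd_card hpG
    haveI : Nontrivial (Q : Subgroup G) := (Subgroup.nontrivial_iff_ne_bot _).mpr hQne
    obtain ⟨⟨a, ha⟩, ha1⟩ := exists_ne (1 : (Q : Subgroup G))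
    have hsinv : s⁻¹ = s := inv_eq_of_mul_eq_one_right hss
    have htinv : t⁻¹ = t := inv_eq_of_mul_eq_one_right htt
    have hxmem : s * t ∈ Subgroup.centralizer ({a} : Set G) := by
      rw [Subgroup.mem_centralizer_singleton_iff]
      have h1 := hQt a ha
      have h2 := hQ a⁻¹ (inv_mem ha)
      rw [inv_inv] at h2
      rw [← mul_inv_eq_iff_eq_mul]
      calc s * t * a * (s * t)⁻¹ = s * (t * a * t⁻¹) * s⁻¹ := by group
        _ = a := by rw [h1, h2]
    obtain ⟨i, hi⟩ := (IsPGroup.iff_orderOf.mp Q.isPGroup') ⟨a, ha⟩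
    rw [Subgroup.orderOf_mk] at hi
    have hodd : Odd (orderOf (s * t)) := (hC a (fun e => ha1 (Subtype.ext e)) ⟨i, hi⟩).of_dvd_nat
      (Subgroup.orderOf_dvd_natCard _ hxmem)
    obtain ⟨m, hm⟩ := hodd
    refine isConj_iff.mpr ⟨(s * t) ^ m, ?_⟩
    have hflip : ∀ j : ℕ, s * ((s * t) ^ j)⁻¹ = (s * t) ^ j * s := by
      intro j
      rw [← inv_pow, mul_inv_rev, hsinv, htinv]
      induction j with
      | zero => simp
      | succ j ih =>
        rw [pow_succ, ← mul_assoc, ih, pow_succ]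
        simp [mul_assoc]
    rw [mul_assoc, hflip, ← mul_assoc, ← pow_add]
    have h1 : (s * t) ^ (m + m) * (s * t) = 1 := by
      rw [← pow_succ, show m + m + 1 = orderOf (s * t) by omega, pow_orderOf_eq_one]
    rw [mul_eq_one_iff_eq_inv.mp h1, mul_inv_rev, mul_assoc, inv_mul_cancel, mul_one, htinv]

end Cfsg.Agent.S4738
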