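import Cfsg.Statements.S4741
import Cfsg.Agent.Lib.DegreeTools.ClassPairs2
import Cfsg.Agent.Lib.DegreeTools.LocalDet
import Cfsg.Agent.Lib.Blocks.DefectGroup
import Cfsg.Agent.Lib.Blocks.Defect2
-- import your own Cfsg.Agent.* helpers here

set_option autoImplicit false
open Cfsg

namespace Cfsg.Agent.S4741

open CfsgLib CfsgLib.Blocks CfsgLib.DegreeTools

/-- Let p be a prime, M a maximal ideal of the algebraic integers containing p, and D a subgroup of the finite group G. Let x₁, …, x_r be pairwise non-conjugate elements of G such that D is a Sylow p-subgroup of the centralizer of each xᵢ, and such that for any conjugates g of some xᵢ and h of some xⱼ the element g h⁻¹ is never a non-identity p-element. Then there are r distinct p-blocks B₁, …, B_r of G, each having D as a defect group, such that for every choice of characters χᵢ ∈ Bᵢ of height zero the determinant of the r × r matrix (χᵢ(xⱼ)) does not lie in the local ideal at M. -/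
theorem result {G : Type*} [Group G] [Finite G] (p : ℕ) [Fact p.Prime] (M : Ideal Cfsg.AlgInt) (hM : Cfsg.IsPModular p M) (D : Subgroup G) {r : ℕ} (x : Fin r → G) (hx : ∀ i j : Fin r, IsConj (x i) (x j) → i = j) (hD : ∀ i : Fin r, ∃ S : Sylow p ↥(Subgroup.centralizer ({x i} : Set G)), (S : Subgroup ↥(Subgroup.centralizer ({x i} : Set G))).map (Subgroup.centralizer ({x i} : Set G)).subtype = D) (hsep : ∀ i j : Fin r, ∀ g h : G, IsConj (x i) g → IsConj (x j) h → ∀ k : ℕ, 0 < k → orderOf (g * h⁻¹) ≠ p ^ k) : ∃ B : Fin r → Set (Cfsg.IrrCharacter G), Function.Injective B ∧ (∀ i : Fin r, Cfsg.IsPBlock M (B i) ∧ Cfsg.IsDefectGroup p M (B i) D) ∧ ∀ χ : Fin r → Cfsg.IrrCharacter G, (∀ i : Fin r, χ i ∈ B i ∧ Cfsg.blockHeight p (B i) (χ i : G → ℂ) = 0) → ¬ Cfsg.MemLocalIdeal M (Matrix.det (Matrix.of fun i j : Fin r => (χ i : G → ℂ) (x j))) := by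
  classical
  cases nonempty_fintype G
  have hp : p.Prime := Fact.out
  set A := (Nat.card G).factorization p with hA
  set d := (Nat.card D).factorization p with hd
  have hcent : ∀ i, centExp p (x i) = d := by
    intro i
    obtain ⟨S, hS⟩ := hD i
    rw [hd, ← hS, Subgroup.card_map_of_injective (Subgroup.subtype_injective _),
      S.card_eq_multiplicity, hp.factorization_pow, Finsupp.single_eq_same]
    rfl
  -- the `p'`-parts
  set c : Fin r → ℕ := fun i => Nat.card (Subgroup.centralizer ({x i} : Set G)) / p ^ d with hc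
  have hcc : ∀ i, Nat.card (Subgroup.centralizer ({x i} : Set G)) = p ^ d * c i ∧ ¬ p ∣ c i := by
    intro i
    simp only [hc, ← hcent i, centExp]
    exact ⟨(Nat.ordProj_mul_ordCompl_eq_self _ _).symm, Nat.not_dvd_ordCompl hp Nat.card_pos.ne'⟩
  set k : Fin r → ℕ := fun i => (Subgroup.centralizer ({x i} : Set G)).index with hk
  set k' : Fin r → ℕ := fun i => k i / p ^ (A - d) with hk'
  have hkk : ∀ i, k i = p ^ (A - d) * k' i ∧ ¬ p ∣ k' i := by
    intro i
    have h1 := index_factorization_add (p := p) (x i)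
    rw [hcent i, ← hA] at h1
    have h2 : (k i).factorization p = A - d := by simp only [hk]; omega
    simp only [hk', ← h2]
    exact ⟨(Nat.ordProj_mul_ordCompl_eq_self _ _).symm,
      Nat.not_dvd_ordCompl hp Subgroup.index_ne_zero_of_finite⟩
  have hdA : d ≤ A ∨ r = 0 := by
    rcases Nat.eq_zero_or_pos r with h | h
    · exact Or.inr h
    · left
      rw [← hcent ⟨0, h⟩]
      exact centExp_le _
  let P : Sylow p G := default
  -- multiplicity of the principal character of `P`
  choose m hm using fun χ : Cfsg.IrrCharacter G => Char.IsCharacter.classInner_nat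
    (Char.IsCharacter.restrict (Char.isCharacter_irr χ) (P : Subgroup G))
    (Char.isCharacter_one (G := ↥(P : Subgroup G)))
  have hsumP : ∀ χ : Cfsg.IrrCharacter G,
      ∑ w : (P : Subgroup G), (χ : G → ℂ) (w⁻¹ : (P : Subgroup G)) = ((p ^ A : ℕ) : ℂ) * m χ := by
    intro χ
    have h := hm χ
    rw [Char.classInner_fun_one_right, inv_mul_eq_iff_eq_mul₀ Char.card_ne_zero,
      P.card_eq_multiplicity] at h
    rw [← h]
    exact Fintype.sum_equiv (Equiv.inv _) _ _ fun w => rfl
  set R : Fin r → Cfsg.IrrCharacter G → ℂ := fun i χ => (χ : G → ℂ) (x i)⁻¹ * (m χ : ℂ) with hR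
  set W : Cfsg.IrrCharacter G → Fin r → ℂ := fun χ i => Cfsg.centralChar (χ : G → ℂ) (x i) with hW
  have hWLR : ∀ χ i, Cfsg.MemLocalRing M (W χ i) := fun χ i => centralChar_LR hM χ _
  -- the main equation
  have hU : ∀ i j, ∑ χ : Cfsg.IrrCharacter G, R i χ * W χ j =
      if i = j then ((k' i * c i : ℕ) : ℂ) else 0 := by
    intro i j
    have h := sum_pairs_two (x j) (x i) (P : Subgroup G) fun g g' hg hg' hgg => by
      by_contra hne
      obtain ⟨e, he⟩ := (IsPGroup.iff_orderOf.mp P.isPGroup') ⟨_, hgg⟩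
      rw [Subgroup.orderOf_mk] at he
      refine hsep j i g g' hg hg' e (Nat.pos_of_ne_zero fun e0 => hne ?_) he
      rw [e0, pow_zero, orderOf_eq_one_iff] at he
      exact mul_inv_eq_one.mp he
    simp only [hsumP] at h
    have hpd : ((p ^ d : ℕ) : ℂ) ≠ 0 := Nat.cast_ne_zero.mpr (pow_ne_zero _ hp.ne_zero)
    have hterm : ∀ χ : Cfsg.IrrCharacter G, R i χ * W χ j * ((p ^ d : ℕ) : ℂ) =
        (k' j : ℂ) * ((χ : G → ℂ) (x j) * (χ : G → ℂ) (x i)⁻¹ / (χ : G → ℂ) 1 *
          (((p ^ A : ℕ) : ℂ) * (m χ : ℂ))) := by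
      intro χ
      have hAd : p ^ A = p ^ (A - d) * p ^ d := by
        rw [← pow_add, Nat.sub_add_cancel (hdA.resolve_right fun h0 => by subst h0; exact i.elim0)]
      simp only [hR, hW, Cfsg.centralChar]
      rw [show (Subgroup.centralizer ({x j} : Set G)).index = k j from rfl, (hkk j).1, hAd]
      push_cast
      ring
    apply mul_right_cancel₀ hpd
    rw [Finset.sum_mul, Finset.sum_congr rfl fun χ _ => hterm χ, ← Finset.mul_sum, h]
    by_cases hij : i = j
    · subst hij
      rw [if_pos (IsConj.refl _), if_pos rfl, (hcc i).1]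
      push_cast
      ring
    · rw [if_neg fun hc => hij (hx j i hc).symm, if_neg hij, mul_zero, zero_mul]
  -- some choice of characters has unit determinant
  have hdet : ¬ Cfsg.MemLocalIdeal M
      (Matrix.of fun i j => ∑ χ : Cfsg.IrrCharacter G, R i χ * W χ j).det := by
    rw [show (Matrix.of fun i j => ∑ χ : Cfsg.IrrCharacter G, R i χ * W χ j) =
        Matrix.diagonal fun i => ((k' i * c i : ℕ) : ℂ) from Matrix.ext fun i j => by
          rw [Matrix.of_apply, hU, Matrix.diagonal_apply],
      Matrix.det_diagonal, ← Nat.cast_prod, LI.natCast_iff hM]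
    intro hd
    obtain ⟨i, -, hi⟩ := (Prime.dvd_finsetProd_iff hp.prime _).mp hd
    rcases hp.dvd_mul.mp hi with h | h
    · exact (hkk i).2 h
    · exact (hcc i).2 h
  rw [LocalDet.det_sum_expand] at hdet
  obtain ⟨f, hf⟩ : ∃ f : Fin r → Cfsg.IrrCharacter G,
      ¬ Cfsg.MemLocalIdeal M ((∏ i, R i (f i)) * (Matrix.of fun i j => W (f i) j).det) := by
    by_contra hcon
    push Not at hcon
    exact hdet (LI.sum hM fun f _ => hcon f)
  have hRLR : ∀ i χ, Cfsg.MemLocalRing M (R i χ) := fun i χ =>
    LR.mul hM (LR.of_isIntegral hM (irr_isIntegral χ _)) (LR.natCast hM _)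
  have hWdet : ¬ Cfsg.MemLocalIdeal M (Matrix.of fun i j => W (f i) j).det := fun h =>
    hf (LI.mul_left hM (LR.prod hM fun i _ => hRLR i (f i)) h)
  have hRne : ∀ i, ¬ Cfsg.MemLocalIdeal M (R i (f i)) := by
    intro i h
    apply hf
    rw [← Finset.mul_prod_erase _ _ (Finset.mem_univ i)]
    exact LI.mul_right hM (LI.mul_right hM h (LR.prod hM fun j _ => hRLR j _))
      (LocalDet.det_LR hM _ fun a b => hWLR _ _)
  set B : Fin r → Set (Cfsg.IrrCharacter G) := fun i => Cfsg.blockOf M (f i : G → ℂ) with hB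
  have hmem : ∀ i, f i ∈ B i := fun i => SameBlock_refl hM _
  have hblk : ∀ i, Cfsg.IsPBlock M (B i) := fun i => ⟨f i, rfl⟩
  have hinj : Function.Injective B := by
    intro i j hij
    by_contra hne
    refine hWdet (LocalDet.det_LI_of_row_congr hM _ (fun a b => hWLR _ _) hne fun l => ?_)
    exact IsPBlock.sameBlock hM (hblk i) (hmem i) (hij ▸ hmem j) (x l)
  -- each block has a unit central character at some `x l`
  have hunit : ∀ i, ∃ l, ¬ Cfsg.MemLocalIdeal M (W (f i) l) := by
    intro i
    by_contra hcon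
    push Not at hcon
    exact hWdet (LocalDet.det_LI_of_row hM _ (fun a b => hWLR _ _) i hcon)
  have hle : ∀ i, blockDefect p (B i) ≤ d := by
    intro i
    obtain ⟨l, hl⟩ := hunit i
    rw [← hcent l]
    exact blockDefect_le_centExp hM (hblk i) (hmem i) hl
  have hdeg : ∀ i, degVal p (f i) ≤ A - d := by
    intro i
    by_contra hgt
    refine hRne i (LI.mul_right hM ?_ (LR.natCast hM _))
    -- `χ(x⁻¹) = ω χ(1) / k`
    have hdvd : p ^ ((k i).factorization p + 1) ∣ Cfsg.charDegree (f i : G → ℂ) := by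
      refine (hp.pow_dvd_iff_le_factorization (charDegree_pos _).ne').mpr ?_
      have h1 := index_factorization_add (p := p) (x i)
      rw [hcent i, ← hA] at h1
      rw [degVal] at hgt
      simp only [hk]
      omega
    have h := LI.mul_left hM (centralChar_LR hM (f i) (x i)⁻¹)
      (natCast_div_LI hM (p := p) (n := Cfsg.charDegree (f i : G → ℂ))
        (d := k i) Subgroup.index_ne_zero_of_finite hdvd)
    convert h using 1
    have hidx : (Subgroup.centralizer ({(x i)⁻¹} : Set G)).index = k i := by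
      rw [hk]
      congr 1
      ext y
      simp only [Subgroup.mem_centralizer_singleton_iff]
      exact ⟨fun e => (Commute.inv_right_iff.mp e : Commute y (x i)),
        fun e => (Commute.inv_right (e : Commute y (x i)) :)⟩
    have hk0 : (k i : ℂ) ≠ 0 := Nat.cast_ne_zero.mpr Subgroup.index_ne_zero_of_finite
    have h0 := irr_one_ne_zero (f i)
    rw [Cfsg.centralChar, hidx, ← irr_one_eq]
    field_simp
  have hdef : ∀ i, blockDefect p (B i) = d ∧ minDegVal p (B i) = A - d := by
    intro i
    have h1 := hle i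
    have h2 := blockDefect_add_min (p := p) ⟨f i, hmem i⟩
    have h3 := minDegVal_le (p := p) (hmem i)
    have h4 := hdeg i
    have h5 : d ≤ A := hdA.resolve_right fun h0 => by subst h0; exact i.elim0
    rw [← hA] at h2
    omega
  refine ⟨B, hinj, fun i => ⟨hblk i, ?_⟩, fun χ hχ => ?_⟩
  · obtain ⟨l, hl⟩ := hunit i
    obtain ⟨D', hD'⟩ := exists_isDefectGroup hM (hblk i)
    obtain ⟨h', hc', hcD⟩ := exists_conj_centralizes_defectGroup hM (hblk i) hD' (hmem i) hl
    obtain ⟨y, rfl⟩ := isConj_iff.mp hc'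
    set E := D'.map (MulAut.conj y⁻¹).toMonoidHom with hE
    have hEC : E ≤ Subgroup.centralizer ({x l} : Set G) := by
      rintro _ ⟨u, hu, rfl⟩
      have h1 := Subgroup.mem_centralizer_iff.1 hcD u hu
      refine Subgroup.mem_centralizer_singleton_iff.2 ?_
      have := congrArg (fun w => y⁻¹ * w * y) h1
      simpa [mul_assoc] using this
    have hEdef : Cfsg.IsDefectGroup p M (B i) E := isDefectGroup_conj hD' y⁻¹
    obtain ⟨S, hS⟩ := hD l
    have hcard : Nat.card (E.subgroupOf (Subgroup.centralizer ({x l} : Set G))) =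
        p ^ (Nat.card (Subgroup.centralizer ({x l} : Set G))).factorization p := by
      rw [Nat.card_congr (Subgroup.subgroupOfEquivOfLe hEC).toEquiv, card_defectGroup hM (hblk i) hEdef,
        (hdef i).1, ← hcent l]
      rfl
    obtain ⟨z, hz⟩ := MulAction.exists_smul_eq (Subgroup.centralizer ({x l} : Set G))
      (Sylow.ofCard _ hcard) S
    have heq : D = E.map (MulAut.conj (z : G)).toMonoidHom := by
      rw [← hS, ← hz, Sylow.coe_subgroup_smul, Sylow.coe_ofCard]
      ext u
      constructor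
      · rintro ⟨v, ⟨w, hw, rfl⟩, rfl⟩
        exact ⟨(w : G), hw, rfl⟩
      · rintro ⟨e, he, rfl⟩
        exact ⟨z * ⟨e, hEC he⟩ * z⁻¹, ⟨⟨e, hEC he⟩, he, rfl⟩, rfl⟩
    exact heq ▸ isDefectGroup_conj hEdef _
  · -- the final determinant
    have hdχ : ∀ i, degVal p (χ i) = A - d := fun i => by
      rw [(blockHeight_eq_zero_iff (hχ i).1).mp (hχ i).2, (hdef i).2]
    set u : Fin r → ℕ := fun i => Cfsg.charDegree (χ i : G → ℂ) / p ^ (A - d) with hu
    have huu : ∀ i, Cfsg.charDegree (χ i : G → ℂ) = p ^ (A - d) * u i ∧ ¬ p ∣ u i := by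
      intro i
      simp only [hu, ← hdχ i, degVal]
      exact ⟨(Nat.ordProj_mul_ordCompl_eq_self _ _).symm,
        Nat.not_dvd_ordCompl hp (charDegree_pos _).ne'⟩
    have hk'0 : ∀ j, (k' j : ℂ) ≠ 0 := fun j =>
      Nat.cast_ne_zero.mpr fun h => (hkk j).2 (h ▸ dvd_zero p)
    have e : (Matrix.of fun i j : Fin r => (χ i : G → ℂ) (x j)) =
        Matrix.of fun i j => (k' j : ℂ)⁻¹ *
          (Matrix.of fun i j => (u i : ℂ) * (Matrix.of fun i j => W (χ i) j) i j) i j := by
      ext i j
      simp only [Matrix.of_apply, hW, Cfsg.centralChar]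
      rw [show (Subgroup.centralizer ({x j} : Set G)).index = k j from rfl, (hkk j).1,
        irr_one_eq, (huu i).1]
      have hp0 : ((p : ℂ) ^ (A - d)) ≠ 0 := pow_ne_zero _ (Nat.cast_ne_zero.mpr hp.ne_zero)
      have hu0 : (u i : ℂ) ≠ 0 := Nat.cast_ne_zero.mpr fun h => (huu i).2 (h ▸ dvd_zero p)
      have := hk'0 j
      push_cast
      field_simp
    have hprodu : ¬ Cfsg.MemLocalIdeal M (∏ i, (u i : ℂ)) := by
      rw [← Nat.cast_prod, LI.natCast_iff hM]
      intro h
      obtain ⟨i, -, hi⟩ := (Prime.dvd_finsetProd_iff hp.prime _).mp h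
      exact (huu i).2 hi
    have hprodk : ¬ Cfsg.MemLocalIdeal M (((∏ j, k' j : ℕ)) : ℂ) := by
      rw [LI.natCast_iff hM]
      intro h
      obtain ⟨i, -, hi⟩ := (Prime.dvd_finsetProd_iff hp.prime _).mp h
      exact (hkk i).2 hi
    have hχdet : ¬ Cfsg.MemLocalIdeal M (Matrix.of fun i j => W (χ i) j).det := by
      intro h
      have h2 := LocalDet.det_congr hM (Matrix.of fun i j => W (f i) j)
        (Matrix.of fun i j => W (χ i) j) (fun a b => hWLR _ _) (fun a b => hWLR _ _)
        fun a b => IsPBlock.sameBlock hM (hblk a) (hmem a) (hχ a).1 (x b)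
      have := LI.add hM h2 h
      rw [sub_add_cancel] at this
      exact hWdet this
    rw [e, Matrix.det_mul_row, Matrix.det_mul_column]
    intro h
    have h2 := LI.mul_left hM (LR.natCast hM (∏ j, k' j)) h
    rw [Nat.cast_prod, ← mul_assoc, ← Finset.prod_mul_distrib,
      Finset.prod_eq_one (fun j _ => mul_inv_cancel₀ (hk'0 j)), one_mul] at h2
    exact not_LI_mul hM (LR.prod hM fun i _ => LR.natCast hM _)
      (LocalDet.det_LR hM _ fun a b => hWLR _ _) hprodu hχdet h2

end Cfsg.Agent.S4741
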