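import Cfsg.Statements.S4742
import Cfsg.Agent.Lib.DegreeTools.ClassPairs
-- import your own Cfsg.Agent.* helpers here

set_option autoImplicit false
open Cfsg

namespace Cfsg.Agent.S4742

/-- Let p ≠ q be primes dividing the order of the finite group G, and suppose the centralizer of every non-identity p-element of G has order prime to q. Then either G has an irreducible character of p-defect zero, or for every non-identity q-element z of G there are conjugates g, h of z such that g h⁻¹ is a non-identity p-element. -/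
theorem result {G : Type*} [Group G] [Finite G] (p q : ℕ) [Fact p.Prime] [Fact q.Prime] (hppq : p ≠ q) (hpG : p ∣ Nat.card G) (hqG : q ∣ Nat.card G) (hC : ∀ g : G, g ≠ 1 → (∃ k : ℕ, orderOf g = p ^ k) → ¬ q ∣ Nat.card ↥(Subgroup.centralizer ({g} : Set G))) : (∃ χ : Cfsg.IrrCharacter G, (Cfsg.charDegree (χ : G → ℂ)).factorization p = (Nat.card G).factorization p) ∨ ∀ z : G, z ≠ 1 → (∃ k : ℕ, orderOf z = q ^ k) → ∃ g h : G, IsConj z g ∧ IsConj z h ∧ g * h⁻¹ ≠ 1 ∧ ∃ k : ℕ, orderOf (g * h⁻¹) = p ^ k := by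
  by_contra hcon
  push Not at hcon
  obtain ⟨hdz, z, hz1, ⟨e, he⟩, hno⟩ := hcon
  let P : Sylow p G := default
  have hp : p.Prime := Fact.out
  have hq : q.Prime := Fact.out
  obtain ⟨χ, hχ⟩ := CfsgLib.DegreeTools.exists_pow_dvd_deg p z P ((Nat.card G).factorization p)
    P.card_eq_multiplicity fun g k hg hk hgk => by
      by_contra hne
      obtain ⟨i, hi⟩ := (IsPGroup.iff_orderOf.mp P.isPGroup') ⟨_, hgk⟩
      exact hno g k hg hk (fun e => hne (mul_inv_eq_one.mp e)) i
        (by rw [← hi, ← Subgroup.orderOf_coe])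
  have ha : (Nat.card (Subgroup.centralizer ({z} : Set G))).factorization p = 0 := by
    refine Nat.factorization_eq_zero_of_not_dvd fun hd => ?_
    obtain ⟨g, hg⟩ := exists_prime_orderOf_dvd_card' p hd
    rw [← Subgroup.orderOf_coe] at hg
    refine hC (g : G) (fun e => ?_) ⟨1, by rw [hg, pow_one]⟩ ?_
    · rw [e, orderOf_one] at hg; exact hp.one_lt.ne hg
    have h1 : Subgroup.zpowers z ≤ Subgroup.centralizer ({(g : G)} : Set G) := by
      rw [Subgroup.zpowers_le, Subgroup.mem_centralizer_singleton_iff]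
      exact (Subgroup.mem_centralizer_singleton_iff.mp g.2).symm
    refine dvd_trans ?_ (Subgroup.card_dvd_of_le h1)
    rw [Nat.card_zpowers, he]
    refine dvd_pow_self q fun h0 => hz1 ?_
    rw [h0, pow_zero, orderOf_eq_one_iff] at he
    exact he
  rw [ha, Nat.sub_zero] at hχ
  exact hdz χ (le_antisymm
    ((Nat.factorization_le_iff_dvd (CfsgLib.DegreeTools.deg_pos χ).ne' Nat.card_pos.ne').mpr
      (CfsgLib.DegreeTools.deg_dvd_card χ) p)
    ((hp.pow_dvd_iff_le_factorization (CfsgLib.DegreeTools.deg_pos χ).ne').mp hχ))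

end Cfsg.Agent.S4742
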