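import Cfsg.Statements.S4743
import Cfsg.Agent.S4742
-- import your own Cfsg.Agent.* helpers here

set_option autoImplicit false
open Cfsg

namespace Cfsg.Agent.S4743

theorem swap {G : Type*} [Group G] [Finite G] (p q : ℕ) [Fact p.Prime] [Fact q.Prime]
    (hC : ∀ g : G, g ≠ 1 → (∃ k : ℕ, orderOf g = p ^ k) →
      ¬ q ∣ Nat.card ↥(Subgroup.centralizer ({g} : Set G))) :
    ∀ g : G, g ≠ 1 → (∃ k : ℕ, orderOf g = q ^ k) →
      ¬ p ∣ Nat.card ↥(Subgroup.centralizer ({g} : Set G)) := by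
  rintro g hg1 ⟨k, hk⟩ hd
  obtain ⟨x, hx⟩ := exists_prime_orderOf_dvd_card' p hd
  rw [← Subgroup.orderOf_coe] at hx
  refine hC (x : G) (fun e => ?_) ⟨1, by rw [hx, pow_one]⟩ ?_
  · rw [e, orderOf_one] at hx; exact (Fact.out : p.Prime).one_lt.ne hx
  have h1 : Subgroup.zpowers g ≤ Subgroup.centralizer ({(x : G)} : Set G) := by
    rw [Subgroup.zpowers_le, Subgroup.mem_centralizer_singleton_iff]
    exact (Subgroup.mem_centralizer_singleton_iff.mp x.2).symm
  refine dvd_trans ?_ (Subgroup.card_dvd_of_le h1)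
  rw [Nat.card_zpowers, hk]
  refine dvd_pow_self q fun h0 => hg1 ?_
  rw [h0, pow_zero, orderOf_eq_one_iff] at hk
  exact hk

theorem key {G : Type*} [Group G] [Finite G] (p q : ℕ) [Fact p.Prime] [Fact q.Prime]
    (hppq : p ≠ q) (hpG : p ∣ Nat.card G) (hqG : q ∣ Nat.card G)
    (hC : ∀ g : G, g ≠ 1 → (∃ k : ℕ, orderOf g = p ^ k) →
      ¬ q ∣ Nat.card ↥(Subgroup.centralizer ({g} : Set G))) (hs : Cfsg.IsPSolvable q G) :
    (∃ χ : Cfsg.IrrCharacter G,
      (Cfsg.charDegree (χ : G → ℂ)).factorization p = (Nat.card G).factorization p) ∨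
    (∃ χ : Cfsg.IrrCharacter G,
      (Cfsg.charDegree (χ : G → ℂ)).factorization q = (Nat.card G).factorization q) := by
  classical
  by_contra hcon
  rw [not_or] at hcon
  have hpp : p.Prime := Fact.out
  have hqq : q.Prime := Fact.out
  have hpair : ∀ (r s : ℕ) [Fact r.Prime] [Fact s.Prime], r ≠ s → r ∣ Nat.card G → s ∣ Nat.card G →
      (∀ g : G, g ≠ 1 → (∃ k : ℕ, orderOf g = r ^ k) →
        ¬ s ∣ Nat.card ↥(Subgroup.centralizer ({g} : Set G))) →
      (¬ ∃ χ : Cfsg.IrrCharacter G,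
        (Cfsg.charDegree (χ : G → ℂ)).factorization r = (Nat.card G).factorization r) →
      ∀ N : Subgroup G, N.Normal → s ∣ Nat.card N → r ∣ Nat.card N := by
    intro r s _ _ hrs hr hsG hC' hno N hN hsN
    obtain ⟨z, hz⟩ := exists_prime_orderOf_dvd_card' s hsN
    rw [← Subgroup.orderOf_coe] at hz
    obtain ⟨g, k, hg, hk, hne, i, hi⟩ :=
      ((Cfsg.Agent.S4742.result r s hrs hr hsG hC').resolve_left hno) (z : G)
        (fun e => by rw [e, orderOf_one] at hz; exact (Fact.out : s.Prime).one_lt.ne hz)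
        ⟨1, by rw [hz, pow_one]⟩
    have hmem : ∀ y : G, IsConj (z : G) y → y ∈ N := by
      intro y hy
      obtain ⟨d, rfl⟩ := isConj_iff.mp hy
      exact hN.conj_mem _ z.2 d
    refine dvd_trans ?_ (Subgroup.orderOf_dvd_natCard N (N.mul_mem (hmem g hg) (N.inv_mem (hmem k hk))))
    rw [hi]
    refine dvd_pow_self r fun h0 => hne ?_
    rw [h0, pow_zero, orderOf_eq_one_iff] at hi
    exact hi
  obtain ⟨n, H, h0, hlast, hmono, hnorm, hfac⟩ := hs
  have hex : ∃ j : ℕ, ∃ hj : j < n + 1, p ∣ Nat.card (H ⟨j, hj⟩) ∨ q ∣ Nat.card (H ⟨j, hj⟩) := by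
    refine ⟨n, Nat.lt_succ_self n, Or.inl ?_⟩
    have : H ⟨n, Nat.lt_succ_self n⟩ = ⊤ := hlast
    rwa [this, Subgroup.card_top]
  obtain ⟨hj, hd⟩ := Nat.find_spec hex
  cases hj0 : Nat.find hex with
  | zero =>
    simp only [hj0, show (⟨0, n.succ_pos⟩ : Fin (n + 1)) = 0 from rfl, h0, Subgroup.card_bot,
      Nat.dvd_one] at hd
    rcases hd with h | h
    · exact hpp.ne_one h
    · exact hqq.ne_one h
  | succ j =>
    have hjn : j < n := by omega
    have hmin := Nat.find_min hex (show j < Nat.find hex by omega)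
    push Not at hmin
    obtain ⟨hp', hq'⟩ := hmin (by omega)
    set A := H (Fin.castSucc ⟨j, hjn⟩) with hA
    set B := H (Fin.succ ⟨j, hjn⟩) with hB
    have hAB : Nat.card B = Nat.card A * A.relIndex B :=
      by rw [← Subgroup.relIndex_bot_left A, ← Subgroup.relIndex_bot_left B,
        Subgroup.relIndex_mul_relIndex ⊥ A B bot_le (hmono (Fin.castSucc_le_succ _))]
    have hd' : p ∣ Nat.card B ∨ q ∣ Nat.card B := by
      have : (⟨Nat.find hex, hj⟩ : Fin (n + 1)) = Fin.succ ⟨j, hjn⟩ := Fin.ext hj0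
      rwa [this] at hd
    rcases hfac ⟨j, hjn⟩ with ⟨m, hm⟩ | hcop
    · have hnp : ¬ p ∣ Nat.card B := by
        rw [hAB, hm]
        intro h
        rcases hpp.dvd_mul.mp h with h | h
        · exact hp' h
        · exact hppq ((Nat.prime_dvd_prime_iff_eq hpp hqq).mp (hpp.dvd_of_dvd_pow h))
      exact hnp (hpair p q hppq hpG hqG hC hcon.1 B (hnorm _) (hd'.resolve_left hnp))
    · have hnq : ¬ q ∣ Nat.card B := by
        rw [hAB]
        intro h
        rcases hqq.dvd_mul.mp h with h | h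
        · exact hq' h
        · exact hqq.coprime_iff_not_dvd.mp hcop.symm h
      exact hnq (hpair q p hppq.symm hqG hpG (swap p q hC) hcon.2 B (hnorm _) (hd'.resolve_right hnq))


/-- Let p ≠ q be primes dividing the order of the finite group G, suppose the centralizer of every non-identity p-element has order prime to q, and suppose G is p-solvable or q-solvable. Then G has an irreducible character of p-defect zero or an irreducible character of q-defect zero. -/
theorem result {G : Type*} [Group G] [Finite G] (p q : ℕ) [Fact p.Prime] [Fact q.Prime] (hppq : p ≠ q) (hpG : p ∣ Nat.card G) (hqG : q ∣ Nat.card G) (hC : ∀ g : G, g ≠ 1 → (∃ k : ℕ, orderOf g = p ^ k) → ¬ q ∣ Nat.card ↥(Subgroup.centralizer ({g} : Set G))) (hsolv : Cfsg.IsPSolvable p G ∨ Cfsg.IsPSolvable q G) : (∃ χ : Cfsg.IrrCharacter G, (Cfsg.charDegree (χ : G → ℂ)).factorization p = (Nat.card G).factorization p) ∨ (∃ χ : Cfsg.IrrCharacter G, (Cfsg.charDegree (χ : G → ℂ)).factorization q = (Nat.card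 G).factorization q) := by
  rcases hsolv with h | h
  · exact (key q p hppq.symm hqG hpG (swap p q hC) h).symm
  · exact key p q hppq hpG hqG hC h

end Cfsg.Agent.S4743
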