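import Cfsg.Statements.S4744
import Cfsg.Agent.Lib.DegreeTools.OddCentralizer
-- import your own Cfsg.Agent.* helpers here

set_option autoImplicit false
open Cfsg

namespace Cfsg.Agent.S4744

/-- Invariant Sylow subgroup of an odd centraliser, inverted by `t`. -/
theorem exists_inverted_sylow {G : Type*} [Group G] [Finite G] {p : ℕ} [Fact p.Prime]
    (hC : ∀ g : G, g ≠ 1 → (∃ k : ℕ, orderOf g = p ^ k) →
      Odd (Nat.card ↥(Subgroup.centralizer ({g} : Set G))))
    {t u : G} (ht : orderOf t = 2) (hu1 : u ≠ 1) (hu : ∃ k : ℕ, orderOf u = p ^ k)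
    (htu : t * u * t⁻¹ = u⁻¹) :
    ∃ R : Sylow p (Subgroup.centralizer ({u} : Set G)),
      (∀ a ∈ (R : Subgroup (Subgroup.centralizer ({u} : Set G))).map
        (Subgroup.centralizer ({u} : Set G)).subtype, t * a * t⁻¹ = a⁻¹) ∧
      t ∈ Subgroup.normalizer (((R : Subgroup (Subgroup.centralizer ({u} : Set G))).map
        (Subgroup.centralizer ({u} : Set G)).subtype : Subgroup G) : Set G) := by
  set K := Subgroup.centralizer ({u} : Set G) with hK
  have htK : t ∈ Subgroup.normalizer (K : Set G) := by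
    rw [Subgroup.mem_normalizer_iff]
    intro x
    simp only [hK, Subgroup.mem_centralizer_singleton_iff]
    rw [← commute_iff_eq, ← commute_iff_eq, ← Commute.inv_right_iff (a := t * x * t⁻¹) (b := u),
      ← htu]
    exact (Commute.conj_iff (a := x) (b := u) t).symm
  have hcop : (Nat.card (Subgroup.zpowers t)).Coprime (Nat.card K) := by
    rw [Nat.card_zpowers, ht, Nat.coprime_two_left]
    exact hC u hu1 hu
  obtain ⟨R, hR⟩ := CfsgLib.Coprime.exists_invariant_sylow (K := K)
    ((Subgroup.zpowers_le).mpr htK) hcop (Or.inl inferInstance) p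
  have htR := hR (Subgroup.mem_zpowers t)
  exact ⟨R, CfsgLib.DegreeTools.inverts_pgroup hC ht (R.isPGroup'.map _)
    (fun a ha => ((Subgroup.mem_normalizer_iff.mp htR) a).mp ha), htR⟩


/-- Let p be an odd prime and G a finite group of even order divisible by p in which the centralizer of every non-identity p-element has odd order. Then either G has an irreducible character of p-defect zero, or the normalizer of every Sylow p-subgroup P of G has even order and P is abelian. -/
theorem result {G : Type*} [Group G] [Finite G] (p : ℕ) [Fact p.Prime] (hp2 : p ≠ 2) (hpG : p ∣ Nat.card G) (h2G : 2 ∣ Nat.card G) (hC : ∀ g : G, g ≠ 1 → (∃ k : ℕ, orderOf g = p ^ k) → Odd (Nat.card ↥(Subgroup.centralizer ({g} : Set G)))) : (∃ χ : Cfsg.IrrCharacter G, (Cfsg.charDegree (χ : G → ℂ)).factorization p = (Nat.card G).factorization p) ∨ ∀ P : Sylow p G, Even (Nat.card ↥(Subgroup.normalizer ((P : Subgroup G) : Set G))) ∧ IsMulCommutative ↥(P : Subgroup G) := by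
  refine Classical.or_iff_not_imp_left.mpr fun hdz => ?_
  obtain ⟨t, u, ht, hu1, hu, htu⟩ :=
    CfsgLib.DegreeTools.exists_inverted hp2 hpG h2G hC hdz
  have hp : p.Prime := Fact.out
  obtain ⟨R, hRinv, -⟩ := exists_inverted_sylow hC ht hu1 hu htu
  let K := Subgroup.centralizer ({u} : Set G)
  let R' := (R : Subgroup K).map K.subtype
  -- `u` lies in `R'`
  have huK : u ∈ K := Subgroup.mem_centralizer_singleton_iff.mpr rfl
  have hUn : (Subgroup.zpowers (⟨u, huK⟩ : K)).Normal := by
    refine ⟨fun x hx c => ?_⟩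
    obtain ⟨i, rfl⟩ := Subgroup.mem_zpowers_iff.mp hx
    have hc : Commute c (⟨u, huK⟩ : K) :=
      Subtype.ext (Subgroup.mem_centralizer_singleton_iff.mp c.2)
    rw [(hc.zpow_right i).eq, mul_inv_cancel_right]
    exact hx
  have huR : (⟨u, huK⟩ : K) ∈ (R : Subgroup K) := by
    obtain ⟨k, hk⟩ := hu
    have hU : IsPGroup p (Subgroup.zpowers (⟨u, huK⟩ : K)) :=
      IsPGroup.of_card (n := k) (by rw [Nat.card_zpowers, Subgroup.orderOf_mk, hk])
    exact hU.le_sylow_of_normal R (Subgroup.mem_zpowers _)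
  obtain ⟨P₁, hP₁⟩ := (R.isPGroup'.map K.subtype).exists_le_sylow
  have huP₁ : u ∈ (P₁ : Subgroup G) := hP₁ ⟨⟨u, huK⟩, huR, rfl⟩
  haveI : Nontrivial (P₁ : Subgroup G) :=
    (Subgroup.nontrivial_iff_ne_bot _).mpr fun e => hu1 (Subgroup.mem_bot.mp (e ▸ huP₁))
  haveI := P₁.isPGroup'.center_nontrivial
  obtain ⟨⟨⟨z, hzP⟩, hzc⟩, hz1⟩ := exists_ne (1 : Subgroup.center ↥(P₁ : Subgroup G))
  have hzc' : ∀ g ∈ (P₁ : Subgroup G), g * z = z * g := fun g hg =>
    congrArg Subtype.val (Subgroup.mem_center_iff.mp hzc ⟨g, hg⟩)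
  have hz1' : z ≠ 1 := fun e => hz1 (Subtype.ext (Subtype.ext e))
  have hzR : z ∈ R' := by
    have h1 : (R : Subgroup K) ≤ (P₁ : Subgroup G).subgroupOf K :=
      fun x hx => Subgroup.mem_subgroupOf.mpr (hP₁ ⟨x, hx, rfl⟩)
    have h2 : IsPGroup p ((P₁ : Subgroup G).subgroupOf K) :=
      P₁.isPGroup'.comap_of_injective K.subtype K.subtype_injective
    have hzK : z ∈ K := Subgroup.mem_centralizer_singleton_iff.mpr (hzc' u huP₁).symm
    exact ⟨⟨z, hzK⟩, R.is_maximal' h2 h1 ▸ Subgroup.mem_subgroupOf.mpr hzP, rfl⟩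
  obtain ⟨k, hk⟩ := (IsPGroup.iff_orderOf.mp P₁.isPGroup') ⟨z, hzP⟩
  rw [Subgroup.orderOf_mk] at hk
  obtain ⟨S, hSinv, hSn⟩ := exists_inverted_sylow hC ht hz1' ⟨k, hk⟩ (hRinv z hzR)
  let L := Subgroup.centralizer ({z} : Set G)
  let S' := (S : Subgroup L).map L.subtype
  have hScard : Nat.card S' = p ^ (Nat.card G).factorization p := by
    rw [Subgroup.card_map_of_injective L.subtype_injective, S.card_eq_multiplicity]
    have hle : (P₁ : Subgroup G) ≤ L :=
      fun g hg => Subgroup.mem_centralizer_singleton_iff.mpr (hzc' g hg)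
    refine congrArg _ (le_antisymm
      ((Nat.factorization_le_iff_dvd Nat.card_pos.ne' Nat.card_pos.ne').mpr
        (Subgroup.card_subgroup_dvd_card _) p) ?_)
    have h1 := Subgroup.card_dvd_of_le hle
    rw [P₁.card_eq_multiplicity] at h1
    exact (hp.pow_dvd_iff_le_factorization Nat.card_pos.ne').mp h1
  let Q : Sylow p G := Sylow.ofCard S' hScard
  intro P
  constructor
  · have hQ : Even (Nat.card ↥(Subgroup.normalizer ((Q : Subgroup G) : Set G))) := by
      rw [even_iff_two_dvd, ← ht]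
      exact Subgroup.orderOf_dvd_natCard _ hSn
    have e1 := (Sylow.card_eq_index_normalizer P).symm.trans (Sylow.card_eq_index_normalizer Q)
    have e2 := Subgroup.index_mul_card (Subgroup.normalizer ((P : Subgroup G) : Set G))
    have e3 := Subgroup.index_mul_card (Subgroup.normalizer ((Q : Subgroup G) : Set G))
    rw [show (Subgroup.normalizer ((P : Subgroup G) : Set G)).index =
      (Subgroup.normalizer ((Q : Subgroup G) : Set G)).index from e1, ← e3] at e2
    rw [Nat.eq_of_mul_eq_mul_left (Nat.pos_of_ne_zero Subgroup.index_ne_zero_of_finite) e2]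
    exact hQ
  · have hQ : IsMulCommutative ↥(Q : Subgroup G) := by
      refine ⟨⟨fun a b => Subtype.ext ?_⟩⟩
      have h1 : t * (a.1 * b.1) * t⁻¹ = (t * a.1 * t⁻¹) * (t * b.1 * t⁻¹) := by group
      rw [hSinv _ (mul_mem a.2 b.2), hSinv _ a.2, hSinv _ b.2, mul_inv_rev] at h1
      simpa using (congrArg Inv.inv h1)
    let e := P.equiv Q
    exact ⟨⟨fun a b => e.injective (by rw [map_mul, map_mul, hQ.is_comm.comm])⟩⟩

end Cfsg.Agent.S4744
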