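import Cfsg.Statements.S4746
import Cfsg.Agent.Lib.DegreeTools.OddCentralizer
-- import your own Cfsg.Agent.* helpers here

set_option autoImplicit false
open Cfsg

namespace Cfsg.Agent.S4746

open CfsgLib.Char CfsgLib.DegreeTools

theorem sq_sum {ι : Type*} (s : Finset ι) (f : ι → ℂ) (hf : ∀ i ∈ s, IsIntegral ℤ (f i)) :
    ∃ w : ℂ, IsIntegral ℤ w ∧ (∑ i ∈ s, f i) ^ 2 = ∑ i ∈ s, f i ^ 2 + 2 * w := by
  classical
  induction s using Finset.induction with
  | empty => exact ⟨0, isIntegral_zero, by simp⟩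
  | insert i s hi ih =>
    obtain ⟨w, hw, he⟩ := ih fun j hj => hf j (Finset.mem_insert_of_mem hj)
    refine ⟨w + f i * ∑ j ∈ s, f j,
      hw.add ((hf i (Finset.mem_insert_self i s)).mul
        (IsIntegral.sum _ fun j hj => hf j (Finset.mem_insert_of_mem hj))), ?_⟩
    rw [Finset.sum_insert hi, Finset.sum_insert hi]
    linear_combination he

theorem char_sq {G : Type*} [Group G] [Finite G] (χ : Cfsg.IrrCharacter G) (g : G) :
    ∃ w : ℂ, IsIntegral ℤ w ∧ (χ : G → ℂ) g ^ 2 = (χ : G → ℂ) (g ^ 2) + 2 * w := by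
  obtain ⟨n, ρ, hirr, hρ⟩ := χ.2
  obtain ⟨μ, hμ, hk⟩ := exists_eigenvalues ρ g
  obtain ⟨w, hw, he⟩ := sq_sum Finset.univ μ fun i _ =>
    isIntegral_of_pow_eq_one (orderOf_pos g).ne' (hμ i)
  refine ⟨w, hw, ?_⟩
  have h1 : ρ.character g = ∑ i, μ i := by simpa using hk 1
  rw [← hρ, h1, hk 2, he]


/-- Let p be an odd prime and G a finite group of even order divisible by p in which the centralizer of every non-identity p-element has odd order. Then G has an irreducible character of p-defect zero or an irreducible character of even degree. -/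
theorem result {G : Type*} [Group G] [Finite G] (p : ℕ) [Fact p.Prime] (hp2 : p ≠ 2) (hpG : p ∣ Nat.card G) (h2G : 2 ∣ Nat.card G) (hC : ∀ g : G, g ≠ 1 → (∃ k : ℕ, orderOf g = p ^ k) → Odd (Nat.card ↥(Subgroup.centralizer ({g} : Set G)))) : (∃ χ : Cfsg.IrrCharacter G, (Cfsg.charDegree (χ : G → ℂ)).factorization p = (Nat.card G).factorization p) ∨ ∃ χ : Cfsg.IrrCharacter G, Even (Cfsg.charDegree (χ : G → ℂ)) := by
  classical
  by_contra hcon
  push Not at hcon
  obtain ⟨hdz, hodd⟩ := hcon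
  obtain ⟨t, u, ht, hu1, hu, htu⟩ := exists_inverted hp2 hpG h2G hC fun ⟨χ, hχ⟩ => hdz χ hχ
  cases nonempty_fintype G
  have hreal : IsConj u u⁻¹ := isConj_iff.mpr ⟨t, htu⟩
  have hcol := sum_irr_mul_conj u u
  rw [if_pos (IsConj.refl u)] at hcol
  have hsq : u ^ 2 ≠ 1 := by
    obtain ⟨k, hk⟩ := hu
    intro h
    have h1 := orderOf_dvd_of_pow_eq_one h
    rw [hk] at h1
    rcases Nat.eq_zero_or_pos k with rfl | hk0
    · exact hu1 (orderOf_eq_one_iff.mp (by rw [hk, pow_zero]))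
    · exact hp2 ((Nat.prime_dvd_prime_iff_eq Fact.out Nat.prime_two).mp
        ((dvd_pow_self p hk0.ne').trans h1))
  choose w hw hwe using fun χ : Cfsg.IrrCharacter G => char_sq χ u
  choose k hk using fun χ : Cfsg.IrrCharacter G => Nat.not_even_iff_odd.mp (hodd χ)
  have hdeg := sum_deg_mul (u ^ 2) hsq
  have htot : (Nat.card (Subgroup.centralizer ({u} : Set G)) : ℂ) =
      2 * ∑ χ : Cfsg.IrrCharacter G, (w χ - (k χ : ℂ) * (χ : G → ℂ) (u ^ 2)) := by
    rw [← hcol, ← sub_zero (∑ χ : Cfsg.IrrCharacter G, _), ← hdeg, ← Finset.sum_sub_distrib,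
      Finset.mul_sum]
    refine Finset.sum_congr rfl fun χ _ => ?_
    rw [← IsIrrCharacter.apply_inv χ.2,
      ← IsClassFunction.apply_eq_of_isConj (IsIrrCharacter.isClassFunction χ.2) hreal, hk χ]
    push_cast
    linear_combination hwe χ
  have hint : IsIntegral ℤ
      ((Nat.card (Subgroup.centralizer ({u} : Set G)) : ℂ) / ((2 : ℕ) : ℂ)) := by
    rw [htot, Nat.cast_ofNat, mul_div_cancel_left₀ _ (two_ne_zero' ℂ)]
    refine IsIntegral.sum _ fun χ _ => (hw χ).sub (IsIntegral.mul ?_ ?_)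
    · simpa using isIntegral_algebraMap (R := ℤ) (A := ℂ) (x := ((k χ : ℕ) : ℤ))
    · exact IsCharacter.isIntegral (isCharacter_irr χ) _
  exact Nat.not_even_iff_odd.mpr (hC u hu1 hu)
    (even_iff_two_dvd.mpr (dvd_of_isIntegral_div two_ne_zero hint))

end Cfsg.Agent.S4746
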