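import Cfsg.Statements.S4748
import Cfsg.Agent.Lib.DegreeTools.CoprimeCentral
import Cfsg.Agent.Lib.Fusion.PSolvable
-- import your own Cfsg.Agent.* helpers here

set_option autoImplicit false
open scoped Pointwise
open Cfsg

namespace Cfsg.Agent.S4748

open CfsgLib CfsgLib.Char CfsgLib.DegreeTools CfsgLib.Solvable

/-- In a `p`-solvable group with `O_p = 1` the centraliser of `O_{p'}` lies in it. -/
theorem centralizer_pPrimeCore_le {G : Type*} [Group G] [Finite G] {p : ℕ} [Fact p.Prime]
    (hG : Cfsg.IsPSolvable p G) (hO : Cfsg.pCore p G = ⊥) :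
    Subgroup.centralizer (Cfsg.pPrimeCore p G : Set G) ≤ Cfsg.pPrimeCore p G := by
  set Q := Cfsg.pPrimeCore p G with hQdef
  set C := Subgroup.centralizer (Q : Set G) with hC
  by_contra hne
  set q := QuotientGroup.mk' (Q ⊓ C) with hq
  have hq' : Function.Surjective q := QuotientGroup.mk'_surjective _
  have hCn : (C.map q).Normal := Subgroup.Normal.map inferInstance q hq'
  have hCne : C.map q ≠ ⊥ := fun h => hne (by
    rw [Subgroup.map_eq_bot_iff, QuotientGroup.ker_mk'] at h
    exact h.trans inf_le_left)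
  obtain ⟨N, hN, hNC, hNne, hNpp⟩ := Fusion.PSolvable.exists_minimal_dichotomy
    (Fusion.PSolvable.psolvable_quotient hG (Q ⊓ C)) hCne
  set M := N.comap q with hM
  haveI hMn : M.Normal := hN.comap q
  have hMC : M ≤ C := by
    rw [hM]
    refine (Subgroup.comap_mono hNC).trans ?_
    rw [Subgroup.comap_map_eq, QuotientGroup.ker_mk']
    exact sup_le le_rfl inf_le_right
  have hZM : Q ⊓ C ≤ M := fun z hz => by
    show q z ∈ N
    rw [show q z = 1 from (QuotientGroup.eq_one_iff z).mpr hz]
    exact one_mem N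
  have hMcard : Nat.card M = Nat.card ↥(Q ⊓ C) * Nat.card N := by
    have e2 := Subgroup.index_comap_of_surjective N hq'
    have e3 := Subgroup.card_mul_index M
    have e4 := Subgroup.card_mul_index N
    have e5 := Subgroup.card_mul_index (Q ⊓ C)
    rw [← hM] at e2
    rw [e2, ← e5] at e3
    have e6 : (Q ⊓ C).index = Nat.card N * N.index := e4.symm
    rw [e6, ← mul_assoc] at e3
    exact Nat.eq_of_mul_eq_mul_right
      (Nat.pos_of_ne_zero Subgroup.index_ne_zero_of_finite) e3
  have hcopZ : (Nat.card ↥(Q ⊓ C)).Coprime p :=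
    Nat.Coprime.coprime_dvd_left (Subgroup.card_dvd_of_le inf_le_left)
      (Cores.coprime_card_pPrimeCore p)
  have hfin : M ≤ Q ⊓ C := by
    rcases hNpp with h | h
    · -- the Sylow subgroup of `M` is normal, so trivial
      haveI : Subgroup.Normal ((Q ⊓ C).subgroupOf M) := inferInstance
      let U : Sylow p M := default
      have hUp : IsPGroup p U := U.isPGroup'
      have hUn : (U : Subgroup M).Normal := by
        refine ⟨fun u hu m => ?_⟩
        have hZc : ∀ z : M, (z : G) ∈ Q ⊓ C → z * u = u * z := fun z hz =>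
          Subtype.ext (Subgroup.mem_centralizer_iff.mp (hMC u.2) z hz.1)
        -- `M = U (Q ⊓ C)`
        have htop : (Q ⊓ C).subgroupOf M ⊔ (U : Subgroup M) = ⊤ := by
          apply Subgroup.eq_top_of_le_card
          have h1 : Nat.card ((Q ⊓ C).subgroupOf M) = Nat.card ↥(Q ⊓ C) :=
            Nat.card_congr (Subgroup.subgroupOfEquivOfLe hZM).toEquiv
          obtain ⟨k, hk⟩ := IsPGroup.iff_card.mp h
          have h2 : Nat.card N ∣ Nat.card (U : Subgroup M) := by
            rw [hk, U.card_eq_multiplicity]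
            refine pow_dvd_pow p (((Fact.out : p.Prime).pow_dvd_iff_le_factorization
              Nat.card_pos.ne').mp ?_)
            rw [← hk, hMcard]
            exact dvd_mul_left _ _
          rw [hMcard, ← h1]
          refine Nat.le_of_dvd Nat.card_pos (Nat.Coprime.mul_dvd_of_dvd_of_dvd ?_
            (Subgroup.card_dvd_of_le le_sup_left)
            (h2.trans (Subgroup.card_dvd_of_le le_sup_right)))
          rw [h1, hk]
          exact hcopZ.pow_right k
        have hm : m ∈ (Q ⊓ C).subgroupOf M ⊔ (U : Subgroup M) := htop ▸ Subgroup.mem_top m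
        rw [Subgroup.mem_sup_of_normal_left] at hm
        obtain ⟨z, hz, y, hy, rfl⟩ := hm
        have hy' : y * u * y⁻¹ ∈ (U : Subgroup M) := mul_mem (mul_mem hy hu) (inv_mem hy)
        have hzy : z * (y * u * y⁻¹) = (y * u * y⁻¹) * z :=
          Subtype.ext (Subgroup.mem_centralizer_iff.mp (hMC (y * u * y⁻¹ : M).2) z
            (Subgroup.mem_subgroupOf.mp hz).1)
        rw [show z * y * u * (z * y)⁻¹ = z * (y * u * y⁻¹) * z⁻¹ by group, hzy,
          mul_inv_cancel_right]
        exact hy'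
      haveI : (U : Subgroup M).Characteristic := Sylow.characteristic_of_normal U hUn
      have hUG : ((U : Subgroup M).map M.subtype).Normal :=
        ConjAct.normal_of_characteristic_of_normal
      have hle := Cores.le_pCore (N := (U : Subgroup M).map M.subtype) (hUp.map M.subtype)
      rw [hO, le_bot_iff, Subgroup.map_eq_bot_iff, Subgroup.ker_subtype, le_bot_iff] at hle
      have hNcop : (Nat.card M).Coprime p := by
        refine Nat.Coprime.symm ((Fact.out : p.Prime).coprime_iff_not_dvd.mpr fun hd => ?_)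
        have := U.ne_bot_of_dvd_card hd
        exact this hle
      exact le_inf (Cores.le_pPrimeCore hNcop) hMC
    · refine le_inf (Cores.le_pPrimeCore ?_) hMC
      rw [hMcard]
      exact Nat.Coprime.mul_left hcopZ h
  refine hNne (le_bot_iff.mp ?_)
  rw [← Subgroup.map_comap_eq_self_of_surjective hq' N, ← hM, Subgroup.map_le_iff_le_comap,
    MonoidHom.comap_bot, QuotientGroup.ker_mk']
  exact hfin


/-- Let G be a finite p-solvable group whose Sylow p-subgroup P meets each conjugate g P g⁻¹ with g outside N_G(P) trivially, and let χ be a faithful character of G (χ g = χ 1 only for g = 1) whose degree d satisfies d² ≤ |P|. Then P is normal in G. -/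
theorem result {G : Type*} [Group G] [Finite G] (p : ℕ) [Fact p.Prime] (hsolv : Cfsg.IsPSolvable p G) (P : Sylow p G) (hTI : ∀ g : G, g ∉ Subgroup.normalizer ((P : Subgroup G) : Set G) → (P : Subgroup G) ⊓ (MulAut.conj g • (P : Subgroup G)) = ⊥) (χ : G → ℂ) (hχ : Cfsg.IsCharacter G χ) (hfaith : ∀ g : G, χ g = χ 1 → g = 1) (hdeg : Cfsg.charDegree χ ^ 2 ≤ Nat.card ↥(P : Subgroup G)) : (P : Subgroup G).Normal := by
  classical
  cases nonempty_fintype G
  have hp : p.Prime := Fact.out
  by_cases hR : Cfsg.pCore p G = ⊥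
  swap
  · refine Subgroup.normalizer_eq_top_iff.mp (eq_top_iff.mpr fun g _ => ?_)
    by_contra hg
    refine hR (le_bot_iff.mp fun r hr => ?_)
    rw [← hTI g hg]
    refine ⟨Cores.pCore_le_sylow P hr, ?_⟩
    exact (Sylow.coe_subgroup_smul (g := g) (P := P)) ▸ Cores.pCore_le_sylow (g • P) hr
  by_cases hP1 : (P : Subgroup G) = ⊥
  · rw [hP1]; infer_instance
  exfalso
  set Q := Cfsg.pPrimeCore p G with hQ
  have hcent := centralizer_pPrimeCore_le hsolv hR
  have hQcop : (Nat.card Q).Coprime p := Cores.coprime_card_pPrimeCore p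
  have hPQcop : (Nat.card Q).Coprime (Nat.card (P : Subgroup G)) := by
    rw [P.card_eq_multiplicity]; exact hQcop.pow_right _
  have hQP0 : Q ⊓ (P : Subgroup G) = ⊥ := Subgroup.inf_eq_bot_of_coprime hPQcop
  haveI : Nontrivial (P : Subgroup G) := (Subgroup.nontrivial_iff_ne_bot _).mpr hP1
  haveI := P.isPGroup'.center_nontrivial
  obtain ⟨⟨⟨z, hz⟩, hzc⟩, hz1⟩ := exists_ne (1 : Subgroup.center ↥(P : Subgroup G))
  set X := Q ⊔ (P : Subgroup G) with hX
  set Q' := Q.subgroupOf X
  set P' := (P : Subgroup G).subgroupOf X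
  have hQX : Q ≤ X := le_sup_left
  have hPX : (P : Subgroup G) ≤ X := le_sup_right
  have hcQ : Nat.card Q' = Nat.card Q := Nat.card_congr (Subgroup.subgroupOfEquivOfLe hQX).toEquiv
  have hcP : Nat.card P' = Nat.card (P : Subgroup G) :=
    Nat.card_congr (Subgroup.subgroupOfEquivOfLe hPX).toEquiv
  have hcompl : Subgroup.IsComplement' Q' P' := by
    refine Subgroup.isComplement'_of_disjoint_and_mul_eq_univ ?_ ?_
    · rw [disjoint_iff]
      exact le_bot_iff.mp fun a ha => Subtype.ext (Subgroup.mem_bot.mp (hQP0 ▸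
        (⟨Subgroup.mem_subgroupOf.mp ha.1, Subgroup.mem_subgroupOf.mp ha.2⟩ : (a : G) ∈ Q ⊓ _)))
    · refine Set.eq_univ_of_forall fun a => ?_
      obtain ⟨u, hu, y, hy, he⟩ := Subgroup.mem_sup_of_normal_left.mp a.2
      exact ⟨⟨u, hQX hu⟩, hu, ⟨y, hPX hy⟩, hy, Subtype.ext he⟩
  have hC : ∀ x ∈ P', x ≠ 1 → ∀ c ∈ Q', c * x = x * c → ∀ y ∈ P', c * y = y * c := by
    intro x hx hx1 c hc hcx y hy
    have hcx' : (c : G) * x = x * c := congrArg Subtype.val hcx
    have hcN : (c : G) ∈ Subgroup.normalizer ((P : Subgroup G) : Set G) := by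
      by_contra hcN
      apply hx1
      refine Subtype.ext (Subgroup.mem_bot.mp (hTI c hcN ▸ ?_))
      refine ⟨hx, ?_⟩
      show (x : G) ∈ MulAut.conj (c : G) • (P : Subgroup G)
      rw [Subgroup.mem_pointwise_smul_iff_inv_smul_mem, ← map_inv, MulAut.smul_def,
        MulAut.conj_apply, inv_inv, mul_assoc, ← hcx', inv_mul_cancel_left]
      exact hx
    have h1 : (c : G) * y * (c : G)⁻¹ * (y : G)⁻¹ ∈ Q ⊓ (P : Subgroup G) := by
      refine ⟨?_, ?_⟩
      · rw [mul_assoc (c : G) (y : G), mul_assoc (c : G)]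
        exact Q.mul_mem hc ((Cores.pPrimeCore_normal p).conj_mem _ (Q.inv_mem hc) y)
      · exact (P : Subgroup G).mul_mem ((Subgroup.mem_normalizer_iff.mp hcN y).mp hy)
          ((P : Subgroup G).inv_mem hy)
    rw [hQP0, Subgroup.mem_bot, mul_inv_eq_one, mul_inv_eq_iff_eq_mul] at h1
    exact Subtype.ext h1
  have hres := IsCharacter.restrict hχ X
  have hkey : ∀ q ∈ Q, z * q = q * z := by
    intro q hq
    have hcomm : χ (z * q * z⁻¹ * q⁻¹) = χ 1 := by
      have e : ∀ w : X, χ (w : G) = ∑ ψ : Cfsg.IrrCharacter X,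
          Cfsg.classInner (fun v : X => χ v) (ψ : X → ℂ) * (ψ : X → ℂ) w := by
        intro w
        have h := congrFun (IsClassFunction.eq_sum_irr (IsCharacter.isClassFunction hres)) w
        simpa [Finset.sum_apply] using h
      have hm : (⟨z, hPX hz⟩ * ⟨q, hQX hq⟩ * (⟨z, hPX hz⟩ : X)⁻¹ * (⟨q, hQX hq⟩ : X)⁻¹ : X) =
          (⟨z * q * z⁻¹ * q⁻¹, X.mul_mem (X.mul_mem (X.mul_mem (hPX hz) (hQX hq))
            (X.inv_mem (hPX hz))) (X.inv_mem (hQX hq))⟩ : X) := rfl
      have e1 := e (⟨z, hPX hz⟩ * ⟨q, hQX hq⟩ * (⟨z, hPX hz⟩ : X)⁻¹ * (⟨q, hQX hq⟩ : X)⁻¹)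
      have e2 := e 1
      rw [hm] at e1
      simp only at e1
      rw [OneMemClass.coe_one] at e2
      rw [e1, e2]
      refine Finset.sum_congr rfl fun ψ _ => ?_
      by_cases hψ : Cfsg.classInner (fun v : X => χ v) (ψ : X → ℂ) = 0
      · rw [hψ, zero_mul, zero_mul]
      congr 1
      have hle : Cfsg.charDegree (ψ : X → ℂ) ≤ Cfsg.charDegree χ := by
        have hd1 := charDegree_cast hχ
        rw [e2] at hd1
        choose m hm' using fun φ : Cfsg.IrrCharacter X =>
          IsCharacter.classInner_nat hres (isCharacter_irr φ)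
        simp only [hm', ← deg_cast] at hd1
        norm_cast at hd1
        rw [hd1]
        refine le_trans ?_ (Finset.single_le_sum (fun φ _ => Nat.zero_le _) (Finset.mem_univ ψ))
        refine Nat.le_mul_of_pos_left _ (Nat.pos_of_ne_zero fun h0 => hψ ?_)
        rw [hm', h0, Nat.cast_zero]
      rw [← hm]
      exact apply_comm_eq_deg Q' P' hcompl (by rw [hcQ, hcP]; exact hPQcop) hC ⟨z, hPX hz⟩ hz
        (fun y hy => Subtype.ext (congrArg Subtype.val
          (Subgroup.mem_center_iff.mp hzc ⟨(y : G), hy⟩)).symm) ψ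
        (by rw [hcP]; exact (Nat.pow_le_pow_left hle 2).trans hdeg) ⟨q, hQX hq⟩ hq
    have := hfaith _ hcomm
    rw [mul_inv_eq_one, mul_inv_eq_iff_eq_mul] at this
    exact this
  have hzQ : z ∈ Q := hcent (Subgroup.mem_centralizer_iff.mpr fun q hq => (hkey q hq).symm)
  exact hz1 (Subtype.ext (Subtype.ext (Subgroup.mem_bot.mp (hQP0 ▸
    (⟨hzQ, hz⟩ : z ∈ Q ⊓ (P : Subgroup G))))))

end Cfsg.Agent.S4748
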