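import Cfsg.Statements.S4750
import Cfsg.Agent.Lib.DegreeTools.TISum

set_option autoImplicit false
open scoped Pointwise
open Cfsg

namespace Cfsg.Agent.S4750

/-- Let P be a Sylow p-subgroup of the finite group G that meets each conjugate g P g⁻¹ with g outside N_G(P) trivially, χ a character of G with χ(1)² ≤ |P|, and H a subgroup of G containing N_G(P). Then the inner product of χ with itself over G equals the inner product over H of the restriction of χ to H. -/
theorem result {G : Type*} [Group G] [Fintype G] [DecidableEq G] (p : ℕ) [Fact p.Prime] (P : Sylow p G) (hTI : ∀ g : G, g ∉ Subgroup.normalizer ((P : Subgroup G) : Set G) → (P : Subgroup G) ⊓ (MulAut.conj g • (P : Subgroup G)) = ⊥) (χ : G → ℂ) (hχ : Cfsg.IsCharacter G χ) (hdeg : Cfsg.charDegree χ ^ 2 ≤ Nat.card ↥(P : Subgroup G)) (H : Subgroup G) [Fintype ↥H] (hH : Subgroup.normalizer ((P : Subgroup G) : Set G) ≤ H) : Cfsg.classInner χ χ = Cfsg.classInner (fun h : ↥H => χ h) (fun h : ↥H => χ h) := by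
  classical
  have hθ : IsCharacter G (χ * fun g => starRingEnd ℂ (χ g)) :=
    CfsgLib.Char.IsCharacter.mul hχ (CfsgLib.Char.IsCharacter.conj' hχ)
  set θ : G → ℂ := χ * fun g => starRingEnd ℂ (χ g) with hθdef
  set one : G → ℂ := fun _ => 1 with hone
  obtain ⟨m, hm⟩ := CfsgLib.Char.IsCharacter.classInner_nat hθ CfsgLib.Char.isCharacter_one
  have hsum : ∑ g, θ g = (Nat.card G : ℂ) * m := by
    rw [← hm, Cfsg.classInner, mul_inv_cancel_left₀ CfsgLib.Char.card_ne_zero]
    simp
  have hG : Cfsg.classInner χ χ = m := by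
    rw [← hm]
    simp [Cfsg.classInner, hθdef]
  obtain ⟨d, hd⟩ := CfsgLib.Char.IsCharacter.apply_one_eq hχ
  have hdd : Cfsg.charDegree χ = d := by simp [Cfsg.charDegree, hd]
  rw [hdd] at hdeg
  rcases Nat.eq_zero_or_pos m with rfl | hmpos
  · have hnorm : ∀ g, χ g = 0 := by
      rw [Nat.cast_zero, mul_zero] at hsum
      have hre : ∑ g, Complex.normSq (χ g) = 0 := by
        have := congrArg Complex.re hsum
        simpa [hθdef, Complex.mul_conj, Complex.re_sum] using this
      exact fun g => Complex.normSq_eq_zero.1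
        ((Finset.sum_eq_zero_iff_of_nonneg fun g _ => Complex.normSq_nonneg _).1 hre g
          (Finset.mem_univ g))
    simp [Cfsg.classInner, hnorm]
  -- remove the trivial constituent
  have honeIrr : IsCharacter G one := CfsgLib.Char.isCharacter_one
  have hηc : IsCharacter G (θ - (m : ℂ) • one) := by
    refine CfsgLib.Char.isCharacter_iff.2 ⟨fun g h => ?_, fun ψ hψ => ?_⟩
    · have := CfsgLib.Char.IsCharacter.isClassFunction hθ g h
      simp [this, hone]
    · obtain ⟨a, ha⟩ := CfsgLib.Char.IsCharacter.classInner_nat hθ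
        (CfsgLib.Char.IsIrrCharacter.isCharacter hψ)
      rw [CfsgLib.Char.classInner_sub_left, CfsgLib.Char.classInner_smul_left, ha]
      have hone1 : Cfsg.IsIrrCharacter G one := CfsgLib.Char.isIrrCharacter_one
      by_cases h : ψ = one
      · subst h
        rw [CfsgLib.Char.classInner_irr_self hone1, mul_one]
        refine ⟨0, ?_⟩
        rw [← ha, hm]
        simp
      · rw [CfsgLib.Char.classInner_irr_ne hone1 hψ (Ne.symm h), mul_zero, sub_zero]
        exact ⟨a, rfl⟩
  have h1 : (θ - (m : ℂ) • one) 1 = ((d ^ 2 : ℕ) : ℂ) - m := by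
    simp [hθdef, hone, hd, pow_two]
  have hres := CfsgLib.DegreeTools.TISum.classInner_one_restrict P hTI H hH hηc (fun k hk => by
    rw [h1, sub_eq_iff_eq_add] at hk
    have : d ^ 2 = k + m := by exact_mod_cast hk
    omega) (by
    simp [Finset.sum_sub_distrib, hsum, hone, Nat.card_eq_fintype_card])
  rw [hG, Cfsg.classInner]
  have hHsum : ∑ h : H, θ h = (Nat.card H : ℂ) * m := by
    simpa [Finset.sum_sub_distrib, hone, Nat.card_eq_fintype_card, sub_eq_zero] using hres
  rw [show ∑ h : H, χ h * starRingEnd ℂ (χ h) = ∑ h : H, θ h from rfl, hHsum,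
    inv_mul_cancel_left₀ CfsgLib.Char.card_ne_zero]

end Cfsg.Agent.S4750
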