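import Cfsg.Statements.S4751
import Cfsg.Agent.Lib.CharDeep.CommIdem
import Cfsg.Agent.Lib.CharDeep.Relative
import Cfsg.Agent.Lib.DegreeTools.CentralSupport
import Cfsg.Agent.Lib.Solvable.Cores

set_option autoImplicit false
set_option linter.style.haveILetI false
open Cfsg

namespace Cfsg.Agent.S4751

/-- No permutation of three points has order six. -/
theorem orderOf_perm_three (s : Equiv.Perm (Fin 3)) : orderOf s ≠ 6 := by
  intro hs
  have h2 : s ^ 2 ≠ 1 := fun h => by
    have := orderOf_dvd_of_pow_eq_one h; rw [hs] at this; exact absurd this (by decide)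
  have h3 : s ^ 3 ≠ 1 := fun h => by
    have := orderOf_dvd_of_pow_eq_one h; rw [hs] at this; exact absurd this (by decide)
  clear hs
  revert s
  decide

open CfsgLib CfsgLib.Char CfsgLib.CharDeep.CommIdem
open scoped Classical ComplexConjugate commutatorElement Pointwise

variable {G : Type*} [Group G] [Fintype G]

/-- A member of `Hom(P, ℂˣ)` has conjugate equal to inverse. -/
theorem conj_val {Γ : Type*} [CommGroup Γ] [Fintype Γ] (l : Γ →* ℂˣ) (u : Γ) :
    conj ((l u : ℂˣ) : ℂ) = ((l u⁻¹ : ℂˣ) : ℂ) := by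
  have h1 : ((l u : ℂˣ) : ℂ) ^ Fintype.card Γ = 1 := by
    rw [← Units.val_pow_eq_pow_val, ← map_pow, pow_card_eq_one, map_one, Units.val_one]
  rw [map_inv, Units.val_inv_eq_inv_val,
    Complex.inv_def, Complex.normSq_eq_norm_sq,
    Complex.norm_eq_one_of_pow_eq_one h1 Fintype.card_ne_zero]
  simp

/-- Fourier coefficients of a function on a finite commutative group. -/
theorem parseval {Γ : Type*} [CommGroup Γ] [Fintype Γ] (F : Γ → ℂ) :
    ∑ u : Γ, F u * conj (F u) = (Fintype.card Γ : ℂ) * ∑ l : Γ →* ℂˣ,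
      ((Fintype.card Γ : ℂ)⁻¹ * ∑ u, ((l u)⁻¹ : ℂˣ).val * F u) *
        conj ((Fintype.card Γ : ℂ)⁻¹ * ∑ u, ((l u)⁻¹ : ℂˣ).val * F u) := by
  have hc : (Fintype.card Γ : ℂ) ≠ 0 := Nat.cast_ne_zero.2 Fintype.card_ne_zero
  have hterm : ∀ l : Γ →* ℂˣ, ((Fintype.card Γ : ℂ)⁻¹ * ∑ u, ((l u)⁻¹ : ℂˣ).val * F u) *
        conj ((Fintype.card Γ : ℂ)⁻¹ * ∑ u, ((l u)⁻¹ : ℂˣ).val * F u) =
      ((Fintype.card Γ : ℂ)⁻¹) ^ 2 * ∑ u, ∑ v, ((l (u * v⁻¹))⁻¹ : ℂˣ).val * (F u * conj (F v)) := by
    intro l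
    simp only [map_mul, map_inv₀, Complex.conj_natCast, map_sum, Finset.mul_sum, Finset.sum_mul]
    rw [Finset.sum_comm]
    refine Finset.sum_congr rfl fun u _ => Finset.sum_congr rfl fun v _ => ?_
    rw [show ((l v)⁻¹ : ℂˣ) = l v⁻¹ from (map_inv l v).symm, conj_val, inv_inv, mul_inv,
      map_inv l v, inv_inv, Units.val_mul]
    ring
  rw [Finset.sum_congr rfl fun l _ => hterm l, ← Finset.mul_sum, Finset.sum_comm]
  rw [Finset.mul_sum, Finset.mul_sum]
  refine Finset.sum_congr rfl fun u _ => ?_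
  rw [Finset.sum_comm, Finset.sum_eq_single u]
  · simp only [mul_inv_cancel, map_one, inv_one, Units.val_one, one_mul, Finset.sum_const,
      Finset.card_univ, nsmul_eq_mul]
    rw [← Nat.card_eq_fintype_card (α := Γ →* ℂˣ), CommGroup.card_monoidHom_of_hasEnoughRootsOfUnity,
      Nat.card_eq_fintype_card]
    field_simp
  · intro v _ hv
    rw [← Finset.sum_mul, sum_hom_eq, if_neg (by rw [mul_inv_eq_one]; exact Ne.symm hv), zero_mul]
  · simp

theorem normSq_cast (z : ℂ) : z * conj z = ((‖z‖ ^ 2 : ℝ) : ℂ) := by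
  rw [Complex.mul_conj, Complex.normSq_eq_norm_sq]

/-- The number `t * (N - t)` is at least `N - 1` for `1 ≤ t < N`. -/
theorem arith {N e t : ℕ} (h : e ^ 2 * t * N = e ^ 2 * t * t + (N - 1)) (ht : 1 ≤ t) (htN : t < N) :
    e = 1 ∧ (t = 1 ∨ t = N - 1) := by
  obtain ⟨s, rfl⟩ : ∃ s, N = t + 1 + s := ⟨N - t - 1, by omega⟩
  obtain ⟨r, rfl⟩ : ∃ r, t = r + 1 := ⟨t - 1, by omega⟩
  rw [show r + 1 + 1 + s - 1 = r + 1 + s by omega] at h
  have h1 : e ^ 2 * ((r + 1) * (s + 1)) = r + 1 + s := by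
    have : e ^ 2 * (r + 1) * (r + 1 + 1 + s) = e ^ 2 * (r + 1) * (r + 1) + e ^ 2 * ((r + 1) * (s + 1)) := by
      ring
    omega
  have he : e = 1 := by
    rcases e with _ | _ | e
    · omega
    · rfl
    · exfalso
      have h4 : 4 ≤ (e + 1 + 1) ^ 2 := (show 4 = 2 ^ 2 by norm_num).le.trans (Nat.pow_le_pow_left (by omega) 2)
      have h5 : r + s + 1 ≤ (r + 1) * (s + 1) := by nlinarith
      have h6 : 4 * (r + s + 1) ≤ (e + 1 + 1) ^ 2 * ((r + 1) * (s + 1)) := Nat.mul_le_mul h4 h5
      omega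
  subst he
  refine ⟨rfl, ?_⟩
  have : r * s = 0 := by nlinarith
  rcases Nat.mul_eq_zero.1 this with h0 | h0
  · left; omega
  · right; omega

set_option maxHeartbeats 1200000 in
/-- Let χ be a faithful, non-linear irreducible character of the finite group G (χ g = χ 1 only for g = 1, χ 1 ≠ 1) whose value at every element of order divisible by p is a root of unity, and suppose P = O_p(G) ≠ 1. Then either P is an elementary abelian Sylow p-subgroup of G, C_G(P) is the internal direct product of P and Z(G), G acts transitively by conjugation on the non-principal linear characters of P, and χ 1 = |P| − 1; or p = 2 and G is the internal direct product of a subgroup isomorphic to the symmetric group S₄ and the centre Z(G), which has odd order. -/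
theorem result {G : Type*} [Group G] [Finite G] (p : ℕ) [Fact p.Prime] (χ : Cfsg.IrrCharacter G) (hfaith : ∀ g : G, (χ : G → ℂ) g = (χ : G → ℂ) 1 → g = 1) (hnl : (χ : G → ℂ) 1 ≠ 1) (hroot : ∀ g : G, p ∣ orderOf g → ∃ n : ℕ, 0 < n ∧ ((χ : G → ℂ) g) ^ n = 1) (hP : Cfsg.pCore p G ≠ ⊥) : ((Nat.card ↥(Cfsg.pCore p G)).factorization p = (Nat.card G).factorization p ∧ Cfsg.IsElementaryAbelian p (Cfsg.pCore p G) ∧ Subgroup.centralizer ((Cfsg.pCore p G : Subgroup G) : Set G) = Cfsg.pCore p G ⊔ Subgroup.center G ∧ Cfsg.pCore p G ⊓ Subgroup.center G = ⊥ ∧ (∀ lam mu : ↥(Cfsg.pCore p G) → ℂ, Cfsg.IsCharacter ↥(Cfsg.pCore p G) lam → lam 1 = 1 → lam ≠ (fun _ => (1 : ℂ)) → Cfsg.IsCharacter ↥(Cfsg.pCore p G) mu → mu 1 = 1 → mu ≠ (fun _ => (1 : ℂ)) → ∃ g : G, ∀ (x : G) (hx : x ∈ Cfsg.pCore p G) (hgx : g * x * g⁻¹ ∈ Cfsg.pCore p G), mu ⟨x, hx⟩ = lam ⟨g * x * g⁻¹, hgx⟩) ∧ (χ : G → ℂ) 1 = (Nat.card ↥(Cfsg.pCore p G) : ℂ) - 1) ∨ (p = 2 ∧ Odd (Nat.card ↥(Subgroup.center G)) ∧ ∃ H : Subgroup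 G, Nonempty (↥H ≃* Equiv.Perm (Fin 4)) ∧ H ⊓ Subgroup.center G = ⊥ ∧ H ⊔ Subgroup.center G = ⊤) := by
  classical
  haveI : Fintype G := Fintype.ofFinite G
  set P := Cfsg.pCore p G with hPdef
  haveI hPn : P.Normal := inferInstance
  have hPp : IsPGroup p P := CfsgLib.Solvable.Cores.isPGroup_pCore p
  obtain ⟨d₀, ρ, hirr, hρ⟩ := χ.2
  set Z := Subgroup.center G with hZdef
  set N := Nat.card P with hNdef
  have hN2 : 2 ≤ N := by
    have h1 : N ≠ 1 := fun h => hP (Subgroup.card_eq_one.1 h)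
    have h2 : 0 < N := Nat.card_pos
    omega
  obtain ⟨n, hn⟩ := IsPGroup.iff_card.1 hPp
  have hpN : p ∣ N := by
    rw [hNdef, hn]
    refine dvd_pow_self p fun h0 => ?_
    rw [h0, pow_zero] at hn
    omega
  set d := Cfsg.charDegree (χ : G → ℂ) with hd
  have hdc : (χ : G → ℂ) 1 = (d : ℂ) := (CfsgLib.DegreeTools.deg_cast χ).symm
  have hd1 : d ≠ 1 := fun h => hnl (by rw [hdc, h, Nat.cast_one])
  have hdpos : 0 < d := CfsgLib.DegreeTools.deg_pos χ
  have hnorm : ∀ g : G, p ∣ orderOf g → ‖(χ : G → ℂ) g‖ = 1 := fun g hg => by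
    obtain ⟨m, hm, he⟩ := hroot g hg
    exact Complex.norm_eq_one_of_pow_eq_one he hm.ne'
  have hPord : ∀ x ∈ P, x ≠ 1 → p ∣ orderOf x := by
    intro x hx hx1
    obtain ⟨k, hk⟩ := IsPGroup.iff_orderOf.1 hPp ⟨x, hx⟩
    rw [Subgroup.orderOf_mk] at hk
    rw [hk]
    exact dvd_pow_self p fun h0 => hx1 (orderOf_eq_one_iff.1 (by rw [hk, h0, pow_zero]))
  -- the norm of the restriction
  have hsumP : ∑ x : P, (χ : G → ℂ) x * conj ((χ : G → ℂ) x) = ((d ^ 2 + (N - 1) : ℕ) : ℂ) := by
    rw [← Finset.add_sum_erase _ _ (Finset.mem_univ (1 : P)), OneMemClass.coe_one, hdc,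
      Complex.conj_natCast, Finset.sum_congr rfl (g := fun _ => (1 : ℂ)) fun x hx => ?_,
      Finset.sum_const, Finset.card_erase_of_mem (Finset.mem_univ _), Finset.card_univ, nsmul_eq_mul,
      mul_one, hNdef, Nat.card_eq_fintype_card]
    · push_cast; ring
    · rw [normSq_cast, hnorm _ (hPord _ x.2 fun h => (Finset.mem_erase.1 hx).1 (Subtype.ext h))]
      simp
  -- P is abelian
  have hres : Cfsg.IsCharacter P fun x : P => (χ : G → ℂ) x :=
    IsCharacter.restrict (IsIrrCharacter.isCharacter χ.2) P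
  have hcop : Nat.Coprime d N := by
    obtain ⟨m, hm, -⟩ := IsCharacter.exists_multiplicity hres
    have h1 := classInner_eq_sum_irr (ψ := fun x : P => (χ : G → ℂ) x) (IsCharacter.isClassFunction hres)
    rw [Cfsg.classInner, hsumP, Finset.sum_congr rfl fun φ _ => by
      rw [hm, IsCharacter.classInner_comm (isCharacter_irr φ) hres, hm, ← Nat.cast_mul],
      ← Nat.cast_sum, inv_mul_eq_iff_eq_mul₀ (Nat.cast_ne_zero.2 (by omega)), ← Nat.cast_mul,
      Nat.cast_inj] at h1
    rw [hNdef, hn]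
    refine Nat.Coprime.pow_right n (((Nat.Prime.coprime_iff_not_dvd Fact.out).2 fun hpd => ?_).symm)
    obtain ⟨a, ha⟩ := hpd
    obtain ⟨b, hb⟩ := hpN
    have hp1 := (Fact.out : p.Prime).two_le
    rw [show Nat.card P = N from rfl] at h1
    have : p ∣ N - 1 := by
      refine (Nat.dvd_add_right (show p ∣ d ^ 2 from ⟨a * d, by rw [ha]; ring⟩)).1 ?_
      rw [h1]; exact Dvd.dvd.mul_right ⟨b, hb⟩ _
    have h2 : p ∣ N - 1 + 1 := by rw [Nat.sub_add_cancel (by omega)]; exact ⟨b, hb⟩
    have := Nat.le_of_dvd one_pos ((Nat.dvd_add_right this).1 h2)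
    omega
  have hlin : ∀ φ : Cfsg.IrrCharacter P, Cfsg.classInner (fun x : P => (χ : G → ℂ) x) φ ≠ 0 →
      (φ : P → ℂ) 1 = 1 := by
    intro φ hne
    obtain ⟨k, hk, -⟩ := CfsgLib.CharDeep.Relative.degree_ratio_dvd χ.2 P φ.2 hne
    have hφd : (φ : P → ℂ) 1 = (Cfsg.charDegree (φ : P → ℂ) : ℂ) := (CfsgLib.DegreeTools.deg_cast φ).symm
    rw [hdc, hφd, ← Nat.cast_mul, Nat.cast_inj] at hk
    have h1 : Cfsg.charDegree (φ : P → ℂ) ∣ 1 := by
      rw [← hcop]
      exact Nat.dvd_gcd ⟨k, by rw [hk, mul_comm]⟩ (CfsgLib.DegreeTools.deg_dvd_card φ)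
    rw [hφd, Nat.dvd_one.1 h1, Nat.cast_one]
  have hab : ∀ x y : P, x * y = y * x := by
    intro x y
    obtain ⟨m, hm, hexp⟩ := IsCharacter.exists_multiplicity hres
    rw [← commutatorElement_eq_one_iff_mul_comm]
    refine Subtype.ext (hfaith _ ?_)
    have h := hexp
    rw [← OneMemClass.coe_one P, h ⁅x, y⁆, h 1]
    refine Finset.sum_congr rfl fun φ _ => ?_
    by_cases hz : Cfsg.classInner (fun x : P => (χ : G → ℂ) x) φ = 0
    · rw [hm, Nat.cast_eq_zero] at hz
      simp [hz]
    · obtain ⟨f, hf⟩ := exists_hom_of_apply_one_eq_one (isCharacter_irr φ) (hlin φ hz)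
      simp [hf, map_commutatorElement, commutatorElement_eq_one_iff_mul_comm.2 (mul_comm (f x) (f y))]
  letI : CommGroup P := { (inferInstance : Group P) with mul_comm := hab }
  have hcard : Fintype.card P = N := Nat.card_eq_fintype_card.symm
  have hcardD : Fintype.card (P →* ℂˣ) = N := by
    rw [← Nat.card_eq_fintype_card, CommGroup.card_monoidHom_of_hasEnoughRootsOfUnity]
  -- idempotents
  set ι : P →* Module.End ℂ (Fin d₀ → ℂ) := ρ.comp P.subtype with hι
  let E : (P →* ℂˣ) → Module.End ℂ (Fin d₀ → ℂ) := fun l => idem ι l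
  let coef : G → (P →* ℂˣ) → ℂ := fun g l => LinearMap.trace ℂ _ (ρ g * E l)
  have hcoef : ∀ g l, coef g l =
      (Fintype.card P : ℂ)⁻¹ * ∑ u : P, ((l u)⁻¹ : ℂˣ).val * (χ : G → ℂ) (g * u) := by
    intro g l
    simp only [coef, E, idem, hι, mul_smul_comm, Finset.mul_sum, map_smul, map_sum, smul_eq_mul,
      MonoidHom.comp_apply, Subgroup.coe_subtype, ← map_mul]
    simp only [← hρ, Representation.character]
  have hpars : ∀ g : G, ∑ u : P, (χ : G → ℂ) (g * u) * conj ((χ : G → ℂ) (g * u)) =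
      (N : ℂ) * ((∑ l : P →* ℂˣ, ‖coef g l‖ ^ 2 : ℝ) : ℂ) := by
    intro g
    rw [parseval, hcard, Complex.ofReal_sum]
    congr 1
    exact Finset.sum_congr rfl fun l _ => by rw [← normSq_cast, hcoef, hcard]
  set m : (P →* ℂˣ) → ℕ := fun l => Module.finrank ℂ (LinearMap.range (E l)) with hm
  have hproj : ∀ l, LinearMap.IsProj (LinearMap.range (E l)) (E l) := fun l =>
    LinearMap.IsProj.mk (fun x => LinearMap.mem_range_self _ x) (by
      rintro x ⟨y, rfl⟩
      exact LinearMap.congr_fun (isIdempotentElem ι l).eq y)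
  have htrm : ∀ l, coef 1 l = (m l : ℂ) := fun l => by
    simp only [coef, map_one, one_mul]
    exact (hproj l).trace
  let cj : G → (P →* ℂˣ) → (P →* ℂˣ) := fun g l => l.comp (MulAut.conjNormal g : MulAut P).toMonoidHom
  have hcjE : ∀ g l, ρ g * E (cj g l) * ρ g⁻¹ = E l := by
    intro g l
    show ρ g * idem ι (cj g l) * ρ g⁻¹ = idem ι l
    rw [conj_idem ι (MulAut.conjNormal g : MulAut P) (a := ρ g) (b := ρ g⁻¹) (fun u => by
      rw [hι, MonoidHom.comp_apply, MonoidHom.comp_apply, ← map_mul, ← map_mul]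
      rfl)]
    congr 1
    ext u
    simp [cj]
  -- all constituents are conjugate
  have hconj : ∀ l l', m l ≠ 0 → m l' ≠ 0 → ∃ g : G, cj g l' = l := by
    intro l l' hl hl'
    have hinner : ∀ l : P →* ℂˣ, Cfsg.classInner (fun x : P => (χ : G → ℂ) x)
        (fun x : P => ((l x : ℂˣ) : ℂ)) = (m l : ℂ) := by
      intro l
      rw [← htrm, hcoef, Cfsg.classInner, hcard, hNdef]
      congr 1
      exact Finset.sum_congr rfl fun u _ => by rw [conj_val, map_inv, one_mul, mul_comm]
    have hne : ∀ l : P →* ℂˣ, m l ≠ 0 →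
        Cfsg.classInner (Cfsg.indFun P fun x : P => ((l x : ℂˣ) : ℂ)) (χ : G → ℂ) ≠ 0 := by
      intro l hl
      rw [classInner_indFun P _ (IsIrrCharacter.isClassFunction χ.2),
        IsCharacter.classInner_comm (isCharacter_hom l) hres, hinner]
      exact Nat.cast_ne_zero.2 hl
    obtain ⟨g, hg⟩ := exists_conjG_eq (isIrrCharacter_hom l) (isIrrCharacter_hom l') χ.2 (hne l hl) (hne l' hl')
    refine ⟨g, MonoidHom.ext fun u => Units.ext ?_⟩
    exact (congrFun hg u).symm
  have hmconj : ∀ g l, m (cj g l) = m l := by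
    intro g l
    have h := congrArg (LinearMap.trace ℂ (Fin d₀ → ℂ)) (hcjE g l)
    rw [LinearMap.trace_mul_comm, ← mul_assoc, ← map_mul, inv_mul_cancel, map_one, one_mul,
      (hproj _).trace, (hproj _).trace] at h
    exact_mod_cast h
  have hsum : ∑ l, m l = d := by
    have h := congrArg (LinearMap.trace ℂ (Fin d₀ → ℂ)) (sum_idem ι)
    rw [map_sum, Finset.sum_congr rfl fun l _ => (hproj l).trace] at h
    rw [LinearMap.trace_one, ← Representation.char_one ρ, hρ, hdc, ← Nat.cast_sum, Nat.cast_inj] at h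
    exact h
  have hsum2 : N * ∑ l, m l ^ 2 = d ^ 2 + (N - 1) := by
    have h := hpars 1
    simp only [one_mul, htrm, Complex.norm_natCast] at h
    rw [hsumP] at h
    exact_mod_cast h.symm
  set S := Finset.univ.filter fun l => m l ≠ 0
  obtain ⟨l₀, hl₀⟩ : S.Nonempty := by
    rw [Finset.nonempty_iff_ne_empty]
    intro h
    rw [Finset.filter_eq_empty_iff] at h
    rw [Finset.sum_eq_zero fun l hl => not_not.1 (h hl)] at hsum
    omega
  have hconst : ∀ l ∈ S, m l = m l₀ := by
    intro l hl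
    obtain ⟨g, hg⟩ := hconj l l₀ (Finset.mem_filter.1 hl).2 (Finset.mem_filter.1 hl₀).2
    rw [← hg, hmconj]
  set t := S.card
  set e := m l₀
  have he : e * t = d := by
    rw [← hsum, ← Finset.sum_filter_ne_zero Finset.univ, Finset.sum_congr rfl hconst,
      Finset.sum_const, smul_eq_mul, mul_comm]
  have he2 : e ^ 2 * t = ∑ l, m l ^ 2 := by
    rw [← Finset.sum_subset (Finset.subset_univ S) fun l _ hl => by
      simp only [S, Finset.mem_filter, Finset.mem_univ, true_and, not_not] at hl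
      simp [hl], Finset.sum_congr rfl fun l hl => by rw [hconst l hl], Finset.sum_const, smul_eq_mul,
      mul_comm]
  have hcj1 : ∀ g, cj g 1 = 1 := fun g => MonoidHom.one_comp _
  have hm0 : m 1 = 0 := by
    by_contra h1
    have hS : S = {1} := by
      refine Finset.eq_singleton_iff_unique_mem.2 ⟨Finset.mem_filter.2 ⟨Finset.mem_univ _, h1⟩, fun l hl => ?_⟩
      obtain ⟨g, hg⟩ := hconj l 1 (Finset.mem_filter.1 hl).2 h1
      rw [← hg, hcj1]
    have ht : t = 1 := by simp [t, hS]
    rw [ht, mul_one] at he he2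
    rw [← he2, he] at hsum2
    obtain ⟨k, hk⟩ : ∃ k, N = k + 1 := ⟨N - 1, by omega⟩
    rw [hk] at hsum2
    have h2 : k * d ^ 2 = k := by
      rw [add_mul, one_mul] at hsum2
      omega
    rcases Nat.eq_zero_or_pos k with rfl | hk0
    · omega
    · have : d ^ 2 = 1 := Nat.eq_of_mul_eq_mul_left hk0 (by rw [h2, mul_one])
      exact hd1 (by nlinarith)
  have htN : t < N := by
    rw [← hcardD]
    exact Finset.card_lt_univ_of_notMem (x := 1) fun h => (Finset.mem_filter.1 h).2 hm0
  obtain ⟨he1, htcase⟩ := arith (N := N) (e := e) (t := t) (by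
    rw [← he2] at hsum2
    have : d ^ 2 = e ^ 2 * t * t := by rw [← he]; ring
    rw [mul_comm, hsum2, this]) (Finset.card_pos.2 ⟨l₀, hl₀⟩) htN
  rw [he1, one_mul] at he
  have ht : t = N - 1 := htcase.resolve_left fun h => hd1 (he.symm.trans h)
  have hS : S = Finset.univ.erase 1 := by
    refine Finset.eq_of_subset_of_card_le (fun l hl => Finset.mem_erase.2 ⟨fun h => ?_, Finset.mem_univ _⟩) ?_
    · exact (Finset.mem_filter.1 hl).2 (h ▸ hm0)
    · rw [Finset.card_erase_of_mem (Finset.mem_univ _), Finset.card_univ, hcardD]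
      exact le_of_eq ht.symm
  have hm1 : ∀ l, l ≠ 1 → m l = 1 := fun l hl => by
    rw [hconst l (hS ▸ Finset.mem_erase.2 ⟨hl, Finset.mem_univ _⟩)]
    exact he1
  have hN3 : 3 ≤ N := by omega
  -- fixed linear characters give coefficients of norm one
  have hfix : ∀ g l, l ≠ 1 → cj g l = l → ‖coef g l‖ = 1 := by
    intro g l hl hgl
    have hcomm : ρ g * E l = E l * ρ g := by
      have h := hcjE g l
      rw [hgl] at h
      conv_rhs => rw [← h]
      rw [mul_assoc, ← map_mul, inv_mul_cancel, map_one, mul_one]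
    obtain ⟨v, hv0, hv⟩ := finrank_eq_one_iff'.1 (hm1 l hl : Module.finrank ℂ (LinearMap.range (E l)) = 1)
    have hEv : E l (v : Fin d₀ → ℂ) = v := (hproj l).map_id _ v.2
    have hgv : ρ g (v : Fin d₀ → ℂ) ∈ LinearMap.range (E l) := by
      refine ⟨ρ g v, ?_⟩
      have := LinearMap.congr_fun hcomm (v : Fin d₀ → ℂ)
      simp only [Module.End.mul_apply] at this
      rw [← this, hEv]
    obtain ⟨c, hc⟩ := hv ⟨_, hgv⟩
    have hc' : ρ g (v : Fin d₀ → ℂ) = c • (v : Fin d₀ → ℂ) := (congrArg Subtype.val hc).symm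
    have hT : ρ g * E l = c • E l := by
      refine LinearMap.ext fun x => ?_
      obtain ⟨b, hb⟩ := hv ⟨E l x, LinearMap.mem_range_self _ x⟩
      have hb' : E l x = b • (v : Fin d₀ → ℂ) := (congrArg Subtype.val hb).symm
      simp [Module.End.mul_apply, hb', hc', smul_comm b c]
    have hpow : ∀ i : ℕ, (ρ g ^ i) (v : Fin d₀ → ℂ) = c ^ i • (v : Fin d₀ → ℂ) := by
      intro i
      induction i with
      | zero => simp
      | succ i ih => rw [pow_succ', Module.End.mul_apply, ih, map_smul, hc', smul_smul, pow_succ]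
    have hcn : c ^ orderOf g = 1 := by
      have h := hpow (orderOf g)
      rw [← map_pow, pow_orderOf_eq_one, map_one, Module.End.one_apply] at h
      refine smul_left_injective ℂ (fun h0 => hv0 (Subtype.ext h0)) (show c ^ orderOf g • (v : Fin d₀ → ℂ) = (1 : ℂ) • (v : Fin d₀ → ℂ) from ?_)
      rw [one_smul]; exact h.symm
    show ‖LinearMap.trace ℂ _ (ρ g * E l)‖ = 1
    rw [hT, map_smul, (hproj l).trace, show Module.finrank ℂ (LinearMap.range (E l)) = 1 from hm1 l hl,
      Nat.cast_one, smul_eq_mul, mul_one]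
    exact Complex.norm_eq_one_of_pow_eq_one hcn (orderOf_pos g).ne'
  set C := Subgroup.centralizer (P : Set G) with hC
  have hCfix : ∀ g ∈ C, ∀ l, cj g l = l := by
    intro g hg l
    refine MonoidHom.ext fun u => ?_
    show l (MulAut.conjNormal g u) = l u
    congr 1
    refine Subtype.ext ?_
    rw [MulAut.conjNormal_apply, ← Subgroup.mem_centralizer_iff.1 hg u u.2, mul_inv_cancel_right]
  -- p-elements outside P
  have hout : ∀ g : G, (∃ k : ℕ, orderOf g = p ^ k) → g ∉ P →
      (Finset.univ.filter fun l : P →* ℂˣ => l ≠ 1 ∧ cj g l = l).card ≤ 1 := by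
    intro g hg hgP
    obtain ⟨k, hk⟩ := hg
    have hsing : ∀ u : P, p ∣ orderOf (g * u) := by
      intro u
      have e : QuotientGroup.mk' P (g * u) = QuotientGroup.mk' P g := by
        rw [map_mul, show QuotientGroup.mk' P (u : G) = 1 from (QuotientGroup.eq_one_iff _).2 u.2, mul_one]
      have h1 : orderOf (QuotientGroup.mk' P g) ∣ p ^ k := hk ▸ orderOf_map_dvd _ g
      obtain ⟨i, -, hi⟩ := (Nat.dvd_prime_pow Fact.out).1 h1
      have hi0 : i ≠ 0 := fun h0 => hgP ((QuotientGroup.eq_one_iff g).1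
        (orderOf_eq_one_iff.1 (by rw [QuotientGroup.mk'_apply] at hi; rw [hi, h0, pow_zero])))
      have h2 := orderOf_map_dvd (QuotientGroup.mk' P) (g * u)
      rw [e, hi] at h2
      exact (dvd_pow_self p hi0).trans h2
    have h := hpars g
    rw [Finset.sum_congr rfl (g := fun _ => (1 : ℂ)) fun u _ => by rw [normSq_cast, hnorm _ (hsing u)]; simp,
      Finset.sum_const, Finset.card_univ, hcard, nsmul_eq_mul, mul_one] at h
    have h' : (1 : ℂ) = ((∑ l : P →* ℂˣ, ‖coef g l‖ ^ 2 : ℝ) : ℂ) :=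
      mul_left_cancel₀ (Nat.cast_ne_zero.2 (by omega : N ≠ 0)) (by rw [mul_one]; exact h)
    have h'' : (∑ l : P →* ℂˣ, ‖coef g l‖ ^ 2 : ℝ) = 1 := by exact_mod_cast h'.symm
    have hle := Finset.sum_le_sum_of_subset_of_nonneg
      (Finset.subset_univ (Finset.univ.filter fun l : P →* ℂˣ => l ≠ 1 ∧ cj g l = l))
      (fun l _ _ => sq_nonneg (‖coef g l‖))
    rw [h'', Finset.sum_congr rfl fun l hl => by
      rw [hfix g l (Finset.mem_filter.1 hl).2.1 (Finset.mem_filter.1 hl).2.2, one_pow],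
      Finset.sum_const, nsmul_eq_mul, mul_one] at hle
    exact_mod_cast hle
  have hpC : ∀ g ∈ C, (∃ k : ℕ, orderOf g = p ^ k) → g ∈ P := by
    intro g hg hgk
    by_contra hgP
    have h := hout g hgk hgP
    rw [Finset.filter_congr (q := fun l => l ≠ 1) fun l _ => and_iff_left (hCfix g hg l),
      Finset.filter_ne', Finset.card_erase_of_mem (Finset.mem_univ _), Finset.card_univ, hcardD] at h
    omega
  have hpCent : ∀ g ∈ C, ¬ p ∣ orderOf g → g ∈ Z := by
    intro g hg hgp
    refine CfsgLib.DegreeTools.mem_center_of_norm_eq χ hfaith g ?_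
    have h := hpars g
    rw [← Finset.add_sum_erase _ _ (Finset.mem_univ (1 : P)), OneMemClass.coe_one, mul_one,
      Finset.sum_congr rfl (g := fun _ => (1 : ℂ)) fun u hu => by
        have hu1 : (u : G) ≠ 1 := fun h => (Finset.mem_erase.1 hu).1 (Subtype.ext h)
        have hc : Commute g (u : G) := (Subgroup.mem_centralizer_iff.1 hg u u.2).symm
        have hd' : p ∣ orderOf (g * u) := by
          obtain ⟨k, hk⟩ := IsPGroup.iff_orderOf.1 hPp u
          rw [← Subgroup.orderOf_coe] at hk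
          rw [hc.orderOf_mul_eq_mul_orderOf_of_coprime (by
            rw [hk]; exact Nat.Coprime.pow_right k ((Nat.Prime.coprime_iff_not_dvd Fact.out).2 hgp).symm)]
          exact Dvd.dvd.mul_left (hPord _ u.2 hu1) _
        rw [normSq_cast, hnorm _ hd']; simp,
      Finset.sum_const, Finset.card_erase_of_mem (Finset.mem_univ _), Finset.card_univ, hcard,
      nsmul_eq_mul, mul_one, normSq_cast] at h
    have hcast : (‖(χ : G → ℂ) g‖ ^ 2 + ((N - 1 : ℕ) : ℝ)) = (N : ℝ) * ((N - 1 : ℕ) : ℝ) := by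
      have hsum' : (∑ l : P →* ℂˣ, ‖coef g l‖ ^ 2 : ℝ) = ((N - 1 : ℕ) : ℝ) := by
        rw [← Finset.add_sum_erase _ _ (Finset.mem_univ (1 : P →* ℂˣ)),
          Finset.sum_congr rfl (g := fun _ => (1 : ℝ)) fun l hl => by
            rw [hfix g l (Finset.mem_erase.1 hl).1 (hCfix g hg l), one_pow],
          Finset.sum_const, Finset.card_erase_of_mem (Finset.mem_univ _), Finset.card_univ, hcardD,
          nsmul_eq_mul, mul_one]
        have hE0 : E 1 = 0 := by
          rw [← LinearMap.range_eq_bot, ← Submodule.finrank_eq_zero]; exact hm0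
        simp [coef, hE0]
      rw [hsum'] at h
      exact_mod_cast h
    have hd' : d = N - 1 := he.symm.trans ht
    show ‖(χ : G → ℂ) g‖ = (d : ℝ)
    rw [hd', ← sq_eq_sq₀ (norm_nonneg _) (Nat.cast_nonneg _)]
    rw [Nat.cast_sub (by omega : 1 ≤ N), Nat.cast_one] at hcast ⊢
    linarith
  have hCPZ : C = P ⊔ Z := by
    refine le_antisymm (fun c hc => ?_) (sup_le ?_ ?_)
    · set o := orderOf c with ho
      have ho0 : o ≠ 0 := (orderOf_pos c).ne'
      set A := p ^ o.factorization p with hA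
      set B := o / p ^ o.factorization p with hB
      have hAB : A * B = o := Nat.ordProj_mul_ordCompl_eq_self o p
      have hco : Nat.Coprime A B := Nat.Coprime.pow_left _ (Nat.coprime_ordCompl Fact.out ho0)
      have hbez := Nat.gcd_eq_gcd_ab A B
      rw [hco.gcd_eq_one, Nat.cast_one] at hbez
      have h1 : c ^ ((B : ℤ) * Nat.gcdB A B) ∈ P := by
        refine hpC _ (zpow_mem hc _) ?_
        have : (c ^ ((B : ℤ) * Nat.gcdB A B)) ^ A = 1 := by
          rw [← zpow_natCast, ← zpow_mul, ← orderOf_dvd_iff_zpow_eq_one, ← ho, ← hAB]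
          push_cast
          exact ⟨Nat.gcdB A B, by ring⟩
        obtain ⟨i, -, hi⟩ := (Nat.dvd_prime_pow Fact.out).1 (orderOf_dvd_of_pow_eq_one this)
        exact ⟨i, hi⟩
      have h2 : c ^ ((A : ℤ) * Nat.gcdA A B) ∈ Z := by
        refine hpCent _ (zpow_mem hc _) ?_
        have : (c ^ ((A : ℤ) * Nat.gcdA A B)) ^ B = 1 := by
          rw [← zpow_natCast, ← zpow_mul, ← orderOf_dvd_iff_zpow_eq_one, ← ho, ← hAB]
          push_cast
          exact ⟨Nat.gcdA A B, by ring⟩
        exact fun hd => (Nat.not_dvd_ordCompl Fact.out ho0) (hd.trans (orderOf_dvd_of_pow_eq_one this))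
      have : c = c ^ ((B : ℤ) * Nat.gcdB A B) * c ^ ((A : ℤ) * Nat.gcdA A B) := by
        rw [← zpow_add, add_comm, ← hbez, zpow_one]
      rw [this]
      exact mul_mem (Subgroup.mem_sup_left h1) (Subgroup.mem_sup_right h2)
    · exact fun x hx => Subgroup.mem_centralizer_iff.2 fun y hy =>
        congrArg Subtype.val (hab ⟨y, hy⟩ ⟨x, hx⟩)
    · exact fun x hx => Subgroup.mem_centralizer_iff.2 fun y _ => Subgroup.mem_center_iff.1 hx y
  have hPZ : P ⊓ Z = ⊥ := by
    rw [Subgroup.eq_bot_iff_forall]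
    intro x hx
    by_contra hx1
    have h1 := hnorm x (hPord x hx.1 hx1)
    have h2 : ‖(χ : G → ℂ) x‖ = (d : ℝ) := CfsgLib.DegreeTools.norm_apply_center χ hx.2
    rw [h1] at h2
    exact hd1 (by exact_mod_cast h2.symm)
  have hexp : ∀ x ∈ P, x ^ p = 1 := by
    intro x hx
    haveI : Fact p.Prime := inferInstance
    obtain ⟨l₁, hl₁⟩ := exists_prime_orderOf_dvd_card' (G := P →* ℂˣ) p
      (by rw [Nat.card_eq_fintype_card, hcardD]; exact hpN)
    have hl₁1 : l₁ ≠ 1 := by
      intro h; rw [h, orderOf_one] at hl₁; exact (Fact.out : p.Prime).ne_one hl₁.symm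
    have hall : ∀ l : P →* ℂˣ, l ^ p = 1 := by
      intro l
      by_cases hl : l = 1
      · rw [hl]; exact MonoidHom.ext fun u => by simp
      obtain ⟨g, rfl⟩ := hconj l l₁ (by rw [hm1 l hl]; omega) (by rw [hm1 l₁ hl₁1]; omega)
      refine MonoidHom.ext fun u => ?_
      have := DFunLike.congr_fun (hl₁ ▸ pow_orderOf_eq_one l₁ : l₁ ^ p = 1) (MulAut.conjNormal g u)
      simpa [cj] using this
    by_contra hne
    obtain ⟨l, hl⟩ := CommGroup.exists_apply_ne_one_of_hasEnoughRootsOfUnity P ℂ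
      (show (⟨x, hx⟩ : P) ^ p ≠ 1 from fun h => hne (congrArg Subtype.val h))
    exact hl (by rw [map_pow]; exact DFunLike.congr_fun (hall l) ⟨x, hx⟩)
  by_cases hcase : ∀ g : G, (∃ k : ℕ, orderOf g = p ^ k) → g ∈ P
  · left
    refine ⟨?_, ⟨⟨⟨hab⟩⟩, hexp⟩, hCPZ, hPZ, ?_, ?_⟩
    · obtain ⟨R⟩ : Nonempty (Sylow p G) := inferInstance
      have hRP : (R : Subgroup G) ≤ P := fun x hx => hcase x (by
        obtain ⟨k, hk⟩ := IsPGroup.iff_orderOf.1 R.2 ⟨x, hx⟩
        exact ⟨k, by rwa [Subgroup.orderOf_mk] at hk⟩)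
      have h3 : Nat.card P = Nat.card (R : Subgroup G) := by rw [R.3 hPp hRP]
      rw [hNdef, h3, R.card_eq_multiplicity, Nat.Prime.factorization_pow Fact.out, Finsupp.single_eq_same]
    · intro lam mu hlam hlam1 hlam' hmu hmu1 hmu'
      obtain ⟨l, rfl⟩ := exists_hom_of_apply_one_eq_one hlam hlam1
      obtain ⟨l', rfl⟩ := exists_hom_of_apply_one_eq_one hmu hmu1
      have hl : l ≠ 1 := fun h => hlam' (by subst h; simp)
      have hl' : l' ≠ 1 := fun h => hmu' (by subst h; simp)
      obtain ⟨g, rfl⟩ := hconj l' l (by rw [hm1 l' hl']; omega) (by rw [hm1 l hl]; omega)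
      refine ⟨g, fun x hx hgx => ?_⟩
      rfl
    · rw [hdc, ← he, ht, Nat.cast_sub (by omega), Nat.cast_one]
  right
  push Not at hcase
  -- the dual group
  have hmul : ∀ g (a b : P →* ℂˣ), cj g (a * b) = cj g a * cj g b := fun g a b => MonoidHom.mul_comp _ _ _
  have hcomp : ∀ g g' l, cj g (cj g' l) = cj (g' * g) l := fun g g' l => by
    refine MonoidHom.ext fun u => ?_
    simp [cj]
  let Fx : G → Subgroup (P →* ℂˣ) := fun g =>
    { carrier := {l | cj g l = l}
      one_mem' := hcj1 g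
      mul_mem' := fun {a b} ha hb => by
        show cj g (a * b) = a * b
        rw [hmul, show cj g a = a from ha, show cj g b = b from hb]
      inv_mem' := fun {a} ha => by
        refine MonoidHom.ext fun u => ?_
        exact congrArg (·⁻¹) (DFunLike.congr_fun (show cj g a = a from ha) u) }
  -- an element of order `p` modulo `P`
  obtain ⟨h, hhk, hhP, hhp⟩ : ∃ h : G, (∃ k : ℕ, orderOf h = p ^ k) ∧ h ∉ P ∧ h ^ p ∈ P := by
    obtain ⟨g, ⟨k, hk⟩, hgP⟩ := hcase
    have hex : ∃ i, g ^ (p ^ i) ∈ P := ⟨k, by rw [← hk, pow_orderOf_eq_one]; exact one_mem _⟩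
    have h0 : Nat.find hex ≠ 0 := fun h0 => hgP (by
      have := Nat.find_spec hex
      rwa [h0, pow_zero, pow_one] at this)
    obtain ⟨i, hi⟩ := Nat.exists_eq_succ_of_ne_zero h0
    refine ⟨g ^ p ^ i, ?_, fun hm => Nat.find_min hex (by omega : i < Nat.find hex) hm, ?_⟩
    · obtain ⟨j, -, hj⟩ := (Nat.dvd_prime_pow Fact.out).1 (hk ▸ orderOf_pow_dvd (x := g) (p ^ i))
      exact ⟨j, hj⟩
    · rw [← pow_mul, ← pow_succ]
      have := Nat.find_spec hex
      rwa [hi] at this
  have hPC : P ≤ C := hCPZ ▸ le_sup_left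
  have hF2 : Nat.card (Fx h) ≤ 2 := by
    rw [Nat.card_eq_fintype_card, Fintype.card_subtype]
    have h1 : (Finset.univ.filter fun l : P →* ℂˣ => l ∈ Fx h) ⊆
        insert 1 (Finset.univ.filter fun l : P →* ℂˣ => l ≠ 1 ∧ cj h l = l) := by
      intro l hl
      rw [Finset.mem_insert]
      by_cases h1 : l = 1
      · exact Or.inl h1
      · exact Or.inr (Finset.mem_filter.2 ⟨Finset.mem_univ _, h1, (Finset.mem_filter.1 hl).2⟩)
    refine (Finset.card_le_card h1).trans ((Finset.card_insert_le _ _).trans ?_)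
    have := hout h hhk hhP
    omega
  have hFdvd : p ∣ Nat.card (Fx h) := by
    have hcjp : ∀ i : ℕ, ∀ l, cj (h ^ i) l = (fun l => cj h l)^[i] l := by
      intro i
      induction i with
      | zero =>
        intro l
        refine MonoidHom.ext fun u => ?_
        simp [cj]
      | succ i ih => intro l; rw [Function.iterate_succ_apply', ← ih, hcomp, pow_succ]
    let act : Equiv.Perm (P →* ℂˣ) :=
      { toFun := fun l => cj h l
        invFun := fun l => cj h⁻¹ l
        left_inv := fun l => by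
          show cj h⁻¹ (cj h l) = l
          rw [hcomp, mul_inv_cancel]
          exact MonoidHom.ext fun u => by simp [cj]
        right_inv := fun l => by
          show cj h (cj h⁻¹ l) = l
          rw [hcomp, inv_mul_cancel]
          exact MonoidHom.ext fun u => by simp [cj] }
    have hact : act ^ p ^ 1 = 1 := by
      refine Equiv.ext fun l => ?_
      rw [pow_one, Equiv.Perm.coe_pow, Equiv.Perm.one_apply]
      show (fun l => cj h l)^[p] l = l
      rw [← hcjp]
      exact hCfix _ (hPC hhp) l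
    have hfix := Equiv.Perm.card_compl_support_modEq hact
    rw [show Fintype.card (P →* ℂˣ) = N from hcardD] at hfix
    have hcF : (act.supportᶜ : Finset _).card = Nat.card (Fx h) := by
      rw [Nat.card_eq_fintype_card, Fintype.card_subtype]
      refine congrArg Finset.card (Finset.ext fun l => ?_)
      rw [Finset.mem_compl, Equiv.Perm.notMem_support, Finset.mem_filter]
      exact ⟨fun e => ⟨Finset.mem_univ _, e⟩, fun e => e.2⟩
    rw [hcF] at hfix
    exact (Nat.ModEq.dvd_iff hfix dvd_rfl).2 hpN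
  have hp2 : p = 2 := le_antisymm ((Nat.le_of_dvd Nat.card_pos hFdvd).trans hF2) (Fact.out : p.Prime).two_le
  subst hp2
  have hsq : ∀ l : P →* ℂˣ, l * l = 1 := fun l => MonoidHom.ext fun u => by
    rw [MonoidHom.mul_apply, ← map_mul, show u * u = 1 from Subtype.ext (by
      rw [Subgroup.coe_mul, ← sq]; exact hexp _ u.2), map_one, MonoidHom.one_apply]
  have hN4 : N = 4 := by
    let ψ : (P →* ℂˣ) →* (P →* ℂˣ) := MonoidHom.mk' (fun l => l * cj h l) fun a b => by
      simp only [hmul]; exact MonoidHom.ext fun u => mul_mul_mul_comm _ _ _ _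
    have hr : Nat.card ψ.range ≤ 2 := by
      refine (Subgroup.card_le_of_le ?_).trans hF2
      rintro _ ⟨l, rfl⟩
      show cj h (l * cj h l) = l * cj h l
      rw [hmul, hcomp, ← sq, hCfix _ (hPC hhp)]
      exact MonoidHom.ext fun u => mul_comm _ _
    have hk : Nat.card ψ.ker ≤ 2 := by
      refine (Subgroup.card_le_of_le ?_).trans hF2
      intro l hl
      show cj h l = l
      have h1 : l * cj h l = 1 := hl
      exact mul_left_cancel (h1.trans (hsq l).symm)
    have hle : N ≤ 4 := by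
      have e := ψ.ker.card_mul_index
      rw [Subgroup.index_ker, Nat.card_eq_fintype_card (α := P →* ℂˣ), hcardD] at e
      rw [← e]
      exact (Nat.mul_le_mul hk hr).trans le_rfl
    rw [hNdef, hn] at hle hN3 ⊢
    rcases n with _ | _ | _ | n
    · omega
    · omega
    · rfl
    · have : 2 ^ 3 ≤ 2 ^ (n + 3) := Nat.pow_le_pow_right two_pos (by omega)
      omega
  have hhC : h ∉ C := fun hh => hhP (hpC h hh hhk)
  have hPsq : ∀ x : P, x * x = 1 := fun x => Subtype.ext (by rw [Subgroup.coe_mul, ← sq]; exact hexp _ x.2)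
  have hPinv : ∀ x : P, x⁻¹ = x := fun x => inv_eq_of_mul_eq_one_right (hPsq x)
  have hthird : ∀ x y z : P, x ≠ 1 → y ≠ 1 → x ≠ y → z ≠ 1 → z ≠ x → z ≠ y → z = x * y := by
    intro x y z hx hy hxy hz hzx hzy
    by_contra hne
    have h1 : x * y ≠ 1 := fun e => hxy (mul_eq_one_iff_eq_inv.1 e |>.trans (hPinv y))
    have h2 : x * y ≠ x := fun e => hy (mul_eq_left.1 e)
    have h3 : x * y ≠ y := fun e => hx (mul_eq_right.1 e)
    have h5 : ({1, x, y, z, x * y} : Finset P).card = 5 := by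
      simp [Finset.card_insert_of_notMem, Ne.symm hx, Ne.symm hy, Ne.symm hz, Ne.symm h1, hxy,
        Ne.symm hzx, Ne.symm h2, Ne.symm hzy, Ne.symm h3, hne]
    have := Finset.card_le_univ ({1, x, y, z, x * y} : Finset P)
    rw [h5, hcard, hN4] at this
    omega
  obtain ⟨x, hx⟩ : ∃ x : P, MulAut.conjNormal h x ≠ x := by
    by_contra hc
    push Not at hc
    refine hhC (Subgroup.mem_centralizer_iff.2 fun y hy => ?_)
    have := congrArg Subtype.val (hc ⟨y, hy⟩)
    rw [MulAut.conjNormal_apply] at this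
    exact (mul_inv_eq_iff_eq_mul.1 this).symm
  set y := (MulAut.conjNormal h x : P) with hy
  have hx1 : x ≠ 1 := fun e => hx (by rw [hy, e, map_one])
  have hy1 : y ≠ 1 := fun e => hx1 ((MulAut.conjNormal h).injective (e.trans (map_one _).symm))
  set w : P := ⟨h ^ 2, hhp⟩
  have hwfix : MulAut.conjNormal h w = w := Subtype.ext (by
    rw [MulAut.conjNormal_apply]; show h * h ^ 2 * h⁻¹ = h ^ 2; group)
  have hyx : MulAut.conjNormal h y = x := by
    rw [hy, ← MulAut.mul_apply, ← map_mul, ← sq]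
    refine Subtype.ext ?_
    rw [MulAut.conjNormal_apply, ← Subgroup.mem_centralizer_iff.1 (hPC hhp) x x.2, mul_inv_cancel_right]
  have hw : w = 1 ∨ w = x * y := by
    by_cases hw1 : w = 1
    · exact Or.inl hw1
    refine Or.inr (hthird x y w hx1 hy1 (Ne.symm hx) hw1 (fun e => hx ?_) (fun e => hx ?_))
    · show MulAut.conjNormal h x = x
      rw [← e]; exact hwfix
    · show y = x
      rw [← hyx, ← e]; exact hwfix.symm
  -- an involution outside `P`
  obtain ⟨tt, ht2, htP⟩ : ∃ tt : G, tt * tt = 1 ∧ tt ∉ P := by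
    rcases hw with hw | hw
    · exact ⟨h, by rw [← sq]; exact congrArg Subtype.val hw, hhP⟩
    · refine ⟨x * h, ?_, fun e => hhP ?_⟩
      · have hw' : h ^ 2 = (x : G) * (y : G) := congrArg Subtype.val hw
        have hy' : h * (x : G) * h⁻¹ = (y : G) := (MulAut.conjNormal_apply h x).symm
        calc (x : G) * h * ((x : G) * h) = (x : G) * (h * (x : G) * h⁻¹) * h ^ 2 := by rw [sq]; group
          _ = (((x * y) * (x * y) : P) : G) := by rw [hy', hw']; rfl
          _ = 1 := by rw [hPsq, OneMemClass.coe_one]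
      · have := P.mul_mem (P.inv_mem x.2) e
        rwa [inv_mul_cancel_left] at this
  have ht1 : tt ≠ 1 := fun e => htP (e ▸ one_mem P)
  have hto : orderOf tt = 2 := orderOf_eq_prime (by rw [sq, ht2]) ht1
  have htinv : tt⁻¹ = tt := inv_eq_of_mul_eq_one_right ht2
  have htC : tt ∉ C := fun hh => htP (hpC tt hh ⟨1, by rw [hto, pow_one]⟩)
  have hodd : Odd (Nat.card Z) := by
    rw [← Nat.not_even_iff_odd, even_iff_two_dvd]
    intro hd
    obtain ⟨z, hz⟩ := exists_prime_orderOf_dvd_card' (G := Z) 2 hd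
    have hzP : (z : G) ∈ P := hpC _ (hCPZ ▸ Subgroup.mem_sup_right z.2)
      ⟨1, by rw [Subgroup.orderOf_coe, hz, pow_one]⟩
    have hz1 : (z : G) = 1 := Subgroup.mem_bot.1 (hPZ ▸ Subgroup.mem_inf.2 ⟨hzP, z.2⟩)
    rw [show z = 1 from Subtype.ext hz1, orderOf_one] at hz
    omega
  refine ⟨rfl, hodd, ?_⟩
  -- the action on `P`
  set φ : G →* MulAut P := MulAut.conjNormal with hφ
  have hker : ∀ g, φ g = 1 ↔ g ∈ C := by
    intro g
    constructor
    · intro hg
      refine Subgroup.mem_centralizer_iff.2 fun y hy => ?_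
      have := congrArg (fun f : MulAut P => ((f ⟨y, hy⟩ : P) : G)) hg
      simp only [hφ, MulAut.conjNormal_apply, MulAut.one_apply] at this
      exact (mul_inv_eq_iff_eq_mul.1 this).symm
    · intro hg
      ext u
      rw [hφ, MulAut.conjNormal_apply, MulAut.one_apply, ← Subgroup.mem_centralizer_iff.1 hg u u.2,
        mul_inv_cancel_right]
  have hφC : φ.ker = C := Subgroup.ext fun g => hker g
  let toPerm : MulAut P → Equiv.Perm {u : P // u ≠ 1} := fun f =>
    Equiv.Perm.subtypePerm f.toEquiv (fun u => by simp)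
  have hinj : Function.Injective toPerm := by
    intro f f' hff
    ext u
    by_cases hu : u = 1
    · subst hu; simp
    · have := congrArg (fun e : Equiv.Perm {u : P // u ≠ 1} => ((e ⟨u, hu⟩).1 : G)) hff
      simpa [toPerm] using this
  haveI : Finite (MulAut P) := Finite.of_injective toPerm hinj
  have hcardA : Nat.card (MulAut P) ≤ 6 := by
    refine (Nat.card_le_card_of_injective toPerm hinj).trans ?_
    rw [Nat.card_perm, Nat.card_eq_fintype_card, Fintype.card_subtype_compl, hcard, hN4,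
      Fintype.card_subtype_eq]
    rfl
  -- an element inducing a 3-cycle
  obtain ⟨l₁, hl₁⟩ : ∃ l : P →* ℂˣ, l ≠ 1 := ⟨l₀, fun e => (Finset.mem_filter.1 hl₀).2 (e ▸ hm0)⟩
  have h3 : 3 ∣ C.index := by
    let St : Subgroup G :=
      { carrier := {g | cj g l₁ = l₁}
        one_mem' := MonoidHom.ext fun u => by simp [cj]
        mul_mem' := fun {a b} ha hb => by
          show cj (a * b) l₁ = l₁
          rw [← hcomp, show cj a l₁ = l₁ from ha, show cj b l₁ = l₁ from hb]
        inv_mem' := fun {a} ha => by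
          show cj a⁻¹ l₁ = l₁
          conv_lhs => arg 2; rw [← show cj a l₁ = l₁ from ha]
          rw [hcomp, mul_inv_cancel]
          exact MonoidHom.ext fun u => by simp [cj] }
    have hSt : St.index = 3 := by
      rw [Subgroup.index, ← show Nat.card {l : P →* ℂˣ // l ≠ 1} = 3 by
        rw [Nat.card_eq_fintype_card, Fintype.card_subtype_compl, hcardD, hN4, Fintype.card_subtype_eq]]
      refine Nat.card_congr (Equiv.ofBijective (fun q => ⟨cj (Quotient.out q)⁻¹ l₁, fun e => hl₁ ?_⟩) ⟨?_, ?_⟩)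
      · have := congrArg (cj (Quotient.out q)) e
        rw [hcomp, inv_mul_cancel, hcj1] at this
        exact (MonoidHom.ext fun u => by simp [cj]).trans this
      · intro q q' e
        have e' := congrArg (fun l => cj (Quotient.out q') l.1) e
        simp only [hcomp, inv_mul_cancel] at e'
        have hmem : (Quotient.out q)⁻¹ * Quotient.out q' ∈ St := e'.trans (MonoidHom.ext fun u => by simp [cj])
        rw [← QuotientGroup.out_eq' q, ← QuotientGroup.out_eq' q']
        exact QuotientGroup.eq.2 hmem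
      · rintro ⟨l, hl⟩
        obtain ⟨g, hg⟩ := hconj l l₁ (by rw [hm1 l hl]; omega) (by rw [hm1 l₁ hl₁]; omega)
        refine ⟨QuotientGroup.mk g⁻¹, Subtype.ext ?_⟩
        obtain ⟨s, hs⟩ := QuotientGroup.mk_out_eq_mul St g⁻¹
        show cj (Quotient.out (QuotientGroup.mk g⁻¹ : G ⧸ St))⁻¹ l₁ = l
        rw [hs, mul_inv_rev, inv_inv, ← hcomp, show cj ((s : G))⁻¹ l₁ = l₁ from St.inv_mem s.2, hg]
    exact hSt ▸ Subgroup.index_dvd_of_le (fun g hg => hCfix g hg l₁)
  haveI : C.Normal := inferInstance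
  haveI : Fact (Nat.Prime 3) := ⟨Nat.prime_three⟩
  obtain ⟨qc, hqc⟩ := exists_prime_orderOf_dvd_card' (G := G ⧸ C) 3 (by rwa [← Subgroup.index_eq_card])
  obtain ⟨c, rfl⟩ := QuotientGroup.mk'_surjective C qc
  set r := tt * c * tt * c⁻¹ with hr
  have hrinv : tt * r * tt = r⁻¹ := by
    rw [hr, mul_inv_rev, mul_inv_rev, mul_inv_rev, inv_inv, htinv]
    calc tt * (tt * c * tt * c⁻¹) * tt = (tt * tt) * (c * tt * c⁻¹ * tt) := by group
      _ = _ := by rw [ht2, one_mul]; group
  have hidx : C.index ≤ 6 := by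
    rw [← hφC, Subgroup.index_ker]
    exact (Nat.card_le_card_of_injective _ φ.range.subtype_injective).trans hcardA
  -- the image is non-abelian of order 6
  have hcC : c ∉ C := fun hc => by
    rw [QuotientGroup.mk'_apply, (QuotientGroup.eq_one_iff c).2 hc, orderOf_one] at hqc
    omega
  have hnc : φ c * φ tt ≠ φ tt * φ c := by
    intro hcm
    have hc' : Commute (φ c) (φ tt) := hcm
    have hoc : orderOf (φ c) = 3 := by
      refine orderOf_eq_prime ?_ fun e => hcC ((hker c).1 e)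
      rw [← map_pow, hker, ← QuotientGroup.eq_one_iff, QuotientGroup.mk_pow]
      exact hqc ▸ pow_orderOf_eq_one (QuotientGroup.mk' C c)
    have hot : orderOf (φ tt) = 2 := by
      refine orderOf_eq_prime ?_ fun e => htC ((hker tt).1 e)
      rw [← map_pow, sq, ht2, map_one]
    have h6 : orderOf (φ c * φ tt) = 6 := by
      rw [hc'.orderOf_mul_eq_mul_orderOf_of_coprime (by rw [hoc, hot]; decide), hoc, hot]
    -- no element of order 6 in a permutation group on three points
    let tp : MulAut P →* Equiv.Perm {u : P // u ≠ 1} :=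
      MonoidHom.mk' toPerm fun f g => Equiv.ext fun u => rfl
    have h6' := (orderOf_injective tp hinj (φ c * φ tt)).trans h6
    have hcard3 : Fintype.card {u : P // u ≠ 1} = 3 := by
      rw [Fintype.card_subtype_compl, hcard, hN4, Fintype.card_subtype_eq]
    set e := (Fintype.equivFinOfCardEq hcard3).permCongrHom
    have h6'' := (orderOf_injective e.toMonoidHom e.injective (tp (φ c * φ tt))).trans h6'
    exact orderOf_perm_three _ h6''
  have hr0 : r ∉ C := by
    intro hrC
    apply hnc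
    have h1 : φ tt * φ c * φ tt * (φ c)⁻¹ = 1 := by
      rw [← map_inv, ← map_mul, ← map_mul, ← map_mul, hker]
      exact hrC
    have h2 : φ tt * φ tt = 1 := by rw [← map_mul, ht2, map_one]
    rw [mul_inv_eq_one] at h1
    calc φ c * φ tt = φ tt * φ c * φ tt * φ tt := by rw [h1]
      _ = φ tt * φ c := by rw [mul_assoc, h2, mul_one]
  have hr3C : r ^ 3 ∈ C := by
    -- the index is six and the image of `r` is not an involution
    have hidx6 : C.index = 6 := by
      have h2 : 2 ∣ C.index := by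
        rw [Subgroup.index_eq_card]
        refine dvd_trans (dvd_of_eq (orderOf_eq_prime ?_ fun e => htC ((QuotientGroup.eq_one_iff tt).1 e)).symm)
          (orderOf_dvd_natCard (QuotientGroup.mk' C tt))
        show (QuotientGroup.mk' C tt) ^ 2 = 1
        rw [← map_pow, sq, ht2, map_one]
      have h6 := Nat.Coprime.mul_dvd_of_dvd_of_dvd (by decide : Nat.Coprime 2 3) h2 h3
      have hpos := Nat.pos_of_ne_zero (Subgroup.index_ne_zero_of_finite (H := C))
      have := Nat.le_of_dvd hpos h6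
      omega
    set q := QuotientGroup.mk' C c
    set u := QuotientGroup.mk' C tt
    haveI : (Subgroup.zpowers q).Normal := by
      refine Subgroup.normal_of_index_eq_two ?_
      have h := (Subgroup.zpowers q).card_mul_index
      rw [Nat.card_zpowers, hqc, ← Subgroup.index_eq_card, hidx6] at h
      omega
    have hrq : QuotientGroup.mk' C r ∈ Subgroup.zpowers q := by
      rw [hr, map_mul, map_mul, map_mul, map_inv]
      refine mul_mem ?_ (inv_mem (Subgroup.mem_zpowers q))
      have := (inferInstance : (Subgroup.zpowers q).Normal).conj_mem q (Subgroup.mem_zpowers q) u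
      rwa [← map_inv, htinv] at this
    obtain ⟨i, hi⟩ := Subgroup.mem_zpowers_iff.1 hrq
    rw [← QuotientGroup.eq_one_iff, QuotientGroup.mk_pow, ← QuotientGroup.mk'_apply, ← hi,
      ← zpow_natCast, ← zpow_mul, mul_comm, zpow_mul, zpow_natCast, ← hqc, pow_orderOf_eq_one, one_zpow]
  have hr3 : r ^ 3 = 1 := by
    obtain ⟨v, hv, z, hz, hvz⟩ := Subgroup.mem_sup_of_normal_left.1 (hCPZ ▸ hr3C)
    have hrv : r * v * r⁻¹ = v := by
      have e : r * (v * z) * r⁻¹ = v * z := by rw [hvz]; group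
      have hz' := Subgroup.mem_center_iff.1 hz r⁻¹
      have e2 : r * (v * z) * r⁻¹ = r * v * r⁻¹ * z := by rw [mul_assoc r, mul_assoc v, ← hz']; group
      exact mul_right_cancel (e2.symm.trans e)
    have hv1 : v = 1 := by
      by_contra hv1
      apply hr0
      -- `r` fixes `v`, so it permutes the two other elements
      rw [← hker]
      have hrv' : φ r ⟨v, hv⟩ = ⟨v, hv⟩ := Subtype.ext (by rw [hφ, MulAut.conjNormal_apply]; exact hrv)
      ext1 a
      by_contra hra
      rw [MulAut.one_apply] at hra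
      have ha1 : a ≠ 1 := fun e => hra (by rw [e, map_one])
      have hav : a ≠ ⟨v, hv⟩ := fun e => hra (by rw [e, hrv'])
      have hv1' : (⟨v, hv⟩ : P) ≠ 1 := fun e => hv1 (congrArg Subtype.val e)
      have hb := hthird a ⟨v, hv⟩ (φ r a) ha1 hv1' hav (fun e => ha1 ((φ r).injective (e.trans (map_one _).symm)))
        hra (fun e => hav ((φ r).injective (e.trans hrv'.symm)))
      have hb2 : φ r (φ r a) = a := by
        rw [hb, map_mul, hrv', hb, mul_assoc, hPsq, mul_one]
      have hb3 : φ r (φ r (φ r a)) = a := by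
        have := congrArg (fun f : MulAut P => f a) ((hker _).2 hr3C)
        simpa [map_pow, pow_succ, pow_zero] using this
      rw [hb2] at hb3
      exact hra hb3
    subst hv1
    rw [one_mul] at hvz
    have h2 : tt * r ^ 3 * tt = (r ^ 3)⁻¹ := by
      have := conj_pow (i := 3) (a := tt) (b := r)
      rw [htinv, hrinv, inv_pow] at this
      exact this.symm
    rw [← hvz] at h2 ⊢
    have hz2 : z ^ 2 = 1 := by
      rw [Subgroup.mem_center_iff.1 hz tt, mul_assoc, ht2, mul_one] at h2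
      rw [sq]; exact mul_eq_one_iff_eq_inv.2 h2
    have ho := Subgroup.orderOf_dvd_natCard Z hz
    exact orderOf_eq_one_iff.1 (Nat.eq_one_of_dvd_coprimes
      (Nat.coprime_two_left.2 hodd) (orderOf_dvd_of_pow_eq_one hz2) ho)
  have hro : orderOf r = 3 := orderOf_eq_prime hr3 fun e => hr0 (e ▸ one_mem C)
  -- the subgroup of order 6
  set R := Subgroup.zpowers r
  set K := R ⊔ Subgroup.zpowers tt with hK
  have hnormR : Subgroup.zpowers tt ≤ Subgroup.normalizer (R : Set G) := by
    rw [Subgroup.zpowers_le, Subgroup.mem_normalizer_iff_map_conj_eq, MonoidHom.map_zpowers]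
    simp only [MonoidHom.coe_coe, MulEquiv.coe_toMonoidHom, MulAut.conj_apply]
    rw [htinv, hrinv]
    exact Subgroup.zpowers_inv
  have hKcard : Nat.card K ≤ 6 := by
    have h1 : (K : Set G) = (R : Set G) * (Subgroup.zpowers tt : Set G) :=
      Subgroup.coe_mul_of_right_le_normalizer_left R _ hnormR
    rw [← SetLike.coe_sort_coe, h1]
    refine Set.natCard_mul_le.trans (le_of_eq ?_)
    rw [SetLike.coe_sort_coe, SetLike.coe_sort_coe, Nat.card_zpowers, Nat.card_zpowers, hro, hto]
  have hKimg : 6 ≤ Nat.card (K.map φ) := by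
    have h2 : 2 ∣ Nat.card (K.map φ) := by
      have : orderOf (φ tt) = 2 := orderOf_eq_prime (by rw [← map_pow, sq, ht2, map_one]) fun e => htC ((hker tt).1 e)
      rw [← this]
      exact Subgroup.orderOf_dvd_natCard _ ⟨tt, Subgroup.mem_sup_right (Subgroup.mem_zpowers tt), rfl⟩
    have h3' : 3 ∣ Nat.card (K.map φ) := by
      have : orderOf (φ r) = 3 := orderOf_eq_prime (by rw [← map_pow, hr3, map_one]) fun e => hr0 ((hker r).1 e)
      rw [← this]
      exact Subgroup.orderOf_dvd_natCard _ ⟨r, Subgroup.mem_sup_left (Subgroup.mem_zpowers r), rfl⟩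
    exact Nat.le_of_dvd Nat.card_pos (Nat.Coprime.mul_dvd_of_dvd_of_dvd (by decide : Nat.Coprime 2 3) h2 h3')
  have hKC : K ⊓ C = ⊥ := by
    rw [← Subgroup.card_eq_one]
    have e := Subgroup.card_mul_index ((K ⊓ C).subgroupOf K)
    rw [Nat.card_congr (Subgroup.subgroupOfEquivOfLe (inf_le_left : K ⊓ C ≤ K)).toEquiv,
      Subgroup.inf_subgroupOf_left, ← Subgroup.relIndex, ← hφC, Subgroup.relIndex_ker, hφC] at e
    have hpos : 0 < Nat.card (K ⊓ C : Subgroup G) := Nat.card_pos
    nlinarith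
  have hKsup : C ⊔ K = ⊤ := by
    rw [eq_top_iff]
    intro g _
    have hKC' : (K.map φ) = φ.range := by
      refine Subgroup.eq_of_le_of_card_ge (Subgroup.map_le_range φ K) ?_
      refine le_trans ?_ hKimg
      rw [← Subgroup.index_ker, hφC]; exact hidx
    obtain ⟨k, hk, hkg⟩ : φ g ∈ K.map φ := hKC' ▸ ⟨g, rfl⟩
    have hm : g * k⁻¹ ∈ C := by rw [← hker, map_mul, map_inv, hkg, mul_inv_cancel]
    have := Subgroup.mul_mem_sup hm hk
    rwa [inv_mul_cancel_right] at this
  have hPK : P ⊓ K = ⊥ := by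
    rw [eq_bot_iff, ← hKC]
    exact le_inf inf_le_right (inf_le_left.trans hPC)
  set H := P ⊔ K with hH
  have hHcard : Nat.card H = 24 := by
    have hK6 : Nat.card K = 6 := le_antisymm hKcard (hKimg.trans
      (Nat.le_of_dvd Nat.card_pos (Subgroup.card_map_dvd K φ)))
    have h1 : P.relIndex (P ⊔ K) = Nat.card K := by
      rw [Subgroup.relIndex_sup_left K P, ← Subgroup.inf_relIndex_right, hPK, Subgroup.relIndex_bot_left]
    have h2 := (P.subgroupOf H).card_mul_index
    rw [Nat.card_congr (Subgroup.subgroupOfEquivOfLe (le_sup_left : P ≤ H)).toEquiv,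
      show (P.subgroupOf H).index = Nat.card K from h1, show Nat.card P = 4 from hN4, hK6] at h2
    exact h2.symm
  have hHidx : (K.subgroupOf H).index = 4 := by
    have h2 := (K.subgroupOf H).card_mul_index
    rw [Nat.card_congr (Subgroup.subgroupOfEquivOfLe (le_sup_right : K ≤ H)).toEquiv, hHcard] at h2
    have hK6 : Nat.card K = 6 := le_antisymm hKcard (hKimg.trans
      (Nat.le_of_dvd Nat.card_pos (Subgroup.card_map_dvd K φ)))
    rw [hK6] at h2
    omega
  set π := MulAction.toPermHom H (H ⧸ K.subgroupOf H) with hπ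
  have hπker : π.ker = ⊥ := by
    rw [hπ, ← Subgroup.normalCore_eq_ker, Subgroup.eq_bot_iff_forall]
    intro a ha
    have haK : (a : G) ∈ K := Subgroup.mem_subgroupOf.1 ((K.subgroupOf H).normalCore_le ha)
    have haC : (a : G) ∈ C := by
      refine Subgroup.mem_centralizer_iff.2 fun u hu => ?_
      set uH : H := ⟨u, Subgroup.mem_sup_left hu⟩
      have hc : ((uH * a * uH⁻¹ : H) : G) ∈ K :=
        Subgroup.mem_subgroupOf.1 ((K.subgroupOf H).normalCore_le ((Subgroup.normalCore_normal _).conj_mem a ha uH))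
      simp only [Subgroup.coe_mul, Subgroup.coe_inv] at hc
      have h1 : u * (a : G) * u⁻¹ * (a : G)⁻¹ ∈ P ⊓ K := by
        refine Subgroup.mem_inf.2 ⟨?_, mul_mem hc (inv_mem haK)⟩
        rw [show u * (a : G) * u⁻¹ * (a : G)⁻¹ = u * ((a : G) * u⁻¹ * (a : G)⁻¹) by group]
        exact mul_mem hu (hPn.conj_mem _ (inv_mem hu) _)
      rw [hPK, Subgroup.mem_bot, mul_inv_eq_one, mul_inv_eq_iff_eq_mul] at h1
      exact h1
    exact Subtype.ext (Subgroup.mem_bot.1 (hKC ▸ Subgroup.mem_inf.2 ⟨haK, haC⟩))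
  refine ⟨H, ⟨?_⟩, ?_, ?_⟩
  · have hbij : Function.Bijective π := by
      rw [Nat.bijective_iff_injective_and_card, ← MonoidHom.ker_eq_bot_iff]
      refine ⟨hπker, ?_⟩
      rw [hHcard, Nat.card_perm, ← Subgroup.index_eq_card, hHidx]
      rfl
    haveI : Fintype (H ⧸ K.subgroupOf H) := Fintype.ofFinite _
    exact (MulEquiv.ofBijective π hbij).trans (Fintype.equivFinOfCardEq
      (by rw [← Nat.card_eq_fintype_card, ← Subgroup.index_eq_card, hHidx])).permCongrHom
  · rw [Subgroup.eq_bot_iff_forall]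
    rintro g ⟨hgH, hgZ⟩
    obtain ⟨u, hu, k, hk, rfl⟩ := Subgroup.mem_sup_of_normal_left.1 hgH
    have hkC : k ∈ C := by
      have := C.mul_mem (C.inv_mem (hPC hu)) (hCPZ ▸ Subgroup.mem_sup_right hgZ : u * k ∈ C)
      rwa [inv_mul_cancel_left] at this
    have hk1 : k = 1 := Subgroup.mem_bot.1 (hKC ▸ Subgroup.mem_inf.2 ⟨hk, hkC⟩)
    subst hk1
    rw [mul_one] at hgZ ⊢
    exact Subgroup.mem_bot.1 (hPZ ▸ Subgroup.mem_inf.2 ⟨hu, hgZ⟩)
  · rw [eq_top_iff, ← hKsup, hCPZ]
    exact sup_le (sup_le (le_sup_left.trans le_sup_left) le_sup_right) (le_sup_right.trans le_sup_left)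

end Cfsg.Agent.S4751
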