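import Cfsg.Statements.S4754
import Cfsg.Agent.Lib.DegreeTools.LinearChars
import Cfsg.Agent.Lib.Char.ClassSum
-- import your own Cfsg.Agent.* helpers here

set_option autoImplicit false
open Cfsg

namespace Cfsg.Agent.S4754

open CfsgLib.Char CfsgLib.DegreeTools

/-- For elements x, y of a finite group G, the conjugacy class of x y equals the set of all products of a conjugate of x with a conjugate of y if and only if χ(1) χ(a x a⁻¹ b y b⁻¹) = χ(x) χ(y) for all a, b ∈ G and every irreducible character χ. -/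
theorem result {G : Type*} [Group G] [Finite G] (x y : G) : (∀ z : G, IsConj (x * y) z ↔ ∃ a b : G, z = a * x * a⁻¹ * (b * y * b⁻¹)) ↔ ∀ (a b : G) (χ : Cfsg.IrrCharacter G), (χ : G → ℂ) 1 * (χ : G → ℂ) (a * x * a⁻¹ * (b * y * b⁻¹)) = (χ : G → ℂ) x * (χ : G → ℂ) y := by
  classical
  cases nonempty_fintype G
  constructor
  · intro h a b χ
    have hc : ∀ a b : G, (χ : G → ℂ) (a * x * a⁻¹ * (b * y * b⁻¹)) = (χ : G → ℂ) (x * y) :=
      fun a b => (IsClassFunction.apply_eq_of_isConj (IsIrrCharacter.isClassFunction χ.2)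
        ((h _).mpr ⟨a, b, rfl⟩)).symm
    have hs := IsIrrCharacter.sum_mul_conjugate χ.2 x y
    rw [Finset.sum_congr rfl (fun k _ => by
      rw [← show (1 : G) * x * 1⁻¹ = x from by simp, hc 1 k]), Finset.sum_const,
      Finset.card_univ, nsmul_eq_mul, ← Nat.card_eq_fintype_card] at hs
    have h0 := IsIrrCharacter.apply_one_ne_zero χ.2
    have hn : (Nat.card G : ℂ) ≠ 0 := Nat.cast_ne_zero.mpr Nat.card_pos.ne'
    field_simp at hs
    rw [hc a b, ← hs]
    ring
  · intro h z
    constructor
    · intro hz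
      obtain ⟨c, rfl⟩ := isConj_iff.mp hz
      exact ⟨c, c, by simp [mul_assoc]⟩
    · rintro ⟨a, b, rfl⟩
      rw [isConj_iff_forall_irr]
      intro χ
      have h1 := h 1 1 χ
      have h2 := h a b χ
      simp only [one_mul, inv_one, mul_one] at h1
      exact mul_left_cancel₀ (IsIrrCharacter.apply_one_ne_zero χ.2) (h1.trans h2.symm)

end Cfsg.Agent.S4754
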