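import Cfsg.Statements.S4755
import Cfsg.Agent.S4754
import Cfsg.Agent.Lib.Char.Integral
-- import your own Cfsg.Agent.* helpers here

set_option autoImplicit false
open Cfsg

namespace Cfsg.Agent.S4755

open CfsgLib.Char CfsgLib.DegreeTools

/-- Let x, y be non-identity elements of the finite group G such that χ(x' y') = χ(x') χ(y') for all conjugates x' of x, y' of y and every irreducible character χ. Then the conjugacy class of x y is the set of all products of a conjugate of x with a conjugate of y; every irreducible character of degree greater than 1 vanishes at x y; and the conjugacy class of x y is the coset of the commutator subgroup containing x y. -/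
theorem result {G : Type*} [Group G] [Finite G] (x y : G) (hx : x ≠ 1) (hy : y ≠ 1) (h : ∀ (a b : G) (χ : Cfsg.IrrCharacter G), (χ : G → ℂ) (a * x * a⁻¹ * (b * y * b⁻¹)) = (χ : G → ℂ) (a * x * a⁻¹) * (χ : G → ℂ) (b * y * b⁻¹)) : (∀ z : G, IsConj (x * y) z ↔ ∃ a b : G, z = a * x * a⁻¹ * (b * y * b⁻¹)) ∧ (∀ χ : Cfsg.IrrCharacter G, (χ : G → ℂ) 1 ≠ 1 → (χ : G → ℂ) (x * y) = 0) ∧ (∀ z : G, IsConj (x * y) z ↔ (x * y)⁻¹ * z ∈ commutator G) := by
  classical
  cases nonempty_fintype G
  have hconj : ∀ (χ : Cfsg.IrrCharacter G) (a z : G),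
      (χ : G → ℂ) (a * z * a⁻¹) = (χ : G → ℂ) z :=
    fun χ a z => IsClassFunction.apply_eq_of_isConj (IsIrrCharacter.isClassFunction χ.2)
      (isConj_iff.mpr ⟨a⁻¹, by simp [mul_assoc]⟩)
  have hprod : ∀ (a b : G) (χ : Cfsg.IrrCharacter G),
      (χ : G → ℂ) (a * x * a⁻¹ * (b * y * b⁻¹)) = (χ : G → ℂ) x * (χ : G → ℂ) y :=
    fun a b χ => by rw [h, hconj, hconj]
  have hvan : ∀ χ : Cfsg.IrrCharacter G, (χ : G → ℂ) 1 ≠ 1 →
      (χ : G → ℂ) x * (χ : G → ℂ) y = 0 := by
    intro χ hχ
    have hs := IsIrrCharacter.sum_mul_conjugate χ.2 x y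
    rw [Finset.sum_congr rfl (fun k _ => by
      rw [← show (1 : G) * x * 1⁻¹ = x from by simp, hprod 1 k χ]), Finset.sum_const,
      Finset.card_univ, nsmul_eq_mul, ← Nat.card_eq_fintype_card] at hs
    have h0 := IsIrrCharacter.apply_one_ne_zero χ.2
    have hn : (Nat.card G : ℂ) ≠ 0 := Nat.cast_ne_zero.mpr Nat.card_pos.ne'
    field_simp at hs
    by_contra hne
    exact hχ (mul_left_cancel₀ hne (by linear_combination hs))
  have hxy : ∀ χ : Cfsg.IrrCharacter G, (χ : G → ℂ) 1 ≠ 1 → (χ : G → ℂ) (x * y) = 0 := by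
    intro χ hχ
    have := hprod 1 1 χ
    simp only [one_mul, inv_one, mul_one] at this
    rw [this, hvan χ hχ]
  refine ⟨(Cfsg.Agent.S4754.result x y).mpr fun a b χ => ?_, hxy, fun z => ?_⟩
  · by_cases hχ : (χ : G → ℂ) 1 = 1
    · rw [hχ, one_mul, hprod]
    · rw [hprod, hvan χ hχ, mul_zero]
  · let A : Set G := {z : G | IsConj (x * y) z}
    let B : Set G := {z : G | (x * y)⁻¹ * z ∈ commutator G}
    have hAB : A ⊆ B := by
      intro z hz
      obtain ⟨c, rfl⟩ := isConj_iff.mp hz
      show (x * y)⁻¹ * (c * (x * y) * c⁻¹) ∈ commutator G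
      have := Subgroup.commutator_mem_commutator (Subgroup.mem_top (x * y)⁻¹) (Subgroup.mem_top c)
      simpa [commutatorElement_def, commutator_def, mul_assoc] using this
    have hA : A.ncard = (Subgroup.centralizer ({x * y} : Set G)).index := by
      rw [← card_isConj_eq_index, ← Nat.card_coe_set_eq]
      exact Nat.card_congr (Equiv.subtypeEquivRight fun z => isConj_comm)
    have hB : B.ncard = Nat.card (commutator G) := by
      rw [← Nat.card_coe_set_eq]
      exact Nat.card_congr ((Equiv.mulLeft (x * y)⁻¹).subtypeEquiv fun z => Iff.rfl)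
    have heq : A = B := by
      refine Set.eq_of_subset_of_ncard_le hAB ?_ (Set.toFinite _)
      rw [hA, hB]
      have h1 := Subgroup.index_mul_card (Subgroup.centralizer ({x * y} : Set G))
      rw [card_centralizer_of_vanish _ hxy, ← Subgroup.card_mul_index (commutator G)] at h1
      exact (Nat.eq_of_mul_eq_mul_right
        (Nat.pos_of_ne_zero Subgroup.index_ne_zero_of_finite) h1).ge
    exact Set.ext_iff.mp heq z

end Cfsg.Agent.S4755
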