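import Cfsg.Statements.S4757
import Cfsg.Agent.Lib.DegreeTools.LinearChars
import Cfsg.Agent.Lib.Solvable.Cores
-- import your own Cfsg.Agent.* helpers here

set_option autoImplicit false
open Cfsg

namespace Cfsg.Agent.S4757

open CfsgLib.Char CfsgLib.DegreeTools


/-- Let u ≠ 1 be an element of the finite group G and c a complex number such that every non-principal irreducible character χ satisfies χ(1) − χ(u) = c or χ(u) = 0. Then the following are equivalent: (a) u has order 2, G is generated by u together with O(G), the largest normal subgroup of G of odd order, and the centralizer of u is {1, u}; (b) G is not perfect; (c) c = 2. -/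
theorem result {G : Type*} [Group G] [Finite G] (u : G) (hu : u ≠ 1) (c : ℂ) (hyp : ∀ χ : Cfsg.IrrCharacter G, (χ : G → ℂ) ≠ (fun _ => (1 : ℂ)) → ((χ : G → ℂ) 1 - (χ : G → ℂ) u = c ∨ (χ : G → ℂ) u = 0)) : ((orderOf u = 2 ∧ Subgroup.zpowers u ⊔ Cfsg.oddCore G = ⊤ ∧ Subgroup.centralizer ({u} : Set G) = Subgroup.zpowers u) ↔ commutator G ≠ ⊤) ∧ (commutator G ≠ ⊤ ↔ c = 2) := by
  classical
  cases nonempty_fintype G
  have hyp' : ∀ χ : Cfsg.IrrCharacter G, χ ≠ oneChar G →
      ((χ : G → ℂ) 1 - (χ : G → ℂ) u = c ∨ (χ : G → ℂ) u = 0) :=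
    fun χ hχ => hyp χ ((ne_oneChar_iff χ).mp hχ)
  have hsum := sum_deg_mul u hu
  rw [← Finset.add_sum_erase _ _ (Finset.mem_univ (oneChar G)), deg_oneChar, Nat.cast_one,
    one_mul, coe_oneChar] at hsum
  have hlin : ∀ χ : Cfsg.IrrCharacter G, χ ≠ oneChar G → (χ : G → ℂ) 1 = 1 →
      (χ : G → ℂ) u = 1 - c := by
    intro χ hχ h1
    rcases hyp' χ hχ with h | h
    · rw [h1] at h; linear_combination -h
    · have := norm_apply_linear χ h1 u
      rw [h, norm_zero] at this
      exact absurd this zero_ne_one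
  -- (b) → (c)
  have hbc : commutator G ≠ ⊤ → c = 2 := by
    intro hb
    obtain ⟨μ, hμ, hμ1⟩ := exists_linear_ne_one_iff.mpr hb
    have hv := hlin μ hμ hμ1
    by_cases hc0 : c = 0
    · exfalso
      have hre := congrArg Complex.re hsum
      rw [Complex.add_re, Complex.re_sum, Complex.one_re, Complex.zero_re] at hre
      have h2 : 0 ≤ ∑ χ ∈ Finset.univ.erase (oneChar G),
          ((Cfsg.charDegree (χ : G → ℂ) : ℂ) * (χ : G → ℂ) u).re := by
        refine Finset.sum_nonneg fun χ hχ => ?_
        rcases hyp' χ (Finset.ne_of_mem_erase hχ) with h | h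
        · rw [hc0, sub_eq_zero] at h
          rw [← h, ← deg_cast]
          norm_cast
          positivity
        · simp [h]
      linarith
    · obtain ⟨θ, hθ1, hθ⟩ := exists_linear_mul μ μ hμ1 hμ1
      have hθu : (θ : G → ℂ) u = (1 - c) * (1 - c) := by rw [hθ, hv]
      by_cases hθe : θ = oneChar G
      · rw [hθe, coe_oneChar] at hθu
        have : c * (c - 2) = 0 := by linear_combination -hθu
        exact sub_eq_zero.mp ((mul_eq_zero.mp this).resolve_left hc0)
      · rw [hlin θ hθe hθ1] at hθu
        have h3 : (1 - c) * c = 0 := by linear_combination hθu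
        rcases mul_eq_zero.mp h3 with h | h
        · have := norm_apply_linear μ hμ1 u
          rw [hv, h, norm_zero] at this
          exact absurd this zero_ne_one
        · exact absurd h hc0
  -- (c) → (b)
  have hcb : c = 2 → commutator G ≠ ⊤ := by
    intro hc
    refine exists_linear_ne_one_iff.mp ?_
    by_contra hcon
    push Not at hcon
    have hre := congrArg Complex.re hsum
    rw [Complex.add_re, Complex.re_sum, Complex.one_re, Complex.zero_re] at hre
    have h2 : 0 ≤ ∑ χ ∈ Finset.univ.erase (oneChar G),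
        ((Cfsg.charDegree (χ : G → ℂ) : ℂ) * (χ : G → ℂ) u).re := by
      refine Finset.sum_nonneg fun χ hχ => ?_
      have hne := Finset.ne_of_mem_erase hχ
      rcases hyp' χ hne with h | h
      · have h1 : 2 ≤ Cfsg.charDegree (χ : G → ℂ) := by
          have hp := deg_pos χ
          have : Cfsg.charDegree (χ : G → ℂ) ≠ 1 := fun e => hcon χ hne ((deg_eq_one_iff χ).mp e)
          omega
        have hu' : (χ : G → ℂ) u = ((Cfsg.charDegree (χ : G → ℂ) - 2 : ℕ) : ℂ) := by
          rw [Nat.cast_sub h1, deg_cast, Nat.cast_ofNat]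
          linear_combination -h - hc
        rw [hu']
        norm_cast
        positivity
      · simp [h]
    linarith
  -- (c) → (a)
  have hca : c = 2 → (orderOf u = 2 ∧ Subgroup.zpowers u ⊔ Cfsg.oddCore G = ⊤ ∧
      Subgroup.centralizer ({u} : Set G) = Subgroup.zpowers u) := by
    intro hc
    obtain ⟨μ, hμ, hμ1⟩ := exists_linear_ne_one_iff.mpr (hcb hc)
    have huniq : ∀ ν : Cfsg.IrrCharacter G, ν ≠ oneChar G → (ν : G → ℂ) 1 = 1 → ν = μ := by
      intro ν hν hν1
      obtain ⟨θ, hθ1, hθ⟩ := exists_linear_mul μ ν hμ1 hν1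
      have hθu : (θ : G → ℂ) u = 1 := by rw [hθ, hlin μ hμ hμ1, hlin ν hν hν1, hc]; norm_num
      have hθe : θ = oneChar G := by
        by_contra hne
        rw [hlin θ hne hθ1, hc] at hθu
        norm_num at hθu
      obtain ⟨θ', hθ'1, hθ'⟩ := exists_linear_mul μ μ hμ1 hμ1
      have hθ'e : θ' = oneChar G := by
        by_contra hne
        have h := hθ' u
        rw [hlin θ' hne hθ'1, hlin μ hμ hμ1, hc] at h
        norm_num at h
      apply Subtype.ext
      funext g
      have h1 := hθ g
      have h2 := hθ' g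
      rw [hθe, coe_oneChar] at h1
      rw [hθ'e, coe_oneChar] at h2
      have h3 : (μ : G → ℂ) g ≠ 0 := fun e => by rw [e, zero_mul] at h1; exact one_ne_zero h1
      exact mul_left_cancel₀ h3 (h1.symm.trans h2)
    have hvan : ∀ χ : Cfsg.IrrCharacter G, (χ : G → ℂ) 1 ≠ 1 → (χ : G → ℂ) u = 0 := by
      have hre := congrArg Complex.re hsum
      rw [Complex.add_re, Complex.re_sum, Complex.one_re, Complex.zero_re,
        ← Finset.add_sum_erase _ _ (Finset.mem_erase.mpr ⟨hμ, Finset.mem_univ μ⟩),
        hlin μ hμ hμ1, (deg_eq_one_iff μ).mpr hμ1, hc] at hre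
      have hnn : ∀ χ ∈ (Finset.univ.erase (oneChar G)).erase μ,
          ∃ k : ℕ, ((Cfsg.charDegree (χ : G → ℂ) : ℂ) * (χ : G → ℂ) u).re = k ∧
            (k = 0 → (χ : G → ℂ) u = 0) := by
        intro χ hχ
        rw [Finset.mem_erase, Finset.mem_erase] at hχ
        have h1 : 2 ≤ Cfsg.charDegree (χ : G → ℂ) := by
          have hp := deg_pos χ
          have : Cfsg.charDegree (χ : G → ℂ) ≠ 1 :=
            fun e => hχ.1 (huniq χ hχ.2.1 ((deg_eq_one_iff χ).mp e))
          omega
        rcases hyp' χ hχ.2.1 with h | h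
        · have hu' : (χ : G → ℂ) u = ((Cfsg.charDegree (χ : G → ℂ) - 2 : ℕ) : ℂ) := by
            rw [Nat.cast_sub h1, deg_cast, Nat.cast_ofNat]
            linear_combination -h - hc
          refine ⟨Cfsg.charDegree (χ : G → ℂ) * (Cfsg.charDegree (χ : G → ℂ) - 2), ?_, fun hk => ?_⟩
          · rw [hu', ← Nat.cast_mul, Complex.natCast_re]
          · rw [hu', (Nat.mul_eq_zero.mp hk).resolve_left (by omega), Nat.cast_zero]
        · exact ⟨0, by simp [h], fun _ => h⟩
      have h0 : ∑ χ ∈ (Finset.univ.erase (oneChar G)).erase μ,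
          ((Cfsg.charDegree (χ : G → ℂ) : ℂ) * (χ : G → ℂ) u).re = 0 := by
        have e : (((1 : ℕ) : ℂ) * (1 - 2)).re = -1 := by norm_num
        rw [e] at hre
        linarith
      intro χ hχ1
      have hmem : χ ∈ (Finset.univ.erase (oneChar G)).erase μ := by
        simp only [Finset.mem_erase, Finset.mem_univ, and_true]
        exact ⟨fun e => hχ1 (e ▸ hμ1), fun e => hχ1 (e ▸ rfl)⟩
      obtain ⟨k, hk, hk0⟩ := hnn χ hmem
      have hz := (Finset.sum_eq_zero_iff_of_nonneg (fun ψ hψ => by
        obtain ⟨l, hl, -⟩ := hnn ψ hψ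
        rw [hl]; positivity)).mp h0 χ hmem
      rw [hk] at hz
      exact hk0 (by exact_mod_cast hz)
    have hidx : (commutator G).index = 2 := by
      rw [← card_linear]
      refine (Nat.card_congr (Equiv.subtypeEquivRight fun χ => ?_)).trans
        (show Nat.card {χ : Cfsg.IrrCharacter G // χ = oneChar G ∨ χ = μ} = 2 from ?_)
      · exact ⟨fun h1 => (em (χ = oneChar G)).imp id fun hne => huniq χ hne h1,
          fun h => h.elim (fun e => e ▸ rfl) (fun e => e ▸ hμ1)⟩
      · rw [Nat.card_eq_fintype_card, Fintype.card_subtype, Finset.filter_or,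
          Finset.filter_eq', Finset.filter_eq', if_pos (Finset.mem_univ _),
          if_pos (Finset.mem_univ _), ← Finset.insert_eq, Finset.card_pair (Ne.symm hμ)]
    have hC2 : Nat.card (Subgroup.centralizer ({u} : Set G)) = 2 :=
      (card_centralizer_of_vanish u hvan).trans hidx
    have hle : Subgroup.zpowers u ≤ Subgroup.centralizer ({u} : Set G) := by
      rw [Subgroup.zpowers_le, Subgroup.mem_centralizer_singleton_iff]
    have hord : orderOf u = 2 := by
      have h1 := Subgroup.card_dvd_of_le hle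
      rw [hC2, Nat.card_zpowers] at h1
      exact (Nat.prime_two.eq_one_or_self_of_dvd _ h1).resolve_left
        fun e => hu (orderOf_eq_one_iff.mp e)
    have hCeq : Subgroup.centralizer ({u} : Set G) = Subgroup.zpowers u :=
      (Subgroup.eq_of_le_of_card_ge hle (by rw [hC2, Nat.card_zpowers, hord])).symm
    have huG : u ∉ commutator G := fun h => by
      have := linear_apply_commutator μ hμ1 h
      rw [hlin μ hμ hμ1, hc] at this
      norm_num at this
    have hodd : (Nat.card (commutator G)).Coprime 2 := by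
      rw [Nat.coprime_two_right, ← Nat.not_even_iff_odd, even_iff_two_dvd]
      intro hdvd
      haveI : Fact (Nat.Prime 2) := ⟨Nat.prime_two⟩
      let A : G ≃ G := (MulAut.conj u).toEquiv
      have huu : u * u = 1 := by rw [← sq, ← hord, pow_orderOf_eq_one]
      let f : Equiv.Perm (commutator G) :=
        (MulAut.conjNormal u : MulAut (commutator G)).toEquiv
      have hf2 : f ^ 2 ^ 1 = 1 := by
        ext z
        simp only [pow_one, sq, Equiv.Perm.mul_apply, Equiv.Perm.one_apply, f,
          MulEquiv.toEquiv_eq_coe, EquivLike.coe_coe, MulAut.conjNormal_apply]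
        rw [show u * (u * (z : G) * u⁻¹) * u⁻¹ = (u * u) * z * (u * u)⁻¹ by group, huu]
        simp
      have hfix : f 1 = 1 := map_one (MulAut.conjNormal u : MulAut (commutator G))
      obtain ⟨z, hz, hz1⟩ := Equiv.Perm.exists_fixed_point_of_prime'
        (by rwa [← Nat.card_eq_fintype_card]) hf2 hfix
      have hzC : (z : G) ∈ Subgroup.centralizer ({u} : Set G) := by
        rw [Subgroup.mem_centralizer_singleton_iff]
        have h := congrArg Subtype.val hz
        simp only [f, MulEquiv.toEquiv_eq_coe, EquivLike.coe_coe, MulAut.conjNormal_apply] at h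
        exact (mul_inv_eq_iff_eq_mul.mp h).symm
      rw [hCeq, Subgroup.mem_zpowers_iff] at hzC
      obtain ⟨i, hi⟩ := hzC
      rcases Int.even_or_odd' i with ⟨j, rfl | rfl⟩
      · rw [zpow_mul, show u ^ (2 : ℤ) = 1 by rw [zpow_two, huu], one_zpow] at hi
        exact hz1 (Subtype.ext hi.symm)
      · rw [zpow_add, zpow_mul, show u ^ (2 : ℤ) = 1 by rw [zpow_two, huu], one_zpow, one_mul,
          zpow_one] at hi
        exact huG (hi ▸ z.2)
    refine ⟨hord, ?_, hCeq⟩
    have hle2 : commutator G ≤ Cfsg.oddCore G := CfsgLib.Solvable.Cores.le_pPrimeCore hodd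
    have h1 := Subgroup.index_dvd_of_le
      (show commutator G ≤ Subgroup.zpowers u ⊔ Cfsg.oddCore G from hle2.trans le_sup_right)
    rw [hidx] at h1
    rcases Nat.prime_two.eq_one_or_self_of_dvd _ h1 with h2 | h2
    · exact Subgroup.index_eq_one.mp h2
    · exfalso
      have hle3 : commutator G ≤ Subgroup.zpowers u ⊔ Cfsg.oddCore G := hle2.trans le_sup_right
      have h3 := Subgroup.eq_of_le_of_card_ge hle3 (le_of_eq ?_)
      · exact huG (h3 ▸ Subgroup.mem_sup_left (Subgroup.mem_zpowers u))
      · have e1 := Subgroup.index_mul_card (Subgroup.zpowers u ⊔ Cfsg.oddCore G)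
        have e2 := Subgroup.index_mul_card (commutator G)
        rw [h2] at e1
        rw [hidx] at e2
        omega
  -- (a) → (b)
  have hab : (orderOf u = 2 ∧ Subgroup.zpowers u ⊔ Cfsg.oddCore G = ⊤ ∧
      Subgroup.centralizer ({u} : Set G) = Subgroup.zpowers u) → commutator G ≠ ⊤ := by
    rintro ⟨h2, hsup, -⟩ htop
    have hcop := CfsgLib.Solvable.Cores.coprime_card_pPrimeCore (G := G) 2
    haveI : (Cfsg.oddCore G).Normal := CfsgLib.Solvable.Cores.pPrimeCore_normal 2
    have hcomm : commutator G ≤ Cfsg.oddCore G :=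
      Subgroup.Normal.commutator_le_of_self_sup_commutative_eq_top
        (H := Subgroup.zpowers u) (by rwa [sup_comm]) inferInstance
    rw [htop] at hcomm
    have hd : 2 ∣ Nat.card G := h2 ▸ orderOf_dvd_natCard u
    rw [show Cfsg.pPrimeCore 2 G = ⊤ from top_le_iff.mp hcomm, Subgroup.card_top,
      Nat.coprime_two_right,
      ← Nat.not_even_iff_odd, even_iff_two_dvd] at hcop
    exact hcop hd
  exact ⟨⟨hab, fun hb => hca (hbc hb)⟩, hbc, hcb⟩

end Cfsg.Agent.S4757
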