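import Cfsg.Statements.S4758
import Cfsg.Agent.Lib.DegreeTools.FeitFour.Nonreal
import Cfsg.Agent.Lib.DegreeTools.FeitFour.Icosa
import Cfsg.Agent.Lib.Involution.ZStar.Basic
import Cfsg.Agent.Lib.Involution.BrauerFowler
import Cfsg.Agent.Lib.LocalEvenB.StrongFusion
import Cfsg.Agent.Lib.Solvable.FPFOperators.Height
import Cfsg.Agent.Lib.Recognition.Zassenhaus.SL25
import Cfsg.Agent.S0253

set_option autoImplicit false
set_option linter.style.haveILetI false
open Cfsg

namespace Cfsg.Agent.S4758

open CfsgLib CfsgLib.Char CfsgLib.DegreeTools CfsgLib.DegreeTools.FeitFour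
open scoped Classical ComplexConjugate

/-- In the centralizer of an element with centralizer of order four there is no non-trivial
element of odd order. -/
theorem eq_one_of_commute {G : Type*} [Group G] [Finite G] {N : Subgroup G}
    (hN : Odd (Nat.card N)) {g x : G} (hg : Nat.card (Subgroup.centralizer ({g} : Set G)) = 4)
    (hx : x ∈ N) (h : Commute x g) : x = 1 := by
  have h4 : orderOf x ∣ 4 :=
    hg ▸ Subgroup.orderOf_dvd_natCard _ (Subgroup.mem_centralizer_singleton_iff.mpr h)
  have hc : (Nat.card N).Coprime (2 ^ 2) := Nat.Coprime.pow_right 2 (Nat.coprime_two_right.mpr hN)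
  exact orderOf_eq_one_iff.mp (Nat.dvd_one.mp (hc ▸ Nat.dvd_gcd (Subgroup.orderOf_dvd_natCard _ hx) h4))

/-- Five distinct elements do not fit into four. -/
theorem false_of_five {G : Type*} [Group G] [Finite G] (C : Subgroup G) (hC : Nat.card C = 4)
    (L : Fin 5 → G) (hL : Function.Injective L) (hmem : ∀ i, L i ∈ C) : False := by
  have h := Nat.card_le_card_of_injective (fun i => (⟨L i, hmem i⟩ : C)) fun a b e =>
    hL (congrArg Subtype.val e)
  rw [hC, Nat.card_fin] at h
  omega

set_option maxHeartbeats 1600000 in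
theorem main {G : Type*} [Group G] [Fintype G] (u : G) (h : Hyp u) :
    IsMulCommutative ↥(Cfsg.oddCore G) ∧
      ((Nonempty (G ⧸ Cfsg.oddCore G ≃* Matrix.ProjectiveSpecialLinearGroup (Fin 2) (ZMod 5)) ∧
          orderOf u = 2) ∨
        (Nonempty (G ⧸ Cfsg.oddCore G ≃* Matrix.SpecialLinearGroup (Fin 2) (ZMod 5)) ∧
          orderOf u = 4)) := by
  obtain ⟨χ, hχ⟩ := three_nonempty h
  obtain ⟨h3, hv⟩ := mem_three.mp hχ
  set K : Subgroup G := charKer (isCharacter_irr χ)
  haveI hKn : K.Normal := charKer_normal (isCharacter_irr χ)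
  have huK : u ∉ K := fun hu => by
    rw [mem_charKer, hv, h3] at hu
    norm_num at hu
  obtain ⟨ψ₀, hψ, hψχ⟩ := IsIrrCharacter.exists_deflate χ.2 K
    (fun k hk => (mem_charKer (isCharacter_irr χ)).mp hk)
  haveI : Fintype (G ⧸ K) := Fintype.ofFinite _
  set π := QuotientGroup.mk' K with hπ
  set ψ : Cfsg.IrrCharacter (G ⧸ K) := ⟨ψ₀, hψ⟩
  have hval : ∀ g, (χ : G → ℂ) g = (ψ : G ⧸ K → ℂ) (π g) := fun g => congrFun hψχ g
  have hψm : ψ ∈ three (π u) := mem_three.mpr
    ⟨by rw [← map_one π, ← hval]; exact h3, by rw [← hval]; exact hv⟩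
  have hfaith : ∀ x : G ⧸ K, (ψ : G ⧸ K → ℂ) x = (ψ : G ⧸ K → ℂ) 1 → x = 1 := by
    intro x hx
    obtain ⟨g, rfl⟩ := QuotientGroup.mk'_surjective K x
    rw [← map_one π, ← hval, ← hval] at hx
    exact (QuotientGroup.eq_one_iff g).mpr ((mem_charKer (isCharacter_irr χ)).mpr hx)
  have hH : Hyp (π u) := h.quotient K huK
  have hψr : RealValued ψ := real_of_faithful hH hψm hfaith
  have D : RE (π u) ψ := ⟨hH, hψm, hψr, hfaith⟩
  have hr : RealValued χ := fun g => by rw [hval]; exact hψr _
  -- the members of degree three factor through the quotient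
  have hfac : ∀ φ ∈ three u, ∀ k ∈ K, (φ : G → ℂ) k = (φ : G → ℂ) 1 := by
    intro φ hφ k hk
    have h1 := (pair h hχ hφ).2.1 hr k
    rw [(mem_charKer (isCharacter_irr χ)).mp hk, h3] at h1
    rw [(mem_three.mp hφ).1]
    have : ((φ : G → ℂ) k - 3) * ((φ : G → ℂ) k + 2) = 0 := by linear_combination h1
    refine sub_eq_zero.mp ((mul_eq_zero.mp this).resolve_right fun e => ?_)
    obtain ⟨a, ha, hak⟩ := exists_real_eigen h (mem_three.mp hφ).1 ((pair h hχ hφ).1.mp hr) k
    have hk1 := hak 1
    rw [pow_one, pow_one, eq_neg_of_add_eq_zero_left e] at hk1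
    have hn : ‖a‖ = 1 := Complex.norm_eq_one_of_pow_eq_one ha (orderOf_pos k).ne'
    have hsum : a + a⁻¹ = -3 := by linear_combination -hk1
    have := norm_add_le a a⁻¹
    rw [hsum, norm_inv, hn] at this
    norm_num at this
  have hb : (three u).card = 2 := by
    let lift : Cfsg.IrrCharacter (G ⧸ K) → Cfsg.IrrCharacter G := fun θ =>
      ⟨(θ : G ⧸ K → ℂ) ∘ π, IsIrrCharacter.comp_surjective θ.2 _ (QuotientGroup.mk'_surjective K)⟩
    have hlift : Function.Injective lift := fun a b e => Subtype.ext (funext fun x => by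
      obtain ⟨g, rfl⟩ := QuotientGroup.mk'_surjective K x
      exact congrFun (congrArg Subtype.val e) g)
    have himg : three u = (three (π u)).image lift := by
      ext φ
      constructor
      · intro hφ
        obtain ⟨θ, hθ, hθφ⟩ := IsIrrCharacter.exists_deflate φ.2 K (hfac φ hφ)
        refine Finset.mem_image.mpr ⟨⟨θ, hθ⟩, mem_three.mpr ⟨?_, ?_⟩, Subtype.ext hθφ.symm⟩
        · have := (mem_three.mp hφ).1
          rw [hθφ] at this
          simpa [hπ] using this
        · have := (mem_three.mp hφ).2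
          rw [hθφ] at this
          simpa [hπ] using this
      · intro hφ
        obtain ⟨θ, hθ, rfl⟩ := Finset.mem_image.mp hφ
        refine mem_three.mpr ⟨?_, (mem_three.mp hθ).2⟩
        show (θ : G ⧸ K → ℂ) (π 1) = 3
        rw [map_one]
        exact (mem_three.mp hθ).1
    rw [himg, Finset.card_image_of_injective _ hlift, D.card_three]
  obtain ⟨hCu, hcol⟩ := rigid h hχ hr hb
  -- classes outside the kernel
  have hsame : ∀ g, π g = π u → IsConj g u := by
    intro g hg
    by_contra hc
    have h1 := hcol g hc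
    have hvals : ∀ φ ∈ three u, (φ : G → ℂ) g = -1 := fun φ hφ => by
      obtain ⟨θ, hθ, hθφ⟩ := IsIrrCharacter.exists_deflate φ.2 K (hfac φ hφ)
      rw [hθφ, Function.comp_apply, ← hπ, hg]
      have := (mem_three.mp hφ).2
      rwa [hθφ] at this
    rw [Finset.sum_congr rfl hvals, Finset.sum_const, hb, hval g, hg, ← hval, hv] at h1
    norm_num at h1
  have hinv : ∀ g, orderOf (π g) = 2 → IsConj g u := by
    intro g hg
    obtain ⟨c, hc⟩ := isConj_iff.mp (D.isConj_u hg)
    obtain ⟨c, rfl⟩ := QuotientGroup.mk'_surjective K c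
    exact (isConj_iff.mpr ⟨c, rfl⟩).trans (hsame (c * g * c⁻¹) (by
      rw [map_mul, map_mul, map_inv]; exact hc))
  have hcentr : ∀ g, IsConj g u → Nat.card (Subgroup.centralizer ({g} : Set G)) = 4 := by
    intro g hg
    have e1 := Char.card_conjugates_mul g
    have e2 := Char.card_conjugates_mul u
    rw [hCu] at e2
    have e3 : Nat.card {x : G // IsConj x g} = Nat.card {x : G // IsConj x u} :=
      Nat.card_congr (Equiv.subtypeEquivRight fun x => ⟨fun e => e.trans hg, fun e => e.trans hg.symm⟩)
    rw [e3] at e1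
    haveI : Nonempty {x : G // IsConj x u} := ⟨⟨u, IsConj.refl u⟩⟩
    exact Nat.eq_of_mul_eq_mul_left Nat.card_pos (e1.trans e2.symm)
  have horder : ∀ g, IsConj g u → g ^ 4 = 1 := fun g hg => orderOf_dvd_iff_pow_eq_one.mp
    (hcentr g hg ▸ Subgroup.orderOf_dvd_natCard _ (Subgroup.mem_centralizer_singleton_iff.mpr rfl))
  have hsqK : u * u ∈ K := (QuotientGroup.eq_one_iff _).mp (by
    have := D.u_sq
    rwa [hπ, ← map_mul] at this)
  -- odd normal subgroups
  haveI := D.isSimple
  have hoddK : ∀ N : Subgroup G, N.Normal → Odd (Nat.card N) → N ≤ K := by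
    intro N hN hodd
    haveI := hN
    have hNn : (N.map π).Normal := hN.map π (QuotientGroup.mk'_surjective K)
    rcases hNn.eq_bot_or_eq_top with e | e
    · intro x hx
      have : π x ∈ N.map π := Subgroup.mem_map_of_mem π hx
      rw [e, Subgroup.mem_bot] at this
      exact (QuotientGroup.eq_one_iff x).mp this
    · exfalso
      have hd := Subgroup.card_map_dvd N π
      rw [e, Subgroup.card_top, D.card_eq] at hd
      exact Nat.not_even_iff_odd.mpr hodd (even_iff_two_dvd.mpr ((by norm_num : 2 ∣ 60).trans hd))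
  -- a Sylow subgroup through `u`
  haveI : Fact (Nat.Prime 2) := ⟨Nat.prime_two⟩
  have hu2 : IsPGroup 2 (Subgroup.zpowers u) := fun x => ⟨2, Subtype.ext (by
    obtain ⟨i, hi⟩ := Subgroup.mem_zpowers_iff.mp x.2
    show (x : G) ^ 2 ^ 2 = 1
    rw [← hi, ← zpow_natCast, ← zpow_mul, mul_comm, zpow_mul, zpow_natCast,
      show (2 : ℕ) ^ 2 = 4 by norm_num, horder u (IsConj.refl u), one_zpow])⟩
  obtain ⟨S, hS⟩ := hu2.exists_le_sylow
  have huS : u ∈ (S : Subgroup G) := hS (Subgroup.mem_zpowers u)
  have hSH : Nat.card (Sylow.mapSurjective (QuotientGroup.mk'_surjective K) S : Subgroup (G ⧸ K)) = 4 := by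
    rw [Sylow.card_eq_multiplicity, D.card_eq]
    have h60 : (60 : ℕ).factorization 2 = 2 := by
      rw [show (60 : ℕ) = 2 ^ 2 * 15 by norm_num, Nat.factorization_mul (by norm_num) (by norm_num),
        Nat.prime_two.factorization_pow, Finsupp.add_apply, Finsupp.single_eq_same,
        Nat.factorization_eq_zero_of_not_dvd (by norm_num : ¬ 2 ∣ 15)]
    rw [h60]
    norm_num
  rw [Sylow.coe_mapSurjective] at hSH
  obtain ⟨v, hvS, hv1, hvu⟩ : ∃ v ∈ (S : Subgroup G), π v ≠ 1 ∧ π v ≠ π u := by
    by_contra hno
    simp only [not_exists, not_and, not_not] at hno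
    have hle : ((S : Subgroup G).map π : Set (G ⧸ K)) ⊆ ({1, π u} : Set (G ⧸ K)) := by
      rintro _ ⟨y, hy, rfl⟩
      by_cases h1 : π y = 1
      · exact Or.inl h1
      · exact Or.inr (hno y hy h1)
    have h1 := Nat.card_mono (Set.toFinite _) hle
    rw [SetLike.coe_sort_coe, hSH, Nat.card_coe_set_eq] at h1
    have h2 : ({1, π u} : Set (G ⧸ K)).ncard ≤ 2 := (Set.ncard_insert_le _ _).trans (by simp)
    omega
  have hSout : ∀ g ∈ (S : Subgroup G), π g ≠ 1 → IsConj g u := by
    intro g hg hne
    refine hinv g ?_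
    have hd : orderOf (π g) ∣ 4 :=
      hSH ▸ Subgroup.orderOf_dvd_natCard _ (Subgroup.mem_map_of_mem π hg)
    rcases (Nat.dvd_prime_pow Nat.prime_two).mp (show orderOf (π g) ∣ 2 ^ 2 from hd) with
      ⟨i, hi, e⟩
    interval_cases i
    · rw [pow_zero, orderOf_eq_one_iff] at e; exact absurd e hne
    · simpa using e
    · exact absurd e (by norm_num; exact D.no_four _)
  set w := u * v with hwdef
  have hπu : π u ≠ 1 := fun e => huK ((QuotientGroup.eq_one_iff u).mp e)
  have hπu2 : π u * π u = 1 := D.u_sq
  have hwS : w ∈ (S : Subgroup G) := Subgroup.mul_mem _ huS hvS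
  have hw1 : π w ≠ 1 := fun e => hvu (by
    rw [hwdef, map_mul] at e
    rw [eq_inv_of_mul_eq_one_right e]
    exact inv_eq_of_mul_eq_one_right hπu2)
  have hKout : ∀ r ∈ K, ∀ g : G, π g ≠ 1 → π (g * r) ≠ 1 ∧ r ≠ g := fun r hr' g hg => by
    have hr1 : π r = 1 := (QuotientGroup.eq_one_iff r).mpr hr'
    exact ⟨by rw [map_mul, hr1, mul_one]; exact hg, fun e => hg (e ▸ hr1)⟩
  haveI hOn : (Cfsg.oddCore G).Normal := Involution.ZStar.oddCore_normal
  have hOodd : Odd (Nat.card (Cfsg.oddCore G)) := Involution.ZStar.odd_card_oddCore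
  have hOK : Cfsg.oddCore G ≤ K := hoddK _ hOn hOodd
  obtain ⟨eA⟩ := D.equiv_a5
  by_cases hu1 : u * u = 1
  · -- `u` is an involution and the kernel has odd order
    have hou : orderOf u = 2 := orderOf_eq_prime (by rw [sq]; exact hu1) h.1
    have hinvol : ∀ g ∈ (S : Subgroup G), π g ≠ 1 → g * g = 1 := fun g hg hne => by
      rw [← sq, ← hou, ← orderOf_eq_of_isConj (hSout g hg hne), pow_orderOf_eq_one]
    have hv2 := hinvol v hvS hv1
    have hw2 : u * v * (u * v) = 1 := hinvol w hwS hw1
    have huv : u * v = v * u := by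
      calc u * v = (u * v) * ((u * v) * (u * v))⁻¹ := by rw [hw2, inv_one, mul_one]
        _ = v⁻¹ * u⁻¹ := by group
        _ = v * u := by rw [inv_eq_of_mul_eq_one_right hv2, inv_eq_of_mul_eq_one_right hu1]
    have hR : ∀ r ∈ (S : Subgroup G), r ∈ K → r = 1 := by
      intro r hrS hrK
      by_contra hr1
      have hinvert : ∀ g ∈ (S : Subgroup G), π g ≠ 1 → g * r * g = r⁻¹ := fun g hg hne =>
        eq_inv_of_mul_eq_one_left (by
          have := hinvol (g * r) (Subgroup.mul_mem _ hg hrS) (hKout r hrK g hne).1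
          simpa [mul_assoc] using this)
      have hu_r := hinvert u huS hπu
      have hv_r := hinvert v hvS hv1
      have hw_r := hinvert w hwS hw1
      have hrr : r⁻¹ = r := by
        have hv_r' : v * r⁻¹ * v = r := by
          calc v * r⁻¹ * v = v * (v * r * v) * v := by rw [hv_r]
            _ = (v * v) * r * (v * v) := by group
            _ = r := by rw [hv2, one_mul, mul_one]
        calc r⁻¹ = u * v * r * (u * v) := hw_r.symm
          _ = (v * u) * r * (u * v) := by rw [huv]
          _ = v * (u * r * u) * v := by group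
          _ = r := by rw [hu_r, hv_r']
      have hcomm : r * u = u * r := by
        calc r * u = (u * u) * r * u := by rw [hu1, one_mul]
          _ = u * (u * r * u) := by group
          _ = u * r := by rw [hu_r, hrr]
      refine false_of_five _ hCu ![1, u, v, w, r] ?_ ?_
      · have hr' : π r = 1 := (QuotientGroup.eq_one_iff r).mpr hrK
        have huw : π u ≠ π w := fun e => hv1 (by
          rw [hwdef, map_mul] at e
          exact (mul_eq_left.mp e.symm))
        have hvw : π v ≠ π w := fun e => hπu (by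
          rw [hwdef, map_mul] at e
          exact (mul_eq_right.mp e.symm))
        have e1 : (1 : G) ≠ u := Ne.symm h.1
        have e2 : (1 : G) ≠ v := fun e => hv1 (by rw [← e, map_one])
        have e3 : (1 : G) ≠ w := fun e => hw1 (by rw [← e, map_one])
        have e4 : (1 : G) ≠ r := Ne.symm hr1
        have e5 : u ≠ v := fun e => hvu (by rw [e])
        have e6 : u ≠ w := fun e => huw (by rw [← e])
        have e7 : u ≠ r := fun e => hπu (by rw [e, hr'])
        have e8 : v ≠ w := fun e => hvw (by rw [← e])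
        have e9 : v ≠ r := fun e => hv1 (by rw [e, hr'])
        have e10 : w ≠ r := fun e => hw1 (by rw [e, hr'])
        intro i j e
        fin_cases i <;> fin_cases j <;>
          simp [e1, e2, e3, e4, e5, e6, e7, e8, e9, e10, e1.symm, e2.symm, e3.symm, e4.symm,
            e5.symm, e6.symm, e7.symm, e8.symm, e9.symm, e10.symm] at e ⊢
      · have c1 : Commute (1 : G) u := Commute.one_left u
        have c3 : Commute v u := huv.symm
        have c4 : Commute w u := (Commute.refl u).mul_left c3
        intro i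
        rw [Subgroup.mem_centralizer_singleton_iff]
        fin_cases i
        exacts [c1.eq, rfl, c3.eq, c4.eq, hcomm]
    have hKodd : Odd (Nat.card K) := by
      rw [← Nat.not_even_iff_odd, even_iff_two_dvd]
      intro hd
      obtain ⟨a, haK, haS, hao, -⟩ := LocalEvenB.StrongFusion.exists_central_order_p S K hd
      rw [hR a haS haK, orderOf_one] at hao
      norm_num at hao
    have hKO : Cfsg.oddCore G = K := le_antisymm hOK (Involution.ZStar.le_oddCore hKn hKodd)
    refine ⟨?_, Or.inl ⟨?_, hou⟩⟩
    · rw [hKO]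
      refine ⟨⟨fun x y => Solvable.FPFOperators.commute_of_fpf_involution
        (MulAut.conjNormal (H := K) u) ?_ ?_ x y⟩⟩
      · rw [← map_pow, sq, hu1, map_one]
      · intro x hx
        have hx' : u * (x : G) * u⁻¹ = x := by
          have := congrArg Subtype.val hx
          rwa [MulAut.conjNormal_apply] at this
        exact Subtype.ext (eq_one_of_commute hKodd hCu x.2 (mul_inv_eq_iff_eq_mul.mp hx').symm)
    · haveI : Fact (Nat.Prime 5) := ⟨Nat.prime_five⟩
      obtain ⟨eP⟩ := Cfsg.Agent.S0253.result (F := ZMod 5) (by simp)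
      exact ⟨((QuotientGroup.quotientMulEquivOfEq hKO).trans eA).trans eP.symm⟩
  · -- `u` has order four and the kernel has twice odd order
    have hu4 : u ^ 4 = 1 := horder u (IsConj.refl u)
    have hou : orderOf u = 4 := by
      have hd : orderOf u ∣ 2 ^ 2 := orderOf_dvd_of_pow_eq_one (by norm_num; exact hu4)
      obtain ⟨i, hi, e⟩ := (Nat.dvd_prime_pow Nat.prime_two).mp hd
      interval_cases i
      · exact absurd (orderOf_eq_one_iff.mp (by simpa using e)) h.1
      · exact absurd (by rw [← sq]; exact orderOf_dvd_iff_pow_eq_one.mp (by rw [e]; norm_num)) hu1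
      · simpa using e
    have h4g : ∀ g, IsConj g u → orderOf g = 4 := fun g hg => (orderOf_eq_of_isConj hg).trans hou
    have hcyc : ∀ g, IsConj g u → Subgroup.centralizer ({g} : Set G) = Subgroup.zpowers g :=
      fun g hg => (Subgroup.eq_of_le_of_card_ge
        (Subgroup.zpowers_le.mpr (Subgroup.mem_centralizer_singleton_iff.mpr rfl))
        (by rw [hcentr g hg, Nat.card_zpowers, h4g g hg])).symm
    have hinK : ∀ g, π g ≠ 1 → ∀ r, r ∈ Subgroup.zpowers g → r ∈ K → g ^ 4 = 1 →
        π g * π g = 1 → r = 1 ∨ r = g * g := by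
      intro g hg r hr hrK hg4 hg2
      obtain ⟨n, rfl⟩ := Subgroup.mem_zpowers_iff.mp hr
      have e : g ^ n = g ^ (n % 4) := by
        conv_lhs => rw [← Int.emod_add_mul_ediv n 4, zpow_add, zpow_mul,
          show g ^ (4 : ℤ) = 1 by exact_mod_cast hg4, one_zpow, mul_one]
      rw [e] at hrK ⊢
      have h0 := Int.emod_nonneg n (by norm_num : (4 : ℤ) ≠ 0)
      have h1 := Int.emod_lt_of_pos n (by norm_num : (0 : ℤ) < 4)
      interval_cases hn : n % 4
      · exact Or.inl (zpow_zero g)
      · exact absurd ((QuotientGroup.eq_one_iff _).mpr hrK) (by rw [zpow_one]; exact hg)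
      · exact Or.inr (by rw [zpow_two])
      · refine absurd ((QuotientGroup.eq_one_iff _).mpr hrK) ?_
        show π (g ^ (3 : ℤ)) ≠ 1
        rw [map_zpow, show (3 : ℤ) = 2 + 1 by norm_num, zpow_add, zpow_two, hg2, one_mul, zpow_one]
        exact hg
    have hsqH : ∀ g ∈ (S : Subgroup G), π g ≠ 1 → π g * π g = 1 := fun g hg hne => by
      obtain ⟨c, hc⟩ := isConj_iff.mp (hSout g hg hne).symm
      rw [← hc]
      simp only [map_mul, map_inv]
      calc π c * π u * (π c)⁻¹ * (π c * π u * (π c)⁻¹) = π c * (π u * π u) * (π c)⁻¹ := by group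
        _ = 1 := by rw [hπu2, mul_one, mul_inv_cancel]
    set z := u * u with hzdef
    have hzS : z ∈ (S : Subgroup G) := Subgroup.mul_mem _ huS huS
    obtain ⟨a, haK, haS, hao, hac⟩ := LocalEvenB.StrongFusion.exists_central_order_p S K
      ((by
        have h1 : orderOf z = 2 := orderOf_eq_prime
          (by rw [hzdef, ← sq, ← pow_mul]; exact hu4) hu1
        exact h1 ▸ Subgroup.orderOf_dvd_natCard K hsqK) : 2 ∣ Nat.card K)
    have hsq : ∀ g ∈ (S : Subgroup G), π g ≠ 1 → g * g = a := by
      intro g hg hne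
      have hconj := hSout g hg hne
      have hmem : a ∈ Subgroup.zpowers g :=
        hcyc g hconj ▸ Subgroup.mem_centralizer_singleton_iff.mpr (hac g hg)
      rcases hinK g hne a hmem haK (horder g hconj) (hsqH g hg hne) with e | e
      · rw [e, orderOf_one] at hao; norm_num at hao
      · exact e.symm
    have haz : a = z := (hsq u huS hπu).symm
    subst haz
    have hR : ∀ r ∈ (S : Subgroup G), r ∈ K → r = 1 ∨ r = z := by
      intro r hrS hrK
      have hinvert : ∀ g ∈ (S : Subgroup G), π g ≠ 1 → g * r * g⁻¹ = r⁻¹ := fun g hg hne => by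
        have h1 : g * r * (g * r) = g * g :=
          (hsq (g * r) (Subgroup.mul_mem _ hg hrS) (hKout r hrK g hne).1).trans (hsq g hg hne).symm
        have h2 : r * g * r = g := by
          refine mul_left_cancel (a := g) ?_
          simpa [mul_assoc] using h1
        calc g * r * g⁻¹ = r⁻¹ * (r * g * r) * g⁻¹ := by group
          _ = r⁻¹ := by rw [h2]; group
      have hu_r := hinvert u huS hπu
      have hv_r := hinvert v hvS hv1
      have hw_r := hinvert w hwS hw1
      have hrr : r⁻¹ = r := by
        calc r⁻¹ = w * r * w⁻¹ := hw_r.symm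
          _ = u * (v * r * v⁻¹) * u⁻¹ := by rw [hwdef]; group
          _ = (u * r * u⁻¹)⁻¹ := by rw [hv_r]; group
          _ = r := by rw [hu_r, inv_inv]
      have hmem : r ∈ Subgroup.zpowers u := hcyc u (IsConj.refl u) ▸
        Subgroup.mem_centralizer_singleton_iff.mpr (by
          have := mul_inv_eq_iff_eq_mul.mp (hu_r.trans hrr)
          exact this.symm)
      exact hinK u hπu r hmem hrK hu4 hπu2
    have hK4 : Nat.card K % 4 = 2 := by
      have h2 : 2 ∣ Nat.card K := hao ▸ Subgroup.orderOf_dvd_natCard K haK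
      have h4 : ¬ 4 ∣ Nat.card K := by
        intro h4
        obtain ⟨P, hP⟩ := Sylow.exists_subgroup_card_pow_prime 2 (G := K)
          (n := 2) (by simpa using h4)
        have hPG : IsPGroup 2 (P.map K.subtype) :=
          (IsPGroup.of_card hP).map K.subtype
        obtain ⟨S', hS'⟩ := hPG.exists_le_sylow
        obtain ⟨c, hc⟩ := MulAction.exists_smul_eq G S' S
        have hinto : ∀ p : P, MulAut.conj c ((p : K) : G) = 1 ∨
            MulAut.conj c ((p : K) : G) = z := by
          intro p
          refine hR _ ?_ (hKn.conj_mem _ (p : K).2 c)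
          rw [← hc, Sylow.coe_subgroup_smul]
          exact Subgroup.smul_mem_pointwise_smul _ _ _ (hS' (Subgroup.mem_map_of_mem _ p.2))
        have hle := Nat.card_le_card_of_injective
          (fun p : P => (⟨MulAut.conj c ((p : K) : G), hinto p⟩ : ({1, z} : Set G)))
          (fun p q e => Subtype.ext (Subtype.ext ((MulAut.conj c).injective (congrArg Subtype.val e))))
        rw [hP, Nat.card_coe_set_eq] at hle
        have h2' : ({1, z} : Set G).ncard ≤ 2 := (Set.ncard_insert_le _ _).trans (by simp)
        omega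
      omega
    obtain ⟨N, hN⟩ := Involution.BrauerFowler.exists_index_two_of_two_odd hK4
    have hNodd : Odd (Nat.card N) := by
      have := N.card_mul_index
      rw [hN] at this
      rw [Nat.odd_iff]; omega
    have hNmem : ∀ x : K, Odd (orderOf x) → x ∈ N := by
      intro x hx
      obtain ⟨j, hj⟩ := hx
      have e : x = (x * x) ^ (j + 1) := by
        rw [← sq, ← pow_mul, show 2 * (j + 1) = orderOf x + 1 by omega, pow_succ,
          pow_orderOf_eq_one, one_mul]
      rw [e]
      exact Subgroup.pow_mem _ ((Subgroup.mul_mem_iff_of_index_two hN).mpr Iff.rfl) _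
    set N' : Subgroup G := N.map K.subtype with hN'
    have hN'card : Nat.card N' = Nat.card N :=
      Subgroup.card_map_of_injective K.subtype_injective
    have hN'mem : ∀ x ∈ N', Odd (orderOf x) ∧ x ∈ K := by
      rintro _ ⟨y, hy, rfl⟩
      refine ⟨?_, y.2⟩
      rw [orderOf_injective K.subtype K.subtype_injective y]
      exact Odd.of_dvd_nat hNodd (Subgroup.orderOf_dvd_natCard N hy)
    have hKmem : ∀ x ∈ K, Odd (orderOf x) → x ∈ N' := fun x hx ho =>
      ⟨⟨x, hx⟩, hNmem _ (by rwa [← orderOf_injective K.subtype K.subtype_injective]), rfl⟩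
    have hN'n : N'.Normal := ⟨fun x hx g => by
      obtain ⟨ho, hxK⟩ := hN'mem x hx
      refine hKmem _ (hKn.conj_mem x hxK g) ?_
      rwa [← MulAut.conj_apply, MulEquiv.orderOf_eq]⟩
    have hO : Cfsg.oddCore G = N' := le_antisymm
      (fun x hx => hKmem x (hOK hx) (Involution.ZStar.odd_orderOf_of_mem hx))
      (Involution.ZStar.le_oddCore hN'n (hN'card ▸ hNodd))
    set O := Cfsg.oddCore G with hOdef
    have hzO : z ∉ O := fun hz => by
      have := Odd.of_dvd_nat hOodd (Subgroup.orderOf_dvd_natCard _ hz)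
      rw [hao] at this
      exact absurd this (by decide)
    have hKO : ∀ x ∈ K, x ∈ O ∨ z * x ∈ O := by
      intro x hx
      by_cases hxN : (⟨x, hx⟩ : K) ∈ N
      · exact Or.inl (hO ▸ ⟨_, hxN, rfl⟩)
      · refine Or.inr (hO ▸ ⟨⟨z, haK⟩ * ⟨x, hx⟩, (Subgroup.mul_mem_iff_of_index_two hN).mpr
          ⟨fun hz => absurd (hO ▸ ⟨_, hz, rfl⟩ : z ∈ O) hzO, fun hx' => absurd hx' hxN⟩, rfl⟩)
    have hz2 : z * z = 1 := by
      rw [← sq, ← hao]; exact pow_orderOf_eq_one z
    refine ⟨?_, Or.inr ⟨?_, hou⟩⟩
    · -- the odd core is inverted by the involution `z`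
      have hvv : v * v = z := hsq v hvS hv1
      have hww : u * v * (u * v) = z := hsq w hwS hw1
      have huz : Commute u z := (Commute.refl u).mul_right (Commute.refl u)
      have hvz : Commute v z := by rw [← hvv]; exact (Commute.refl v).mul_right (Commute.refl v)
      let W : Subgroup G := O ⊓ Subgroup.centralizer ({z} : Set G)
      have hW1 : ∀ x ∈ W, x = 1 := by
        intro x hx
        obtain ⟨hxO, hxz⟩ := hx
        have hxz' : Commute x z := Subgroup.mem_centralizer_singleton_iff.mp hxz
        have key : ∀ g : G, g * g = z → Nat.card (Subgroup.centralizer ({g} : Set G)) = 4 →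
            ∀ y ∈ W, g * y * g⁻¹ = y⁻¹ := by
          intro g hgg hgc y hy
          have hgz : Commute g z := by rw [← hgg]; exact (Commute.refl g).mul_right (Commute.refl g)
          have hgW : ∀ t ∈ W, g * t * g⁻¹ ∈ W := fun t ht => ⟨hOn.conj_mem t ht.1 g, by
            have htz : Commute t z := Subgroup.mem_centralizer_singleton_iff.mp ht.2
            exact Subgroup.mem_centralizer_singleton_iff.mpr
              ((hgz.mul_left htz).mul_left hgz.inv_left).eq⟩
          let σ : W → W := fun t => ⟨g * t * g⁻¹, hgW t t.2⟩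
          have hσσ : ∀ t : W, g * (g * (t : G) * g⁻¹) * g⁻¹ = t := fun t => by
            calc g * (g * (t : G) * g⁻¹) * g⁻¹ = (g * g) * t * (g * g)⁻¹ := by group
              _ = t := by
                rw [hgg, ← (Subgroup.mem_centralizer_singleton_iff.mp t.2.2 : (t : G) * z = z * t)]
                group
          have hinj : Function.Injective fun t : W => (⟨(t : G)⁻¹ * (g * t * g⁻¹),
              W.mul_mem (W.inv_mem t.2) (hgW t t.2)⟩ : W) := by
            intro p q e
            have e' : (p : G)⁻¹ * (g * p * g⁻¹) = (q : G)⁻¹ * (g * q * g⁻¹) := congrArg Subtype.val e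
            have hfix : g * ((q : G) * (p : G)⁻¹) * g⁻¹ = (q : G) * (p : G)⁻¹ := by
              have e2 : g * (q : G) * g⁻¹ = q * ((p : G)⁻¹ * (g * p * g⁻¹)) := by rw [e']; group
              calc g * ((q : G) * (p : G)⁻¹) * g⁻¹ = (g * q * g⁻¹) * (g * p * g⁻¹)⁻¹ := by group
                _ = _ := by rw [e2]; group
            have := eq_one_of_commute hOodd hgc
              (O.mul_mem q.2.1 (O.inv_mem p.2.1)) (mul_inv_eq_iff_eq_mul.mp hfix).symm
            exact Subtype.ext (mul_inv_eq_one.mp this).symm
          obtain ⟨t, ht⟩ := (Finite.injective_iff_surjective.mp hinj) ⟨y, hy⟩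
          have ht' : (t : G)⁻¹ * (g * t * g⁻¹) = y := congrArg Subtype.val ht
          rw [← ht']
          calc g * ((t : G)⁻¹ * (g * t * g⁻¹)) * g⁻¹
              = (g * t * g⁻¹)⁻¹ * (g * (g * t * g⁻¹) * g⁻¹) := by group
            _ = _ := by rw [hσσ]; group
        have h1 := key u rfl hCu x ⟨hxO, hxz⟩
        have h2 := key v hvv (hcentr v (hSout v hvS hv1)) x ⟨hxO, hxz⟩
        have hfix : w * x * w⁻¹ = x := by
          calc w * x * w⁻¹ = u * (v * x * v⁻¹) * u⁻¹ := by rw [hwdef]; group
            _ = (u * x * u⁻¹)⁻¹ := by rw [h2]; group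
            _ = x := by rw [h1, inv_inv]
        exact eq_one_of_commute hOodd (hcentr w (hSout w hwS hw1)) hxO
          (mul_inv_eq_iff_eq_mul.mp hfix).symm
      refine ⟨⟨fun x y => Solvable.FPFOperators.commute_of_fpf_involution
        (MulAut.conjNormal (H := O) z) ?_ ?_ x y⟩⟩
      · rw [← map_pow, sq, hz2, map_one]
      · intro x hx
        have hx' : z * (x : G) * z⁻¹ = x := by
          have := congrArg Subtype.val hx
          rwa [MulAut.conjNormal_apply] at this
        exact Subtype.ext (hW1 x ⟨x.2, Subgroup.mem_centralizer_singleton_iff.mpr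
          (mul_inv_eq_iff_eq_mul.mp hx').symm⟩)
    · -- the cover
      let f : G ⧸ O →* alternatingGroup (Fin 5) := eA.toMonoidHom.comp
        (QuotientGroup.map O K (MonoidHom.id G) hOK)
      have hf : ∀ g : G, f (g : G ⧸ O) = eA (π g) := fun g => rfl
      set zE : G ⧸ O := (z : G ⧸ O)
      have hzE : zE ≠ 1 := fun e => hzO ((QuotientGroup.eq_one_iff z).mp e)
      have hzE2 : zE * zE = 1 := by
        show ((z * z : G) : G ⧸ O) = 1
        rw [hz2]; rfl
      have hker : ∀ e : G ⧸ O, f e = 1 → e = 1 ∨ e = zE := by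
        intro e he
        obtain ⟨g, rfl⟩ := QuotientGroup.mk_surjective e
        rw [hf, map_eq_one_iff _ eA.injective] at he
        rcases hKO g ((QuotientGroup.eq_one_iff g).mp he) with h1 | h1
        · exact Or.inl ((QuotientGroup.eq_one_iff g).mpr h1)
        · refine Or.inr ?_
          have h2 : zE * (g : G ⧸ O) = 1 := (QuotientGroup.eq_one_iff (z * g)).mpr h1
          rw [eq_inv_of_mul_eq_one_right h2]
          exact inv_eq_of_mul_eq_one_right hzE2
      have hfz : f zE = 1 := by
        rw [hf, map_eq_one_iff _ eA.injective]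
        exact (QuotientGroup.eq_one_iff z).mpr haK
      have hcen : ∀ e : G ⧸ O, zE * e = e * zE := by
        intro e
        have h1 : f (e * zE * e⁻¹) = 1 := by
          rw [map_mul, map_mul, hfz, mul_one, ← map_mul, mul_inv_cancel, map_one]
        rcases hker _ h1 with h2 | h2
        · exact absurd (conj_eq_one_iff.mp h2) hzE
        · exact (mul_inv_eq_iff_eq_mul.mp h2).symm
      have hinvE : ∀ e : G ⧸ O, e * e = 1 → e = 1 ∨ e = zE := by
        intro e he
        obtain ⟨g, rfl⟩ := QuotientGroup.mk_surjective e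
        have hgO : g * g ∈ O := (QuotientGroup.eq_one_iff _).mp he
        by_cases hg : π g = 1
        · exact hker _ (by rw [hf, hg, map_one])
        · exfalso
          have h2 : orderOf (π g) = 2 := orderOf_eq_prime
            (by rw [sq, ← map_mul]; exact (QuotientGroup.eq_one_iff _).mpr (hOK hgO)) hg
          obtain ⟨c, hc⟩ := isConj_iff.mp (hinv g h2)
          apply hzO
          have := hOn.conj_mem _ hgO c
          rw [show c * (g * g) * c⁻¹ = (c * g * c⁻¹) * (c * g * c⁻¹) by group, hc] at this
          exact this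
      set T : Subgroup (G ⧸ O) := Subgroup.closure {e : G ⧸ O | e * (e * e) = 1} with hT
      haveI hTn : T.Normal := by
        refine Subgroup.normalizer_eq_top_iff.mp (top_le_iff.mp fun c _ => ?_)
        have hconj : ∀ d : G ⧸ O, ∀ x ∈ T, d * x * d⁻¹ ∈ T := by
          intro d x hx
          induction hx using Subgroup.closure_induction with
          | mem y hy =>
            refine Subgroup.subset_closure ?_
            show d * y * d⁻¹ * (d * y * d⁻¹ * (d * y * d⁻¹)) = 1
            calc d * y * d⁻¹ * (d * y * d⁻¹ * (d * y * d⁻¹)) = d * (y * (y * y)) * d⁻¹ := by group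
              _ = 1 := by rw [show y * (y * y) = 1 from hy]; group
          | one => simp
          | mul a b _ _ ha hb =>
            rw [show d * (a * b) * d⁻¹ = (d * a * d⁻¹) * (d * b * d⁻¹) by group]
            exact T.mul_mem ha hb
          | inv a _ ha =>
            rw [show d * a⁻¹ * d⁻¹ = (d * a * d⁻¹)⁻¹ by group]
            exact T.inv_mem ha
        rw [Subgroup.mem_normalizer_iff]
        exact fun x => ⟨hconj c x, fun hx => by
          have := hconj c⁻¹ _ hx
          simpa [mul_assoc] using this⟩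
      have hfs : Function.Surjective f := fun a => by
        obtain ⟨g, hg⟩ := QuotientGroup.mk'_surjective K (eA.symm a)
        exact ⟨(g : G ⧸ O), by rw [hf, hπ, hg, MulEquiv.apply_symm_apply]⟩
      haveI hsimp : IsSimpleGroup (alternatingGroup (Fin 5)) :=
        alternatingGroup.isSimpleGroup (by simp)
      haveI : Fact (Nat.Prime 3) := ⟨Nat.prime_three⟩
      obtain ⟨t, ht⟩ := exists_prime_orderOf_dvd_card (G := alternatingGroup (Fin 5)) 3 (by
        rw [← Nat.card_eq_fintype_card, ← Nat.card_congr eA.toEquiv, D.card_eq]; norm_num)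
      obtain ⟨e, he⟩ := hfs t
      have ht3 : t ^ 3 = 1 := ht ▸ pow_orderOf_eq_one t
      have h6 : e ^ 6 = 1 := by
        rw [show 6 = 3 * 2 by norm_num, pow_mul, sq]
        rcases hker (e ^ 3) (by rw [map_pow, he, ht3]) with h1 | h1 <;> rw [h1]
        · exact one_mul 1
        · exact hzE2
      have hTm : T.map f = ⊤ := by
        refine ((hTn.map f hfs).eq_bot_or_eq_top).resolve_left fun hb => ?_
        have h4T : e ^ 4 ∈ T := Subgroup.subset_closure (by
          show e ^ 4 * (e ^ 4 * e ^ 4) = 1
          rw [← pow_add, ← pow_add, show 4 + (4 + 4) = 6 * 2 by norm_num, pow_mul, h6, one_pow])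
        have h1 : f (e ^ 4) ∈ T.map f := Subgroup.mem_map_of_mem f h4T
        rw [hb, Subgroup.mem_bot, map_pow, he, pow_succ, ht3, one_mul] at h1
        rw [h1, orderOf_one] at ht
        norm_num at ht
      have hTtop : T = ⊤ := by
        have hmem : ∀ x : G ⧸ O, x ∈ T ∨ x * zE ∈ T := by
          intro x
          have hx : f x ∈ T.map f := by rw [hTm]; trivial
          obtain ⟨y, hy, hyx⟩ := hx
          rcases hker (y⁻¹ * x) (by rw [map_mul, map_inv, hyx, inv_mul_cancel]) with h1 | h1
          · exact Or.inl (by rwa [← eq_of_inv_mul_eq_one h1])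
          · refine Or.inr ?_
            rw [inv_mul_eq_iff_eq_mul.mp h1, mul_assoc, hzE2, mul_one]
            exact hy
        by_cases hzT : zE ∈ T
        · refine (Subgroup.eq_top_iff' T).mpr fun x => (hmem x).elim id fun hx => ?_
          simpa using T.mul_mem hx (T.inv_mem hzT)
        · exfalso
          have hidx : T.index = 2 := Subgroup.index_eq_two_iff.mpr ⟨zE, fun b => by
            rcases hmem b with hb | hb
            · refine Or.inr ⟨hb, fun hbz => hzT ?_⟩
              simpa using T.mul_mem (T.inv_mem hb) hbz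
            · refine Or.inl ⟨hb, fun hb' => hzT ?_⟩
              simpa using T.mul_mem (T.inv_mem hb') hb⟩
          have hcomm : commutator (G ⧸ O) ≤ T := by
            rw [commutator_def, Subgroup.commutator_le]
            intro a _ b _
            rw [commutatorElement_def, Subgroup.mul_mem_iff_of_index_two hidx,
              Subgroup.mul_mem_iff_of_index_two hidx, Subgroup.mul_mem_iff_of_index_two hidx,
              T.inv_mem_iff, T.inv_mem_iff]
            tauto
          have hperf : commutator (G ⧸ O) = ⊤ := by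
            have hm := Subgroup.map_commutator ⊤ ⊤ (QuotientGroup.mk' O)
            rw [← commutator_def, perfect h,
              Subgroup.map_top_of_surjective _ (QuotientGroup.mk'_surjective O), ← commutator_def] at hm
            exact hm.symm
          exact hzT (hperf.ge.trans hcomm trivial)
      exact CfsgLib.Recognition.Zassenhaus.Cover.equiv_sl25
        { f := f, surj := hfs, z := zE, z_ne := hzE, z_sq := hzE2, central := hcen, ker := hker,
          invol := hinvE, gen := hTtop }

/-- Let u ≠ 1 be an element of the finite group G such that every non-principal irreducible character χ satisfies χ(1) − χ(u) = 4 or χ(u) = 0. Then O(G), the largest normal subgroup of odd order, is abelian, and either G ⧸ O(G) ≅ PSL₂(5) and u is an involution, or G ⧸ O(G) ≅ SL₂(5) and u has order 4. -/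
theorem result {G : Type*} [Group G] [Finite G] (u : G) (hu : u ≠ 1) (hyp : ∀ χ : Cfsg.IrrCharacter G, (χ : G → ℂ) ≠ (fun _ => (1 : ℂ)) → ((χ : G → ℂ) 1 - (χ : G → ℂ) u = 4 ∨ (χ : G → ℂ) u = 0)) : IsMulCommutative ↥(Cfsg.oddCore G) ∧ ((Nonempty (G ⧸ Cfsg.oddCore G ≃* Matrix.ProjectiveSpecialLinearGroup (Fin 2) (ZMod 5)) ∧ orderOf u = 2) ∨ (Nonempty (G ⧸ Cfsg.oddCore G ≃* Matrix.SpecialLinearGroup (Fin 2) (ZMod 5)) ∧ orderOf u = 4)) := by
  haveI := Fintype.ofFinite G
  exact main u ⟨hu, fun χ hχ => hyp χ ((ne_oneChar_iff χ).mp hχ)⟩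

end Cfsg.Agent.S4758
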