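import Cfsg.Statements.S4796
import Cfsg.Agent.Lib.DegreeTools.Basic
import Cfsg.Agent.Lib.CharDeep.CentralTrick
import Cfsg.Agent.Lib.Char.Induced
import Cfsg.Agent.Lib.Char.Constituent
import Cfsg.Agent.Lib.FrobRealize.Kernel
import Mathlib.GroupTheory.SchurZassenhaus
import Mathlib.GroupTheory.PGroup

set_option autoImplicit false
open Cfsg

namespace Cfsg.Agent.S4796

open CfsgLib.Char CfsgLib.DegreeTools
open scoped Classical Pointwise

/-- A central cyclic subgroup of order `p` bounds the square of a degree. -/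
theorem deg_sq_mul_le {Z : Type*} [Group Z] [Finite Z] (θ : Cfsg.IrrCharacter Z) (P : Subgroup Z)
    (hP : P ≤ Subgroup.center Z) :
    Cfsg.charDegree (θ : Z → ℂ) ^ 2 * Nat.card P ≤ Nat.card Z := by
  have := Fintype.ofFinite Z
  have hnorm : ∀ z : P, ‖(θ : Z → ℂ) z‖ = Cfsg.charDegree (θ : Z → ℂ) := by
    intro z
    obtain ⟨c, hc, -⟩ := CfsgLib.CharDeep.CentralTrick.exists_scalar_center θ.2 (hP z.2)
    have h1 := hc (z : Z)⁻¹
    have h2 := hc 1
    rw [inv_mul_cancel] at h1
    rw [one_mul] at h2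
    rw [IsIrrCharacter.apply_inv θ.2, h2] at h1
    have h3 := congrArg norm h1
    rw [h2]
    simp only [norm_mul, Complex.norm_conj, norm_apply_one] at h3 ⊢
    have hd : (0 : ℝ) < Cfsg.charDegree (θ : Z → ℂ) := by exact_mod_cast deg_pos θ
    nlinarith [norm_nonneg c, sq_nonneg (‖c‖ - 1)]
  have h : ∑ z : P, ‖(θ : Z → ℂ) z‖ ^ 2 ≤ (Nat.card Z : ℝ) := by
    rw [← sum_norm_sq θ, ← Finset.sum_subtype (Finset.univ.filter (· ∈ P)) (fun g => by simp)
      (fun z => ‖(θ : Z → ℂ) z‖ ^ 2)]
    exact Finset.sum_le_univ_sum_of_nonneg fun z => sq_nonneg _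
  simp only [hnorm, Finset.sum_const, Finset.card_univ, nsmul_eq_mul] at h
  rw [← Nat.card_eq_fintype_card, mul_comm] at h
  exact_mod_cast h

/-- Let G be a finite group with a faithful irreducible complex character χ whose codegree #G / χ(1) is a prime p (for a faithful character the kernel is trivial, so the codegree is #G / χ(1)). Then either G is cyclic of order p, or G is a Frobenius group whose Frobenius kernel has order p: some proper non-trivial subgroup H satisfies H ∩ gHg⁻¹ = 1 for every element g outside H, and the set of elements lying in no conjugate of H, together with the identity, has exactly p elements. -/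
theorem result {G : Type*} [Group G] [Finite G] (χ : Cfsg.IrrCharacter G) (hfaith : ∀ g : G, (χ : G → ℂ) g = (χ : G → ℂ) 1 → g = 1) (p : ℕ) (hp : p.Prime) (hcod : Nat.card G = p * Cfsg.charDegree (χ : G → ℂ)) : (IsCyclic G ∧ Nat.card G = p) ∨ ∃ H : Subgroup G, Cfsg.IsFrobeniusComplement H ∧ Nat.card ↥(Cfsg.frobeniusKernel H) = p := by
  have := Fintype.ofFinite G
  have : Fact p.Prime := ⟨hp⟩
  set m := Cfsg.charDegree (χ : G → ℂ) with hm
  have hm0 : 0 < m := deg_pos χ
  rcases eq_or_ne m 1 with h1 | h1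
  · rw [h1, mul_one] at hcod
    exact Or.inl ⟨isCyclic_of_prime_card hcod, hcod⟩
  have hmp : m < p := by
    have hsq : m ^ 2 ≤ p * m := by
      rw [← hcod, ← sum_deg_sq (G := G)]
      exact Finset.single_le_sum (f := fun ψ : IrrCharacter G => charDegree (ψ : G → ℂ) ^ 2)
        (fun _ _ => Nat.zero_le _) (Finset.mem_univ χ)
    have hle : m ≤ p := by nlinarith
    refine lt_of_le_of_ne hle fun he => h1 ?_
    have hc : Nat.card G = p ^ 2 := by rw [hcod, he, pow_two]
    have hG := IsPGroup.isMulCommutative_of_card_eq_prime_sq hc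
    have h := apply_one_eq_one_of_comm (χ := (χ : G → ℂ)) (fun a b => hG.1.1 a b) χ.2
    exact (deg_eq_one_iff χ).2 h
  have hpm : ¬ p ∣ m := fun h => absurd (Nat.le_of_dvd hm0 h) (by omega)
  obtain ⟨P⟩ : Nonempty (Sylow p G) := inferInstance
  have hP : Nat.card (P : Subgroup G) = p := by
    rw [P.card_eq_multiplicity, hcod, Nat.factorization_mul hp.ne_zero hm0.ne', Finsupp.add_apply,
      hp.factorization_self, Nat.factorization_eq_zero_of_not_dvd hpm, add_zero, pow_one]
  have hidx : (P : Subgroup G).index = m := by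
    have := Subgroup.card_mul_index (P : Subgroup G)
    rw [hP, hcod] at this
    exact Nat.eq_of_mul_eq_mul_left hp.pos this
  have hPn : (P : Subgroup G).Normal := by
    have h1' : Nat.card (Sylow p G) = 1 := by
      have hd := P.card_dvd_index
      rw [hidx] at hd
      have hlt := lt_of_le_of_lt (Nat.le_of_dvd hm0 hd) hmp
      have hmod := card_sylow_modEq_one p G
      rw [Nat.ModEq, Nat.mod_eq_of_lt hlt, Nat.mod_eq_of_lt hp.one_lt] at hmod
      exact hmod
    have := (Nat.card_eq_one_iff_unique.1 h1').1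
    exact Sylow.normal_of_subsingleton P
  obtain ⟨H, hH⟩ := Subgroup.exists_right_complement'_of_coprime (N := (P : Subgroup G))
    (by rw [hP, hidx]; exact hp.coprime_iff_not_dvd.2 hpm)
  have hHc : Nat.card H = m := by
    have := hH.card_mul_card
    rw [hP, hcod] at this
    exact Nat.eq_of_mul_eq_mul_left hp.pos this
  -- the centraliser of P
  set Z := Subgroup.centralizer ((P : Subgroup G) : Set G)
  have hcyc : IsCyclic (P : Subgroup G) := isCyclic_of_prime_card hP
  let := hcyc.commGroup
  have hPZ : (P : Subgroup G) ≤ Z := fun x hx => Subgroup.mem_centralizer_iff.2 fun y hy =>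
    congrArg Subtype.val (mul_comm (⟨y, hy⟩ : (P : Subgroup G)) ⟨x, hx⟩)
  have hPc : (P : Subgroup G).subgroupOf Z ≤ Subgroup.center Z := fun z hz =>
    Subgroup.mem_center_iff.2 fun w =>
      Subtype.ext (Subgroup.mem_centralizer_iff.1 w.2 z hz).symm
  have hZP : Z = (P : Subgroup G) := by
    obtain ⟨θ, hθ, hne⟩ := IsCharacter.exists_constituent
      (IsCharacter.restrict (isCharacter_irr χ) Z) (fun h0 => by
        exact IsIrrCharacter.apply_one_ne_zero χ.2 (congrFun h0 1))
    have hb := deg_sq_mul_le ⟨θ, hθ⟩ _ hPc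
    rw [Nat.card_congr (Subgroup.subgroupOfEquivOfLe hPZ).toEquiv, hP] at hb
    obtain ⟨a, b, ha, hb', hab, -⟩ := IsCharacter.constituent_degree_le
      (IsCharacter.indFun Z (IsIrrCharacter.isCharacter hθ)) χ.2 (by
        rw [classInner_indFun Z θ (IsIrrCharacter.isClassFunction χ.2),
          IsCharacter.classInner_comm (IsIrrCharacter.isCharacter hθ)
            (IsCharacter.restrict (isCharacter_irr χ) Z)]
        exact hne)
    rw [indFun_one] at hb'
    rw [← deg_cast, Nat.cast_inj] at ha
    change m = a at ha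
    rw [← show (charDegree θ : ℂ) = θ 1 from deg_cast ⟨θ, hθ⟩, ← Nat.cast_mul, Nat.cast_inj] at hb'
    set t := charDegree θ
    have hz := Subgroup.card_mul_index Z
    rw [hcod] at hz
    refine (Subgroup.eq_of_le_of_card_ge hPZ ?_).symm
    rw [hP]
    have h2 : m * m ≤ Z.index * t * (Z.index * t) :=
      Nat.mul_le_mul (by omega) (by omega)
    have h3 : m * m * p ≤ Z.index * Z.index * Nat.card Z := by nlinarith
    have hpos : 0 < Z.index := Nat.pos_of_ne_zero Subgroup.index_ne_zero_of_finite
    have h4 : m * m * p ≤ Z.index * (p * m) := by nlinarith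
    have h5 : m ≤ Z.index := by
      have : m * (m * p) ≤ Z.index * (m * p) := by nlinarith
      exact Nat.le_of_mul_le_mul_right this (Nat.mul_pos hm0 hp.pos)
    have h6 : Nat.card Z * m ≤ p * m := by nlinarith
    exact Nat.le_of_mul_le_mul_right h6 hm0
  refine Or.inr ⟨H, ?_⟩
  have hfr : Cfsg.IsFrobeniusComplement H := by
    refine ⟨fun hb => h1 ?_, fun ht => ?_, fun g hg => ?_⟩
    · rw [← hHc, hb, Subgroup.card_bot]
    · have : Nat.card H = p * m := by rw [ht, Subgroup.card_top, hcod]
      rw [hHc] at this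
      nlinarith [hp.one_lt]
    obtain ⟨⟨⟨x, hx⟩, ⟨h, hh⟩⟩, rfl⟩ := hH.2 g
    have hx1 : x ≠ 1 := fun hx0 => hg (by simpa [hx0] using hh)
    rw [Subgroup.eq_bot_iff_forall]
    intro y hy
    obtain ⟨hyH, hyg⟩ := Subgroup.mem_inf.1 hy
    rw [Subgroup.mem_pointwise_smul_iff_inv_smul_mem] at hyg
    have hyg' : h⁻¹ * (x⁻¹ * y * x) * h ∈ H := by
      simpa [mul_assoc] using hyg
    have hy' : x⁻¹ * y * x ∈ H := by
      have := H.mul_mem (H.mul_mem hh hyg') (H.inv_mem hh)
      simpa [mul_assoc] using this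
    have hc : y⁻¹ * (x⁻¹ * y * x) = 1 := by
      have hmemH := H.mul_mem (H.inv_mem hyH) hy'
      have hmemP : y⁻¹ * (x⁻¹ * y * x) ∈ (P : Subgroup G) := by
        have := (P : Subgroup G).mul_mem (hPn.conj_mem _ (inv_mem hx) y⁻¹) hx
        simpa [mul_assoc] using this
      exact Subgroup.disjoint_def.1 hH.disjoint hmemP hmemH
    have hcomm : Commute x y := by
      have h' : x⁻¹ * y * x = y := by
        have := congrArg (fun t => y * t) hc
        simpa [mul_assoc] using this
      calc x * y = x * (x⁻¹ * y * x) := by rw [h']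
        _ = y * x := by simp [mul_assoc]
    have hyZ : y ∈ Z := by
      refine Subgroup.mem_centralizer_iff.2 fun u hu => ?_
      obtain ⟨k, rfl⟩ : ∃ k : ℤ, x ^ k = u := by
        have hgen : Subgroup.zpowers (⟨x, hx⟩ : (P : Subgroup G)) = ⊤ :=
          zpowers_eq_top_of_prime_card hP (fun h0 => hx1 (congrArg Subtype.val h0))
        obtain ⟨k, hk⟩ := Subgroup.mem_zpowers_iff.1 (hgen ▸ Subgroup.mem_top (⟨u, hu⟩ : (P : Subgroup G)))
        exact ⟨k, by simpa using congrArg Subtype.val hk⟩
      exact (hcomm.zpow_left k).eq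
    exact Subgroup.disjoint_def.1 hH.disjoint (hZP ▸ hyZ) hyH
  refine ⟨hfr, ?_⟩
  rw [CfsgLib.FrobRealize.Kernel.card_frobeniusKernel hfr, hH.index_eq_card, hP]

end Cfsg.Agent.S4796
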