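import Cfsg.Statements.S4762
import Cfsg.Agent.S4796
import Cfsg.Agent.Lib.Fusion.Abelian
import Cfsg.Agent.Lib.Char.CliffordAbelian
import Cfsg.Agent.Lib.DegreeTools.PDegree
import Cfsg.Agent.Lib.DegreeTools.LinearChars
import Cfsg.Agent.Lib.LocalEven.Residual
import Cfsg.Agent.Lib.PGroup.Kulakoff

set_option autoImplicit false
open Cfsg

namespace Cfsg.Agent.S4762

open CfsgLib.Char CfsgLib.DegreeTools
open scoped Classical commutatorElement

variable {G : Type*} [Group G] [Finite G]

/-- A character with the derived group in its kernel is linear. -/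
theorem linear_of_commutator_ker (χ : IrrCharacter G)
    (h : ∀ g ∈ commutator G, (χ : G → ℂ) g = (χ : G → ℂ) 1) : (χ : G → ℂ) 1 = 1 := by
  obtain ⟨ψ, hψ, he⟩ := IsIrrCharacter.exists_deflate χ.2 (commutator G) h
  rw [he, Function.comp_apply, map_one]
  exact apply_one_eq_one_of_comm (fun a b => mul_comm (G := Abelianization G) a b) hψ

/-- Characters of `p`-groups: divisible by `p` iff nonlinear. -/
theorem dvd_iff_ne_one {p : ℕ} [Fact p.Prime] (hG : IsPGroup p G) (χ : IrrCharacter G) :
    p ∣ charDegree (χ : G → ℂ) ↔ (χ : G → ℂ) 1 ≠ 1 := by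
  obtain ⟨n, hn⟩ := hG.exists_card_eq
  obtain ⟨i, -, hi⟩ := (Nat.dvd_prime_pow (Fact.out : p.Prime)).1 (hn ▸ deg_dvd_card χ)
  rw [Ne, ← deg_eq_one_iff, hi]
  rcases i with _ | i
  · simp [(Fact.out : p.Prime).ne_one]
  · constructor
    · intro _ h
      have := (Fact.out : p.Prime).two_le
      have := Nat.le_of_dvd (by omega) (h ▸ dvd_pow_self p (Nat.succ_ne_zero i))
      omega
    · exact fun _ => dvd_pow_self p (Nat.succ_ne_zero i)

/-- The number of linear and nonlinear characters against the group order. -/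
theorem card_eq_linear_add [Fintype G] :
    Nat.card G = (commutator G).index +
      ∑ χ ∈ Finset.univ.filter (fun χ : IrrCharacter G => (χ : G → ℂ) 1 ≠ 1),
        charDegree (χ : G → ℂ) ^ 2 := by
  conv_lhs => rw [← sum_deg_sq (G := G), ← Finset.sum_filter_add_sum_filter_not Finset.univ
    (fun χ : IrrCharacter G => (χ : G → ℂ) 1 = 1)]
  congr 1
  rw [Finset.sum_congr rfl fun χ hχ => by
    rw [(deg_eq_one_iff χ).2 (Finset.mem_filter.1 hχ).2, one_pow], Finset.sum_const, smul_eq_mul,
    mul_one, ← card_linear, Nat.card_eq_fintype_card, Fintype.card_subtype]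

/-- Let p be a prime and G a finite nilpotent group. Then G has exactly one irreducible complex character of degree divisible by p if and only if p = 2 and G is an extraspecial 2-group. -/
theorem result {G : Type*} [Group G] [Finite G] [Group.IsNilpotent G] (p : ℕ) [Fact p.Prime] : Nat.card {χ : Cfsg.IrrCharacter G // p ∣ Cfsg.charDegree (χ : G → ℂ)} = 1 ↔ (p = 2 ∧ Cfsg.IsExtraspecial 2 G) := by
  have := Fintype.ofFinite G
  have hp : p.Prime := Fact.out
  constructor
  · intro h1
    obtain ⟨hsub, ⟨⟨χ, hχ⟩⟩⟩ := Nat.card_eq_one_iff_unique.1 h1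
    have huniq : ∀ ψ : IrrCharacter G, p ∣ charDegree (ψ : G → ℂ) → ψ = χ := fun ψ hψ =>
      congrArg Subtype.val (Subsingleton.elim
        (⟨ψ, hψ⟩ : {χ : IrrCharacter G // p ∣ charDegree (χ : G → ℂ)}) ⟨χ, hχ⟩)
    obtain ⟨P⟩ : Nonempty (Sylow p G) := inferInstance
    have hPn : (P : Subgroup G).Normal :=
      P.normal_of_normalizerCondition Group.normalizerCondition_of_isNilpotent
    obtain ⟨H, hH⟩ := Subgroup.exists_right_complement'_of_coprime (N := (P : Subgroup G))
      (by
        obtain ⟨n, hn⟩ := P.2.exists_card_eq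
        rw [hn]
        exact Nat.Coprime.pow_left _ (hp.coprime_iff_not_dvd.2 P.not_dvd_index))
    have hHp : ¬ p ∣ Nat.card H := by
      rw [← hH.symm.index_eq_card]
      exact P.not_dvd_index
    have htop := CfsgLib.Fusion.Abelian.sup_centralizer_eq_top P
    have hHC : H ≤ Subgroup.centralizer ((P : Subgroup G) : Set G) := by
      intro h hh
      set C := Subgroup.centralizer ((P : Subgroup G) : Set G)
      obtain ⟨u, hu, c, hc, huc⟩ := (Subgroup.mem_sup_of_normal_left (hs := hPn)).1
        (htop ▸ Subgroup.mem_top h)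
      have hCn : C.Normal := Subgroup.normal_centralizer
      let π := QuotientGroup.mk' C
      have hπ : π h = π u := by
        rw [← huc, map_mul, show π c = 1 from (QuotientGroup.eq_one_iff c).2 hc, mul_one]
      obtain ⟨k, hk⟩ := IsPGroup.iff_orderOf.1 P.2 ⟨u, hu⟩
      rw [Subgroup.orderOf_mk] at hk
      have d1 : orderOf (π h) ∣ Nat.card H :=
        (orderOf_map_dvd π h).trans (Subgroup.orderOf_dvd_natCard H hh)
      have d2 : orderOf (π h) ∣ p ^ k := hπ ▸ hk ▸ orderOf_map_dvd π u
      exact (QuotientGroup.eq_one_iff h).1 (orderOf_eq_one_iff.1 (Nat.eq_one_of_dvd_coprimes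
        (Nat.Coprime.pow_right k (hp.coprime_iff_not_dvd.2 hHp).symm) d1 d2))
    have hHn : H.Normal := ⟨fun h hh g => by
      obtain ⟨⟨u, v⟩, rfl⟩ := hH.2 g
      have e : (u : G) * (v : G) * h * ((u : G) * (v : G))⁻¹ = (v : G) * h * (v : G)⁻¹ := by
        have hc := Subgroup.mem_centralizer_iff.1
          (hHC (H.mul_mem (H.mul_mem v.2 hh) (H.inv_mem v.2))) u u.2
        calc (u : G) * (v : G) * h * ((u : G) * (v : G))⁻¹
            = (u : G) * ((v : G) * h * (v : G)⁻¹) * (u : G)⁻¹ := by group
          _ = _ := by rw [hc, mul_inv_cancel_right]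
      show (u : G) * (v : G) * h * ((u : G) * (v : G))⁻¹ ∈ H
      rw [e]
      exact H.mul_mem (H.mul_mem v.2 hh) (H.inv_mem v.2)⟩
    have hnab : ¬ ∀ a b : (P : Subgroup G), a * b = b * a := fun hab =>
      P.not_dvd_index (hχ.trans (deg_dvd_index (P : Subgroup G) hab χ))
    have hQp : IsPGroup p (G ⧸ H) := by
      obtain ⟨n, hn⟩ := P.2.exists_card_eq
      exact IsPGroup.of_card (n := n) (by rw [← Subgroup.index_eq_card, hH.index_eq_card, hn])
    obtain ⟨ψ, hψ⟩ : ∃ ψ : IrrCharacter (G ⧸ H), (ψ : G ⧸ H → ℂ) 1 ≠ 1 := by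
      by_contra hcon
      push Not at hcon
      refine hnab fun a b => ?_
      have hab := comm_iff_forall_linear.2 hcon (QuotientGroup.mk' H a) (QuotientGroup.mk' H b)
      rw [← commutatorElement_eq_one_iff_mul_comm, ← map_commutatorElement] at hab
      have hmemH : ⁅(a : G), (b : G)⁆ ∈ H := (QuotientGroup.eq_one_iff _).1 hab
      have hmemP : ⁅(a : G), (b : G)⁆ ∈ (P : Subgroup G) := (⁅a, b⁆ : (P : Subgroup G)).2
      exact commutatorElement_eq_one_iff_mul_comm.1
        (Subtype.ext (Subgroup.disjoint_def.1 hH.disjoint hmemP hmemH))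
    have hχH : ∀ g : G, (χ : G → ℂ) g = (ψ : G ⧸ H → ℂ) (QuotientGroup.mk' H g) := by
      have := huniq ⟨_, IsIrrCharacter.comp_surjective ψ.2 _ (QuotientGroup.mk'_surjective H)⟩ (by
        have h := (dvd_iff_ne_one hQp ψ).2 hψ
        simpa [charDegree] using h)
      exact fun g => (congrFun (congrArg Subtype.val this) g).symm
    have hHbot : H = ⊥ := by
      by_contra hne
      have : Nontrivial (G ⧸ (P : Subgroup G)) := by
        rw [← Finite.one_lt_card_iff_nontrivial, ← Subgroup.index_eq_card, hH.symm.index_eq_card]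
        exact (Subgroup.one_lt_card_iff_ne_bot H).2 hne
      have hlt : commutator (G ⧸ (P : Subgroup G)) ≠ ⊤ :=
        (Group.IsSolvable.commutator_lt_top_of_nontrivial _).ne
      obtain ⟨lam, hlam, hlam1⟩ := exists_linear_ne_one_iff.2 hlt
      obtain ⟨φ, hφ⟩ := exists_hom_of_apply_one_eq_one (isCharacter_irr lam) hlam1
      let f : G →* ℂˣ := φ.comp (QuotientGroup.mk' (P : Subgroup G))
      have hfh : ∀ h ∈ H, f h = 1 := by
        intro h hh
        have := huniq ⟨_, IsIrrCharacter.mul_hom χ.2 f⟩ (by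
          simpa [charDegree] using hχ)
        have h2 := congrFun (congrArg Subtype.val this) h
        have h3 : (χ : G → ℂ) h = (χ : G → ℂ) 1 := by
          rw [hχH, hχH, map_one, show QuotientGroup.mk' H h = 1 from (QuotientGroup.eq_one_iff h).2 hh]
        simp only [Pi.mul_apply, h3] at h2
        have h4 : (f h : ℂ) = 1 := by
          have h0 := IsIrrCharacter.apply_one_ne_zero χ.2
          first | exact (mul_eq_right₀ h0).1 h2 | exact (mul_eq_left₀ h0).1 h2
        exact Units.ext h4
      refine hlam (Subtype.ext (funext fun q => ?_))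
      obtain ⟨g, rfl⟩ := QuotientGroup.mk'_surjective (P : Subgroup G) q
      obtain ⟨⟨u, v⟩, rfl⟩ := hH.2 g
      rw [hφ, coe_oneChar]
      show ((f ((u : G) * (v : G))) : ℂ) = 1
      rw [map_mul, hfh v v.2, mul_one]
      show ((φ (QuotientGroup.mk' (P : Subgroup G) (u : G))) : ℂ) = 1
      rw [show QuotientGroup.mk' (P : Subgroup G) (u : G) = 1 from (QuotientGroup.eq_one_iff _).2 u.2,
        map_one, Units.val_one]
    have hG : IsPGroup p G := by
      obtain ⟨n, hn⟩ := P.2.exists_card_eq
      refine IsPGroup.of_card (n := n) ?_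
      rw [← hH.card_mul_card, hHbot, Subgroup.card_bot, mul_one, hn]
    obtain ⟨n, hn⟩ := hG.exists_card_eq
    set t := charDegree (χ : G → ℂ)
    have hfilter : Finset.univ.filter (fun ψ : IrrCharacter G => (ψ : G → ℂ) 1 ≠ 1) = {χ} := by
      ext ψ
      simp only [Finset.mem_filter, Finset.mem_univ, true_and, Finset.mem_singleton]
      exact ⟨fun h => huniq ψ ((dvd_iff_ne_one hG ψ).2 h), fun h => h ▸ (dvd_iff_ne_one hG χ).1 hχ⟩
    have hsum := card_eq_linear_add (G := G)
    rw [hfilter, Finset.sum_singleton] at hsum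
    change Nat.card G = (commutator G).index + t ^ 2 at hsum
    have hci := Subgroup.card_mul_index (commutator G)
    obtain ⟨i, -, hi⟩ := (Nat.dvd_prime_pow hp).1 (hn ▸ deg_dvd_card χ)
    change t = p ^ i at hi
    obtain ⟨a, -, ha⟩ := (Nat.dvd_prime_pow hp).1 (hn ▸ Subgroup.index_dvd_card (commutator G))
    obtain ⟨c, -, hc⟩ := (Nat.dvd_prime_pow hp).1 (hn ▸ Subgroup.card_subgroup_dvd_card (commutator G))
    have heq : p ^ a * p ^ c = p ^ a + p ^ (2 * i) := by
      rw [pow_mul', ← hi, ← ha, ← hc, mul_comm, hci]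
      exact hsum
    have hc2 : p ^ c = 2 := by
      rcases Nat.lt_or_ge a (2 * i) with hai | hai
      · obtain ⟨d, hd⟩ := Nat.exists_eq_add_of_lt hai
        rw [show 2 * i = a + (d + 1) by omega, pow_add, ← mul_one_add] at heq
        have h2 := Nat.eq_of_mul_eq_mul_left (pow_pos hp.pos a) heq
        rcases c with _ | c
        · rw [pow_zero] at h2
          have := pow_pos hp.pos (d + 1)
          omega
        · exfalso
          have h3 : p ∣ 1 + p ^ (d + 1) := h2 ▸ dvd_pow_self p (Nat.succ_ne_zero c)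
          exact hp.not_dvd_one ((Nat.dvd_add_left (dvd_pow_self p (Nat.succ_ne_zero d))).1 h3)
      · obtain ⟨d, hd⟩ := Nat.exists_eq_add_of_le hai
        rw [hd, pow_add, mul_assoc, ← Nat.mul_succ] at heq
        have h2 := Nat.eq_of_mul_eq_mul_left (pow_pos hp.pos (2 * i)) heq
        rcases d with _ | d
        · simpa using h2
        · exfalso
          have h3 : p ∣ p ^ (d + 1) + 1 := by
            rw [← Nat.succ_eq_add_one, ← h2]
            exact Dvd.dvd.mul_right (dvd_pow_self p (Nat.succ_ne_zero d)) _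
          exact hp.not_dvd_one ((Nat.dvd_add_right (dvd_pow_self p (Nat.succ_ne_zero d))).1 h3)
    have hp2 : p = 2 := by
      rcases c with _ | c
      · simp at hc2
      · exact (Nat.prime_dvd_prime_iff_eq hp Nat.prime_two).1 (hc2 ▸ dvd_pow_self p (Nat.succ_ne_zero c))
    refine ⟨hp2, ?_⟩
    subst hp2
    have hGc : Nat.card (commutator G) = 2 := hc.trans hc2
    have ht2 : 2 * t ^ 2 = Nat.card G := by
      rw [hGc] at hci
      omega
    have hZc : Nat.card (Subgroup.center G) ≤ 2 := by
      have := Cfsg.Agent.S4796.deg_sq_mul_le χ (Subgroup.center G) le_rfl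
      have h0 : 0 < t ^ 2 := pow_pos (deg_pos χ) 2
      change t ^ 2 * _ ≤ _ at this
      rw [← ht2] at this
      nlinarith
    have hG'Z : commutator G ≤ Subgroup.center G := by
      intro x hx
      rw [Subgroup.mem_center_iff]
      intro g
      by_cases hx1 : x = 1
      · simp [hx1]
      have : g * x * g⁻¹ = x := by
        have hm := (inferInstance : (commutator G).Normal).conj_mem x hx g
        have : Finite (commutator G) := inferInstance
        obtain ⟨u, v, huv, huniv⟩ := Nat.card_eq_two_iff.1 hGc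
        have h1 : ∀ z : commutator G, z = 1 ∨ z = ⟨x, hx⟩ := by
          intro z
          have e1 : (1 : commutator G) ∈ ({u, v} : Set _) := huniv ▸ Set.mem_univ _
          have e2 : (⟨x, hx⟩ : commutator G) ∈ ({u, v} : Set _) := huniv ▸ Set.mem_univ _
          have e3 : z ∈ ({u, v} : Set _) := huniv ▸ Set.mem_univ _
          have hne : (1 : commutator G) ≠ ⟨x, hx⟩ := fun h => hx1 (congrArg Subtype.val h).symm
          grind
        rcases h1 ⟨_, hm⟩ with h | h
        · exact absurd (conj_eq_one_iff.1 (congrArg Subtype.val h)) hx1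
        · exact congrArg Subtype.val h
      exact mul_inv_eq_iff_eq_mul.1 this
    have hZeq : commutator G = Subgroup.center G :=
      Subgroup.eq_of_le_of_card_ge hG'Z (by rw [hGc]; exact hZc)
    refine ⟨⟨hG, ?_, hZeq⟩, by rw [← hZeq, hGc]⟩
    refine le_antisymm ?_ (hZeq ▸ CfsgLib.PGroup.Kulakoff.commutator_le_frattini hG)
    refine CfsgLib.LocalEven.Residual.frattini_le (p := 2) (fun a b => hZeq ▸
      Subgroup.commutator_mem_commutator (Subgroup.mem_top a) (Subgroup.mem_top b)) fun a => ?_
    rw [Subgroup.mem_center_iff]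
    intro g
    have hm : g * a * g⁻¹ * a⁻¹ ∈ commutator G :=
      Subgroup.commutator_mem_commutator (Subgroup.mem_top g) (Subgroup.mem_top a)
    set z := g * a * g⁻¹ * a⁻¹ with hz
    have hz2 : z ^ 2 = 1 := by
      rw [← hGc]
      exact congrArg Subtype.val (pow_card_eq_one' (x := (⟨z, hm⟩ : commutator G)))
    have hzc : Commute z a := (Subgroup.mem_center_iff.1 (hG'Z hm) a).symm
    have hga : g * a * g⁻¹ = z * a := by rw [hz, inv_mul_cancel_right]
    have : g * a ^ 2 * g⁻¹ = a ^ 2 := by
      rw [← conj_pow, hga, hzc.mul_pow, hz2, one_mul]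
    exact mul_inv_eq_iff_eq_mul.1 this
  · rintro ⟨rfl, ⟨hG, -, hder⟩, hcard⟩
    obtain ⟨z0, w0, hne0, huniv⟩ := Nat.card_eq_two_iff.1 hcard
    have hGc : Nat.card (commutator G) = 2 := by rw [hder, hcard]
    have key : ∀ ψ : IrrCharacter G, (ψ : G → ℂ) 1 ≠ 1 →
        2 * charDegree (ψ : G → ℂ) ^ 2 = Nat.card G := by
      intro ψ hψ
      have hnorm : ∀ x ∈ Subgroup.center G, ‖(ψ : G → ℂ) x‖ = charDegree (ψ : G → ℂ) := by
        intro x hx
        obtain ⟨c, hc, -⟩ := CfsgLib.CharDeep.CentralTrick.exists_scalar_center ψ.2 hx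
        have h1 := hc x⁻¹
        have h2 := hc 1
        rw [inv_mul_cancel] at h1
        rw [one_mul] at h2
        rw [IsIrrCharacter.apply_inv ψ.2, h2] at h1
        have h3 := congrArg norm h1
        rw [h2]
        simp only [norm_mul, Complex.norm_conj, norm_apply_one] at h3 ⊢
        have hd : (0 : ℝ) < charDegree (ψ : G → ℂ) := by exact_mod_cast deg_pos ψ
        nlinarith [norm_nonneg c, sq_nonneg (‖c‖ - 1)]
      have hvan : ∀ g ∉ Subgroup.center G, (ψ : G → ℂ) g = 0 := by
        intro g hg
        rw [Subgroup.mem_center_iff] at hg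
        push Not at hg
        obtain ⟨y, hy⟩ := hg
        set z := g⁻¹ * (y * g * y⁻¹) with hz
        have hzm : z ∈ commutator G := by
          have := Subgroup.commutator_mem_commutator (H₁ := ⊤) (H₂ := ⊤)
            (Subgroup.mem_top g⁻¹) (Subgroup.mem_top y)
          simpa [commutatorElement_def, hz, mul_assoc, commutator_def] using this
        have hz1 : z ≠ 1 := fun h => hy (by
          rw [hz, inv_mul_eq_one] at h
          exact (mul_inv_eq_iff_eq_mul.1 h.symm))
        obtain ⟨c, hc, hc1⟩ :=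
          CfsgLib.CharDeep.CentralTrick.exists_scalar_center ψ.2 (hder ▸ hzm : z ∈ Subgroup.center G)
        refine CfsgLib.CharDeep.CentralTrick.eq_zero_of_conj_translate
          (IsIrrCharacter.isClassFunction ψ.2) (show y * g * y⁻¹ = g * z by rw [hz]; group) (hc g)
          fun hc0 => hψ (linear_of_commutator_ker ψ fun x hx => ?_)
        have hxz : x = 1 ∨ x = z := by
          obtain ⟨u, v, huv, huniv'⟩ := Nat.card_eq_two_iff.1 hGc
          have e1 : (1 : commutator G) ∈ ({u, v} : Set _) := huniv' ▸ Set.mem_univ _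
          have e2 : (⟨z, hzm⟩ : commutator G) ∈ ({u, v} : Set _) := huniv' ▸ Set.mem_univ _
          have e3 : (⟨x, hx⟩ : commutator G) ∈ ({u, v} : Set _) := huniv' ▸ Set.mem_univ _
          have hne : (1 : commutator G) ≠ ⟨z, hzm⟩ := fun h => hz1 (congrArg Subtype.val h).symm
          have : (⟨x, hx⟩ : commutator G) = 1 ∨ (⟨x, hx⟩ : commutator G) = ⟨z, hzm⟩ := by grind
          rcases this with h | h
          · exact Or.inl (congrArg Subtype.val h)
          · exact Or.inr (congrArg Subtype.val h)
        rcases hxz with rfl | rfl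
        · rfl
        · exact hc1 hc0
      have h := sum_norm_sq ψ
      rw [← Finset.sum_subset (Finset.subset_univ (Finset.univ.filter (· ∈ Subgroup.center G)))
        (fun g _ hg => by rw [hvan g (by simpa using hg), norm_zero, sq, zero_mul]),
        Finset.sum_congr rfl fun g hg => by rw [hnorm g (Finset.mem_filter.1 hg).2],
        Finset.sum_const, nsmul_eq_mul, ← Fintype.card_subtype, ← Nat.card_eq_fintype_card] at h
      rw [show Nat.card {g : G // g ∈ Subgroup.center G} = 2 from hcard] at h
      exact_mod_cast h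
    have hsum := card_eq_linear_add (G := G)
    have hci := Subgroup.card_mul_index (commutator G)
    rw [hGc] at hci
    set F := Finset.univ.filter (fun ψ : IrrCharacter G => (ψ : G → ℂ) 1 ≠ 1)
    have h2 : 2 * ∑ ψ ∈ F, charDegree (ψ : G → ℂ) ^ 2 = F.card * Nat.card G := by
      rw [Finset.mul_sum, Finset.sum_congr rfl fun ψ hψ => key ψ (Finset.mem_filter.1 hψ).2,
        Finset.sum_const, smul_eq_mul]
    have hpos : 0 < Nat.card G := Nat.card_pos
    have hF : F.card = 1 := by nlinarith
    rw [← hF, Nat.card_eq_fintype_card, Fintype.card_subtype]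
    congr 1
    exact Finset.filter_congr fun ψ _ => dvd_iff_ne_one hG ψ

end Cfsg.Agent.S4762
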