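import Cfsg.Statements.S4763
import Cfsg.Agent.S0867
import Cfsg.Agent.Lib.CharDeep.PrimeDegreeKernel
import Cfsg.Agent.Lib.CharDeep.Relative
import Cfsg.Agent.Lib.Blocks.ExtTwist
import Cfsg.Agent.Lib.DegreeTools.ExtendTwist
import Cfsg.Agent.Lib.DegreeTools.Basic

set_option autoImplicit false
open Cfsg

namespace Cfsg.Agent.S4763

open CfsgLib.Char CfsgLib.DegreeTools
open scoped Classical ComplexConjugate

variable {G : Type*} [Group G]

theorem detOrder_dvd_card [Finite G] {ϑ : G → ℂ} (h : IsIrrCharacter G ϑ) :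
    Cfsg.detOrder ϑ ∣ Nat.card G := by
  obtain ⟨k, ρ, hρ, hρc⟩ := h
  rw [← hρc, Cfsg.detOrder, CfsgLib.CharDeep.DetExt.detChar_character ρ,
    orderOf_dvd_iff_pow_eq_one]
  funext g
  rw [Pi.pow_apply, ← map_pow, ← map_pow, pow_card_eq_one', map_one, map_one]
  rfl

theorem card_hom [Finite G] : Nat.card (G →* ℂˣ) ≤ Nat.card (ConjClasses G) ∧
    (Nat.card (G →* ℂˣ) = Nat.card (ConjClasses G) → ∀ a b : G, a * b = b * a) := by
  have := Fintype.ofFinite G
  rw [Nat.card_congr homEquivLinear, ← card_irrCharacter (G := G)]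
  refine ⟨Nat.card_le_card_of_injective _ Subtype.val_injective, fun h => ?_⟩
  refine comm_iff_forall_linear.2 fun χ => ?_
  obtain ⟨y, hy⟩ := ((Nat.bijective_iff_injective_and_card
    (Subtype.val : {χ : IrrCharacter G // (χ : G → ℂ) 1 = 1} → IrrCharacter G)).2
      ⟨Subtype.val_injective, h⟩).2 χ
  exact hy ▸ y.2

theorem carrier_card (g : G) :
    Nat.card (ConjClasses.mk g).carrier = Nat.card {x : G // IsConj x g} :=
  Nat.card_congr (Equiv.subtypeEquivRight fun y => by
    rw [ConjClasses.mem_carrier_iff_mk_eq, ConjClasses.mk_eq_mk_iff_isConj])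

/-- A twist fixing an extension of an irreducible character is trivial. -/
theorem hom_one [Fintype G] (N : Subgroup G) {ψ : G → ℂ} (hψ : IsIrrCharacter G ψ)
    (hres : IsIrrCharacter N fun n : N => ψ n) (δ : G →* ℂˣ) (hδ : ∀ n : N, δ n = 1)
    (heq : ∀ g, ψ g * (δ g : ℂ) = ψ g) : δ = 1 := by
  have hK : IsIrrCharacter δ.ker (fun k : δ.ker => ψ k) :=
    ExtendTwist.isIrrCharacter_of_comp (N.subtype.codRestrict δ.ker fun n => hδ n)
      (IsCharacter.restrict (IsIrrCharacter.isCharacter hψ) _) hres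
  have hvan : ∀ i : G, i ∉ δ.ker → ψ i = 0 := fun i hi => by
    by_contra h0
    exact hi (Units.ext ((mul_eq_left₀ h0).1 (heq i)))
  have hsum := CfsgLib.CharDeep.Relative.norm_restrict_of_vanish hψ δ.ker hvan
  rw [classInner_irr_self hK, mul_one] at hsum
  have hcard : Nat.card δ.ker = Nat.card G := by exact_mod_cast hsum
  refine MonoidHom.ext fun i => ?_
  have : i ∈ δ.ker := (Subgroup.eq_top_of_card_eq _ hcard) ▸ Subgroup.mem_top i
  exact this

open CfsgLib.CharDeep in
/-- Let p be a prime and G a finite group that is not nilpotent and has a normal p-complement (a normal subgroup of order prime to p and index a power of p). If G has exactly one irreducible complex character of degree divisible by p, then G has exactly one conjugacy class whose size is divisible by p. -/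
theorem result {G : Type*} [Group G] [Finite G] (p : ℕ) [Fact p.Prime] (hnil : ¬ Group.IsNilpotent G) (N : Subgroup G) [N.Normal] (hN : (Nat.card N).Coprime p) (hidx : ∃ k : ℕ, N.index = p ^ k) (hone : Nat.card {χ : Cfsg.IrrCharacter G // p ∣ Cfsg.charDegree (χ : G → ℂ)} = 1) : Nat.card {C : ConjClasses G // p ∣ Nat.card C.carrier} = 1 := by
  have := Fintype.ofFinite G
  have hp : p.Prime := Fact.out
  obtain ⟨k, hk⟩ := hidx
  obtain ⟨S⟩ : Nonempty (Sylow p G) := inferInstance
  set P := (S : Subgroup G) with hPdef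
  have hpN : ¬ p ∣ Nat.card N := (hp.coprime_iff_not_dvd).1 hN.symm
  have hPcard : Nat.card P = p ^ k := by
    rw [S.card_eq_multiplicity, ← Subgroup.card_mul_index N, hk,
      Nat.factorization_mul Nat.card_pos.ne' (pow_ne_zero _ hp.ne_zero)]
    rw [Finsupp.add_apply, Nat.factorization_eq_zero_of_not_dvd hpN, zero_add,
      hp.factorization_pow, Finsupp.single_eq_same]
  have hcompl : P.IsComplement' N := Subgroup.isComplement'_of_coprime
    (by rw [hPcard, mul_comm, ← hk, Subgroup.card_mul_index])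
    (by rw [hPcard]; exact Nat.Coprime.pow_left k hN.symm)
  let e := hcompl.QuotientMulEquiv
  let π : G →* P := e.toMonoidHom.comp (QuotientGroup.mk' N)
  have hπP : ∀ u : P, π u = u := fun u => by
    show e (QuotientGroup.mk (u : G)) = u
    rw [← MulEquiv.eq_symm_apply]
    rfl
  have hπN : ∀ n : N, π n = 1 := fun n => by
    show e (QuotientGroup.mk (n : G)) = 1
    rw [(QuotientGroup.eq_one_iff (n : G)).2 n.2, map_one]
  have hdec : ∀ g : G, ∃ (n : N) (u : P), g = n * u := fun g => by
    have hmem : g * ((π g : P) : G)⁻¹ ∈ N := by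
      rw [← QuotientGroup.eq_one_iff]
      apply e.injective
      show π (g * ((π g : P) : G)⁻¹) = e 1
      rw [map_mul, map_inv, hπP, mul_inv_cancel, map_one]
    exact ⟨⟨_, hmem⟩, π g, (inv_mul_cancel_right g _).symm⟩
  -- Glauberman
  set φ := PrimeDegreeKernel.sylAct S N
  let C : Subgroup N := (Subgroup.centralizer (P : Set G)).subgroupOf N
  have hCmem : ∀ c : N, c ∈ C ↔ ∀ u : P, (u : G) * c = c * u := fun c => by
    rw [Subgroup.mem_subgroupOf, Subgroup.mem_centralizer_iff]
    exact ⟨fun h u => h u u.2, fun h u hu => h ⟨u, hu⟩⟩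
  have hs : Glauberman.Setup p φ C.subtype := by
    refine ⟨hp, S.2, C.subtype_injective, fun g => ?_, hpN⟩
    constructor
    · intro h
      refine ⟨⟨g, (hCmem g).2 fun u => ?_⟩, rfl⟩
      have := congrArg Subtype.val (h u)
      rw [PrimeDegreeKernel.sylAct_apply] at this
      exact mul_inv_eq_iff_eq_mul.1 this
    · rintro ⟨c, rfl⟩ u
      apply Subtype.ext
      rw [PrimeDegreeKernel.sylAct_apply]
      exact mul_inv_eq_iff_eq_mul.2 ((hCmem c.1).1 c.2 u)
  let Fx := {θ : IrrCharacter N // Glauberman.Inv φ (θ : N → ℂ)}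
  have hf : Nat.card Fx = Nat.card (ConjClasses C) := by
    rw [← card_irrCharacter (G := C)]
    exact Nat.card_eq_of_bijective _ hs.corr_bijective
  have hinvG : ∀ (θ : Fx) (g : G) (n : N),
      (θ.1 : N → ℂ) ⟨g * n * g⁻¹, (inferInstance : N.Normal).conj_mem (n : G) n.2 g⟩
        = (θ.1 : N → ℂ) n := by
    intro θ g n
    obtain ⟨m, u, rfl⟩ := hdec g
    rw [← θ.2 u n, ← IsIrrCharacter.isClassFunction θ.1.2 (φ u n) m]
    refine congrArg (θ.1 : N → ℂ) (Subtype.ext ?_)
    simp only [Subgroup.coe_mul, InvMemClass.coe_inv, φ, PrimeDegreeKernel.sylAct_apply]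
    group
  have hex : ∀ θ : Fx, ∃ χ : IrrCharacter G, ∀ n : N, (χ : G → ℂ) n = (θ.1 : N → ℂ) n := by
    intro θ
    obtain ⟨d, hd, hdvd⟩ := IsIrrCharacter.apply_one_dvd_card θ.1.2
    have hc : Nat.Coprime p (Nat.card N) := hN.symm
    obtain ⟨χ, ⟨hχ, hres, -⟩, -⟩ := Cfsg.Agent.S0867.result N (θ.1 : N → ℂ) θ.1.2 (hinvG θ) d hd
      (by rw [hk]; exact Nat.Coprime.pow_left k (Nat.Coprime.mul_right
        (hc.coprime_dvd_right (detOrder_dvd_card θ.1.2)) (hc.coprime_dvd_right hdvd)))
    exact ⟨⟨χ, hχ⟩, hres⟩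
  choose ext hext using hex
  -- the characters of degree prime to `p`
  let Φ : Fx × (P →* ℂˣ) → {χ : IrrCharacter G // ¬ p ∣ charDegree (χ : G → ℂ)} := fun x =>
    ⟨⟨_, IsIrrCharacter.mul_hom (ext x.1).2 (x.2.comp π)⟩, by
      intro hd
      obtain ⟨d, hd1, hdvd⟩ := IsIrrCharacter.apply_one_dvd_card x.1.1.2
      let η : IrrCharacter G := ⟨_, IsIrrCharacter.mul_hom (ext x.1).2 (x.2.comp π)⟩
      have he : ((charDegree (η : G → ℂ) : ℕ) : ℂ) = (d : ℂ) := by
        rw [deg_cast, ← hd1, ← hext]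
        simp [η]
      have hd' : p ∣ charDegree (η : G → ℂ) := hd
      rw [Nat.cast_inj.1 he] at hd'
      exact hpN (hd'.trans hdvd)⟩
  have hΦres : ∀ x (n : N), ((Φ x).1 : G → ℂ) n = (x.1.1 : N → ℂ) n := fun x n => by
    show (ext x.1 : G → ℂ) n * ((x.2.comp π) (n : G) : ℂ) = _
    rw [MonoidHom.comp_apply, hπN, map_one, Units.val_one, mul_one, hext]
  have hΦ : Function.Bijective Φ := by
    constructor
    · rintro ⟨θ, a⟩ ⟨θ', a'⟩ h
      obtain rfl : θ = θ' := Subtype.ext (Subtype.ext (funext fun n => by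
        rw [← hΦres (θ, a), ← hΦres (θ', a'), h]))
      have h1 : ∀ g, (ext θ : G → ℂ) g * (a (π g) : ℂ) = (ext θ : G → ℂ) g * (a' (π g) : ℂ) :=
        fun g => congrArg (fun z : {χ : IrrCharacter G // _} => (z.1 : G → ℂ) g) h
      have h2 := hom_one N (ext θ).2 (by
        have e : (fun n : N => (ext θ : G → ℂ) n) = (θ.1 : N → ℂ) := funext (hext θ)
        rw [e]; exact θ.1.2) ((a * a'⁻¹).comp π)
        (fun n => by rw [MonoidHom.comp_apply, hπN, map_one]) (fun g => by
          rw [MonoidHom.comp_apply, MonoidHom.mul_apply, MonoidHom.inv_apply, Units.val_mul,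
            ← mul_assoc, h1, mul_assoc, ← Units.val_mul, mul_inv_cancel, Units.val_one, mul_one])
      refine Prod.ext rfl (MonoidHom.ext fun u => ?_)
      have h3 := DFunLike.congr_fun h2 (u : G)
      simp only [MonoidHom.comp_apply, hπP, MonoidHom.mul_apply, MonoidHom.inv_apply,
        MonoidHom.one_apply] at h3
      exact mul_inv_eq_one.1 h3
    · rintro ⟨χ, hχ⟩
      have hrc := IsCharacter.restrict (isCharacter_irr χ) N
      obtain ⟨θ₀, hθ₀, hne⟩ := IsCharacter.exists_constituent hrc fun h0 =>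
        IsIrrCharacter.apply_one_ne_zero χ.2 (congrFun h0 1)
      obtain ⟨d, hd, hdvd⟩ := Relative.degree_ratio_dvd χ.2 N hθ₀ hne
      rw [hk] at hdvd
      obtain ⟨t, ht, hdt⟩ := IsIrrCharacter.apply_one_dvd_card hθ₀
      have hdeg : charDegree (χ : G → ℂ) = d * t := by
        apply Nat.cast_injective (R := ℂ)
        push_cast
        rw [deg_cast, hd, ht]
      obtain ⟨j, -, rfl⟩ := (Nat.dvd_prime_pow hp).1 hdvd
      rcases Nat.eq_zero_or_pos j with rfl | hj
      swap
      · exact absurd (hdeg ▸ Dvd.dvd.mul_right (dvd_pow_self p hj.ne') t) hχ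
      rw [pow_zero, Nat.cast_one, one_mul] at hd
      have hres : (fun n : N => (χ : G → ℂ) n) = θ₀ :=
        Clifford.eq_of_constituent_of_apply_one_eq hrc hθ₀ hne hd
      let θ : Fx := ⟨⟨θ₀, hθ₀⟩, fun u n => by
        show θ₀ (φ u n) = θ₀ n
        rw [← hres]
        simp only [φ, PrimeDegreeKernel.sylAct_apply]
        exact IsIrrCharacter.isClassFunction χ.2 n u⟩
      obtain ⟨β, hβ, hηβ⟩ := CfsgLib.Blocks.exists_linear_of_extensions (ext θ) χ θ.1
        (fun n => hext θ n) (fun n => congrFun hres n)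
      refine ⟨(θ, β.comp P.subtype), Subtype.ext (Subtype.ext (funext fun g => ?_))⟩
      show (ext θ : G → ℂ) g * ((β (π g : G)) : ℂ) = (χ : G → ℂ) g
      obtain ⟨n, u, rfl⟩ := hdec g
      rw [hηβ, map_mul π, hπN, one_mul, hπP, map_mul β, hβ, one_mul, mul_comm]
  have htot : Nat.card (ConjClasses G) = Nat.card Fx * Nat.card (P →* ℂˣ) + 1 := by
    rw [← card_irrCharacter (G := G), ← Nat.card_prod, Nat.card_eq_of_bijective Φ hΦ,
      ← Nat.card_congr (Equiv.sumCompl fun χ : IrrCharacter G => p ∣ charDegree (χ : G → ℂ)),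
      Nat.card_sum, hone, add_comm]
  -- classes meeting `C × P`
  let Ψ : ConjClasses C × ConjClasses P → ConjClasses G := fun x =>
    Quotient.liftOn₂ x.1 x.2 (fun (c : C) (u : P) => ConjClasses.mk (((c : N) : G) * u))
      (fun c u c' u' hc hu => by
        obtain ⟨a, ha⟩ := isConj_iff.1 hc
        obtain ⟨b, hb⟩ := isConj_iff.1 hu
        refine ConjClasses.mk_eq_mk_iff_isConj.2 (isConj_iff.2 ⟨((a : N) : G) * b, ?_⟩)
        rw [← ha, ← hb]
        simp only [Subgroup.coe_mul, InvMemClass.coe_inv]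
        have e1 : (b : G) * ((c : N) : G) = ((c : N) : G) * b := (hCmem c.1).1 c.2 b
        have e2 : ((a : N) : G) * ((b : G) * u * (b : G)⁻¹) = ((b : G) * u * (b : G)⁻¹) * ((a : N) : G) :=
          ((hCmem a.1).1 a.2 (b * u * b⁻¹)).symm
        calc ((a : N) : G) * b * (((c : N) : G) * u) * (((a : N) : G) * b)⁻¹
            = ((a : N) : G) * ((b : G) * ((c : N) : G)) * (u : G) * (b : G)⁻¹ * ((a : N) : G)⁻¹ := by
              group
          _ = ((a : N) : G) * ((c : N) : G) * ((a : N) : G)⁻¹ *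
              (((a : N) : G) * ((b : G) * u * (b : G)⁻¹)) * ((a : N) : G)⁻¹ := by
              rw [e1]; group
          _ = ((a : N) : G) * ((c : N) : G) * ((a : N) : G)⁻¹ * ((b : G) * u * (b : G)⁻¹) := by
              rw [e2]; group)
  have hΨmk : ∀ (c : C) (u : P),
      Ψ (ConjClasses.mk c, ConjClasses.mk u) = ConjClasses.mk (((c : N) : G) * u) :=
    fun _ _ => rfl
  have hΨinj : Function.Injective Ψ := by
    rintro ⟨x, y⟩ ⟨x', y'⟩ h
    obtain ⟨c, rfl⟩ := ConjClasses.mk_surjective x
    obtain ⟨u, rfl⟩ := ConjClasses.mk_surjective y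
    obtain ⟨c', rfl⟩ := ConjClasses.mk_surjective x'
    obtain ⟨u', rfl⟩ := ConjClasses.mk_surjective y'
    rw [hΨmk, hΨmk, ConjClasses.mk_eq_mk_iff_isConj, isConj_iff] at h
    obtain ⟨g, hg⟩ := h
    have hu : IsConj u u' := by
      refine isConj_iff.2 ⟨π g, ?_⟩
      have := congrArg π hg
      simpa [hπN, hπP] using this
    -- separate the two coprime parts
    obtain ⟨a, ha1, ha2⟩ := Nat.chineseRemainder (Nat.Coprime.pow_right k hN) 1 0
    have hpow : ∀ (c : C) (u : P), (((c : N) : G) * u) ^ a = ((c : N) : G) := fun c u => by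
      have hcm : Commute ((c : N) : G) u := ((hCmem c.1).1 c.2 u).symm
      have e1 : ((c : N) : G) ^ a = ((c : N) : G) := by
        conv_rhs => rw [← pow_one ((c : N) : G)]
        rw [pow_eq_pow_iff_modEq]
        exact ha1.of_dvd (by rw [Subgroup.orderOf_coe]; exact orderOf_dvd_natCard _)
      have e2 : (u : G) ^ a = 1 := by
        rw [← Subgroup.coe_pow]
        have : u ^ a = 1 := orderOf_dvd_iff_pow_eq_one.1
          ((orderOf_dvd_natCard u).trans (hPcard ▸ Nat.modEq_zero_iff_dvd.1 ha2))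
        rw [this, Subgroup.coe_one]
      rw [hcm.mul_pow, e1, e2, mul_one]
    have hc : g * ((c : N) : G) * g⁻¹ = ((c' : N) : G) := by
      rw [← hpow c u, ← hpow c' u', ← hg, conj_pow]
    obtain ⟨n, w, rfl⟩ := hdec g
    have hcn : IsConj (c : N) (c' : N) := isConj_iff.2 ⟨n, Subtype.ext (by
      have e1 : (w : G) * ((c : N) : G) = ((c : N) : G) * w := (hCmem c.1).1 c.2 w
      rw [← hc]
      simp only [Subgroup.coe_mul, InvMemClass.coe_inv]
      calc (n : G) * ((c : N) : G) * (n : G)⁻¹
          = (n : G) * (((c : N) : G) * w) * (w : G)⁻¹ * (n : G)⁻¹ := by group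
        _ = (n : G) * w * ((c : N) : G) * ((n : G) * w)⁻¹ := by rw [← e1]; group)⟩
    exact Prod.ext (ConjClasses.mk_eq_mk_iff_isConj.2 (hs.isConj_of_isConj hcn))
      (ConjClasses.mk_eq_mk_iff_isConj.2 hu)
  have : Finite (ConjClasses G) := Finite.of_surjective _ ConjClasses.mk_surjective
  have : Finite (ConjClasses C) := Finite.of_surjective _ ConjClasses.mk_surjective
  have hle := Nat.card_le_card_of_injective Ψ hΨinj
  rw [Nat.card_prod, htot, ← hf] at hle
  obtain ⟨hlin, hlin'⟩ := card_hom (G := P)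
  have hPab : ∀ u v : P, u * v = v * u := by
    refine hlin' (le_antisymm hlin ?_)
    by_contra hlt
    push Not at hlt
    have : Inhabited C := ⟨1⟩
    have hf0 : 0 < Nat.card Fx := by
      rw [hf]
      have : Nonempty (ConjClasses C) := ⟨ConjClasses.mk 1⟩
      exact Nat.card_pos
    have hf1 : Nat.card Fx = 1 := by nlinarith
    have hsurj : Function.Surjective Ψ := ((Nat.bijective_iff_injective_and_card Ψ).2
      ⟨hΨinj, le_antisymm (Nat.card_le_card_of_injective Ψ hΨinj) (by
        rw [Nat.card_prod, htot, ← hf, hf1]; omega)⟩).2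
    refine hnil ?_
    have hN1 : ∀ n : N, n = 1 := fun n => by
      obtain ⟨⟨x, y⟩, hxy⟩ := hsurj (ConjClasses.mk (n : G))
      obtain ⟨c, rfl⟩ := ConjClasses.mk_surjective x
      obtain ⟨u, rfl⟩ := ConjClasses.mk_surjective y
      have hc : c = 1 := by
        have : Subsingleton (ConjClasses C) := (Nat.card_eq_one_iff_unique.1 (hf ▸ hf1)).1
        exact isConj_one_left.1
          (ConjClasses.mk_eq_mk_iff_isConj.1 (Subsingleton.elim (ConjClasses.mk c) (ConjClasses.mk 1)))
      rw [hΨmk, hc, ConjClasses.mk_eq_mk_iff_isConj, isConj_iff] at hxy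
      simp only [OneMemClass.coe_one, one_mul] at hxy
      obtain ⟨g, hg⟩ := hxy
      have hu1 := congrArg π hg
      rw [map_mul, map_mul, map_inv, hπP, hπN, mul_inv_eq_one, mul_eq_left] at hu1
      rw [hu1, OneMemClass.coe_one, mul_one, mul_inv_cancel] at hg
      exact Subtype.ext hg.symm
    have hG : IsPGroup p G := IsPGroup.of_card (n := k) (by
      have : Subsingleton N := ⟨fun a b => (hN1 a).trans (hN1 b).symm⟩
      rw [← Subgroup.card_mul_index N, Nat.card_of_subsingleton (1 : N), one_mul, hk])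
    exact hG.isNilpotent
  -- the classes of size prime to `p`
  have hlinP : Nat.card (P →* ℂˣ) = Nat.card (ConjClasses P) := by
    rw [Nat.card_congr homEquivLinear, ← card_irrCharacter (G := P)]
    exact Nat.card_congr (Equiv.subtypeUnivEquiv (comm_iff_forall_linear.1 hPab))
  have hrange : ∀ K : ConjClasses G, ¬ p ∣ Nat.card K.carrier ↔ K ∈ Set.range Ψ := by
    intro K
    obtain ⟨g, rfl⟩ := ConjClasses.mk_surjective K
    have hmul := card_conjugates_mul g
    constructor
    · intro hg
      obtain ⟨T⟩ : Nonempty (Sylow p (Subgroup.centralizer ({g} : Set G))) := inferInstance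
      have hT : ¬ p ∣ ((T : Subgroup _).map (Subgroup.centralizer ({g} : Set G)).subtype).index := by
        rw [Subgroup.index_map_subtype]
        refine hp.not_dvd_mul (Sylow.not_dvd_index T) ?_
        have h2 := (Subgroup.card_mul_index (Subgroup.centralizer ({g} : Set G))).trans hmul.symm
        rw [mul_comm] at h2
        rw [Nat.eq_of_mul_eq_mul_right Nat.card_pos h2]
        rwa [← carrier_card]
      set T' := (T.2.map (Subgroup.centralizer ({g} : Set G)).subtype).toSylow hT
      obtain ⟨x, hx⟩ := MulAction.exists_smul_eq G T' S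
      have hy : ∀ u : P, (u : G) * (x * g * x⁻¹) = x * g * x⁻¹ * u := by
        intro u
        have hu : (u : G) ∈ ((x • T' : Sylow p G) : Subgroup G) := by rw [hx]; exact u.2
        rw [Sylow.coe_subgroup_smul, Subgroup.mem_pointwise_smul_iff_inv_smul_mem] at hu
        have hu' : x⁻¹ * u * x ∈ Subgroup.centralizer ({g} : Set G) := by
          have := Subgroup.map_subtype_le _ hu
          simpa using this
        have h3 := Subgroup.mem_centralizer_singleton_iff.1 hu'
        calc (u : G) * (x * g * x⁻¹) = x * (x⁻¹ * u * x * g) * x⁻¹ := by group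
          _ = x * (g * (x⁻¹ * u * x)) * x⁻¹ := by rw [h3]
          _ = x * g * x⁻¹ * u := by group
      obtain ⟨n, w, hnw⟩ := hdec (x * g * x⁻¹)
      have hn : n ∈ C := (hCmem n).2 fun u => by
        have h4 := hy u
        rw [hnw] at h4
        have h5 : (u : G) * w = w * u := congrArg Subtype.val (hPab u w)
        calc (u : G) * n = (u : G) * (n * w) * (w : G)⁻¹ := by group
          _ = (n : G) * (w * u) * (w : G)⁻¹ := by rw [h4]; group
          _ = (n : G) * (u * w) * (w : G)⁻¹ := by rw [h5]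
          _ = (n : G) * u := by group
      refine ⟨(ConjClasses.mk ⟨n, hn⟩, ConjClasses.mk w), ?_⟩
      rw [hΨmk, ← hnw, ConjClasses.mk_eq_mk_iff_isConj]
      exact isConj_iff.2 ⟨x⁻¹, by group⟩
    · rintro ⟨⟨x, y⟩, hxy⟩
      obtain ⟨c, rfl⟩ := ConjClasses.mk_surjective x
      obtain ⟨u, rfl⟩ := ConjClasses.mk_surjective y
      rw [hΨmk] at hxy
      rw [← hxy]
      intro hdiv
      have hle' : P ≤ Subgroup.centralizer ({((c : N) : G) * u} : Set G) := fun v hv => by
        rw [Subgroup.mem_centralizer_singleton_iff, ← mul_assoc, (hCmem c.1).1 c.2 ⟨v, hv⟩,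
          mul_assoc, show v * (u : G) = u * v from congrArg Subtype.val (hPab ⟨v, hv⟩ u), mul_assoc]
      have h2 := (Subgroup.card_mul_index (Subgroup.centralizer
        ({((c : N) : G) * u} : Set G))).trans (card_conjugates_mul (((c : N) : G) * u)).symm
      rw [mul_comm] at h2
      have h3 := Subgroup.index_dvd_of_le hle'
      rw [Nat.eq_of_mul_eq_mul_right Nat.card_pos h2] at h3
      refine Sylow.not_dvd_index S ((dvd_trans ?_ h3))
      rwa [← carrier_card]
  have hnd : Nat.card {K : ConjClasses G // ¬ p ∣ Nat.card K.carrier}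
      = Nat.card Fx * Nat.card (P →* ℂˣ) := by
    rw [Nat.card_congr (Equiv.subtypeEquivRight hrange), hlinP, hf, ← Nat.card_prod]
    exact Nat.card_congr (Equiv.ofInjective Ψ hΨinj).symm
  have h := Nat.card_congr (Equiv.sumCompl fun K : ConjClasses G => p ∣ Nat.card K.carrier)
  rw [Nat.card_sum, hnd, htot] at h
  omega

end Cfsg.Agent.S4763
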