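import Cfsg.Statements.S4776
import Cfsg.Agent.Lib.Char.DegreeComponents

set_option autoImplicit false
open Cfsg

namespace Cfsg.Agent.S4776

/-- Let N be a normal subgroup of the finite group G that is not perfect and is contained in the derived subgroup of G. Consider the common-divisor graph on the relative degree set cd(G|N) (the degrees of the irreducible complex characters of G whose kernel does not contain N; two distinct degrees adjacent when they have a common divisor greater than one). Then this graph has at most two connected components; and if a, b ∈ cd(G|N) lie in different components, then one of a, b is coprime to the index m of the derived subgroup of N in N while the other is divisible by every prime divisor of m. -/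
theorem result {G : Type*} [Group G] [Finite G] (N : Subgroup G) [N.Normal] (hN : ⁅N, N⁆ < N) (hNG : N ≤ commutator G) : Nat.card (Cfsg.commonDivisorGraph.induce (Cfsg.relCharDegrees N)).ConnectedComponent ≤ 2 ∧ ∀ (a b : ℕ) (ha : a ∈ Cfsg.relCharDegrees N) (hb : b ∈ Cfsg.relCharDegrees N), ¬ (Cfsg.commonDivisorGraph.induce (Cfsg.relCharDegrees N)).Reachable ⟨a, ha⟩ ⟨b, hb⟩ → (Nat.Coprime a (⁅N, N⁆.relIndex N) ∧ ∀ r : ℕ, r.Prime → r ∣ ⁅N, N⁆.relIndex N → r ∣ b) ∨ (Nat.Coprime b (⁅N, N⁆.relIndex N) ∧ ∀ r : ℕ, r.Prime → r ∣ ⁅N, N⁆.relIndex N → r ∣ a) := by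
  classical
  cases nonempty_fintype G
  set m := ⁅N, N⁆.relIndex N with hm
  have hm1 : m ≠ 1 := fun h => not_le_of_gt hN (Subgroup.relIndex_eq_one.1 h)
  obtain ⟨p, hp, hpm⟩ := Nat.exists_prime_and_dvd hm1
  have hpos : ∀ {d : ℕ}, d ∈ Cfsg.relCharDegrees N → 0 < d := by
    rintro d ⟨χ, -, rfl⟩
    exact (CfsgLib.Char.DegreeComponents.degree_spec χ.2).1
  let Full : ℕ → Prop := fun d => ∀ r : ℕ, r.Prime → r ∣ m → r ∣ d
  have hfull : ∀ (a b : ℕ) (ha : a ∈ Cfsg.relCharDegrees N) (hb : b ∈ Cfsg.relCharDegrees N), Full a → Full b →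
      (Cfsg.commonDivisorGraph.induce (Cfsg.relCharDegrees N)).Reachable ⟨a, ha⟩ ⟨b, hb⟩ := by
    intro a b ha hb h1 h2
    obtain ⟨_, _, h⟩ := CfsgLib.Char.DegreeComponents.link_of_dvd ha hb hp.one_lt (h1 p hp hpm) (h2 p hp hpm) (hpos ha)
    exact h
  have hnon : ∀ (a b : ℕ) (ha : a ∈ Cfsg.relCharDegrees N) (hb : b ∈ Cfsg.relCharDegrees N), ¬ Full a → ¬ Full b →
      (Cfsg.commonDivisorGraph.induce (Cfsg.relCharDegrees N)).Reachable ⟨a, ha⟩ ⟨b, hb⟩ := by
    intro a b ha hb h1 h2
    simp only [Full, not_forall] at h1 h2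
    obtain ⟨r, hr, hrm, hra⟩ := h1
    obtain ⟨s, hs, hsm, hsb⟩ := h2
    obtain ⟨_, _, h⟩ := CfsgLib.Char.DegreeComponents.link_nonfull hNG ha hb hr hrm hra hs hsm hsb
    exact h
  refine ⟨?_, ?_⟩
  · let F : (Cfsg.commonDivisorGraph.induce (Cfsg.relCharDegrees N)).ConnectedComponent → Bool := fun C =>
      decide (Full C.out.1)
    have hinj : Function.Injective F := by
      intro C D h
      simp only [F, decide_eq_decide] at h
      rw [← C.out_eq, ← D.out_eq]
      refine SimpleGraph.ConnectedComponent.sound ?_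
      by_cases hC : Full C.out.1
      · exact hfull _ _ C.out.2 D.out.2 hC (h.1 hC)
      · exact hnon _ _ C.out.2 D.out.2 hC (fun hh => hC (h.2 hh))
    exact (Nat.card_le_card_of_injective F hinj).trans (by simp)
  · intro a b ha hb hnr
    have key : ∀ (x y : ℕ) (hx : x ∈ Cfsg.relCharDegrees N) (hy : y ∈ Cfsg.relCharDegrees N),
        ¬ (Cfsg.commonDivisorGraph.induce (Cfsg.relCharDegrees N)).Reachable ⟨x, hx⟩ ⟨y, hy⟩ → ¬ Full x →
        Full y ∧ Nat.Coprime x m := by
      intro x y hx hy hn hfx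
      have hfy : Full y := by
        by_contra hfy
        exact hn (hnon x y hx hy hfx hfy)
      refine ⟨hfy, ?_⟩
      by_contra hc
      obtain ⟨r, hr, hrx, hrm⟩ := Nat.Prime.not_coprime_iff_dvd.1 hc
      obtain ⟨_, _, h⟩ := CfsgLib.Char.DegreeComponents.link_of_dvd hx hy hr.one_lt hrx (hfy r hr hrm) (hpos hx)
      exact hn h
    by_cases hfa : Full a
    · have hfb : ¬ Full b := fun h => hnr (hfull a b ha hb hfa h)
      exact Or.inr ⟨(key b a hb ha (fun h => hnr h.symm) hfb).2, hfa⟩
    · exact Or.inl ⟨(key a b ha hb hnr hfa).2, (key a b ha hb hnr hfa).1⟩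

end Cfsg.Agent.S4776
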