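import Cfsg.Statements.S4779
import Cfsg.Agent.Lib.Char.DegreeComponentsDiam
-- import your own Cfsg.Agent.* helpers here

set_option autoImplicit false
open Cfsg

namespace Cfsg.Agent.S4779

/-- Let N be a solvable normal subgroup of the finite group G contained in the derived subgroup of G, and consider the common-divisor graph on the relative degree set cd(G|N) (degrees of irreducible complex characters of G whose kernel does not contain N, two distinct degrees adjacent when not coprime). If this graph has two vertices that are not joined by any path, then there is a vertex a₀ such that any two distinct vertices in the component of a₀ are adjacent, and any two distinct vertices outside that component are adjacent or have a common neighbour (one component is complete, the other has diameter at most 2). -/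
theorem result {G : Type*} [Group G] [Finite G] (N : Subgroup G) [N.Normal] [Group.IsSolvable N] (hNG : N ≤ commutator G) (hdisc : ¬ (Cfsg.commonDivisorGraph.induce (Cfsg.relCharDegrees N)).Preconnected) : ∃ a₀ : ↥(Cfsg.relCharDegrees N), (∀ b c : ↥(Cfsg.relCharDegrees N), (Cfsg.commonDivisorGraph.induce (Cfsg.relCharDegrees N)).Reachable a₀ b → (Cfsg.commonDivisorGraph.induce (Cfsg.relCharDegrees N)).Reachable a₀ c → b ≠ c → (Cfsg.commonDivisorGraph.induce (Cfsg.relCharDegrees N)).Adj b c) ∧ (∀ b c : ↥(Cfsg.relCharDegrees N), ¬ (Cfsg.commonDivisorGraph.induce (Cfsg.relCharDegrees N)).Reachable a₀ b → ¬ (Cfsg.commonDivisorGraph.induce (Cfsg.relCharDegrees N)).Reachable a₀ c → b ≠ c → (Cfsg.commonDivisorGraph.induce (Cfsg.relCharDegrees N)).Adj b c ∨ ∃ d : ↥(Cfsg.relCharDegrees N), (Cfsg.commonDivisorGraph.induce (Cfsg.relCharDegrees N)).Adj b d ∧ (Cfsg.commonDivisorGraph.induce (Cfsg.relCharDegrees N)).Adj d c) := by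
  classical
  cases nonempty_fintype G
  haveI : Fintype N := Fintype.ofFinite N
  set Γ := Cfsg.commonDivisorGraph.induce (Cfsg.relCharDegrees N) with hΓ
  obtain ⟨u, v, huv⟩ : ∃ u v, ¬ Γ.Reachable u v := by
    by_contra h
    push Not at h
    exact hdisc h
  -- some vertex is divisible by a prime `r` dividing every vertex of its component
  have hN0 : N ≠ ⊥ := by
    rintro rfl
    obtain ⟨χ, ⟨x, hx, hne⟩, -⟩ := u.2
    exact hne (by rw [Subgroup.mem_bot.1 hx])
  have hlt : ⁅N, N⁆ < N := by
    haveI : Nontrivial N := (Subgroup.nontrivial_iff_ne_bot N).2 hN0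
    have h1 := Group.IsSolvable.commutator_lt_top_of_nontrivial N
    refine lt_of_le_of_ne (Subgroup.commutator_le_self N) fun h => h1.ne ?_
    refine Subgroup.map_injective N.subtype_injective ?_
    rw [Subgroup.map_subtype_commutator, h, ← MonoidHom.range_eq_map, Subgroup.range_subtype]
  set m := ⁅N, N⁆.relIndex N with hm
  obtain ⟨r, hr, hrm⟩ := Nat.exists_prime_and_dvd
    (show m ≠ 1 from fun h => not_le_of_gt hlt (Subgroup.relIndex_eq_one.1 h))
  let Full : ℕ → Prop := fun x => ∀ s : ℕ, s.Prime → s ∣ m → s ∣ x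
  have hnon : ∀ x y : ↥(Cfsg.relCharDegrees N), ¬ Full x → ¬ Full y → Γ.Reachable x y := by
    intro x y h1 h2
    simp only [Full, not_forall] at h1 h2
    obtain ⟨s, hs, hsm, hsx⟩ := h1
    obtain ⟨t, ht, htm, hty⟩ := h2
    obtain ⟨_, _, h⟩ := CfsgLib.Char.DegreeComponents.link_nonfull hNG x.2 y.2 hs hsm hsx ht htm hty
    exact h
  obtain ⟨a, b₁, ha, hab⟩ : ∃ a b : ↥(Cfsg.relCharDegrees N), Full a ∧ ¬ Γ.Reachable a b := by
    by_cases hu : Full u
    · exact ⟨u, v, hu, huv⟩
    · exact ⟨v, u, by_contra fun hv => huv (hnon u v hu hv), fun h => huv h.symm⟩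
  have adj : ∀ x y : ↥(Cfsg.relCharDegrees N), x ≠ y → 1 < Nat.gcd x y → Γ.Adj x y := fun x y h1 h2 =>
    ⟨fun e => h1 (Subtype.ext e), h2⟩
  have link : ∀ x y : ↥(Cfsg.relCharDegrees N),
      CfsgLib.Char.DegreeComponents.Link N (x : ℕ) (y : ℕ) ↔ Γ.Reachable x y := fun x y =>
    ⟨fun ⟨_, _, h⟩ => h, fun h => ⟨x.2, y.2, h⟩⟩
  have full_of : ∀ x, Γ.Reachable a x → Full x := by
    intro x hx
    by_contra hfx
    have hfb : Full b₁ := by_contra fun h => hab (hx.trans (hnon x b₁ hfx h))
    have hab' : (a : ℕ) ≠ b₁ := fun e => hab (by rw [Subtype.ext e])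
    exact hab (adj a b₁ (fun e => hab' (congrArg Subtype.val e))
      (CfsgLib.Char.DegreeComponentsDiam.one_lt_gcd hr.one_lt (ha r hr hrm) (hfb r hr hrm)
        (CfsgLib.Char.DegreeComponentsDiam.pos_of_mem a.2))).reachable
  refine ⟨a, fun b c hb hc hbc => adj b c hbc (CfsgLib.Char.DegreeComponentsDiam.one_lt_gcd hr.one_lt
    (full_of b hb r hr hrm) (full_of c hc r hr hrm) (CfsgLib.Char.DegreeComponentsDiam.pos_of_mem b.2)),
    fun b c hb hc hbc => ?_⟩
  rcases CfsgLib.Char.DegreeComponentsDiam.between_of_unlinked hNG b.2 c.2 a.2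
    (fun h => hb ((link b a).1 h).symm) (fun h => hc ((link c a).1 h).symm) with h | ⟨x, hx, h1, h2⟩
  · exact absurd (Subtype.ext h) hbc
  · by_cases hbx : b = ⟨x, hx⟩
    · left
      refine adj b c hbc ?_
      rw [hbx]
      exact h2
    by_cases hxc : (⟨x, hx⟩ : ↥(Cfsg.relCharDegrees N)) = c
    · left
      refine adj b c hbc ?_
      rw [← hxc]
      exact h1
    · exact Or.inr ⟨⟨x, hx⟩, adj _ _ hbx h1, adj _ _ hxc h2⟩

end Cfsg.Agent.S4779
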