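import Cfsg.Statements.S4781
import Cfsg.Agent.Lib.Char.NoDivide.Setup
import Cfsg.Agent.Lib.Char.NoDivide.AbelianCase
import Cfsg.Agent.Lib.Char.NoDivide.NonabelianCase
import Cfsg.Agent.S4456
-- import your own Cfsg.Agent.* helpers here

set_option autoImplicit false
open Cfsg

namespace Cfsg.Agent.S4781

open CfsgLib CfsgLib.Char CfsgLib.Char.LinearOverNormal CfsgLib.Char.DegreeComponents
open CfsgLib.Char.NoDivide
open scoped commutatorElement

universe u

theorem card_degrees {G : Type u} [Group G] [Fintype G] [Group.IsSolvable G] (hnd : ∀ a ∈ Cfsg.charDegrees G, ∀ b ∈ Cfsg.charDegrees G, 1 < a → a < b → ¬ a ∣ b) (htwo : Nat.card ((Cfsg.degreeGraph G).induce (Cfsg.degreePrimes G)).ConnectedComponent = 2) : Nat.card ↥(Cfsg.charDegrees G) = 3 := by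
  classical
  set N : Subgroup G := commutator G with hNdef
  haveI := Fintype.ofFinite N
  have hNG : N ≤ commutator G := le_rfl
  -- nonlinear degrees
  have hrel : ∀ {d}, d ∈ Cfsg.relCharDegrees N → d ∈ Cfsg.charDegrees G ∧ 1 < d := by
    rintro d ⟨χ, ⟨x, hx, hne⟩, rfl⟩
    refine ⟨⟨χ, rfl⟩, ?_⟩
    obtain ⟨h0, h1⟩ := degree_spec χ.2
    by_contra hle
    have hone : (χ : G → ℂ) 1 = 1 := by
      rw [h1, show Cfsg.charDegree (χ : G → ℂ) = 1 by omega, Nat.cast_one]
    obtain ⟨φ, hφ⟩ := exists_hom_of_apply_one_eq_one (IsIrrCharacter.isCharacter χ.2) hone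
    refine hne ?_
    rw [hφ]
    show ((φ x : ℂˣ) : ℂ) = ((φ 1 : ℂˣ) : ℂ)
    rw [show φ x = 1 from Abelianization.commutator_subset_ker φ hx, map_one]
  have hmem : ∀ {d}, d ∈ Cfsg.charDegrees G → 1 < d → d ∈ Cfsg.relCharDegrees N := by
    rintro d ⟨χ, rfl⟩ h1
    refine ⟨χ, ?_, rfl⟩
    by_contra hcon
    push Not at hcon
    rw [DegreeTools.SolvableGraph.charDegree_eq_one_of_trivial χ.2 hcon] at h1
    exact lt_irrefl 1 h1
  have hdiv : ∀ {a b}, a ∈ Cfsg.charDegrees G → b ∈ Cfsg.charDegrees G → 1 < a → 1 < b → a ∣ b →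
      a = b := by
    intro a b ha hb h1 h2 hab
    rcases (Nat.le_of_dvd (by omega) hab).lt_or_eq with h | h
    · exact absurd hab (hnd a ha b hb h1 h)
    · exact h
  -- two unlinked degrees
  obtain ⟨u, v, huv⟩ : ∃ u v : Cfsg.relCharDegrees N,
      ¬ (Cfsg.commonDivisorGraph.induce (Cfsg.relCharDegrees N)).Reachable u v := by
    obtain ⟨A, B, hAB⟩ : ∃ A B : ((Cfsg.degreeGraph G).induce (Cfsg.degreePrimes G)).ConnectedComponent,
        A ≠ B := by
      obtain ⟨A, B, hAB, -⟩ := Nat.card_eq_two_iff.1 htwo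
      exact ⟨A, B, hAB⟩
    obtain ⟨a, ha, hpa⟩ := DegreeTools.SolvableGraph.exists_rel_of_prime A.out.2
    obtain ⟨b, hb, hqb⟩ := DegreeTools.SolvableGraph.exists_rel_of_prime B.out.2
    refine ⟨⟨a, ha⟩, ⟨b, hb⟩, fun ⟨w⟩ => hAB ?_⟩
    rw [← A.out_eq, ← B.out_eq]
    exact SimpleGraph.ConnectedComponent.sound
      (DegreeTools.SolvableGraph.reachable_of_walk w _ _ A.out.2 B.out.2 hpa hqb)
  have hN0 : N ≠ ⊥ := by
    intro h
    obtain ⟨χ, ⟨x, hx, hne⟩, -⟩ := u.2
    rw [h, Subgroup.mem_bot] at hx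
    exact hne (by rw [hx])
  have hlt : ⁅N, N⁆ < N := Group.IsSolvable.commutator_lt_of_ne_bot hN0
  set m := ⁅N, N⁆.relIndex N
  obtain ⟨r, hr, hrm⟩ := Nat.exists_prime_and_dvd
    (show m ≠ 1 from fun h => not_le_of_gt hlt (Subgroup.relIndex_eq_one.1 h))
  have hsame : ∀ {a b}, a ∈ Cfsg.relCharDegrees N → b ∈ Cfsg.relCharDegrees N →
      ((r ∣ a ∧ r ∣ b) ∨ (¬ r ∣ a ∧ ¬ r ∣ b)) → Link N a b := by
    rintro a b ha hb (⟨h1, h2⟩ | ⟨h1, h2⟩)
    · exact link_of_dvd ha hb hr.one_lt h1 h2 (by have := (hrel ha).2; omega)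
    · exact link_nonfull hNG ha hb hr hrm h1 hr hrm h2
  have hsep : ∀ {a b}, r ∣ a → ¬ r ∣ b → ¬ Link N a b := by
    intro a b ha hb hab
    have hall : ∀ z : Cfsg.relCharDegrees N, Link N (z : ℕ) a := fun z => by
      by_cases hz : r ∣ (z : ℕ)
      · exact hsame z.2 hab.1 (Or.inl ⟨hz, ha⟩)
      · exact (hsame z.2 hab.2.1 (Or.inr ⟨hz, hb⟩)).trans' hab.symm'
    obtain ⟨_, _, h⟩ := (hall u).trans' (hall v).symm'
    exact huv h
  obtain ⟨a₁, b₁, ha₁, hb₁, hra, hrb⟩ : ∃ a b, a ∈ Cfsg.relCharDegrees N ∧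
      b ∈ Cfsg.relCharDegrees N ∧ r ∣ a ∧ ¬ r ∣ b := by
    by_cases h1 : r ∣ (u : ℕ) <;> by_cases h2 : r ∣ (v : ℕ)
    · obtain ⟨_, _, h⟩ := hsame u.2 v.2 (Or.inl ⟨h1, h2⟩)
      exact absurd h huv
    · exact ⟨_, _, u.2, v.2, h1, h2⟩
    · exact ⟨_, _, v.2, u.2, h2, h1⟩
    · obtain ⟨_, _, h⟩ := hsame u.2 v.2 (Or.inr ⟨h1, h2⟩)
      exact absurd h huv
  have hcop : ∀ {a b}, a ∈ Cfsg.relCharDegrees N → b ∈ Cfsg.relCharDegrees N → r ∣ a → ¬ r ∣ b →
      Nat.Coprime a b := by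
    intro a b ha hb hra hrb
    by_contra hc
    obtain ⟨p, hp, hpa, hpb⟩ := Nat.Prime.not_coprime_iff_dvd.1 hc
    exact hsep hra hrb (link_of_dvd ha hb hp.one_lt hpa hpb (by have := (hrel ha).2; omega))
  -- a linear character of order `r` of small orbit
  obtain ⟨μ₀, hμ₀⟩ : ∃ μ, Good N r b₁ μ := by
    obtain ⟨⟨χ, hχ⟩, -, hd⟩ := id hb₁
    have hnl : χ 1 ≠ 1 := by
      rw [(degree_spec hχ).2, hd, Ne, Nat.cast_eq_one]
      have := (hrel hb₁).2
      omega
    obtain ⟨θ, hθ, hθ1, hov⟩ := exists_under hχ hnl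
    rcases good_or_multiple hNG hχ hθ hθ1 hov hr (hd.symm ▸ hrb) with h | h
    · rw [hd] at h; exact h
    · obtain ⟨μ, hμ⟩ := exists_order (N := N) hr hrm
      obtain ⟨c, hc, -, hrc⟩ := h μ hμ
      rw [hd] at hc
      exact absurd hc.symm' (hsep hrc hrb)
  have hNstab : ∀ μ : N →* ℂˣ, N ≤ stab (G := G) (fn μ) := fun μ =>
    le_stab (IsIrrCharacter.isClassFunction (isIrrCharacter_hom μ))
  let Cand : Set (N →* ℂˣ) := {μ | μ ≠ 1 ∧ μ ^ r = 1 ∧ ¬ r ∣ (stab (G := G) (fn μ)).index ∧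
    ∃ f : stab (G := G) (fn μ) →* ℂˣ, ∀ n : N, f ⟨n, hNstab μ n.2⟩ = μ n}
  have hcand : Cand.Nonempty := by
    obtain ⟨ho, ξ, hξ, hov, hrξ, -⟩ := hμ₀
    have hpow : μ₀ ^ r = 1 := by
      rw [← ho]
      exact pow_orderOf_eq_one μ₀
    refine ⟨μ₀, fun h => ?_, hpow, exists_ext_stab_of_irr hξ hr hpow hov hrξ⟩
    rw [h, orderOf_one] at ho
    exact hr.ne_one ho.symm
  haveI := hom_finite N
  obtain ⟨ν, ⟨hν1, hνr, hνi, lam, hlam⟩, hmax⟩ := Set.exists_max_image Cand
    (fun μ => Nat.card (stab (G := G) (fn μ))) (Set.toFinite _) hcand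
  let T : Subgroup G := stab (G := G) (fn ν)
  have hNT : N ≤ T := hNstab ν
  haveI hTn : T.Normal := normal_of_commutator_le hNT
  haveI := Fintype.ofFinite T
  let f : ℕ := T.index
  have hf1 : 1 < f := by
    rcases Nat.lt_or_ge 1 f with h | h
    · exact h
    exfalso
    have hf0 : f ≠ 0 := Subgroup.index_ne_zero_of_finite
    have htop : T = ⊤ := Subgroup.index_eq_one.1 (show f = 1 by omega)
    refine hν1 (MonoidHom.ext fun n => ?_)
    let g : G →* ℂˣ := lam.comp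
      (MonoidHom.codRestrict (MonoidHom.id G) T fun x => htop ▸ Subgroup.mem_top x)
    rw [← hlam, MonoidHom.one_apply]
    exact Abelianization.commutator_subset_ker g n.2
  -- `f` is a degree
  obtain ⟨χf, hχf, -, hχf1⟩ := exists_of_extension (isIrrCharacter_hom ν) T hNT
    (fun g => Iff.rfl) (E := fun t => (lam t : ℂ)) (isIrrCharacter_hom lam)
    (fun n => congrArg Units.val (hlam n))
  have hfdeg : f ∈ Cfsg.charDegrees G := by
    refine ⟨⟨χf, hχf⟩, ?_⟩
    have h := (degree_spec hχf).2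
    rw [hχf1] at h
    simp at h
    exact_mod_cast h.symm
  have hfrel : f ∈ Cfsg.relCharDegrees N := hmem hfdeg hf1
  -- the orbit group
  let W : Subgroup (N →* ℂˣ) :=
    { carrier := {μ | μ ^ r = 1 ∧ (∀ t ∈ T, cj t μ = μ) ∧ ∃ g : T →* ℂˣ, ∀ n : N, g ⟨n, hNT n.2⟩ = μ n}
      one_mem' := ⟨one_pow r, fun t _ => by ext n; simp [cj], 1, fun n => rfl⟩
      mul_mem' := fun {a b} ⟨ha, ha', g, hg⟩ ⟨hb, hb', g', hg'⟩ =>
        ⟨by rw [lp_mul_pow, ha, hb]; exact one_mul (1 : N →* ℂˣ), fun t ht => by rw [cj_mul, ha' t ht, hb' t ht],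
          g * g', fun n => by rw [MonoidHom.mul_apply, MonoidHom.mul_apply, hg, hg']⟩
      inv_mem' := fun {a} ⟨ha, ha', g, hg⟩ => by
        refine ⟨?_, fun t ht => ?_, g⁻¹, fun n => by rw [MonoidHom.inv_apply, MonoidHom.inv_apply, hg]⟩
        · ext n
          have := DFunLike.congr_fun ha n
          simp only [MonoidHom.pow_apply, MonoidHom.one_apply] at this
          simp [inv_pow, this]
        · ext n
          have := DFunLike.congr_fun (ha' t ht) n
          simp only [cj, MonoidHom.comp_apply, MonoidHom.inv_apply] at this ⊢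
          rw [this] }
  have hWstab : ∀ μ ∈ W, μ ≠ 1 → stab (G := G) (fn μ) = T := by
    rintro μ ⟨h1, h2, g, hg⟩ hne
    have hle : T ≤ stab (G := G) (fn μ) := fun t ht => mem_stab_fn.2 (h2 t ht)
    have hC : μ ∈ Cand := by
      refine ⟨hne, h1, fun h => hνi (h.trans (Subgroup.index_dvd_of_le hle)), ?_⟩
      exact exists_ext_coprime_index hNT hle hr h1 hνi (fun x hx => mem_stab_fn.1 hx) hg
    exact (Subgroup.eq_of_le_of_card_ge hle (hmax μ hC)).symm
  have hconj : ∀ g : G, cj g ν ∈ W := fun g => by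
    refine ⟨?_, fun t ht => ?_, lam.comp (MulAut.conjNormal g : MulAut T).toMonoidHom, fun n => ?_⟩
    · rw [← cj_pow, hνr]
      ext n; simp [cj]
    · rw [← cj_comp, show g * t = g * t * g⁻¹ * g by group, cj_comp,
        mem_stab_fn.1 (hTn.conj_mem t ht g)]
    · show lam (MulAut.conjNormal g ⟨(n : G), hNT n.2⟩) = ν (MulAut.conjNormal g n)
      rw [← hlam]
      exact congrArg lam (Subtype.ext (by simp))
  have hWcard : f < Nat.card W := by
    let F : Option (G ⧸ T) → W := fun o => o.elim 1 fun q =>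
      ⟨cj q.out⁻¹ ν, hconj _⟩
    have hF : Function.Injective F := by
      rintro (_ | q) (_ | q') h
      · rfl
      · exfalso
        have h' : cj q'.out⁻¹ ν = 1 := (congrArg Subtype.val h).symm
        refine hν1 ?_
        rw [← cj_one (G := G) ν, ← inv_mul_cancel q'.out, cj_comp, h']
        ext n; simp [cj]
      · exfalso
        have h' : cj q.out⁻¹ ν = 1 := congrArg Subtype.val h
        refine hν1 ?_
        rw [← cj_one (G := G) ν, ← inv_mul_cancel q.out, cj_comp, h']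
        ext n; simp [cj]
      · have h' : cj q.out⁻¹ ν = cj q'.out⁻¹ ν := congrArg Subtype.val h
        have hm : q.out⁻¹ * q'.out ∈ T := mem_stab_fn.2 (by
          rw [cj_comp, h', ← cj_comp, inv_mul_cancel, cj_one])
        refine congrArg some ?_
        rw [← q.out_eq, ← q'.out_eq]
        exact QuotientGroup.eq.2 hm
    have h := Nat.card_le_card_of_injective F hF
    rw [Finite.card_option] at h
    exact h
  have hnlT : ∀ ψ : T → ℂ, Cfsg.IsIrrCharacter T ψ → ∀ k : ℕ, ψ 1 = k → ψ 1 ≠ 1 → r ∣ k := by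
    intro ψ hψ k hk hnl
    by_contra hrk
    obtain ⟨θ, hθ, hθ1, hstab⟩ := exists_twist_stab hNT hr W (fun μ hμ => hμ.1) hWstab hWcard
      (fun μ hμ => hμ.2.2) hψ hk hrk
    obtain ⟨χ, hχ, -, hχ1⟩ := exists_of_extension hθ T le_rfl hstab hθ fun t => rfl
    have hd : Cfsg.charDegree χ = f * k := by
      have h := (degree_spec hχ).2
      rw [hχ1, hθ1, ← Nat.cast_mul] at h
      exact_mod_cast h.symm
    have hk1 : k ≠ 1 := fun e => hnl (by rw [hk, e, Nat.cast_one])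
    have hk0 : k ≠ 0 := fun e => IsIrrCharacter.apply_one_ne_zero hψ (by rw [hk, e, Nat.cast_zero])
    have hlt' : f < f * k := lt_mul_right (by omega) (by omega)
    exact hnd f hfdeg _ ⟨⟨χ, hχ⟩, hd⟩ hf1 hlt' (dvd_mul_right f k)
  have hup : ∀ ψ : T → ℂ, Cfsg.IsIrrCharacter T ψ → ∀ χ : G → ℂ, Cfsg.IsIrrCharacter G χ →
      Over χ ψ → ∀ k : ℕ, ψ 1 = k → ψ 1 ≠ 1 →
        stab (G := G) ψ = ⊤ ∧ Cfsg.charDegree χ = k ∧ Nat.Coprime k f := by
    intro ψ hψ χ hχ hov k hk hnl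
    obtain ⟨hc0, hc⟩ := degree_spec hχ
    have hdvd := index_stab_mul_dvd hχ hψ hov hc hk
    obtain ⟨e, he, hef⟩ := CharDeep.Relative.degree_ratio_dvd hχ T hψ hov
    rw [hc, hk, ← Nat.cast_mul, Nat.cast_inj] at he
    have hrk := hnlT ψ hψ k hk hnl
    have hrc : r ∣ Cfsg.charDegree χ := he ▸ hrk.mul_left e
    have hc1 : 1 < Cfsg.charDegree χ :=
      lt_of_lt_of_le hr.one_lt (Nat.le_of_dvd hc0 hrc)
    have hcf : Nat.Coprime (Cfsg.charDegree χ) f :=
      hcop (hmem ⟨⟨χ, hχ⟩, rfl⟩ hc1) hfrel hrc hνi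
    have he1 : e = 1 := Nat.eq_one_of_dvd_coprimes hcf (he ▸ dvd_mul_right e k) hef
    rw [he1, one_mul] at he
    refine ⟨Subgroup.index_eq_one.1 ?_, he, he ▸ hcf⟩
    rw [he] at hdvd
    have hk0 : 0 < k := he ▸ hc0
    have h := Nat.le_of_dvd hk0 hdvd
    have h0 : (stab (G := G) ψ).index ≠ 0 := Subgroup.index_ne_zero_of_finite
    by_contra hne
    have : 2 * k ≤ (stab (G := G) ψ).index * k := Nat.mul_le_mul_right k (by omega)
    omega
  have hdeg : ∀ ψ : T → ℂ, Cfsg.IsIrrCharacter T ψ → ∀ k : ℕ, ψ 1 = k → ψ 1 ≠ 1 →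
      stab (G := G) ψ = ⊤ ∧ k ∈ Cfsg.charDegrees G ∧ Nat.Coprime k f ∧ 1 < k := by
    intro ψ hψ k hk hnl
    obtain ⟨χ, hχ, hov⟩ := exists_over (G := G) hψ
    obtain ⟨h1, h2, h3⟩ := hup ψ hψ χ hχ hov k hk hnl
    refine ⟨h1, ⟨⟨χ, hχ⟩, h2⟩, h3, lt_of_lt_of_le hr.one_lt
      (Nat.le_of_dvd (h2 ▸ (degree_spec hχ).1) (hnlT ψ hψ k hk hnl))⟩
  have hanti : ∀ χ ψ : T → ℂ, Cfsg.IsIrrCharacter T χ → Cfsg.IsIrrCharacter T ψ → χ 1 ≠ 1 → ψ 1 ≠ 1 →
      ∀ a b : ℕ, χ 1 = a → ψ 1 = b → a ∣ b → a = b := by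
    intro χ ψ hχ hψ h1 h2 a b ha hb hab
    obtain ⟨-, hac, -, ha1⟩ := hdeg χ hχ a ha h1
    obtain ⟨-, hbc, -, hb1⟩ := hdeg ψ hψ b hb h2
    exact hdiv hac hbc ha1 hb1 hab
  -- an element of prime order modulo `T`
  obtain ⟨l, hl, hlf⟩ := Nat.exists_prime_and_dvd (show f ≠ 1 by omega)
  haveI := Fact.mk hl
  obtain ⟨q, hq⟩ := exists_prime_orderOf_dvd_card' (G := G ⧸ T) l hlf
  obtain ⟨g₀, rfl⟩ := QuotientGroup.mk_surjective q
  obtain ⟨i, j, hj, hn⟩ := Nat.exists_eq_pow_mul_and_not_dvd (orderOf_pos g₀).ne' l hl.ne_one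
  set g := g₀ ^ j with hg
  have hgT : g ∉ T := fun h => hj (hq ▸ orderOf_dvd_of_pow_eq_one
    (by rw [← QuotientGroup.mk_pow, QuotientGroup.eq_one_iff]; exact h))
  have hglT : g ^ l ∈ T := by
    rw [← QuotientGroup.eq_one_iff, hg, QuotientGroup.mk_pow, QuotientGroup.mk_pow, ← pow_mul,
      mul_comm, pow_mul, ← hq, pow_orderOf_eq_one, one_pow]
  have hgord : g ^ l ^ i = 1 := by rw [hg, ← pow_mul, mul_comm, ← hn, pow_orderOf_eq_one]
  let σ : MulAut T := MulAut.conjNormal g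
  let t₀ : T := ⟨g ^ l, hglT⟩
  have ht₀ : ∃ i, orderOf t₀ = l ^ i := by
    have h : orderOf t₀ ∣ l ^ i := orderOf_dvd_of_pow_eq_one (Subtype.ext (by
      show (g ^ l) ^ l ^ i = 1
      rw [← pow_mul, mul_comm, pow_mul, hgord, one_pow]))
    obtain ⟨j, -, hj⟩ := (Nat.dvd_prime_pow hl).1 h
    exact ⟨j, hj⟩
  have hσl : ∀ y, (σ ^ l) y = t₀ * y * t₀⁻¹ := fun y => Subtype.ext (by
    rw [show σ ^ l = (MulAut.conjNormal (g ^ l) : MulAut T) from (map_pow _ g l).symm,
      MulAut.conjNormal_apply]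
    rfl)
  have hfix : ∀ χ : T → ℂ, Cfsg.IsIrrCharacter T χ → χ 1 ≠ 1 → χ ∘ σ = χ := by
    intro χ hχ hnl
    obtain ⟨k, -, hk⟩ := IsIrrCharacter.apply_one_eq hχ
    have h : g ∈ stab (G := G) χ := (hdeg χ hχ k hk hnl).1 ▸ Subgroup.mem_top g
    rw [mem_stab, conjG_eq_comp] at h
    exact h
  have hlk : ∀ χ : T → ℂ, Cfsg.IsIrrCharacter T χ → χ 1 ≠ 1 → ∀ k : ℕ, χ 1 = k → ¬ l ∣ k := by
    intro χ hχ hnl k hk hlk
    exact hl.one_lt.ne' (Nat.eq_one_of_dvd_coprimes (hdeg χ hχ k hk hnl).2.2.1 hlk hlf)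
  have hequal : ∀ χ ψ : T → ℂ, Cfsg.IsIrrCharacter T χ → Cfsg.IsIrrCharacter T ψ → χ 1 ≠ 1 →
      ψ 1 ≠ 1 → χ 1 = ψ 1 := by
    haveI := Fact.mk hr
    obtain ⟨M, hMn, hMc, n, hMi⟩ := Cfsg.Agent.S4456.result (G := T) r hr (fun χ hχ => by
      obtain ⟨k, -, hk⟩ := IsIrrCharacter.apply_one_eq χ.2
      have h := (degree_spec χ.2).2
      have hk' : Cfsg.charDegree (χ : T → ℂ) = k := by
        rw [h] at hk; exact_mod_cast hk
      rw [hk'] at hχ ⊢
      exact hnlT _ χ.2 k hk fun e => hχ (by rw [hk] at e; exact_mod_cast e))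
    have hcopM : (Nat.card M).Coprime M.index := by
      rw [hMi]
      exact Nat.Coprime.pow_right _ hMc
    by_cases hnab : ∃ a b : T, ⁅a, b⁆ ∉ M
    · exact degree_eq_of_quotient hr M hcopM hMi hnab hanti
    push Not at hnab
    have hUM : commutator T ≤ M :=
      (commutator_def T).le.trans (Subgroup.commutator_le.2 fun a _ b _ => hnab a b)
    have hrU : ¬ r ∣ Nat.card (commutator T) := fun h =>
      (hr.coprime_iff_not_dvd.1 hMc.symm) (h.trans (Subgroup.card_dvd_of_le hUM))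
    -- a moved element
    obtain ⟨n₀, hn₀⟩ : ∃ n : N, ν (MulAut.conjNormal g n) ≠ ν n := by
      by_contra hall
      push Not at hall
      exact hgT (mem_stab_fn.2 (MonoidHom.ext hall))
    let y : T := ⟨(n₀ : G), hNT n₀.2⟩
    let A := Abelianization T
    let δ : T →* A := MonoidHom.mk' (fun t => Abelianization.of (σ t) / Abelianization.of t)
      fun a b => by simp [mul_div_mul_comm]
    let L : A →* ℂˣ := Abelianization.lift lam
    have hL : L (δ y) = ν (MulAut.conjNormal g n₀) / ν n₀ := by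
      show L (Abelianization.of (σ y) / Abelianization.of y) = _
      rw [map_div, Abelianization.lift_apply_of, Abelianization.lift_apply_of, ← hlam, ← hlam]
      congr 2
    have hLr : L (δ y) ^ r = 1 := by
      rw [hL, div_pow, ← MonoidHom.pow_apply, ← MonoidHom.pow_apply, hνr, MonoidHom.one_apply,
        MonoidHom.one_apply, div_one]
    have hord : r ∣ orderOf (δ y) := by
      have h1 : orderOf (L (δ y)) = r := orderOf_eq_prime hLr (by rw [hL]; exact div_ne_one.2 hn₀)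
      exact h1 ▸ orderOf_map_dvd L (δ y)
    set e := orderOf (δ y) / r
    set z := δ (y ^ e) with hz
    have hz_ord : orderOf z = r := by
      rw [hz, map_pow]
      have he : e ≠ 0 := Nat.div_ne_zero_iff.2
        ⟨hr.ne_zero, Nat.le_of_dvd (orderOf_pos _) hord⟩
      rw [orderOf_pow' _ he, Nat.gcd_eq_right (Nat.div_dvd_of_dvd hord),
        Nat.div_div_self hord (orderOf_pos _).ne']
    obtain ⟨x₀, hx₀⟩ := QuotientGroup.mk_surjective z
    obtain ⟨b, hb⟩ : ∃ b : ℕ, (z ^ Nat.card (commutator T)) ^ b = z :=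
      exists_pow_eq_self_of_coprime (by rw [hz_ord]; exact ((hr.coprime_iff_not_dvd).2 hrU).symm)
    set x : T := x₀ ^ (Nat.card (commutator T) * b) with hx
    have hxz : Abelianization.of x = z := by
      rw [hx, map_pow, pow_mul]
      exact (congrArg (fun w => (w ^ Nat.card (commutator T)) ^ b) hx₀).trans hb
    have hxr : x ^ r = 1 := by
      have h : x₀ ^ r ∈ commutator T := by
        rw [← QuotientGroup.eq_one_iff, QuotientGroup.mk_pow]
        show (Abelianization.of x₀) ^ r = 1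
        rw [show Abelianization.of x₀ = z from hx₀, ← hz_ord, pow_orderOf_eq_one]
      have h' := congrArg Subtype.val (pow_card_eq_one' (x := (⟨x₀ ^ r, h⟩ : commutator T)))
      simp only [Subgroup.coe_pow, Subgroup.coe_one] at h'
      rw [hx, ← pow_mul, show Nat.card (commutator T) * b * r = r * Nat.card (commutator T) * b by
        ring, pow_mul, pow_mul, h', one_pow]
    have hxm : σ x * x⁻¹ ∉ commutator T := by
      intro hh
      have h1 : Abelianization.of (σ x) = Abelianization.of x := mul_inv_mem_iff.1 hh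
      have hzf : MulEquiv.abelianizationCongr σ z = z := by
        rw [← hxz, abelianizationCongr_of, h1]
      -- a fixed displacement has exponent `l`
      have key : ∀ k : ℕ, Abelianization.of ((σ ^ k) (y ^ e)) = z ^ k * Abelianization.of (y ^ e) := by
        intro k
        induction k with
        | zero => simp
        | succ k ih =>
          rw [pow_succ', MulAut.mul_apply, ← abelianizationCongr_of σ, ih, map_mul, map_pow, hzf,
            abelianizationCongr_of, pow_succ, mul_assoc]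
          congr 1
          show _ = δ (y ^ e) * _
          exact (div_mul_cancel _ _).symm
      have h2 := key l
      rw [hσl, map_mul, map_mul, map_inv, mul_right_comm, mul_inv_cancel, one_mul] at h2
      have h3 : z ^ l = 1 := mul_eq_right.1 h2.symm
      have h4 : r ∣ l := hz_ord ▸ orderOf_dvd_of_pow_eq_one h3
      exact hνi (((Nat.prime_dvd_prime_iff_eq hr hl).1 h4).symm ▸ hlf)
    exact degree_eq_of_moved σ hl t₀ ht₀ hσl hfix hlk hr hxr hxm hrU hanti
  -- the third degree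
  have hclass : ∀ χ : G → ℂ, Cfsg.IsIrrCharacter G χ → 1 < Cfsg.charDegree χ →
      Cfsg.charDegree χ = f ∨ ∃ ψ : T → ℂ, Cfsg.IsIrrCharacter T ψ ∧ ψ 1 ≠ 1 ∧
        ψ 1 = (Cfsg.charDegree χ : ℂ) := by
    intro χ hχ h1
    obtain ⟨ψ, hψ, hne⟩ := IsCharacter.exists_constituent
      (IsCharacter.restrict (IsIrrCharacter.isCharacter hχ) T)
      (fun h0 => IsIrrCharacter.apply_one_ne_zero hχ (congrFun h0 1))
    obtain ⟨k, -, hk⟩ := IsIrrCharacter.apply_one_eq hψ
    by_cases hl1 : ψ 1 = 1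
    · left
      obtain ⟨e, he, hef⟩ := CharDeep.Relative.degree_ratio_dvd hχ T hψ hne
      rw [hl1, mul_one, (degree_spec hχ).2, Nat.cast_inj] at he
      exact hdiv ⟨⟨χ, hχ⟩, rfl⟩ hfdeg h1 hf1 (he ▸ hef)
    · exact Or.inr ⟨ψ, hψ, hl1, by rw [hk, (hup ψ hψ χ hχ hne k hk hl1).2.1]⟩
  obtain ⟨⟨χa, hχa⟩, -, ha⟩ := id ha₁
  simp only at ha
  rcases hclass χa hχa (by rw [ha]; exact (hrel ha₁).2) with h | ⟨ψa, hψa, hψa1, hψad⟩
  · rw [ha] at h
    exact absurd (show r ∣ f by rw [← h]; exact hra) hνi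
  rw [ha] at hψad
  have hset : Cfsg.charDegrees G = {1, f, a₁} := by
    ext d
    constructor
    · rintro ⟨⟨χ, hχ⟩, rfl⟩
      have h0 := (degree_spec hχ).1
      rcases Nat.lt_or_ge 1 (Cfsg.charDegree χ) with h1 | h1
      · rcases hclass χ hχ h1 with h | ⟨ψ, hψ, hψ1, hψd⟩
        · exact Or.inr (Or.inl h)
        · refine Or.inr (Or.inr ?_)
          have h := hequal ψ ψa hψ hψa hψ1 hψa1
          rw [hψd, hψad, Nat.cast_inj] at h
          exact h
      · refine Or.inl ?_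
        show Cfsg.charDegree χ = 1
        omega
    · rintro (rfl | rfl | rfl)
      · exact ⟨⟨fun _ => 1, isIrrCharacter_one⟩, by simp [Cfsg.charDegree]⟩
      · exact hfdeg
      · exact (hrel ha₁).1
  have ha1 : 1 < a₁ := (hrel ha₁).2
  have haf : a₁ ≠ f := fun e => hνi (show r ∣ f by rw [← e]; exact hra)
  rw [hset, Nat.card_coe_set_eq]
  exact Set.ncard_eq_three.2 ⟨1, f, a₁, by omega, by omega, fun e => haf e.symm, rfl⟩

/-- Let G be a finite solvable group in which no irreducible complex character degree a with 1 < a divides a larger irreducible character degree, and suppose the character degree graph of G (primes dividing some degree, distinct primes adjacent when their product divides a degree) has exactly two connected components. Then G has exactly three distinct irreducible character degrees. -/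
theorem result {G : Type*} [Group G] [Finite G] [Group.IsSolvable G] (hnd : ∀ a ∈ Cfsg.charDegrees G, ∀ b ∈ Cfsg.charDegrees G, 1 < a → a < b → ¬ a ∣ b) (htwo : Nat.card ((Cfsg.degreeGraph G).induce (Cfsg.degreePrimes G)).ConnectedComponent = 2) : Nat.card ↥(Cfsg.charDegrees G) = 3 := by
  cases nonempty_fintype G
  exact card_degrees hnd htwo

end Cfsg.Agent.S4781
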