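import Cfsg.Statements.S4873
import Cfsg.Agent.Lib.Char.FS
import Cfsg.Agent.Lib.Char.Clifford
import Cfsg.Agent.Lib.Blocks.SecondMainBlocks
import Cfsg.Agent.Lib.DegreeTools.Basic

set_option autoImplicit false
open Cfsg

namespace Cfsg.Agent.S4873

open CfsgLib.Char
open scoped Classical ComplexConjugate

theorem sum_subgroup {G : Type*} [Group G] [Fintype G] (N : Subgroup G) {f : G → ℂ}
    (hf : ∀ g ∉ N, f g = 0) : ∑ g, f g = ∑ n : N, f n := by
  rw [← Finset.sum_subset (Finset.subset_univ (Finset.univ.filter (· ∈ N)))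
    (fun g _ hg => hf g (by simpa using hg))]
  exact Finset.sum_subtype _ (fun g => by simp) _

/-- A group element conjugate to its inverse modulo a normal subgroup of odd index lies in it. -/
theorem mem_of_isConj_inv {G : Type*} [Group G] [Finite G] (N : Subgroup G) [N.Normal]
    (hodd : Odd N.index) {g : G} {n : G} (hn : n ∈ N) (h : IsConj (g * n) g⁻¹) : g ∈ N := by
  have ho : ∀ z : G ⧸ N, Odd (orderOf z) := fun z =>
    Odd.of_dvd_nat hodd (Subgroup.index_eq_card N ▸ orderOf_dvd_natCard z)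
  obtain ⟨u, hu⟩ := isConj_iff.1 h
  set a : G ⧸ N := QuotientGroup.mk' N g
  set y : G ⧸ N := QuotientGroup.mk' N u
  have hy : y * a * y⁻¹ = a⁻¹ := by
    have := congrArg (QuotientGroup.mk' N) hu
    rw [map_mul, map_mul, map_mul, map_inv, map_inv,
      show QuotientGroup.mk' N n = 1 from (QuotientGroup.eq_one_iff n).2 hn, mul_one] at this
    exact this
  have hy2 : Commute (y ^ 2) a := by
    have h2 : y ^ 2 * a * (y ^ 2)⁻¹ = a := by
      calc y ^ 2 * a * (y ^ 2)⁻¹ = y * (y * a * y⁻¹) * y⁻¹ := by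
            simp [pow_two, mul_assoc, mul_inv_rev]
        _ = y * a⁻¹ * y⁻¹ := by rw [hy]
        _ = (y * a * y⁻¹)⁻¹ := by group
        _ = a := by rw [hy, inv_inv]
    exact mul_inv_eq_iff_eq_mul.1 h2
  obtain ⟨k, hk⟩ := ho y
  have hya : Commute y a := by
    have e : (y ^ 2) ^ (k + 1) = y := by
      rw [← pow_mul, show 2 * (k + 1) = orderOf y + 1 by omega, pow_succ, pow_orderOf_eq_one,
        one_mul]
    exact e ▸ hy2.pow_left (k + 1)
  have ha2 : a ^ 2 = 1 := by
    rw [hya.eq, mul_inv_cancel_right] at hy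
    rw [pow_two]
    nth_rewrite 1 [hy]
    exact inv_mul_cancel a
  obtain ⟨k', hk'⟩ := ho a
  have h1 : orderOf a = 1 := by
    have := Nat.le_of_dvd (by norm_num) (orderOf_dvd_of_pow_eq_one ha2)
    omega
  exact (QuotientGroup.eq_one_iff g).1 (orderOf_eq_one_iff.1 h1)

/-- Let N be a normal subgroup of odd index in the finite group G. Then every irreducible complex character of N with Frobenius–Schur indicator +1 lies under exactly one irreducible character of G with Frobenius–Schur indicator +1. -/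
theorem result {G : Type*} [Group G] [Finite G] (N : Subgroup G) [N.Normal] (hodd : Odd N.index) (φ : Cfsg.IrrCharacter ↥N) (hφ : (Nat.card ↥N : ℂ)⁻¹ * ∑ᶠ g : ↥N, (φ : ↥N → ℂ) (g * g) = 1) : ∃! χ : Cfsg.IrrCharacter G, (Nat.card G : ℂ)⁻¹ * ∑ᶠ g : G, (χ : G → ℂ) (g * g) = 1 ∧ (∑ᶠ n : ↥N, (χ : G → ℂ) n * (starRingEnd ℂ) ((φ : ↥N → ℂ) n)) ≠ 0 := by
  have := Fintype.ofFinite G
  simp only [finsum_eq_sum_of_fintype] at hφ ⊢
  have hG0 := card_ne_zero (G := G)
  have hN0 := card_ne_zero (G := N)
  -- φ is real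
  have hφreal : ∀ n : N, conj ((φ : N → ℂ) n) = (φ : N → ℂ) n := by
    obtain ⟨d, ρ, hρ, he⟩ := φ.2
    have := hρ
    have h := (frobeniusSchur ρ).2
    simp only [he, hφ, one_ne_zero, false_iff, not_exists, not_not] at h
    exact fun n => Complex.conj_eq_iff_im.2 (h n)
  set R := Cfsg.indFun N (φ : N → ℂ)
  have hRoff : ∀ g ∉ N, R g = 0 := fun g hg => indFun_eq_zero_of_normal N _ hg
  have hRreal : ∀ g, conj (R g) = R g := by
    intro g
    by_cases hg : g ∈ N
    · have h := indFun_apply_of_normal N (φ : N → ℂ) ⟨g, hg⟩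
      change R g = _ at h
      rw [h, map_mul, map_inv₀, map_natCast, map_sum]
      simp only [hφreal]
    · rw [hRoff g hg, map_zero]
  have hRc := IsCharacter.indFun N (isCharacter_irr φ)
  have hRcl : IsClassFunction G R := IsCharacter.isClassFunction hRc
  obtain ⟨m, hm, hexp⟩ := IsCharacter.exists_multiplicity hRc
  set K : ℂ := (Nat.card (stab (G := G) (φ : N → ℂ)) : ℂ) / (Nat.card N : ℂ)
  have hRR : classInner R R = K := classInner_indFun_irr φ.2 φ.2
  have hK0 : K ≠ 0 := div_ne_zero card_ne_zero hN0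
  have hmK : ∑ χ, (m χ : ℂ) * (m χ : ℂ) = K := by
    rw [← hRR, classInner_eq_sum_irr hRcl]
    refine Finset.sum_congr rfl fun χ _ => ?_
    rw [IsCharacter.classInner_comm (isCharacter_irr χ) hRc, hm]
  have hmres : ∀ χ : IrrCharacter G,
      classInner (fun n : N => (χ : G → ℂ) n) (φ : N → ℂ) = m χ := fun χ => by
    rw [IsCharacter.classInner_comm (IsCharacter.restrict (isCharacter_irr χ) N) (isCharacter_irr φ),
      ← classInner_indFun N (φ : N → ℂ) (IsIrrCharacter.isClassFunction χ.2), hm]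
  have hcliff : ∀ χ : IrrCharacter G, m χ ≠ 0 → ∀ n : N,
      K * (χ : G → ℂ) n = (m χ : ℂ) * R n := by
    intro χ hχ n
    have h1 := restrict_eq_smul_orbit χ.2 φ.2 (by rw [hmres]; exact_mod_cast hχ)
    rw [hmres] at h1
    have h2 := congrFun h1 n
    have h3 := congrFun (indFun_restrict (G := G) (φ : N → ℂ)) n
    rw [sum_conjG (φ : N → ℂ) (fun ψ => ψ)] at h3
    simp only [Pi.smul_apply, smul_eq_mul] at h2 h3
    rw [h2, show R n = _ from h3]
    simp only [K]
    ring
  -- the real characters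
  let real : IrrCharacter G → Prop := fun χ => ∀ g, conj ((χ : G → ℂ) g) = (χ : G → ℂ) g
  have hsq : ∀ χ : IrrCharacter G, ∑ g, (χ : G → ℂ) g * (χ : G → ℂ) g
      = if real χ then (Nat.card G : ℂ) else 0 := by
    intro χ
    have h := classInner_irr χ.2 (IsIrrCharacter.conj' χ.2)
    simp only [Cfsg.classInner, Complex.conj_conj] at h
    rw [inv_mul_eq_iff_eq_mul₀ hG0] at h
    rw [h]
    by_cases hr : real χ
    · rw [if_pos hr, if_pos (funext fun g => (hr g).symm), mul_one]
    · rw [if_neg hr, if_neg (fun he => hr fun g => (congrFun he g).symm), mul_zero]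
  let w : IrrCharacter G → ℂ := fun χ => (m χ : ℂ) / (χ : G → ℂ) 1
  let F : G → ℂ := fun g => ∑ χ, w χ * ((χ : G → ℂ) g * (χ : G → ℂ) g)
  have hom : ∀ χ : IrrCharacter G,
      CfsgLib.Blocks.omega (χ : G → ℂ) R = (Nat.card G : ℂ) * w χ := by
    intro χ
    have h := hm χ
    rw [IsCharacter.classInner_comm hRc (isCharacter_irr χ)] at h
    simp only [Cfsg.classInner] at h
    rw [inv_mul_eq_iff_eq_mul₀ hG0] at h
    simp only [CfsgLib.Blocks.omega, w, mul_comm (R _)]
    rw [← mul_div_assoc, ← h]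
    congr 1
    exact Finset.sum_congr rfl fun g _ => congrArg _ (hRreal g).symm
  have hFoff : ∀ g ∉ N, F g = 0 := by
    intro g hg
    apply mul_left_cancel₀ hG0
    rw [mul_zero]
    calc (Nat.card G : ℂ) * F g
        = ∑ χ : IrrCharacter G, ((Nat.card G : ℂ) * w χ * (χ : G → ℂ) g) * (χ : G → ℂ) g := by
          simp only [F, Finset.mul_sum]
          exact Finset.sum_congr rfl fun χ _ => by ring
      _ = ∑ h, R h * ∑ χ : IrrCharacter G, (χ : G → ℂ) (g * h) * conj ((χ : G → ℂ) g⁻¹) := by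
          simp only [← hom, ← CfsgLib.Blocks.sum_classFun_mul_char _ hRcl g, Finset.sum_mul,
            Finset.mul_sum]
          rw [Finset.sum_comm]
          refine Finset.sum_congr rfl fun h _ => Finset.sum_congr rfl fun χ _ => ?_
          rw [IsIrrCharacter.apply_inv χ.2, Complex.conj_conj]
          ring
      _ = 0 := by
          refine Finset.sum_eq_zero fun h _ => ?_
          by_cases hh : h ∈ N
          · rw [sum_irr_mul_conj, if_neg (fun hc => hg (mem_of_isConj_inv N hodd hh hc)), mul_zero]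
          · rw [hRoff h hh, zero_mul]
  have hR1 : R 1 ≠ 0 := by
    rw [show R 1 = _ from indFun_one N (φ : N → ℂ)]
    exact mul_ne_zero (by exact_mod_cast Subgroup.index_ne_zero_of_finite)
      (IsIrrCharacter.apply_one_ne_zero φ.2)
  have hw : ∀ χ : IrrCharacter G, m χ ≠ 0 → w χ = K / R 1 := by
    intro χ hχ
    have h := hcliff χ hχ 1
    rw [OneMemClass.coe_one] at h
    simp only [w]
    rw [div_eq_div_iff (IsIrrCharacter.apply_one_ne_zero χ.2) hR1]
    linear_combination -h
  have hR2 : ∑ n : N, R n * R n = (Nat.card G : ℂ) * K := by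
    rw [← sum_subgroup N (f := fun g => R g * R g) fun g hg => by rw [hRoff g hg, zero_mul], ← hRR,
      Cfsg.classInner, mul_inv_cancel_left₀ hG0]
    simp only [hRreal]
  have hcount : ∑ χ : IrrCharacter G, (if real χ ∧ m χ ≠ 0 then (1 : ℂ) else 0) = 1 := by
    have hc : K / R 1 * (Nat.card G : ℂ) ≠ 0 := mul_ne_zero (div_ne_zero hK0 hR1) hG0
    apply mul_left_cancel₀ hc
    rw [mul_one, Finset.mul_sum]
    calc ∑ χ : IrrCharacter G, K / R 1 * (Nat.card G : ℂ) * (if real χ ∧ m χ ≠ 0 then (1 : ℂ) else 0)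
        = ∑ g, F g := by
          simp only [F]
          rw [Finset.sum_comm]
          refine Finset.sum_congr rfl fun χ _ => ?_
          rw [← Finset.mul_sum, hsq]
          by_cases h0 : m χ = 0
          · simp [h0, w]
          · rw [hw χ h0]
            by_cases hr : real χ
            · simp [hr, h0]
            · simp [hr]
      _ = ∑ χ : IrrCharacter G, K / R 1 * ((Nat.card G : ℂ) / K) * ((m χ : ℂ) * (m χ : ℂ)) := by
          rw [sum_subgroup N hFoff]
          simp only [F]
          rw [Finset.sum_comm]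
          refine Finset.sum_congr rfl fun χ _ => ?_
          rw [← Finset.mul_sum]
          by_cases h0 : m χ = 0
          · simp [h0, w]
          · have e : ∀ n : N, (χ : G → ℂ) n = (m χ : ℂ) / K * R n := fun n => by
              rw [div_mul_eq_mul_div, ← hcliff χ h0 n, mul_div_cancel_left₀ _ hK0]
            simp only [e, mul_mul_mul_comm _ (R _), ← Finset.mul_sum, hR2, hw χ h0]
            field_simp
      _ = _ := by
          rw [← Finset.mul_sum, hmK]
          field_simp
  -- indicators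
  let ν : IrrCharacter G → ℂ := fun χ => (Nat.card G : ℂ)⁻¹ * ∑ g, (χ : G → ℂ) (g * g)
  have hν : ∀ χ : IrrCharacter G, (¬ real χ → ν χ = 0) ∧ (ν χ = 1 → real χ) ∧
      (ν χ = 0 ∨ ν χ = 1 ∨ ν χ = -1) := by
    intro χ
    obtain ⟨d, ρ, hρ, he⟩ := χ.2
    have := hρ
    have h := frobeniusSchur ρ
    simp only [he] at h
    refine ⟨fun hr => h.2.2 ?_, fun h1 g => ?_, h.1⟩
    · by_contra hc
      push Not at hc
      exact hr fun g => Complex.conj_eq_iff_im.2 (hc g)
    · refine Complex.conj_eq_iff_im.2 (not_not.1 fun hg => ?_)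
      exact zero_ne_one ((h.2.2 ⟨g, hg⟩).symm.trans h1)
  have hνsum : ∑ χ, (m χ : ℂ) * ν χ = 1 := by
    calc ∑ χ, (m χ : ℂ) * ν χ = (Nat.card G : ℂ)⁻¹ * ∑ g, R (g * g) := by
          simp only [ν, Finset.mul_sum]
          rw [Finset.sum_comm]
          refine Finset.sum_congr rfl fun g _ => ?_
          rw [show R (g * g) = _ from hexp (g * g), Finset.mul_sum]
          exact Finset.sum_congr rfl fun χ _ => by ring
      _ = (Nat.card G : ℂ)⁻¹ * ((Nat.card N : ℂ)⁻¹ *
            ∑ t : G, ∑ n : N, (φ : N → ℂ) (n * n)) := by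
          congr 1
          rw [sum_subgroup N (f := fun g => R (g * g)) fun g hg => hRoff _ fun h2 => hg ?_]
          · calc ∑ n : N, R ((n : G) * n)
                = ∑ n : N, (Nat.card N : ℂ)⁻¹ * ∑ t : G,
                    (φ : N → ℂ) (MulAut.conjNormal t (n * n)) := by
                  refine Finset.sum_congr rfl fun n _ => ?_
                  rw [show R ((n : G) * n) = _ from indFun_apply_of_normal N (φ : N → ℂ) (n * n)]
                  congr 1
              _ = _ := by
                  rw [← Finset.mul_sum, Finset.sum_comm]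
                  congr 1
                  refine Finset.sum_congr rfl fun t _ => ?_
                  simp only [map_mul]
                  exact Fintype.sum_equiv (MulAut.conjNormal t : MulAut N).toEquiv _ _ fun n => rfl
          · refine mem_of_isConj_inv N hodd (n := (g * g)⁻¹) (inv_mem h2) ?_
            rw [mul_inv_rev, mul_inv_cancel_left]
      _ = 1 := by
          rw [Finset.sum_const, Finset.card_univ, nsmul_eq_mul, ← Nat.card_eq_fintype_card,
            mul_left_comm, inv_mul_cancel_left₀ hG0, hφ]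
  obtain ⟨χ₀, hχ₀, huniq⟩ : ∃ χ₀, (real χ₀ ∧ m χ₀ ≠ 0) ∧ ∀ χ, real χ ∧ m χ ≠ 0 → χ = χ₀ := by
    rw [Finset.sum_boole, Nat.cast_eq_one, Finset.card_eq_one] at hcount
    obtain ⟨χ₀, h0⟩ := hcount
    refine ⟨χ₀, ?_, fun χ hχ => ?_⟩
    · have := Finset.mem_singleton_self χ₀
      rw [← h0] at this
      exact (Finset.mem_filter.1 this).2
    · exact Finset.mem_singleton.1 (h0 ▸ Finset.mem_filter.2 ⟨Finset.mem_univ _, hχ⟩)
  have hone : (m χ₀ : ℂ) * ν χ₀ = 1 := by
    rw [← hνsum, Finset.sum_eq_single χ₀]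
    · intro χ _ hne
      by_cases h0 : m χ = 0
      · simp [h0]
      · rw [(hν χ).1 fun hr => hne (huniq χ ⟨hr, h0⟩), mul_zero]
    · simp
  have hν1 : ν χ₀ = 1 := by
    rcases (hν χ₀).2.2 with h | h | h
    · rw [h, mul_zero] at hone; exact absurd hone zero_ne_one
    · exact h
    · exfalso
      rw [h] at hone
      have h' : ((m χ₀ : ℤ) : ℂ) = ((-1 : ℤ) : ℂ) := by push_cast; linear_combination -hone
      have := Int.cast_injective h'
      omega
  have hcond : ∀ χ : IrrCharacter G,
      (∑ n : N, (χ : G → ℂ) n * conj ((φ : N → ℂ) n)) ≠ 0 ↔ m χ ≠ 0 := by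
    intro χ
    have h := hmres χ
    simp only [Cfsg.classInner] at h
    rw [inv_mul_eq_iff_eq_mul₀ hN0] at h
    rw [h]
    simp
  refine ⟨χ₀, ⟨hν1, (hcond χ₀).2 hχ₀.2⟩, fun χ hχ => huniq χ ⟨(hν χ).2.1 hχ.1, (hcond χ).1 hχ.2⟩⟩

end Cfsg.Agent.S4873
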