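import Cfsg.Statements.S4784
import Cfsg.Agent.S4873
import Mathlib.GroupTheory.Perm.Cycle.Type

set_option autoImplicit false
open Cfsg

namespace Cfsg.Agent.S4784

open CfsgLib.Char
open scoped Classical ComplexConjugate

/-- Let H be a subgroup of the finite group G and consider the permutation character of G on the cosets of H (the function induced from the principal character of H). Then exactly one irreducible constituent of it is real-valued with Frobenius–Schur indicator +1 (namely the principal character) if and only if the normal core of H has odd index in G. -/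
theorem result {G : Type*} [Group G] [Fintype G] (H : Subgroup G) : Nat.card {χ : Cfsg.IrrCharacter G // Cfsg.classInner (Cfsg.indFun H (fun _ : H => (1 : ℂ))) (χ : G → ℂ) ≠ 0 ∧ (∀ g : G, (starRingEnd ℂ) ((χ : G → ℂ) g) = (χ : G → ℂ) g) ∧ (Nat.card G : ℂ)⁻¹ * ∑ g : G, (χ : G → ℂ) (g * g) = 1} = 1 ↔ Odd H.normalCore.index := by
  set N := H.normalCore
  set R := Cfsg.indFun H (fun _ : H => (1 : ℂ)) with hRdef
  have hG0 := card_ne_zero (G := G)
  have hH0 := card_ne_zero (G := H)
  have hRc : Cfsg.IsCharacter G R := IsCharacter.indFun H isCharacter_one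
  obtain ⟨m, hm, hexp⟩ := IsCharacter.exists_multiplicity hRc
  have hval : ∀ g, R g
      = (Nat.card H : ℂ)⁻¹ * ∑ y : G, if y⁻¹ * g * y ∈ H then (1 : ℂ) else 0 := by
    intro g
    rw [hRdef, indFun_def]
    congr 1
    refine Finset.sum_congr rfl fun y _ => ?_
    by_cases h : y⁻¹ * g * y ∈ H
    · rw [if_pos h, extendByZero_apply_mem H _ h]
    · rw [if_neg h, extendByZero_apply_notMem H _ h]
  -- the trivial constituent
  let one : IrrCharacter G := ⟨fun _ => 1, isIrrCharacter_one⟩
  have hm1 : m one = 1 := by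
    have h := hm one
    rw [classInner_indFun H _ (IsIrrCharacter.isClassFunction one.2),
      classInner_irr_self (isIrrCharacter_one (G := H))] at h
    exact_mod_cast h.symm
  have hgood : classInner R (one : G → ℂ) ≠ 0 ∧
      (∀ g : G, conj ((one : G → ℂ) g) = (one : G → ℂ) g) ∧
      (Nat.card G : ℂ)⁻¹ * ∑ g : G, (one : G → ℂ) (g * g) = 1 :=
    ⟨by rw [hm, hm1, Nat.cast_one]; exact one_ne_zero, fun g => map_one _, by
      simp [one, ← Nat.card_eq_fintype_card, inv_mul_cancel₀ hG0]⟩
  constructor
  · intro h1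
    by_contra hodd
    rw [Nat.not_odd_iff_even] at hodd
    -- an element outside H whose square lies in H
    obtain ⟨g₁, hg₁, hg₁'⟩ : ∃ g : G, g ∉ H ∧ g * g ∈ H := by
      rw [Subgroup.index_eq_card] at hodd
      obtain ⟨q, hq⟩ := exists_prime_orderOf_dvd_card' (G := G ⧸ N) 2 hodd.two_dvd
      obtain ⟨g, rfl⟩ := QuotientGroup.mk'_surjective N q
      have hgN : g ∉ N := fun h => by
        rw [QuotientGroup.mk'_apply, (QuotientGroup.eq_one_iff g).2 h, orderOf_one] at hq
        norm_num at hq
      have hg2 : g * g ∈ N := by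
        have h := pow_orderOf_eq_one (QuotientGroup.mk' N g)
        rw [hq, ← map_pow, pow_two] at h
        exact (QuotientGroup.eq_one_iff _).1 h
      obtain ⟨y, hy⟩ : ∃ y : G, y * g * y⁻¹ ∉ H := by
        by_contra hc
        push Not at hc
        exact hgN hc
      refine ⟨y * g * y⁻¹, hy, ?_⟩
      have := hg2 y
      simpa [mul_assoc] using this
    -- the mean of the number of fixed points of squares exceeds one
    have hsum : ∑ g : G, R (g * g) = (Nat.card H : ℂ)⁻¹ * ((Nat.card G : ℂ) *
        ((Finset.univ.filter fun g : G => g * g ∈ H).card : ℂ)) := by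
      simp only [hval]
      rw [← Finset.mul_sum, Finset.sum_comm]
      congr 1
      have : ∀ y : G, ∑ g : G, (if y⁻¹ * (g * g) * y ∈ H then (1 : ℂ) else 0)
          = ((Finset.univ.filter fun g : G => g * g ∈ H).card : ℂ) := by
        intro y
        rw [← Finset.sum_boole]
        refine Fintype.sum_equiv (MulAut.conj y⁻¹).toEquiv _ _ fun g => ?_
        simp [mul_assoc]
      rw [Finset.sum_congr rfl fun y _ => this y, Finset.sum_const, Finset.card_univ, nsmul_eq_mul,
        Nat.card_eq_fintype_card]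
    have hbig : Nat.card H < (Finset.univ.filter fun g : G => g * g ∈ H).card := by
      rw [Nat.card_eq_fintype_card, Fintype.card_subtype]
      refine Finset.card_lt_card ⟨fun g hg => ?_, fun hsub => hg₁ ?_⟩
      · simp only [Finset.mem_filter, Finset.mem_univ, true_and] at hg ⊢
        exact H.mul_mem hg hg
      · simpa using hsub (x := g₁) (by simpa using hg₁')
    let ν : IrrCharacter G → ℂ := fun χ => (Nat.card G : ℂ)⁻¹ * ∑ g, (χ : G → ℂ) (g * g)
    have hνR : ∑ χ, (m χ : ℂ) * ν χ = (Nat.card G : ℂ)⁻¹ * ∑ g, R (g * g) := by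
      simp only [ν, Finset.mul_sum]
      rw [Finset.sum_comm]
      refine Finset.sum_congr rfl fun g _ => ?_
      rw [show R (g * g) = _ from hexp (g * g), Finset.mul_sum]
      exact Finset.sum_congr rfl fun χ _ => by ring
    rw [hsum] at hνR
    have hkey : ∀ χ : IrrCharacter G, χ ≠ one → (m χ : ℝ) * (ν χ).re ≤ 0 := by
      intro χ hne
      obtain ⟨d, ρ, hρ, he⟩ := χ.2
      have := hρ
      have h := frobeniusSchur ρ
      simp only [he] at h
      change (ν χ = 0 ∨ ν χ = 1 ∨ ν χ = -1) ∧ _ at h
      rcases h.1 with h' | h' | h'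
      · simp [h']
      · by_cases h0 : m χ = 0
        · simp [h0]
        exfalso
        refine hne ?_
        have hreal : ∀ g, conj ((χ : G → ℂ) g) = (χ : G → ℂ) g := fun g =>
          Complex.conj_eq_iff_im.2 (not_not.1 fun hg =>
            zero_ne_one ((h.2.2 ⟨g, hg⟩).symm.trans h'))
        obtain ⟨hsub, -⟩ := Nat.card_eq_one_iff_unique.1 h1
        exact congrArg Subtype.val (Subsingleton.elim
          (⟨χ, ⟨by rw [hm]; exact_mod_cast h0, hreal, h'⟩⟩ : {χ : IrrCharacter G //
            classInner R (χ : G → ℂ) ≠ 0 ∧ (∀ g : G, conj ((χ : G → ℂ) g) = (χ : G → ℂ) g) ∧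
              (Nat.card G : ℂ)⁻¹ * ∑ g : G, (χ : G → ℂ) (g * g) = 1}) ⟨one, hgood⟩)
      · rw [h']; simp
    have hre := congrArg Complex.re hνR
    rw [Complex.re_sum, show (Nat.card G : ℂ)⁻¹ * ((Nat.card H : ℂ)⁻¹ * ((Nat.card G : ℂ) *
      ((Finset.univ.filter fun g : G => g * g ∈ H).card : ℂ)))
        = (((Finset.univ.filter fun g : G => g * g ∈ H).card / Nat.card H : ℝ) : ℂ) by
        push_cast; field_simp, Complex.ofReal_re] at hre
    simp only [Complex.mul_re, Complex.natCast_re, Complex.natCast_im, zero_mul, sub_zero] at hre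
    have h2 : ∑ χ : IrrCharacter G, (m χ : ℝ) * (ν χ).re ≤ 1 := by
      rw [← Finset.add_sum_erase _ _ (Finset.mem_univ one)]
      have : (ν one).re = 1 := by
        rw [show ν one = 1 from hgood.2.2, Complex.one_re]
      rw [hm1, this, Nat.cast_one, one_mul, add_le_iff_nonpos_right]
      exact Finset.sum_nonpos fun χ hχ => hkey χ (Finset.ne_of_mem_erase hχ)
    rw [hre] at h2
    have hb : (Nat.card H : ℝ) < (Finset.univ.filter fun g : G => g * g ∈ H).card := by
      exact_mod_cast hbig
    rw [div_le_one (by exact_mod_cast Nat.card_pos)] at h2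
    linarith
  · intro hodd
    let φ : IrrCharacter N := ⟨fun _ => 1, isIrrCharacter_one⟩
    obtain ⟨χ₀, -, huniq⟩ := Cfsg.Agent.S4873.result N hodd φ (by
      simp [φ, finsum_eq_sum_of_fintype, ← Nat.card_eq_fintype_card,
        inv_mul_cancel₀ (card_ne_zero (G := N))])
    have hall : ∀ χ : IrrCharacter G, classInner R (χ : G → ℂ) ≠ 0 →
        (Nat.card G : ℂ)⁻¹ * ∑ g : G, (χ : G → ℂ) (g * g) = 1 → χ = χ₀ := by
      intro χ hc hν
      refine huniq χ ⟨by rw [finsum_eq_sum_of_fintype]; exact hν, ?_⟩
      have hker : ∀ n : N, (χ : G → ℂ) n = (χ : G → ℂ) 1 := fun n => by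
        refine IsCharacter.constituent_apply_eq_one hRc χ.2 hc ?_
        rw [hval, hval]
        congr 1
        refine Finset.sum_congr rfl fun y _ => ?_
        rw [if_pos, if_pos]
        · simp
        · have := n.2 y⁻¹
          rwa [inv_inv] at this
      rw [finsum_eq_sum_of_fintype]
      simp only [φ, hker, map_one, mul_one, Finset.sum_const, Finset.card_univ, nsmul_eq_mul,
        ← Nat.card_eq_fintype_card]
      exact mul_ne_zero card_ne_zero (IsIrrCharacter.apply_one_ne_zero χ.2)
    refine Nat.card_eq_one_iff_unique.2 ⟨⟨fun a b => Subtype.ext ?_⟩, ⟨⟨one, hgood⟩⟩⟩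
    rw [hall a.1 a.2.1 a.2.2.2, hall b.1 b.2.1 b.2.2.2]

end Cfsg.Agent.S4784
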