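import Cfsg.Statements.S4797
import Cfsg.Agent.S4796
import Cfsg.Agent.Lib.DegreeTools.Codegree
import Mathlib.RingTheory.RootsOfUnity.Complex
import Mathlib.GroupTheory.Perm.Cycle.Type

set_option autoImplicit false
open Cfsg

namespace Cfsg.Agent.S4797

open CfsgLib.Char CfsgLib.DegreeTools
open scoped Classical

/-- A perfect group has no irreducible character whose codegree is a prime. -/
theorem not_prime_of_perfect {G : Type*} [Group G] [Finite G] [Nontrivial G]
    (hG : commutator G = ⊤) (χ : IrrCharacter G) (p : ℕ) (hp : p.Prime)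
    (hcod : Nat.card G = p * charDegree (χ : G → ℂ)) : False := by
  have := Fintype.ofFinite G
  have : Fact p.Prime := ⟨hp⟩
  have hnc : ∀ hab : ∀ a b : G, a * b = b * a, False := fun hab => by
    have hb : commutator G = ⊥ := by
      rw [commutator_def, Subgroup.commutator_eq_bot_iff_le_centralizer]
      intro x _
      exact Subgroup.mem_centralizer_iff.2 fun y _ => hab y x
    exact top_ne_bot (hG.symm.trans hb)
  set m := charDegree (χ : G → ℂ)
  have hm0 : 0 < m := deg_pos χ
  have hsq : m ^ 2 ≤ p * m := by
    rw [← hcod, ← sum_deg_sq (G := G)]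
    exact Finset.single_le_sum (f := fun ψ : IrrCharacter G => charDegree (ψ : G → ℂ) ^ 2)
      (fun _ _ => Nat.zero_le _) (Finset.mem_univ χ)
  have hle : m ≤ p := by nlinarith
  rcases eq_or_lt_of_le hle with he | hlt
  · have hc : Nat.card G = p ^ 2 := by rw [hcod, he, pow_two]
    exact hnc fun a b => (IsPGroup.isMulCommutative_of_card_eq_prime_sq hc).1.1 a b
  have hpm : ¬ p ∣ m := fun h => absurd (Nat.le_of_dvd hm0 h) (by omega)
  obtain ⟨P⟩ : Nonempty (Sylow p G) := inferInstance
  have hP : Nat.card (P : Subgroup G) = p := by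
    rw [P.card_eq_multiplicity, hcod, Nat.factorization_mul hp.ne_zero hm0.ne', Finsupp.add_apply,
      hp.factorization_self, Nat.factorization_eq_zero_of_not_dvd hpm, add_zero, pow_one]
  have hidx : (P : Subgroup G).index = m := by
    have := Subgroup.card_mul_index (P : Subgroup G)
    rw [hP, hcod] at this
    exact Nat.eq_of_mul_eq_mul_left hp.pos this
  have hPn : (P : Subgroup G).Normal := by
    have h1' : Nat.card (Sylow p G) = 1 := by
      have hd := P.card_dvd_index
      rw [hidx] at hd
      have hlt' := lt_of_le_of_lt (Nat.le_of_dvd hm0 hd) hlt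
      have hmod := card_sylow_modEq_one p G
      rw [Nat.ModEq, Nat.mod_eq_of_lt hlt', Nat.mod_eq_of_lt hp.one_lt] at hmod
      exact hmod
    have := (Nat.card_eq_one_iff_unique.1 h1').1
    exact Sylow.normal_of_subsingleton P
  have hcyc : IsCyclic (P : Subgroup G) := isCyclic_of_prime_card hP
  have hcent : (P : Subgroup G) ≤ Subgroup.center G := by
    let φ : G →* MulAut (P : Subgroup G) := MulAut.conjNormal
    have hker : commutator G ≤ φ.ker := by
      rw [commutator_def, Subgroup.commutator_le]
      intro a _ b _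
      rw [MonoidHom.mem_ker, map_commutatorElement, commutatorElement_eq_one_iff_mul_comm]
      let e := IsCyclic.mulAutMulEquiv (P : Subgroup G)
      apply e.injective
      rw [map_mul, map_mul, mul_comm]
    intro x hx
    refine Subgroup.mem_center_iff.2 fun g => ?_
    have hg : φ g = 1 := hker (hG ▸ Subgroup.mem_top g)
    have := congrArg Subtype.val (MulEquiv.congr_fun hg ⟨x, hx⟩)
    rw [MulAut.conjNormal_apply, MulAut.one_apply] at this
    calc g * x = g * x * g⁻¹ * g := by group
      _ = x * g := by rw [this]
  have hb := Cfsg.Agent.S4796.deg_sq_mul_le χ (P : Subgroup G) hcent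
  rw [hP, hcod] at hb
  have hm1 : m = 1 := by
    have : m * m ≤ 1 * m := by
      have : m * m * p ≤ 1 * m * p := by nlinarith
      exact Nat.le_of_mul_le_mul_right this hp.pos
    have := Nat.le_of_mul_le_mul_right this hm0
    omega
  rw [hm1, mul_one] at hcod
  have := isCyclic_of_prime_card hcod
  exact hnc fun a b => mul_comm' a b

/-- The codegree of an irreducible complex character χ of a finite group G is [G : ker χ] / χ(1), where ker χ is the set of elements at which χ takes the value χ(1). A non-trivial finite group is perfect if and only if no irreducible complex character of it has prime codegree. -/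
theorem result {G : Type*} [Group G] [Finite G] [Nontrivial G] : commutator G = ⊤ ↔ ∀ χ : Cfsg.IrrCharacter G, ¬ ((Nat.card G / (Nat.card {g : G // (χ : G → ℂ) g = (χ : G → ℂ) 1} * Cfsg.charDegree (χ : G → ℂ)))).Prime := by
  have := Fintype.ofFinite G
  constructor
  · intro hG χ hpr
    set K := charKer (isCharacter_irr χ)
    have : K.Normal := charKer_normal _
    obtain ⟨ψ, hψ, he⟩ := IsIrrCharacter.exists_deflate χ.2 K fun n hn => (mem_charKer _).mp hn
    have hdeg : charDegree (χ : G → ℂ) = charDegree ψ := by
      simp only [charDegree, he, Function.comp_apply, map_one]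
    rw [card_ker_eq, ← Subgroup.card_mul_index K, Nat.mul_div_mul_left _ _ Nat.card_pos,
      Subgroup.index_eq_card, hdeg] at hpr
    have hdvd : charDegree ψ ∣ Nat.card (G ⧸ K) := deg_dvd_card ⟨ψ, hψ⟩
    have hcod := (Nat.div_mul_cancel hdvd).symm
    have hperf : commutator (G ⧸ K) = ⊤ := by
      rw [commutator_def, ← Subgroup.map_top_of_surjective (QuotientGroup.mk' K)
        (QuotientGroup.mk'_surjective K), ← Subgroup.map_commutator, ← commutator_def, hG]
    have : Nontrivial (G ⧸ K) := by
      rw [← Finite.one_lt_card_iff_nontrivial, hcod]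
      have h1 : 0 < charDegree ψ := deg_pos ⟨ψ, hψ⟩
      nlinarith [hpr.two_le]
    exact not_prime_of_perfect hperf ⟨ψ, hψ⟩ _ hpr hcod
  · intro h
    by_contra hne
    have : NeZero (Monoid.exponent (Abelianization G) : ℂ) :=
      ⟨by exact_mod_cast Monoid.exponent_ne_zero_of_finite⟩
    have hcard : Nat.card (Abelianization G →* ℂˣ) = Nat.card (Abelianization G) :=
      CommGroup.card_monoidHom_of_hasEnoughRootsOfUnity (Abelianization G) ℂ
    have hA : Nat.card (Abelianization G) ≠ 1 := by
      rw [show Nat.card (Abelianization G) = (commutator G).index from rfl, Ne, Subgroup.index_eq_one]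
      exact hne
    obtain ⟨q, hq, hqd⟩ := Nat.exists_prime_and_dvd hA
    have := Fact.mk hq
    have : Finite (Abelianization G →* ℂˣ) :=
      Nat.finite_of_card_ne_zero (by rw [hcard]; exact Nat.card_pos.ne')
    obtain ⟨θ, hθ⟩ := exists_prime_orderOf_dvd_card' q (hcard.symm ▸ hqd)
    let φ : G →* ℂˣ := θ.comp Abelianization.of
    have hφq : ∀ g, φ g ^ q = 1 := fun g => by
      have h1 : θ ^ q = 1 := hθ ▸ pow_orderOf_eq_one θ
      have h2 := congrArg (fun f : Abelianization G →* ℂˣ => f (Abelianization.of g)) h1
      exact h2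
    have hφ1 : φ ≠ 1 := fun h1 => by
      have h2 : θ = 1 := Abelianization.hom_ext _ _ (by simpa using h1)
      rw [h2, orderOf_one] at hθ
      exact hq.ne_one hθ.symm
    have hrange : Nat.card φ.range = q := by
      have hle : φ.range ≤ rootsOfUnity q ℂ := by
        rintro _ ⟨g, rfl⟩
        exact (mem_rootsOfUnity q _).2 (hφq g)
      have hd := Subgroup.card_dvd_of_le hle
      rw [HasEnoughRootsOfUnity.natCard_rootsOfUnity] at hd
      refine ((Nat.dvd_prime hq).1 hd).resolve_left fun h1 => hφ1 ?_
      exact MonoidHom.range_eq_bot_iff.1 (Subgroup.card_eq_one.1 h1)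
    refine h ⟨_, isIrrCharacter_hom φ⟩ ?_
    have hk : Nat.card {g : G // (φ g : ℂ) = (φ 1 : ℂ)} = Nat.card φ.ker :=
      Nat.card_congr (Equiv.subtypeEquivRight fun g => by
        rw [map_one, Units.val_one, MonoidHom.mem_ker, Units.val_eq_one])
    have hd : charDegree (fun g => (φ g : ℂ)) = 1 := by simp [charDegree]
    show (Nat.card G / (Nat.card {g : G // (φ g : ℂ) = (φ 1 : ℂ)} *
      charDegree (fun g => (φ g : ℂ)))).Prime
    rw [hk, hd, mul_one, ← Subgroup.card_mul_index φ.ker, Nat.mul_div_cancel_left _ Nat.card_pos,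
      Subgroup.index_ker, hrange]
    exact hq

end Cfsg.Agent.S4797
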