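import Cfsg.Statements.S4798
import Cfsg.Agent.Lib.DegreeTools.Basic
import Cfsg.Agent.Lib.Char.Induced
import Cfsg.Agent.Lib.Char.Constituent

set_option autoImplicit false
open Cfsg

namespace Cfsg.Agent.S4798

open CfsgLib.Char CfsgLib.DegreeTools
open scoped Classical

/-- Let p be a prime and χ a faithful irreducible complex character of the finite group G (χ(g) = χ(1) only for g = 1), so that its codegree is #G / χ(1). Then #G / χ(1) is a power of p if and only if χ is induced from a character of a Sylow p-subgroup of G. -/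
theorem result {G : Type*} [Group G] [Fintype G] (p : ℕ) [Fact p.Prime] (χ : Cfsg.IrrCharacter G) (hfaith : ∀ g : G, (χ : G → ℂ) g = (χ : G → ℂ) 1 → g = 1) : (∃ k : ℕ, Nat.card G = p ^ k * Cfsg.charDegree (χ : G → ℂ)) ↔ ∃ (P : Sylow p G) (θ : ↥(P : Subgroup G) → ℂ), Cfsg.IsCharacter ↥(P : Subgroup G) θ ∧ (χ : G → ℂ) = Cfsg.indFun (P : Subgroup G) θ := by
  have hp : p.Prime := Fact.out
  constructor
  · rintro ⟨k, hk⟩
    obtain ⟨P⟩ : Nonempty (Sylow p G) := inferInstance
    obtain ⟨n, hn⟩ := P.2.exists_card_eq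
    have hidx := Subgroup.card_mul_index (P : Subgroup G)
    rw [hn, hk] at hidx
    set t := charDegree (χ : G → ℂ)
    have hkn : k ≤ n := by
      have hd : p ^ k ∣ p ^ n * (P : Subgroup G).index := hidx ▸ dvd_mul_right _ _
      have := Nat.Coprime.dvd_of_dvd_mul_right
        (Nat.Coprime.pow_left k (hp.coprime_iff_not_dvd.2 P.not_dvd_index)) hd
      exact (Nat.pow_dvd_pow_iff_le_right hp.one_lt).1 this
    obtain ⟨j, rfl⟩ := Nat.exists_eq_add_of_le hkn
    have ht : t = p ^ j * (P : Subgroup G).index := by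
      rw [pow_add, mul_assoc] at hidx
      exact (Nat.eq_of_mul_eq_mul_left (pow_pos hp.pos k) hidx).symm
    have hres := IsCharacter.restrict (isCharacter_irr χ) (P : Subgroup G)
    obtain ⟨m, hm, hexp⟩ := IsCharacter.exists_multiplicity hres
    have ht' : t = ∑ θ, m θ * charDegree (θ : ↥(P : Subgroup G) → ℂ) := by
      have h := hexp 1
      rw [OneMemClass.coe_one] at h
      simp only [← deg_cast] at h
      exact_mod_cast h
    obtain ⟨θ, hθ0, hθd⟩ : ∃ θ : IrrCharacter (P : Subgroup G), m θ ≠ 0 ∧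
        ¬ p ^ (j + 1) ∣ charDegree (θ : ↥(P : Subgroup G) → ℂ) := by
      by_contra hcon
      push Not at hcon
      have hd : p ^ (j + 1) ∣ t := by
        rw [ht']
        refine Finset.dvd_sum fun θ _ => ?_
        by_cases h0 : m θ = 0
        · simp [h0]
        · exact Dvd.dvd.mul_left (hcon θ h0) _
      rw [ht, pow_succ] at hd
      exact P.not_dvd_index (Nat.dvd_of_mul_dvd_mul_left (pow_pos hp.pos j) hd)
    refine ⟨P, θ, isCharacter_irr θ, ?_⟩
    obtain ⟨i, -, hi⟩ := (Nat.dvd_prime_pow hp).1 (hn ▸ deg_dvd_card θ)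
    have hij : i ≤ j := by
      by_contra hlt
      exact hθd (hi ▸ pow_dvd_pow p (by omega))
    obtain ⟨a, b, ha, hb, hab, heq⟩ := IsCharacter.constituent_degree_le
      (IsCharacter.indFun (P : Subgroup G) (isCharacter_irr θ)) χ.2 (by
        rw [classInner_indFun (P : Subgroup G) _ (IsIrrCharacter.isClassFunction χ.2),
          IsCharacter.classInner_comm (isCharacter_irr θ) hres, hm]
        exact_mod_cast hθ0)
    rw [indFun_one] at hb
    rw [← deg_cast, Nat.cast_inj] at ha
    rw [← deg_cast, ← Nat.cast_mul, Nat.cast_inj] at hb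
    refine (heq (le_antisymm hab ?_)).symm
    rw [← ha, ← hb, hi]
    change _ ≤ t
    rw [ht, mul_comm (p ^ j)]
    exact Nat.mul_le_mul_left _ (Nat.pow_le_pow_right hp.pos hij)
  · rintro ⟨P, θ, hθ, he⟩
    obtain ⟨d, hd⟩ := IsCharacter.apply_one_eq hθ
    have hdeg : charDegree (χ : G → ℂ) = (P : Subgroup G).index * d := by
      apply Nat.cast_injective (R := ℂ)
      rw [deg_cast, he, indFun_one, hd, Nat.cast_mul]
    obtain ⟨n, hn⟩ := P.2.exists_card_eq
    have hdvd := deg_dvd_card χ
    rw [hdeg, ← Subgroup.card_mul_index (P : Subgroup G), hn,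
      mul_comm (p ^ n) ((P : Subgroup G).index)] at hdvd
    obtain ⟨i, hi, rfl⟩ := (Nat.dvd_prime_pow hp).1
      (Nat.dvd_of_mul_dvd_mul_left (Nat.pos_of_ne_zero Subgroup.index_ne_zero_of_finite) hdvd)
    refine ⟨n - i, ?_⟩
    rw [hdeg, ← Subgroup.card_mul_index (P : Subgroup G), hn]
    obtain ⟨e, rfl⟩ := Nat.exists_eq_add_of_le hi
    rw [Nat.add_sub_cancel_left, pow_add]
    ring

end Cfsg.Agent.S4798
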