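import Cfsg.Statements.S4801
import Cfsg.Agent.Lib.DegreeTools.Codegree
-- import your own Cfsg.Agent.* helpers here

set_option autoImplicit false
open Cfsg

namespace Cfsg.Agent.S4801

/-- The codegree of an irreducible complex character χ of a finite group G is [G : ker χ] / χ(1), where ker χ is the set of elements at which χ takes the value χ(1). Let S be a finite simple group and G a finite group such that every codegree of an irreducible character of S is a codegree of an irreducible character of G. Then the order of S divides the order of G. -/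
theorem result {S : Type*} [Group S] [Finite S] (hS : IsSimpleGroup S) {G : Type*} [Group G] [Finite G] (hsub : ∀ χ : Cfsg.IrrCharacter S, ∃ ψ : Cfsg.IrrCharacter G, (Nat.card S / (Nat.card {g : S // (χ : S → ℂ) g = (χ : S → ℂ) 1} * Cfsg.charDegree (χ : S → ℂ))) = (Nat.card G / (Nat.card {g : G // (ψ : G → ℂ) g = (ψ : G → ℂ) 1} * Cfsg.charDegree (ψ : G → ℂ)))) : Nat.card S ∣ Nat.card G := by
  classical
  rw [Nat.dvd_iff_prime_pow_dvd_dvd]
  intro q k hq hqk
  rcases Nat.eq_zero_or_pos k with rfl | hk
  · simp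
  obtain ⟨χ, hχ, hqd⟩ := CfsgLib.DegreeTools.exists_ne_one_not_dvd_deg (G := S) hq
    ((dvd_pow_self q hk.ne').trans hqk)
  obtain ⟨ψ, hψ⟩ := hsub χ
  refine dvd_trans ?_ (hψ ▸ CfsgLib.DegreeTools.codegree_dvd_card ψ)
  have hker : CfsgLib.Char.charKer (CfsgLib.Char.isCharacter_irr χ) = ⊥ :=
    (CfsgLib.Char.charKer_normal _).eq_bot_or_eq_top.resolve_right
      fun h => hχ ((CfsgLib.DegreeTools.charKer_eq_top_iff χ).mp h)
  rw [CfsgLib.DegreeTools.card_ker_eq, hker, Subgroup.card_bot, one_mul]
  refine ((hq.coprime_iff_not_dvd.mpr hqd).pow_left k).dvd_of_dvd_mul_right ?_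
  rwa [Nat.div_mul_cancel (CfsgLib.DegreeTools.deg_dvd_card χ)]

end Cfsg.Agent.S4801
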