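import Cfsg.Statements.S4802
import Cfsg.Agent.Lib.DegreeTools.Basic
import Cfsg.Agent.Lib.Char.Quotient
import Cfsg.Agent.Lib.Char.Integral
-- import your own Cfsg.Agent.* helpers here

set_option autoImplicit false
open Cfsg

namespace Cfsg.Agent.S4802

open CfsgLib.Char CfsgLib.DegreeTools

open scoped Classical in
theorem col_split {G : Type*} [Group G] [Finite G] (N : Subgroup G) [N.Normal] (g : G) :
    (Nat.card (Subgroup.centralizer ({g} : Set G)) : ℝ) =
      Nat.card (Subgroup.centralizer ({(g : G ⧸ N)} : Set (G ⧸ N))) +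
      ∑ χ ∈ Finset.univ.filter (fun χ : Cfsg.IrrCharacter G =>
        ¬ ∀ x ∈ N, (χ : G → ℂ) x = (χ : G → ℂ) 1), ‖(χ : G → ℂ) g‖ ^ 2 := by
  classical
  rw [← sum_norm_sq_col, ← sum_norm_sq_col,
    ← Finset.sum_filter_add_sum_filter_not Finset.univ (fun χ : Cfsg.IrrCharacter G =>
      ∀ x ∈ N, (χ : G → ℂ) x = (χ : G → ℂ) 1)]
  congr 1
  rw [Finset.sum_subtype _ (p := fun χ : Cfsg.IrrCharacter G =>
      ∀ x ∈ N, (χ : G → ℂ) x = (χ : G → ℂ) 1) (fun χ => by simp)]
  exact (Equiv.sum_comp (irrQuotientEquiv N) _).symm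


/-- Let N < M be normal subgroups of the finite group G and g ∈ M ∖ N. Then the conjugacy class of g is exactly M ∖ N if and only if every irreducible complex character of G whose kernel contains N takes the same value at all elements of M ∖ N, and every irreducible complex character of G whose kernel does not contain N vanishes at g. -/
theorem result {G : Type*} [Group G] [Finite G] (N M : Subgroup G) [N.Normal] [M.Normal] (hNM : N < M) (g : G) (hgM : g ∈ M) (hgN : g ∉ N) : {h : G | IsConj g h} = (M : Set G) \ (N : Set G) ↔ ((∀ χ : Cfsg.IrrCharacter G, (∀ x ∈ N, (χ : G → ℂ) x = (χ : G → ℂ) 1) → ∀ x ∈ M, x ∉ N → ∀ y ∈ M, y ∉ N → (χ : G → ℂ) x = (χ : G → ℂ) y) ∧ (∀ χ : Cfsg.IrrCharacter G, (∃ x ∈ N, (χ : G → ℂ) x ≠ (χ : G → ℂ) 1) → (χ : G → ℂ) g = 0)) := by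
  classical
  have hidx : ∀ {H : Type _} [Group H] [Finite H] (h : H), {z : H | IsConj h z}.ncard =
      (Subgroup.centralizer ({h} : Set H)).index := by
    intro H _ _ h
    rw [← card_isConj_eq_index, ← Nat.card_coe_set_eq]
    exact Nat.card_congr (Equiv.subtypeEquivRight fun z => isConj_comm)
  let Bq : Set (G ⧸ N) := (M.map (QuotientGroup.mk' N) : Set (G ⧸ N)) \ {1}
  have hpre : (M : Set G) \ (N : Set G) = QuotientGroup.mk ⁻¹' Bq := by
    ext z
    simp only [Bq, Set.mem_diff, Set.mem_preimage, SetLike.mem_coe, Set.mem_singleton_iff,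
      Subgroup.mem_map, QuotientGroup.mk'_apply, QuotientGroup.eq_one_iff]
    refine and_congr_left fun _ => ⟨fun hz => ⟨z, hz, rfl⟩, ?_⟩
    rintro ⟨m, hm, he⟩
    rw [QuotientGroup.eq] at he
    simpa using M.mul_mem hm (hNM.le he)
  have hBcard : ((M : Set G) \ (N : Set G)).ncard = Nat.card N * Bq.ncard := by
    rw [hpre, ← Nat.card_coe_set_eq, ← Nat.card_coe_set_eq, ← Nat.card_prod]
    exact Nat.card_congr (QuotientGroup.preimageMkEquivSubgroupProdSet N Bq)
  have hAB : {h : G | IsConj g h} ⊆ (M : Set G) \ (N : Set G) := by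
    intro z hz
    obtain ⟨c, rfl⟩ := isConj_iff.mp hz
    exact ⟨‹M.Normal›.conj_mem g hgM c, fun h => hgN (by
      simpa [mul_assoc] using ‹N.Normal›.conj_mem _ h c⁻¹)⟩
  have hABq : {h : G ⧸ N | IsConj (g : G ⧸ N) h} ⊆ Bq := by
    intro z hz
    obtain ⟨c, rfl⟩ := isConj_iff.mp hz
    induction c using QuotientGroup.induction_on with
    | H c =>
      have h1 : c * g * c⁻¹ ∈ (M : Set G) \ (N : Set G) := hAB (isConj_iff.mpr ⟨c, rfl⟩)
      rw [hpre] at h1
      exact h1
  have e1 := Subgroup.index_mul_card (Subgroup.centralizer ({g} : Set G))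
  have e2 := Subgroup.index_mul_card (Subgroup.centralizer ({(g : G ⧸ N)} : Set (G ⧸ N)))
  have e3 : Nat.card N * Nat.card (G ⧸ N) = Nat.card G := Subgroup.card_mul_index N
  constructor
  · intro hA
    have hC : Nat.card (Subgroup.centralizer ({g} : Set G)) =
        Nat.card (Subgroup.centralizer ({(g : G ⧸ N)} : Set (G ⧸ N))) := by
      have hBq : Bq = {h : G ⧸ N | IsConj (g : G ⧸ N) h} := by
        refine Set.Subset.antisymm (fun z hz => ?_) hABq
        induction z using QuotientGroup.induction_on with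
        | H z =>
          have h1 : z ∈ {h : G | IsConj g h} := by rw [hA, hpre]; exact hz
          obtain ⟨c, hc⟩ := isConj_iff.mp h1
          exact isConj_iff.mpr ⟨c, by simp [← hc]⟩
      have h1 := hidx g
      rw [hA, hBcard, hBq, hidx] at h1
      rw [← h1, ← e3, ← e2, mul_assoc] at e1
      exact Nat.eq_of_mul_eq_mul_left (Nat.pos_of_ne_zero Subgroup.index_ne_zero_of_finite)
        (Nat.eq_of_mul_eq_mul_left Nat.card_pos e1)
    refine ⟨fun χ _ a ha haN b hb hbN => ?_, ?_⟩
    · have h1 : a ∈ {h : G | IsConj g h} := by rw [hA]; exact ⟨ha, haN⟩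
      have h2 : b ∈ {h : G | IsConj g h} := by rw [hA]; exact ⟨hb, hbN⟩
      exact IsClassFunction.apply_eq_of_isConj (IsIrrCharacter.isClassFunction χ.2)
        ((IsConj.symm h1).trans h2)
    · rintro χ ⟨a, ha, hne⟩
      have hs := col_split N g
      rw [hC, left_eq_add, Finset.sum_eq_zero_iff_of_nonneg (fun χ _ => by positivity)] at hs
      have := hs χ (Finset.mem_filter.mpr ⟨Finset.mem_univ _, fun h => hne (h a ha)⟩)
      exact norm_eq_zero.mp (pow_eq_zero_iff two_ne_zero |>.mp this)
  · rintro ⟨hconst, hvan⟩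
    have hBq : {h : G ⧸ N | IsConj (g : G ⧸ N) h} = Bq := by
      refine Set.Subset.antisymm hABq fun z hz => ?_
      induction z using QuotientGroup.induction_on with
      | H z =>
        have h1 : z ∈ (M : Set G) \ (N : Set G) := by rw [hpre]; exact hz
        show IsConj (g : G ⧸ N) (z : G ⧸ N)
        cases nonempty_fintype (G ⧸ N)
        rw [isConj_iff_forall_irr]
        intro ψ
        exact hconst (irrQuotientEquiv N ψ).1 (irrQuotientEquiv N ψ).2 g hgM hgN z h1.1 h1.2
    have hC : Nat.card (Subgroup.centralizer ({g} : Set G)) =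
        Nat.card (Subgroup.centralizer ({(g : G ⧸ N)} : Set (G ⧸ N))) := by
      have hs := col_split N g
      rw [Finset.sum_eq_zero (fun χ hχ => ?_), add_zero] at hs
      · exact_mod_cast hs
      · have h1 := (Finset.mem_filter.mp hχ).2
        push Not at h1
        rw [hvan χ h1, norm_zero, zero_pow two_ne_zero]
    refine Set.eq_of_subset_of_ncard_le hAB (le_of_eq ?_) (Set.toFinite _)
    rw [hBcard, ← hBq, hidx, hidx]
    rw [hC, ← e3, ← e2, ← mul_assoc] at e1
    exact (Nat.eq_of_mul_eq_mul_right Nat.card_pos e1).symm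

end Cfsg.Agent.S4802
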