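import Cfsg.Statements.S4805
import Cfsg.Agent.Lib.PGroup.OneClassCoset
import Cfsg.Agent.Lib.Char.Linear
import Cfsg.Agent.Lib.Char.Orth

set_option autoImplicit false
open Cfsg

namespace Cfsg.Agent.S4805

open scoped ComplexConjugate commutatorElement
open CfsgLib.Char

universe u

section Aux

variable {G : Type u} [Group G] [Finite G]

theorem hom_eq_one_of_mem (φ : G →* ℂˣ) {y : G} (hy : y ∈ commutator G) : φ y = 1 :=
  MonoidHom.mem_ker.mp (Abelianization.commutator_subset_ker φ hy)

theorem exists_hom_ne_one {y : G} (hy : y ∉ commutator G) : ∃ φ : G →* ℂˣ, φ y ≠ 1 := by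
  have : NeZero (Monoid.exponent (Abelianization G) : ℂ) :=
    ⟨by exact_mod_cast Monoid.exponent_ne_zero_of_finite⟩
  obtain ⟨φ, hφ⟩ := CommGroup.exists_apply_ne_one_of_hasEnoughRootsOfUnity (Abelianization G) ℂ
    (a := Abelianization.of y) fun h => hy (by rw [← Abelianization.ker_of G, MonoidHom.mem_ker]; exact h)
  exact ⟨φ.comp Abelianization.of, hφ⟩

theorem sum_hom [Fintype (G →* ℂˣ)] (y : G) [Decidable (y ∈ commutator G)] :
    ∑ φ : G →* ℂˣ, (φ y : ℂ) = if y ∈ commutator G then ((commutator G).index : ℂ) else 0 := by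
  split_ifs with h
  · rw [Finset.sum_congr rfl fun φ _ => by rw [hom_eq_one_of_mem φ h, Units.val_one],
      Finset.sum_const, Finset.card_univ, nsmul_eq_mul, mul_one, ← Nat.card_eq_fintype_card,
      ← card_linear (G := G), Nat.card_congr homEquivLinear]
  · obtain ⟨φ₀, h₀⟩ := exists_hom_ne_one h
    have h1 : (φ₀ y : ℂ) * ∑ φ : G →* ℂˣ, (φ y : ℂ) = ∑ φ : G →* ℂˣ, (φ y : ℂ) := by
      rw [Finset.mul_sum]
      exact Fintype.sum_equiv (Equiv.mulLeft φ₀) _ _ fun φ => by simp
    have h2 : ((φ₀ y : ℂ) - 1) * ∑ φ : G →* ℂˣ, (φ y : ℂ) = 0 := by rw [sub_mul, h1, one_mul, sub_self]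
    exact (mul_eq_zero.mp h2).resolve_left (sub_ne_zero.mpr fun e => h₀ (Units.ext e))

theorem charDegree_eq_one_iff (ψ : IrrCharacter G) :
    charDegree (ψ : G → ℂ) = 1 ↔ (ψ : G → ℂ) 1 = 1 := by
  obtain ⟨n, -, hn⟩ := IsIrrCharacter.apply_one_eq ψ.2
  simp [charDegree, hn]

theorem conj_nat (n : ℕ) : conj (n : ℂ) = (n : ℂ) := Complex.conj_natCast n

theorem apply_ne_zero_of_central (χ : IrrCharacter G) (z : G)
    (hz : ∀ y : G, (χ : G → ℂ) ⁅z, y⁆ = (χ : G → ℂ) 1) : (χ : G → ℂ) z ≠ 0 := by
  obtain ⟨f, hf⟩ := χ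
  obtain ⟨n, ρ, hρ, rfl⟩ := hf
  have hcomm : ∀ y, ρ z ∘ₗ ρ y = ρ y ∘ₗ ρ z := by
    intro y
    have h1 := hz y
    simp only [Representation.char_one] at h1
    rw [char_eq_finrank_iff] at h1
    have h2 : ρ (⁅z, y⁆ * (y * z)) = ρ (y * z) := by rw [map_mul, h1]; rfl
    rw [show ⁅z, y⁆ * (y * z) = z * y by rw [commutatorElement_def]; group, map_mul, map_mul] at h2
    exact h2
  obtain ⟨c, hc⟩ := exists_eq_smul_of_commute ρ (ρ z) hcomm
  have hpos : 0 < Module.finrank ℂ (Fin n → ℂ) := irreducible_finrank_pos (ρ := ρ)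
  have hc0 : c ≠ 0 := by
    intro h0
    have h3 : ρ (z⁻¹ * z) = 0 := by rw [map_mul, hc, h0, zero_smul, mul_zero]
    rw [inv_mul_cancel, map_one] at h3
    have : Nontrivial (Fin n → ℂ) := Module.nontrivial_of_finrank_pos hpos
    exact one_ne_zero h3
  change ρ.character z ≠ 0
  rw [Representation.character, hc, map_smul, LinearMap.trace_id, smul_eq_mul]
  exact mul_ne_zero hc0 (by exact_mod_cast hpos.ne')

end Aux

/-- Let G be a finite group, g an element outside the centre of G, and χ an irreducible complex character of degree greater than one with χ(g) ≠ 0 such that every other irreducible character of degree greater than one vanishes at g. Then g lies in the derived subgroup G′ and χ(g) = −[G : G′]/χ(1); G′ is the union of the kernel of χ (the elements where χ takes the value χ(1)) and the conjugacy class of g, and χ vanishes outside G′; every irreducible character of degree greater than one whose kernel contains that of χ equals χ; and G is solvable. -/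
theorem result {G : Type*} [Group G] [Finite G] (g : G) (hg : g ∉ Subgroup.center G) (χ : Cfsg.IrrCharacter G) (hχ1 : Cfsg.charDegree (χ : G → ℂ) ≠ 1) (hχg : (χ : G → ℂ) g ≠ 0) (hother : ∀ ψ : Cfsg.IrrCharacter G, Cfsg.charDegree (ψ : G → ℂ) ≠ 1 → ψ ≠ χ → (ψ : G → ℂ) g = 0) : g ∈ commutator G ∧ (χ : G → ℂ) g = -(((commutator G).index : ℂ) / (χ : G → ℂ) 1) ∧ ((commutator G : Set G) = {x : G | (χ : G → ℂ) x = (χ : G → ℂ) 1} ∪ {h : G | IsConj g h}) ∧ (∀ x : G, x ∉ commutator G → (χ : G → ℂ) x = 0) ∧ (∀ ψ : Cfsg.IrrCharacter G, Cfsg.charDegree (ψ : G → ℂ) ≠ 1 → (∀ x : G, (χ : G → ℂ) x = (χ : G → ℂ) 1 → (ψ : G → ℂ) x = (ψ : G → ℂ) 1) → ψ = χ) ∧ Group.IsSolvable G := by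
  classical
  haveI := Fintype.ofFinite G
  haveI : Finite (G →* ℂˣ) := Finite.of_equiv _ (homEquivLinear (G := G)).symm
  haveI := Fintype.ofFinite (G →* ℂˣ)
  set M := commutator G with hM
  obtain ⟨d, hd0, hd⟩ := IsIrrCharacter.apply_one_eq χ.2
  have hd1 : d ≠ 1 := fun h => hχ1 ((charDegree_eq_one_iff χ).mpr (by rw [hd, h, Nat.cast_one]))
  have hdC : (d : ℂ) ≠ 0 := by exact_mod_cast hd0.ne'
  set a := M.index with ha
  have haC : (a : ℂ) ≠ 0 := by exact_mod_cast M.index_ne_zero_of_finite
  have horth : ∀ x : G, (if x * g⁻¹ ∈ M then (a : ℂ) else 0) + (χ : G → ℂ) x * conj ((χ : G → ℂ) g) =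
      if IsConj x g then (Nat.card (Subgroup.centralizer ({g} : Set G)) : ℂ) else 0 := by
    intro x
    rw [← sum_irr_mul_conj x g,
      ← Finset.sum_filter_add_sum_filter_not Finset.univ (fun ψ : IrrCharacter G => (ψ : G → ℂ) 1 = 1)]
    congr 1
    · rw [← sum_hom, Finset.sum_subtype (p := fun ψ : IrrCharacter G => (ψ : G → ℂ) 1 = 1)
        (Finset.univ.filter fun ψ : IrrCharacter G => (ψ : G → ℂ) 1 = 1) (fun ψ => by simp)]
      refine Fintype.sum_equiv homEquivLinear _ _ fun φ => ?_
      change (φ (x * g⁻¹) : ℂ) = (φ x : ℂ) * conj (φ g : ℂ)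
      rw [map_mul, Units.val_mul, IsCharacter.apply_inv (isCharacter_hom φ) g]
    · refine (Finset.sum_eq_single_of_mem (a := χ) (f := fun ψ : IrrCharacter G =>
        (ψ : G → ℂ) x * conj ((ψ : G → ℂ) g)) ?_ ?_).symm
      · simp only [Finset.mem_filter, Finset.mem_univ, true_and, hd]
        exact_mod_cast hd1
      · intro ψ hψ hne
        simp only [Finset.mem_filter, Finset.mem_univ, true_and] at hψ
        rw [hother ψ (fun h => hψ ((charDegree_eq_one_iff ψ).mp h)) hne, map_zero, mul_zero]
  -- `g` lies in the derived group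
  have hg1 : ¬ IsConj (1 : G) g := fun h => hg ((isConj_one_right.mp h) ▸ (Subgroup.center G).one_mem)
  have h1 := horth 1
  rw [if_neg hg1, hd, one_mul] at h1
  have hgM : g ∈ M := by
    by_contra h
    rw [if_neg (fun h' => h (by simpa using h')), zero_add, mul_eq_zero, map_eq_zero] at h1
    exact h1.elim hdC hχg
  rw [if_pos (M.inv_mem hgM)] at h1
  have hval : (χ : G → ℂ) g = -((a : ℂ) / d) := by
    have h2 := congrArg conj h1
    simp only [map_add, map_mul, Complex.conj_conj, map_zero, Complex.conj_natCast] at h2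
    field_simp
    linear_combination h2
  have hconj : conj ((χ : G → ℂ) g) = -((a : ℂ) / d) := by
    rw [hval, map_neg, map_div₀, Complex.conj_natCast, Complex.conj_natCast]
  have hMn : M.Normal := by rw [hM]; infer_instance
  have hMconj : ∀ x : G, IsConj g x → x ∈ M := by
    intro x hx
    obtain ⟨c, rfl⟩ := isConj_iff.mp hx
    exact hMn.conj_mem g hgM c
  have hmul : ∀ x : G, x * g⁻¹ ∈ M ↔ x ∈ M := fun x => M.mul_mem_cancel_right (M.inv_mem hgM)
  have hout : ∀ x : G, x ∉ M → (χ : G → ℂ) x = 0 := by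
    intro x hx
    have h := horth x
    rw [if_neg (fun h' => hx ((hmul x).mp h')), if_neg (fun h' => hx (hMconj x h'.symm)), zero_add,
      hconj, mul_eq_zero] at h
    exact h.resolve_right (neg_ne_zero.mpr (div_ne_zero haC hdC))
  have hin : ∀ x ∈ M, ¬ IsConj g x → (χ : G → ℂ) x = d := by
    intro x hx hxg
    have h := horth x
    rw [if_pos ((hmul x).mpr hx), if_neg (fun h' => hxg h'.symm), hconj] at h
    field_simp at h
    have h' : (χ : G → ℂ) x * a = d * a := by linear_combination -h
    exact mul_right_cancel₀ haC h'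
  have hcls : ∀ x : G, IsConj g x → (χ : G → ℂ) x ≠ d := by
    intro x hx h
    rw [← IsClassFunction.apply_eq_of_isConj (IsIrrCharacter.isClassFunction χ.2) hx, hval] at h
    field_simp at h
    have h' : ((a + d * d : ℕ) : ℂ) = 0 := by push_cast; linear_combination -h
    have : a + d * d = 0 := by exact_mod_cast h'
    have : 0 < d * d := Nat.mul_pos hd0 hd0
    omega
  set N := charKer (isCharacter_irr χ)
  haveI hNn : N.Normal := charKer_normal (isCharacter_irr χ)
  have hNmem : ∀ x, x ∈ N ↔ x ∈ M ∧ ¬ IsConj g x := by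
    intro x
    rw [mem_charKer, hd]
    refine ⟨fun h => ?_, fun h => hin x h.1 h.2⟩
    have hxM : x ∈ M := by
      by_contra hx
      rw [hout x hx] at h
      exact hdC h.symm
    exact ⟨hxM, fun hx => hcls x hx h⟩
  have hNM : N ≤ M := fun x hx => ((hNmem x).mp hx).1
  have hgN : g ∉ N := fun h => ((hNmem g).mp h).2 (IsConj.refl g)
  refine ⟨hgM, by rw [hval, hd], ?_, hout, ?_, ?_⟩
  · ext x
    simp only [SetLike.mem_coe, Set.mem_union, Set.mem_setOf_eq]
    refine ⟨fun hx => ?_, ?_⟩
    · by_cases hxg : IsConj g x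
      · exact Or.inr hxg
      · exact Or.inl (by rw [hd]; exact hin x hx hxg)
    · rintro (h | h)
      · exact hNM h
      · exact hMconj x h
  · intro ψ hψ hker
    by_contra hne
    have hψg := hother ψ hψ hne
    have hψ1 : (ψ : G → ℂ) 1 ≠ 1 := fun h => hψ ((charDegree_eq_one_iff ψ).mpr h)
    -- the sum of `ψ` over the derived group
    have h2 : ∑ x : G, (ψ : G → ℂ) x * (if x ∈ M then (a : ℂ) else 0) = 0 := by
      rw [Finset.sum_congr rfl fun x _ => by rw [← sum_hom x, Finset.mul_sum], Finset.sum_comm]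
      refine Finset.sum_eq_zero fun φ _ => ?_
      have h := classInner_irr_ne ψ.2 (isIrrCharacter_hom φ⁻¹) fun e => hψ1 (by
        rw [e]; simp)
      simp only [Cfsg.classInner, mul_eq_zero, inv_eq_zero, Nat.cast_eq_zero, Nat.card_pos.ne',
        false_or] at h
      refine Eq.trans (Finset.sum_congr rfl fun x _ => ?_) h
      rw [← IsCharacter.apply_inv (isCharacter_hom φ⁻¹) x]
      simp
    have h3 : ∀ x : G, (ψ : G → ℂ) x * (if x ∈ M then (a : ℂ) else 0) =
        if x ∈ N then (ψ : G → ℂ) 1 * a else 0 := by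
      intro x
      by_cases hxN : x ∈ N
      · rw [if_pos hxN, if_pos (hNM hxN), hker x hxN]
      · rw [if_neg hxN]
        by_cases hxM : x ∈ M
        · have hxg : IsConj g x := by
            by_contra h
            exact hxN ((hNmem x).mpr ⟨hxM, h⟩)
          rw [← IsClassFunction.apply_eq_of_isConj (IsIrrCharacter.isClassFunction ψ.2) hxg, hψg,
            zero_mul]
        · rw [if_neg hxM, mul_zero]
    rw [Finset.sum_congr rfl fun x _ => h3 x, ← Finset.sum_filter, Finset.sum_const, nsmul_eq_mul,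
      mul_eq_zero, mul_eq_zero, Nat.cast_eq_zero, Finset.card_eq_zero] at h2
    rcases h2 with h | h | h
    · have h5 : (1 : G) ∈ Finset.univ.filter fun x => x ∈ N := by simp [N.one_mem]
      rw [h] at h5
      simp at h5
    · exact IsIrrCharacter.apply_one_ne_zero ψ.2 h
    · exact haC h
  -- solvability
  · set q := N.relIndex M
    set C := Nat.card (Subgroup.centralizer ({g} : Set G)) with hC
    have hk1 := card_conjugates_mul g
    set k := Nat.card {x : G // IsConj x g}
    have hMN : Nat.card N * q = Nat.card M := by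
      rw [← Subgroup.relIndex_bot_left, ← Subgroup.relIndex_bot_left]
      exact Subgroup.relIndex_mul_relIndex ⊥ N M bot_le hNM
    have hk2 : k + Nat.card N = Nat.card M := by
      let e : {x : G // IsConj x g} ⊕ N ≃ M :=
        { toFun := Sum.elim (fun x => ⟨x.1, hMconj _ x.2.symm⟩) (fun x => ⟨x.1, hNM x.2⟩)
          invFun := fun x => if h : IsConj g (x : G) then Sum.inl ⟨x, h.symm⟩
            else Sum.inr ⟨x, (hNmem _).mpr ⟨x.2, h⟩⟩
          left_inv := by
            rintro (x | x)
            · dsimp only [Sum.elim_inl]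
              rw [dif_pos x.2.symm]
            · dsimp only [Sum.elim_inr]
              rw [dif_neg ((hNmem _).mp x.2).2]
          right_inv := fun x => by
            dsimp only
            split_ifs <;> rfl }
      rw [← Nat.card_congr e, Nat.card_sum]
    have hG : Nat.card G = Nat.card M * a := (M.card_mul_index).symm
    have hq1 : 1 ≤ q := Nat.pos_of_ne_zero fun h => by
      rw [h, mul_zero] at hMN
      exact Nat.card_pos.ne hMN
    have hcen : C * (q - 1) = a * q := by
      have hk3 : k = Nat.card N * (q - 1) := by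
        rw [Nat.mul_sub_one, hMN]; omega
      rw [hk3, hG, ← hMN] at hk1
      refine Nat.eq_of_mul_eq_mul_left (n := Nat.card N) Nat.card_pos ?_
      calc Nat.card N * (C * (q - 1)) = Nat.card N * (q - 1) * C := by ring
        _ = Nat.card N * q * a := hk1
        _ = Nat.card N * (a * q) := by ring
    have hCd : C * (d * d) = a * (d * d) + a * a := by
      have h := horth g
      rw [if_pos (by simp [M.one_mem]), if_pos (IsConj.refl g), hconj, hval] at h
      field_simp at h
      have h' : ((C * (d * d) : ℕ) : ℂ) = ((a * (d * d) + a * a : ℕ) : ℂ) := by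
        push_cast
        linear_combination -h
      exact_mod_cast h'
    obtain ⟨q', hq'⟩ : ∃ q', q = q' + 1 := ⟨q - 1, by omega⟩
    refine CfsgLib.PGroup.OneClassCoset.isSolvable (N := N) (M := M) (g := g)
      { lt := lt_of_le_of_ne hNM fun h => hgN (h.symm ▸ hgM)
        eq := hM
        cen := fun z hz => by
          by_contra hzM
          exact apply_ne_zero_of_central χ z (fun y => hz y) (hout z hzM)
        gM := hgM
        gN := hgN
        cls := fun h hM' hN' => by
          by_contra hc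
          exact hN' ((hNmem h).mpr ⟨hM', hc⟩)
        card_cen := hcen
        index_sq := ⟨d, by omega, ?_⟩ }
    change a * (q - 1) = d * d
    rw [hq', Nat.add_sub_cancel] at hcen ⊢
    have h4 : a * (a * q') = a * (d * d) := by
      have : a * (q' + 1) * (d * d) = (a * (d * d) + a * a) * q' := by rw [← hCd, ← hcen]; ring
      linarith
    exact Nat.eq_of_mul_eq_mul_left (Nat.pos_of_ne_zero M.index_ne_zero_of_finite) h4

end Cfsg.Agent.S4805
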