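import Cfsg.Statements.S4808
import Cfsg.Agent.Lib.DegreeTools.Codegree
-- import your own Cfsg.Agent.* helpers here

set_option autoImplicit false
open Cfsg

namespace Cfsg.Agent.S4808

open CfsgLib.DegreeTools CfsgLib.Char

universe u

theorem key {p : ℕ} (hp : p.Prime) : ∀ (n : ℕ) (G : Type u) [Group G] [Finite G],
    Nat.card G = n → p ∣ Nat.card G →
      ∃ χ : Cfsg.IrrCharacter G, p ∣ (Nat.card G / (Nat.card {g : G // (χ : G → ℂ) g =
        (χ : G → ℂ) 1} * Cfsg.charDegree (χ : G → ℂ))) := by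
  intro n
  induction n using Nat.strong_induction_on with
  | _ n ih =>
  intro G _ _ hn hpG
  classical
  cases nonempty_fintype G
  by_contra hcon
  push Not at hcon
  have hquot : ∀ K : Subgroup G, K.Normal → K ≠ ⊥ → ¬ p ∣ K.index := by
    intro K hK hK1 hd
    haveI := hK
    have hlt : Nat.card (G ⧸ K) < n := by
      have h2 : 1 < Nat.card K := by
        haveI := (Subgroup.nontrivial_iff_ne_bot K).mpr hK1
        exact Finite.one_lt_card
      have h3 := Subgroup.card_mul_index K
      rw [← hn, ← h3]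
      exact lt_mul_of_one_lt_left Nat.card_pos h2
    obtain ⟨ψ, hψ⟩ := ih _ hlt (G ⧸ K) rfl hd
    set χ := (irrQuotientEquiv K ψ).1
    refine hcon χ ?_
    have hdeg : Cfsg.charDegree (χ : G → ℂ) = Cfsg.charDegree (ψ : G ⧸ K → ℂ) := rfl
    have hker : Nat.card {g : G // (χ : G → ℂ) g = (χ : G → ℂ) 1} =
        Nat.card K * Nat.card {g : G ⧸ K // (ψ : G ⧸ K → ℂ) g = (ψ : G ⧸ K → ℂ) 1} := by
      rw [card_ker_eq, card_ker_eq]
      have hmap : charKer (isCharacter_irr χ) =
          (charKer (isCharacter_irr ψ)).comap (QuotientGroup.mk' K) := by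
        ext g
        rw [Subgroup.mem_comap, mem_charKer, mem_charKer]
        rfl
      have hi := Subgroup.index_comap_of_surjective (charKer (isCharacter_irr ψ))
        (QuotientGroup.mk'_surjective K)
      rw [← hmap] at hi
      have e1 := Subgroup.card_mul_index (charKer (isCharacter_irr χ))
      have e2 := Subgroup.card_mul_index (charKer (isCharacter_irr ψ))
      have e3 := Subgroup.card_mul_index K
      rw [hi] at e1
      refine Nat.eq_of_mul_eq_mul_right (Nat.pos_of_ne_zero
        (Subgroup.index_ne_zero_of_finite (H := charKer (isCharacter_irr ψ)))) ?_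
      rw [e1, mul_assoc, e2, ← e3]
      rfl
    rw [hdeg, hker, mul_assoc, ← Subgroup.card_mul_index K, Nat.mul_div_mul_left _ _ Nat.card_pos]
    exact hψ
  haveI : Nontrivial G := Finite.one_lt_card_iff_nontrivial.mp
    (lt_of_lt_of_le hp.one_lt (Nat.le_of_dvd Nat.card_pos hpG))
  -- a minimal nontrivial normal subgroup
  have hex : ∃ m : ℕ, ∃ N : Subgroup G, N.Normal ∧ N ≠ ⊥ ∧ Nat.card N = m :=
    ⟨_, ⊤, inferInstance, top_ne_bot, rfl⟩
  obtain ⟨N, hNn, hN1, hNc⟩ := Nat.find_spec hex
  haveI := hNn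
  apply hquot N hNn hN1
  have hall : ∀ K : Subgroup G, K.Normal → K ≠ ⊥ → N ≤ K := by
    intro K hK hK1
    by_cases hinf : N ⊓ K = ⊥
    · exfalso
      haveI := hK
      have h1 : Nat.card N ∣ K.index := by
        have := Subgroup.relIndex_dvd_index_of_normal K N
        rwa [← Subgroup.inf_relIndex_left, hinf, Subgroup.relIndex_bot_left] at this
      have h2 : p ∣ N.index * K.index := by
        refine hpG.trans ?_
        rw [← Subgroup.index_mul_card N]
        exact Nat.mul_dvd_mul_left _ h1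
      rcases hp.dvd_mul.mp h2 with h | h
      · exact hquot N hNn hN1 h
      · exact hquot K hK hK1 h
    · have hle := Nat.find_min' hex ⟨N ⊓ K, @Subgroup.normal_inf_normal _ _ N K hNn hK, hinf, rfl⟩
      rw [← hNc] at hle
      exact inf_eq_left.mp (Subgroup.eq_of_le_of_card_ge inf_le_left hle)
  have hsum := sum_deg_sq (G := G)
  rw [← Finset.sum_filter_add_sum_filter_not Finset.univ (fun χ : Cfsg.IrrCharacter G =>
    ∀ n ∈ N, (χ : G → ℂ) n = (χ : G → ℂ) 1)] at hsum
  have hfaith : p ∣ ∑ χ ∈ Finset.univ.filter (fun χ : Cfsg.IrrCharacter G =>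
      ¬ ∀ n ∈ N, (χ : G → ℂ) n = (χ : G → ℂ) 1), Cfsg.charDegree (χ : G → ℂ) ^ 2 := by
    refine Finset.dvd_sum fun χ hχ => dvd_pow ?_ two_ne_zero
    have hker : charKer (isCharacter_irr χ) = ⊥ := by
      by_contra hK1
      exact (Finset.mem_filter.mp hχ).2 fun n hn =>
        (mem_charKer _).mp (hall _ (charKer_normal _) hK1 hn)
    have hc := hcon χ
    rw [card_ker_eq, hker, Subgroup.card_bot, one_mul] at hc
    have hmul := Nat.div_mul_cancel (deg_dvd_card χ)
    rcases hp.dvd_mul.mp (hmul.symm ▸ hpG :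
      p ∣ Nat.card G / Cfsg.charDegree (χ : G → ℂ) * Cfsg.charDegree (χ : G → ℂ)) with h | h
    · exact absurd h hc
    · exact h
  have hinfl : ∑ χ ∈ Finset.univ.filter (fun χ : Cfsg.IrrCharacter G =>
      ∀ n ∈ N, (χ : G → ℂ) n = (χ : G → ℂ) 1), Cfsg.charDegree (χ : G → ℂ) ^ 2 = N.index := by
    rw [Finset.sum_subtype _ (p := fun χ : Cfsg.IrrCharacter G =>
      ∀ n ∈ N, (χ : G → ℂ) n = (χ : G → ℂ) 1) (fun χ => by simp),
      ← Equiv.sum_comp (irrQuotientEquiv N), Subgroup.index, ← sum_deg_sq (G := G ⧸ N)]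
    rfl
  rw [hinfl] at hsum
  exact (Nat.dvd_add_left hfaith).mp (hsum ▸ hpG)


/-- The codegree of an irreducible complex character χ of a finite group G is [G : ker χ] / χ(1), where ker χ is the set of elements at which χ takes the value χ(1). A prime divides the order of G if and only if it divides the codegree of some irreducible complex character of G. -/
theorem result {G : Type*} [Group G] [Finite G] (p : ℕ) (hp : p.Prime) : p ∣ Nat.card G ↔ ∃ χ : Cfsg.IrrCharacter G, p ∣ (Nat.card G / (Nat.card {g : G // (χ : G → ℂ) g = (χ : G → ℂ) 1} * Cfsg.charDegree (χ : G → ℂ))) := by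
  exact ⟨key hp _ G rfl, fun ⟨χ, hχ⟩ => hχ.trans (codegree_dvd_card χ)⟩

end Cfsg.Agent.S4808
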