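import Cfsg.Statements.S4814
import Cfsg.Agent.Lib.DegreeTools.Basic
import Cfsg.Agent.Lib.Char.ClassSum
-- import your own Cfsg.Agent.* helpers here

set_option autoImplicit false
open Cfsg

namespace Cfsg.Agent.S4814

open CfsgLib.Char CfsgLib.DegreeTools

/-- Let G be a finite group such that the sum, over the irreducible complex characters χ of G, of 1/χ(1)² is less than 2. Then every element of G is a product of two commutators. -/
theorem result {G : Type*} [Group G] [Finite G]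
    (h : ∑ᶠ χ : Cfsg.IrrCharacter G, 1 / ‖(χ : G → ℂ) 1‖ ^ 2 < (2 : ℝ)) (g : G) :
    ∃ a b c d : G, (a * b * a⁻¹ * b⁻¹) * (c * d * c⁻¹ * d⁻¹) = g := by
  classical
  cases nonempty_fintype G
  rw [finsum_eq_sum_of_fintype, ← Finset.add_sum_erase _ _ (Finset.mem_univ (oneChar G))] at h
  have hpos : 0 < (∑ χ : Cfsg.IrrCharacter G, (χ : G → ℂ) g / (χ : G → ℂ) 1 ^ 3).re := by
    rw [← Finset.add_sum_erase _ _ (Finset.mem_univ (oneChar G)), Complex.add_re]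
    have hb : ‖∑ χ ∈ Finset.univ.erase (oneChar G), (χ : G → ℂ) g / (χ : G → ℂ) 1 ^ 3‖ ≤
        ∑ χ ∈ Finset.univ.erase (oneChar G), 1 / ‖(χ : G → ℂ) 1‖ ^ 2 := by
      refine (norm_sum_le _ _).trans (Finset.sum_le_sum fun χ _ => ?_)
      have h0 : (0 : ℝ) < ‖(χ : G → ℂ) 1‖ := norm_pos_iff.mpr (IsIrrCharacter.apply_one_ne_zero χ.2)
      rw [norm_div, norm_pow, div_le_div_iff₀ (by positivity) (by positivity), one_mul]
      have hle : ‖(χ : G → ℂ) g‖ ≤ ‖(χ : G → ℂ) 1‖ := by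
        rw [norm_apply_one]; exact norm_apply_le χ g
      calc ‖(χ : G → ℂ) g‖ * ‖(χ : G → ℂ) 1‖ ^ 2 ≤ ‖(χ : G → ℂ) 1‖ * ‖(χ : G → ℂ) 1‖ ^ 2 :=
            mul_le_mul_of_nonneg_right hle (by positivity)
        _ = ‖(χ : G → ℂ) 1‖ ^ 3 := by ring
    have hre := neg_le_of_abs_le ((Complex.abs_re_le_norm _).trans hb)
    simp only [coe_oneChar, norm_one, one_pow, div_one, Complex.one_re] at h ⊢
    linarith
  set N1 : G → ℂ := fun k =>
    (Nat.card {p : G × G // p.1 * p.2 * p.1⁻¹ * p.2⁻¹ = k} : ℂ) with hN1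
  have hconv : ∑ k : G, N1 k * N1 (k⁻¹ * g) =
      (Nat.card G : ℂ) ^ 3 * ∑ χ : Cfsg.IrrCharacter G, (χ : G → ℂ) g / (χ : G → ℂ) 1 ^ 3 := by
    simp only [hN1, card_commutator_eq, Finset.mul_sum, Finset.sum_mul]
    rw [Finset.sum_comm]
    refine Finset.sum_congr rfl fun χ _ => ?_
    rw [Finset.sum_comm, Finset.sum_eq_single χ]
    · have h1 := IsIrrCharacter.sum_mul_apply χ.2 χ.2 g
      rw [if_pos rfl] at h1
      rw [Finset.sum_congr rfl fun k _ => show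
        (Nat.card G : ℂ) * ((χ : G → ℂ) k / (χ : G → ℂ) 1) *
          ((Nat.card G : ℂ) * ((χ : G → ℂ) (k⁻¹ * g) / (χ : G → ℂ) 1)) =
        (Nat.card G : ℂ) ^ 2 / (χ : G → ℂ) 1 ^ 2 * ((χ : G → ℂ) k * (χ : G → ℂ) (k⁻¹ * g)) by ring,
        ← Finset.mul_sum, h1]
      ring
    · intro ψ _ hψ
      have h1 : ∀ χ' ψ' : Cfsg.IrrCharacter G, χ' ≠ ψ' →
          ∑ k : G, (χ' : G → ℂ) k * (ψ' : G → ℂ) (k⁻¹ * g) = 0 := by
        intro χ' ψ' hne
        rw [IsIrrCharacter.sum_mul_apply χ'.2 ψ'.2 g, if_neg fun e => hne (Subtype.ext e)]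
      first
        | rw [Finset.sum_congr rfl fun k _ => show
            (Nat.card G : ℂ) * ((χ : G → ℂ) k / (χ : G → ℂ) 1) *
              ((Nat.card G : ℂ) * ((ψ : G → ℂ) (k⁻¹ * g) / (ψ : G → ℂ) 1)) =
            (Nat.card G : ℂ) ^ 2 / ((χ : G → ℂ) 1 * (ψ : G → ℂ) 1) *
              ((χ : G → ℂ) k * (ψ : G → ℂ) (k⁻¹ * g)) by ring, ← Finset.mul_sum,
            h1 χ ψ (Ne.symm hψ), mul_zero]
        | rw [Finset.sum_congr rfl fun k _ => show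
            (Nat.card G : ℂ) * ((ψ : G → ℂ) k / (ψ : G → ℂ) 1) *
              ((Nat.card G : ℂ) * ((χ : G → ℂ) (k⁻¹ * g) / (χ : G → ℂ) 1)) =
            (Nat.card G : ℂ) ^ 2 / ((χ : G → ℂ) 1 * (ψ : G → ℂ) 1) *
              ((ψ : G → ℂ) k * (χ : G → ℂ) (k⁻¹ * g)) by ring, ← Finset.mul_sum,
            h1 ψ χ hψ, mul_zero]
    · exact fun hn => absurd (Finset.mem_univ _) hn
  have hne : ∑ k : G, N1 k * N1 (k⁻¹ * g) ≠ 0 := by
    rw [hconv]
    refine mul_ne_zero (pow_ne_zero _ card_ne_zero) fun e => ?_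
    rw [e, Complex.zero_re] at hpos
    exact lt_irrefl _ hpos
  obtain ⟨k, -, hk⟩ := Finset.exists_ne_zero_of_sum_ne_zero hne
  obtain ⟨hk1, hk2⟩ := mul_ne_zero_iff.mp hk
  simp only [hN1, ne_eq, Nat.cast_eq_zero, Nat.card_eq_zero, not_or, not_isEmpty_iff] at hk1 hk2
  obtain ⟨⟨⟨a, b⟩, hab⟩⟩ := hk1.1
  obtain ⟨⟨⟨c, d⟩, hcd⟩⟩ := hk2.1
  refine ⟨a, b, c, d, ?_⟩
  simp only at hab hcd
  rw [hab, hcd, mul_inv_cancel_left]

end Cfsg.Agent.S4814
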