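import Cfsg.Statements.S4825
import Cfsg.Agent.Lib.Blocks.OverCount

set_option autoImplicit false
open Cfsg

namespace Cfsg.Agent.S4825

/-- Let p be a prime, G a finite group with Sylow p-subgroup P, M a maximal ideal of the algebraic integers containing p, and B a p-block of G with defect group P. Let N be a normal subgroup of G not containing P and θ an irreducible character of N. Then the number of irreducible characters in B of degree prime to p lying over θ (having θ as a constituent on restriction to N) is either 0 or at least 2, and when p ≤ 3 it is divisible by p. -/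
theorem result {G : Type*} [Group G] [Fintype G] (p : ℕ) [Fact p.Prime] (P : Sylow p G) (M : Ideal Cfsg.AlgInt) (hM : Cfsg.IsPModular p M) (B : Set (Cfsg.IrrCharacter G)) (hB : Cfsg.IsPBlock M B) (hBP : Cfsg.IsDefectGroup p M B P) (N : Subgroup G) [N.Normal] [Fintype N] (hPN : ¬ (P : Subgroup G) ≤ N) (θ : Cfsg.IrrCharacter N) :
    (Nat.card {χ : Cfsg.IrrCharacter G // χ ∈ B ∧ ¬ p ∣ Cfsg.charDegree (χ : G → ℂ) ∧ Cfsg.classInner (fun n : N => (χ : G → ℂ) n) (θ : N → ℂ) ≠ 0} = 0 ∨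
      2 ≤ Nat.card {χ : Cfsg.IrrCharacter G // χ ∈ B ∧ ¬ p ∣ Cfsg.charDegree (χ : G → ℂ) ∧ Cfsg.classInner (fun n : N => (χ : G → ℂ) n) (θ : N → ℂ) ≠ 0}) ∧
    (p ≤ 3 → p ∣ Nat.card {χ : Cfsg.IrrCharacter G // χ ∈ B ∧ ¬ p ∣ Cfsg.charDegree (χ : G → ℂ) ∧ Cfsg.classInner (fun n : N => (χ : G → ℂ) n) (θ : N → ℂ) ≠ 0}) := by
  classical
  have hp : p.Prime := Fact.out
  have hnat : ∀ χ : Cfsg.IrrCharacter G, ∃ n : ℕ,
      CfsgLib.Blocks.OverCount.mult N θ χ = (n : ℂ) := fun χ => by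
    obtain ⟨n, hn⟩ := CfsgLib.Char.IsCharacter.classInner_nat
      (CfsgLib.Char.IsCharacter.restrict (CfsgLib.Char.isCharacter_irr χ) N)
      (CfsgLib.Char.isCharacter_irr θ)
    refine ⟨n, ?_⟩
    rw [← hn, CfsgLib.Blocks.OverCount.mult]
    congr 1 <;> first | rfl | exact Subsingleton.elim _ _
  choose c hc using hnat
  obtain ⟨m, hm⟩ := CfsgLib.Blocks.OverCount.exists_deg_eq N θ
  have hdeg : ∀ χ : Cfsg.IrrCharacter G, c χ ≠ 0 →
      Cfsg.charDegree (χ : G → ℂ) = c χ * m := fun χ hne => by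
    have h := hm χ (by rw [hc]; exact_mod_cast hne)
    rw [hc, CfsgLib.Blocks.irr_one_eq] at h
    exact_mod_cast h
  set T := Finset.univ.filter fun χ : Cfsg.IrrCharacter G =>
    χ ∈ B ∧ ¬ p ∣ Cfsg.charDegree (χ : G → ℂ) ∧ c χ ≠ 0 with hT
  have hcard : Nat.card {χ : Cfsg.IrrCharacter G // χ ∈ B ∧ ¬ p ∣ Cfsg.charDegree (χ : G → ℂ) ∧
      Cfsg.classInner (fun n : N => (χ : G → ℂ) n) (θ : N → ℂ) ≠ 0} = T.card := by
    rw [Nat.card_eq_fintype_card, Fintype.card_subtype, hT]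
    congr 1
    refine Finset.filter_congr fun χ _ => and_congr_right fun _ => and_congr_right fun _ =>
      not_congr ?_
    rw [show Cfsg.classInner (fun n : N => (χ : G → ℂ) n) (θ : N → ℂ) = (c χ : ℂ) by
      rw [← hc χ, CfsgLib.Blocks.OverCount.mult]
      congr 1 <;> first | rfl | exact Subsingleton.elim _ _, Nat.cast_eq_zero]
  rw [hcard]
  have hsum := CfsgLib.Blocks.OverCount.LI_sum_mult_deg hM hB N θ P.isPGroup' hPN
  rw [Finset.sum_congr rfl (g := fun χ : Cfsg.IrrCharacter G =>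
    if χ ∈ B then ((c χ * c χ * m : ℕ) : ℂ) else 0) fun χ _ => by
      rw [hc]
      by_cases hχ : χ ∈ B
      · rw [CfsgLib.Blocks.blockInd_of_mem hχ, if_pos hχ, one_mul]
        rcases eq_or_ne (c χ) 0 with h0 | h0
        · simp [h0]
        · rw [CfsgLib.Blocks.irr_one_eq, hdeg χ h0]; push_cast; ring
      · rw [CfsgLib.Blocks.blockInd_of_notMem hχ, if_neg hχ, zero_mul, zero_mul],
    ← Finset.sum_filter, ← Nat.cast_sum, CfsgLib.Blocks.LI.natCast_iff hM] at hsum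
  rcases T.eq_empty_or_nonempty with h0 | ⟨χ₀, hχ₀⟩
  · simp [h0]
  obtain ⟨hB0, hp0, hc0⟩ := (Finset.mem_filter.1 hχ₀).2
  have hm' : ¬ p ∣ m := fun h => hp0 (by rw [hdeg χ₀ hc0]; exact h.mul_left _)
  have hsq : p ∣ ∑ χ ∈ T, c χ * c χ := by
    have h1 : ∑ χ ∈ T, c χ * c χ * m ≡
        ∑ χ ∈ Finset.univ.filter (fun χ => χ ∈ B), c χ * c χ * m [MOD p] := by
      have hsub : T ⊆ Finset.univ.filter (fun χ => χ ∈ B) := fun χ h =>
        Finset.mem_filter.2 ⟨Finset.mem_univ _, (Finset.mem_filter.1 h).2.1⟩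
      rw [← Finset.sum_sdiff hsub]
      refine (Nat.modEq_iff_dvd' (Nat.le_add_left _ _)).2 ?_
      rw [Nat.add_sub_cancel]
      refine Finset.dvd_sum fun χ hχ => ?_
      obtain ⟨hχB, hχT⟩ := Finset.mem_sdiff.1 hχ
      rcases eq_or_ne (c χ) 0 with h0 | h0
      · simp [h0]
      have hd : p ∣ Cfsg.charDegree (χ : G → ℂ) := by
        by_contra hd
        exact hχT (Finset.mem_filter.2 ⟨Finset.mem_univ _, (Finset.mem_filter.1 hχB).2, hd, h0⟩)
      rw [hdeg χ h0] at hd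
      rw [mul_assoc]
      exact hd.mul_left _
    have h2 : p ∣ ∑ χ ∈ T, c χ * c χ * m := h1.dvd_iff dvd_rfl |>.2 hsum
    rw [← Finset.sum_mul] at h2
    exact (hp.dvd_mul.1 h2).resolve_right hm'
  have hcp : ∀ χ ∈ T, ¬ p ∣ c χ := fun χ hχ h => by
    obtain ⟨-, hd, h0⟩ := (Finset.mem_filter.1 hχ).2
    exact hd (by rw [hdeg χ h0]; exact h.mul_right _)
  refine ⟨Or.inr ?_, fun hp3 => ?_⟩
  · by_contra hlt
    have hT1 : T = {χ₀} := Finset.eq_singleton_iff_unique_mem.2 ⟨hχ₀, fun y hy =>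
      Finset.card_le_one.1 (by omega) y hy χ₀ hχ₀⟩
    rw [hT1, Finset.sum_singleton] at hsq
    exact hcp χ₀ hχ₀ ((hp.dvd_mul.1 hsq).elim id id)
  · have key : ((T.card : ℕ) : ZMod p) = ((∑ χ ∈ T, c χ * c χ : ℕ) : ZMod p) := by
      rw [Nat.cast_sum, Finset.card_eq_sum_ones, Nat.cast_sum]
      refine Finset.sum_congr rfl fun χ hχ => ?_
      have hne : (c χ : ZMod p) ≠ 0 := fun h =>
        hcp χ hχ ((ZMod.natCast_eq_zero_iff _ _).1 h)
      push_cast
      have hp1 := CfsgLib.Blocks.OverCount.one_eq_mul_self (q := p) (by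
        rcases (show p = 2 ∨ p = 3 by have := hp.two_le; omega) with h | h <;> simp [h])
      exact hp1 _ hne
    rw [(ZMod.natCast_eq_zero_iff _ _).2 hsq] at key
    exact (ZMod.natCast_eq_zero_iff _ _).1 key

end Cfsg.Agent.S4825
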