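import Cfsg.Statements.S4828
import Cfsg.Agent.Lib.BrauerPairs.MaximalCriterion
-- import your own Cfsg.Agent.* helpers here

set_option autoImplicit false
open Cfsg

namespace Cfsg.Agent.S4828

/-- Let p be a prime, M a maximal ideal of the algebraic integers containing p, and (Q, e) a Brauer pair of the finite group G (Q a p-subgroup, e a block of C_G(Q)). Then (Q, e) is a maximal Brauer pair of some block of G if and only if e contains an irreducible character θ such that θ takes the value θ(1) at every element of Z(Q) = Q ∩ C_G(Q), the p-part of θ(1) times the p-part of the order of Z(Q) equals the p-part of the order of C_G(Q) (θ has defect zero as a character of C_G(Q)/Z(Q)), and every element of N_G(Q) of p-power order that stabilizes e lies in Q·C_G(Q) (the stabilizer of e in N_G(Q) has index prime to p over Q·C_G(Q)). -/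
theorem result {G : Type*} [Group G] [Finite G] (p : ℕ) [Fact p.Prime] (M : Ideal Cfsg.AlgInt) (hM : Cfsg.IsPModular p M) (Q : Subgroup G) (e : Set (Cfsg.IrrCharacter (Subgroup.centralizer (Q : Set G)))) (he : Cfsg.IsBrauerPair p M Q e) :
    (∃ B : Set (Cfsg.IrrCharacter G), Cfsg.IsMaximalBrauerPair p M B Q e) ↔
      ∃ θ ∈ e, (∀ z : Subgroup.centralizer (Q : Set G), (z : G) ∈ Q → (θ : Subgroup.centralizer (Q : Set G) → ℂ) z = (θ : Subgroup.centralizer (Q : Set G) → ℂ) 1) ∧
        (Cfsg.charDegree (θ : Subgroup.centralizer (Q : Set G) → ℂ)).factorization p + (Nat.card ↥(Q ⊓ Subgroup.centralizer (Q : Set G))).factorization p = (Nat.card (Subgroup.centralizer (Q : Set G))).factorization p ∧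
        (∀ g : G, g ∈ Subgroup.normalizer (Q : Set G) → Cfsg.StabilizesBlock (Subgroup.centralizer (Q : Set G)) e g → (∃ k : ℕ, orderOf g = p ^ k) → g ∈ Q ⊔ Subgroup.centralizer (Q : Set G)) := by
  classical
  cases nonempty_fintype G
  have hcard : Nat.card ↥((Q ⊓ Subgroup.centralizer (Q : Set G)).subgroupOf
      (Subgroup.centralizer (Q : Set G))) = Nat.card ↥(Q ⊓ Subgroup.centralizer (Q : Set G)) :=
    Nat.card_congr (Subgroup.subgroupOfEquivOfLe inf_le_right).toEquiv
  constructor
  · rintro ⟨B, hB⟩
    obtain ⟨hD, hst⟩ := CfsgLib.BrauerPairs.of_isMaximal hM hB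
    obtain ⟨θ, hθ, hθz, hθd⟩ := CfsgLib.BrauerPairs.exists_theta hM he.2 hD
      CfsgLib.BrauerPairs.centre_le_center
    rw [hcard] at hθd
    exact ⟨θ, hθ, fun z hz => hθz z ⟨hz, z.2⟩, hθd, hst⟩
  · rintro ⟨θ, hθ, -, hθd, hst⟩
    refine CfsgLib.BrauerPairs.isMaximal_of_stab hM he ?_ hst
    have h := (CfsgLib.Blocks.defectGroup_and_vanish_of_central hM
      (IsPGroup.comap_subtype (he.1.to_le inf_le_left) :
        IsPGroup p ↥((Q ⊓ Subgroup.centralizer (Q : Set G)).subgroupOf
          (Subgroup.centralizer (Q : Set G))))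
      CfsgLib.BrauerPairs.centre_le_center θ ?_).1
    · rwa [← CfsgLib.Blocks.IsPBlock.eq_blockOf hM he.2 hθ] at h
    · have h := Subgroup.card_mul_index ((Q ⊓ Subgroup.centralizer (Q : Set G)).subgroupOf
        (Subgroup.centralizer (Q : Set G)))
      rw [hcard] at h
      rw [← h, Nat.factorization_mul Nat.card_pos.ne' Subgroup.index_ne_zero_of_finite,
        Finsupp.add_apply] at hθd
      exact (show _ = _ from by
        simp only [CfsgLib.Blocks.degVal]
        change _ = ((Q ⊓ Subgroup.centralizer (Q : Set G)).subgroupOf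
          (Subgroup.centralizer (Q : Set G))).index.factorization p
        omega)

end Cfsg.Agent.S4828
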