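import Cfsg.Statements.S4838
import Cfsg.Agent.Lib.DegreeTools.TwoClassSylow
import Cfsg.Agent.Lib.Char.Quotient
-- import your own Cfsg.Agent.* helpers here

set_option autoImplicit false
open Cfsg

namespace Cfsg.Agent.S4838

open CfsgLib.DegreeTools CfsgLib.Char

theorem centralizer_quot {G : Type*} [Group G] [Finite G] {χ : Cfsg.IrrCharacter G} {x₀ : G}
    (h : TwoClass χ x₀) (N : Subgroup G) [N.Normal] (hNeq : h.normalSubgroup = N) {x : G}
    (hx : x ∉ N) :
    Nat.card (Subgroup.centralizer ({x} : Set G)) =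
      Nat.card (Subgroup.centralizer ({(x : G ⧸ N)} : Set (G ⧸ N))) := by
  classical
  have hχx : (χ : G → ℂ) x = 0 := by
    by_contra h0
    exact hx (hNeq ▸ h.apply_ne_zero_iff.mp h0)
  have key : ∀ ψ : Cfsg.IrrCharacter G, ψ ≠ χ → ∀ n ∈ N, (ψ : G → ℂ) n = (ψ : G → ℂ) 1 := by
    intro ψ hψ n hn
    rcases h.mem_normalSubgroup_iff.mp (hNeq.symm ▸ hn) with rfl | hc
    · rfl
    · rw [← IsClassFunction.apply_eq_of_isConj (IsIrrCharacter.isClassFunction ψ.2) hc]
      exact h.other_apply ψ hψ
  apply Nat.cast_injective (R := ℝ)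
  rw [← sum_norm_sq_col, ← sum_norm_sq_col]
  rw [← Finset.sum_filter_of_ne (p := fun ψ : Cfsg.IrrCharacter G =>
      ∀ n ∈ N, (ψ : G → ℂ) n = (ψ : G → ℂ) 1) (fun ψ _ hψ => ?_)]
  · rw [Finset.sum_subtype _ (p := fun ψ : Cfsg.IrrCharacter G =>
      ∀ n ∈ N, (ψ : G → ℂ) n = (ψ : G → ℂ) 1) (fun ψ => by simp)]
    exact (Equiv.sum_comp (irrQuotientEquiv N) _).symm
  · refine key ψ fun e => hψ ?_
    rw [e, hχx, norm_zero, zero_pow two_ne_zero]

/-- Let G be a finite group of order greater than 2 with an irreducible character χ nonzero on exactly two conjugacy classes, N the normal p-subgroup of elements where χ is nonzero, and P a Sylow p-subgroup of G. Then (a) for every x outside N the centralizer of x in G has the same order as the centralizer of xN in G/N; (b) the centre of P lies in N, and equals N exactly when P is normal in G; (c) N, viewed inside P, is a term of the upper central series of P. -/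
theorem result {G : Type*} [Group G] [Finite G] (hG : 2 < Nat.card G) (χ : Cfsg.IrrCharacter G) (hχ : Nat.card {C : ConjClasses G // ∃ g ∈ C.carrier, (χ : G → ℂ) g ≠ 0} = 2) (p : ℕ) [Fact p.Prime] (N : Subgroup G) [N.Normal] (hN : ∀ g : G, g ∈ N ↔ (χ : G → ℂ) g ≠ 0) (hNp : IsPGroup p N) (hN1 : N ≠ ⊥) (P : Sylow p G) :
    (∀ x : G, x ∉ N → Nat.card (Subgroup.centralizer ({x} : Set G)) = Nat.card (Subgroup.centralizer ({(x : G ⧸ N)} : Set (G ⧸ N)))) ∧
      ((Subgroup.center ↥(P : Subgroup G)).map (P : Subgroup G).subtype ≤ N ∧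
        ((Subgroup.center ↥(P : Subgroup G)).map (P : Subgroup G).subtype = N ↔ (P : Subgroup G).Normal)) ∧
      (∃ i : ℕ, Subgroup.upperCentralSeries ↥(P : Subgroup G) i = N.subgroupOf (P : Subgroup G)) := by
  classical
  obtain ⟨x₀, h⟩ := exists_twoClass hG χ hχ
  have hNeq := h.normalSubgroup_eq N hN
  have hpp : p.Prime := Fact.out
  have hquot : ∀ x : G, x ∉ N → Nat.card (Subgroup.centralizer ({x} : Set G)) =
      Nat.card (Subgroup.centralizer ({(x : G ⧸ N)} : Set (G ⧸ N))) :=
    fun x hx => centralizer_quot h N hNeq hx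
  -- a `p`-subgroup centralising an element outside `N` has order at most `|P|/|N|`
  have hsmall : ∀ x : G, x ∉ N → ∀ K : Subgroup G, IsPGroup p K →
      K ≤ Subgroup.centralizer ({x} : Set G) →
      Nat.card K * Nat.card N ≤ Nat.card (P : Subgroup G) := by
    intro x hx K hKp hKC
    have h1 : Nat.card K ∣ N.index := (Subgroup.card_dvd_of_le hKC).trans
      ((hquot x hx).symm ▸ Subgroup.card_subgroup_dvd_card _)
    have h2 : Nat.card K * Nat.card N ∣ Nat.card G := by
      rw [← Subgroup.index_mul_card N]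
      exact Nat.mul_dvd_mul_right h1 _
    obtain ⟨a, ha⟩ := IsPGroup.iff_card.mp hKp
    obtain ⟨b, hb⟩ := IsPGroup.iff_card.mp hNp
    rw [P.card_eq_multiplicity]
    rw [ha, hb, ← pow_add] at h2 ⊢
    exact Nat.pow_le_pow_right hpp.pos
      ((hpp.pow_dvd_iff_le_factorization Nat.card_pos.ne').mp h2)
  have hNP : N ≤ (P : Subgroup G) := by
    have h1 : IsPGroup p ↥((P : Subgroup G) ⊔ N) := P.isPGroup'.to_sup_of_normal_right hNp
    exact le_sup_right.trans (P.is_maximal' h1 le_sup_left).le
  have hN2 : 2 ≤ Nat.card N := by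
    have := (Subgroup.nontrivial_iff_ne_bot N).mpr hN1
    exact Finite.one_lt_card
  have hZN : (Subgroup.center ↥(P : Subgroup G)).map (P : Subgroup G).subtype ≤ N := by
    rintro _ ⟨z, hz, rfl⟩
    by_contra hzN
    have h1 := hsmall (z : G) hzN P P.isPGroup' (fun g hg => by
      rw [Subgroup.mem_centralizer_singleton_iff]
      exact congrArg Subtype.val (Subgroup.mem_center_iff.mp hz ⟨g, hg⟩))
    exact absurd h1 (Nat.not_le.mpr (lt_mul_of_one_lt_right Nat.card_pos hN2))
  have hcent : ∀ x ∈ N, x ≠ 1 → ∃ Q : Sylow p G, Subgroup.centralizer ({x} : Set G) = Q := by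
    intro x hx hx1
    have h' := h.of_mem (y := x) (hNeq.symm ▸ hx) hx1
    exact h'.exists_sylow_eq_centralizer ((h'.normalSubgroup_eq N hN).symm ▸ hNp)
  refine ⟨hquot, ⟨hZN, ?_, ?_⟩, ?_⟩
  · intro hZ
    have hPC : ∀ x ∈ N, x ≠ 1 → Subgroup.centralizer ({x} : Set G) = P := by
      intro x hx hx1
      obtain ⟨Q, hQ⟩ := hcent x hx hx1
      have hle : (P : Subgroup G) ≤ Subgroup.centralizer ({x} : Set G) := by
        intro g hg
        rw [← hZ] at hx
        obtain ⟨z, hz, rfl⟩ := hx
        rw [Subgroup.mem_centralizer_singleton_iff]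
        exact congrArg Subtype.val (Subgroup.mem_center_iff.mp hz ⟨g, hg⟩)
      rw [hQ] at hle ⊢
      exact P.is_maximal' Q.isPGroup' hle
    refine ⟨fun g hg c => ?_⟩
    have hx : c * x₀ * c⁻¹ ∈ N := ‹N.Normal›.conj_mem _ (hNeq ▸ h.x_mem) c
    rw [← hPC _ hx (by simpa using h.ne_one)]
    rw [← hPC x₀ (hNeq ▸ h.x_mem) h.ne_one, Subgroup.mem_centralizer_singleton_iff] at hg
    rw [Subgroup.mem_centralizer_singleton_iff]
    simp [mul_assoc]
    rw [← mul_assoc g, hg, mul_assoc]
  · intro hPn
    refine le_antisymm hZN fun n hn => ?_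
    refine ⟨⟨n, hNP hn⟩, Subgroup.mem_center_iff.mpr fun g => Subtype.ext ?_, rfl⟩
    by_cases hn1 : n = 1
    · simp [hn1]
    obtain ⟨Q, hQ⟩ := hcent n hn hn1
    haveI := Sylow.unique_of_normal P hPn
    have : (g : G) ∈ Subgroup.centralizer ({n} : Set G) := by
      rw [hQ, Subsingleton.elim Q P]; exact g.2
    exact Subgroup.mem_centralizer_singleton_iff.mp this
  · set N' := N.subgroupOf (P : Subgroup G) with hN'
    haveI : Group.IsNilpotent ↥(P : Subgroup G) := P.isPGroup'.isNilpotent
    have hN'card : Nat.card N' = Nat.card N := Nat.card_congr (Subgroup.subgroupOfEquivOfLe hNP).toEquiv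
    have hstep : ∀ i, Subgroup.upperCentralSeries ↥(P : Subgroup G) i < N' →
        Subgroup.upperCentralSeries ↥(P : Subgroup G) (i + 1) ≤ N' := by
      intro i hi z hz
      by_contra hzN
      set Z := Subgroup.upperCentralSeries ↥(P : Subgroup G) i
      have hlt : Nat.card Z < Nat.card N' := by
        refine lt_of_le_of_ne (Subgroup.card_le_of_le hi.le) fun e => hi.ne ?_
        exact Subgroup.eq_of_le_of_card_ge hi.le e.ge
      rw [Subgroup.mem_upperCentralSeries_succ_iff] at hz
      have h1 : Nat.card {w : ↥(P : Subgroup G) // IsConj w z⁻¹} ≤ Nat.card Z := by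
        refine Nat.card_le_card_of_injective (fun w => ⟨z * w.1, ?_⟩) fun a b hab => ?_
        · obtain ⟨c, hc⟩ := isConj_iff.mp w.2.symm
          rw [← hc, ← mul_assoc, ← mul_assoc]
          exact hz c
        · exact Subtype.ext (mul_left_cancel (congrArg Subtype.val hab))
      rw [card_isConj_eq_index] at h1
      set K := (Subgroup.centralizer ({z⁻¹} : Set ↥(P : Subgroup G))).map (P : Subgroup G).subtype
      have h2 := hsmall (z : G) (fun e => hzN e) K
        ((P.isPGroup'.to_subgroup _).map _) (by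
          rintro _ ⟨c, hc, rfl⟩
          rw [Subgroup.mem_centralizer_singleton_iff]
          have hc' := Subgroup.mem_centralizer_singleton_iff.mp hc
          exact congrArg Subtype.val (show c * z = z * c from
            (Commute.inv_right_iff.mp hc').eq))
      rw [Subgroup.card_map_of_injective (Subgroup.subtype_injective _)] at h2
      have h3 := Subgroup.index_mul_card (Subgroup.centralizer ({z⁻¹} : Set ↥(P : Subgroup G)))
      have h4 : Nat.card (P : Subgroup G) < Nat.card (P : Subgroup G) := calc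
        _ ≤ Nat.card Z * Nat.card (Subgroup.centralizer ({z⁻¹} : Set ↥(P : Subgroup G))) :=
            h3.symm.le.trans (Nat.mul_le_mul_right _ h1)
        _ < Nat.card N' * Nat.card (Subgroup.centralizer ({z⁻¹} : Set ↥(P : Subgroup G))) :=
            Nat.mul_lt_mul_of_pos_right hlt Nat.card_pos
        _ ≤ _ := by rw [hN'card, mul_comm]; exact h2
      exact lt_irrefl _ h4
    by_contra hne
    push Not at hne
    have hall : ∀ i, Subgroup.upperCentralSeries ↥(P : Subgroup G) i ≤ N' := by
      intro i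
      induction i with
      | zero => rw [Subgroup.upperCentralSeries_zero]; exact bot_le
      | succ i ih => exact hstep i (lt_of_le_of_ne ih (hne i))
    obtain ⟨c, hc⟩ := Group.IsNilpotent.nilpotent ↥(P : Subgroup G)
    have htop : N' = ⊤ := top_le_iff.mp (hc ▸ hall c)
    exact hne c (hc.trans htop.symm)

end Cfsg.Agent.S4838
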