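import Cfsg.Statements.S4839
import Cfsg.Agent.Lib.DegreeTools.TwoClassSylow
import Cfsg.Agent.Lib.Involution.BaerSuzuki
import Cfsg.Agent.Lib.Solvable.Cores
import Cfsg.Agent.Lib.FrobRealize.Kernel
import Cfsg.Agent.Lib.Components.SFT.Criterion

set_option autoImplicit false
open Cfsg

namespace Cfsg.Agent.S4839

open CfsgLib.DegreeTools CfsgLib.Char
open scoped Pointwise

variable {G : Type*} [Group G] [Finite G] {χ : Cfsg.IrrCharacter G} {x₀ : G} {N : Subgroup G}

/-- Elements outside `N` are conjugate to all elements of their coset. -/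
theorem isConj_coset (h : TwoClass χ x₀) (hN : h.normalSubgroup = N) {g n : G} (hg : g ∉ N)
    (hn : n ∈ N) : IsConj g (g * n) := by
  cases nonempty_fintype G
  rw [isConj_iff_forall_irr]
  intro ψ
  by_cases hψ : ψ = χ
  · subst hψ
    have h1 : ∀ y : G, y ∉ N → (ψ : G → ℂ) y = 0 := fun y hy => by
      by_contra h0; exact hy (hN ▸ h.apply_ne_zero_iff.mp h0)
    rw [h1 g hg, h1 (g * n) (fun e => hg (by simpa using mul_mem e (inv_mem hn)))]
  · subst hN
    have hk : n ∈ charKer (isCharacter_irr ψ) := by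
      refine (mem_charKer _).mpr ?_
      rcases h.mem_normalSubgroup_iff.mp hn with rfl | hc
      · rfl
      · rw [← IsClassFunction.apply_eq_of_isConj (IsIrrCharacter.isClassFunction ψ.2) hc]
        exact h.other_apply ψ hψ
    have e := IsIrrCharacter.isClassFunction ψ.2 (n * g) g
    rw [show g * (n * g) * g⁻¹ = g * n by group] at e
    rw [e]
    exact (IsCharacter.apply_mul_of_mem_ker (isCharacter_irr ψ) ((mem_charKer _).mp hk) g).symm

/-- A `p`-group centralizer: a `p'`-element centralizes no nontrivial element of `N`. -/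
theorem fpf (h : TwoClass χ x₀) (hN : h.normalSubgroup = N) {p : ℕ} [Fact p.Prime]
    (hNp : IsPGroup p N) {n : G} (hn : n ∈ N) (hn1 : n ≠ 1) :
    IsPGroup p (Subgroup.centralizer ({n} : Set G)) := by
  subst hN
  have h' := h.of_mem hn hn1
  refine h'.isPGroup_centralizer ?_
  have e : h'.normalSubgroup = h.normalSubgroup := rfl
  rw [e]; exact hNp

theorem no_odd_case (h : TwoClass χ x₀) (hN : h.normalSubgroup = N) [hNn : N.Normal] {p : ℕ}
    [Fact p.Prime] (hp2 : p ≠ 2) (hNp : IsPGroup p N) (hexp : ∀ y ∈ N, y ^ p = 1)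
    (hab : ∀ a ∈ N, ∀ b ∈ N, a * b = b * a) (hcN : Subgroup.centralizer (N : Set G) ≤ N) :
    ¬ p ∣ N.index := by
  classical
  intro hdvd
  have hp : p.Prime := Fact.out
  haveI : Fact (Nat.Prime 2) := ⟨Nat.prime_two⟩
  have hodd : Odd p := hp.odd_of_ne_two hp2
  obtain ⟨f, hf0, hf⟩ := h.exists_size (hN.symm ▸ hNp)
  have h2 : 2 ∣ Nat.card G := by
    refine dvd_trans ?_ (Subgroup.index_dvd_card (Subgroup.centralizer ({x₀} : Set G)))
    have : Odd (h.size + 1) := hf ▸ hodd.pow
    rcases this with ⟨k, hk⟩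
    exact ⟨k, by show h.size = 2 * k; omega⟩
  obtain ⟨τ, hτ⟩ := exists_prime_orderOf_dvd_card' 2 h2
  have hτ2 : ∀ t : G, orderOf t = 2 → ∀ n ∈ N, t * n * t⁻¹ = n⁻¹ := by
    intro t ht n hn
    have htN : t ∉ N := by
      intro htN
      have h1 : orderOf t ∣ p := orderOf_dvd_of_pow_eq_one (hexp t htN)
      rw [ht, Nat.prime_dvd_prime_iff_eq Nat.prime_two hp] at h1
      exact hp2 h1.symm
    have ht2 : t * t = 1 := by
      have := pow_orderOf_eq_one t; rwa [ht, pow_two] at this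
    have hmN : n * (t * n * t⁻¹) ∈ N := mul_mem hn (hNn.conj_mem n hn t)
    have hfix : t * (n * (t * n * t⁻¹)) = (n * (t * n * t⁻¹)) * t := by
      have hti : t⁻¹ = t := inv_eq_of_mul_eq_one_right ht2
      have e : t * (n * (t * n * t⁻¹)) * t⁻¹ = (t * n * t⁻¹) * ((t * t) * n * (t * t)⁻¹) := by
        group
      rw [ht2] at e
      simp only [one_mul, inv_one, mul_one] at e
      rw [← hab n hn _ (hNn.conj_mem n hn t)] at e
      exact mul_inv_eq_iff_eq_mul.mp e
    by_contra hne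
    have hm1 : n * (t * n * t⁻¹) ≠ 1 := fun e => hne (eq_inv_of_mul_eq_one_right e)
    obtain ⟨k, hk⟩ := fpf h hN hNp hmN hm1
      ⟨t, Subgroup.mem_centralizer_singleton_iff.mpr hfix⟩
    have hk' : orderOf t ∣ p ^ k := orderOf_dvd_of_pow_eq_one (by
      simpa using congrArg Subtype.val hk)
    rw [ht] at hk'
    exact hp2 ((Nat.prime_dvd_prime_iff_eq Nat.prime_two hp).mp
      (Nat.prime_two.dvd_of_dvd_pow hk')).symm
  set H := Subgroup.centralizer ({τ} : Set G) with hH
  have hNH : ∀ n ∈ N, n ∈ H → n = 1 := by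
    intro n hn hnH
    have h1 := hτ2 τ hτ n hn
    rw [← Subgroup.mem_centralizer_singleton_iff.mp hnH] at h1
    simp only [mul_inv_cancel_right] at h1
    by_contra hn1
    have hn2 : orderOf n ∣ 2 := orderOf_dvd_of_pow_eq_one (by
      rw [pow_two]; nth_rewrite 2 [h1]; exact mul_inv_cancel n)
    have h3 : orderOf n ∣ p := orderOf_dvd_of_pow_eq_one (hexp n hn)
    have h4 : orderOf n = p :=
      ((Nat.dvd_prime hp).mp h3).resolve_left (fun e => hn1 (orderOf_eq_one_iff.mp e))
    rw [h4] at hn2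
    exact hp2 ((Nat.prime_dvd_prime_iff_eq hp Nat.prime_two).mp hn2)
  have hdec : ∀ g : G, ∃ m ∈ N, ∃ k ∈ H, g = m * k := by
    intro g
    have hc : orderOf (g * τ * g⁻¹) = 2 :=
      ((MulAut.conj g).orderOf_eq τ).trans hτ
    have hy : g * τ * g⁻¹ * τ⁻¹ ∈ N := by
      refine hcN (Subgroup.mem_centralizer_iff.mpr fun n hn => ?_)
      have h1 := hτ2 _ hc n⁻¹ (inv_mem hn)
      rw [inv_inv] at h1
      have h2 := hτ2 τ hτ n hn
      have h3 : (g * τ * g⁻¹ * τ⁻¹) * n⁻¹⁻¹ * (g * τ * g⁻¹ * τ⁻¹)⁻¹ = n := by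
        have h2' : τ⁻¹ * n * τ = n⁻¹ := by
          have e := hτ2 τ⁻¹ (by rw [orderOf_inv]; exact hτ) n hn
          rwa [inv_inv] at e
        calc _ = (g * τ * g⁻¹) * (τ⁻¹ * n * τ) * (g * τ * g⁻¹)⁻¹ := by group
          _ = (g * τ * g⁻¹) * n⁻¹ * (g * τ * g⁻¹)⁻¹ := by rw [h2']
          _ = n := h1
      rw [inv_inv, mul_inv_eq_iff_eq_mul] at h3
      exact h3.symm
    obtain ⟨j, hj⟩ := hodd
    have hm : (g * τ * g⁻¹ * τ⁻¹) ^ (j + 1) ∈ N := pow_mem hy _
    set y := g * τ * g⁻¹ * τ⁻¹ with hydef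
    set m := y ^ (j + 1) with hmdef
    have hmm : m * m = y := by
      rw [hmdef, ← pow_add, show j + 1 + (j + 1) = p + 1 by omega, pow_succ, hexp y hy, one_mul]
    refine ⟨m, hm, m⁻¹ * g, ?_, by group⟩
    rw [hH, Subgroup.mem_centralizer_singleton_iff]
    have e : τ * m⁻¹ * τ⁻¹ = m := by
      have := hτ2 τ hτ m⁻¹ (inv_mem hm); rwa [inv_inv] at this
    calc m⁻¹ * g * τ = m⁻¹ * (g * τ * g⁻¹ * τ⁻¹) * τ * g := by group
      _ = m⁻¹ * y * τ * g := rfl
      _ = m * τ * g := by rw [← hmm]; group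
      _ = (τ * m⁻¹ * τ⁻¹) * τ * g := by rw [e]
      _ = τ * (m⁻¹ * g) := by group
  -- an element of order `p` in `H`
  have hpH : p ∣ Nat.card H := by
    refine hdvd.trans ?_
    have hsurj : Function.Surjective ((QuotientGroup.mk' N).comp H.subtype) := by
      intro q
      obtain ⟨g, rfl⟩ := QuotientGroup.mk'_surjective N q
      obtain ⟨m, hm, k, hk, rfl⟩ := hdec g
      refine ⟨⟨k, hk⟩, ?_⟩
      show QuotientGroup.mk' N k = QuotientGroup.mk' N (m * k)
      rw [map_mul, show QuotientGroup.mk' N m = 1 from (QuotientGroup.eq_one_iff m).mpr hm, one_mul]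
    exact Subgroup.card_dvd_of_surjective _ hsurj
  obtain ⟨⟨a, haH⟩, ha⟩ := exists_prime_orderOf_dvd_card' p hpH
  rw [Subgroup.orderOf_mk] at ha
  have ha1 : a ≠ 1 := fun e => hp.ne_one (by rw [← ha, e, orderOf_one])
  have haN : a ∉ N := fun e => ha1 (hNH a e haH)
  -- the map `m ↦ a⁻¹ m a m⁻¹` is onto `N`
  set φ : N → N := fun m => ⟨a⁻¹ * m * a * (m : G)⁻¹,
    mul_mem (by simpa using hNn.conj_mem m m.2 a⁻¹) (inv_mem m.2)⟩ with hφ
  have hsurj : Function.Surjective φ := by
    rintro ⟨n, hn⟩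
    obtain ⟨c, hc⟩ := isConj_iff.mp (isConj_coset h hN haN hn)
    obtain ⟨m, hm, k, hk, rfl⟩ := hdec c
    have hk1 : k * a * k⁻¹ = a * (a⁻¹ * m⁻¹ * a * n * m) := by
      calc k * a * k⁻¹ = m⁻¹ * (m * k * a * (m * k)⁻¹) * m := by group
        _ = m⁻¹ * (a * n) * m := by rw [hc]
        _ = _ := by group
    have hk2 : a⁻¹ * m⁻¹ * a * n * m = 1 := by
      refine hNH _ (mul_mem (mul_mem (by simpa using hNn.conj_mem _ (inv_mem hm) a⁻¹) hn) hm) ?_
      have : a⁻¹ * (k * a * k⁻¹) ∈ H :=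
        mul_mem (inv_mem haH) (mul_mem (mul_mem hk haH) (inv_mem hk))
      rwa [hk1, inv_mul_cancel_left] at this
    refine ⟨⟨m, hm⟩, Subtype.ext ?_⟩
    show a⁻¹ * m * a * m⁻¹ = n
    calc a⁻¹ * m * a * m⁻¹ = a⁻¹ * m * a * (a⁻¹ * m⁻¹ * a * n * m) * m⁻¹ := by rw [hk2, mul_one]
      _ = n := by group
  have hinj : Function.Injective φ := Finite.injective_iff_surjective.mpr hsurj
  -- the kernel is trivial, but a `p`-element fixes a nontrivial element of `N`
  set A := Subgroup.zpowers a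
  letI : MulAction A N := MulAction.compHom N ((MulAut.conjNormal (H := N)).comp A.subtype)
  have hAp : IsPGroup p A := by
    intro g
    obtain ⟨i, hi⟩ := g.2
    refine ⟨1, Subtype.ext ?_⟩
    show (g : G) ^ p ^ 1 = 1
    rw [← hi, pow_one]
    show (a ^ i) ^ p = 1
    rw [← zpow_natCast, ← zpow_mul, mul_comm, zpow_mul, zpow_natCast, ← ha, pow_orderOf_eq_one,
      one_zpow]
  haveI : Nontrivial N := (Subgroup.nontrivial_iff_ne_bot N).mpr (hN ▸ h.normalSubgroup_ne_bot)
  have hpN : p ∣ Nat.card N := by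
    obtain ⟨d, hd⟩ := IsPGroup.iff_card.mp hNp
    rw [hd]
    refine dvd_pow_self p ?_
    rintro rfl
    have h1 : 1 < Nat.card N := Finite.one_lt_card
    rw [hd] at h1
    simp at h1
  have h1fix : (1 : N) ∈ MulAction.fixedPoints A N := fun g => by
    show MulAut.conjNormal (g : G) (1 : N) = 1
    exact map_one _
  obtain ⟨b, hb, hb1⟩ := hAp.exists_fixed_point_of_prime_dvd_card_of_fixed_point _ hpN h1fix
  have hb' : a * (b : G) * a⁻¹ = b := congrArg Subtype.val (hb ⟨a, Subgroup.mem_zpowers a⟩)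
  refine hb1 (hinj (a₁ := (1 : N)) (a₂ := b) (Subtype.ext ?_))
  show a⁻¹ * ((1 : N) : G) * a * ((1 : N) : G)⁻¹ = a⁻¹ * (b : G) * a * (b : G)⁻¹
  calc a⁻¹ * ((1 : N) : G) * a * ((1 : N) : G)⁻¹ = 1 := by simp
    _ = a⁻¹ * (a * (b : G) * a⁻¹) * a * (b : G)⁻¹ := by group
    _ = _ := by rw [hb']

theorem no_two_case (h : TwoClass χ x₀) (hN : h.normalSubgroup = N) [hNn : N.Normal]
    (hNp : IsPGroup 2 N) (hexp : ∀ y ∈ N, y ^ 2 = 1)
    (hab : ∀ a ∈ N, ∀ b ∈ N, a * b = b * a) (hcN : Subgroup.centralizer (N : Set G) ≤ N)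
    (hcore : Cfsg.pCore 2 (G ⧸ N) = ⊥) : ¬ 2 ∣ N.index := by
  classical
  intro hdvd
  haveI : Fact (Nat.Prime 2) := ⟨Nat.prime_two⟩
  obtain ⟨zb, hzb⟩ := exists_prime_orderOf_dvd_card' (G := G ⧸ N) 2 hdvd
  obtain ⟨yb, hy1, hyodd, hyz⟩ := CfsgLib.Involution.BaerSuzuki.exists_inverted_odd zb hzb
    (fun M hM hM2 hmem => by
      haveI := hM
      have h1 := CfsgLib.Solvable.Cores.le_pCore hM2 hmem
      rw [hcore, Subgroup.mem_bot] at h1
      rw [h1, orderOf_one] at hzb
      exact absurd hzb (by norm_num))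
  obtain ⟨z, rfl⟩ := QuotientGroup.mk'_surjective N zb
  obtain ⟨y, rfl⟩ := QuotientGroup.mk'_surjective N yb
  set π := QuotientGroup.mk' N with hπ
  have hzN : z ∉ N := fun e => by
    rw [show π z = 1 from (QuotientGroup.eq_one_iff z).mpr e] at hzb
    simp at hzb
  have hz2 : z * z ∈ N := (QuotientGroup.eq_one_iff _).mp (by
    show π (z * z) = 1
    rw [map_mul, ← pow_two, ← hzb, pow_orderOf_eq_one])
  let c : G → N ≃* N := fun g => MulAut.conjNormal g
  have hcval : ∀ g (n : N), ((c g n : N) : G) = g * n * g⁻¹ := fun g n => rfl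
  have hcq : ∀ g g' : G, π g = π g' → ∀ n, c g n = c g' n := by
    intro g g' e n
    have hd : g⁻¹ * g' ∈ N := QuotientGroup.eq.mp e
    apply Subtype.ext
    rw [hcval, hcval]
    have h1 := hab _ hd (n : G) n.2
    calc g * (n : G) * g⁻¹ = g * ((n : G) * (g⁻¹ * g')) * g'⁻¹ := by group
      _ = g * ((g⁻¹ * g') * (n : G)) * g'⁻¹ := by rw [h1]
      _ = _ := by group
  have hcm : ∀ g g' n, c (g * g') n = c g (c g' n) := by
    intro g g' n
    apply Subtype.ext
    rw [hcval, hcval, hcval]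
    group
  let _ : CommGroup N :=
    { (inferInstance : Group N) with mul_comm := fun a b => Subtype.ext (hab a a.2 b b.2) }
  set u : N := ⟨z * z, hz2⟩ with hu
  set r := orderOf (π y) with hr
  obtain ⟨s, hs⟩ := hyodd
  have hyr : ∀ n, c (y ^ r) n = n := by
    intro n
    rw [hcq (y ^ r) 1 (by rw [map_pow, hr, pow_orderOf_eq_one, map_one]) n]
    apply Subtype.ext; rw [hcval]; group
  have hSu : c z u = u := by
    apply Subtype.ext; rw [hcval, hu]; group
  set T : ℕ → N := fun i => c (y ^ i) u with hT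
  have hTr : T r = T 0 := by
    rw [hT]; dsimp only
    rw [hyr]; apply Subtype.ext; rw [hcval]; group
  -- the product of the `⟨y⟩`-orbit is fixed by `y`, so it is trivial
  have hprod : ∏ i ∈ Finset.range r, T i = 1 := by
    set P := ∏ i ∈ Finset.range r, T i with hP
    have h1 : c y P = P := by
      rw [hP, map_prod]
      have e : ∀ i, c y (T i) = T (i + 1) := fun i => by
        rw [hT]; dsimp only; rw [← hcm, ← pow_succ']
      simp only [e]
      have e1 := Finset.prod_range_succ T r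
      rw [Finset.prod_range_succ' T r, hTr] at e1
      exact mul_right_cancel e1
    by_contra hP1
    have h2 : y * (P : G) = (P : G) * y := mul_inv_eq_iff_eq_mul.mp (congrArg Subtype.val h1)
    obtain ⟨k, hk⟩ := fpf h hN hNp P.2 (fun e => hP1 (Subtype.ext e))
      ⟨y, Subgroup.mem_centralizer_singleton_iff.mpr h2⟩
    have hk' : r ∣ 2 ^ k := orderOf_dvd_of_pow_eq_one (by
      rw [← map_pow, show y ^ 2 ^ k = 1 by simpa using congrArg Subtype.val hk, map_one])
    have hr1 : r = 1 := (Nat.Coprime.pow_right k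
      (Nat.coprime_two_right.mpr ⟨s, hs⟩)).eq_one_of_dvd hk'
    exact hy1 (orderOf_eq_one_iff.mp hr1)
  have hST : ∀ i ≤ r, c z (T i) = T (r - i) := by
    intro i hi
    rw [hT]; dsimp only
    rw [← hcm, hcq (z * y ^ i) (y ^ (r - i) * z) ?_ u, hcm, hSu]
    rw [map_mul, map_mul, map_pow, map_pow]
    have e1 : π z * π y ^ i * (π z)⁻¹ = ((π y)⁻¹) ^ i := by rw [← conj_pow, hyz]
    have e2 : (π y) ^ (r - i) = ((π y)⁻¹) ^ i := by
      rw [inv_pow, eq_inv_iff_mul_eq_one, ← pow_add, Nat.sub_add_cancel hi, hr,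
        pow_orderOf_eq_one]
    rw [e2, ← e1]; group
  set m : N := ∏ i ∈ Finset.range s, T (i + 1) with hm
  have hkey : m * c z m = u := by
    have h1 : c z m = ∏ i ∈ Finset.range s, T (r - (i + 1)) := by
      rw [hm, map_prod]
      exact Finset.prod_congr rfl fun i hi => hST _ (by
        have := Finset.mem_range.mp hi; omega)
    have h2 : ∏ i ∈ Finset.range s, T (r - (i + 1)) = ∏ i ∈ Finset.range s, T (s + i + 1) := by
      rw [← Finset.prod_range_reflect (fun i => T (s + i + 1)) s]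
      refine Finset.prod_congr rfl fun i hi => ?_
      have := Finset.mem_range.mp hi
      congr 1; omega
    have h3 : ∏ i ∈ Finset.range (s + s), T (i + 1) = m * c z m := by
      rw [Finset.prod_range_add, h1, h2]
    rw [← h3]
    have h4 : (∏ i ∈ Finset.range (s + s), T (i + 1)) * T 0 = 1 := by
      rw [← Finset.prod_range_succ' T, show s + s + 1 = r by omega]
      exact hprod
    have hu2 : u * u = 1 := Subtype.ext (by
      have := hexp _ hz2
      rwa [pow_two] at this)
    have hT0 : T 0 = u := by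
      rw [hT]; apply Subtype.ext; rw [hcval]; group
    rw [hT0] at h4
    rw [eq_inv_of_mul_eq_one_left h4, ← eq_inv_of_mul_eq_one_left hu2]
  -- an involution outside `N`
  set w := (m : G) * z with hw
  have hwN : w ∉ N := fun e => hzN (by
    have := mul_mem (inv_mem m.2) e
    rwa [hw, inv_mul_cancel_left] at this)
  have hw2 : w * w = 1 := by
    have e : (m : G) * (z * m * z⁻¹) = z * z := congrArg Subtype.val hkey
    calc w * w = ((m : G) * (z * m * z⁻¹)) * (z * z) := by rw [hw]; group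
      _ = (z * z) * (z * z) := by rw [e]
      _ = 1 := by have := hexp _ hz2; rwa [pow_two] at this
  refine hwN (hcN (Subgroup.mem_centralizer_iff.mpr fun n hn => ?_))
  obtain ⟨g, hg⟩ := isConj_iff.mp (isConj_coset h hN hwN hn)
  have h1 : (w * n) * (w * n) = 1 := by
    rw [← hg]
    calc g * w * g⁻¹ * (g * w * g⁻¹) = g * (w * w) * g⁻¹ := by group
      _ = 1 := by rw [hw2]; group
  have h2 : n * n = 1 := by have := hexp n hn; rwa [pow_two] at this
  have hwi : w⁻¹ = w := inv_eq_of_mul_eq_one_right hw2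
  have hni : n⁻¹ = n := inv_eq_of_mul_eq_one_right h2
  have := inv_eq_of_mul_eq_one_right h1
  rw [mul_inv_rev, hwi, hni] at this
  exact this



/-- Let G be a finite group of order greater than 2 with an irreducible character χ nonzero on exactly two conjugacy classes, and let N be the normal p-subgroup of elements where χ is nonzero. Then N is the whole p-core O_p(G) if and only if G is a doubly transitive Frobenius group with kernel N: G has a Frobenius complement H whose Frobenius kernel is N and whose order is one less than that of N. -/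
theorem result {G : Type*} [Group G] [Finite G] (hG : 2 < Nat.card G) (χ : Cfsg.IrrCharacter G) (hχ : Nat.card {C : ConjClasses G // ∃ g ∈ C.carrier, (χ : G → ℂ) g ≠ 0} = 2) (p : ℕ) [Fact p.Prime] (N : Subgroup G) [N.Normal] (hN : ∀ g : G, g ∈ N ↔ (χ : G → ℂ) g ≠ 0) (hNp : IsPGroup p N) (hN1 : N ≠ ⊥) :
    N = Cfsg.pCore p G ↔ ∃ H : Subgroup G, Cfsg.IsFrobeniusComplement H ∧ Cfsg.frobeniusKernel H = (N : Set G) ∧ Nat.card H + 1 = Nat.card N := by
  classical
  obtain ⟨x₀, h⟩ := CfsgLib.DegreeTools.exists_twoClass hG χ hχ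
  have hNeq := h.normalSubgroup_eq N hN
  have hp : p.Prime := Fact.out
  obtain ⟨q, hq, -, hab', hexp'⟩ := h.exists_prime
  rw [hNeq] at hexp' hab'
  have hab : ∀ a ∈ N, ∀ b ∈ N, a * b = b * a := fun a ha b hb =>
    congrArg Subtype.val (hab'.is_comm.comm ⟨a, ha⟩ ⟨b, hb⟩)
  have hexp : ∀ y ∈ N, y ^ p = 1 := by
    have hx : x₀ ∈ N := hNeq ▸ h.x_mem
    have h1 : orderOf x₀ = q := ((Nat.dvd_prime hq).mp
      (orderOf_dvd_of_pow_eq_one (hexp' x₀ hx))).resolve_left
        fun e => h.ne_one (orderOf_eq_one_iff.mp e)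
    obtain ⟨k, hk⟩ := hNp ⟨x₀, hx⟩
    have h2 : q ∣ p ^ k := h1 ▸ orderOf_dvd_of_pow_eq_one (by
      simpa using congrArg Subtype.val hk)
    rw [(Nat.prime_dvd_prime_iff_eq hq hp).mp (hq.dvd_of_dvd_pow h2)] at hexp'
    exact hexp'
  have hle : N ≤ Cfsg.pCore p G := CfsgLib.Solvable.Cores.le_pCore hNp
  constructor
  · intro hcore
    have hcN : Subgroup.centralizer (N : Set G) ≤ N := by
      conv_rhs => rw [hcore]
      apply CfsgLib.Solvable.Cores.le_pCore (hn := ?_)
      · refine (fpf h hNeq hNp (hNeq ▸ h.x_mem) h.ne_one).to_le ?_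
        exact Subgroup.centralizer_le (Set.singleton_subset_iff.mpr (hNeq ▸ h.x_mem))
      · infer_instance
    have hndvd : ¬ p ∣ N.index := by
      by_cases hp2 : p = 2
      · subst hp2
        refine no_two_case h hNeq hNp hexp hab hcN ?_
        subst hcore
        exact CfsgLib.Components.SFT.pCore_quotient_eq_bot 2 G
      · exact no_odd_case h hNeq hp2 hNp hexp hab hcN
    have hcop : (Nat.card N).Coprime N.index := by
      obtain ⟨d, hd⟩ := IsPGroup.iff_card.mp hNp
      rw [hd]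
      exact Nat.Coprime.pow_left d ((hp.coprime_iff_not_dvd).mpr hndvd)
    obtain ⟨H, hH⟩ := Subgroup.exists_right_complement'_of_coprime hcop
    have hHc : Nat.card H = N.index := hH.symm.index_eq_card.symm
    have hNH : ∀ n ∈ N, n ∈ H → n = 1 := fun n hn hn' =>
      Subgroup.mem_bot.mp (hH.disjoint.le_bot (Subgroup.mem_inf.mpr ⟨hn, hn'⟩))
    have hfpf : ∀ n ∈ N, n ≠ 1 → ∀ k ∈ H, k * n = n * k → k = 1 := by
      intro n hn hn1 k hk hkn
      obtain ⟨i, hi⟩ := fpf h hNeq hNp hn hn1 ⟨k, Subgroup.mem_centralizer_singleton_iff.mpr hkn⟩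
      have hi' : orderOf k ∣ p ^ i := orderOf_dvd_of_pow_eq_one (by
        simpa using congrArg Subtype.val hi)
      have h2 : orderOf k ∣ N.index := by
        rw [← hHc]
        exact Subgroup.orderOf_dvd_natCard H hk
      exact orderOf_eq_one_iff.mp (Nat.eq_one_of_dvd_coprimes
        (Nat.Coprime.pow_left i ((hp.coprime_iff_not_dvd).mpr hndvd)) hi' h2)
    have hcent : Subgroup.centralizer ({x₀} : Set G) = N := by
      have hx : x₀ ∈ N := hNeq ▸ h.x_mem
      refine le_antisymm (fun g hg => ?_) fun g hg =>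
        Subgroup.mem_centralizer_singleton_iff.mpr (hab g hg x₀ hx)
      obtain ⟨⟨⟨m, hm⟩, ⟨k, hk⟩⟩, he⟩ := hH.2 g
      have he' : m * k = g := he
      subst he'
      have h1 := Subgroup.mem_centralizer_singleton_iff.mp hg
      have h2 : k * x₀ = x₀ * k := by
        apply mul_left_cancel (a := m)
        rw [← mul_assoc, h1, ← mul_assoc, ← mul_assoc, hab m hm x₀ hx]
      rw [hfpf x₀ hx h.ne_one k hk h2, mul_one]
      exact hm
    have hcard : Nat.card H + 1 = Nat.card N := by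
      have h1 := h.card_normalSubgroup
      rw [hNeq] at h1
      rw [h1, hHc]
      show _ = (Subgroup.centralizer ({x₀} : Set G)).index + 1
      rw [hcent]
    have hHbot : H ≠ ⊥ := by
      intro e
      have h0 : Nat.card H = 1 := by rw [e, Subgroup.card_bot]
      have h2 : Nat.card G = Nat.card N * N.index := (Subgroup.card_mul_index N).symm
      rw [← hHc, h0, mul_one] at h2
      omega
    have hHtop : H ≠ ⊤ := by
      intro e
      exact h.ne_one (hNH x₀ (hNeq ▸ h.x_mem) (e ▸ Subgroup.mem_top _))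
    have hF : Cfsg.IsFrobeniusComplement H := by
      refine ⟨hHbot, hHtop, fun g hg => ?_⟩
      rw [Subgroup.eq_bot_iff_forall]
      intro a haI
      obtain ⟨ha, ha'⟩ : a ∈ H ∧ a ∈ MulAut.conj g • H := Subgroup.mem_inf.mp haI
      rw [CfsgLib.FrobRealize.Kernel.mem_conj_smul] at ha'
      obtain ⟨⟨⟨m, hm⟩, ⟨k, hk⟩⟩, he⟩ := hH.2 g
      have he' : m * k = g := he
      subst he'
      have hm1 : m ≠ 1 := fun e => hg (by rw [e, one_mul]; exact hk)
      have h1 : m⁻¹ * a * m ∈ H := by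
        have h3 := mul_mem (mul_mem hk ha') (inv_mem hk)
        simpa [mul_assoc] using h3
      have h2 : a⁻¹ * (m⁻¹ * a * m) = 1 := by
        refine hNH _ ?_ (mul_mem (inv_mem ha) h1)
        have : a⁻¹ * m⁻¹ * a⁻¹⁻¹ ∈ N := ‹N.Normal›.conj_mem _ (inv_mem hm) _
        rw [inv_inv] at this
        simpa [mul_assoc] using mul_mem this hm
      refine hfpf m hm hm1 a ha ?_
      calc a * m = m * (a * (a⁻¹ * (m⁻¹ * a * m))) := by group
        _ = m * a := by rw [h2, mul_one]
    refine ⟨H, hF, ?_, hcard⟩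
    refine (Set.eq_of_subset_of_ncard_le (fun n hn => ?_) ?_ (Set.toFinite _)).symm
    · rw [CfsgLib.FrobRealize.Kernel.mem_frobeniusKernel]
      by_cases hn1 : n = 1
      · exact Or.inl hn1
      · refine Or.inr fun g hg => hn1 ?_
        have h1 : g⁻¹ * n * g⁻¹⁻¹ ∈ N := ‹N.Normal›.conj_mem n hn g⁻¹
        rw [inv_inv] at h1
        have h2 := hNH _ h1 hg
        calc n = g * (g⁻¹ * n * g) * g⁻¹ := by group
          _ = 1 := by rw [h2]; group
    · rw [← Nat.card_coe_set_eq, ← Nat.card_coe_set_eq,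
        CfsgLib.FrobRealize.Kernel.card_frobeniusKernel hF, hH.index_eq_card]
      rfl
  · rintro ⟨H, hF, hker, hcard⟩
    refine le_antisymm hle fun g hg => ?_
    have hidx : N.index = Nat.card H := by
      have h1 := CfsgLib.FrobRealize.Kernel.card_frobeniusKernel hF
      rw [hker] at h1
      have h1' : Nat.card N = H.index := h1
      have h2 := N.card_mul_index
      rw [← H.card_mul_index, ← h1', mul_comm (Nat.card H)] at h2
      exact mul_left_cancel₀ Nat.card_pos.ne' h2
    have hnd : ¬ p ∣ N.index := by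
      intro hd
      rw [hidx] at hd
      obtain ⟨d, hd'⟩ := IsPGroup.iff_card.mp hNp
      have hd0 : d ≠ 0 := by
        rintro rfl
        have : 0 < Nat.card H := Nat.card_pos
        rw [hd', pow_zero] at hcard
        omega
      have h1 : p ∣ Nat.card H + 1 := by rw [hcard, hd']; exact dvd_pow_self p hd0
      exact hp.not_dvd_one ((Nat.dvd_add_right hd).mp h1)
    obtain ⟨i, hi⟩ := CfsgLib.Solvable.Cores.isPGroup_pCore (G := G) p ⟨g, hg⟩
    have h1 : orderOf (g : G ⧸ N) ∣ p ^ i := orderOf_dvd_of_pow_eq_one (by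
      rw [← QuotientGroup.mk_pow, show g ^ p ^ i = 1 by simpa using congrArg Subtype.val hi]
      rfl)
    refine (QuotientGroup.eq_one_iff g).mp (orderOf_eq_one_iff.mp (Nat.eq_one_of_dvd_coprimes
      (Nat.Coprime.pow_left i ((hp.coprime_iff_not_dvd).mpr hnd)) h1 (orderOf_dvd_natCard _)))

end Cfsg.Agent.S4839
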