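import Cfsg.Statements.S4840
import Cfsg.Agent.Lib.DegreeTools.TwoClassSylow
import Cfsg.Agent.Lib.Solvable.Hall
import Cfsg.Agent.Lib.Solvable.TwoClassQuotient
import Cfsg.Agent.Lib.FrobRealize.FixedPointFree

set_option autoImplicit false
open Cfsg

namespace Cfsg.Agent.S4840

open CfsgLib.DegreeTools CfsgLib.Char CfsgLib.Solvable

theorem quotient_main {G : Type*} [Group G] [Finite G] [Group.IsSolvable G]
    {χ : Cfsg.IrrCharacter G} {x : G} (h : TwoClass χ x) (p : ℕ) [Fact p.Prime]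
    (hpg : IsPGroup p h.normalSubgroup) (hab : IsMulCommutative h.normalSubgroup)
    (hexp : ∀ y ∈ h.normalSubgroup, y ^ p = 1) :
    Cfsg.HasNormalPComplement p (G ⧸ Cfsg.pCore p G) ∧
      ∀ Q : Sylow p (G ⧸ Cfsg.pCore p G), IsMulCommutative (Q : Subgroup (G ⧸ Cfsg.pCore p G)) := by
  classical
  have hp : p.Prime := Fact.out
  haveI := h.normalSubgroup_normal
  obtain ⟨a₀, ha₀⟩ := IsPGroup.iff_card.mp (h.isPGroup_centralizer hpg)
  have hGc : Nat.card G = h.size * p ^ a₀ := ha₀ ▸ (Subgroup.index_mul_card _).symm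
  have hsp : h.size.Coprime p := (hp.coprime_iff_not_dvd.mpr (h.not_dvd_size hpg)).symm
  obtain ⟨L, hLc⟩ := Hall.exists_card_eq hGc (hsp.pow_right a₀)
  have hLel : ∀ y ∈ L, ∀ k : ℕ, y ^ p ^ k = 1 → y = 1 := by
    intro y hy k hk
    have h1 : y ^ h.size = 1 := hLc ▸ orderOf_dvd_iff_pow_eq_one.mp (L.orderOf_dvd_natCard hy)
    have := pow_gcd_eq_one.mpr ⟨h1, hk⟩
    rwa [(hsp.pow_right k).gcd_eq_one, pow_one] at this
  have hfree : ∀ y ∈ L, ∀ n ∈ h.normalSubgroup, n ≠ 1 → y * n = n * y → y = 1 := by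
    intro y hy n hn hn1 hc
    have h' := h.of_mem hn hn1
    have hpC : IsPGroup p (Subgroup.centralizer ({n} : Set G)) := by
      refine h'.isPGroup_centralizer ?_
      have e : h'.normalSubgroup = h.normalSubgroup := rfl
      rw [e]; exact hpg
    obtain ⟨k, hk⟩ := hpC ⟨y, Subgroup.mem_centralizer_singleton_iff.mpr hc⟩
    exact hLel y hy k (congrArg Subtype.val hk)
  have hfpf : ∀ y ∈ L, y ≠ 1 → h.normalSubgroup ⊓ Subgroup.centralizer {y} = ⊥ := by
    intro y hy hy1
    rw [eq_bot_iff]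
    rintro n ⟨hn, hnc⟩
    by_contra hn1
    exact hy1 (hfree y hy n hn hn1 (Subgroup.mem_centralizer_singleton_iff.mp hnc).symm)
  set O := Cfsg.pCore p G with hO
  set π := QuotientGroup.mk' O with hπ
  have hπs : Function.Surjective π := QuotientGroup.mk'_surjective O
  have hOL : O ⊓ L = ⊥ := by
    rw [eq_bot_iff]
    rintro y ⟨hyO, hyL⟩
    obtain ⟨k, hk⟩ := Cores.isPGroup_pCore p ⟨y, hyO⟩
    exact hLel y hyL k (congrArg Subtype.val hk)
  have hinj : ∀ u ∈ L, ∀ v ∈ L, π u = π v → u = v := by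
    intro u hu v hv huv
    have h1 : u⁻¹ * v ∈ O ⊓ L :=
      ⟨QuotientGroup.eq.mp huv, L.mul_mem (L.inv_mem hu) hv⟩
    rwa [hOL, Subgroup.mem_bot, inv_mul_eq_one] at h1
  have hH : Cfsg.pCore p (G ⧸ O) = ⊥ := by
    have hker : IsPGroup p π.ker := by
      rw [hπ, QuotientGroup.ker_mk']; exact Cores.isPGroup_pCore p
    have h1 : IsPGroup p ((Cfsg.pCore p (G ⧸ O)).comap π) :=
      (Cores.isPGroup_pCore p).comap_of_ker_isPGroup π hker
    rw [eq_bot_iff]
    intro y hy
    obtain ⟨g, rfl⟩ := hπs y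
    exact (QuotientGroup.eq_one_iff g).mpr (Cores.le_pCore h1 hy)
  set Lb := L.map π with hLb
  have hLbc : Nat.card Lb = h.size := (Basic.card_map_mk_of_disjoint O L hOL).trans hLc
  have hLi : ∃ i, Lb.index = p ^ i := by
    have h1 : L.index = p ^ a₀ := by
      have := L.card_mul_index
      rw [hLc, hGc] at this
      exact Nat.eq_of_mul_eq_mul_left h.size_pos this
    obtain ⟨i, -, hi⟩ := (Nat.dvd_prime_pow hp).mp (h1 ▸ L.index_map_dvd hπs)
    exact ⟨i, hi⟩
  have hKL : Cfsg.fittingSubgroup (G ⧸ O) ≤ Lb := by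
    obtain ⟨i, hi⟩ := hLi
    have hK : (Nat.card (Cfsg.fittingSubgroup (G ⧸ O))).Coprime p := by
      refine (Cores.coprime_card_pPrimeCore p).coprime_dvd_left (Subgroup.card_dvd_of_le ?_)
      rw [Cores.fittingSubgroup_eq_iSup_pCore]
      refine iSup_le fun q => ?_
      haveI : Fact (q : ℕ).Prime := ⟨q.2⟩
      by_cases hq : (q : ℕ) = p
      · rw [hq, hH]; exact bot_le
      · exact Cores.pCore_le_pPrimeCore hp hq
    obtain ⟨g, hg⟩ := Hall.le_conj_of_coprime_index (H := Lb)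
      (K := Cfsg.fittingSubgroup (G ⧸ O)) (by rw [hi, hLbc]; exact hsp.pow_right i)
      (by rw [hi]; exact hK.pow_right i)
    intro y hy
    have := Basic.mem_conj_smul.mp (hg (Cores.fittingSubgroup_normal.conj_mem y hy g))
    simpa [mul_assoc] using this
  have hR : ∀ q : Nat.Primes, IsCyclic (Cfsg.pCore (q : ℕ) (G ⧸ O)) ∨ ((q : ℕ) = 2 ∧
      ∃ n : ℕ, Nonempty (Cfsg.pCore (q : ℕ) (G ⧸ O) ≃* QuaternionGroup (2 ^ n))) := by
    intro q
    haveI : Fact (q : ℕ).Prime := ⟨q.2⟩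
    set R := Cfsg.pCore (q : ℕ) (G ⧸ O) with hRdef
    set A := L ⊓ R.comap π with hA
    let f : A →* R := (π.comp A.subtype).codRestrict R fun y => y.2.2
    have hf : Function.Bijective f := by
      refine ⟨fun u v huv => Subtype.ext
        (hinj u u.2.1 v v.2.1 (congrArg Subtype.val huv)), ?_⟩
      rintro ⟨r, hr⟩
      obtain ⟨l, hl, rfl⟩ := hKL (Cores.pCore_le_fittingSubgroup (q : ℕ) hr)
      exact ⟨⟨l, hl, hr⟩, rfl⟩
    let e : A ≃* R := MulEquiv.ofBijective f hf
    have hAq : IsPGroup (q : ℕ) A := (Cores.isPGroup_pCore (q : ℕ)).of_equiv e.symm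
    obtain ⟨P⟩ : Nonempty (Sylow (q : ℕ) A) := inferInstance
    have hP : (⊤ : Subgroup A) = P := P.is_maximal' (hAq.to_subgroup ⊤) le_top
    let e' : (P : Subgroup A) ≃* R :=
      ((MulEquiv.subgroupCongr hP.symm).trans Subgroup.topEquiv).trans e
    rcases CfsgLib.FrobRealize.FPF.sylow_cyclic_or_quaternion (A := A) (K := h.normalSubgroup)
      h.normalSubgroup_ne_bot
      (by rw [Subgroup.normalizer_eq_top]; exact le_top) (fun y hy => hfpf y hy.1) P with
      hc | ⟨hq, n, ⟨eq⟩⟩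
    · exact Or.inl (isCyclic_of_surjective e' e'.surjective)
    · exact Or.inr ⟨hq, n, ⟨e'.symm.trans eq⟩⟩
  refine TwoClassQuotient.npc_of_fitting p hH Lb (by rw [hLbc]; exact hsp) hLi hKL hR ?_
  rintro rfl ⟨e⟩
  set R := Cfsg.pCore 2 (G ⧸ O) with hRdef
  have hRL : R ≤ Lb := le_trans (Cores.pCore_le_fittingSubgroup 2) hKL
  set N := h.normalSubgroup with hN
  letI : CommGroup N := { (inferInstance : Group N) with mul_comm := hab.is_comm.comm }
  let σ : G →* MulAut N := MulAut.conjNormal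
  have hfreeσ : ∀ u ∈ L, ∀ v ∈ L, ∀ n : N, n ≠ 1 → σ u n = σ v n → u = v := by
    intro u hu v hv n hn huv
    have h1 : σ (u⁻¹ * v) n = n := by
      rw [map_mul, MulAut.mul_apply, ← huv, map_inv, MulAut.inv_apply, MulEquiv.symm_apply_apply]
    have h2 : (u⁻¹ * v) * (n : G) * (u⁻¹ * v)⁻¹ = n := congrArg Subtype.val h1
    exact inv_mul_eq_one.mp (hfree _ (mul_mem (inv_mem hu) hv) n n.2
      (fun e => hn (Subtype.ext e)) (mul_inv_eq_iff_eq_mul.mp h2))
  obtain ⟨a, haL, ha⟩ := hRL (e.symm (QuaternionGroup.a 1)).2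
  obtain ⟨b, hbL, hb⟩ := hRL (e.symm (QuaternionGroup.xa 0)).2
  have hq1 : (QuaternionGroup.a 1 : QuaternionGroup 2) * QuaternionGroup.a 1 =
      QuaternionGroup.xa 0 * QuaternionGroup.xa 0 := by decide
  have hq2 : (QuaternionGroup.xa 0 : QuaternionGroup 2) * QuaternionGroup.a 1 =
      (QuaternionGroup.a 1 * QuaternionGroup.a 1) *
        (QuaternionGroup.a 1 * QuaternionGroup.xa 0) := by decide
  have hq3 : (QuaternionGroup.a 1 : QuaternionGroup 2) * QuaternionGroup.a 1 ≠ 1 := by decide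
  have hq4 : ((QuaternionGroup.a 1 : QuaternionGroup 2) * QuaternionGroup.a 1) *
      (QuaternionGroup.a 1 * QuaternionGroup.a 1) = 1 := by decide
  have ha' : π a = (e.symm (QuaternionGroup.a 1) : R) := ha
  have hb' : π b = (e.symm (QuaternionGroup.xa 0) : R) := hb
  have hz : a * a = b * b := hinj _ (mul_mem haL haL) _ (mul_mem hbL hbL) (by
    rw [map_mul, map_mul, ha', hb', ← Subgroup.coe_mul, ← Subgroup.coe_mul, ← map_mul e.symm,
      ← map_mul e.symm, hq1])
  have hba : b * a = (a * a) * (a * b) :=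
    hinj _ (mul_mem hbL haL) _ (mul_mem (mul_mem haL haL) (mul_mem haL hbL)) (by
      simp only [map_mul, ha', hb', ← Subgroup.coe_mul]
      rw [← map_mul e.symm, hq2, map_mul, map_mul, map_mul])
  have hz1 : a * a ≠ 1 := fun hcon => hq3 (e.symm.injective (Subtype.ext (by
    rw [map_mul, map_one, Subgroup.coe_mul, ← ha', ← map_mul, hcon, map_one]; rfl)))
  have hz2 : (a * a) * (a * a) = 1 :=
    hinj _ (mul_mem (mul_mem haL haL) (mul_mem haL haL)) _ (one_mem L) (by
      simp only [map_mul, ha', ← Subgroup.coe_mul]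
      rw [← map_mul e.symm, ← map_mul e.symm, hq4, map_one, map_one]; rfl)
  have hinv : ∀ n : N, σ (a * a) n = n⁻¹ := by
    intro n
    have h1 : σ (a * a) (n * σ (a * a) n) = n * σ (a * a) n := by
      rw [map_mul, ← MulAut.mul_apply, ← map_mul, hz2, map_one, MulAut.one_apply, mul_comm]
    refine eq_inv_of_mul_eq_one_right ?_
    by_contra hne
    exact hz1 (hfreeσ _ (mul_mem haL haL) 1 (one_mem L) _ hne
      (by rw [h1, map_one, MulAut.one_apply]))
  haveI : Nontrivial N := (Subgroup.nontrivial_iff_ne_bot _).mpr h.normalSubgroup_ne_bot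
  obtain ⟨s, hs1, hsd, hss, hM⟩ := TwoClassQuotient.exists_half
    (fun n : N => Subtype.ext (hexp n n.2)) (σ a) (σ b)
    (fun n => by rw [← MulAut.mul_apply, ← map_mul, hinv])
    (fun n => by rw [← MulAut.mul_apply, ← map_mul, ← hz, hinv])
    (fun n => by rw [← MulAut.mul_apply, ← map_mul, hba, map_mul, MulAut.mul_apply, hinv,
      map_mul, MulAut.mul_apply])
  let ψ : L →* MulAut R := (MulAut.conjNormal.comp π).comp L.subtype
  have hcomm : ∀ (m : ψ.ker) (t : G) (r : R), t ∈ L → π t = r →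
      ((m : L) : G) * t = t * (m : L) := by
    intro m t r ht htr
    refine hinj _ (mul_mem (m : L).2 ht) _ (mul_mem ht (m : L).2) ?_
    have h1 := congrArg Subtype.val (DFunLike.congr_fun (show ψ (m : L) = 1 from m.2) r)
    have h2 : π ((m : L) : G) * π t * (π ((m : L) : G))⁻¹ = π t := by rw [htr]; exact h1
    rw [map_mul, map_mul]
    exact mul_inv_eq_iff_eq_mul.mp h2
  have hMs := hM ψ.ker (fun m => σ ((m : L) : G))
    (fun m n => by rw [← MulAut.mul_apply, ← map_mul, hcomm m a _ haL ha', map_mul,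
      MulAut.mul_apply])
    (fun m n => by rw [← MulAut.mul_apply, ← map_mul, hcomm m b _ hbL hb', map_mul,
      MulAut.mul_apply])
    (fun m m' n hn hmn => Subtype.ext (Subtype.ext
      (hfreeσ _ (m : L).2 _ (m' : L).2 n hn hmn)))
  have hran : Nat.card ψ.range ≤ 8 := by
    have h1 : Nat.card ψ.range ∣ 24 :=
      TwoClassQuotient.card_mulAut_quaternion_eight e ▸ Subgroup.card_subgroup_dvd_card _
    have h2 : (Nat.card ψ.range).Coprime 3 := hsp.coprime_dvd_left
      (hLc ▸ Subgroup.card_range_dvd ψ)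
    exact Nat.le_of_dvd (by norm_num) (h2.dvd_of_dvd_mul_right (show _ ∣ 8 * 3 from h1))
  have hL8 : Nat.card L ≤ 8 * Nat.card ψ.ker := by
    rw [← Subgroup.index_mul_card ψ.ker, Subgroup.index_ker]
    exact Nat.mul_le_mul_right _ hran
  have hsize : s * s = h.size + 1 := hss.symm.trans h.card_normalSubgroup
  rw [hLc] at hL8
  have hs7 : s ≤ 7 := by nlinarith
  obtain ⟨f, hf⟩ := IsPGroup.iff_card.mp hpg
  obtain ⟨i, -, hi⟩ := (Nat.dvd_prime_pow Nat.prime_three).mp (hf ▸ hsd)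
  have hi1 : i = 1 := by
    have h2 : i < 2 := (Nat.pow_lt_pow_iff_right (by norm_num : 1 < 3)).mp
      (show 3 ^ i < 3 ^ 2 by rw [← hi]; norm_num; omega)
    rcases Nat.eq_zero_or_pos i with h0 | h0
    · rw [h0, pow_zero] at hi; omega
    · omega
  rw [hi1, pow_one] at hi
  rw [hLbc]
  subst hi
  omega

end Cfsg.Agent.S4840

namespace Cfsg.Agent.S4840

open CfsgLib.DegreeTools CfsgLib.Solvable

/-- Let G be a finite solvable group of order greater than 2 with an irreducible character nonzero on exactly two conjugacy classes. Then there is exactly one prime p with O_p(G) ≠ 1, and the quotient G/O_p(G) has a normal p-complement and commutative Sylow p-subgroups. -/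
theorem result {G : Type*} [Group G] [Finite G] [hs : Group.IsSolvable G] (hG : 2 < Nat.card G) (χ : Cfsg.IrrCharacter G) (hχ : Nat.card {C : ConjClasses G // ∃ g ∈ C.carrier, (χ : G → ℂ) g ≠ 0} = 2) :
    ∃ p : ℕ, p.Prime ∧ (∀ q : ℕ, q.Prime → (Cfsg.pCore q G ≠ ⊥ ↔ q = p)) ∧
      Cfsg.HasNormalPComplement p (G ⧸ Cfsg.pCore p G) ∧ ∀ Q : Sylow p (G ⧸ Cfsg.pCore p G), IsMulCommutative (Q : Subgroup (G ⧸ Cfsg.pCore p G)) := by
  classical
  obtain ⟨x, h⟩ := exists_twoClass hG χ hχ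
  obtain ⟨p, hp, hpg, hab, hexp⟩ := h.exists_prime
  haveI : Fact p.Prime := ⟨hp⟩
  refine ⟨p, hp, fun q hq => ⟨fun hne => ?_, fun hqp => ?_⟩, ?_⟩
  · haveI : Fact q.Prime := ⟨hq⟩
    by_contra hqp
    have hle := h.unique_minimal _ (Cores.pCore_normal q) hne
    obtain ⟨k, hk⟩ := Cores.isPGroup_pCore q ⟨x, hle h.x_mem⟩
    have h1 : x ^ q ^ k = 1 := congrArg Subtype.val hk
    have h2 := pow_gcd_eq_one.mpr ⟨h1, hexp x h.x_mem⟩
    rw [(((Nat.coprime_primes hq hp).mpr hqp).pow_left k).gcd_eq_one, pow_one] at h2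
    exact h.ne_one h2
  · subst hqp
    haveI := h.normalSubgroup_normal
    exact fun hb => h.normalSubgroup_ne_bot (le_bot_iff.mp (hb ▸ Cores.le_pCore hpg))
  exact quotient_main h p hpg hab hexp

end Cfsg.Agent.S4840
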