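import Cfsg.Statements.S4850
import Cfsg.Agent.Lib.DegreeTools.VanishSingular.Main
import Cfsg.Agent.Lib.Frobenius.Zipper

set_option autoImplicit false
open Cfsg

namespace Cfsg.Agent.S4850

/-- Let p be a prime and G a finite solvable group whose vanishing elements (elements at which some irreducible character is zero) of order divisible by p all have the same order, with at least one such element. Let P be a Sylow p-subgroup of G. Then the derived subgroup of P is subnormal in G and the image of P in G/O_p(G) is cyclic. -/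
theorem result {G : Type*} [Group G] [Finite G] [hs : Group.IsSolvable G] (p : ℕ) [Fact p.Prime] (b : ℕ) (hvo : {n : ℕ | p ∣ n ∧ ∃ (g : G) (χ : Cfsg.IrrCharacter G), orderOf g = n ∧ (χ : G → ℂ) g = 0} = {b}) (P : Sylow p G) :
    ((commutator ↥(P : Subgroup G)).map (P : Subgroup G).subtype).IsSubnormal ∧ IsCyclic ↥((P : Subgroup G).map (QuotientGroup.mk' (Cfsg.pCore p G))) := by
  classical
  obtain ⟨hbar, -⟩ := CfsgLib.DegreeTools.VanishSingular.card_sylow_le (p := p) (b := b)
    (fun g hg hd => by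
      obtain ⟨χ, hχ⟩ := hg
      have h1 : orderOf g ∈ {n : ℕ | p ∣ n ∧ ∃ (g : G) (χ : Cfsg.IrrCharacter G),
          orderOf g = n ∧ (χ : G → ℂ) g = 0} := ⟨hd, g, χ, rfl, hχ⟩
      rwa [hvo] at h1) P
  set Pb := (P : Subgroup G).map (QuotientGroup.mk' (Cfsg.pCore p G))
  have hcyc : IsCyclic ↥Pb := by
    obtain ⟨a, ha⟩ := (P.isPGroup'.map (QuotientGroup.mk' (Cfsg.pCore p G))).exists_card_eq
    have hle : p ^ a ≤ p ^ 1 := by rw [pow_one, ← ha]; exact hbar
    have ha1 : a ≤ 1 := (Nat.pow_le_pow_iff_right (Fact.out : p.Prime).one_lt).mp hle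
    interval_cases a
    · haveI : Subsingleton ↥Pb := (Nat.card_eq_one_iff_unique.mp (by rw [ha, pow_zero])).1
      infer_instance
    · exact isCyclic_of_prime_card (ha.trans (pow_one p))
  refine ⟨?_, hcyc⟩
  set Q := (commutator ↥(P : Subgroup G)).map (P : Subgroup G).subtype with hQ
  have hle : Q ≤ Cfsg.pCore p G := by
    rintro _ ⟨x, hx, rfl⟩
    letI : CommGroup ↥Pb := IsCyclic.commGroup
    let φ : ↥(P : Subgroup G) →* ↥Pb :=
      (QuotientGroup.mk' (Cfsg.pCore p G)).subgroupMap (P : Subgroup G)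
    have h1 : φ x = 1 := MonoidHom.mem_ker.mp (Abelianization.commutator_subset_ker φ hx)
    exact (QuotientGroup.eq_one_iff _).mp (congrArg Subtype.val h1)
  haveI := CfsgLib.Solvable.Cores.pCore_isNilpotent (G := G) p
  have h2 := Subgroup.IsSubnormal.trans' (CfsgLib.Frobenius.Zipper.isSubnormal_of_isNilpotent (Q.subgroupOf (Cfsg.pCore p G)))
    (Subgroup.Normal.isSubnormal (inferInstance : (Cfsg.pCore p G).Normal))
  rwa [Subgroup.subgroupOf_map_subtype, inf_eq_left.mpr hle] at h2

end Cfsg.Agent.S4850
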