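import Cfsg.Statements.S4859
import Cfsg.Agent.Lib.Char.FS
import Cfsg.Agent.Lib.Char.Constituent
-- import your own Cfsg.Agent.* helpers here

set_option autoImplicit false
open Cfsg

namespace Cfsg.Agent.S4859

theorem exists_bigger_two_element {G : Type*} [Group G] [Finite G] {p : ℕ} (hp2 : p ≠ 2)
    (hpp : p.Prime) {x y u : G} {a : ℕ} (ha : orderOf x = p ^ a) {b : ℕ} (hb : orderOf y = 2 ^ b)
    (hb0 : b ≠ 0) (hxy : Commute x y) (hu : u * u = x * y) :
    ∃ z ∈ Subgroup.centralizer ({x} : Set G), orderOf z = 2 ^ (b + 1) := by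
  have hcop : (orderOf x).Coprime (orderOf y) := by
    rw [ha, hb]; exact Nat.Coprime.pow _ _ ((Nat.coprime_primes hpp Nat.prime_two).2 hp2)
  have hord : orderOf (x * y) = p ^ a * 2 ^ b := by
    rw [hxy.orderOf_mul_eq_mul_orderOf_of_coprime hcop, ha, hb]
  have hcu : Commute u x := by
    have hc : Commute u (x * y) := by rw [← hu]; exact (Commute.refl u).mul_right (Commute.refl u)
    obtain ⟨r, hr1, hr2⟩ := Nat.chineseRemainder hcop 1 0
    have hpow : (x * y) ^ r = x := by
      rw [hxy.mul_pow, pow_eq_pow_iff_modEq.2 hr1, pow_one,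
        show y ^ r = 1 from orderOf_dvd_iff_pow_eq_one.1 (Nat.modEq_zero_iff_dvd.1 hr2), mul_one]
    rw [← hpow]
    exact hc.pow_right r
  refine ⟨u ^ p ^ a, Subgroup.mem_centralizer_singleton_iff.2 (hcu.pow_left _).eq, ?_⟩
  have h2 : orderOf (u ^ 2) = p ^ a * 2 ^ b := by rw [sq, hu, hord]
  have hdvd : 2 ∣ orderOf u := (dvd_mul_of_dvd_right (dvd_pow_self 2 hb0) (p ^ a)).trans
    (h2 ▸ orderOf_pow_dvd 2)
  rw [orderOf_pow, Nat.gcd_eq_right hdvd] at h2
  have hu' : orderOf u = p ^ a * 2 ^ (b + 1) := by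
    rw [pow_succ, ← mul_assoc, ← h2, Nat.div_mul_cancel hdvd]
  rw [orderOf_pow, hu', Nat.gcd_eq_right (Dvd.intro _ rfl),
    Nat.mul_div_cancel_left _ (pow_pos hpp.pos a)]

/-- Let p be an odd prime, G a finite group and x an element of G whose order is a power of p (possibly 1) and whose centralizer has even order. Let y be a 2-element of the centralizer of x whose order is largest among the 2-elements of that centralizer. Then x * y is not a square in G, and some non-principal real-valued irreducible character of G does not vanish at x * y. -/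
theorem result {G : Type*} [Group G] [Finite G] (p : ℕ) [Fact p.Prime] (hp : p ≠ 2) (x : G) (hx : ∃ k : ℕ, orderOf x = p ^ k) (heven : Even (Nat.card (Subgroup.centralizer ({x} : Set G)))) (y : G) (hy : y ∈ Subgroup.centralizer ({x} : Set G)) (hy2 : ∃ k : ℕ, orderOf y = 2 ^ k) (hmax : ∀ z ∈ Subgroup.centralizer ({x} : Set G), (∃ k : ℕ, orderOf z = 2 ^ k) → orderOf z ≤ orderOf y) : (¬ ∃ u : G, u * u = x * y) ∧ ∃ χ : Cfsg.IrrCharacter G, ¬ ((χ : G → ℂ) = fun _ => (1 : ℂ)) ∧ (∀ g : G, ((χ : G → ℂ) g).im = 0) ∧ (χ : G → ℂ) (x * y) ≠ 0 := by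
  classical
  cases nonempty_fintype G
  obtain ⟨a, ha⟩ := hx
  obtain ⟨b, hb⟩ := hy2
  have hb0 : b ≠ 0 := by
    intro h0
    obtain ⟨z, hz⟩ := exists_prime_orderOf_dvd_card' 2 (even_iff_two_dvd.1 heven)
    have := hmax z z.2 ⟨1, by rw [Subgroup.orderOf_coe, hz, pow_one]⟩
    rw [Subgroup.orderOf_coe, hz, hb, h0, pow_zero] at this
    omega
  have hno : ¬ ∃ u : G, u * u = x * y := by
    rintro ⟨u, hu⟩
    obtain ⟨z, hz, hzo⟩ := exists_bigger_two_element hp Fact.out ha hb hb0
      (Subgroup.mem_centralizer_singleton_iff.1 hy).symm hu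
    have h1 := hmax z hz ⟨_, hzo⟩
    rw [hzo, hb, pow_succ] at h1
    have := Nat.two_pow_pos b
    omega
  refine ⟨hno, ?_⟩
  by_contra hcon
  push Not at hcon
  let f : G → ℂ := fun g => ((Finset.univ.filter fun s : G => s * s = g).card : ℂ)
  have hf : Cfsg.IsClassFunction G f := fun g t => by
    show ((Finset.univ.filter fun s : G => s * s = t * g * t⁻¹).card : ℂ) = _
    rw [Finset.card_equiv (MulAut.conj t⁻¹).toEquiv fun s => ?_]
    simp only [Finset.mem_filter, Finset.mem_univ, true_and, MulEquiv.toEquiv_eq_coe,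
      EquivLike.coe_coe, ← map_mul]
    constructor
    · intro h; rw [h]; simp [mul_assoc]
    · intro h
      have := congrArg (MulAut.conj t) h
      simpa [mul_assoc] using this
  have hcoef : ∀ χ : Cfsg.IrrCharacter G, Cfsg.classInner f (χ : G → ℂ)
      = (starRingEnd ℂ) ((Nat.card G : ℂ)⁻¹ * ∑ s : G, (χ : G → ℂ) (s * s)) := fun χ => by
    simp only [Cfsg.classInner, map_mul, map_inv₀, map_sum, Complex.conj_natCast, f]
    congr 1
    refine Eq.trans ?_ (Finset.sum_fiberwise Finset.univ (fun s : G => s * s)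
      fun s => (starRingEnd ℂ) ((χ : G → ℂ) (s * s)))
    refine Finset.sum_congr rfl fun g _ => Eq.symm ?_
    rw [Finset.sum_congr rfl fun s hs => by rw [(Finset.mem_filter.1 hs).2], Finset.sum_const,
      nsmul_eq_mul]
  set one : Cfsg.IrrCharacter G := ⟨fun _ => 1, CfsgLib.Char.isIrrCharacter_one⟩
  have h := congrFun (CfsgLib.Char.IsClassFunction.eq_sum_irr hf) (x * y)
  rw [Finset.sum_apply, Finset.sum_eq_single one] at h
  · have hf0 : f (x * y) = 0 := by
      simp only [f, Nat.cast_eq_zero, Finset.card_eq_zero, Finset.filter_eq_empty_iff]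
      exact fun s _ hs => hno ⟨s, hs⟩
    rw [hf0, Pi.smul_apply, hcoef one] at h
    simp [one] at h
  · intro χ _ hne
    rw [Pi.smul_apply, smul_eq_mul]
    by_cases hr : ∀ g : G, ((χ : G → ℂ) g).im = 0
    · rw [hcon χ (fun h1 => hne (Subtype.ext h1)) hr, mul_zero]
    · obtain ⟨n, ρ, hρ, hρe⟩ := χ.2
      push Not at hr
      haveI := hρ
      have := (CfsgLib.Char.frobeniusSchur ρ).2.2 (by rw [hρe]; exact hr)
      rw [hρe] at this
      rw [hcoef, this, map_zero, zero_mul]
  · simp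

end Cfsg.Agent.S4859
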