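import Cfsg.Statements.S4865
import Cfsg.Agent.Lib.DegreeTools.RealCorrespondence

set_option autoImplicit false
open Cfsg CfsgLib.DegreeTools

namespace Cfsg.Agent.S4865

/-- Let p be a prime and G a finite group such that the subgroup generated by the p-elements of G is solvable and every real-valued irreducible complex character of G has degree prime to p. Let N be the normalizer of a Sylow p-subgroup of G. Then there is a bijection from the real-valued irreducible characters of G onto the real-valued irreducible characters of N of degree prime to p under which corresponding degrees are congruent modulo p up to sign. -/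
theorem result {G : Type*} [Group G] [Finite G] (p : ℕ) [Fact p.Prime] (hsolv : Group.IsSolvable ↥(Subgroup.closure {g : G | ∃ k : ℕ, orderOf g = p ^ k})) (hreal : ∀ χ : Cfsg.IrrCharacter G, (∀ g : G, ((χ : G → ℂ) g).im = 0) → ¬ p ∣ Cfsg.charDegree (χ : G → ℂ)) (P : Sylow p G) : ∃ f : {χ : Cfsg.IrrCharacter G // ∀ g : G, ((χ : G → ℂ) g).im = 0} → {ξ : Cfsg.IrrCharacter ↥(Subgroup.normalizer ((P : Subgroup G) : Set G)) // (∀ n, ((ξ : ↥(Subgroup.normalizer ((P : Subgroup G) : Set G)) → ℂ) n).im = 0) ∧ ¬ p ∣ Cfsg.charDegree (ξ : ↥(Subgroup.normalizer ((P : Subgroup G) : Set G)) → ℂ)}, Function.Bijective f ∧ ∀ χ, ((Cfsg.charDegree ((f χ).1 : ↥(Subgroup.normalizer ((P : Subgroup G) : Set G)) → ℂ) : ZMod p) = (Cfsg.charDegree (χ.1 : G → ℂ) : ZMod p) ∨ (Cfsg.charDegree ((f χ).1 : ↥(Subgroup.normalizer ((P : Subgroup G) : Set G)) → ℂ) : ZMod p) = -(Cfsg.charDegree (χ.1 : G → ℂ) : ZMod p)) := by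
  classical
  cases nonempty_fintype G
  rw [← CfsgLib.DegreeTools.RealDegrees.pGen_top] at hsolv
  let K := RealDegrees.pGen 2 (⊤ : Subgroup G)
  let Q := RealDegrees.pGen p K
  have hodd : Odd K.index := by
    rw [← Nat.not_even_iff_odd, even_iff_two_dvd, Subgroup.index_eq_card]
    intro h2
    obtain ⟨y, hy⟩ := exists_prime_orderOf_dvd_card' 2 h2
    have h1 : y ∈ RealDegrees.pGen 2 (⊤ : Subgroup (G ⧸ K)) :=
      RealDegrees.mem_pGen (Subgroup.mem_top _) (k := 1)
        (by rw [pow_one]; exact orderOf_dvd_iff_pow_eq_one.mp hy.dvd)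
    rw [← Subgroup.map_top_of_surjective _ (QuotientGroup.mk'_surjective K),
      ← RealDegrees.map_pGen,
      (Subgroup.map_eq_bot_iff K).mpr (QuotientGroup.ker_mk' K).ge, Subgroup.mem_bot] at h1
    rw [h1, orderOf_one] at hy
    omega
  have hQ : IsPGroup p Q := RealDegrees.isPGroup_pGen _ G rfl hsolv hreal K inferInstance le_rfl
    fun u hu => ⟨0, by simpa using hu⟩
  have hnd : ¬ p ∣ Q.relIndex K := by
    let R : Sylow p K := default
    have hR : (R : Subgroup K) ≤ Q.subgroupOf K := fun x hx => by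
      obtain ⟨k, hk⟩ := IsPGroup.iff_orderOf.1 R.2 ⟨x, hx⟩
      rw [Subgroup.orderOf_mk, ← Subgroup.orderOf_coe] at hk
      exact Subgroup.subset_closure ⟨x.2, k, hk⟩
    exact fun h => R.not_dvd_index (h.trans (Subgroup.index_dvd_of_le hR))
  exact CfsgLib.DegreeTools.RealCorrespondence.exists_bijection
    (K := K) (Q := Q) ⟨hodd, hQ, hnd, hreal⟩

end Cfsg.Agent.S4865
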