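import Cfsg.Statements.S4870
import Cfsg.Agent.Lib.DegreeTools.ExtendTwist

set_option autoImplicit false
open Cfsg

namespace Cfsg.Agent.S4870

open CfsgLib.Char CfsgLib.DegreeTools CfsgLib.DegreeTools.ExtendTwist
open scoped Classical

/-- Let G be a finite group with a non-abelian minimal normal subgroup N, and let φ be an irreducible complex character of N with stabilizer I in G (the elements g with φ(g n g⁻¹) = φ(n) for all n ∈ N) such that φ extends to an irreducible character of I. Put d = φ(1)·[G : I]. Then the number of linear characters of G is at most [G : I] times the number of irreducible characters of G of degree d. -/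
theorem result {G : Type*} [Group G] [Finite G] (N : Subgroup G) (hN : N.Normal) (hN1 : N ≠ ⊥) (hmin : ∀ M : Subgroup G, M.Normal → M ≤ N → M = ⊥ ∨ M = N) (hna : ¬ IsMulCommutative ↥N) (φ : Cfsg.IrrCharacter ↥N) (I : Subgroup G) (hI : ∀ g : G, g ∈ I ↔ ∀ n n' : ↥N, (n' : G) = g * (n : G) * g⁻¹ → (φ : ↥N → ℂ) n' = (φ : ↥N → ℂ) n) (hNI : N ≤ I) (hext : ∃ ψ : Cfsg.IrrCharacter ↥I, ∀ n : ↥N, (ψ : ↥I → ℂ) (Subgroup.inclusion hNI n) = (φ : ↥N → ℂ) n) : Nat.card {χ : Cfsg.IrrCharacter G // Cfsg.charDegree (χ : G → ℂ) = 1} ≤ I.index * Nat.card {χ : Cfsg.IrrCharacter G // Cfsg.charDegree (χ : G → ℂ) = Cfsg.charDegree (φ : ↥N → ℂ) * I.index} := by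
  have := Fintype.ofFinite G
  obtain ⟨ψ, hψ⟩ := hext
  have hT : IsInertia (φ : N → ℂ) I := fun g => (hI g).trans
    ⟨fun h n => h n _ rfl, fun h n n' e => (congrArg _ (Subtype.ext e)).trans (h n)⟩
  have h := card_le (le_commutator_of_minimal hmin hna) hNI φ.2 hT ψ.2 (funext hψ) (fun _ => True)
    (Finset.univ.filter fun χ : IrrCharacter G => (χ : G → ℂ) 1 = 1)
    (fun χ hχ => (Finset.mem_filter.1 hχ).2) (fun _ _ _ _ => trivial)
  rw [← Fintype.card_subtype, ← Nat.card_eq_fintype_card] at h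
  rw [Nat.card_congr (Equiv.subtypeEquivRight fun χ : IrrCharacter G => deg_eq_one_iff χ)]
  refine h.trans (Nat.mul_le_mul_left _ (le_of_eq (Nat.card_congr
    (Equiv.subtypeEquivRight fun χ : IrrCharacter G => ?_))))
  rw [and_true, ← deg_cast, ← deg_cast, ← Nat.cast_mul, Nat.cast_inj, mul_comm]

end Cfsg.Agent.S4870
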