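import Cfsg.Statements.S4871
import Cfsg.Agent.Lib.DegreeTools.ExtendTwist
import Cfsg.Agent.Lib.DegreeTools.IndicatorMult
import Cfsg.Agent.Lib.DegreeTools.PDegree

set_option autoImplicit false
open Cfsg

namespace Cfsg.Agent.S4871

open CfsgLib.Char CfsgLib.DegreeTools CfsgLib.DegreeTools.ExtendTwist
open scoped Classical ComplexConjugate commutatorElement

variable {G : Type*} [Group G] [Fintype G]

theorem conj_hom_apply {K : Type*} [Group K] [Finite K] (a : K →* ℂˣ) (k : K) :
    conj (a k : ℂ) = ((a k)⁻¹ : ℂˣ) := by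
  rw [← IsCharacter.apply_inv (isCharacter_hom a), map_inv]

theorem sum_sq_hom {K : Type*} [Group K] [Fintype K] (a : K →* ℂˣ) (h : ∃ k, (a k) * a k ≠ 1) :
    ∑ k : K, (a k : ℂ) * a k = 0 := by
  have h2 : (⟨_, isIrrCharacter_hom (a * a)⟩ : IrrCharacter K) ≠ oneChar K := by
    intro he
    obtain ⟨k, hk⟩ := h
    apply hk
    have := congrFun (congrArg Subtype.val he) k
    exact Units.ext (by simpa using this)
  have h3 := sum_eq_zero _ h2
  change ∑ k : K, ((a * a) k : ℂ) = 0 at h3
  simpa using h3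

/-- Inducing a linear character inverted by an involution gives indicator one when irreducible. -/
theorem indicator_ind (I : Subgroup G) {z : G} (hz2 : z * z = 1) (hzI : z ∉ I)
    (hzn : ∀ i ∈ I, z * i * z ∈ I) (a : I →* ℂˣ)
    (ha : ∀ i : I, a ⟨z * i * z, hzn i i.2⟩ = (a i)⁻¹) (hne : ∃ i, a i * a i ≠ 1)
    {χ : G → ℂ} (hχ : IsIrrCharacter G χ) (he : χ = Cfsg.indFun I (fun i => (a i : ℂ))) :
    (Nat.card G : ℂ)⁻¹ * ∑ g, χ (g * g) = 1 := by
  have hzinv : z⁻¹ = z := inv_eq_of_mul_eq_one_right hz2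
  have hzz : ∀ g : G, z * (z * g) = g := fun g => by rw [← mul_assoc, hz2, one_mul]
  let J : Subgroup G :=
  { carrier := {g | g ∈ I ∨ z * g ∈ I}
    one_mem' := Or.inl I.one_mem
    mul_mem' := by
      rintro x y (hx | hx) (hy | hy)
      · exact Or.inl (I.mul_mem hx hy)
      · refine Or.inr ?_
        have h := I.mul_mem (hzn x hx) hy
        simpa [mul_assoc, hzz] using h
      · exact Or.inr (by simpa [mul_assoc] using I.mul_mem hx hy)
      · refine Or.inl ?_
        have h := I.mul_mem (hzn _ hx) hy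
        simpa [mul_assoc, hzz] using h
    inv_mem' := by
      rintro x (hx | hx)
      · exact Or.inl (I.inv_mem hx)
      · refine Or.inr ?_
        have h := hzn _ (I.inv_mem hx)
        simpa [mul_assoc, hzinv, hzz, hz2] using h }
  have hIJ : I ≤ J := fun g hg => Or.inl hg
  let zJ : J := ⟨z, Or.inr (by rw [hz2]; exact I.one_mem)⟩
  set ι : I →* J := Subgroup.inclusion hIJ
  let I0 := I.subgroupOf J
  have hI0 : ∀ x : J, x ∈ I0 ↔ (x : G) ∈ I := fun x => Subgroup.mem_subgroupOf
  -- splitting sums over J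
  have hbij : Function.Bijective (Sum.elim (fun i : I => ι i) (fun i : I => zJ * ι i)) := by
    constructor
    · rintro (i | i) (j | j) h
      · exact congrArg Sum.inl (Subgroup.inclusion_injective hIJ h)
      · refine absurd ?_ hzI
        have h' : (i : G) = z * j := congrArg Subtype.val h
        have : z = (i : G) * (j : G)⁻¹ := by rw [h', mul_inv_cancel_right]
        rw [this]
        exact I.mul_mem i.2 (I.inv_mem j.2)
      · refine absurd ?_ hzI
        have h' : z * i = (j : G) := congrArg Subtype.val h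
        have : z = (j : G) * (i : G)⁻¹ := by rw [← h', mul_inv_cancel_right]
        rw [this]
        exact I.mul_mem j.2 (I.inv_mem i.2)
      · exact congrArg Sum.inr (Subgroup.inclusion_injective hIJ (mul_left_cancel h))
    · rintro ⟨x, hx | hx⟩
      · exact ⟨Sum.inl ⟨x, hx⟩, rfl⟩
      · exact ⟨Sum.inr ⟨z * x, hx⟩, Subtype.ext (hzz x)⟩
  have hsplit : ∀ F : J → ℂ, ∑ x, F x = ∑ i : I, F (ι i) + ∑ i : I, F (zJ * ι i) := fun F => by
    rw [← (Equiv.ofBijective _ hbij).sum_comp, Fintype.sum_sum_type]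
    rfl
  have hcardJ : (Nat.card J : ℂ) = 2 * Nat.card I := by
    rw [← Nat.card_congr (Equiv.ofBijective _ hbij), Nat.card_sum]
    push_cast; ring
  let θ0 : I0 → ℂ := fun x => (a ⟨(x : J), (hI0 _).1 x.2⟩ : ℂ)
  set θ := Cfsg.indFun I0 θ0
  have hθval : ∀ i : I, θ (ι i) = (a i : ℂ) + conj (a i : ℂ) := by
    intro i
    have hcard0 : Nat.card I0 = Nat.card I := Nat.card_congr (Subgroup.subgroupOfEquivOfLe hIJ).toEquiv
    have hI0ne : (Nat.card I : ℂ) ≠ 0 := card_ne_zero
    simp only [θ, indFun_def, hsplit, hcard0]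
    have h1 : ∀ j : I, Cfsg.extendByZero I0 θ0 ((ι j)⁻¹ * ι i * ι j) = (a i : ℂ) := by
      intro j
      rw [← map_inv, ← map_mul, ← map_mul,
        extendByZero_apply_mem I0 θ0 ((hI0 _).2 (j⁻¹ * i * j).2)]
      show (a (j⁻¹ * i * j) : ℂ) = _
      rw [map_mul, map_mul, map_inv, mul_comm ((a j)⁻¹) (a i), inv_mul_cancel_right]
    have h2 : ∀ j : I, Cfsg.extendByZero I0 θ0 ((zJ * ι j)⁻¹ * ι i * (zJ * ι j))
        = conj (a i : ℂ) := by
      intro j
      have e : (zJ * ι j)⁻¹ * ι i * (zJ * ι j) = ι (j⁻¹ * ⟨z * i * z, hzn i i.2⟩ * j) := by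
        apply Subtype.ext
        show (z * (j : G))⁻¹ * i * (z * j) = (j : G)⁻¹ * (z * i * z) * j
        rw [_root_.mul_inv_rev, hzinv]
        simp only [mul_assoc]
      rw [e, extendByZero_apply_mem I0 θ0 ((hI0 _).2 (j⁻¹ * ⟨z * i * z, hzn i i.2⟩ * j : I).2)]
      show (a (j⁻¹ * ⟨z * i * z, hzn i i.2⟩ * j) : ℂ) = _
      rw [map_mul, map_mul, map_inv, mul_comm ((a j)⁻¹), inv_mul_cancel_right, ha, conj_hom_apply]
    simp only [h1, h2, Finset.sum_const, Finset.card_univ, nsmul_eq_mul,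
      ← Nat.card_eq_fintype_card]
    field_simp
  have hθzero : ∀ i : I, θ (zJ * ι i) = 0 := by
    intro i
    refine indFun_eq_zero_of_forall I0 θ0 fun x hx => hzI ?_
    have hx' : (x : G)⁻¹ * (z * i) * x ∈ I := (hI0 _).1 hx
    rcases x.2 with h | h
    · have h' := I.mul_mem (I.mul_mem h hx') (I.inv_mem h)
      simp [mul_assoc] at h'
      have h'' := I.mul_mem h' (I.inv_mem i.2)
      simpa [mul_assoc] using h''
    · have h' := hzn _ (I.mul_mem (I.mul_mem h hx') (I.inv_mem h))
      simp [mul_assoc, hzinv, hzz, hz2] at h'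
      have h'' := I.mul_mem h' (I.inv_mem i.2)
      simpa [mul_assoc] using h''
  have hsq := sum_sq_hom a hne
  have hsq' : ∑ i : I, conj (a i : ℂ) * conj (a i : ℂ) = 0 := by
    simpa using congrArg conj hsq
  have hone : ∀ i : I, (a i : ℂ) * conj (a i : ℂ) = 1 := fun i => by
    rw [conj_hom_apply, ← Units.val_mul, mul_inv_cancel, Units.val_one]
  have hθc : IsCharacter J θ := IsCharacter.indFun I0 (by
    exact IsCharacter.comp (isCharacter_hom a) (Subgroup.subgroupOfEquivOfLe hIJ).toMonoidHom)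
  have hI0ne : (Nat.card I : ℂ) ≠ 0 := card_ne_zero
  have hθ : IsIrrCharacter J θ := by
    refine IsCharacter.isIrrCharacter_of_norm_one hθc ?_
    rw [Cfsg.classInner, hsplit, hcardJ]
    simp only [hθval, hθzero, map_add, Complex.conj_conj, zero_mul, Finset.sum_const_zero, add_zero]
    rw [Finset.sum_congr rfl fun i _ => show ((a i : ℂ) + conj (a i : ℂ)) *
        (conj (a i : ℂ) + (a i : ℂ)) = (a i : ℂ) * a i + conj (a i : ℂ) * conj (a i : ℂ) + 2 by
      linear_combination 2 * hone i, Finset.sum_add_distrib, Finset.sum_add_distrib, hsq, hsq']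
    simp only [zero_add, Finset.sum_const, Finset.card_univ, nsmul_eq_mul,
      ← Nat.card_eq_fintype_card]
    field_simp
  have hθν : (Nat.card J : ℂ)⁻¹ * ∑ x, θ (x * x) = 1 := by
    rw [hsplit, hcardJ]
    have e1 : ∀ i : I, θ (ι i * ι i)
        = (a i : ℂ) * a i + conj (a i : ℂ) * conj (a i : ℂ) := fun i => by
      rw [← map_mul, hθval]; simp
    have e2 : ∀ i : I, θ (zJ * ι i * (zJ * ι i)) = 2 := fun i => by
      have e : zJ * ι i * (zJ * ι i) = ι (⟨z * i * z, hzn i i.2⟩ * i) := by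
        apply Subtype.ext
        show z * (i : G) * (z * i) = z * i * z * i
        simp only [mul_assoc]
      rw [e, hθval, map_mul a, ha, inv_mul_cancel]
      norm_num
    simp only [e1, e2, Finset.sum_add_distrib, hsq, hsq', zero_add, Finset.sum_const,
      Finset.card_univ, nsmul_eq_mul, ← Nat.card_eq_fintype_card]
    field_simp
  have hθr : ∀ x, (θ x).im = 0 := by
    intro x
    obtain ⟨w, rfl⟩ := hbij.2 x
    rcases w with i | i
    · show (θ (ι i)).im = 0
      simp [hθval]
    · show (θ (zJ * ι i)).im = 0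
      simp [hθzero]
  have hχJ : χ = Cfsg.indFun J θ := by
    rw [he]
    exact (indFun_indFun I (fun i => (a i : ℂ)) J hIJ).symm
  have hχr : ∀ g, (χ g).im = 0 := fun g => by
    rw [← Complex.conj_eq_iff_im, hχJ, indFun_def, map_mul, map_inv₀, map_natCast, map_sum]
    congr 1
    refine Finset.sum_congr rfl fun x _ => ?_
    by_cases hx : x⁻¹ * g * x ∈ J
    · rw [extendByZero_apply_mem J θ hx, Complex.conj_eq_iff_im.2 (hθr _)]
    · rw [extendByZero_apply_notMem J θ hx, map_zero]
  have hm : Cfsg.classInner (fun x : J => χ x) θ = 1 := by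
    rw [IsCharacter.classInner_comm (IsCharacter.restrict (IsIrrCharacter.isCharacter hχ) J) hθc,
      ← classInner_indFun J θ (IsIrrCharacter.isClassFunction hχ), ← hχJ, classInner_irr_self hχ]
  rw [IndicatorMult.indicator_eq J hχ hθ hχr hθr hm, hθν]

/-- Let G be a finite group that is the semidirect product of a normal elementary abelian subgroup N of odd order by a non-trivial 2-subgroup P, with N the unique minimal normal subgroup of G. Consider the strongly real irreducible complex characters of G (Frobenius–Schur indicator +1) whose degree is 1 or even. Then their average degree is at least 4/3: four times their number is at most three times the sum of their degrees. -/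
theorem result {G : Type*} [Group G] [Finite G] (N P : Subgroup G) (hN : N.Normal) (q : ℕ) [Fact q.Prime] (hq : q ≠ 2) (hNel : Cfsg.IsElementaryAbelian q N) (hP : IsPGroup 2 ↥P) (hP1 : P ≠ ⊥) (hdisj : N ⊓ P = ⊥) (hprod : N ⊔ P = ⊤) (hmin : N ≠ ⊥ ∧ ∀ M : Subgroup G, M.Normal → M ≠ ⊥ → N ≤ M) : 4 * Nat.card {χ : Cfsg.IrrCharacter G // (Cfsg.charDegree (χ : G → ℂ) = 1 ∨ 2 ∣ Cfsg.charDegree (χ : G → ℂ)) ∧ (Nat.card G : ℂ)⁻¹ * ∑ᶠ g : G, (χ : G → ℂ) (g * g) = 1} ≤ 3 * (∑ᶠ χ : {χ : Cfsg.IrrCharacter G // (Cfsg.charDegree (χ : G → ℂ) = 1 ∨ 2 ∣ Cfsg.charDegree (χ : G → ℂ)) ∧ (Nat.card G : ℂ)⁻¹ * ∑ᶠ g : G, (χ : G → ℂ) (g * g) = 1}, Cfsg.charDegree (χ.1 : G → ℂ)) := by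
  have := Fintype.ofFinite G
  have hq' : q.Prime := Fact.out
  obtain ⟨hNab, hNexp⟩ := hNel
  have hodd : ∀ n ∈ N, n * n = 1 → n = 1 := by
    intro n hn h2
    have h1 : orderOf n ∣ q := orderOf_dvd_of_pow_eq_one (hNexp n hn)
    have h3 : orderOf n ∣ 2 := orderOf_dvd_of_pow_eq_one (by rw [pow_two, h2])
    exact orderOf_eq_one_iff.1
      (Nat.eq_one_of_dvd_coprimes ((Nat.coprime_primes hq' Nat.prime_two).2 hq) h1 h3)
  -- the central involution of P
  obtain ⟨z, hzP, hz1, hz2, hzc⟩ : ∃ z ∈ P, z ≠ 1 ∧ z * z = 1 ∧ ∀ t ∈ P, z * t = t * z := by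
    have : Nontrivial P := (Subgroup.nontrivial_iff_ne_bot P).2 hP1
    have := hP.center_nontrivial
    have hdvd : 2 ∣ Nat.card (Subgroup.center P) :=
      (((hP.to_subgroup (Subgroup.center P)).card_eq_or_dvd)).resolve_left
        (fun h => by
          have := Finite.one_lt_card (α := Subgroup.center P)
          omega)
    obtain ⟨z, hz⟩ := exists_prime_orderOf_dvd_card' (G := Subgroup.center P) 2 hdvd
    refine ⟨((z : P) : G), (z : P).2, fun h => ?_, ?_, fun t ht => ?_⟩
    · have : z = 1 := Subtype.ext (Subtype.ext h)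
      rw [this, orderOf_one] at hz
      norm_num at hz
    · have h := pow_orderOf_eq_one z
      rw [hz, pow_two] at h
      exact congrArg (fun w : Subgroup.center P => ((w : P) : G)) h
    · exact (congrArg Subtype.val (Subgroup.mem_center_iff.1 z.2 ⟨t, ht⟩)).symm
  have hzinv : z⁻¹ = z := inv_eq_of_mul_eq_one_right hz2
  have hcompl : N.IsComplement' P :=
    Subgroup.isComplement'_of_disjoint_and_mul_eq_univ (disjoint_iff.2 hdisj) (by
      rw [← Subgroup.normal_mul, hprod]; rfl)
  -- z inverts N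
  have hNcomm : ∀ x ∈ N, ∀ y ∈ N, x * y = y * x := fun x hx y hy =>
    congrArg Subtype.val (hNab.1.1 ⟨x, hx⟩ ⟨y, hy⟩)
  let C := N ⊓ Subgroup.centralizer ({z} : Set G)
  have hCn : C.Normal := by
    refine ⟨fun c hc g => ?_⟩
    obtain ⟨⟨n, t⟩, rfl⟩ := hcompl.2 g
    have h1 : (t : G) * c * (t : G)⁻¹ ∈ C := by
      refine ⟨hN.conj_mem c hc.1 t, Subgroup.mem_centralizer_singleton_iff.2 ?_⟩
      have hzt := hzc t t.2
      have hzt' := hzc _ (P.inv_mem t.2)
      have hcz := Subgroup.mem_centralizer_singleton_iff.1 hc.2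
      calc (t : G) * c * (t : G)⁻¹ * z = (t : G) * (c * z) * (t : G)⁻¹ := by
            simp only [mul_assoc]; rw [hzt']
        _ = (t : G) * z * c * (t : G)⁻¹ := by rw [hcz]; simp only [mul_assoc]
        _ = z * ((t : G) * c * (t : G)⁻¹) := by rw [← hzt]; simp only [mul_assoc]
    have e : (n : G) * t * c * ((n : G) * t)⁻¹ = (n : G) * ((t : G) * c * (t : G)⁻¹) * (n : G)⁻¹ := by
      group
    show (n : G) * t * c * ((n : G) * t)⁻¹ ∈ C
    rw [e, hNcomm _ n.2 _ h1.1, mul_inv_cancel_right]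
    exact h1
  have hCbot : C = ⊥ := by
    by_contra hne
    have hNC : ∀ n ∈ N, n * z = z * n := fun n hn =>
      Subgroup.mem_centralizer_singleton_iff.1 ((hmin.2 C hCn hne hn).2)
    have hzn : (Subgroup.zpowers z).Normal := by
      refine ⟨fun w hw g => ?_⟩
      obtain ⟨k, rfl⟩ := Subgroup.mem_zpowers_iff.1 hw
      obtain ⟨⟨n, t⟩, rfl⟩ := hcompl.2 g
      have hcg : Commute ((n : G) * t) z :=
        Commute.mul_left (hNC n n.2) (hzc t t.2).symm
      rw [(hcg.zpow_right k).eq, mul_inv_cancel_right]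
      exact Subgroup.zpow_mem _ (Subgroup.mem_zpowers z) k
    have hle := hmin.2 _ hzn (fun h => hz1 (by
      have := Subgroup.mem_zpowers z
      rw [h] at this
      exact this))
    refine hmin.1 ((Subgroup.eq_bot_iff_forall N).2 fun n hn => ?_)
    refine hodd n hn ?_
    obtain ⟨k, hk⟩ := Subgroup.mem_zpowers_iff.1 (hle hn)
    rw [← hk, ← (Commute.refl z).mul_zpow, hz2, one_zpow]
  have hinv : ∀ n ∈ N, z * n * z = n⁻¹ := by
    intro n hn
    have hzn : z * n * z ∈ N := by
      have := hN.conj_mem n hn z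
      rwa [hzinv] at this
    have hmem : n * (z * n * z) ∈ C := by
      refine ⟨N.mul_mem hn hzn, Subgroup.mem_centralizer_singleton_iff.2 ?_⟩
      calc n * (z * n * z) * z = n * z * n := by simp [mul_assoc, hz2]
        _ = z * ((z * n * z) * n) := by simp [← mul_assoc, hz2]
        _ = z * (n * (z * n * z)) := by rw [hNcomm _ hzn _ hn]
    rw [hCbot, Subgroup.mem_bot] at hmem
    exact (inv_eq_of_mul_eq_one_right hmem).symm
  have hNG : N ≤ commutator G := by
    intro n hn
    have h2 : n * n ∈ commutator G := by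
      have hc := Subgroup.commutator_mem_commutator (Subgroup.mem_top n) (Subgroup.mem_top z)
      have e : ⁅n, z⁆ = n * n := by
        rw [commutatorElement_def, hzinv, show n * z * n⁻¹ * z = n * (z * n⁻¹ * z) by group,
          hinv _ (N.inv_mem hn), inv_inv]
      rwa [e] at hc
    obtain ⟨k, hk⟩ := hq'.odd_of_ne_two hq
    have e : n = (n * n) ^ (k + 1) := by
      rw [← pow_two, ← pow_mul, show 2 * (k + 1) = q + 1 by omega, pow_succ, hNexp n hn, one_mul]
    rw [e]
    exact Subgroup.pow_mem _ h2 _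
  -- a nontrivial character of N and its extension
  obtain ⟨φ, hφ⟩ : ∃ φ : N →* ℂˣ, φ ≠ 1 := by
    let : CommGroup N := { (inferInstance : Group N) with mul_comm := hNab.1.1 }
    have : NeZero (Monoid.exponent N : ℂ) :=
      ⟨by exact_mod_cast Monoid.exponent_ne_zero_of_finite⟩
    have : Nontrivial N := (Subgroup.nontrivial_iff_ne_bot N).2 hmin.1
    obtain ⟨x, hx⟩ := exists_ne (1 : N)
    obtain ⟨φ, hφ⟩ := CommGroup.exists_apply_ne_one_of_hasEnoughRootsOfUnity N ℂ hx
    exact ⟨φ, fun h => hφ (by rw [h]; rfl)⟩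
  have hφ2 : ∃ n, φ n * φ n ≠ 1 := by
    by_contra hcon
    push Not at hcon
    apply hφ
    refine MonoidHom.ext fun n => ?_
    obtain ⟨k, hk⟩ := hq'.odd_of_ne_two hq
    have h1 : φ n ^ q = 1 := by
      rw [← map_pow]
      exact (congrArg φ (Subtype.ext (hNexp n n.2) : n ^ q = 1)).trans (map_one φ)
    rw [hk, pow_succ, pow_mul, pow_two, hcon, one_pow, one_mul] at h1
    exact h1
  set φ' : IrrCharacter N := ⟨fun n => (φ n : ℂ), isIrrCharacter_hom φ⟩
  set I := stab (G := G) (φ' : N → ℂ)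
  have hNI : N ≤ I := le_stab (IsIrrCharacter.isClassFunction φ'.2)
  have hT : IsInertia (φ' : N → ℂ) I := isInertia_stab _
  have hzI : z ∉ I := by
    intro h
    obtain ⟨n, hn⟩ := hφ2
    apply hn
    have h1 := congrFun (mem_stab.1 h) n
    rw [conjG_apply] at h1
    have e : (⟨z * n * z⁻¹, hN.conj_mem n n.2 z⟩ : N) = n⁻¹ :=
      Subtype.ext (by show z * (n : G) * z⁻¹ = (n : G)⁻¹; rw [hzinv]; exact hinv n n.2)
    rw [e] at h1
    have h2 : φ n⁻¹ = φ n := Units.ext h1
    rw [map_inv] at h2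
    nth_rw 1 [← h2]
    exact inv_mul_cancel _
  choose np hnp using fun g : G => hcompl.2 g
  have huniq : ∀ (n : N) (t : P), np ((n : G) * t) = (n, t) := fun n t =>
    hcompl.1 (hnp _)
  have hnpI : ∀ i : I, ((np (i : G)).2 : G) ∈ I := fun i => by
    have e : ((np (i : G)).2 : G) = ((np (i : G)).1 : G)⁻¹ * i := by
      rw [eq_inv_mul_iff_mul_eq]; exact hnp i
    rw [e]
    exact I.mul_mem (I.inv_mem (hNI (np (i : G)).1.2)) i.2
  let ψ : I →* ℂˣ :=
    { toFun := fun i => φ (np (i : G)).1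
      map_one' := by
        have := huniq 1 1
        simp only [OneMemClass.coe_one, one_mul] at this
        show φ (np ((1 : I) : G)).1 = 1
        rw [OneMemClass.coe_one, this, map_one]
      map_mul' := fun i j => by
        set n := (np (i : G)).1
        set t := (np (i : G)).2
        set n' := (np (j : G)).1
        set t' := (np (j : G)).2
        let m : N := ⟨(t : G) * n' * (t : G)⁻¹, hN.conj_mem n' n'.2 t⟩
        have e : ((i * j : I) : G) = ((n * m : N) : G) * ((t * t' : P) : G) := by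
          show (i : G) * j = (n : G) * ((t : G) * n' * (t : G)⁻¹) * ((t : G) * t')
          rw [← show (n : G) * (t : G) = i from hnp i, ← show (n' : G) * (t' : G) = j from hnp j]
          group
        show φ (np ((i * j : I) : G)).1 = φ n * φ n'
        rw [e, huniq, map_mul]
        congr 1
        exact Units.ext (congrFun (mem_stab.1 (hnpI i)) n') }
  have hψres : ∀ n : N, ψ (Subgroup.inclusion hNI n) = φ n := fun n => by
    show φ (np (n : G)).1 = φ n
    have := huniq n 1
    simp only [OneMemClass.coe_one, mul_one] at this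
    rw [this]
  have hzn : ∀ i ∈ I, z * i * z ∈ I := fun i hi => by
    have e : z * i * z = ((np i).1 : G)⁻¹ * ((np i).2 : G) := by
      calc z * i * z = z * ((np i).1 : G) * z * (z * ((np i).2 : G) * z) := by
            conv_lhs => rw [← show ((np i).1 : G) * ((np i).2 : G) = i from hnp i]
            simp [mul_assoc, ← mul_assoc z z, hz2]
        _ = _ := by rw [hinv _ (np i).1.2, hzc _ (np i).2.2, mul_assoc ((np i).2 : G), hz2, mul_one]
    rw [e]
    exact I.mul_mem (I.inv_mem (hNI (np i).1.2)) (hnpI ⟨i, hi⟩)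
  have hψz : ∀ i : I, ψ ⟨z * i * z, hzn i i.2⟩ = (ψ i)⁻¹ := fun i => by
    show φ (np (z * (i : G) * z)).1 = (φ (np (i : G)).1)⁻¹
    have e : z * (i : G) * z = (((np (i : G)).1⁻¹ : N) : G) * ((np (i : G)).2 : G) := by
      calc z * (i : G) * z
          = z * ((np (i : G)).1 : G) * z * (z * ((np (i : G)).2 : G) * z) := by
            conv_lhs => rw [← show ((np (i : G)).1 : G) * ((np (i : G)).2 : G) = i from hnp i]
            simp [mul_assoc, ← mul_assoc z z, hz2]
        _ = _ := by
            rw [hinv _ (np (i : G)).1.2, hzc _ (np (i : G)).2.2, mul_assoc ((np (i : G)).2 : G), hz2,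
              mul_one]
            rfl
    rw [e, huniq, map_inv]
  -- degrees
  have hdeg : ∀ χ : IrrCharacter G, charDegree (χ : G → ℂ) = 1 ∨ 2 ∣ charDegree (χ : G → ℂ) := by
    intro χ
    obtain ⟨k, hk⟩ := hP.exists_card_eq
    have h := deg_dvd_index N (fun a b => hNab.1.1 a b) χ
    rw [hcompl.symm.index_eq_card, hk] at h
    obtain ⟨j, -, hj⟩ := (Nat.dvd_prime_pow Nat.prime_two).1 h
    rcases j with _ | j
    · exact Or.inl (by simpa using hj)
    · exact Or.inr (hj ▸ dvd_pow_self 2 (Nat.succ_ne_zero j))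
  let Q : IrrCharacter G → Prop := fun χ =>
    (Nat.card G : ℂ)⁻¹ * ∑ g : G, (χ : G → ℂ) (g * g) = 1
  set Lset := Finset.univ.filter fun χ : IrrCharacter G => (χ : G → ℂ) 1 = 1 ∧ Q χ
  have hQsq : ∀ (lam : IrrCharacter G) (f : G →* ℂˣ), (lam : G → ℂ) = (fun g => (f g : ℂ)) →
      Q lam → ∀ g, f g * f g = 1 := by
    intro lam f hf hQ
    by_contra hcon
    push Not at hcon
    have h := sum_sq_hom f hcon
    simp only [Q, hf, map_mul, Units.val_mul, h, mul_zero, zero_ne_one] at hQ
  have hcard := card_le hNG hNI φ'.2 hT (isIrrCharacter_hom ψ)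
    (funext fun n => congrArg (fun u : ℂˣ => (u : ℂ)) (hψres n)) Q Lset
    (fun χ hχ => (Finset.mem_filter.1 hχ).2.1) (fun χ lam hlam he => by
      obtain ⟨h1, hQ⟩ := (Finset.mem_filter.1 hlam).2
      obtain ⟨f, hf⟩ := exists_hom_of_apply_one_eq_one (isCharacter_irr lam) h1
      have hs := hQsq lam f hf hQ
      refine indicator_ind I hz2 hzI hzn (ψ * f.comp I.subtype) (fun i => ?_) ?_ χ.2 ?_
      · show ψ ⟨z * i * z, hzn i i.2⟩ * f (z * (i : G) * z) = (ψ i * f (i : G))⁻¹
        rw [hψz, mul_inv, map_mul, map_mul, mul_comm (f z) (f (i : G)), mul_assoc, hs, mul_one,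
          inv_eq_of_mul_eq_one_right (hs (i : G))]
      · obtain ⟨n, hn⟩ := hφ2
        refine ⟨Subgroup.inclusion hNI n, ?_⟩
        show ψ (Subgroup.inclusion hNI n) * f (n : G) * (ψ (Subgroup.inclusion hNI n) * f (n : G)) ≠ 1
        rw [hψres, mul_mul_mul_comm, hs, mul_one]
        exact hn
      · rw [he, hf]
        rfl)
  have hd2 : 2 ≤ I.index := by
    have h0 : I.index ≠ 0 := Subgroup.index_ne_zero_of_finite
    have h1 : I.index ≠ 1 := fun h => hzI ((Subgroup.index_eq_one.1 h) ▸ Subgroup.mem_top z)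
    omega
  set D := Finset.univ.filter fun χ : IrrCharacter G => charDegree (χ : G → ℂ) = I.index ∧ Q χ
  have hD : Nat.card {χ : IrrCharacter G // (χ : G → ℂ) 1 = (I.index : ℂ) * (φ' : N → ℂ) 1 ∧ Q χ}
      = D.card := by
    rw [Nat.card_eq_fintype_card, Fintype.card_subtype]
    congr 1
    refine Finset.filter_congr fun χ _ => and_congr_left' ?_
    rw [← deg_cast, show (φ' : N → ℂ) 1 = 1 by simp [φ'], mul_one, Nat.cast_inj]
  rw [hD] at hcard
  rw [finsum_eq_sum_of_fintype]
  set S := Finset.univ.filter fun χ : IrrCharacter G => Q χ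
  have hiff : ∀ χ : IrrCharacter G, ((charDegree (χ : G → ℂ) = 1 ∨ 2 ∣ charDegree (χ : G → ℂ)) ∧
      (Nat.card G : ℂ)⁻¹ * ∑ᶠ g : G, (χ : G → ℂ) (g * g) = 1) ↔ χ ∈ S := fun χ => by
    simp [S, Q, hdeg χ, finsum_eq_sum_of_fintype]
  rw [Nat.card_congr (Equiv.subtypeEquivRight hiff), Nat.card_eq_fintype_card, Fintype.card_coe]
  refine le_of_le_of_eq ?_ (congrArg (3 * ·) (Fintype.sum_equiv (Equiv.subtypeEquivRight hiff)
    _ (fun χ : S => charDegree (χ.1 : G → ℂ)) (fun _ => rfl)).symm)
  show _ ≤ 3 * _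
  rw [Finset.sum_coe_sort S (fun χ : IrrCharacter G => charDegree (χ : G → ℂ))]
  rw [← Finset.sum_filter_add_sum_filter_not S (fun χ : IrrCharacter G => charDegree (χ : G → ℂ) = 1),
    ← Finset.card_filter_add_card_filter_not (s := S)
      (fun χ : IrrCharacter G => charDegree (χ : G → ℂ) = 1)]
  set S₁ := S.filter fun χ : IrrCharacter G => charDegree (χ : G → ℂ) = 1
  set S₂ := S.filter fun χ : IrrCharacter G => ¬ charDegree (χ : G → ℂ) = 1
  have h1 : ∑ χ ∈ S₁, charDegree (χ : G → ℂ) = S₁.card := by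
    rw [Finset.sum_congr rfl fun χ hχ => (Finset.mem_filter.1 hχ).2, Finset.sum_const, smul_eq_mul,
      mul_one]
  have hS₁ : S₁.card = Lset.card := by
    congr 1
    ext χ
    simp [S₁, S, Lset, deg_eq_one_iff, and_comm]
  have hDS : D ⊆ S₂ := fun χ hχ => by
    simp only [D, Finset.mem_filter] at hχ
    simp only [S₂, S, Finset.mem_filter, Finset.mem_univ, true_and]
    exact ⟨hχ.2.2, by omega⟩
  have h2 : 2 * S₂.card ≤ ∑ χ ∈ S₂, charDegree (χ : G → ℂ) := by
    rw [mul_comm, ← smul_eq_mul, ← Finset.sum_const]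
    refine Finset.sum_le_sum fun χ hχ => ?_
    rcases hdeg χ with h | h
    · exact absurd h (Finset.mem_filter.1 hχ).2
    · exact Nat.le_of_dvd (deg_pos χ) h
  have h3 : I.index * D.card + 2 * (S₂.card - D.card) ≤ ∑ χ ∈ S₂, charDegree (χ : G → ℂ) := by
    rw [← Finset.sum_sdiff hDS, ← Finset.card_sdiff_of_subset hDS, add_comm]
    refine Nat.add_le_add ?_ ?_
    · rw [mul_comm, ← smul_eq_mul, ← Finset.sum_const]
      refine Finset.sum_le_sum fun χ hχ => ?_
      have h' := Finset.mem_sdiff.1 hχ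
      rcases hdeg χ with h | h
      · exact absurd h (Finset.mem_filter.1 h'.1).2
      · exact Nat.le_of_dvd (deg_pos χ) h
    · rw [Finset.sum_congr rfl fun χ hχ => (Finset.mem_filter.1 hχ).2.1, Finset.sum_const,
        smul_eq_mul, mul_comm]
  have h4 := Finset.card_le_card hDS
  have h5 : 2 * D.card ≤ I.index * D.card := Nat.mul_le_mul_right _ hd2
  rw [h1, hS₁]
  omega

end Cfsg.Agent.S4871
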