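import Cfsg.Statements.S4872
import Cfsg.Agent.Lib.DegreeTools.DefectZeroReal
import Cfsg.Agent.Lib.DegreeTools.IndicatorMult
import Cfsg.Agent.S0165

set_option autoImplicit false
open Cfsg CfsgLib.Char CfsgLib.DegreeTools
open scoped ComplexConjugate

namespace Cfsg.Agent.S4872

/-- Let N be a normal subgroup of the finite group G with G/N a 2-group, and let φ be an irreducible complex character of N of 2-defect zero (the 2-part of #N divides φ(1)) whose complex conjugate is G-conjugate to φ. Then some irreducible character of G with Frobenius–Schur indicator +1 contains φ with multiplicity exactly one on restriction to N. -/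
theorem result {G : Type*} [Group G] [Finite G] (N : Subgroup G) [N.Normal] (h2 : IsPGroup 2 (G ⧸ N)) (φ : Cfsg.IrrCharacter ↥N) (hdef : 2 ^ (Nat.card ↥N).factorization 2 ∣ Cfsg.charDegree (φ : ↥N → ℂ)) (hconj : ∃ g : G, ∀ n n' : ↥N, (n' : G) = g * (n : G) * g⁻¹ → (φ : ↥N → ℂ) n' = (starRingEnd ℂ) ((φ : ↥N → ℂ) n)) : ∃ χ : Cfsg.IrrCharacter G, (Nat.card G : ℂ)⁻¹ * ∑ᶠ g : G, (χ : G → ℂ) (g * g) = 1 ∧ (Nat.card ↥N : ℂ)⁻¹ * ∑ᶠ n : ↥N, (χ : G → ℂ) n * (starRingEnd ℂ) ((φ : ↥N → ℂ) n) = 1 := by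
  classical
  cases nonempty_fintype G
  haveI := Fact.mk Nat.prime_two
  set φf : ↥N → ℂ := (φ : ↥N → ℂ) with hφf
  obtain ⟨P⟩ : Nonempty (Sylow 2 G) := inferInstance
  obtain ⟨k, hk⟩ := IsPGroup.iff_card.mp h2
  have hidx : N.index = 2 ^ k := hk
  -- the Sylow subgroup supplements `N`
  have hsup : N ⊔ (P : Subgroup G) = ⊤ := by
    rw [← Subgroup.index_eq_one]
    have h1 : (N ⊔ (P : Subgroup G)).index ∣ 2 ^ k := hidx ▸ Subgroup.index_dvd_of_le le_sup_left
    have h3 : (N ⊔ (P : Subgroup G)).index ∣ (P : Subgroup G).index :=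
      Subgroup.index_dvd_of_le le_sup_right
    obtain ⟨j, -, hj⟩ := (Nat.dvd_prime_pow Nat.prime_two).mp h1
    rcases j with _ | j
    · rw [hj, pow_zero]
    · exact absurd ((Dvd.intro_left _ (pow_succ 2 j).symm).trans (hj ▸ h3)) P.not_dvd_index
  -- the two-part of the order of `N`
  have hQ : Nat.card (N.subgroupOf (P : Subgroup G)) = 2 ^ (Nat.card ↥N).factorization 2 := by
    let g : (P : Subgroup G) →* G ⧸ N := (QuotientGroup.mk' N).comp (P : Subgroup G).subtype
    have hg : Function.Surjective g := by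
      intro q
      obtain ⟨x, rfl⟩ := QuotientGroup.mk'_surjective N q
      obtain ⟨n, hn, p, hp, rfl⟩ := Subgroup.mem_sup_of_normal_left.mp
        (show x ∈ N ⊔ (P : Subgroup G) by rw [hsup]; exact Subgroup.mem_top x)
      exact ⟨⟨p, hp⟩, by simp [g, (QuotientGroup.eq_one_iff n).mpr hn]⟩
    have hker : g.ker = N.subgroupOf (P : Subgroup G) := by
      ext q
      simp [g, MonoidHom.mem_ker, Subgroup.mem_subgroupOf, QuotientGroup.eq_one_iff]
    have h1 := (N.subgroupOf (P : Subgroup G)).card_mul_index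
    have h3 : (N.subgroupOf (P : Subgroup G)).index = 2 ^ k := by
      rw [← hker, Subgroup.index_ker, MonoidHom.range_eq_top.mpr hg, Subgroup.card_top]
      exact hk
    rw [h3, P.card_eq_multiplicity, ← N.card_mul_index, hidx,
      Nat.factorization_mul Nat.card_pos.ne' (pow_ne_zero _ two_ne_zero), Finsupp.add_apply,
      Nat.Prime.factorization_pow Nat.prime_two, Finsupp.single_eq_same, pow_add] at h1
    exact Nat.eq_of_mul_eq_mul_right (pow_pos two_pos k) h1
  have S : DefectZeroExt.Setup N (P : Subgroup G) φ := by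
    refine ⟨P.isPGroup', hsup, fun n hn hn1 => ?_, ?_⟩
    · obtain ⟨d, ρ, hρ, hρφ⟩ := φ.2
      haveI := hρ
      have hd : Cfsg.charDegree (φ : ↥N → ℂ) = Module.finrank ℂ (Fin d → ℂ) := by
        apply Nat.cast_injective (R := ℂ)
        rw [deg_cast, ← hρφ, Representation.char_one]
      rw [← hρφ]
      refine Cfsg.Agent.S0165.result ρ 2 _ Nat.prime_two (Nat.ordProj_dvd _ _)
        (Nat.pow_succ_factorization_not_dvd Nat.card_pos.ne' Nat.prime_two) (hd ▸ hdef) n ?_
      obtain ⟨j, hj⟩ := IsPGroup.iff_orderOf.mp P.isPGroup' ⟨(n : G), hn⟩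
      rw [Subgroup.orderOf_mk, Subgroup.orderOf_coe] at hj
      rw [hj]
      exact dvd_pow_self 2 fun h => hn1 (orderOf_eq_one_iff.mp (by rw [hj, h, pow_zero]))
    · obtain ⟨m, hm⟩ := hdef
      refine ⟨m, Nat.not_even_iff_odd.mp fun he => ?_, by rw [hQ, ← deg_cast, hm]; push_cast; ring⟩
      obtain ⟨m', rfl⟩ := even_iff_two_dvd.mp he
      exact Nat.pow_succ_factorization_not_dvd (n := Nat.card ↥N) Nat.card_pos.ne' Nat.prime_two
        (dvd_trans ⟨m', by rw [hm, pow_succ]; ring⟩ (deg_dvd_card φ))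
  -- conjugation by an element of the Sylow subgroup
  have hcl := IsIrrCharacter.isClassFunction φ.2
  obtain ⟨u, huP, hu⟩ : ∃ u ∈ (P : Subgroup G), conjG φf u = fun x => conj (φf x) := by
    obtain ⟨g, hg⟩ := hconj
    obtain ⟨n, hn, p, hp, rfl⟩ := Subgroup.mem_sup_of_normal_left.mp
      (show g ∈ N ⊔ (P : Subgroup G) by rw [hsup]; exact Subgroup.mem_top g)
    refine ⟨p, hp, ?_⟩
    have h1 : conjG φf (n * p) = fun x => conj (φf x) := funext fun x => hg x _ rfl
    rwa [← conjG_mul, conjG_of_mem hcl hn] at h1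
  -- the stabiliser of the pair
  have hcc : ∀ g, conjG (fun x => conj (φf x)) g = fun x => conj (conjG φf g x) := fun g => rfl
  let H : Subgroup G :=
    { carrier := {g | conjG φf g = φf ∨ conjG φf g = fun x => conj (φf x)}
      one_mem' := Or.inl (conjG_one φf)
      mul_mem' := fun {a b} ha hb => by
        rcases ha with ha | ha <;> rcases hb with hb | hb <;>
          simp only [Set.mem_ofPred_eq, ← conjG_mul, ha, hcc, hb, Complex.conj_conj, true_or, or_true]
      inv_mem' := fun {a} ha => by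
        rcases ha with ha | ha
        · exact Or.inl ((CfsgLib.Char.stab φf).inv_mem ha)
        · have h1 : conjG (conjG φf a) a⁻¹ = φf := by rw [conjG_mul, mul_inv_cancel, conjG_one]
          rw [ha, hcc] at h1
          refine Or.inr (funext fun x => ?_)
          have hx : conj (conjG φf a⁻¹ x) = φf x := congrFun h1 x
          rw [← Complex.conj_conj (conjG φf a⁻¹ x), hx] }
  set T := CfsgLib.Char.stab φf with hT
  have hNT : N ≤ T := le_stab hcl
  have hTH : T ≤ H := fun g hg => Or.inl hg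
  have hNH : N ≤ H := hNT.trans hTH
  have huH : u ∈ H := Or.inr hu
  let e : N.subgroupOf H ≃* N := Subgroup.subgroupOfEquivOfLe hNH
  let φ' : Cfsg.IrrCharacter (N.subgroupOf H) := ⟨φf ∘ e, IsIrrCharacter.comp_equiv φ.2 e⟩
  have S' := S.restrict hNH φ' fun x => rfl
  have h2H : IsPGroup 2 (H ⧸ N.subgroupOf H) := by
    have hd : (N.subgroupOf H).index ∣ 2 ^ k := by
      rw [← hidx]
      exact Dvd.intro _ (Subgroup.relIndex_mul_index hNH)
    obtain ⟨j, -, hj⟩ := (Nat.dvd_prime_pow Nat.prime_two).mp hd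
    exact IsPGroup.of_card hj
  have hconjH : ∀ (g : H) (x : N.subgroupOf H),
      conjG (φ' : N.subgroupOf H → ℂ) g x = conjG φf (g : G) (e x) := fun g x =>
    congrArg φf (Subtype.ext rfl)
  have hor : ∀ g : H, g ∈ CfsgLib.Char.stab (φ' : N.subgroupOf H → ℂ) ∨
      conjG (φ' : N.subgroupOf H → ℂ) g = fun x => conj ((φ' : N.subgroupOf H → ℂ) x) := by
    intro g
    rcases g.2 with h | h
    · exact Or.inl (funext fun x => (hconjH g x).trans (congrFun h (e x)))
    · exact Or.inr (funext fun x => (hconjH g x).trans (congrFun h (e x)))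
  obtain ⟨θ, hθr, hθν, hθN⟩ : ∃ θ : Cfsg.IrrCharacter H, (∀ g, ((θ : H → ℂ) g).im = 0) ∧
      (Nat.card H : ℂ)⁻¹ * ∑ g, (θ : H → ℂ) (g * g) = 1 ∧
      Cfsg.classInner (fun n : N.subgroupOf H => (θ : H → ℂ) n)
        (φ' : N.subgroupOf H → ℂ) = 1 := by
    by_cases hr : ∀ x, conj ((φ' : N.subgroupOf H → ℂ) x) = (φ' : N.subgroupOf H → ℂ) x
    · refine DefectZeroExt.exists_real_of_fixed S' h2H (fun g x => ?_) hr
      have hg : conjG (φ' : N.subgroupOf H → ℂ) g = (φ' : N.subgroupOf H → ℂ) := by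
        rcases hor g with h | h
        · exact h
        · exact h.trans (funext hr)
      exact (congrArg _ (Subtype.ext rfl)).trans (congrFun hg x)
    · exact DefectZeroExt.exists_real_of_swapped S' h2H (u := ⟨u, huH⟩) huP
        (funext fun x => (hconjH _ x).trans (congrFun hu (e x))) hor hr
  -- the inertia group
  set T' := T.subgroupOf H
  have hNT' : N.subgroupOf H ≤ T' := fun x hx => hNT hx
  have hT' : IsInertia (φ' : N.subgroupOf H → ℂ) T' := fun g => by
    refine ⟨fun hg x => (hconjH g x).trans (congrFun hg (e x)), fun h => ?_⟩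
    show conjG φf (g : G) = φf
    funext y
    have := (hconjH g (e.symm y)).symm.trans (h (e.symm y))
    simp only [MulEquiv.apply_symm_apply, φ', Function.comp_apply] at this
    exact this
  obtain ⟨ψ, hψ, hψc, hψeq⟩ := exists_eq_indFun_inertia hNT' φ'.2 hT' θ.2
    (by rw [hθN]; exact one_ne_zero)
  obtain ⟨-, hψm⟩ := indFun_inertia hNT' φ'.2 hT' hψ hψc
  rw [← hψeq, hθN] at hψm
  let eT : T' ≃* T := Subgroup.subgroupOfEquivOfLe hTH
  set ψ0 : T → ℂ := ψ ∘ eT.symm
  have hψ0 : Cfsg.IsIrrCharacter T ψ0 := IsIrrCharacter.comp_equiv hψ eT.symm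
  have hm0 : Cfsg.classInner (resLe hNT ψ0) φf = 1 := by
    rw [hψm]
    refine (classInner_reindex e (resLe hNT ψ0) φf).symm.trans ?_
    congr 1
  obtain ⟨hirr, hmult⟩ := indFun_inertia hNT φ.2 (isInertia_stab φf) hψ0
    (by rw [hm0]; exact one_ne_zero)
  rw [hm0] at hmult
  have hind : Cfsg.indFun H (θ : H → ℂ) = Cfsg.indFun T ψ0 := by
    rw [hψeq, ← indFun_indFun T ψ0 H hTH]
    rfl
  rw [← hind] at hirr hmult
  refine ⟨⟨_, hirr⟩, ?_, ?_⟩
  · rw [finsum_eq_sum_of_fintype]
    show (Nat.card G : ℂ)⁻¹ * ∑ g, Cfsg.indFun H (θ : H → ℂ) (g * g) = 1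
    have hreal : ∀ g, (Cfsg.indFun H (θ : H → ℂ) g).im = 0 := fun g => by
      rw [indFun_def, ← Complex.conj_eq_iff_im]
      simp only [map_mul, map_inv₀, map_sum, Complex.conj_natCast]
      congr 1
      refine Finset.sum_congr rfl fun x _ => ?_
      by_cases hx : x⁻¹ * g * x ∈ H
      · rw [extendByZero_apply_mem H _ hx, Complex.conj_eq_iff_im.mpr (hθr _)]
      · rw [extendByZero_apply_notMem H _ hx, map_zero]
    rw [IndicatorMult.indicator_eq H hirr θ.2 hreal hθr ?_, hθν]
    rw [← classInner_indFun_right H (θ : H → ℂ) (IsIrrCharacter.isClassFunction hirr),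
      classInner_irr_self hirr]
  · rw [finsum_eq_sum_of_fintype]
    exact hmult

end Cfsg.Agent.S4872
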