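import Cfsg.Statements.S4885
import Cfsg.Agent.Lib.Blocks.PrincipalPrimeDegree

set_option autoImplicit false
open Cfsg

namespace Cfsg.Agent.S4885

/-- Let p and q be primes dividing the order of the finite group G, and suppose G is p-solvable and q-solvable. Fix maximal ideals of the algebraic integers containing p and q, defining the principal p-block and the principal q-block. If the irreducible characters of degree prime to p in the principal p-block are exactly the irreducible characters of degree prime to q in the principal q-block, then p = q. -/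
theorem result {G : Type*} [Group G] [Finite G] (p q : ℕ) [Fact p.Prime] [Fact q.Prime] (hp : p ∣ Nat.card G) (hq : q ∣ Nat.card G) (hps : Cfsg.IsPSolvable p G) (hqs : Cfsg.IsPSolvable q G) (Mp Mq : Ideal Cfsg.AlgInt) (hMp : Cfsg.IsPModular p Mp) (hMq : Cfsg.IsPModular q Mq) (h : ∀ χ : Cfsg.IrrCharacter G, (χ ∈ Cfsg.principalBlock Mp G ∧ ¬ p ∣ Cfsg.charDegree (χ : G → ℂ)) ↔ (χ ∈ Cfsg.principalBlock Mq G ∧ ¬ q ∣ Cfsg.charDegree (χ : G → ℂ))) : p = q := by
  classical
  haveI : Fintype G := Fintype.ofFinite G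
  by_contra hpq
  open CfsgLib.Blocks CfsgLib.Blocks.PrincipalPrimeDegree in
  have key : ∀ (r s : ℕ) [Fact r.Prime] [Fact s.Prime] (Mr Ms : Ideal Cfsg.AlgInt), Cfsg.IsPModular r Mr →
      Cfsg.IsPModular s Ms → (∀ χ : Cfsg.IrrCharacter G, χ ∈ Cfsg.principalBlock Mr G →
        ¬ r ∣ Cfsg.charDegree (χ : G → ℂ) → χ ∈ Cfsg.principalBlock Ms G) →
      ∀ χ : Cfsg.IrrCharacter G, χ ∈ Cfsg.principalBlock Mr G → ¬ r ∣ Cfsg.charDegree (χ : G → ℂ) →
        Cfsg.pPrimeCore r G ⊔ Cfsg.pPrimeCore s G ≤ irrKer χ := by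
    intro r s _ _ Mr Ms hMr hMs hsub χ hχ hd
    refine sup_le ?_ ?_
    · exact le_irrKer_of_sameBlock hMr inferInstance
        ((Fact.out : r.Prime).coprime_iff_not_dvd.1 (CfsgLib.Solvable.Cores.coprime_card_pPrimeCore (G := G) r).symm)
        (χ := trivChar G) hχ (fun g _ => mem_irrKer.2 rfl)
    · exact le_irrKer_of_sameBlock hMs inferInstance
        ((Fact.out : s.Prime).coprime_iff_not_dvd.1 (CfsgLib.Solvable.Cores.coprime_card_pPrimeCore (G := G) s).symm)
        (χ := trivChar G) (hsub χ hχ hd) (fun g _ => mem_irrKer.2 rfl)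
  have k1 := key p q Mp Mq hMp hMq fun χ h1 h2 => ((h χ).1 ⟨h1, h2⟩).1
  have k2 := key q p Mq Mp hMq hMp fun χ h1 h2 => ((h χ).2 ⟨h1, h2⟩).1
  rw [sup_comm (Cfsg.pPrimeCore q G)] at k2
  set N : Subgroup G := Cfsg.pPrimeCore p G ⊔ Cfsg.pPrimeCore q G with hN
  obtain ⟨hOp, hNtop⟩ := CfsgLib.Blocks.PrincipalPrimeDegree.quotient_core hMp hps hp N le_sup_left k1
  obtain ⟨hOq, -⟩ := CfsgLib.Blocks.PrincipalPrimeDegree.quotient_core hMq hqs hq N le_sup_right k2
  have hc := CfsgLib.Fusion.PSolvable.centralizer_pCore_le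
    (CfsgLib.Fusion.PSolvable.psolvable_quotient hps N) hOp
  have hbot : Cfsg.pCore p (G ⧸ N) = ⊥ :=
    le_bot_iff.1 (hOq ▸ CfsgLib.Solvable.Cores.pCore_le_pPrimeCore (Fact.out : q.Prime) hpq)
  rw [hbot, le_bot_iff] at hc
  refine hNtop ((Subgroup.eq_top_iff' _).2 fun g => (QuotientGroup.eq_one_iff g).1 ?_)
  have hm : (QuotientGroup.mk g : G ⧸ N) ∈ Subgroup.centralizer ((⊥ : Subgroup (G ⧸ N)) : Set (G ⧸ N)) :=
    Subgroup.mem_centralizer_iff.2 fun y hy => by
      rw [Subgroup.mem_bot.1 hy, one_mul, mul_one]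
  exact Subgroup.mem_bot.1 (hc ▸ hm)

end Cfsg.Agent.S4885
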