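import Cfsg.Statements.S4888
import Cfsg.Agent.Lib.Involution.ZStar.PrincipalBlock
import Cfsg.Agent.Lib.Blocks.Defect2
import Cfsg.Agent.Lib.Fusion.Tate
import Cfsg.Agent.Lib.PGroup.Kulakoff
import Cfsg.Agent.Lib.DegreeTools.Basic
import Cfsg.Agent.Lib.Char.Quotient

set_option autoImplicit false
open Cfsg

namespace Cfsg.Agent.S4888

open CfsgLib.Blocks
open scoped Classical ComplexConjugate

theorem eq_one_of_congr {p : ℕ} {M : Ideal AlgInt} (hM : IsPModular p M) {w : ℂ} {m : ℕ}
    (hm : ¬ p ∣ m) (hw : w ^ m = 1) (h : MemLocalIdeal M (w - 1)) : w = 1 := by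
  have hm0 : m ≠ 0 := by rintro rfl; exact hm (dvd_zero p)
  have hi : IsIntegral ℤ w := IsIntegral.of_pow (Nat.pos_of_ne_zero hm0) (hw ▸ isIntegral_one)
  have hR : MemLocalRing M w := LR.of_isIntegral hM hi
  by_contra hne
  have hs : ∑ i ∈ Finset.range m, w ^ i = 0 := by
    rw [geom_sum_eq hne, hw, sub_self, zero_div]
  apply hm
  rw [← LI.natCast_iff hM]
  have h' : MemLocalIdeal M (∑ i ∈ Finset.range m, (w ^ i - 1)) := LI.sum hM fun i _ => by
    rw [← geom_sum_mul]
    exact LI.mul_left hM (LR.sum hM fun j _ => LR.pow hM hR j) h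
  rw [Finset.sum_sub_distrib, hs, Finset.sum_const, Finset.card_range, nsmul_eq_mul, mul_one,
    zero_sub] at h'
  simpa using LI.neg h'

variable {G : Type*} [Group G] [Fintype G] {p : ℕ} [Fact p.Prime] {M : Ideal AlgInt}

/-- Linear characters restrict onto all linear characters of a Sylow subgroup if they are the only
`p'`-degree characters of the principal block. -/
theorem exists_extension (hM : IsPModular p M) (P : Sylow p G)
    (hlin : ∀ χ : IrrCharacter G, χ ∈ principalBlock M G →
      ¬ p ∣ charDegree (χ : G → ℂ) → (χ : G → ℂ) 1 = 1)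
    (μ : (P : Subgroup G) →* ℂˣ) :
    ∃ lam : G →* ℂˣ, ∀ x : (P : Subgroup G), lam (x : G) = μ x := by
  -- linear characters of the principal block
  let B := principalBlock M G
  let f : G → ℂ := fun g => ∑ χ ∈ B.toFinset, (χ : G → ℂ) 1 * (χ : G → ℂ) g
  have hf : ∀ x : (P : Subgroup G), x ≠ 1 → f (x : G) = 0 := fun x hx => by
    refine CfsgLib.Involution.ZStar.sum_degree_mul_eq_zero hM isPBlock_principalBlock ?_
    obtain ⟨k, hk⟩ := IsPGroup.iff_orderOf.mp P.2 x
    rw [← Subgroup.orderOf_coe] at hk
    rw [hk]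
    refine dvd_pow_self _ ?_
    rintro rfl
    rw [pow_zero, orderOf_eq_one_iff] at hk
    exact hx (Subtype.ext hk)
  have hmul : ∀ (ν : (P : Subgroup G) →* ℂˣ) (χ : IrrCharacter G), ∃ a : ℕ,
      classInner (fun x : (P : Subgroup G) => (χ : G → ℂ) x) (fun x => (ν x : ℂ)) = a := fun ν χ =>
    CfsgLib.Char.IsCharacter.classInner_nat
      (CfsgLib.Char.IsCharacter.restrict (CfsgLib.Char.isCharacter_irr χ) _)
      (CfsgLib.Char.isCharacter_hom ν)
  choose a ha using hmul
  have hsum : ∀ ν : (P : Subgroup G) →* ℂˣ,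
      ∑ χ ∈ B.toFinset, (charDegree (χ : G → ℂ) : ℂ) * (a ν χ : ℂ)
        = (Nat.card (P : Subgroup G) : ℂ)⁻¹ * f 1 := by
    intro ν
    simp only [← ha, classInner, CfsgLib.DegreeTools.deg_cast]
    calc ∑ χ ∈ B.toFinset, (χ : G → ℂ) 1 * ((Nat.card (P : Subgroup G) : ℂ)⁻¹ *
          ∑ x : (P : Subgroup G), (χ : G → ℂ) x * conj (ν x : ℂ))
        = (Nat.card (P : Subgroup G) : ℂ)⁻¹ * ∑ x : (P : Subgroup G), f x * conj (ν x : ℂ) := by
          simp only [f, Finset.mul_sum, Finset.sum_mul]
          rw [Finset.sum_comm]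
          exact Finset.sum_congr rfl fun x _ => Finset.sum_congr rfl fun χ _ => by ring
      _ = _ := by
          rw [Finset.sum_eq_single (1 : (P : Subgroup G))
            (fun x _ hx => by rw [hf x hx, zero_mul]) (fun h => absurd (Finset.mem_univ _) h)]
          simp
  have hsum' : ∀ ν : (P : Subgroup G) →* ℂˣ, ∑ χ ∈ B.toFinset, charDegree (χ : G → ℂ) * a ν χ
      = ∑ χ ∈ B.toFinset, charDegree (χ : G → ℂ) * a 1 χ := fun ν => by
    have := (hsum ν).trans (hsum 1).symm
    exact_mod_cast this
  -- only the linear characters count modulo p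
  let L : ((P : Subgroup G) →* ℂˣ) → Finset (IrrCharacter G) := fun ν =>
    B.toFinset.filter fun χ => (χ : G → ℂ) 1 = 1 ∧ ∀ x : (P : Subgroup G), (χ : G → ℂ) x = ν x
  have hmod : ∀ ν, ((∑ χ ∈ B.toFinset, charDegree (χ : G → ℂ) * a ν χ : ℕ) : ZMod p)
      = ((L ν).card : ZMod p) := by
    intro ν
    rw [Nat.cast_sum, Finset.card_filter, Nat.cast_sum]
    refine Finset.sum_congr rfl fun χ hχ => ?_
    by_cases h1 : (χ : G → ℂ) 1 = 1
    · obtain ⟨φ, hφ⟩ := CfsgLib.Char.exists_hom_of_apply_one_eq_one
        (CfsgLib.Char.isCharacter_irr χ) h1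
      rw [(CfsgLib.DegreeTools.deg_eq_one_iff χ).mpr h1, one_mul]
      have hres : (fun x : (P : Subgroup G) => (χ : G → ℂ) x)
          = fun x => ((φ.comp (P : Subgroup G).subtype) x : ℂ) := by
        funext x; simp [hφ]
      have := ha ν χ
      rw [hres] at this
      by_cases he : φ.comp (P : Subgroup G).subtype = ν
      · rw [he, CfsgLib.Char.classInner_irr_self (CfsgLib.Char.isIrrCharacter_hom ν)] at this
        rw [if_pos ⟨h1, fun x => by rw [← he]; simp [hφ]⟩]
        rw [show a ν χ = 1 by exact_mod_cast this.symm]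
      · rw [CfsgLib.Char.classInner_irr_ne (CfsgLib.Char.isIrrCharacter_hom _)
          (CfsgLib.Char.isIrrCharacter_hom ν)
          (fun h => he (CfsgLib.Char.coe_hom_injective h))] at this
        rw [if_neg fun h => he (MonoidHom.ext fun x => Units.ext (by simpa [hφ] using h.2 x)),
          show a ν χ = 0 by exact_mod_cast this.symm]
    · rw [if_neg fun h => h1 h.1, Nat.cast_zero, ZMod.natCast_eq_zero_iff]
      by_contra hd
      exact h1 (hlin χ (Set.mem_toFinset.1 hχ) fun h => hd (dvd_mul_of_dvd_left h _))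
  -- the linear characters trivial on P
  have hL1 : ¬ p ∣ (L 1).card := by
    let d := (Nat.card G).factorization p
    let X : Set G := {x | ¬ p ∣ orderOf x ∧ centExp p x = d}
    let K : Subgroup G := Subgroup.closure ((P : Subgroup G) ∪ X ∪ (commutator G : Set G))
    have hK : commutator G ≤ K := fun g hg => Subgroup.subset_closure (Or.inr hg)
    have : K.Normal := Subgroup.Normal.of_commutator_le G hK
    have hcardK : (L 1).card
        = Nat.card {χ : IrrCharacter G // (χ : G → ℂ) 1 = 1 ∧ ∀ g ∈ K, (χ : G → ℂ) g = 1} := by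
      rw [Nat.card_eq_fintype_card, Fintype.card_subtype]
      congr 1
      ext χ
      simp only [L, Finset.mem_filter, Set.mem_toFinset, Finset.mem_univ, true_and,
        MonoidHom.one_apply, Units.val_one]
      have hdef : ∀ ψ : IrrCharacter G, (ψ : G → ℂ) 1 = 1 →
          blockDefect p (blockOf M (ψ : G → ℂ)) = d := fun ψ h1 => by
        have h := blockDefect_add_min (p := p) (B := blockOf M (ψ : G → ℂ)) ⟨ψ, SameBlock_refl hM _⟩
        have h0 := minDegVal_le (p := p) (B := blockOf M (ψ : G → ℂ)) (SameBlock_refl hM _)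
        rw [degVal, (CfsgLib.DegreeTools.deg_eq_one_iff ψ).mpr h1, Nat.factorization_one] at h0
        simp only [Finsupp.coe_zero, Pi.zero_apply, nonpos_iff_eq_zero] at h0
        rw [h0, add_zero] at h
        exact h
      constructor
      · rintro ⟨hmem, h1, hP⟩
        obtain ⟨φ, hφ⟩ := CfsgLib.Char.exists_hom_of_apply_one_eq_one
          (CfsgLib.Char.isCharacter_irr χ) h1
        refine ⟨h1, fun g hg => ?_⟩
        have hker : K ≤ φ.ker := by
          refine (Subgroup.closure_le _).2 ?_
          rintro y ((hy | hy) | hy)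
          · exact Units.ext (by simpa [hφ] using hP ⟨y, hy⟩)
          · have h := (sameBlock_iff_defect hM (hdef (trivChar G) (trivChar_apply 1))
              (hdef χ h1)).1 hmem y hy.1 hy.2
            have hidx : ¬ MemLocalIdeal M ((Subgroup.centralizer ({y} : Set G)).index : ℂ) := by
              rw [LI.natCast_iff hM]
              intro hd
              have := index_factorization_add (p := p) y
              have := (Fact.out : p.Prime).factorization_pos_of_dvd
                Subgroup.index_ne_zero_of_finite hd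
              have := hy.2
              simp only [d] at this
              omega
            have h' : MemLocalIdeal M (((Subgroup.centralizer ({y} : Set G)).index : ℂ) *
                ((φ y : ℂ) - 1)) := by
              have := LI.sub_comm h
              simpa [centralChar, hφ, mul_sub] using this
            have hroot : (φ y : ℂ) ^ orderOf y = 1 := by
              rw [← Units.val_pow_eq_pow_val, ← map_pow, pow_orderOf_eq_one, map_one, Units.val_one]
            refine Units.ext (eq_one_of_congr hM hy.1 hroot ?_)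
            refine (LI.mem_or_mem hM (LR.natCast hM _) ?_ h').resolve_left hidx
            exact LR.sub hM (LR.of_isIntegral hM (IsIntegral.of_pow (orderOf_pos y)
              (hroot ▸ isIntegral_one))) (LR.one hM)
          · exact Abelianization.commutator_subset_ker φ hy
        rw [hφ]
        simp [MonoidHom.mem_ker.mp (hker hg)]
      · rintro ⟨h1, hg⟩
        refine ⟨?_, h1, fun x => hg _ (Subgroup.subset_closure (Or.inl (Or.inl x.2)))⟩
        refine (sameBlock_iff_defect hM (hdef (trivChar G) (trivChar_apply 1)) (hdef χ h1)).2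
          fun y hy hc => ?_
        have hy1 : (χ : G → ℂ) y = 1 := hg y (Subgroup.subset_closure (Or.inl (Or.inr ⟨hy, hc⟩)))
        simpa [centralChar, hy1, h1] using LI.zero hM
    have hnum : (L 1).card = K.index := by
      rw [hcardK]
      have e : {χ : IrrCharacter G // (χ : G → ℂ) 1 = 1 ∧ ∀ g ∈ K, (χ : G → ℂ) g = 1} ≃
          (G ⧸ K →* ℂˣ) :=
        Equiv.symm <| Equiv.ofBijective
          (fun φ => ⟨⟨_, CfsgLib.Char.isIrrCharacter_hom (φ.comp (QuotientGroup.mk' K))⟩, by simp,
            fun g hg => by simp [(QuotientGroup.eq_one_iff g).2 hg]⟩)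
          ⟨fun φ ψ h => QuotientGroup.monoidHom_ext K
            (CfsgLib.Char.coe_hom_injective (congrArg (fun x => (x.1 : G → ℂ)) h)), fun χ => by
            obtain ⟨φ, hφ⟩ := CfsgLib.Char.exists_hom_of_apply_one_eq_one
              (CfsgLib.Char.isCharacter_irr χ.1) χ.2.1
            refine ⟨QuotientGroup.lift K φ fun g hg => Units.ext (by
              simpa [hφ] using χ.2.2 g hg), Subtype.ext (Subtype.ext ?_)⟩
            funext g
            simp only [hφ, MonoidHom.comp_apply]
            rfl⟩
      have hcomm : IsMulCommutative (G ⧸ K) :=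
        Subgroup.Normal.quotient_commutative_iff_commutator_le.2 hK
      let : CommGroup (G ⧸ K) := { (inferInstance : Group (G ⧸ K)) with mul_comm := hcomm.1.1 }
      have : NeZero (Monoid.exponent (G ⧸ K) : ℂ) :=
        ⟨by exact_mod_cast Monoid.exponent_ne_zero_of_finite⟩
      rw [Nat.card_congr e, CommGroup.card_monoidHom_of_hasEnoughRootsOfUnity (G ⧸ K) ℂ]
      rfl
    rw [hnum]
    intro hd
    exact P.not_dvd_index (hd.trans (Subgroup.index_dvd_of_le
      fun x hx => Subgroup.subset_closure (Or.inl (Or.inl hx))))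
  have hne : (L μ).Nonempty := by
    rw [← Finset.card_pos]
    refine Nat.pos_of_ne_zero fun h0 => hL1 ?_
    rw [← ZMod.natCast_eq_zero_iff, ← hmod 1, ← hsum' μ, hmod μ, h0, Nat.cast_zero]
  obtain ⟨χ, hχ⟩ := hne
  simp only [L, Finset.mem_filter] at hχ
  obtain ⟨φ, hφ⟩ := CfsgLib.Char.exists_hom_of_apply_one_eq_one
    (CfsgLib.Char.isCharacter_irr χ) hχ.2.1
  exact ⟨φ, fun x => Units.ext (by simpa [hφ] using hχ.2.2 x)⟩

/-- Let G be a finite group, p a prime and M a maximal ideal of the algebraic integers containing p. Then all height-zero irreducible characters of the principal p-block of G (equivalently, all its characters of degree prime to p) have the same degree if and only if G has a normal p-complement. -/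
theorem result {G : Type*} [Group G] [Finite G] (p : ℕ) [Fact p.Prime] (M : Ideal Cfsg.AlgInt) (hM : Cfsg.IsPModular p M) : (∃ d : ℕ, ∀ χ : Cfsg.IrrCharacter G, χ ∈ (Cfsg.principalBlock M G) → Cfsg.blockHeight p (Cfsg.principalBlock M G) (χ : G → ℂ) = 0 → Cfsg.charDegree (χ : G → ℂ) = d) ↔ Cfsg.HasNormalPComplement p G := by
  have := Fintype.ofFinite G
  have hp : p.Prime := Fact.out
  have hh : ∀ χ : IrrCharacter G, χ ∈ principalBlock M G →
      (blockHeight p (principalBlock M G) (χ : G → ℂ) = 0 ↔ ¬ p ∣ charDegree (χ : G → ℂ)) := by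
    intro χ hχ
    rw [blockHeight_eq_zero_iff hχ, minDegVal_principalBlock hM, degVal,
      Nat.factorization_eq_zero_iff]
    have := CfsgLib.DegreeTools.deg_pos χ
    constructor
    · rintro (h | h | h) <;> first | exact absurd hp h | exact h | omega
    · exact fun h => Or.inr (Or.inl h)
  constructor
  · rintro ⟨d, hd⟩
    have hd1 : d = 1 := by
      have ht := trivChar_mem_principalBlock (G := G) hM
      have h1 : charDegree (trivChar G : G → ℂ) = 1 := by simp [charDegree]
      rw [← hd _ ht ((hh _ ht).2 (by rw [h1]; exact hp.not_dvd_one)), h1]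
    have hlin : ∀ χ : IrrCharacter G, χ ∈ principalBlock M G →
        ¬ p ∣ charDegree (χ : G → ℂ) → (χ : G → ℂ) 1 = 1 := fun χ hχ hn =>
      (CfsgLib.DegreeTools.deg_eq_one_iff χ).mp ((hd χ hχ ((hh χ hχ).2 hn)).trans hd1)
    obtain ⟨P⟩ := (inferInstance : Nonempty (Sylow p G))
    refine CfsgLib.Fusion.Tate.npc_of_inf_pResidual_le_frattini P ?_
    rintro x ⟨hxP, hxO⟩
    refine ⟨⟨x, hxP⟩, CfsgLib.PGroup.Kulakoff.commutator_le_frattini P.2 ?_, rfl⟩
    by_contra hc
    have hne : (Abelianization.of (⟨x, hxP⟩ : (P : Subgroup G))) ≠ 1 := fun h =>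
      hc ((QuotientGroup.eq_one_iff _).mp h)
    have : NeZero (Monoid.exponent (Abelianization (P : Subgroup G)) : ℂ) :=
      ⟨by exact_mod_cast Monoid.exponent_ne_zero_of_finite⟩
    obtain ⟨θ, hθ⟩ := CommGroup.exists_apply_ne_one_of_hasEnoughRootsOfUnity
      (Abelianization (P : Subgroup G)) ℂ hne
    obtain ⟨lam, hlam⟩ := exists_extension hM P hlin (θ.comp Abelianization.of)
    apply hθ
    show (θ.comp Abelianization.of) ⟨x, hxP⟩ = 1
    rw [← hlam]
    have hpow : ∀ y ∈ pResidual p G, (lam y) ^ ordCompl[p] (Nat.card G) = 1 := by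
      intro y hy
      have hle : pResidual p G ≤ ((powMonoidHom (ordCompl[p] (Nat.card G))).comp lam).ker := by
        refine (Subgroup.closure_le _).2 fun g hg => ?_
        show lam g ^ _ = 1
        rw [← map_pow]
        have hdvd : orderOf g ∣ ordCompl[p] (Nat.card G) := by
          refine Nat.Coprime.dvd_of_dvd_mul_left
            (Nat.Coprime.pow_right ((Nat.card G).factorization p) (show Nat.Coprime (orderOf g) p from hg)) ?_
          rw [Nat.ordProj_mul_ordCompl_eq_self]
          exact orderOf_dvd_natCard g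
        rw [orderOf_dvd_iff_pow_eq_one.mp hdvd, map_one]
      exact hle hy
    obtain ⟨k, hk⟩ := IsPGroup.iff_orderOf.mp P.2 ⟨x, hxP⟩
    have h1 : orderOf (lam x) ∣ p ^ k := by
      refine (orderOf_map_dvd lam x).trans ?_
      rw [← hk, ← Subgroup.orderOf_coe]
    have h2 : orderOf (lam x) ∣ ordCompl[p] (Nat.card G) :=
      orderOf_dvd_of_pow_eq_one (hpow x hxO)
    exact orderOf_eq_one_iff.mp (Nat.eq_one_of_dvd_coprimes
      (Nat.Coprime.pow_left k (Nat.coprime_ordCompl hp Nat.card_pos.ne')) h1 h2)
  · rintro ⟨P, N, hN, hc⟩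
    refine ⟨1, fun χ hχ h0 => ?_⟩
    have hnd := (hh χ hχ).1 h0
    have hidx : N.index = Nat.card (P : Subgroup G) := hc.symm.index_eq_card
    have hNp : ¬ p ∣ Nat.card N := by
      rw [← hc.index_eq_card]
      exact P.not_dvd_index
    obtain ⟨ψ, hψ, he⟩ := CfsgLib.Char.IsIrrCharacter.exists_deflate χ.2 N fun n hn =>
      CfsgLib.Involution.ZStar.apply_eq_one_of_mem hM hχ hN hNp hn
    have hdeg : charDegree (χ : G → ℂ) = charDegree ψ := by
      rw [he]; simp [charDegree]
    have hdvd : charDegree (χ : G → ℂ) ∣ N.index := by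
      rw [hdeg]
      exact CfsgLib.DegreeTools.deg_dvd_card (⟨ψ, hψ⟩ : IrrCharacter (G ⧸ N))
    obtain ⟨k, hk⟩ := P.2.exists_card_eq
    rw [hidx, hk] at hdvd
    obtain ⟨j, -, hj⟩ := (Nat.dvd_prime_pow hp).1 hdvd
    rcases j with _ | j
    · simpa using hj
    · exact absurd (hj ▸ dvd_pow_self p (Nat.succ_ne_zero j)) hnd

end Cfsg.Agent.S4888
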