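import Cfsg.Statements.S4889
import Cfsg.Agent.Lib.Blocks.EqualDegree.Main

set_option autoImplicit false
open Cfsg

namespace Cfsg.Agent.S4889

/-- Let G be a finite group, p a prime, M a maximal ideal of the algebraic integers containing p, and B a p-block of G that has an abelian defect group and in which every irreducible character has height zero. Then all irreducible characters of B have the same degree if and only if B is a nilpotent block. -/
theorem result {G : Type*} [Group G] [Finite G] (p : ℕ) [Fact p.Prime] (M : Ideal Cfsg.AlgInt) (hM : Cfsg.IsPModular p M) (B : Set (Cfsg.IrrCharacter G)) (hB : Cfsg.IsPBlock M B) (D : Subgroup G) (hD : Cfsg.IsDefectGroup p M B D) (hDab : IsMulCommutative ↥D) (h0 : ∀ χ : Cfsg.IrrCharacter G, χ ∈ B → Cfsg.blockHeight p B (χ : G → ℂ) = 0) : (∃ d : ℕ, ∀ χ : Cfsg.IrrCharacter G, χ ∈ B → Cfsg.charDegree (χ : G → ℂ) = d) ↔ Cfsg.IsNilpotentBlock p M B := by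
  haveI := Fintype.ofFinite G
  open CfsgLib.Blocks CfsgLib.BrauerPairs CfsgLib.Blocks.EqualDegree in
  obtain ⟨e, he⟩ := exists_pair_of_defectGroup hM hB hD
  have hmax := CfsgLib.BrauerPairs.isMaximal_of_defectGroup hM hD he
  have hab : ∀ x ∈ D, ∀ y ∈ D, x * y = y * x := fun x hx y hy =>
    congrArg Subtype.val (hDab.is_comm.comm (⟨x, hx⟩ : D) ⟨y, hy⟩)
  refine ⟨fun ⟨d, hd⟩ => ?_, fun hnil =>
    CfsgLib.Blocks.EqualDegree.exists_deg_of_nilpotent hM hnil hmax hab⟩
  exact CfsgLib.Blocks.EqualDegree.isNilpotent_of_eqDeg hM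
    ⟨hB, hd, fun χ hχ => (CfsgLib.Blocks.blockHeight_eq_zero_iff hχ).1 (h0 χ hχ)⟩ hmax hab

end Cfsg.Agent.S4889
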