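import Cfsg.Statements.S4892
import Cfsg.Agent.Lib.Blocks.PRatExtend.Main
-- import your own Cfsg.Agent.* helpers here

set_option autoImplicit false
open Cfsg

namespace Cfsg.Agent.S4892

/-- Let p be an odd prime, M a maximal ideal of the algebraic integers containing p, N a normal subgroup of the finite group G, and θ an irreducible character of N that is G-invariant, of degree prime to p, p-rational (values in the field generated over ℚ by a root of unity of order prime to p) and lies in the principal p-block of N. Let Q be a Sylow p-subgroup of N and suppose the index of N·C_G(Q) in G is a power of p. Then θ extends to a p-rational irreducible character of G lying in the principal p-block of G. -/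
theorem result {G : Type*} [Group G] [Finite G] (p : ℕ) [Fact p.Prime] (hp : p ≠ 2) (M : Ideal Cfsg.AlgInt) (hM : Cfsg.IsPModular p M) (N : Subgroup G) [N.Normal] (θ : Cfsg.IrrCharacter ↥N) (hinv : ∀ g : G, ∀ n n' : ↥N, (n' : G) = g * (n : G) * g⁻¹ → (θ : ↥N → ℂ) n' = (θ : ↥N → ℂ) n) (hdeg : ¬ p ∣ Cfsg.charDegree (θ : ↥N → ℂ)) (hrat : ∃ m : ℕ, ¬ p ∣ m ∧ ∀ n : ↥N, (θ : ↥N → ℂ) n ∈ IntermediateField.adjoin ℚ ({Complex.exp (2 * Real.pi * Complex.I / m)} : Set ℂ)) (hB : θ ∈ Cfsg.principalBlock M ↥N) (Q : Sylow p ↥N) (hidx : ∃ a : ℕ, (N ⊔ Subgroup.centralizer (((Q : Subgroup ↥N).map N.subtype : Subgroup G) : Set G)).index = p ^ a) : ∃ χ : Cfsg.IrrCharacter G, χ ∈ (Cfsg.principalBlock M G) ∧ (∃ n : ℕ, ¬ p ∣ n ∧ ∀ g : G, (χ : G → ℂ) g ∈ IntermediateField.adjoin ℚ ({Complex.exp (2 * Real.pi * Complex.I / n)} : Set ℂ)) ∧ ∀ n : ↥N, (χ : G → ℂ) n = (θ : ↥N → ℂ) n := by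
  classical
  cases nonempty_fintype G
  obtain ⟨m, hm, hm'⟩ := hrat
  obtain ⟨a, ha⟩ := hidx
  set Q₀ : Subgroup G := (Q : Subgroup ↥N).map N.subtype with hQ₀
  have hQN : Q₀ ≤ N := Subgroup.map_subtype_le _
  have hQi : ¬ p ∣ Q₀.relIndex N := by
    rw [show Q₀.relIndex N = (Q₀.subgroupOf N).index from rfl, hQ₀,
      show ((Q : Subgroup ↥N).map N.subtype).subgroupOf N = (Q : Subgroup ↥N) from
        Subgroup.comap_map_eq_self_of_injective N.subtype_injective _]
    exact Q.not_dvd_index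
  have hLn : (N ⊔ Subgroup.centralizer (Q₀ : Set G)).Normal := by
    refine Subgroup.normalizer_eq_top_iff.mp (eq_top_iff.2 ?_)
    rw [← Sylow.normalizer_sup_eq_top Q, sup_le_iff]
    refine ⟨?_, le_sup_left.trans Subgroup.le_normalizer⟩
    intro g hg
    rw [Subgroup.mem_normalizer_iff]
    have hC : ∀ h : G, h ∈ Subgroup.centralizer (Q₀ : Set G) ↔
        g * h * g⁻¹ ∈ Subgroup.centralizer (Q₀ : Set G) := by
      intro h
      simp only [Subgroup.mem_centralizer_iff]
      constructor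
      · intro hh q hq
        have h1 : g⁻¹ * q * g ∈ (Q₀ : Set G) := by
          rw [SetLike.mem_coe, Subgroup.mem_normalizer_iff.1 hg,
            show g * (g⁻¹ * q * g) * g⁻¹ = q by group]
          exact hq
        calc q * (g * h * g⁻¹) = g * (g⁻¹ * q * g * h) * g⁻¹ := by group
          _ = g * (h * (g⁻¹ * q * g)) * g⁻¹ := by rw [hh _ h1]
          _ = g * h * g⁻¹ * q := by group
      · intro hh q hq
        have h1 : g * q * g⁻¹ ∈ (Q₀ : Set G) := (Subgroup.mem_normalizer_iff.1 hg q).1 hq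
        calc q * h = g⁻¹ * (g * q * g⁻¹ * (g * h * g⁻¹)) * g := by group
          _ = g⁻¹ * (g * h * g⁻¹ * (g * q * g⁻¹)) * g := by rw [hh _ h1]
          _ = h * q := by group
    intro h
    constructor
    · intro hh
      obtain ⟨n, hn, c, hc, rfl⟩ := Subgroup.mem_sup_of_normal_left.1 hh
      rw [show g * (n * c) * g⁻¹ = (g * n * g⁻¹) * (g * c * g⁻¹) by group]
      exact mul_mem (Subgroup.mem_sup_left ((inferInstance : N.Normal).conj_mem n hn g))
        (Subgroup.mem_sup_right ((hC c).1 hc))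
    · intro hh
      obtain ⟨n, hn, c, hc, hnc⟩ := Subgroup.mem_sup_of_normal_left.1 hh
      rw [show h = (g⁻¹ * n * g) * (g⁻¹ * c * g) by
        rw [show (g⁻¹ * n * g) * (g⁻¹ * c * g) = g⁻¹ * (n * c) * g by group, hnc]; group]
      exact mul_mem
        (Subgroup.mem_sup_left (by simpa using (inferInstance : N.Normal).conj_mem n hn g⁻¹))
        (Subgroup.mem_sup_right ((hC _).2 (by simpa [mul_assoc] using hc)))
  exact CfsgLib.Blocks.PRatExtend.exists_pRational_extension hp hM hQN hQi ha hLn hB hinv hdeg hm hm'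

end Cfsg.Agent.S4892
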