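import Cfsg.Statements.S4903
import Cfsg.Agent.Lib.Char.FeitDegree.Sixteen.Main

set_option autoImplicit false
open Cfsg

namespace Cfsg.Agent.S4903

/-- Let G be a finite group with a faithful irreducible complex character of degree 16, p a prime with p ≥ 19, and P a Sylow p-subgroup of G. Then P is normal in G, or p = 31 and the quotient of G by its centre is isomorphic to PSL(2,31). -/
theorem result {G : Type*} [Group G] [Finite G] (χ : Cfsg.IrrCharacter G) (hdeg : Cfsg.charDegree (χ : G → ℂ) = 16) (hfaith : ∀ g : G, (χ : G → ℂ) g = (χ : G → ℂ) 1 → g = 1) (p : ℕ) [Fact p.Prime] (hp : 19 ≤ p) (P : Sylow p G) : (P : Subgroup G).Normal ∨ (p = 31 ∧ Nonempty (G ⧸ Subgroup.center G ≃* Matrix.ProjectiveSpecialLinearGroup (Fin 2) (ZMod 31))) := by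
  classical
  letI := Fintype.ofFinite G
  exact CfsgLib.Char.FeitDegree.Sixteen.main hp χ hfaith hdeg P

end Cfsg.Agent.S4903
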