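import Cfsg.Statements.S4911
import Cfsg.Agent.Lib.CharDeep.Glauberman.RealCorr

set_option autoImplicit false
open Cfsg

namespace Cfsg.Agent.S4911

/-- Let P and K be subgroups of a finite group with P a p-group normalizing K and K of order prime to p. Then the number of P-invariant real-valued irreducible complex characters of K equals the number of conjugacy classes of K that are real (closed under inversion) and P-invariant. Moreover, if every real-valued irreducible character of K is P-invariant, then every real element of K (one conjugate in K to its inverse) is conjugate in K to an element centralized by P. -/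
theorem result {G : Type*} [Group G] [Finite G] (p : ℕ) [Fact p.Prime] (P K : Subgroup G) (hP : IsPGroup p ↥P) (hK : ¬ p ∣ Nat.card ↥K) (hPK : P ≤ Subgroup.normalizer (K : Set G)) : Nat.card {θ : Cfsg.IrrCharacter ↥K // (∀ k : ↥K, ((θ : ↥K → ℂ) k).im = 0) ∧ (∀ x ∈ P, ∀ k k' : ↥K, (k' : G) = x * (k : G) * x⁻¹ → (θ : ↥K → ℂ) k' = (θ : ↥K → ℂ) k)} = Nat.card {c : ConjClasses ↥K // (∀ k : ↥K, ConjClasses.mk k = c → IsConj k k⁻¹) ∧ ∀ k : ↥K, ConjClasses.mk k = c → ∀ x ∈ P, ∀ k' : ↥K, (k' : G) = x * (k : G) * x⁻¹ → ConjClasses.mk k' = c} ∧ ((∀ θ : Cfsg.IrrCharacter ↥K, (∀ k : ↥K, ((θ : ↥K → ℂ) k).im = 0) → (∀ x ∈ P, ∀ k k' : ↥K, (k' : G) = x * (k : G) * x⁻¹ → (θ : ↥K → ℂ) k' = (θ : ↥K → ℂ) k)) → ∀ k : ↥K, IsConj k k⁻¹ → ∃ k' : ↥K, IsConj k k' ∧ ∀ x ∈ P, x * (k' : G) * x⁻¹ = (k' : G)) := by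
  haveI := Fintype.ofFinite G
  classical
  have hnorm : ∀ s ∈ P, ∀ g ∈ K, s * g * s⁻¹ ∈ K := fun s hs g hg =>
    (Subgroup.mem_normalizer_iff.1 (hPK hs) g).1 hg
  set φ := CfsgLib.CharDeep.Glauberman.subAct hnorm with hφ
  let C : Subgroup K :=
    { carrier := {k | ∀ s, φ s k = k}
      one_mem' := fun s => map_one _
      mul_mem' := fun ha hb s => by rw [map_mul, ha s, hb s]
      inv_mem' := fun ha s => by rw [map_inv, ha s] }
  have hs : CfsgLib.CharDeep.Glauberman.Setup p φ C.subtype :=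
    ⟨Fact.out, hP, C.subtype_injective, fun g => ⟨fun h => ⟨⟨g, h⟩, rfl⟩, by
      rintro ⟨c, rfl⟩; exact c.2⟩, hK⟩
  refine ⟨?_, fun hall k hk => ?_⟩
  · refine Eq.trans (Eq.trans (Nat.card_congr (Equiv.subtypeEquivRight fun θ => ?_))
      hs.card_real_inv) (Nat.card_congr (Equiv.subtypeEquivRight fun c => ?_))
    · exact and_congr_right fun _ => (CfsgLib.CharDeep.Glauberman.inv_iff hnorm _).symm
    · refine and_congr Iff.rfl ⟨fun h k hk x hx k' he => ?_, fun h s g hg => ?_⟩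
      · rw [show k' = φ ⟨x, hx⟩ k from Subtype.ext
          (he.trans (CfsgLib.CharDeep.Glauberman.subAct_apply hnorm ⟨x, hx⟩ k).symm)]
        exact h _ k hk
      · exact h g hg s s.2 _ (CfsgLib.CharDeep.Glauberman.subAct_apply hnorm s g)
  · obtain ⟨z, hz⟩ := hs.exists_fixed_of_real
      (fun θ h => (CfsgLib.CharDeep.Glauberman.inv_iff hnorm _).2 (hall θ h)) hk
    refine ⟨z.1, hz, fun x hx => ?_⟩
    rw [← CfsgLib.CharDeep.Glauberman.subAct_apply hnorm ⟨x, hx⟩ (z : K), ← hφ, z.2]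

end Cfsg.Agent.S4911
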