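import Cfsg.Statements.S4912
import Cfsg.Agent.Lib.DegreeTools.ExtendTwist
import Cfsg.Agent.Lib.DegreeTools.IndicatorMult

set_option autoImplicit false
open Cfsg

namespace Cfsg.Agent.S4912

open CfsgLib.Char CfsgLib.DegreeTools CfsgLib.DegreeTools.ExtendTwist
open scoped Classical ComplexConjugate

/-- Indicator one forces real values. -/
theorem real_of_indicator {K : Type*} [Group K] [Fintype K] {χ : K → ℂ} (hχ : IsIrrCharacter K χ)
    (h1 : (Nat.card K : ℂ)⁻¹ * ∑ g, χ (g * g) = 1) (g : K) : (χ g).im = 0 := by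
  obtain ⟨d, ρ, hρ, he⟩ := hχ
  have := hρ
  have h := (frobeniusSchur ρ).2
  simp only [he, h1, one_ne_zero, false_iff, not_exists, not_not] at h
  exact h g

/-- Let G be a finite group with a non-abelian minimal normal subgroup N, and let φ be an irreducible complex character of N with stabilizer I in G such that φ extends to an irreducible character of I with Frobenius–Schur indicator +1. Put d = φ(1)·[G : I]. Then the number of linear characters of G with Frobenius–Schur indicator +1 is at most [G : I] times the number of irreducible characters of G of degree d with Frobenius–Schur indicator +1. -/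
theorem result {G : Type*} [Group G] [Finite G] (N : Subgroup G) (hN : N.Normal) (hN1 : N ≠ ⊥) (hmin : ∀ M : Subgroup G, M.Normal → M ≤ N → M = ⊥ ∨ M = N) (hna : ¬ IsMulCommutative ↥N) (φ : Cfsg.IrrCharacter ↥N) (I : Subgroup G) (hI : ∀ g : G, g ∈ I ↔ ∀ n n' : ↥N, (n' : G) = g * (n : G) * g⁻¹ → (φ : ↥N → ℂ) n' = (φ : ↥N → ℂ) n) (hNI : N ≤ I) (hext : ∃ ψ : Cfsg.IrrCharacter ↥I, (Nat.card ↥I : ℂ)⁻¹ * ∑ᶠ g : ↥I, (ψ : ↥I → ℂ) (g * g) = 1 ∧ ∀ n : ↥N, (ψ : ↥I → ℂ) (Subgroup.inclusion hNI n) = (φ : ↥N → ℂ) n) : Nat.card {χ : Cfsg.IrrCharacter G // Cfsg.charDegree (χ : G → ℂ) = 1 ∧ (Nat.card G : ℂ)⁻¹ * ∑ᶠ g : G, (χ : G → ℂ) (g * g) = 1} ≤ I.index * Nat.card {χ : Cfsg.IrrCharacter G // Cfsg.charDegree (χ : G → ℂ) = Cfsg.charDegree (φ : ↥N → ℂ) * I.index ∧ (Nat.card G : ℂ)⁻¹ * ∑ᶠ g : G, (χ : G → ℂ) (g * g) = 1} := by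
  have := Fintype.ofFinite G
  simp only [finsum_eq_sum_of_fintype] at hext ⊢
  obtain ⟨ψ, hν, hψ⟩ := hext
  have hψr := real_of_indicator ψ.2 hν
  have hT : IsInertia (φ : N → ℂ) I := fun g => (hI g).trans
    ⟨fun h n => h n _ rfl, fun h n n' e => (congrArg _ (Subtype.ext e)).trans (h n)⟩
  let Q : IrrCharacter G → Prop := fun χ =>
    (Nat.card G : ℂ)⁻¹ * ∑ g : G, (χ : G → ℂ) (g * g) = 1
  have h := card_le (le_commutator_of_minimal hmin hna) hNI φ.2 hT ψ.2 (funext hψ) Q
    (Finset.univ.filter fun χ : IrrCharacter G => (χ : G → ℂ) 1 = 1 ∧ Q χ)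
    (fun χ hχ => (Finset.mem_filter.1 hχ).2.1) (fun χ lam hlam he => ?_)
  swap
  · obtain ⟨h1, hQ⟩ := (Finset.mem_filter.1 hlam).2
    obtain ⟨f, hf⟩ := exists_hom_of_apply_one_eq_one (isCharacter_irr lam) h1
    have hsq : ∀ g, (f g : ℂ) * f g = 1 := by
      have hcast : ∀ g : G, ((f * f) g : ℂ) = (lam : G → ℂ) (g * g) := fun g => by
        rw [hf]
        show ((f g * f g : ℂˣ) : ℂ) = (f (g * g) : ℂ)
        rw [map_mul]
      by_contra hne
      have h2 : (⟨_, isIrrCharacter_hom (f * f)⟩ : IrrCharacter G) ≠ oneChar G := by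
        intro he'
        apply hne
        intro g
        have := congrFun (congrArg Subtype.val he') g
        simpa using this
      have h3 := sum_eq_zero _ h2
      change ∑ g : G, ((f * f) g : ℂ) = 0 at h3
      simp only [hcast] at h3
      simp only [Q, h3, mul_zero, zero_ne_one] at hQ
    set θ : I → ℂ := (ψ : I → ℂ) * fun i : I => (lam : G → ℂ) i with hθdef
    have hθ : IsIrrCharacter I θ := by
      have := IsIrrCharacter.mul_hom ψ.2 (f.comp I.subtype)
      rw [hθdef, hf]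
      exact this
    have hθr : ∀ i, (θ i).im = 0 := fun i => by
      show ((ψ : I → ℂ) i * (lam : G → ℂ) i).im = 0
      rw [hf]
      rcases mul_self_eq_one_iff.1 (hsq i) with e | e <;> simp [e, hψr i]
    have hθν : (Nat.card I : ℂ)⁻¹ * ∑ i, θ (i * i) = 1 := by
      rw [← hν]
      congr 1
      refine Finset.sum_congr rfl fun i _ => ?_
      show (ψ : I → ℂ) (i * i) * (lam : G → ℂ) ((i * i : I) : G) = _
      rw [hf]
      simp [hsq]
    have hχr : ∀ g, ((χ : G → ℂ) g).im = 0 := fun g => by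
      rw [← Complex.conj_eq_iff_im, he, indFun_def, map_mul, map_inv₀, map_natCast, map_sum]
      congr 1
      refine Finset.sum_congr rfl fun x _ => ?_
      by_cases hx : x⁻¹ * g * x ∈ I
      · rw [extendByZero_apply_mem I _ hx, Complex.conj_eq_iff_im.2 (hθr _)]
      · rw [extendByZero_apply_notMem I _ hx, map_zero]
    have hone : Cfsg.classInner (fun i : I => (χ : G → ℂ) i) θ = 1 := by
      rw [IsCharacter.classInner_comm (IsCharacter.restrict (isCharacter_irr χ) I)
        (IsIrrCharacter.isCharacter hθ),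
        ← classInner_indFun I θ (IsIrrCharacter.isClassFunction χ.2), ← he,
        classInner_irr_self χ.2]
    show (Nat.card G : ℂ)⁻¹ * ∑ g : G, (χ : G → ℂ) (g * g) = 1
    rw [IndicatorMult.indicator_eq I χ.2 hθ hχr hθr hone, hθν]
  rw [← Fintype.card_subtype, ← Nat.card_eq_fintype_card] at h
  rw [Nat.card_congr (Equiv.subtypeEquivRight fun χ : IrrCharacter G =>
    and_congr_left' (deg_eq_one_iff χ))]
  refine h.trans (Nat.mul_le_mul_left _ (le_of_eq (Nat.card_congr
    (Equiv.subtypeEquivRight fun χ : IrrCharacter G => and_congr_left' ?_))))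
  rw [← deg_cast, ← deg_cast, ← Nat.cast_mul, Nat.cast_inj, mul_comm]

end Cfsg.Agent.S4912
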