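import Cfsg.Statements.S4914
import Cfsg.Agent.Lib.CharDeep.Glauberman.NormalSylow
import Cfsg.Agent.Lib.CharDeep.Glauberman.Subgroups
import Cfsg.Agent.Lib.DegreeTools.Basic
-- import your own Cfsg.Agent.* helpers here

set_option autoImplicit false
open Cfsg 

namespace Cfsg.Agent.S4914

/-- Let P and K be subgroups of a finite group G with P a p-group normalizing K, and suppose K has a normal Sylow p-subgroup Q. Let C be the subgroup of those k ∈ K whose commutator with every element of P lies in Q (so that C/Q is the fixed-point subgroup of P on K/Q). Then there is a bijection f from the P-invariant irreducible complex characters of K onto the P-invariant irreducible complex characters of C such that, for every P-invariant irreducible character χ of K, the multiplicity of f(χ) in the restriction of χ to C is a natural number congruent to 1 or to −1 modulo p, every other P-invariant irreducible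 character of C occurs in that restriction with multiplicity divisible by p, and the degrees of χ and f(χ) are congruent modulo p up to sign. -/
theorem result {G : Type*} [Group G] [Finite G] (p : ℕ) [Fact p.Prime] (P K Q C : Subgroup G) (hP : IsPGroup p ↥P) (hPK : P ≤ Subgroup.normalizer (K : Set G)) (hQK : Q ≤ K) (hQn : ∀ k ∈ K, ∀ q ∈ Q, k * q * k⁻¹ ∈ Q) (hQp : ∃ a : ℕ, Nat.card ↥Q = p ^ a) (hQsyl : ¬ p ∣ Q.relIndex K) (hCK : C ≤ K) (hC : ∀ k : G, k ∈ C ↔ (k ∈ K ∧ ∀ x ∈ P, x * k * x⁻¹ * k⁻¹ ∈ Q)) : ∃ f : {χ : Cfsg.IrrCharacter ↥K // (∀ x ∈ P, ∀ k k' : ↥K, (k' : G) = x * (k : G) * x⁻¹ → (χ : ↥K → ℂ) k' = (χ : ↥K → ℂ) k)} → {ξ : Cfsg.IrrCharacter ↥C // (∀ x ∈ P, ∀ k k' : ↥C, (k' : G) = x * (k : G) * x⁻¹ → (ξ : ↥C → ℂ) k' = (ξ : ↥C → ℂ) k)}, Function.Bijective f ∧ ∀ χ, (∀ ξ : {ξ : Cfsg.IrrCharacter ↥C // (∀ x ∈ P, ∀ k k' : ↥C, (k' : G) = x * (k : G) * x⁻¹ → (ξ : ↥C → ℂ) k' = (ξ : ↥C → ℂ) k)}, ∃ m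 : ℕ, (Nat.card ↥C : ℂ)⁻¹ * ∑ᶠ c : ↥C, (χ.1 : ↥K → ℂ) (Subgroup.inclusion hCK c) * (starRingEnd ℂ) ((ξ.1 : ↥C → ℂ) c) = (m : ℂ) ∧ (ξ = f χ → ((m : ZMod p) = 1 ∨ (m : ZMod p) = -1)) ∧ (ξ ≠ f χ → p ∣ m)) ∧ ((Cfsg.charDegree ((f χ).1 : ↥C → ℂ) : ZMod p) = (Cfsg.charDegree (χ.1 : ↥K → ℂ) : ZMod p) ∨ (Cfsg.charDegree ((f χ).1 : ↥C → ℂ) : ZMod p) = -(Cfsg.charDegree (χ.1 : ↥K → ℂ) : ZMod p)) := by
  classical
  haveI := Fintype.ofFinite G
  haveI : Fintype K := Fintype.ofFinite _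
  have hnorm : ∀ s ∈ P, ∀ g ∈ K, s * g * s⁻¹ ∈ K := fun s hs g hg =>
    (Subgroup.mem_normalizer_iff.1 (hPK hs) g).1 hg
  set φ := CfsgLib.CharDeep.Glauberman.subAct hnorm with hφ
  set Qk : Subgroup K := Q.subgroupOf K with hQk
  set Ck : Subgroup K := C.subgroupOf K with hCk
  haveI : Fintype Qk := Fintype.ofFinite _
  haveI : Fintype Ck := Fintype.ofFinite _
  haveI : Fintype (Qk.subgroupOf Ck) := Fintype.ofFinite _
  haveI : Fintype C := Fintype.ofFinite _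
  haveI : Qk.Normal := ⟨fun n hn g => Subgroup.mem_subgroupOf.mpr (by
    simpa using hQn g g.2 n (Subgroup.mem_subgroupOf.mp hn))⟩
  obtain ⟨a, ha⟩ := hQp
  have hQsub : Nat.card Qk = p ^ a := by
    rw [Nat.card_congr (Subgroup.subgroupOfEquivOfLe hQK).toEquiv, ha]
  have hQinv : ∀ s, ∀ q ∈ Qk, φ s q ∈ Qk := by
    intro s q hq
    have hq' : (q : G) ∈ Q := Subgroup.mem_subgroupOf.mp hq
    -- `Q` is the only Sylow subgroup of `K`
    have hS : ¬ p ∣ Qk.index := hQsyl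
    obtain ⟨b, hb⟩ := (Nat.dvd_prime_pow (Fact.out : p.Prime)).mp
      ((orderOf_dvd_natCard (⟨q, hq⟩ : Qk)).trans hQsub.dvd)
    have ho : orderOf (φ s q : K) = p ^ b := by
      rw [show (φ s q : K) = (φ s).toMonoidHom q from rfl,
        orderOf_injective (φ s).toMonoidHom (φ s).injective q, ← hb.2]
      exact (Subgroup.orderOf_mk q hq).symm
    haveI : Finite (K ⧸ Qk) := inferInstance
    rw [← QuotientGroup.eq_one_iff, ← orderOf_eq_one_iff]
    refine Nat.eq_one_of_dvd_coprimes (Nat.Coprime.pow_left b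
      ((Fact.out : p.Prime).coprime_iff_not_dvd.mpr hS))
      (ho ▸ orderOf_map_dvd (QuotientGroup.mk' Qk) (φ s q)) ?_
    rw [Subgroup.index_eq_card]
    exact orderOf_dvd_natCard _
  have hs : CfsgLib.CharDeep.Glauberman.NSetup p φ Qk Ck :=
    { prime := Fact.out
      pgroup := hP
      qgroup := IsPGroup.of_card hQsub
      qinv := hQinv
      not_dvd := hQsyl
      mem_iff := fun k => by
        rw [hCk, Subgroup.mem_subgroupOf, hC]
        simp only [hQk, Subgroup.mem_subgroupOf, Subgroup.coe_mul, Subgroup.coe_inv]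
        exact ⟨fun h s => by
          rw [CfsgLib.CharDeep.Glauberman.subAct_apply hnorm s k]
          exact h.2 s s.2, fun h => ⟨k.2, fun x hx => by
          have := h ⟨x, hx⟩
          rwa [CfsgLib.CharDeep.Glauberman.subAct_apply hnorm ⟨x, hx⟩ k] at this⟩⟩ }
  let e : Ck ≃* C := Subgroup.subgroupOfEquivOfLe hCK
  have hχinv : ∀ χ : K → ℂ, CfsgLib.CharDeep.Glauberman.Inv φ χ ↔
      ∀ x ∈ P, ∀ k k' : K, (k' : G) = x * (k : G) * x⁻¹ → χ k' = χ k :=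
    CfsgLib.CharDeep.Glauberman.inv_iff hnorm
  let down : Cfsg.IrrCharacter C → Cfsg.IrrCharacter Ck := fun ξ =>
    ⟨(ξ : C → ℂ) ∘ e, CfsgLib.Char.IsIrrCharacter.comp_equiv ξ.2 e⟩
  let up : Cfsg.IrrCharacter Ck → Cfsg.IrrCharacter C := fun ξ =>
    ⟨(ξ : Ck → ℂ) ∘ e.symm, CfsgLib.Char.IsIrrCharacter.comp_equiv ξ.2 e.symm⟩
  have hdu : ∀ ξ, down (up ξ) = ξ := fun ξ => Subtype.ext (funext fun x => by
    show (ξ : Ck → ℂ) (e.symm (e x)) = _
    rw [MulEquiv.symm_apply_apply])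
  have hud : ∀ ξ, up (down ξ) = ξ := fun ξ => Subtype.ext (funext fun x => by
    show (ξ : C → ℂ) (e (e.symm x)) = _
    rw [MulEquiv.apply_symm_apply])
  have hact : ∀ (s : P) (c : Ck), ((e (hs.actC s c) : C) : G) = s * ((e c : C) : G) * (s : G)⁻¹ :=
    fun s c => CfsgLib.CharDeep.Glauberman.subAct_apply hnorm s (c : K)
  have hξinv : ∀ ξ : Cfsg.IrrCharacter C,
      (∀ x ∈ P, ∀ k k' : C, (k' : G) = x * (k : G) * x⁻¹ → (ξ : C → ℂ) k' = (ξ : C → ℂ) k) ↔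
      CfsgLib.CharDeep.Glauberman.Inv hs.actC (down ξ : Ck → ℂ) := by
    intro ξ
    refine ⟨fun h s c => h s s.2 (e c) (e (hs.actC s c)) (hact s c), fun h x hx k k' he => ?_⟩
    have h1 := h ⟨x, hx⟩ (e.symm k)
    rw [show k' = e (hs.actC ⟨x, hx⟩ (e.symm k)) from
      Subtype.ext (by rw [he, hact, MulEquiv.apply_symm_apply])]
    refine h1.trans ?_
    show (ξ : C → ℂ) (e (e.symm k)) = _
    rw [MulEquiv.apply_symm_apply]
  have hmult : ∀ (χ : Cfsg.IrrCharacter K) (ξ : Cfsg.IrrCharacter C),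
      (Nat.card C : ℂ)⁻¹ * ∑ᶠ c : C, (χ : K → ℂ) (Subgroup.inclusion hCK c) *
        (starRingEnd ℂ) ((ξ : C → ℂ) c) =
      (CfsgLib.CharDeep.Glauberman.mult Ck.subtype χ (down ξ) : ℂ) := by
    intro χ ξ
    rw [← CfsgLib.CharDeep.Glauberman.mult_spec,
      show ((χ : K → ℂ) ∘ Ck.subtype) = ((χ : K → ℂ) ∘ Subgroup.inclusion hCK) ∘ e from
        funext fun c => congrArg (χ : K → ℂ) (Subtype.ext rfl),
      show (down ξ : Ck → ℂ) = (ξ : C → ℂ) ∘ e from rfl, CfsgLib.Char.classInner_reindex e,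
      Cfsg.classInner, finsum_eq_sum_of_fintype]
    rfl
  choose F hF using fun χ : {χ : Cfsg.IrrCharacter ↥K // (∀ x ∈ P, ∀ k k' : ↥K, (k' : G) = x * (k : G) * x⁻¹ →
      (χ : ↥K → ℂ) k' = (χ : ↥K → ℂ) k)} => hs.forward χ.1 ((hχinv _).mpr χ.2)
  let f : {χ : Cfsg.IrrCharacter ↥K // (∀ x ∈ P, ∀ k k' : ↥K, (k' : G) = x * (k : G) * x⁻¹ →
      (χ : ↥K → ℂ) k' = (χ : ↥K → ℂ) k)} → {ξ : Cfsg.IrrCharacter ↥C // (∀ x ∈ P, ∀ k k' : ↥C,
      (k' : G) = x * (k : G) * x⁻¹ → (ξ : ↥C → ℂ) k' = (ξ : ↥C → ℂ) k)} := fun χ =>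
    ⟨up (F χ), (hξinv _).mpr (by rw [hdu]; exact (hF χ).1)⟩
  refine ⟨f, ⟨fun a b hab => ?_, fun ξ => ?_⟩, fun χ => ⟨fun ξ => ⟨_, hmult χ.1 ξ.1, ?_, ?_⟩, ?_⟩⟩
  · have h : F a = F b := by
      have h0 := congrArg (fun z : {ξ : Cfsg.IrrCharacter ↥C // _} => down z.1) hab
      simpa only [f, hdu] using h0
    obtain ⟨χ₀, -, -, hu⟩ := hs.backward (F a) (hF a).1
    exact Subtype.ext ((hu a.1 ((hχinv _).mpr a.2) (hF a).2.1).trans
      (hu b.1 ((hχinv _).mpr b.2) (h ▸ (hF b).2.1)).symm)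
  · obtain ⟨χ, hχ, hp', -⟩ := hs.backward (down ξ.1) ((hξinv _).mp ξ.2)
    refine ⟨⟨χ, (hχinv _).mp hχ⟩, Subtype.ext ?_⟩
    show up (F _) = ξ.1
    rw [← (hF ⟨χ, (hχinv _).mp hχ⟩).2.2.2 (down ξ.1) ((hξinv _).mp ξ.2) hp', hud]
  · rintro rfl
    show ((CfsgLib.CharDeep.Glauberman.mult Ck.subtype χ.1 (down (up (F χ))) : ℕ) : ZMod p) = 1 ∨ _
    rw [hdu]
    rcases (hF χ).2.2.1 with h | h
    · left
      simpa using (ZMod.intCast_eq_intCast_iff _ _ p).mpr h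
    · right
      simpa [down, up, f, hdu] using (ZMod.intCast_eq_intCast_iff _ _ p).mpr h
  · intro hne
    by_contra hp'
    refine hne (Subtype.ext ?_)
    show ξ.1 = up (F χ)
    rw [← (hF χ).2.2.2 (down ξ.1) ((hξinv _).mp ξ.2) hp', hud]
  · have hcong := hs.degree_cong ((hχinv _).mpr χ.2) (hF χ).1 fun ξ' hξ' hne => by
      by_contra hp'
      exact hne ((hF χ).2.2.2 ξ' hξ' hp')
    have h1 : (χ.1 : K → ℂ) 1 = (Cfsg.charDegree (χ.1 : K → ℂ) : ℂ) :=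
      (CfsgLib.DegreeTools.deg_cast χ.1).symm
    have h2 : (F χ : Ck → ℂ) 1 = (Cfsg.charDegree ((f χ).1 : C → ℂ) : ℂ) := by
      rw [CfsgLib.DegreeTools.deg_cast]
      show (F χ : Ck → ℂ) 1 = (F χ : Ck → ℂ) (e.symm 1)
      rw [map_one]
    rw [h1, h2, ← Nat.cast_mul, CfsgLib.CharDeep.Glauberman.Cong.nat_iff (Fact.out : p.Prime).ne_zero,
      ← ZMod.natCast_eq_natCast_iff, Nat.cast_mul] at hcong
    rcases (hF χ).2.2.1 with h | h
    · left
      have h' := (ZMod.intCast_eq_intCast_iff _ _ p).mpr h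
      simp only [Int.cast_natCast, Int.cast_one] at h'
      rw [hcong, h', one_mul]
    · right
      have h' := (ZMod.intCast_eq_intCast_iff _ _ p).mpr h
      simp only [Int.cast_natCast, Int.cast_neg, Int.cast_one] at h'
      rw [hcong, h', neg_one_mul, neg_neg]

end Cfsg.Agent.S4914
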