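import Cfsg.Statements.S4916
import Cfsg.Agent.Lib.DegreeTools.Basic
import Cfsg.Agent.Lib.Blocks.Idempotent
-- import your own Cfsg.Agent.* helpers here

set_option autoImplicit false
open Cfsg

namespace Cfsg.Agent.S4916

open CfsgLib.Char CfsgLib.DegreeTools

theorem coe_oneChar_fun {G : Type*} [Group G] : (oneChar G : G → ℂ) = fun _ => 1 := rfl

/-- Let G be a finite group, p a prime and M a maximal ideal of the algebraic integers containing p. Then the principal character is the only irreducible character of degree prime to p in the principal p-block of G if and only if p does not divide the order of G. -/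
theorem result {G : Type*} [Group G] [Finite G] (p : ℕ) [Fact p.Prime] (M : Ideal Cfsg.AlgInt) (hM : Cfsg.IsPModular p M) : (∀ χ : Cfsg.IrrCharacter G, χ ∈ Cfsg.principalBlock M G → ¬ p ∣ Cfsg.charDegree (χ : G → ℂ) → (χ : G → ℂ) = fun _ => (1 : ℂ)) ↔ ¬ p ∣ Nat.card G := by
  classical
  cases nonempty_fintype G
  have hB : Cfsg.IsPBlock M (Cfsg.principalBlock M G) := ⟨oneChar G, rfl⟩
  constructor
  · intro h hd
    have hco := CfsgLib.Blocks.blockCoeff_LR hM hB 1
    have h1 : Cfsg.MemLocalIdeal M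
        ((Nat.card G : ℂ) * Cfsg.blockCoeff (Cfsg.principalBlock M G) 1) :=
      CfsgLib.Blocks.LI.mul_right hM ((CfsgLib.Blocks.LI.natCast_iff hM _).mpr hd) hco
    have h1in : oneChar G ∈ Cfsg.principalBlock M G :=
      fun g => by rw [coe_oneChar_fun, sub_self]; exact CfsgLib.Blocks.LI.zero hM
    rw [Cfsg.blockCoeff, mul_inv_cancel_left₀ card_ne_zero,
      finsum_mem_eq_toFinset_sum] at h1
    rw [← Finset.add_sum_erase _ _ (Set.mem_toFinset.mpr h1in)] at h1
    have h2 : Cfsg.MemLocalIdeal M (∑ χ ∈ (Cfsg.principalBlock M G).toFinset.erase (oneChar G),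
        (χ : G → ℂ) 1 * starRingEnd ℂ ((χ : G → ℂ) 1)) := by
      refine CfsgLib.Blocks.LI.sum hM fun χ hχ => ?_
      obtain ⟨hne, hmem⟩ := Finset.mem_erase.mp hχ
      have hdvd : p ∣ Cfsg.charDegree (χ : G → ℂ) := by
        by_contra hnd
        exact hne (Subtype.ext (h χ (Set.mem_toFinset.mp hmem) hnd))
      rw [← deg_cast]
      exact CfsgLib.Blocks.LI.mul_right hM ((CfsgLib.Blocks.LI.natCast_iff hM _).mpr hdvd)
        (by rw [Complex.conj_natCast]; exact CfsgLib.Blocks.LR.natCast hM _)
    have h3 := CfsgLib.Blocks.LI.sub hM h1 h2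
    refine CfsgLib.Blocks.LI.not_one hM ?_
    simpa using h3
  · intro hnd χ hχ _
    by_contra hne
    have hsum := sum_eq_zero χ fun e => hne (congrArg Subtype.val e)
    apply hnd
    rw [← CfsgLib.Blocks.LI.natCast_iff hM]
    have h0 := IsIrrCharacter.apply_one_ne_zero χ.2
    have e : (Nat.card G : ℂ) = ∑ g : G, (1 - (χ : G → ℂ) g / (χ : G → ℂ) 1) := by
      rw [Finset.sum_sub_distrib, ← Finset.sum_div, hsum, zero_div, sub_zero, Finset.sum_const,
        Finset.card_univ, nsmul_eq_mul, mul_one, Nat.card_eq_fintype_card]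
    rw [e]
    refine CfsgLib.Blocks.LI.sum hM fun g _ => ?_
    have hk : ¬ Cfsg.MemLocalIdeal M ((Subgroup.centralizer ({g} : Set G)).index : ℂ) :=
      fun hk => hnd (((CfsgLib.Blocks.LI.natCast_iff hM _).mp hk).trans
        (Subgroup.index_dvd_card _))
    have h1 := CfsgLib.Blocks.LI.mul_left hM
      (CfsgLib.Blocks.LR.inv hM (CfsgLib.Blocks.LR.natCast hM _) hk) (hχ g)
    have hne' := CfsgLib.Blocks.ne_zero_of_not_LI hM hk
    convert h1 using 1
    simp only [Cfsg.centralChar]
    field_simp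

end Cfsg.Agent.S4916
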