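import Cfsg.Statements.S4923
import Cfsg.Agent.Lib.CharDeep.Galois.ComplexAut
import Cfsg.Agent.Lib.DegreeTools.Eigen
import Cfsg.Agent.Lib.Char.Orth
import Cfsg.Agent.Lib.Fusion.MaxClassTwo

set_option autoImplicit false
set_option linter.style.haveILetI false
open Cfsg

namespace Cfsg.Agent.S4923

open Cardinal
open scoped IntermediateField commutatorElement

/-- A number algebraic over a finite subextension and fixed by all automorphisms fixing the latter
lies in it. -/
theorem mem_of_fixed (F : IntermediateField ℚ ℂ) [FiniteDimensional ℚ F] {z : ℂ}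
    (hz : IsIntegral ℚ z) (h : ∀ σ : ℂ ≃+* ℂ, (∀ x ∈ F, σ x = x) → σ z = z) : z ∈ F := by
  have hq : IsIntegral F z := hz.tower_top
  haveI : FiniteDimensional F F⟮z⟯ := IntermediateField.adjoin.finiteDimensional hq
  haveI : Algebra.IsAlgebraic F F⟮z⟯ := Algebra.IsAlgebraic.of_finite F F⟮z⟯
  have hF0 : #F ≤ ℵ₀ := (Algebra.IsAlgebraic.cardinalMk_le_max ℚ F).trans (by simp)
  have hF : #F⟮z⟯ ≤ ℵ₀ := (Algebra.IsAlgebraic.cardinalMk_le_max F F⟮z⟯).trans
    (max_le hF0 le_rfl)
  have huniq : ∀ g : F⟮z⟯ →ₐ[F] ℂ, g = IntermediateField.val F⟮z⟯ := by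
    intro g
    obtain ⟨σ, hσ⟩ := CfsgLib.CharDeep.Galois.exists_extend hF
      (IntermediateField.val F⟮z⟯).toRingHom g.toRingHom
    refine (IntermediateField.adjoin.powerBasis hq).algHom_ext ?_
    refine (hσ _).symm.trans (h σ fun x hx => ?_)
    have h1 := hσ (algebraMap F F⟮z⟯ ⟨x, hx⟩)
    simpa using h1
  have h1 : Module.finrank F F⟮z⟯ = 1 := by
    rw [← AlgHom.card F F⟮z⟯ ℂ, Fintype.card_eq_one_iff]
    exact ⟨_, huniq⟩
  obtain ⟨q, hq'⟩ := IntermediateField.mem_bot.1
    (IntermediateField.finrank_adjoin_simple_eq_one_iff.1 h1)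
  exact hq' ▸ q.2

/-- Power sums of two numbers lie in any field containing their sum and product. -/
theorem pow_add_pow_mem (F : IntermediateField ℚ ℂ) {a b : ℂ} (hs : a + b ∈ F) (hp : a * b ∈ F) :
    ∀ k : ℕ, a ^ k + b ^ k ∈ F := by
  intro k
  induction k using Nat.twoStepInduction with
  | zero => simp only [pow_zero]; exact add_mem (one_mem _) (one_mem _)
  | one => simpa using hs
  | more k ih1 ih2 =>
    have e : a ^ (k + 2) + b ^ (k + 2) =
        (a + b) * (a ^ (k + 1) + b ^ (k + 1)) - a * b * (a ^ k + b ^ k) := by ring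
    rw [e]; exact sub_mem (mul_mem hs ih2) (mul_mem hp ih1)

theorem zeta_pow_congr {M : ℕ} {ζ : ℂ} (hζ : IsPrimitiveRoot ζ M) {i j : ℕ}
    (h : i ≡ j [MOD M]) : ζ ^ i = ζ ^ j := by
  rw [← Nat.mod_add_div i M, ← Nat.mod_add_div j M, pow_add, pow_add, pow_mul, pow_mul,
    hζ.pow_eq_one, one_pow, one_pow, h]

variable {G : Type*} [Group G] [Finite G]

omit [Finite G] in
/-- Values of a character on powers, with any root of unity order annihilating the element. -/
theorem value_expand (χ : IrrCharacter G) {g : G} {M : ℕ} (hM : M ≠ 0) {ζ : ℂ}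
    (hζ : IsPrimitiveRoot ζ M) (hg : g ^ M = 1) :
    ∃ m : ℕ → ℕ, ∀ j : ℕ, (χ : G → ℂ) (g ^ j) = ∑ k ∈ Finset.range M, (m k : ℂ) * ζ ^ (k * j) := by
  obtain ⟨d, ρ, _, hρ⟩ := χ.2
  exact ⟨_, fun j => by rw [← hρ, CfsgLib.DegreeTools.Eigen.char_pow_eq_sum ρ g hζ hM hg j]⟩

omit [Finite G] in
theorem map_value (χ : IrrCharacter G) {g : G} {M : ℕ} (hM : M ≠ 0) {ζ : ℂ}
    (hζ : IsPrimitiveRoot ζ M) (hg : g ^ M = 1) (σ : ℂ ≃+* ℂ) {j : ℕ} (hσ : σ ζ = ζ ^ j) :
    σ ((χ : G → ℂ) g) = (χ : G → ℂ) (g ^ j) := by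
  obtain ⟨m, hm⟩ := value_expand χ hM hζ hg
  have h1 := hm 1
  rw [pow_one] at h1
  rw [h1, hm j, map_sum]
  refine Finset.sum_congr rfl fun k _ => ?_
  rw [map_mul, map_natCast, map_pow, hσ, mul_one, ← pow_mul, mul_comm j k]

/-- The field generated by the values of all irreducible characters at `g`. -/
noncomputable abbrev valueField (g : G) : IntermediateField ℚ ℂ :=
  IntermediateField.adjoin ℚ {z : ℂ | ∃ χ : IrrCharacter G, (χ : G → ℂ) g = z}

omit [Finite G] in
theorem valueField_le {g : G} {M : ℕ} (hM : M ≠ 0) {ζ : ℂ}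
    (hζ : IsPrimitiveRoot ζ M) (hg : g ^ M = 1) : valueField g ≤ ℚ⟮ζ⟯ := by
  rw [IntermediateField.adjoin_le_iff]
  rintro z ⟨χ, rfl⟩
  obtain ⟨m, hm⟩ := value_expand χ hM hζ hg
  have h1 := hm 1
  rw [pow_one] at h1
  rw [SetLike.mem_coe, h1]
  exact sum_mem fun k _ => mul_mem (IntermediateField.natCast_mem _ _)
    (pow_mem (IntermediateField.mem_adjoin_simple_self ℚ ζ) _)

/-- An automorphism fixing the values at `g` sends `g` to a conjugate. -/
theorem conj_of_fix {g : G} {M : ℕ} (hM : M ≠ 0) {ζ : ℂ} (hζ : IsPrimitiveRoot ζ M)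
    (hg : g ^ M = 1) (σ : ℂ ≃+* ℂ) {j : ℕ} (hσ : σ ζ = ζ ^ j)
    (hfix : ∀ x ∈ valueField g, σ x = x) : IsConj g (g ^ j) := by
  haveI : Fintype G := Fintype.ofFinite G
  rw [CfsgLib.Char.isConj_iff_forall_irr]
  intro χ
  rw [← map_value χ hM hζ hg σ hσ, hfix _ (IntermediateField.subset_adjoin _ _ ⟨χ, rfl⟩)]

omit [Finite G] in
/-- An automorphism sending `g` to a conjugate fixes the values at `g`. -/
theorem fix_of_conj {g : G} {M : ℕ} (hM : M ≠ 0) {ζ : ℂ} (hζ : IsPrimitiveRoot ζ M)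
    (hg : g ^ M = 1) (σ : ℂ ≃+* ℂ) {j : ℕ} (hσ : σ ζ = ζ ^ j) (hc : IsConj g (g ^ j)) :
    ∀ x ∈ valueField g, σ x = x := by
  intro x hx
  induction hx using IntermediateField.adjoin_induction with
  | mem z hz =>
    obtain ⟨χ, rfl⟩ := hz
    rw [map_value χ hM hζ hg σ hσ]
    obtain ⟨c, hc⟩ := isConj_iff.1 hc
    obtain ⟨d, ρ, _, hρ⟩ := χ.2
    rw [← hρ, ← hc, Representation.char_conj]
  | algebraMap q => simp
  | add a b _ _ ha hb => rw [map_add, ha, hb]
  | inv a _ ha => rw [map_inv₀, ha]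
  | mul a b _ _ ha hb => rw [map_mul, ha, hb]

/-- Facts on a Sylow 2-subgroup of order `2 ^ n`: `2 ^ (n + 1)` does not divide the group order. -/
theorem not_dvd_card (P : Sylow 2 G) {n : ℕ} (hP : Nat.card P = 2 ^ n) :
    ¬ 2 ^ (n + 1) ∣ Nat.card G := by
  intro h
  have h2 : ¬ 2 ∣ (P : Subgroup G).index := P.not_dvd_index
  rw [← (P : Subgroup G).card_mul_index, show Nat.card ↥(P : Subgroup G) = 2 ^ n from hP, pow_succ] at h
  exact h2 ((Nat.mul_dvd_mul_iff_left (by positivity)).1 h)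

/-- An element of order `2 ^ m` with `2 ^ (m + 2) ∤ |G|`, moved by some element: the conjugating
elements induce at most one non-identity map, and the class has even size. -/
theorem automizer {g : G} {m : ℕ} (hm : 1 ≤ m) (hg : orderOf g = 2 ^ m)
    (hG : ¬ 2 ^ (m + 2) ∣ Nat.card G) {b : G} {s : ℕ} (hb : b * g * b⁻¹ = g ^ s) (hne : g ^ s ≠ g)
    (hfull : 2 ^ (m + 1) ∣ Nat.card G) :
    (∀ x : G, ∀ j : ℕ, x * g * x⁻¹ = g ^ j → g ^ j = g ∨ g ^ j = g ^ s) ∧
      2 ∣ (Subgroup.centralizer ({g} : Set G)).index := by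
  set Z := Subgroup.zpowers g with hZ
  have hmemN : ∀ x : G, (∃ j : ℕ, x * g * x⁻¹ = g ^ j) → x ∈ Subgroup.normalizer (Z : Set G) := by
    rintro x ⟨j, hj⟩
    rw [Subgroup.mem_normalizer_iff_map_conj_eq]
    refine Subgroup.eq_of_le_of_card_ge ?_
      (le_of_eq (Nat.card_congr (Z.equivMapOfInjective _ (MulEquiv.injective _)).toEquiv))
    rw [hZ, MonoidHom.map_zpowers, Subgroup.zpowers_le]
    simpa [MulAut.conj_apply, hj] using Subgroup.npow_mem_zpowers g j
  set N := Subgroup.normalizer (Z : Set G)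
  set φ := Z.normalizerMonoidHom with hφdef
  have hker : ∀ x : N, x ∈ φ.ker ↔ (x : G) ∈ Subgroup.centralizer ({g} : Set G) := by
    intro x
    have hcz : Subgroup.centralizer (Z : Set G) = Subgroup.centralizer ({g} : Set G) := by
      rw [hZ, Subgroup.zpowers_eq_closure, Subgroup.centralizer_closure]
    rw [hφdef, Subgroup.normalizerMonoidHom_ker, Subgroup.mem_subgroupOf]
    exact SetLike.ext_iff.1 hcz _
  have hcardZ : Nat.card Z = 2 ^ m := by rw [hZ, Nat.card_zpowers, hg]
  have hrange : Nat.card φ.range ∣ 2 ^ (m - 1) := by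
    refine (Subgroup.card_subgroup_dvd_card _).trans ?_
    rw [IsCyclic.card_mulAut, hcardZ, Nat.totient_prime_pow Nat.prime_two (by omega)]
    simp
  have hCN : Subgroup.centralizer ({g} : Set G) ≤ N := fun x hx => hmemN x ⟨1, by
    rw [Subgroup.mem_centralizer_singleton_iff] at hx
    rw [pow_one, hx, mul_inv_cancel_right]⟩
  have hZC : Z ≤ Subgroup.centralizer ({g} : Set G) := by
    rw [hZ, Subgroup.zpowers_le, Subgroup.mem_centralizer_singleton_iff]
  have hkcard : Nat.card φ.ker = Nat.card ↥(Subgroup.centralizer ({g} : Set G)) := by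
    rw [show φ.ker = (Subgroup.centralizer ({g} : Set G)).subgroupOf N from
      Subgroup.ext fun x => (hker x).trans Subgroup.mem_subgroupOf.symm]
    exact Nat.card_congr (Subgroup.subgroupOfEquivOfLe hCN).toEquiv
  have hNdvd : Nat.card φ.range * Nat.card ↥(Subgroup.centralizer ({g} : Set G)) ∣ Nat.card G := by
    rw [← hkcard, ← Subgroup.index_ker, mul_comm, Subgroup.card_mul_index]
    exact Subgroup.card_subgroup_dvd_card N
  obtain ⟨e, -, he⟩ := (Nat.dvd_prime_pow Nat.prime_two).1 hrange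
  have hCdvd : 2 ^ m ∣ Nat.card ↥(Subgroup.centralizer ({g} : Set G)) :=
    hcardZ ▸ Subgroup.card_dvd_of_le hZC
  have hbN : b ∈ N := hmemN b ⟨s, hb⟩
  have hbk : (⟨b, hbN⟩ : N) ∉ φ.ker := by
    rw [hker, Subgroup.mem_centralizer_singleton_iff]
    intro h
    apply hne
    rw [← hb]
    show b * g * b⁻¹ = g
    have h' : b * g = g * b := h
    rw [h', mul_inv_cancel_right]
  have he1 : e = 1 := by
    have hle : e ≤ 1 := by
      by_contra hgt
      refine hG (dvd_trans ?_ hNdvd)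
      rw [he, show m + 2 = 2 + m by ring, pow_add]
      exact mul_dvd_mul (pow_dvd_pow 2 (by omega)) hCdvd
    by_contra hne1
    apply hbk
    have h0 : Nat.card φ.range = 1 := by rw [he, show e = 0 by omega, pow_zero]
    rw [← Subgroup.index_ker, Subgroup.index_eq_one] at h0
    rw [h0]; exact Subgroup.mem_top _
  subst he1
  rw [pow_one] at he
  have hidx : φ.ker.index = 2 := by rw [Subgroup.index_ker, he]
  constructor
  · intro x j hj
    have hxN : x ∈ N := hmemN x ⟨j, hj⟩
    by_cases hxk : (⟨x, hxN⟩ : N) ∈ φ.ker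
    · left
      rw [hker, Subgroup.mem_centralizer_singleton_iff] at hxk
      rw [← hj, show x * g = g * x from hxk, mul_inv_cancel_right]
    · right
      have hm2 : (⟨b, hbN⟩ : N)⁻¹ * ⟨x, hxN⟩ ∈ φ.ker := by
        rw [Subgroup.mul_mem_iff_of_index_two hidx]
        simp [hbk, hxk]
      rw [hker, Subgroup.mem_centralizer_singleton_iff] at hm2
      simp only [Subgroup.coe_mul, Subgroup.coe_inv] at hm2
      rw [← hj, ← hb]
      calc x * g * x⁻¹ = b * (b⁻¹ * x * g) * x⁻¹ := by group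
        _ = b * (g * (b⁻¹ * x)) * x⁻¹ := by rw [hm2]
        _ = b * g * b⁻¹ := by group
  · by_contra hodd
    refine hG (dvd_trans ?_ hNdvd)
    rw [he, show m + 2 = 1 + (m + 1) by ring, pow_add, pow_one]
    refine Nat.mul_dvd_mul_left 2 ?_
    rw [← (Subgroup.centralizer ({g} : Set G)).card_mul_index] at hfull
    exact (Nat.Coprime.pow_left _ ((Nat.Prime.coprime_iff_not_dvd Nat.prime_two).2 hodd)).dvd_of_dvd_mul_right hfull

theorem square_one_cases {k j : ℕ} (hj : j % 2 = 1) (h : j * j ≡ 1 [MOD 2 ^ (k + 3)])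
    (hlt : j < 2 ^ (k + 3)) :
    j = 1 ∨ j = 2 ^ (k + 2) - 1 ∨ j = 2 ^ (k + 2) + 1 ∨ j = 2 ^ (k + 3) - 1 := by
  obtain ⟨i, rfl⟩ : ∃ i, j = 2 * i + 1 := ⟨j / 2, by omega⟩
  have h1 : 2 ^ (k + 3) ∣ 4 * (i * (i + 1)) := by
    have := (Nat.modEq_iff_dvd' (by nlinarith)).1 h.symm
    have e : (2 * i + 1) * (2 * i + 1) - 1 = 4 * (i * (i + 1)) := by
      have : (2 * i + 1) * (2 * i + 1) = 4 * (i * (i + 1)) + 1 := by ring
      omega
    rwa [e] at this
  rw [show 2 ^ (k + 3) = 4 * 2 ^ (k + 1) by ring] at h1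
  have h2 : 2 ^ (k + 1) ∣ i * (i + 1) := (Nat.mul_dvd_mul_iff_left (by norm_num)).1 h1
  have hpos : 1 ≤ 2 ^ (k + 1) := Nat.one_le_two_pow
  have e2 : 2 ^ (k + 2) = 2 * 2 ^ (k + 1) := by ring
  have e3 : 2 ^ (k + 3) = 4 * 2 ^ (k + 1) := by ring
  rcases Nat.even_or_odd i with hi | hi
  · have hc : Nat.Coprime (2 ^ (k + 1)) (i + 1) := Nat.Coprime.pow_left _
      (Nat.coprime_two_left.2 hi.add_one)
    obtain ⟨c, hc⟩ := hc.dvd_of_dvd_mul_right h2
    have hc2 : c < 2 := by nlinarith
    interval_cases c <;> omega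
  · have hc : Nat.Coprime (2 ^ (k + 1)) i := Nat.Coprime.pow_left _ (Nat.coprime_two_left.2 hi)
    obtain ⟨c, hc⟩ := hc.dvd_of_dvd_mul_left h2
    have hc2 : c < 3 := by nlinarith
    interval_cases c <;> omega

omit [Finite G] in
theorem neg_fix_false {M : ℕ} (hM : 8 ≤ M) {ζ t : ℂ} (hζ : IsPrimitiveRoot ζ M)
    (ht : t = ζ + ζ⁻¹ ∨ t = ζ - ζ⁻¹) (σ : ℂ ≃+* ℂ) (hσ : σ ζ = -ζ) (hfix : σ t = t) : False := by
  have h0 : ζ ≠ 0 := hζ.ne_zero (by omega)
  have ht0 : t = 0 := by
    have : σ t = -t := by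
      rcases ht with rfl | rfl <;> simp [map_inv₀, hσ, inv_neg] <;> ring
    rw [hfix] at this
    linear_combination (1 / 2 : ℂ) * this
  have h4 : ζ ^ 4 = 1 := by
    have : ζ ^ 2 = -1 ∨ ζ ^ 2 = 1 := by
      rcases ht with rfl | rfl
      · left; field_simp at ht0; linear_combination ht0
      · right; field_simp at ht0; linear_combination ht0
    rcases this with h | h <;> rw [show ζ ^ 4 = (ζ ^ 2) ^ 2 by ring, h] <;> norm_num
  exact hζ.pow_ne_one_of_pos_of_lt (by norm_num) (by omega) h4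

/-- Let G be a finite group with Sylow 2-subgroup P of order 2^n ≥ 8, and let ζ be a primitive 2^(n−1)-th root of unity in ℂ. Then the commutator subgroup of P has index 4 in P if and only if there is an element g of P whose conjugacy class in G has even size and such that the field generated over ℚ by the values at g of all irreducible complex characters of G equals ℚ(ζ + ζ⁻¹) or ℚ(ζ − ζ⁻¹). -/
theorem result {G : Type*} [Group G] [Finite G] (P : Sylow 2 G) (n : ℕ) (hn : 3 ≤ n) (hP : Nat.card P = 2 ^ n) (ζ : ℂ) (hζ : IsPrimitiveRoot ζ (2 ^ (n - 1))) :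
    (commutator ↥P).index = 4 ↔
      ∃ g : G, g ∈ (P : Subgroup G) ∧ 2 ∣ (Subgroup.centralizer ({g} : Set G)).index ∧
        (IntermediateField.adjoin ℚ {z : ℂ | ∃ χ : Cfsg.IrrCharacter G, (χ : G → ℂ) g = z} = IntermediateField.adjoin ℚ ({ζ + ζ⁻¹} : Set ℂ) ∨
          IntermediateField.adjoin ℚ {z : ℂ | ∃ χ : Cfsg.IrrCharacter G, (χ : G → ℂ) g = z} = IntermediateField.adjoin ℚ ({ζ - ζ⁻¹} : Set ℂ)) := by
  haveI : Fact (Nat.Prime 2) := ⟨Nat.prime_two⟩
  haveI : Fintype G := Fintype.ofFinite G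
  obtain ⟨l, rfl⟩ : ∃ l, n = l + 3 := ⟨n - 3, by omega⟩
  rw [show l + 3 - 1 = l + 2 by omega] at hζ
  have hM : 2 ^ (l + 2) ≠ 0 := by positivity
  have hζ0 : ζ ≠ 0 := hζ.ne_zero hM
  have hζint : IsIntegral ℚ ζ := (hζ.isIntegral (Nat.pos_of_ne_zero hM)).tower_top
  haveI : FiniteDimensional ℚ ℚ⟮ζ⟯ := IntermediateField.adjoin.finiteDimensional hζint
  have hpe : (2 : ℕ) ^ (l + 2) = 2 ^ (l + 1) * 2 := pow_succ _ _
  have hhalf : ζ ^ (2 ^ (l + 1)) = -1 :=
    IsPrimitiveRoot.eq_neg_one_of_two_right (hζ.pow (Nat.pos_of_ne_zero hM) hpe)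
  have hGd : 2 ^ (l + 3) ∣ Nat.card G := hP ▸ Subgroup.card_subgroup_dvd_card (P : Subgroup G)
  have hp1 : 2 ≤ 2 ^ (l + 1) := Nat.le_self_pow (by omega) 2
  have hinv : ζ ^ (2 ^ (l + 2) - 1) = ζ⁻¹ := by
    refine eq_inv_of_mul_eq_one_left ?_
    rw [← pow_succ, Nat.sub_add_cancel (by omega), hζ.pow_eq_one]
  have hninv : ζ ^ (2 ^ (l + 1) - 1) = -ζ⁻¹ := by
    rw [← neg_inj, neg_neg]
    refine eq_inv_of_mul_eq_one_left ?_
    rw [neg_mul, ← pow_succ, Nat.sub_add_cancel (by omega), hhalf, neg_neg]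
  change (commutator ↥(P : Subgroup G)).index = 4 ↔ _
  constructor
  · intro hi
    obtain ⟨a, b, r, ha, hb, hconj, -, -, hmem⟩ :=
      CfsgLib.Fusion.MaxClassTwo.exists_presentation (by omega) hP hi
    rw [show l + 3 - 1 = l + 2 by omega] at ha
    rw [show l + 3 - 2 = l + 1 by omega] at hmem
    set g : G := (a : G) with hgdef
    have hg : orderOf g = 2 ^ (l + 2) := by rw [hgdef, Subgroup.orderOf_coe, ha]
    have hgM : g ^ 2 ^ (l + 2) = 1 := by rw [← hg]; exact pow_orderOf_eq_one g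
    have hw : (a ^ 2 ^ (l + 1)) ^ 2 = 1 := by
      rw [← pow_mul, ← hpe, ← ha, pow_orderOf_eq_one]
    obtain ⟨s, hs, hs'⟩ : ∃ s : ℕ, b * a * b⁻¹ = a ^ s ∧
        (ζ ^ s = ζ⁻¹ ∨ ζ ^ s = -ζ⁻¹) := by
      obtain ⟨i, hi'⟩ := Subgroup.mem_zpowers_iff.1 hmem
      rcases Int.even_or_odd i with ⟨c, rfl⟩ | ⟨c, rfl⟩
      · refine ⟨2 ^ (l + 2) - 1, ?_, Or.inl hinv⟩
        have h1 : b * a * b⁻¹ * a = 1 := by
          rw [← hi', ← two_mul, zpow_mul, zpow_two, ← sq, hw, one_zpow]
        have h2 : a ^ (2 ^ (l + 2) - 1) * a = 1 := by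
          rw [← pow_succ, Nat.sub_add_cancel (by omega), ← ha, pow_orderOf_eq_one]
        exact mul_right_cancel (h1.trans h2.symm)
      · refine ⟨2 ^ (l + 1) - 1, ?_, Or.inr hninv⟩
        have h1 : b * a * b⁻¹ * a = a ^ 2 ^ (l + 1) := by
          rw [← hi', zpow_add_one, zpow_mul, zpow_two, ← sq, hw, one_zpow, one_mul]
        have h2 : a ^ (2 ^ (l + 1) - 1) * a = a ^ 2 ^ (l + 1) := by
          rw [← pow_succ, Nat.sub_add_cancel (by omega)]
        exact mul_right_cancel (h1.trans h2.symm)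
    have hsG : (b : G) * g * (b : G)⁻¹ = g ^ s := by
      rw [hgdef, ← Subgroup.coe_pow, ← hs]; simp
    have hi2 : (Subgroup.zpowers a).index = 2 := by
      have := (Subgroup.zpowers a).card_mul_index
      rw [Nat.card_zpowers, ha, hP, show (2 : ℕ) ^ (l + 3) = 2 ^ (l + 2) * 2 from pow_succ _ _] at this
      exact Nat.eq_of_mul_eq_mul_left (by positivity) this
    have hne : g ^ s ≠ g := by
      intro h
      have hcomm : b * a = a * b := by
        rw [← mul_inv_eq_iff_eq_mul, hs]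
        exact Subtype.ext (by rw [Subgroup.coe_pow]; exact h)
      have hcen : ∀ y : ↥(P : Subgroup G), y * a = a * y := by
        intro y
        by_cases hy : y ∈ Subgroup.zpowers a
        · obtain ⟨i, rfl⟩ := Subgroup.mem_zpowers_iff.1 hy
          exact ((Commute.refl a).zpow_left i).eq
        · have hby : b⁻¹ * y ∈ Subgroup.zpowers a := by
            rw [Subgroup.mul_mem_iff_of_index_two hi2]
            simp [hb, hy]
          obtain ⟨i, hi'⟩ := Subgroup.mem_zpowers_iff.1 hby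
          rw [show y = b * a ^ i by rw [hi', mul_inv_cancel_left]]
          exact (Commute.mul_left (show Commute b a from hcomm) ((Commute.refl a).zpow_left i)).eq
      have hall : ∀ x y : ↥(P : Subgroup G), x * y = y * x := by
        have hb' : ∀ y : ↥(P : Subgroup G), Commute b y := by
          intro y
          by_cases hy : y ∈ Subgroup.zpowers a
          · obtain ⟨i, rfl⟩ := Subgroup.mem_zpowers_iff.1 hy
            exact (show Commute b a from hcomm).zpow_right i
          · have hby : b⁻¹ * y ∈ Subgroup.zpowers a := by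
              rw [Subgroup.mul_mem_iff_of_index_two hi2]
              simp [hb, hy]
            obtain ⟨i, hi'⟩ := Subgroup.mem_zpowers_iff.1 hby
            rw [show y = b * a ^ i by rw [hi', mul_inv_cancel_left]]
            exact (Commute.refl b).mul_right ((show Commute b a from hcomm).zpow_right i)
        intro x y
        by_cases hy : y ∈ Subgroup.zpowers a
        · obtain ⟨i, rfl⟩ := Subgroup.mem_zpowers_iff.1 hy
          exact ((show Commute x a from hcen x).zpow_right i).eq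
        · have hby : b⁻¹ * y ∈ Subgroup.zpowers a := by
            rw [Subgroup.mul_mem_iff_of_index_two hi2]
            simp [hb, hy]
          obtain ⟨i, hi'⟩ := Subgroup.mem_zpowers_iff.1 hby
          rw [show y = b * a ^ i by rw [hi', mul_inv_cancel_left]]
          exact ((hb' x).symm.mul_right ((show Commute x a from hcen x).zpow_right i)).eq
      have hbot : commutator ↥(P : Subgroup G) = ⊥ := by
        rw [commutator_def, eq_bot_iff, Subgroup.commutator_le]
        intro x _ y _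
        rw [Subgroup.mem_bot, commutatorElement_eq_one_iff_mul_comm]
        exact hall x y
      rw [hbot, Subgroup.index_bot, hP] at hi
      have h8 : 2 ^ 3 ≤ 2 ^ (l + 3) := Nat.pow_le_pow_right two_pos (by omega)
      omega
    obtain ⟨haut, heven⟩ := automizer (by omega) hg (not_dvd_card P hP) hsG hne hGd
    refine ⟨g, a.2, heven, ?_⟩
    suffices key : valueField g = IntermediateField.adjoin ℚ ({ζ + ζ ^ s} : Set ℂ) by
      rcases hs' with h | h <;> rw [h] at key
      · exact Or.inl key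
      · rw [← sub_eq_add_neg] at key; exact Or.inr key
    haveI : FiniteDimensional ℚ (valueField g) :=
      FiniteDimensional.of_injective
        (IntermediateField.inclusion (valueField_le hM hζ hgM)).toLinearMap
        (IntermediateField.inclusion (valueField_le hM hζ hgM)).injective
    have hss : ζ ^ (s * s) = ζ := by
      rcases hs' with h | h <;> rw [pow_mul, h]
      · rw [inv_pow, h, inv_inv]
      · rw [neg_pow, inv_pow, h]
        have hsodd : Odd s := by
          by_contra hev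
          rw [Nat.not_odd_iff_even] at hev
          obtain ⟨c, rfl⟩ := hev
          have h2 : (ζ ^ c) ^ 2 ^ (l + 1) * (ζ ^ c) ^ 2 ^ (l + 1) = 1 := by
            rw [← pow_add, ← two_mul, ← pow_mul, ← pow_succ', mul_comm, pow_mul, hζ.pow_eq_one, one_pow]
          have h3 : (ζ ^ (c + c)) ^ 2 ^ (l + 1) = 1 := by rw [pow_add, mul_pow, h2]
          rw [h, neg_pow, inv_pow, hhalf, (show Even (2 ^ (l + 1)) from by simp [parity_simps]).neg_one_pow] at h3
          norm_num at h3
        rw [hsodd.neg_one_pow, inv_neg, inv_inv]; ring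
    apply le_antisymm
    · rw [IntermediateField.adjoin_le_iff]
      rintro z ⟨χ, rfl⟩
      obtain ⟨m, hm⟩ := value_expand χ hM hζ hgM
      have h1 := hm 1
      rw [pow_one] at h1
      have h2 := hm s
      have hc : (χ : G → ℂ) (g ^ s) = (χ : G → ℂ) g :=
        ((CfsgLib.Char.isConj_iff_forall_irr).1 (isConj_iff.2 ⟨(b : G), hsG⟩) χ).symm
      rw [hc] at h2
      have hval : (χ : G → ℂ) g =
          (2 : ℂ)⁻¹ * ∑ k ∈ Finset.range (2 ^ (l + 2)), (m k : ℂ) * (ζ ^ k + (ζ ^ s) ^ k) := by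
        simp only [mul_add, Finset.sum_add_distrib]
        rw [Finset.sum_congr rfl fun k _ => (show (m k : ℂ) * ζ ^ k = (m k : ℂ) * ζ ^ (k * 1) by rw [mul_one]),
          ← h1, Finset.sum_congr rfl fun k _ => (show (m k : ℂ) * (ζ ^ s) ^ k = (m k : ℂ) * ζ ^ (k * s) by
            rw [← pow_mul, Nat.mul_comm s k]), ← h2]
        ring
      rw [SetLike.mem_coe, hval]
      refine mul_mem (inv_mem ?_) (sum_mem fun k _ => mul_mem (IntermediateField.natCast_mem _ _) ?_)
      · exact_mod_cast IntermediateField.natCast_mem _ 2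
      refine pow_add_pow_mem _ (IntermediateField.mem_adjoin_simple_self ℚ _) ?_ k
      rcases hs' with h | h <;> rw [h]
      · rw [mul_inv_cancel₀ hζ0]; exact one_mem _
      · rw [mul_neg, mul_inv_cancel₀ hζ0]; exact neg_mem (one_mem _)
    · rw [IntermediateField.adjoin_le_iff]
      rintro z rfl
      refine mem_of_fixed _ (hζint.add (hζint.pow s)) fun σ hσ => ?_
      obtain ⟨j, -, hj⟩ := hζ.eq_pow_of_pow_eq_one
        (show (σ ζ) ^ 2 ^ (l + 2) = 1 by rw [← map_pow, hζ.pow_eq_one, map_one])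
      have hc := conj_of_fix hM hζ hgM σ hj.symm hσ
      obtain ⟨x, hx⟩ := isConj_iff.1 hc
      have hcase : ∀ i, g ^ j = g ^ i → σ ζ = ζ ^ i := fun i h => by
        rw [← hj]
        exact zeta_pow_congr hζ (hg ▸ (pow_eq_pow_iff_modEq).1 h)
      rcases haut x j hx with h | h
      · rw [← pow_one g, ← pow_mul, one_mul] at h
        have h' := hcase 1 (by simpa using h)
        rw [pow_one] at h'
        rw [map_add, map_pow, h']
      · have h' := hcase s h
        rw [map_add, map_pow, h', ← pow_mul, hss, add_comm]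
  · rintro ⟨g, hgP, heven, hF⟩
    obtain ⟨t, ht, hF'⟩ : ∃ t : ℂ, (t = ζ + ζ⁻¹ ∨ t = ζ - ζ⁻¹) ∧
        valueField g = IntermediateField.adjoin ℚ ({t} : Set ℂ) := by
      rcases hF with h | h
      · exact ⟨_, Or.inl rfl, h⟩
      · exact ⟨_, Or.inr rfl, h⟩
    obtain ⟨y, hyP, hy⟩ : ∃ y ∈ (P : Subgroup G), y * g ≠ g * y := by
      by_contra hcon
      push Not at hcon
      have hle : (P : Subgroup G) ≤ Subgroup.centralizer ({g} : Set G) := fun y hy =>
        Subgroup.mem_centralizer_singleton_iff.2 (hcon y hy)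
      exact P.not_dvd_index (heven.trans (Subgroup.index_dvd_of_le hle))
    have hna : ¬ ∀ x z : ↥(P : Subgroup G), x * z = z * x := fun h =>
      hy (congrArg Subtype.val (h ⟨y, hyP⟩ ⟨g, hgP⟩))
    rcases Nat.eq_zero_or_pos l with rfl | hl
    · refine CfsgLib.TwoGroups.MaximalClass.commutator_index_of_class (n := 3) le_rfl hP ?_
      haveI := (IsPGroup.of_card hP).isNilpotent
      refine le_antisymm (CfsgLib.Fusion.MaxClass.class_le (p := 2) (by omega) hP) ?_
      by_contra hlt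
      have h1 : Group.nilpotencyClass ↥(P : Subgroup G) ≤ 1 := by omega
      rw [← Subgroup.lowerCentralSeries_eq_bot_iff_nilpotencyClass_le,
        Subgroup.top_lowerCentralSeries_one] at h1
      refine hna fun x z => ?_
      rw [← commutatorElement_eq_one_iff_mul_comm, ← Subgroup.mem_bot, ← h1, commutator_def]
      exact Subgroup.commutator_mem_commutator (Subgroup.mem_top x) (Subgroup.mem_top z)
    obtain ⟨k, rfl⟩ : ∃ k, l = k + 1 := ⟨l - 1, by omega⟩
    have e23 : k + 1 + 2 = k + 3 := rfl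
    rw [e23] at hζ hM hpe hinv
    rw [show k + 1 + 1 = k + 2 from rfl] at hhalf hpe hp1 hninv
    have h8 : 8 ≤ 2 ^ (k + 3) := by
      calc 8 = 2 ^ 3 := by norm_num
        _ ≤ _ := Nat.pow_le_pow_right two_pos (by omega)
    obtain ⟨σ, hσ⟩ : ∃ σ : ℂ ≃+* ℂ, σ ζ = ζ ^ (2 ^ (k + 2) + 1) := by
      refine CfsgLib.CharDeep.Galois.exists_ringEquiv_primitive hM hζ (hζ.pow_of_coprime _ ?_)
      refine Nat.Coprime.pow_right _ (Nat.coprime_two_right.2 ?_)
      exact ⟨2 ^ (k + 1), by ring⟩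
    have hσneg : σ ζ = -ζ := by rw [hσ, pow_succ, hhalf]; ring
    obtain ⟨m, hmle, hord⟩ : ∃ m, m ≤ k + 4 ∧ orderOf g = 2 ^ m := by
      obtain ⟨m, hm1, hm2⟩ := (Nat.dvd_prime_pow Nat.prime_two).1
        (hP ▸ (Subgroup.orderOf_dvd_natCard (P : Subgroup G) hgP))
      exact ⟨m, by omega, hm2⟩
    have hmne : m ≠ k + 4 := by
      rintro rfl
      have htop : Subgroup.zpowers g = (P : Subgroup G) := by
        refine Subgroup.eq_of_le_of_card_ge (Subgroup.zpowers_le.2 hgP) ?_
        rw [Nat.card_zpowers, hord, hP]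
      rw [← htop] at hyP
      obtain ⟨i, rfl⟩ := Subgroup.mem_zpowers_iff.1 hyP
      exact hy ((Commute.refl g).zpow_left i).eq
    have htmem : ∀ τ : ℂ ≃+* ℂ, (∀ x ∈ valueField g, τ x = x) → τ t = t := fun τ h =>
      h t (hF' ▸ IntermediateField.mem_adjoin_simple_self ℚ t)
    have hm3 : m = k + 3 := by
      by_contra hne3
      have hsmall : g ^ 2 ^ (k + 2) = 1 := by
        rw [← orderOf_dvd_iff_pow_eq_one, hord]
        exact pow_dvd_pow 2 (by omega)
      have hgM : g ^ 2 ^ (k + 3) = 1 := by rw [hpe, pow_mul, hsmall, one_pow]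
      refine neg_fix_false h8 hζ ht σ hσneg (htmem σ (fix_of_conj hM hζ hgM σ hσ ?_))
      rw [pow_succ, hsmall, one_mul]
    subst hm3
    have hgM : g ^ 2 ^ (k + 3) = 1 := by rw [← hord]; exact pow_orderOf_eq_one g
    set a : ↥(P : Subgroup G) := ⟨g, hgP⟩ with hadef
    set b : ↥(P : Subgroup G) := ⟨y, hyP⟩ with hbdef
    have ha : orderOf a = 2 ^ (k + 3) := by rw [← hord, hadef, Subgroup.orderOf_mk]
    have hi2 : (Subgroup.zpowers a).index = 2 := by
      have := (Subgroup.zpowers a).card_mul_index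
      rw [Nat.card_zpowers, ha, hP, show (2 : ℕ) ^ (k + 1 + 3) = 2 ^ (k + 3) * 2 from pow_succ _ _] at this
      exact Nat.eq_of_mul_eq_mul_left (by positivity) this
    haveI hnorm := Subgroup.normal_of_index_eq_two hi2
    obtain ⟨j, hjlt, hj⟩ : ∃ j, j < 2 ^ (k + 3) ∧ b * a * b⁻¹ = a ^ j := by
      have h := hnorm.conj_mem a (Subgroup.mem_zpowers a) b
      rw [← mem_powers_iff_mem_zpowers, Submonoid.mem_powers_iff] at h
      obtain ⟨i, hi⟩ := h
      exact ⟨i % 2 ^ (k + 3), Nat.mod_lt _ (by positivity), by rw [← ha, pow_mod_orderOf, hi]⟩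
    have hjodd : j % 2 = 1 := by
      rcases Nat.mod_two_eq_zero_or_one j with h | h
      · exfalso
        have hp' : (a ^ j) ^ 2 ^ (k + 2) = 1 := by
          rw [← pow_mul, ← orderOf_dvd_iff_pow_eq_one, ha, hpe, mul_comm j]
          exact Nat.mul_dvd_mul_left _ (Nat.dvd_of_mod_eq_zero h)
        rw [← hj, conj_pow] at hp'
        have : a ^ 2 ^ (k + 2) = 1 := by simpa using hp'
        rw [← orderOf_dvd_iff_pow_eq_one, ha] at this
        have := Nat.le_of_dvd (by positivity) this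
        omega
      · exact h
    have hjj : j * j ≡ 1 [MOD 2 ^ (k + 3)] := by
      rw [← ha, ← pow_eq_pow_iff_modEq, pow_one]
      have hb2 : b * b ∈ Subgroup.zpowers a := Subgroup.mul_self_mem_of_index_two hi2 b
      obtain ⟨i, hi⟩ := Subgroup.mem_zpowers_iff.1 hb2
      calc a ^ (j * j) = (b * a * b⁻¹) ^ j := by rw [hj, pow_mul]
        _ = b * a ^ j * b⁻¹ := conj_pow
        _ = (b * b) * a * (b * b)⁻¹ := by rw [← hj]; group
        _ = a := by rw [← hi, ((Commute.refl a).zpow_left i).eq, mul_inv_cancel_right]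
    have hconjG : IsConj g (g ^ j) := isConj_iff.2 ⟨y, by
      have := congrArg Subtype.val hj
      simpa [hadef, hbdef] using this⟩
    rcases square_one_cases hjodd hjj hjlt with rfl | hcase | rfl | hcase
    · exfalso
      apply hy
      have := congrArg Subtype.val hj
      simpa [hadef, hbdef, mul_inv_eq_iff_eq_mul] using this
    rotate_left
    · exact (neg_fix_false h8 hζ ht σ hσneg (htmem σ (fix_of_conj hM hζ hgM σ hσ hconjG))).elim
    all_goals
      have hcomm : a ^ (j - 1) ∈ commutator ↥(P : Subgroup G) := by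
        have : a ^ (j - 1) = ⁅b, a⁆ := by
          rw [commutatorElement_def, hj, eq_mul_inv_iff_mul_eq, ← pow_succ, Nat.sub_add_cancel (by omega)]
        rw [this, commutator_def]
        exact Subgroup.commutator_mem_commutator (Subgroup.mem_top b) (Subgroup.mem_top a)
      have hord2 : orderOf (a ^ (j - 1)) = 2 ^ (k + 2) := by
        have hsplit : j - 1 = 2 * ((j - 1) / 2) := by omega
        have hodd' : Odd ((j - 1) / 2) := by
          rw [Nat.odd_iff]
          have e1 : 2 ^ (k + 2) = 4 * 2 ^ k := by ring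
          have e2 : 2 ^ (k + 3) = 8 * 2 ^ k := by ring
          omega
        rw [hsplit, pow_mul, Nat.Coprime.orderOf_pow]
        · rw [orderOf_pow' _ two_ne_zero, ha, Nat.gcd_eq_right ⟨2 ^ (k + 2), pow_succ' _ _⟩, hpe,
            Nat.mul_div_cancel _ two_pos]
        · rw [orderOf_pow' _ two_ne_zero, ha, Nat.gcd_eq_right ⟨2 ^ (k + 2), pow_succ' _ _⟩, hpe,
            Nat.mul_div_cancel _ two_pos]
          exact Nat.Coprime.pow_left _ (Nat.coprime_two_left.2 hodd')
      have hord3 : orderOf (a ^ 2) = 2 ^ (k + 2) := by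
        rw [orderOf_pow' _ two_ne_zero, ha, Nat.gcd_eq_right ⟨2 ^ (k + 2), pow_succ' _ _⟩, hpe,
          Nat.mul_div_cancel _ two_pos]
      set W := Subgroup.zpowers (a ^ 2) with hW
      haveI : W.Normal := ⟨fun z hz x => by
        obtain ⟨i, rfl⟩ := Subgroup.mem_zpowers_iff.1 hz
        obtain ⟨c, hc⟩ := Subgroup.mem_zpowers_iff.1 (hnorm.conj_mem a (Subgroup.mem_zpowers a) x)
        refine Subgroup.mem_zpowers_iff.2 ⟨c * i, ?_⟩
        rw [← conj_zpow, ← conj_pow, ← hc, zpow_mul]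
        congr 1
        rw [← zpow_natCast, ← zpow_natCast, ← zpow_mul, ← zpow_mul, mul_comm]⟩
      have hWi : W.index = 2 ^ 2 := by
        have := W.card_mul_index
        rw [hW, Nat.card_zpowers, hord3, hP, show (2 : ℕ) ^ (k + 1 + 3) = 2 ^ (k + 2) * 2 ^ 2 by ring] at this
        exact Nat.eq_of_mul_eq_mul_left (by positivity) this
      have hle1 : commutator ↥(P : Subgroup G) ≤ W := by
        rw [← Subgroup.Normal.quotient_commutative_iff_commutator_le]
        exact ⟨⟨IsPGroup.commutative_of_card_eq_prime_sq (p := 2)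
          ((Subgroup.index_eq_card W).symm.trans hWi)⟩⟩
      have hle2 : W = commutator ↥(P : Subgroup G) := by
        refine (Subgroup.eq_of_le_of_card_ge hle1 ?_).symm
        rw [hW, Nat.card_zpowers, hord3, ← hord2, ← Nat.card_zpowers]
        exact Subgroup.card_le_of_le (Subgroup.zpowers_le.2 hcomm)
      rw [← hle2, hWi]
      norm_num

end Cfsg.Agent.S4923
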