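import Cfsg.Statements.S4930
import Cfsg.Agent.Lib.DegreeTools.Basic
import Cfsg.Agent.Lib.Char.Induced
import Cfsg.Agent.Lib.Char.Quotient
import Cfsg.Agent.Lib.Char.Constituent
import Cfsg.Agent.Lib.Char.TwoDegrees.Basic
import Cfsg.Agent.Lib.CharDeep.Glauberman.Correspondence
import Cfsg.Agent.Lib.CharDeep.Blichfeldt
import Cfsg.Agent.Lib.Fusion.Tate
import Cfsg.Agent.Lib.Fusion.Abelian
import Cfsg.Agent.Lib.PGroup.Kulakoff
import Cfsg.Agent.Lib.NumberTheory.SylowCount

set_option autoImplicit false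
set_option linter.style.haveILetI false
open Cfsg

namespace Cfsg.Agent.S4930

open CfsgLib CfsgLib.Char CfsgLib.DegreeTools
open scoped Classical ComplexConjugate commutatorElement Pointwise

universe u

variable {G : Type u} [Group G] [Fintype G]

/-- The irreducible characters of odd degree. -/
noncomputable def oddIrr (H : Type u) [Group H] [Fintype H] : Finset (Cfsg.IrrCharacter H) :=
  Finset.univ.filter fun χ => ¬ 2 ∣ Cfsg.charDegree (χ : H → ℂ)

theorem mem_oddIrr {H : Type u} [Group H] [Fintype H] {χ : Cfsg.IrrCharacter H} :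
    χ ∈ oddIrr H ↔ ¬ 2 ∣ Cfsg.charDegree (χ : H → ℂ) := by simp [oddIrr]

/-- The kernel of an irreducible character. -/
noncomputable abbrev kerOf (χ : Cfsg.IrrCharacter G) : Subgroup G := charKer (isCharacter_irr χ)

/-- A kernel shared by a set of characters. -/
theorem mem_commonKer {S : Finset (Cfsg.IrrCharacter G)} {g : G} :
    g ∈ (⨅ χ ∈ S, kerOf χ) ↔ ∀ χ ∈ S, (χ : G → ℂ) g = (χ : G → ℂ) 1 := by
  simp [Subgroup.mem_iInf, mem_charKer]

theorem commonKer_normal (S : Finset (Cfsg.IrrCharacter G)) : (⨅ χ ∈ S, kerOf χ).Normal :=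
  ⟨fun g hg x => by
    rw [mem_commonKer] at hg ⊢
    intro χ hχ
    rw [← hg χ hχ]
    exact IsCharacter.isClassFunction (isCharacter_irr χ) g x⟩

/-- The odd-degree characters of a group with normal Sylow `2`-subgroup are those killing the
derived subgroup of the Sylow subgroup. -/
theorem odd_iff_trivial (P : Sylow 2 G) [(P : Subgroup G).Normal] (θ : Cfsg.IrrCharacter G) :
    ¬ 2 ∣ Cfsg.charDegree (θ : G → ℂ) ↔
      ∀ x ∈ (commutator ↥(P : Subgroup G)).map (P : Subgroup G).subtype,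
        (θ : G → ℂ) x = (θ : G → ℂ) 1 := by
  haveI : Fact (Nat.Prime 2) := ⟨Nat.prime_two⟩
  constructor
  · intro hodd
    haveI : Fintype (P : Subgroup G) := Fintype.ofFinite _
    set K := charKer (isCharacter_irr θ)
    obtain ⟨n, hn⟩ := P.2.exists_card_eq
    -- some constituent on the Sylow subgroup is linear
    have hr := IsCharacter.restrict (isCharacter_irr θ) (P : Subgroup G)
    obtain ⟨m, hm, hexp⟩ := IsCharacter.exists_multiplicity hr
    obtain ⟨φ, hmφ, hφ1⟩ : ∃ φ : Cfsg.IrrCharacter (P : Subgroup G), m φ ≠ 0 ∧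
        ¬ 2 ∣ Cfsg.charDegree (φ : ↥(P : Subgroup G) → ℂ) := by
      by_contra hno
      simp only [not_exists, not_and, not_not] at hno
      apply hodd
      have hsum : Cfsg.charDegree (θ : G → ℂ) =
          ∑ φ : Cfsg.IrrCharacter (P : Subgroup G), m φ * Cfsg.charDegree (φ : ↥(P : Subgroup G) → ℂ) := by
        apply Nat.cast_injective (R := ℂ)
        push_cast
        simp only [deg_cast]
        rw [← Subgroup.coe_one (P : Subgroup G)]
        exact hexp 1
      rw [hsum]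
      refine Finset.dvd_sum fun φ _ => ?_
      rcases eq_or_ne (m φ) 0 with h0 | h0
      · simp [h0]
      · exact Dvd.dvd.mul_left (hno φ h0) _
    have hlin : (φ : ↥(P : Subgroup G) → ℂ) 1 = 1 := by
      rw [← deg_eq_one_iff]
      obtain ⟨i, -, hi⟩ := (Nat.dvd_prime_pow Nat.prime_two).mp (hn ▸ deg_dvd_card φ)
      rcases Nat.eq_zero_or_pos i with rfl | hpos
      · simpa using hi
      · exact absurd (hi ▸ dvd_pow_self 2 hpos.ne') hφ1
    -- conjugates of a linear character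
    intro x hx
    obtain ⟨y, hy, rfl⟩ := hx
    have hsumne : ∑ g : (P : Subgroup G), (θ : G → ℂ) g * conj ((φ : ↥(P : Subgroup G) → ℂ) g) ≠ 0 := by
      intro h0
      have := hm φ
      rw [Cfsg.classInner] at this
      rw [h0, mul_zero] at this
      exact hmφ (by exact_mod_cast this.symm)
    obtain ⟨nn, ρ, hirr, hρ⟩ := θ.2
    obtain ⟨f, hf⟩ := exists_hom_of_apply_one_eq_one (isCharacter_irr φ) hlin
    -- the fixed space of the derived subgroup is invariant, hence everything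
    let D : Subgroup G := (commutator ↥(P : Subgroup G)).map (P : Subgroup G).subtype
    haveI : D.Normal := ConjAct.normal_of_characteristic_of_normal
    let W : Subrepresentation ρ :=
      { toSubmodule := ⨅ d ∈ D, LinearMap.ker (ρ d - 1)
        apply_mem_toSubmodule := fun g v hv => by
          simp only [Submodule.mem_iInf, LinearMap.mem_ker, LinearMap.sub_apply,
            Module.End.one_apply, sub_eq_zero] at hv ⊢
          intro d hd
          have hd' := hv (g⁻¹ * d * g) (by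
            simpa using (inferInstance : D.Normal).conj_mem d hd g⁻¹)
          rw [← Module.End.mul_apply, ← map_mul]
          conv_rhs => rw [← hd']
          rw [← Module.End.mul_apply, ← map_mul]
          congr 2
          group }
    have hWne : W ≠ ⊥ := by
      intro hW
      apply hsumne
      let E : Module.End ℂ (Fin nn → ℂ) := ∑ g : (P : Subgroup G), conj ((f g : ℂˣ) : ℂ) • ρ (g : G)
      have hE : ∀ v, E v ∈ W.toSubmodule := by
        intro v
        simp only [W, Submodule.mem_iInf, LinearMap.mem_ker, LinearMap.sub_apply,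
          Module.End.one_apply, sub_eq_zero]
        rintro _ ⟨c, hc, rfl⟩
        have hfc : f c = 1 := Abelianization.commutator_subset_ker f hc
        simp only [E, LinearMap.sum_apply, LinearMap.smul_apply, map_sum, map_smul]
        refine Fintype.sum_equiv (Equiv.mulLeft c) _ _ fun g => ?_
        rw [Equiv.coe_mulLeft, map_mul, hfc, one_mul, Subgroup.coe_mul, map_mul,
          Module.End.mul_apply]
        rfl
      have hE0 : E = 0 := LinearMap.ext fun v => by
        have h := hE v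
        rw [hW] at h
        exact (Submodule.mem_bot ℂ).mp h
      have h0 := congrArg (LinearMap.trace ℂ _) hE0
      simp only [E, map_sum, map_smul, map_zero, smul_eq_mul] at h0
      rw [← h0]
      refine Finset.sum_congr rfl fun g _ => ?_
      rw [hf, mul_comm, ← hρ]
      rfl
    haveI : IsSimpleOrder (Subrepresentation ρ) := hirr
    have hWtop : W = ⊤ := (IsSimpleOrder.eq_bot_or_eq_top W).resolve_left hWne
    have hid : ρ ((P : Subgroup G).subtype y) = LinearMap.id := LinearMap.ext fun v => by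
      have hv : v ∈ W.toSubmodule := by rw [hWtop]; trivial
      simp only [W, Submodule.mem_iInf, LinearMap.mem_ker, LinearMap.sub_apply,
        Module.End.one_apply, sub_eq_zero] at hv
      exact hv _ ⟨y, hy, rfl⟩
    rw [← hρ, Representation.char_one]
    exact (char_eq_finrank_iff ρ _).mpr hid
  · intro htriv
    let D : Subgroup G := (commutator ↥(P : Subgroup G)).map (P : Subgroup G).subtype
    haveI : D.Normal := ConjAct.normal_of_characteristic_of_normal
    obtain ⟨ψ, hψ, hψθ⟩ := IsIrrCharacter.exists_deflate θ.2 D htriv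
    haveI : Fintype (G ⧸ D) := Fintype.ofFinite _
    obtain ⟨d, hd, hdvd⟩ := CfsgLib.Char.TwoDegrees.exists_degree_dvd_index
      (A := (P : Subgroup G).map (QuotientGroup.mk' D)) (by
        rintro _ ⟨a, ha, rfl⟩ _ ⟨b, hb, rfl⟩
        rw [← map_mul, ← map_mul, ← mul_inv_eq_one, ← map_inv, ← map_mul]
        refine (QuotientGroup.eq_one_iff _).mpr ⟨⁅(⟨a, ha⟩ : (P : Subgroup G)), ⟨b, hb⟩⁆,
          Subgroup.commutator_mem_commutator (Subgroup.mem_top _) (Subgroup.mem_top _), ?_⟩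
        simp [commutatorElement_def, mul_assoc]) hψ
    have hdeg : Cfsg.charDegree (θ : G → ℂ) = d := by
      have : (θ : G → ℂ) 1 = (d : ℂ) := by
        rw [hψθ, Function.comp_apply, map_one, hd]
      rw [← deg_cast] at this
      exact_mod_cast this
    rw [hdeg]
    intro h2
    exact P.not_dvd_index ((h2.trans hdvd).trans
      (Subgroup.index_map_dvd _ (QuotientGroup.mk'_surjective D)))

/-- The sum of squares of the odd degrees, for a normal Sylow `2`-subgroup. -/
theorem sum_odd_normal (P : Sylow 2 G) [(P : Subgroup G).Normal] :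
    Nat.card (commutator ↥(P : Subgroup G)) *
      (∑ θ ∈ oddIrr G, Cfsg.charDegree (θ : G → ℂ) ^ 2) = Nat.card G := by
  let D : Subgroup G := (commutator ↥(P : Subgroup G)).map (P : Subgroup G).subtype
  haveI : D.Normal := ConjAct.normal_of_characteristic_of_normal
  haveI : Fintype (G ⧸ D) := Fintype.ofFinite _
  have hD : Nat.card D = Nat.card (commutator ↥(P : Subgroup G)) :=
    Subgroup.card_map_of_injective (Subgroup.subtype_injective _)
  rw [← hD, ← D.card_mul_index, Subgroup.index_eq_card]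
  congr 1
  rw [← sum_deg_sq (G := G ⧸ D)]
  symm
  refine Finset.sum_bij (fun ψ _ => ((irrQuotientEquiv D ψ).1 : Cfsg.IrrCharacter G))
    (fun ψ _ => ?_) (fun a _ b _ e => (irrQuotientEquiv D).injective (Subtype.ext e))
    (fun θ hθ => ?_) fun ψ _ => ?_
  · exact mem_oddIrr.mpr ((odd_iff_trivial P _).mpr (irrQuotientEquiv D ψ).2)
  · exact ⟨(irrQuotientEquiv D).symm ⟨θ, (odd_iff_trivial P θ).mp (mem_oddIrr.mp hθ)⟩,
      Finset.mem_univ _, by rw [Equiv.apply_symm_apply]⟩
  · congr 1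

section main

variable (P : Sylow 2 G)

local notation "NP" => Subgroup.normalizer ((P : Subgroup G) : Set G)

/-- The Sylow subgroup inside its normalizer. -/
noncomputable def PN : Sylow 2 ↥NP := P.subtype Subgroup.le_normalizer

theorem PN_normal : ((PN P : Sylow 2 ↥NP) : Subgroup ↥NP).Normal := by
  rw [PN, Sylow.coe_subtype]
  exact Subgroup.normal_in_normalizer

theorem card_commutator_PN :
    Nat.card (commutator ↥((PN P : Sylow 2 ↥NP) : Subgroup ↥NP)) = Nat.card (commutator ↥P) := by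
  let e : ((PN P : Sylow 2 ↥NP) : Subgroup ↥NP) ≃* (P : Subgroup G) := by
    rw [PN, Sylow.coe_subtype]
    exact Subgroup.subgroupOfEquivOfLe Subgroup.le_normalizer
  have h : (commutator ↥((PN P : Sylow 2 ↥NP) : Subgroup ↥NP)).map e.toMonoidHom =
      commutator ↥(P : Subgroup G) := by
    rw [commutator_def, Subgroup.map_commutator, Subgroup.map_top_of_surjective _ e.surjective,
      ← commutator_def]
  exact (Subgroup.card_map_of_injective e.injective).symm.trans
    (congrArg (fun H : Subgroup ↥(P : Subgroup G) => Nat.card H) h)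

/-- The multiplicity in the restriction to the normalizer. -/
noncomputable def mlt (χ : Cfsg.IrrCharacter G) (θ : Cfsg.IrrCharacter ↥NP) : ℕ :=
  (IsCharacter.classInner_nat (IsCharacter.restrict (isCharacter_irr χ) NP)
    (isCharacter_irr θ)).choose

theorem mlt_spec (χ : Cfsg.IrrCharacter G) (θ : Cfsg.IrrCharacter ↥NP) :
    Cfsg.classInner (fun n : ↥NP => (χ : G → ℂ) n) (θ : ↥NP → ℂ) = (mlt P χ θ : ℂ) :=
  (IsCharacter.classInner_nat (IsCharacter.restrict (isCharacter_irr χ) NP)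
    (isCharacter_irr θ)).choose_spec

theorem restrict_eq (χ : Cfsg.IrrCharacter G) (n : ↥NP) :
    (χ : G → ℂ) n = ∑ θ : Cfsg.IrrCharacter ↥NP, (mlt P χ θ : ℂ) * (θ : ↥NP → ℂ) n := by
  have h := congrFun (IsClassFunction.eq_sum_irr
    (IsCharacter.isClassFunction (IsCharacter.restrict (isCharacter_irr χ) NP))) n
  rw [Finset.sum_apply] at h
  refine h.trans (Finset.sum_congr rfl fun θ _ => ?_)
  rw [Pi.smul_apply, smul_eq_mul, mlt_spec]

theorem deg_eq (χ : Cfsg.IrrCharacter G) : Cfsg.charDegree (χ : G → ℂ) =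
    ∑ θ : Cfsg.IrrCharacter ↥NP, mlt P χ θ * Cfsg.charDegree (θ : ↥NP → ℂ) := by
  apply Nat.cast_injective (R := ℂ)
  push_cast
  simp only [deg_cast]
  exact restrict_eq P χ 1

/-- An odd character of the normalizer lies under an odd character. -/
theorem exists_over {θ : Cfsg.IrrCharacter ↥NP} (hθ : θ ∈ oddIrr ↥NP) :
    ∃ χ ∈ oddIrr G, mlt P χ θ ≠ 0 := by
  haveI : Fact (Nat.Prime 2) := ⟨Nat.prime_two⟩
  have hI := IsCharacter.indFun NP (isCharacter_irr θ)
  obtain ⟨m, hm, hexp⟩ := IsCharacter.exists_multiplicity hI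
  have hmm : ∀ χ, m χ = mlt P χ θ := fun χ => by
    apply Nat.cast_injective (R := ℂ)
    rw [← hm χ, ← mlt_spec, classInner_indFun _ _ (IsCharacter.isClassFunction (isCharacter_irr χ))]
    exact IsCharacter.classInner_comm (isCharacter_irr θ)
      (IsCharacter.restrict (isCharacter_irr χ) NP)
  by_contra hno
  simp only [not_exists, not_and, not_not] at hno
  have hsum : (NP).index * Cfsg.charDegree (θ : ↥NP → ℂ) =
      ∑ χ : Cfsg.IrrCharacter G, m χ * Cfsg.charDegree (χ : G → ℂ) := by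
    apply Nat.cast_injective (R := ℂ)
    push_cast
    simp only [deg_cast]
    rw [← indFun_one, hexp 1]
  have h2 : 2 ∣ ∑ χ : Cfsg.IrrCharacter G, m χ * Cfsg.charDegree (χ : G → ℂ) := by
    refine Finset.dvd_sum fun χ _ => ?_
    by_cases hχ : χ ∈ oddIrr G
    · simp [hmm, hno χ hχ]
    · rw [mem_oddIrr, not_not] at hχ
      exact Dvd.dvd.mul_left hχ _
  rw [← hsum] at h2
  rcases Nat.prime_two.dvd_mul.mp h2 with h | h
  · exact P.not_dvd_index (h.trans (Subgroup.index_dvd_of_le Subgroup.le_normalizer))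
  · exact mem_oddIrr.mp hθ h

/-- The weighted count by pairs. -/
noncomputable def pairSum : ℕ :=
  ∑ χ ∈ oddIrr G, ∑ θ ∈ oddIrr ↥NP, (mlt P χ θ * Cfsg.charDegree (θ : ↥NP → ℂ)) ^ 2

theorem sum_sq_le_sq_sum {ι : Type*} (s : Finset ι) (f : ι → ℕ) :
    ∑ i ∈ s, f i ^ 2 ≤ (∑ i ∈ s, f i) ^ 2 := by
  rw [sq, Finset.sum_mul]
  refine Finset.sum_le_sum fun i hi => ?_
  rw [sq]
  exact Nat.mul_le_mul_left _ (Finset.single_le_sum (fun j _ => Nat.zero_le (f j)) hi)

theorem pair_le (χ : Cfsg.IrrCharacter G) :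
    ∑ θ ∈ oddIrr ↥NP, (mlt P χ θ * Cfsg.charDegree (θ : ↥NP → ℂ)) ^ 2 ≤
      Cfsg.charDegree (χ : G → ℂ) ^ 2 := by
  refine (Finset.sum_le_sum_of_subset (Finset.subset_univ _)).trans ?_
  rw [deg_eq P χ]
  exact sum_sq_le_sq_sum _ _

theorem pair_ge {θ : Cfsg.IrrCharacter ↥NP} (hθ : θ ∈ oddIrr ↥NP) :
    Cfsg.charDegree (θ : ↥NP → ℂ) ^ 2 ≤
      ∑ χ ∈ oddIrr G, (mlt P χ θ * Cfsg.charDegree (θ : ↥NP → ℂ)) ^ 2 := by
  obtain ⟨χ, hχ, hm⟩ := exists_over P hθ
  refine le_trans ?_ (Finset.single_le_sum (fun x _ => Nat.zero_le _) hχ)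
  exact Nat.pow_le_pow_left (Nat.le_mul_of_pos_left _ (Nat.pos_of_ne_zero hm)) 2

theorem main_le : ∑ θ ∈ oddIrr ↥NP, Cfsg.charDegree (θ : ↥NP → ℂ) ^ 2 ≤
    ∑ χ ∈ oddIrr G, Cfsg.charDegree (χ : G → ℂ) ^ 2 := by
  refine ((Finset.sum_le_sum fun θ hθ => pair_ge P hθ).trans ?_)
  rw [Finset.sum_comm]
  exact Finset.sum_le_sum fun χ _ => pair_le P χ

/-- In the case of equality every odd character restricts irreducibly, and onto. -/
theorem restrict_of_eq (heq : ∑ θ ∈ oddIrr ↥NP, Cfsg.charDegree (θ : ↥NP → ℂ) ^ 2 =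
    ∑ χ ∈ oddIrr G, Cfsg.charDegree (χ : G → ℂ) ^ 2) :
    (∀ χ ∈ oddIrr G, ∃ θ ∈ oddIrr ↥NP, ∀ n : ↥NP, (χ : G → ℂ) n = (θ : ↥NP → ℂ) n) ∧
    ∀ θ ∈ oddIrr ↥NP, ∃ χ ∈ oddIrr G, ∀ n : ↥NP, (χ : G → ℂ) n = (θ : ↥NP → ℂ) n := by
  have h1 : ∑ θ ∈ oddIrr ↥NP, Cfsg.charDegree (θ : ↥NP → ℂ) ^ 2 ≤ pairSum P := by
    rw [pairSum, Finset.sum_comm]
    exact Finset.sum_le_sum fun θ hθ => pair_ge P hθ
  have h2 : pairSum P ≤ ∑ χ ∈ oddIrr G, Cfsg.charDegree (χ : G → ℂ) ^ 2 :=
    Finset.sum_le_sum fun χ _ => pair_le P χ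
  have hχeq : ∀ χ ∈ oddIrr G,
      ∑ θ ∈ oddIrr ↥NP, (mlt P χ θ * Cfsg.charDegree (θ : ↥NP → ℂ)) ^ 2 =
        Cfsg.charDegree (χ : G → ℂ) ^ 2 :=
    (Finset.sum_eq_sum_iff_of_le fun χ _ => pair_le P χ).mp (le_antisymm h2 (heq ▸ h1))
  have hθeq : ∀ θ ∈ oddIrr ↥NP, Cfsg.charDegree (θ : ↥NP → ℂ) ^ 2 =
      ∑ χ ∈ oddIrr G, (mlt P χ θ * Cfsg.charDegree (θ : ↥NP → ℂ)) ^ 2 :=
    (Finset.sum_eq_sum_iff_of_le fun θ hθ => pair_ge P hθ).mp
      (le_antisymm (by rw [pairSum, Finset.sum_comm] at h1; exact h1)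
        (by rw [heq, Finset.sum_comm]; exact h2))
  have hsingle : ∀ χ ∈ oddIrr G, ∀ θ ∈ oddIrr ↥NP, mlt P χ θ ≠ 0 →
      mlt P χ θ = 1 ∧ ∀ n : ↥NP, (χ : G → ℂ) n = (θ : ↥NP → ℂ) n := by
    intro χ hχ θ hθ hm
    have hθ1 : mlt P χ θ = 1 := by
      have h := hθeq θ hθ
      have hle := Finset.single_le_sum (f := fun x => (mlt P x θ * Cfsg.charDegree (θ : ↥NP → ℂ)) ^ 2)
        (fun x _ => Nat.zero_le _) hχ
      rw [← h] at hle
      have hd : 0 < Cfsg.charDegree (θ : ↥NP → ℂ) := deg_pos θ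
      have h' : mlt P χ θ * Cfsg.charDegree (θ : ↥NP → ℂ) ≤ 1 * Cfsg.charDegree (θ : ↥NP → ℂ) := by
        rw [one_mul]; exact (Nat.pow_le_pow_iff_left two_ne_zero).mp hle
      have := Nat.le_of_mul_le_mul_right h' hd
      omega
    refine ⟨hθ1, fun n => ?_⟩
    have hrest : ∀ η, η ≠ θ → mlt P χ η = 0 := by
      intro η hη
      by_contra h0
      have hS := hχeq χ hχ
      set f : Cfsg.IrrCharacter ↥NP → ℕ := fun τ => mlt P χ τ * Cfsg.charDegree (τ : ↥NP → ℂ) with hf
      have hS' : Cfsg.charDegree (χ : G → ℂ) = ∑ τ, f τ := deg_eq P χ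
      have hle : ∑ τ ∈ oddIrr ↥NP, f τ ^ 2 ≤ ∑ τ, f τ ^ 2 :=
        Finset.sum_le_sum_of_subset (Finset.subset_univ _)
      have hlt : ∑ τ, f τ ^ 2 < (∑ τ, f τ) ^ 2 := by
        rw [sq (∑ τ, f τ), Finset.sum_mul]
        refine Finset.sum_lt_sum (fun i hi => ?_) ⟨θ, Finset.mem_univ _, ?_⟩
        · rw [sq]
          exact Nat.mul_le_mul_left _ (Finset.single_le_sum (fun j _ => Nat.zero_le (f j)) hi)
        · have hpair := Finset.sum_le_sum_of_subset (f := f) (Finset.subset_univ {θ, η})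
          rw [Finset.sum_pair (Ne.symm hη)] at hpair
          have hθpos : 0 < f θ := Nat.mul_pos (Nat.pos_of_ne_zero hm) (deg_pos θ)
          have hηpos : 0 < f η := Nat.mul_pos (Nat.pos_of_ne_zero h0) (deg_pos η)
          rw [sq]
          exact Nat.mul_lt_mul_of_pos_left (by omega) hθpos
      rw [← hS'] at hlt
      exact absurd hS (Nat.ne_of_lt (lt_of_le_of_lt hle hlt))
    rw [restrict_eq P χ n, Finset.sum_eq_single θ (fun η _ hη => by rw [hrest η hη]; simp)
      (by simp), hθ1]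
    simp
  refine ⟨fun χ hχ => ?_, fun θ hθ => ?_⟩
  · obtain ⟨θ, hθ, hm⟩ : ∃ θ ∈ oddIrr ↥NP, mlt P χ θ ≠ 0 := by
      by_contra hno
      simp only [not_exists, not_and, not_not] at hno
      have h := hχeq χ hχ
      rw [Finset.sum_eq_zero fun θ hθ => by rw [hno θ hθ]; simp] at h
      exact (deg_pos χ).ne' (sq_eq_zero_iff.mp h.symm)
    exact ⟨θ, hθ, (hsingle χ hχ θ hθ hm).2⟩
  · obtain ⟨χ, hχ, hm⟩ := exists_over P hθ
    exact ⟨χ, hχ, (hsingle χ hχ θ hθ hm).2⟩

set_option maxHeartbeats 800000 in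
theorem complement_of_eq (heq : ∑ θ ∈ oddIrr ↥NP, Cfsg.charDegree (θ : ↥NP → ℂ) ^ 2 =
    ∑ χ ∈ oddIrr G, Cfsg.charDegree (χ : G → ℂ) ^ 2) :
    ∃ L : Subgroup G, L.Normal ∧ L ⊓ NP = ⊥ ∧ L ⊔ NP = ⊤ := by
  haveI : Fact (Nat.Prime 2) := ⟨Nat.prime_two⟩
  obtain ⟨hdown, hup⟩ := restrict_of_eq P heq
  haveI hPNn := PN_normal P
  set K : Subgroup G := ⨅ (χ : Cfsg.IrrCharacter G) (_ : χ ∈ oddIrr G), kerOf χ with hK
  haveI hKn : K.Normal := commonKer_normal _
  set S₀ := (oddIrr G).filter fun χ : Cfsg.IrrCharacter G => ∀ p ∈ (P : Subgroup G), (χ : G → ℂ) p = (χ : G → ℂ) 1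
  set L₀ : Subgroup G := ⨅ (χ : Cfsg.IrrCharacter G) (_ : χ ∈ S₀), kerOf χ with hL₀
  haveI hL₀n : L₀.Normal := commonKer_normal _
  have hKN : ∀ n : ↥NP, (n : G) ∈ K →
      (n : G) ∈ (commutator ↥(P : Subgroup G)).map (P : Subgroup G).subtype := by
    intro n hn
    let D : Subgroup ↥NP :=
      (commutator ↥((PN P : Sylow 2 ↥NP) : Subgroup ↥NP)).map ((PN P : Sylow 2 ↥NP) : Subgroup ↥NP).subtype
    haveI : D.Normal := ConjAct.normal_of_characteristic_of_normal
    have hnD : n ∈ D := by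
      rw [← QuotientGroup.eq_one_iff]
      haveI : Fintype (↥NP ⧸ D) := Fintype.ofFinite _
      refine eq_one_of_forall_irr fun ψ => ?_
      set θ := (irrQuotientEquiv D ψ).1
      have hθ : θ ∈ oddIrr ↥NP :=
        mem_oddIrr.mpr ((odd_iff_trivial (PN P) θ).mpr (irrQuotientEquiv D ψ).2)
      obtain ⟨χ, hχ, hres⟩ := hup θ hθ
      have h := mem_commonKer.mp hn χ hχ
      rw [hres n, show (χ : G → ℂ) 1 = (θ : ↥NP → ℂ) 1 from hres 1] at h
      exact h
    obtain ⟨y, hy, rfl⟩ := hnD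
    have hle : (commutator ↥((PN P : Sylow 2 ↥NP) : Subgroup ↥NP)).map
        ((NP).subtype.comp ((PN P : Sylow 2 ↥NP) : Subgroup ↥NP).subtype) ≤
        (commutator ↥(P : Subgroup G)).map (P : Subgroup G).subtype := by
      rw [commutator_def, commutator_def, Subgroup.map_commutator, Subgroup.map_commutator]
      refine Subgroup.commutator_mono ?_ ?_ <;>
      · rw [← MonoidHom.range_eq_map, ← MonoidHom.range_eq_map, Subgroup.range_subtype]
        rintro _ ⟨z, rfl⟩
        have hz := z.2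
        simp only [PN, Sylow.coe_subtype, Subgroup.mem_subgroupOf] at hz
        exact hz
    exact hle ⟨y, hy, rfl⟩
  have hPL : (P : Subgroup G) ≤ L₀ := fun p hp =>
    mem_commonKer.mpr fun χ hχ => (Finset.mem_filter.mp hχ).2 p hp
  have hLN : ∀ n : ↥NP, (n : G) ∈ L₀ → (n : G) ∈ (P : Subgroup G) := by
    intro n hn
    have hnP : n ∈ ((PN P : Sylow 2 ↥NP) : Subgroup ↥NP) := by
      rw [← QuotientGroup.eq_one_iff]
      haveI : Fintype (↥NP ⧸ ((PN P : Sylow 2 ↥NP) : Subgroup ↥NP)) := Fintype.ofFinite _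
      refine eq_one_of_forall_irr fun ψ => ?_
      set θ := (irrQuotientEquiv _ ψ).1
      have hθ : θ ∈ oddIrr ↥NP := mem_oddIrr.mpr ((odd_iff_trivial (PN P) θ).mpr (by
        rintro _ ⟨y, -, rfl⟩
        exact (irrQuotientEquiv _ ψ).2 _ y.2))
      obtain ⟨χ, hχ, hres⟩ := hup θ hθ
      have hS : χ ∈ S₀ := Finset.mem_filter.mpr ⟨hχ, fun p hp => by
        have h1 := hres ⟨p, Subgroup.le_normalizer hp⟩
        have h2 := (irrQuotientEquiv _ ψ).2 ⟨p, Subgroup.le_normalizer hp⟩ (by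
          simp only [PN, Sylow.coe_subtype, Subgroup.mem_subgroupOf]; exact hp)
        rw [show (χ : G → ℂ) 1 = (θ : ↥NP → ℂ) 1 from hres 1]
        exact h1.trans h2⟩
      have h := mem_commonKer.mp hn χ hS
      rw [hres n, show (χ : G → ℂ) 1 = (θ : ↥NP → ℂ) 1 from hres 1] at h
      exact h
    simpa [PN, Subgroup.mem_subgroupOf] using hnP
  have hKL : K ≤ L₀ := fun g hg =>
    mem_commonKer.mpr fun χ hχ => mem_commonKer.mp hg χ (Finset.mem_filter.mp hχ).1
  -- Frattini
  have hGLN : L₀ ⊔ NP = ⊤ := by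
    have h := Sylow.normalizer_sup_eq_top (P.subtype hPL)
    rwa [Sylow.coe_subtype, Subgroup.map_subgroupOf_eq_of_le hPL, sup_comm] at h
  -- Burnside in `L₀ ⧸ K`
  let π := QuotientGroup.mk' K
  set L' : Subgroup (G ⧸ K) := L₀.map π with hL'
  haveI hL'n : L'.Normal := hL₀n.map π (QuotientGroup.mk'_surjective K)
  let PQ : Sylow 2 (G ⧸ K) := P.mapSurjective (QuotientGroup.mk'_surjective K)
  have hPQle : (PQ : Subgroup (G ⧸ K)) ≤ L' := Subgroup.map_mono hPL
  let R : Sylow 2 ↥L' := PQ.subtype hPQle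
  have hPK : (P : Subgroup G) ⊓ K ≤ (commutator ↥(P : Subgroup G)).map (P : Subgroup G).subtype :=
    fun x hx => hKN ⟨x, Subgroup.le_normalizer hx.1⟩ hx.2
  have hPcomm : ∀ a ∈ (P : Subgroup G), ∀ b ∈ (P : Subgroup G), π a * π b = π b * π a := by
    intro a ha b hb
    rw [← map_mul, ← map_mul, ← mul_inv_eq_one, ← map_inv, ← map_mul]
    refine (QuotientGroup.eq_one_iff _).mpr (mem_commonKer.mpr fun χ hχ => ?_)
    obtain ⟨θ, hθ, hres⟩ := hdown χ hχ
    have hmem : a * b * (b * a)⁻¹ ∈ NP :=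
      Subgroup.le_normalizer ((P : Subgroup G).mul_mem ((P : Subgroup G).mul_mem ha hb)
        ((P : Subgroup G).inv_mem ((P : Subgroup G).mul_mem hb ha)))
    have htr := (odd_iff_trivial (PN P) θ).mp (mem_oddIrr.mp hθ) ⟨_, hmem⟩ (by
      have ha' : (⟨a, Subgroup.le_normalizer ha⟩ : ↥NP) ∈ ((PN P : Sylow 2 ↥NP) : Subgroup ↥NP) := by
        simpa [PN, Subgroup.mem_subgroupOf] using ha
      have hb' : (⟨b, Subgroup.le_normalizer hb⟩ : ↥NP) ∈ ((PN P : Sylow 2 ↥NP) : Subgroup ↥NP) := by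
        simpa [PN, Subgroup.mem_subgroupOf] using hb
      refine ⟨⁅(⟨_, ha'⟩ : ((PN P : Sylow 2 ↥NP) : Subgroup ↥NP)), ⟨_, hb'⟩⁆,
        Subgroup.commutator_mem_commutator (Subgroup.mem_top _) (Subgroup.mem_top _), Subtype.ext ?_⟩
      simp [commutatorElement_def, mul_assoc])
    rw [show (χ : G → ℂ) 1 = (θ : ↥NP → ℂ) 1 from hres 1, ← htr]
    exact hres ⟨_, hmem⟩
  have hcentral : Subgroup.normalizer ((R : Subgroup ↥L') : Set ↥L') ≤
      Subgroup.centralizer ((R : Subgroup ↥L') : Set ↥L') := by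
    intro x hx
    obtain ⟨g, hgL, hgx⟩ := Subgroup.mem_map.mp x.2
    have hRmem : ∀ y : ↥L', y ∈ (R : Subgroup ↥L') ↔ ∃ p ∈ (P : Subgroup G), π p = (y : G ⧸ K) := by
      intro y
      simp only [R, Sylow.coe_subtype, Subgroup.mem_subgroupOf, PQ, Sylow.coe_mapSurjective,
        Subgroup.mem_map, π]
    -- move `g` into the normalizer of `P`
    have hgmap : (P : Subgroup G).map ((MulAut.conj g).toMonoidHom) ≤ (P : Subgroup G) ⊔ K := by
      rintro _ ⟨p, hp, rfl⟩
      have h1 := (Subgroup.mem_normalizer_iff.mp hx ⟨π p, Subgroup.mem_map_of_mem π (hPL hp)⟩).mp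
        ((hRmem _).mpr ⟨p, hp, rfl⟩)
      obtain ⟨q, hq, hqe⟩ := (hRmem _).mp h1
      simp only [Subgroup.coe_mul, Subgroup.coe_inv, ← hgx, ← map_mul, ← map_inv] at hqe
      have hk : q⁻¹ * (g * p * g⁻¹) ∈ K := (QuotientGroup.eq_one_iff _).mp (by
        show π (q⁻¹ * (g * p * g⁻¹)) = 1
        rw [map_mul, map_inv, hqe, inv_mul_cancel])
      show g * p * g⁻¹ ∈ _
      rw [← mul_inv_cancel_left q (g * p * g⁻¹)]
      exact Subgroup.mul_mem_sup hq hk
    have hPle : (P : Subgroup G) ≤ (P : Subgroup G) ⊔ K := le_sup_left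
    have hgP : ((g • P : Sylow 2 G) : Subgroup G) ≤ (P : Subgroup G) ⊔ K := by
      rw [Sylow.coe_subgroup_smul]; exact hgmap
    obtain ⟨k, hk⟩ := MulAction.exists_smul_eq ↥((P : Subgroup G) ⊔ K)
      ((g • P : Sylow 2 G).subtype hgP) (P.subtype hPle)
    have hkg : ((k : G) * g) • P = P := by
      rw [← smul_smul]
      apply Sylow.ext
      have h := congrArg (fun Q : Sylow 2 ↥((P : Subgroup G) ⊔ K) =>
        (Q : Subgroup ↥((P : Subgroup G) ⊔ K)).map ((P : Subgroup G) ⊔ K).subtype) hk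
      simp only [Sylow.coe_subgroup_smul, Sylow.coe_subtype] at h
      rw [Subgroup.map_subgroupOf_eq_of_le hPle] at h
      rw [Sylow.coe_subgroup_smul]
      rw [Sylow.coe_subgroup_smul] at hgP
      conv_rhs => rw [← h]
      ext z
      simp only [Subgroup.mem_pointwise_smul_iff_inv_smul_mem, Subgroup.mem_map,
        Subgroup.mem_subgroupOf, Sylow.coe_subgroup_smul]
      constructor
      · intro hz
        have hz' : (k : G)⁻¹ * z * k ∈ MulAut.conj g • (P : Subgroup G) := by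
          simpa [MulAut.smul_def, Subgroup.mem_pointwise_smul_iff_inv_smul_mem, mul_assoc] using hz
        refine ⟨⟨z, ?_⟩, ?_, rfl⟩
        · have : z = (k : G) * ((k : G)⁻¹ * z * k) * (k : G)⁻¹ := by group
          rw [this]
          exact Subgroup.mul_mem _ (Subgroup.mul_mem _ k.2 (hgP hz')) (Subgroup.inv_mem _ k.2)
        · simpa [MulAut.smul_def, mul_assoc, Subgroup.mem_pointwise_smul_iff_inv_smul_mem] using hz
      · rintro ⟨z', hz', rfl⟩
        simpa [MulAut.smul_def, mul_assoc, Subgroup.mem_pointwise_smul_iff_inv_smul_mem] using hz'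
    have hn : (k : G) * g ∈ NP := Sylow.smul_eq_iff_mem_normalizer.mp hkg
    have hkL : (k : G) ∈ L₀ := (sup_le hPL hKL) k.2
    have hnP : (k : G) * g ∈ (P : Subgroup G) := hLN ⟨_, hn⟩ (L₀.mul_mem hkL hgL)
    -- so `x` is the image of an element of `P`
    obtain ⟨q, hq, k', hk', hkq⟩ := Subgroup.mem_sup_of_normal_right.mp k.2
    have hxP : ∃ p ∈ (P : Subgroup G), π p = (x : G ⧸ K) := by
      refine ⟨q⁻¹ * ((k : G) * g), Subgroup.mul_mem _ (Subgroup.inv_mem _ hq) hnP, ?_⟩
      have e : π (k : G) = π q := by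
        rw [← hkq, map_mul, show π k' = 1 from (QuotientGroup.eq_one_iff k').mpr hk', mul_one]
      rw [map_mul, map_mul, map_inv, e, inv_mul_cancel_left, hgx]
    refine Subgroup.mem_centralizer_iff.mpr fun y hy => ?_
    obtain ⟨p, hp, hpy⟩ := (hRmem y).mp hy
    obtain ⟨p', hp', hpx⟩ := hxP
    refine Subtype.ext ?_
    show (y : G ⧸ K) * x = x * y
    rw [← hpx, ← hpy]
    exact hPcomm p hp p' hp'
  obtain ⟨R', M, hMn, hMc⟩ := Fusion.Abelian.npc_of_normalizer_le_centralizer R hcentral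
  -- the preimage of the complement
  have hMcop : Nat.Coprime 2 (Nat.card M) := by
    refine (Nat.prime_two.coprime_iff_not_dvd).mpr fun h2 => ?_
    exact R'.not_dvd_index (hMc.index_eq_card ▸ h2)
  set L₁ : Subgroup G := (M.map L'.subtype).comap π with hL₁
  have hMchar : ∀ y : ↥L', (orderOf y).Coprime 2 → y ∈ M := fun y hy =>
    CharDeep.Blichfeldt.mem_of_coprime_index M (pow_orderOf_eq_one y) (by
      rw [hMc.symm.index_eq_card]
      obtain ⟨i, hi⟩ := R'.2.exists_card_eq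
      rw [hi]
      exact hy.pow_right i)
  haveI hL₁n : L₁.Normal := by
    have : (M.map L'.subtype).Normal := ⟨fun a ha c => by
      obtain ⟨y, hy, rfl⟩ := ha
      refine ⟨⟨c * (y : G ⧸ K) * c⁻¹, hL'n.conj_mem _ y.2 c⟩, hMchar _ ?_, rfl⟩
      rw [← Subgroup.orderOf_coe]
      show (orderOf (c * (y : G ⧸ K) * c⁻¹)).Coprime 2
      rw [← MulAut.conj_apply, MulEquiv.orderOf_eq, Subgroup.orderOf_coe]
      exact (hMcop.coprime_dvd_right (Subgroup.orderOf_dvd_natCard M hy)).symm⟩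
    exact this.comap π
  have hL₁L₀ : L₁ ≤ L₀ := by
    intro g hg
    obtain ⟨y, -, hy⟩ := Subgroup.mem_map.mp (Subgroup.mem_comap.mp hg)
    obtain ⟨l, hl, hlg⟩ := Subgroup.mem_map.mp y.2
    rw [show (L'.subtype y) = (y : G ⧸ K) from rfl, ← hlg] at hy
    have : l⁻¹ * g ∈ K := (QuotientGroup.eq_one_iff _).mp (by
      show π (l⁻¹ * g) = 1
      rw [map_mul, map_inv, hy, inv_mul_cancel])
    simpa using L₀.mul_mem hl (hKL this)
  have hL₁P : L₁ ⊓ (P : Subgroup G) ≤ (frattini ↥(P : Subgroup G)).map (P : Subgroup G).subtype := by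
    rintro g ⟨hgL, hgP⟩
    obtain ⟨y, hyM, hy⟩ := Subgroup.mem_map.mp (Subgroup.mem_comap.mp hgL)
    obtain ⟨i, hi⟩ := P.2 ⟨g, hgP⟩
    have hy1 : y = 1 := by
      have hpow : y ^ 2 ^ i = 1 := Subtype.ext (by
        show (L'.subtype y) ^ 2 ^ i = 1
        rw [hy, ← map_pow, show g ^ 2 ^ i = 1 from congrArg Subtype.val hi, map_one])
      have hd := Nat.dvd_gcd (orderOf_dvd_of_pow_eq_one hpow) (Subgroup.orderOf_dvd_natCard M hyM)
      rw [(hMcop.pow_left i)] at hd
      exact orderOf_eq_one_iff.mp (Nat.dvd_one.mp hd)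
    have hgK : g ∈ K := (QuotientGroup.eq_one_iff g).mp (by rw [hy1, map_one] at hy; exact hy.symm)
    exact Subgroup.map_mono (PGroup.Kulakoff.commutator_le_frattini P.2) (hPK ⟨hgP, hgK⟩)
  obtain ⟨T, O, hOn, hOc⟩ := Fusion.Tate.npc_of_normal_inf_le_frattini P L₁ hL₁P
  have hOcop : Nat.Coprime 2 (Nat.card O) := by
    refine (Nat.prime_two.coprime_iff_not_dvd).mpr fun h2 => ?_
    exact T.not_dvd_index (hOc.index_eq_card ▸ h2)
  have hOchar : ∀ y : ↥L₁, (orderOf y).Coprime 2 → y ∈ O := fun y hy =>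
    CharDeep.Blichfeldt.mem_of_coprime_index O (pow_orderOf_eq_one y) (by
      rw [hOc.symm.index_eq_card]
      obtain ⟨i, hi⟩ := T.2.exists_card_eq
      rw [hi]
      exact hy.pow_right i)
  set L : Subgroup G := O.map L₁.subtype with hL
  have hLodd : ∀ x ∈ L, (orderOf x).Coprime 2 := by
    rintro _ ⟨y, hy, rfl⟩
    rw [orderOf_injective _ L₁.subtype_injective]
    exact (hOcop.coprime_dvd_right (Subgroup.orderOf_dvd_natCard O hy)).symm
  have hLn : L.Normal := ⟨fun a ha c => by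
    have ho := hLodd a ha
    obtain ⟨y, hy, rfl⟩ := ha
    refine ⟨⟨c * (y : G) * c⁻¹, hL₁n.conj_mem _ y.2 c⟩, hOchar _ ?_, rfl⟩
    rw [← Subgroup.orderOf_coe]
    show (orderOf (c * (y : G) * c⁻¹)).Coprime 2
    rw [← MulAut.conj_apply, MulEquiv.orderOf_eq]
    exact ho⟩
  have hLL₁ : L ≤ L₁ := Subgroup.map_subtype_le O
  refine ⟨L, hLn, ?_, ?_⟩
  · rw [eq_bot_iff]
    rintro x ⟨hxL, hxN⟩
    have hxP : x ∈ (P : Subgroup G) := hLN ⟨x, hxN⟩ (hL₁L₀ (hLL₁ hxL))
    obtain ⟨i, hi⟩ := P.2 ⟨x, hxP⟩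
    have hd := Nat.dvd_gcd (dvd_refl (orderOf x))
      (orderOf_dvd_of_pow_eq_one (show x ^ 2 ^ i = 1 from congrArg Subtype.val hi))
    rw [(hLodd x hxL).pow_right i] at hd
    exact Subgroup.mem_bot.mpr (orderOf_eq_one_iff.mp (Nat.dvd_one.mp hd))
  · -- `L` and `N` generate
    rw [eq_top_iff, ← hGLN]
    refine sup_le ?_ le_sup_right
    -- `L₀ = L₁ (P)`
    have hL₁LN : L₁ ≤ L ⊔ NP := by
      intro x hx
      obtain ⟨T', hT'⟩ := NT.SylowCount.exists_sylow_inf P L₁
      have hco : O.IsComplement' (T' : Subgroup ↥L₁) := Subgroup.isComplement'_of_coprime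
        (by rw [T'.card_eq_multiplicity, ← T.card_eq_multiplicity, hOc.card_mul])
        (by
          rw [T'.card_eq_multiplicity]
          exact (hOcop.pow_left _).symm)
      obtain ⟨⟨o, t⟩, h⟩ := hco.2 ⟨x, hx⟩
      have hxe : x = ((o : ↥L₁) : G) * ((t : ↥L₁) : G) := (congrArg Subtype.val h).symm
      have ht : ((t : ↥L₁) : G) ∈ (P : Subgroup G) ⊓ L₁ := hT' ▸ Subgroup.mem_map_of_mem _ t.2
      rw [hxe]
      exact Subgroup.mul_mem_sup ⟨_, o.2, rfl⟩ (Subgroup.le_normalizer ht.1)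
    intro x hx
    obtain ⟨⟨y, hy⟩, ⟨r, hr⟩, hyr⟩ : ∃ (y : M) (r : (R : Subgroup ↥L')), (y : ↥L') * r =
        ⟨π x, Subgroup.mem_map_of_mem π hx⟩ := by
      have hco : M.IsComplement' (R : Subgroup ↥L') := Subgroup.isComplement'_of_coprime
        (by rw [R.card_eq_multiplicity, ← R'.card_eq_multiplicity, hMc.card_mul])
        (by
          rw [R.card_eq_multiplicity]
          exact (hMcop.pow_left _).symm)
      obtain ⟨⟨y, r⟩, h⟩ := hco.2 ⟨π x, Subgroup.mem_map_of_mem π hx⟩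
      exact ⟨y, r, h⟩
    have hr' := hr
    simp only [R, Sylow.coe_subtype, Subgroup.mem_subgroupOf, PQ, Sylow.coe_mapSurjective,
      Subgroup.mem_map] at hr'
    obtain ⟨p, hp, hpr⟩ := hr'
    have hxp : x * p⁻¹ ∈ L₁ := Subgroup.mem_comap.mpr ⟨y, hy, by
      have h := congrArg Subtype.val hyr
      rw [Subgroup.coe_mul] at h
      show (y : G ⧸ K) = π (x * p⁻¹)
      change (y : G ⧸ K) * (r : G ⧸ K) = π x at h
      rw [map_mul, map_inv, eq_mul_inv_iff_mul_eq, ← h, ← hpr]⟩
    rw [← inv_mul_cancel_right x p]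
    exact Subgroup.mul_mem _ (hL₁LN hxp) (Subgroup.mem_sup_right (Subgroup.le_normalizer hp))

/-- A normal complement gives equality. -/
theorem eq_of_complement (L : Subgroup G) [L.Normal] (h1 : L ⊓ NP = ⊥) (h2 : L ⊔ NP = ⊤) :
    ∑ χ ∈ oddIrr G, Cfsg.charDegree (χ : G → ℂ) ^ 2 ≤
      ∑ θ ∈ oddIrr ↥NP, Cfsg.charDegree (θ : ↥NP → ℂ) ^ 2 := by
  haveI : Fact (Nat.Prime 2) := ⟨Nat.prime_two⟩
  haveI : Fintype L := Fintype.ofFinite _
  have hLodd : ¬ 2 ∣ Nat.card L := by
    intro hd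
    obtain ⟨S, hS⟩ := NT.SylowCount.exists_sylow_inf P L
    have h := S.dvd_card_of_dvd_card hd
    have hbot : (S : Subgroup L) = ⊥ := by
      rw [eq_bot_iff]
      intro x hx
      have hx' : (x : G) ∈ (P : Subgroup G) ⊓ L := hS ▸ Subgroup.mem_map_of_mem _ hx
      have : (x : G) ∈ L ⊓ NP := ⟨x.2, Subgroup.le_normalizer hx'.1⟩
      rw [h1] at this
      exact Subgroup.mem_bot.mpr (Subtype.ext (Subgroup.mem_bot.mp this))
    rw [hbot, Subgroup.card_bot] at h
    norm_num at h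
  -- the action of `P` on `L`
  let φ : (P : Subgroup G) →* MulAut L := (MulAut.conjNormal (H := L)).comp (P : Subgroup G).subtype
  let ι : PUnit.{u+1} →* L := 1
  have hs : CharDeep.Glauberman.Setup 2 φ ι :=
    { prime := Nat.prime_two
      pgroup := P.2
      inj := fun a b _ => rfl
      range_iff := fun g => by
        constructor
        · intro hg
          refine ⟨PUnit.unit, ?_⟩
          have hmem : (g : G) ∈ L ⊓ NP := ⟨g.2, by
            refine Subgroup.centralizer_le_normalizer _ (Subgroup.mem_centralizer_iff.mpr fun p hp => ?_)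
            have h := congrArg Subtype.val (hg ⟨p, hp⟩)
            simp only [φ, MonoidHom.comp_apply, MulAut.conjNormal_apply, Subgroup.coe_subtype] at h
            exact mul_inv_eq_iff_eq_mul.mp h⟩
          rw [h1] at hmem
          exact (Subtype.ext (Subgroup.mem_bot.mp hmem)).symm
        · rintro ⟨c, rfl⟩ s
          exact map_one _
      not_dvd := hLodd }
  haveI : Fintype PUnit.{u+1} := inferInstance
  have huniq : ∀ η : Cfsg.IrrCharacter L, CharDeep.Glauberman.Inv φ (η : L → ℂ) →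
      η = oneChar L := by
    intro η hη
    have hone : CharDeep.Glauberman.Inv φ (oneChar L : L → ℂ) := fun s g => rfl
    have hsub : ∀ a b : Cfsg.IrrCharacter PUnit.{u+1}, a = b := fun a b => by
      have h1 : ∀ a : Cfsg.IrrCharacter PUnit.{u+1}, (a : PUnit.{u+1} → ℂ) 1 = 1 := fun a =>
        apply_one_eq_one_of_comm (fun _ _ => rfl) a.2
      exact Subtype.ext (funext fun x => by cases x; exact (h1 a).trans (h1 b).symm)
    exact congrArg Subtype.val (hs.corr_bijective.1
      (a₁ := ⟨η, hη⟩) (a₂ := ⟨oneChar L, hone⟩) (hsub _ _))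
  -- odd characters are trivial on `L`
  have htriv : ∀ χ ∈ oddIrr G, ∀ l ∈ L, (χ : G → ℂ) l = (χ : G → ℂ) 1 := by
    intro χ hχ
    obtain ⟨m, hm, hexp⟩ := IsCharacter.exists_multiplicity
      (IsCharacter.restrict (isCharacter_irr χ) L)
    have hmne : m (oneChar L) ≠ 0 := by
      intro h0
      have hinv : ∀ (s : (P : Subgroup G)) (η : Cfsg.IrrCharacter L),
          m (CharDeep.Glauberman.irrPerm φ s η) = m η := by
        intro s η
        apply Nat.cast_injective (R := ℂ)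
        rw [← hm, ← hm, ← classInner_reindex (φ s).symm (fun l : L => (χ : G → ℂ) l) (η : L → ℂ)]
        congr 1
        funext l
        simp only [Function.comp_apply]
        obtain ⟨l', rfl⟩ := (φ s).surjective l
        rw [MulEquiv.symm_apply_apply]
        simp only [φ, MonoidHom.comp_apply, MulAut.conjNormal_apply, Subgroup.coe_subtype]
        exact IsCharacter.isClassFunction (isCharacter_irr χ) _ _
      have hcong := CharDeep.Glauberman.cong_sum_fixed (p := 2) P.2
        (CharDeep.Glauberman.irrPerm φ)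
        (fun η => ((m η * Cfsg.charDegree (η : L → ℂ) : ℕ) : ℂ))
        (fun η => isIntegral_algebraMap (R := ℤ) (x := ((m η * Cfsg.charDegree (η : L → ℂ) : ℕ) : ℤ)))
        (fun s η => by
          have hd : Cfsg.charDegree (CharDeep.Glauberman.irrPerm φ s η : L → ℂ) =
              Cfsg.charDegree (η : L → ℂ) := by
            simp only [Cfsg.charDegree, CharDeep.Glauberman.irrPerm_apply, map_one]
          simp only [hinv, hd])
      rw [Finset.sum_eq_zero (s := Finset.univ.filter _) (fun η hη => by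
        rw [Finset.mem_filter] at hη
        rw [huniq η (CharDeep.Glauberman.irrPerm_fixed_iff.mp hη.2), h0]; simp)] at hcong
      rw [← Nat.cast_sum] at hcong
      have h2 := (CharDeep.Glauberman.Cong.nat_zero_iff two_ne_zero _).mp hcong
      refine mem_oddIrr.mp hχ ?_
      convert h2 using 1
      apply Nat.cast_injective (R := ℂ)
      push_cast
      simp only [deg_cast]
      rw [← Subgroup.coe_one L]
      exact hexp 1
    have hsum : ∑ l : L, (χ : G → ℂ) l ≠ 0 := by
      intro h0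
      have := hm (oneChar L)
      rw [Cfsg.classInner] at this
      simp only [coe_oneChar, map_one, mul_one, h0, mul_zero] at this
      exact hmne (by exact_mod_cast this.symm)
    obtain ⟨n, ρ, hirr, hρ⟩ := χ.2
    let E : Module.End ℂ (Fin n → ℂ) := ∑ l : L, ρ (l : G)
    let W : Subrepresentation ρ :=
      { toSubmodule := ⨅ l ∈ L, LinearMap.ker (ρ l - 1)
        apply_mem_toSubmodule := fun g v hv => by
          simp only [Submodule.mem_iInf, LinearMap.mem_ker, LinearMap.sub_apply,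
            Module.End.one_apply, sub_eq_zero] at hv ⊢
          intro d hd
          have hd' := hv (g⁻¹ * d * g) (by
            simpa using (inferInstance : L.Normal).conj_mem d hd g⁻¹)
          rw [← Module.End.mul_apply, ← map_mul]
          conv_rhs => rw [← hd']
          rw [← Module.End.mul_apply, ← map_mul]
          congr 2
          group }
    have hE : ∀ v, E v ∈ W.toSubmodule := by
      intro v
      simp only [W, Submodule.mem_iInf, LinearMap.mem_ker, LinearMap.sub_apply,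
        Module.End.one_apply, sub_eq_zero]
      intro d hd
      simp only [E, LinearMap.sum_apply, map_sum]
      refine Fintype.sum_equiv (Equiv.mulLeft (⟨d, hd⟩ : L)) _ _ fun g => ?_
      rw [Equiv.coe_mulLeft, Subgroup.coe_mul, map_mul, Module.End.mul_apply]
    haveI : IsSimpleOrder (Subrepresentation ρ) := hirr
    have hWne : W ≠ ⊥ := fun hW => hsum (by
      have hE0 : E = 0 := LinearMap.ext fun v => by
        have h := hE v
        rw [hW] at h
        exact (Submodule.mem_bot ℂ).mp h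
      have h0 := congrArg (LinearMap.trace ℂ _) hE0
      simp only [E, map_sum, map_zero] at h0
      rw [← h0]
      exact Finset.sum_congr rfl fun l _ => by rw [← hρ]; rfl)
    have hWtop : W = ⊤ := (IsSimpleOrder.eq_bot_or_eq_top W).resolve_left hWne
    intro l hl
    rw [← hρ, Representation.char_one]
    refine (char_eq_finrank_iff ρ _).mpr (LinearMap.ext fun v => ?_)
    have hv : v ∈ W.toSubmodule := by rw [hWtop]; trivial
    simp only [W, Submodule.mem_iInf, LinearMap.mem_ker, LinearMap.sub_apply,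
      Module.End.one_apply, sub_eq_zero] at hv
    exact hv l hl
  -- restriction is injective and irreducible
  let r : ↥NP →* G ⧸ L := (QuotientGroup.mk' L).comp (NP).subtype
  have hsurj : Function.Surjective r := by
    intro q
    obtain ⟨g, rfl⟩ := QuotientGroup.mk'_surjective L q
    have hg : g ∈ L ⊔ NP := h2 ▸ trivial
    obtain ⟨l, hl, n, hn, rfl⟩ := Subgroup.mem_sup_of_normal_left.mp hg
    refine ⟨⟨n, hn⟩, ?_⟩
    show QuotientGroup.mk' L n = QuotientGroup.mk' L (l * n)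
    rw [map_mul, show QuotientGroup.mk' L l = 1 from (QuotientGroup.eq_one_iff l).mpr hl, one_mul]
  have hres : ∀ χ ∈ oddIrr G, ∃ θ ∈ oddIrr ↥NP, ∀ n : ↥NP, (χ : G → ℂ) n = (θ : ↥NP → ℂ) n := by
    intro χ hχ
    obtain ⟨ψ, hψ, hψχ⟩ := IsIrrCharacter.exists_deflate χ.2 L (htriv χ hχ)
    refine ⟨⟨_, IsIrrCharacter.comp_surjective hψ r hsurj⟩, mem_oddIrr.mpr ?_, fun n => ?_⟩
    · have : Cfsg.charDegree (ψ ∘ r) = Cfsg.charDegree (χ : G → ℂ) := by
        simp only [Cfsg.charDegree, hψχ, Function.comp_apply, map_one]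
      rw [this]
      exact mem_oddIrr.mp hχ
    · rw [hψχ]; rfl
  choose f hf hfv using hres
  calc ∑ χ ∈ oddIrr G, Cfsg.charDegree (χ : G → ℂ) ^ 2
      = ∑ x ∈ (oddIrr G).attach, Cfsg.charDegree (f x.1 x.2 : ↥NP → ℂ) ^ 2 := by
        rw [← Finset.sum_attach]
        refine Finset.sum_congr rfl fun x _ => ?_
        congr 1
        apply Nat.cast_injective (R := ℂ)
        rw [deg_cast, deg_cast]
        exact hfv x.1 x.2 1
    _ = ∑ θ ∈ (oddIrr G).attach.image (fun x => f x.1 x.2), Cfsg.charDegree (θ : ↥NP → ℂ) ^ 2 := by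
        rw [Finset.sum_image]
        intro x _ y _ e
        refine Subtype.ext (Subtype.ext (funext fun g => ?_))
        have hg : g ∈ L ⊔ NP := h2 ▸ trivial
        obtain ⟨l, hl, n, hn, rfl⟩ := Subgroup.mem_sup_of_normal_left.mp hg
        rw [IsCharacter.apply_mul_of_mem_ker (isCharacter_irr _) (htriv x.1 x.2 l hl),
          IsCharacter.apply_mul_of_mem_ker (isCharacter_irr _) (htriv y.1 y.2 l hl),
          hfv x.1 x.2 ⟨n, hn⟩, hfv y.1 y.2 ⟨n, hn⟩]
        exact congrFun (congrArg Subtype.val e) _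
    _ ≤ _ := Finset.sum_le_sum_of_subset fun θ hθ => by
        obtain ⟨x, -, rfl⟩ := Finset.mem_image.mp hθ
        exact hf x.1 x.2

end main

/-- Let G be a finite group, P a Sylow 2-subgroup of G with normalizer N, and P′ the commutator subgroup of P. Then the sum of the squares of the degrees of the irreducible complex characters of G of odd degree is at least the index of P′ in N (the order of N divided by the order of P′), and equality holds if and only if N has a normal complement in G: a normal subgroup K of G with K ∩ N = 1 and KN = G. -/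
theorem result {G : Type*} [Group G] [Finite G] (P : Sylow 2 G) :
    Nat.card (Subgroup.normalizer ((P : Subgroup G) : Set G)) ≤ Nat.card (commutator ↥P) * (∑ᶠ χ : {χ : Cfsg.IrrCharacter G // ¬ 2 ∣ Cfsg.charDegree (χ : G → ℂ)}, Cfsg.charDegree (χ.1 : G → ℂ) ^ 2) ∧
    (Nat.card (Subgroup.normalizer ((P : Subgroup G) : Set G)) = Nat.card (commutator ↥P) * (∑ᶠ χ : {χ : Cfsg.IrrCharacter G // ¬ 2 ∣ Cfsg.charDegree (χ : G → ℂ)}, Cfsg.charDegree (χ.1 : G → ℂ) ^ 2) ↔
      ∃ K : Subgroup G, K.Normal ∧ K ⊓ Subgroup.normalizer ((P : Subgroup G) : Set G) = ⊥ ∧ K ⊔ Subgroup.normalizer ((P : Subgroup G) : Set G) = ⊤) := by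
  haveI := Fintype.ofFinite G
  haveI := PN_normal P
  set S := ∑ χ ∈ oddIrr G, Cfsg.charDegree (χ : G → ℂ) ^ 2
  set T := ∑ θ ∈ oddIrr ↥(Subgroup.normalizer ((P : Subgroup G) : Set G)),
    Cfsg.charDegree (θ : ↥(Subgroup.normalizer ((P : Subgroup G) : Set G)) → ℂ) ^ 2
  have hS : (∑ᶠ χ : {χ : Cfsg.IrrCharacter G // ¬ 2 ∣ Cfsg.charDegree (χ : G → ℂ)},
      Cfsg.charDegree (χ.1 : G → ℂ) ^ 2) = S := by
    rw [finsum_eq_sum_of_fintype]
    exact (Finset.sum_subtype (oddIrr G) (fun χ => mem_oddIrr)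
      (fun χ : Cfsg.IrrCharacter G => Cfsg.charDegree (χ : G → ℂ) ^ 2)).symm
  rw [hS]
  have hT := sum_odd_normal (G := ↥(Subgroup.normalizer ((P : Subgroup G) : Set G))) (PN P)
  rw [card_commutator_PN] at hT
  have hle : T ≤ S := main_le P
  have hpos : 0 < Nat.card (commutator ↥P) := Nat.card_pos
  refine ⟨hT ▸ Nat.mul_le_mul_left _ hle, fun h => ?_, fun ⟨L, hLn, h1, h2⟩ => ?_⟩
  · exact complement_of_eq P (Nat.eq_of_mul_eq_mul_left hpos (hT.trans h))
  · haveI := hLn
    rw [← hT]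
    exact congrArg _ (le_antisymm hle (eq_of_complement P L h1 h2))

end Cfsg.Agent.S4930
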