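import Cfsg.Statements.S4955
import Cfsg.Agent.Lib.DegreeTools.PDegree
import Cfsg.Agent.Lib.DegreeTools.CharTools
import Cfsg.Agent.Lib.Char.Quotient
-- import your own Cfsg.Agent.* helpers here

set_option autoImplicit false
open Cfsg

namespace Cfsg.Agent.S4955

open CfsgLib.Char CfsgLib.DegreeTools

theorem card_centralizer_eq {X : Type*} [Group X] [Finite X] (V : Subgroup X)
    (hab : ∀ a ∈ V, ∀ b ∈ V, a * b = b * a) (G : Subgroup X) (hGV : Subgroup.IsComplement' V G)
    (v : X) (hv : v ∈ V) : Nat.card (Subgroup.centralizer ({v} : Set X)) =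
      Nat.card V * Nat.card ↥(G ⊓ Subgroup.centralizer ({v} : Set X)) := by
  rw [← Nat.card_prod]
  symm
  refine Nat.card_eq_of_bijective (fun a => ⟨a.1.1 * a.2.1, mul_mem
    (Subgroup.mem_centralizer_singleton_iff.mpr (hab _ a.1.2 _ hv)) a.2.2.2⟩) ⟨?_, ?_⟩
  · intro a b hab'
    have h := hGV.1 (a₁ := (⟨a.1.1, a.1.2⟩, ⟨a.2.1, a.2.2.1⟩))
      (a₂ := (⟨b.1.1, b.1.2⟩, ⟨b.2.1, b.2.2.1⟩)) (congrArg Subtype.val hab')
    simp only [Prod.ext_iff, Subtype.ext_iff] at h
    exact Prod.ext (Subtype.ext h.1) (Subtype.ext h.2)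
  · rintro ⟨x, hx⟩
    obtain ⟨⟨⟨a, ha⟩, ⟨g, hg⟩⟩, rfl⟩ := hGV.2 x
    have hgC : g ∈ Subgroup.centralizer ({v} : Set X) :=
      (Subgroup.mul_mem_cancel_left _
        (Subgroup.mem_centralizer_singleton_iff.mpr (hab a ha v hv))).mp hx
    exact ⟨(⟨a, ha⟩, ⟨g, Subgroup.mem_inf.mpr ⟨hg, hgC⟩⟩), rfl⟩


/-- Let X be a finite group with an abelian normal Sylow p-subgroup V (a normal p-subgroup of index prime to p in which any two elements commute), and let G be a complement to V in X. Then for every v in V, writing C for the centralizer of v in G, the number k(X) of conjugacy classes of X satisfies k(X) ≤ (order of C)·(order of V) − ((order of G) − k(G)); the statement is written with the subtracted term moved to the left. In particular, if some v in V is centralized by no nonidentity element of G, then k(X) is at most the order of V. -/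
theorem result {X : Type*} [Group X] [Finite X] (p : ℕ) [Fact p.Prime] (V : Subgroup X) [V.Normal] (hVp : IsPGroup p V) (hidx : ¬ p ∣ V.index) (hab : ∀ a ∈ V, ∀ b ∈ V, a * b = b * a) (G : Subgroup X) (hGV : Subgroup.IsComplement' V G) (v : X) (hv : v ∈ V) : Nat.card (ConjClasses X) + Nat.card G ≤ Nat.card ↥(G ⊓ Subgroup.centralizer ({v} : Set X)) * Nat.card V + Nat.card (ConjClasses G) := by
  classical
  cases nonempty_fintype X
  have hp : p.Prime := Fact.out
  set n := Nat.card X with hn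
  have hov : orderOf v ∣ n := orderOf_dvd_natCard v
  set S : Finset X := ((Finset.range (n + 1)).filter fun i => n.Coprime i).image (fun i => v ^ i)
    with hS
  have hmemS : ∀ i : ℕ, n.Coprime i → v ^ i ∈ S := by
    intro i hi
    rw [← pow_mod_orderOf]
    by_cases h1 : n = 1
    · refine Finset.mem_image.mpr ⟨0, ?_, ?_⟩
      · simp [h1]
      · have hv1 : orderOf v = 1 := Nat.dvd_one.mp (h1 ▸ hov)
        simp [hv1, Nat.mod_one]
    · rw [pow_mod_orderOf, ← Nat.div_add_mod i n, pow_add, pow_mul,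
        orderOf_dvd_iff_pow_eq_one.mp hov, one_pow, one_mul]
      refine Finset.mem_image.mpr ⟨i % n, Finset.mem_filter.mpr
        ⟨Finset.mem_range.mpr (Nat.lt_succ_of_lt (Nat.mod_lt i (Nat.card_pos (α := X)))), ?_⟩, rfl⟩
      rw [Nat.coprime_iff_gcd_eq_one, Nat.gcd_comm, ← Nat.gcd_rec]
      exact hi
  have hSclosed : ∀ g ∈ S, ∀ j : ℕ, n.Coprime j → g ^ j ∈ S := by
    intro g hg j hj
    obtain ⟨i, hi, rfl⟩ := Finset.mem_image.mp hg
    rw [← pow_mul]
    exact hmemS _ (Nat.Coprime.mul_right (Finset.mem_filter.mp hi).2 hj)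
  have hScent : ∀ g ∈ S, Subgroup.centralizer ({g} : Set X) = Subgroup.centralizer ({v} : Set X) := by
    intro g hg
    obtain ⟨i, hi, rfl⟩ := Finset.mem_image.mp hg
    obtain ⟨m, hm⟩ := exists_pow_eq_self_of_coprime
      (((Finset.mem_filter.mp hi).2.coprime_dvd_left hov).symm)
    ext y
    simp only [Subgroup.mem_centralizer_singleton_iff]
    constructor
    · intro h
      have h' : Commute y (v ^ i) := h
      exact hm ▸ (h'.pow_right m)
    · intro h
      exact (Commute.pow_right h i)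
  have hpdeg : ∀ χ : Cfsg.IrrCharacter X, ¬ p ∣ Cfsg.charDegree (χ : X → ℂ) := fun χ hd =>
    hidx (hd.trans (deg_dvd_index V
      (fun a b => Subtype.ext (hab a a.2 b b.2)) χ))
  have hne : ∀ χ : Cfsg.IrrCharacter X, ∀ g ∈ S, (χ : X → ℂ) g ≠ 0 := by
    intro χ g hg
    obtain ⟨i, -, rfl⟩ := Finset.mem_image.mp hg
    obtain ⟨k, hk⟩ := (IsPGroup.iff_orderOf.mp hVp) ⟨v ^ i, V.pow_mem hv i⟩
    exact apply_ne_zero_of_not_dvd p χ (hpdeg χ) _ ⟨k, by rwa [Subgroup.orderOf_mk] at hk⟩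
  set A := Finset.univ.filter (fun χ : Cfsg.IrrCharacter X =>
    ∀ x ∈ V, (χ : X → ℂ) x = (χ : X → ℂ) 1) with hA
  have htriv : ∀ χ ∈ A, ∀ g ∈ S, ‖(χ : X → ℂ) g‖ ^ 2 =
      ((Cfsg.charDegree (χ : X → ℂ) ^ 2 : ℕ) : ℝ) := by
    intro χ hχ g hg
    obtain ⟨i, -, rfl⟩ := Finset.mem_image.mp hg
    rw [(Finset.mem_filter.mp hχ).2 _ (V.pow_mem hv i), norm_apply_one, Nat.cast_pow]
  have hsum2 : ∀ χ : Cfsg.IrrCharacter X, (S.card : ℝ) ≤ ∑ g ∈ S, ‖(χ : X → ℂ) g‖ ^ 2 := by
    intro χ
    obtain ⟨m, ρ, hirr, hρ⟩ := χ.2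
    rw [← hρ]
    exact CharTools.card_le_sum_pow 2 ρ S hSclosed (fun g hg => by rw [hρ]; exact hne χ g hg)
  have hmain : (S.card : ℝ) * ((∑ χ ∈ A, Cfsg.charDegree (χ : X → ℂ) ^ 2 +
      (Finset.univ \ A).card : ℕ) : ℝ) ≤
      (S.card : ℝ) * Nat.card (Subgroup.centralizer ({v} : Set X)) := by
    have h1 : (S.card : ℝ) * Nat.card (Subgroup.centralizer ({v} : Set X)) =
        ∑ χ : Cfsg.IrrCharacter X, ∑ g ∈ S, ‖(χ : X → ℂ) g‖ ^ 2 := by
      rw [Finset.sum_comm, Finset.sum_congr rfl fun g hg => by rw [sum_norm_sq_col, hScent g hg],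
        Finset.sum_const, nsmul_eq_mul]
    rw [h1, ← Finset.sum_sdiff (Finset.subset_univ A), Nat.cast_add, mul_add, add_comm]
    refine add_le_add ?_ (le_of_eq ?_)
    · refine le_trans (le_of_eq ?_) (Finset.sum_le_sum fun χ _ => hsum2 χ)
      rw [Finset.sum_const, nsmul_eq_mul, mul_comm]
    · rw [Nat.cast_sum, Finset.mul_sum]
      refine Finset.sum_congr rfl fun χ hχ => ?_
      rw [Finset.sum_congr rfl (htriv χ hχ), Finset.sum_const, nsmul_eq_mul]
  have hSpos : 0 < S.card :=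
    Finset.card_pos.mpr ⟨v ^ 1, hmemS 1 (Nat.coprime_one_right n)⟩
  have hnat : ∑ χ ∈ A, Cfsg.charDegree (χ : X → ℂ) ^ 2 + (Finset.univ \ A).card ≤
      Nat.card (Subgroup.centralizer ({v} : Set X)) := by
    exact_mod_cast le_of_mul_le_mul_left hmain (Nat.cast_pos.mpr hSpos)
  have hA2 : ∑ χ ∈ A, Cfsg.charDegree (χ : X → ℂ) ^ 2 = Nat.card G := by
    rw [← (Subgroup.IsComplement'.symm hGV).index_eq_card, Subgroup.index,
      ← sum_deg_sq (G := X ⧸ V), hA, Finset.sum_subtype _ (p := fun χ : Cfsg.IrrCharacter X =>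
        ∀ x ∈ V, (χ : X → ℂ) x = (χ : X → ℂ) 1) (fun χ => by simp),
      ← Equiv.sum_comp (irrQuotientEquiv V)]
    rfl
  have hA3 : A.card = Nat.card (ConjClasses G) := by
    rw [hA, ← Fintype.card_subtype, ← Nat.card_eq_fintype_card,
      ← Nat.card_congr (irrQuotientEquiv V), card_irrCharacter]
    let e : X ⧸ V ≃* G := ((Subgroup.IsComplement'.symm hGV).QuotientMulEquiv).symm.symm
    exact Nat.card_congr
      { toFun := ConjClasses.map e.toMonoidHom
        invFun := ConjClasses.map e.symm.toMonoidHom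
        left_inv := fun c => by
          obtain ⟨g, rfl⟩ := ConjClasses.exists_rep c
          exact congrArg ConjClasses.mk (e.symm_apply_apply g)
        right_inv := fun c => by
          obtain ⟨g, rfl⟩ := ConjClasses.exists_rep c
          exact congrArg ConjClasses.mk (e.apply_symm_apply g) }
  have hcardsd : (Finset.univ \ A).card + A.card = Nat.card (ConjClasses X) := by
    rw [Finset.card_sdiff_add_card_eq_card (Finset.subset_univ A), Finset.card_univ,
      ← Nat.card_eq_fintype_card, card_irrCharacter]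
  rw [card_centralizer_eq V hab G hGV v hv] at hnat
  rw [mul_comm]
  omega

end Cfsg.Agent.S4955
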