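import Cfsg.Statements.S4956
import Mathlib
-- import your own Cfsg.Agent.* helpers here

set_option autoImplicit false
open Cfsg

namespace Cfsg.Agent.S4956

variable {X : Type*} [Group X] [Finite X] {V : Subgroup X} [V.Normal] {G : Subgroup X}

/-- Coprime decomposition: every element is conjugate to `c * g` with `c ∈ V` commuting with `g`. -/
theorem exists_conj_commute (hab : ∀ a ∈ V, ∀ b ∈ V, a * b = b * a)
    (hGV : Subgroup.IsComplement' V G) (hcop : (Nat.card V).Coprime (Nat.card G)) (x : X) :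
    ∃ c ∈ V, ∃ g ∈ G, g * c * g⁻¹ = c ∧ IsConj x (c * g) := by
  obtain ⟨⟨⟨v, hv⟩, ⟨g, hg⟩⟩, rfl⟩ := hGV.2 x
  let T : V ≃* V := MulAut.conjNormal g
  have hTv : ∀ w : V, ((T w : V) : X) = g * w * g⁻¹ := fun w => rfl
  have hc : ∀ a b : V, a * b = b * a := fun a b => Subtype.ext (hab a a.2 b b.2)
  let φ : V →* V := MonoidHom.mk' (fun w => w * (T w)⁻¹) fun a b => by
    rw [map_mul, mul_inv_rev, hc (T b)⁻¹ (T a)⁻¹, mul_assoc a b, ← mul_assoc b,
      hc b (T a)⁻¹, mul_assoc, ← mul_assoc a]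
  have key : ∀ u ∈ φ.range, φ u = 1 → u = 1 := by
    rintro _ ⟨w, rfl⟩ hu
    have hfix : T (φ w) = φ w := (eq_of_mul_inv_eq_one hu).symm
    have hTw : T w = (φ w)⁻¹ * w := by
      show T w = (w * (T w)⁻¹)⁻¹ * w
      rw [mul_inv_rev, inv_inv, mul_assoc, inv_mul_cancel, mul_one]
    have hiter : ∀ i : ℕ, ((g ^ i * w * (g ^ i)⁻¹ : X)) = ((φ w)⁻¹ ^ i * w : V) := by
      intro i
      induction i with
      | zero => simp
      | succ i ih =>
        rw [pow_succ' g, show g * g ^ i * w * (g * g ^ i)⁻¹ = g * (g ^ i * w * (g ^ i)⁻¹) * g⁻¹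
          by group, ih, ← hTv, map_mul, map_pow, map_inv, hfix, hTw, pow_succ, mul_assoc]
    have h1 := hiter (Nat.card G)
    rw [orderOf_dvd_iff_pow_eq_one.mp (Subgroup.orderOf_dvd_natCard G hg), one_mul, inv_one,
      mul_one] at h1
    have h2 : (φ w)⁻¹ ^ Nat.card G = 1 :=
      mul_right_cancel (b := w) (by rw [one_mul]; exact (Subtype.ext h1).symm)
    rw [inv_pow, inv_eq_one] at h2
    have := Nat.dvd_gcd (orderOf_dvd_natCard (φ w)) (orderOf_dvd_of_pow_eq_one h2)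
    rw [hcop.gcd_eq_one, Nat.dvd_one, orderOf_eq_one_iff] at this
    exact this
  let ψ : φ.range →* φ.range := MonoidHom.mk' (fun u => ⟨φ u, u, rfl⟩)
    fun a b => Subtype.ext (map_mul φ (a : V) b)
  have hψ : Function.Injective ψ := (injective_iff_map_eq_one ψ).mpr fun u hu =>
    Subtype.ext (key u u.2 (congrArg Subtype.val hu))
  obtain ⟨u, hu⟩ := (Finite.surjective_of_injective hψ) ⟨φ ⟨v, hv⟩, ⟨v, hv⟩, rfl⟩
  have hu' : φ (u : V) = φ ⟨v, hv⟩ := congrArg Subtype.val hu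
  obtain ⟨w, hw⟩ := u.2
  set c : V := ⟨v, hv⟩ * (φ w)⁻¹ with hc'
  have hφc : φ c = 1 := by rw [hc', map_mul, map_inv, hw, hu', mul_inv_cancel]
  refine ⟨c, c.2, g, hg, ?_, ?_⟩
  · have h1 : T c = c := (eq_of_mul_inv_eq_one hφc).symm
    rw [← hTv, h1]
  · refine isConj_iff.mpr ⟨(w : X)⁻¹, ?_⟩
    have h2 : ((c : V) : X) = v * ((g * w * g⁻¹) * (w : X)⁻¹) := by
      rw [hc', show φ w = w * (T w)⁻¹ from rfl]
      simp [hTv, mul_assoc]
    show (w : X)⁻¹ * (v * g) * (w : X)⁻¹⁻¹ = c * g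
    rw [h2, inv_inv,
      show (w : X)⁻¹ * (v * g) * w = ((w : X)⁻¹ * v) * (g * w * g⁻¹) * g by group,
      hab _ (V.inv_mem w.2) v hv, mul_assoc v, hab _ (V.inv_mem w.2) _ (‹V.Normal›.conj_mem _ w.2 g)]


/-- Let X be a finite group, V an abelian normal subgroup of X (any two elements of V commute) and G a complement to V in X whose order is coprime to that of V. Let S be a set of representatives of the orbits of G on V under conjugation: S lies in V and every element of V is conjugate under G to exactly one member of S. Then the number of conjugacy classes of X equals the sum, over s in S, of the number of conjugacy classes of the centralizer of s in G. -/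
theorem result {X : Type*} [Group X] [Finite X] (V : Subgroup X) [V.Normal] (hab : ∀ a ∈ V, ∀ b ∈ V, a * b = b * a) (G : Subgroup X) (hGV : Subgroup.IsComplement' V G) (hcop : (Nat.card V).Coprime (Nat.card G)) (S : Finset X) (hSV : ∀ s ∈ S, s ∈ V) (hrep : ∀ v ∈ V, ∃! s, s ∈ S ∧ ∃ g ∈ G, g * v * g⁻¹ = s) : Nat.card (ConjClasses X) = ∑ s ∈ S, Nat.card (ConjClasses ↥(G ⊓ Subgroup.centralizer ({s} : Set X))) := by
  classical
  cases nonempty_fintype X
  let F : (Σ s : S, ConjClasses ↥(G ⊓ Subgroup.centralizer ({(s : X)} : Set X))) → ConjClasses X :=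
    fun z => Quotient.lift (s := IsConj.setoid ↥(G ⊓ Subgroup.centralizer ({(z.1 : X)} : Set X)))
      (fun g => ConjClasses.mk ((z.1 : X) * (g : X))) (fun a b hab' => by
      obtain ⟨c, hc⟩ := isConj_iff.mp (hab' : IsConj a b)
      refine ConjClasses.mk_eq_mk_iff_isConj.mpr (isConj_iff.mpr ⟨(c : X), ?_⟩)
      have h1 : (c : X) * z.1 = z.1 * c := Subgroup.mem_centralizer_singleton_iff.mp c.2.2
      rw [← mul_assoc, h1, mul_assoc, mul_assoc, ← mul_assoc (c : X), ← hc]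
      rfl) z.2
  have hbij : Function.Bijective F := by
    constructor
    · rintro ⟨⟨s₁, hs₁⟩, c₁⟩ ⟨⟨s₂, hs₂⟩, c₂⟩ h
      obtain ⟨a, rfl⟩ := ConjClasses.exists_rep c₁
      obtain ⟨b, rfl⟩ := ConjClasses.exists_rep c₂
      obtain ⟨y, hy⟩ := isConj_iff.mp (ConjClasses.mk_eq_mk_iff_isConj.mp h)
      simp only at hy
      obtain ⟨⟨⟨v, hv⟩, ⟨k, hk⟩⟩, rfl⟩ := hGV.2 y
      simp only at hy
      obtain ⟨m, hm1, hm0⟩ := Nat.chineseRemainder hcop 1 0
      have hpow : ∀ (s : X), s ∈ V → ∀ t : X, t ∈ G → Commute s t → (s * t) ^ m = s := by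
        intro s hs t ht hst
        have e1 : s ^ m = s ^ 1 := pow_eq_pow_iff_modEq.mpr
          (Nat.ModEq.of_dvd (Subgroup.orderOf_dvd_natCard V hs) hm1)
        have e2 : t ^ m = t ^ 0 := pow_eq_pow_iff_modEq.mpr
          (Nat.ModEq.of_dvd (Subgroup.orderOf_dvd_natCard G ht) hm0)
        rw [hst.mul_pow, e1, e2, pow_zero, mul_one, pow_one]
      have hca : Commute s₁ (a : X) := (Subgroup.mem_centralizer_singleton_iff.mp a.2.2).symm
      have hcb : Commute s₂ (b : X) := (Subgroup.mem_centralizer_singleton_iff.mp b.2.2).symm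
      have h1 := congrArg (· ^ m) hy
      simp only [conj_pow, hpow s₁ (hSV _ hs₁) _ a.2.1 hca, hpow s₂ (hSV _ hs₂) _ b.2.1 hcb] at h1
      have hks : k * s₁ * k⁻¹ ∈ V := ‹V.Normal›.conj_mem _ (hSV _ hs₁) k
      have h2 : k * s₁ * k⁻¹ = s₂ := by
        rw [← h1, show v * k * s₁ * (v * k)⁻¹ = v * (k * s₁ * k⁻¹) * v⁻¹ by group,
          hab v hv _ hks, mul_inv_cancel_right]
      have hs : s₁ = s₂ := (hrep s₁ (hSV _ hs₁)).unique ⟨hs₁, 1, one_mem _, by simp⟩
        ⟨hs₂, k, hk, h2⟩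
      subst hs
      have hkC : k ∈ G ⊓ Subgroup.centralizer ({s₁} : Set X) :=
        ⟨hk, Subgroup.mem_centralizer_singleton_iff.mpr (mul_inv_eq_iff_eq_mul.mp h2)⟩
      have h3 : v * (k * a * k⁻¹) * v⁻¹ = b := by
        have h4 : s₁ * (v * (k * a * k⁻¹) * v⁻¹) = s₁ * b := by
          calc s₁ * (v * (k * a * k⁻¹) * v⁻¹) = (s₁ * v) * (k * a * k⁻¹) * v⁻¹ := by group
            _ = v * ((k * s₁ * k⁻¹) * (k * a * k⁻¹)) * v⁻¹ := by
              rw [hab s₁ (hSV _ hs₁) v hv, h2]; group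
            _ = v * k * (s₁ * a) * (v * k)⁻¹ := by group
            _ = _ := hy
        exact mul_left_cancel h4
      set d := k * (a : X) * k⁻¹
      have hd : d ∈ G := mul_mem (mul_mem hk a.2.1) (inv_mem hk)
      have h5 : (b : X) * d⁻¹ ∈ V := by
        rw [← h3, show v * d * v⁻¹ * d⁻¹ = v * (d * v⁻¹ * d⁻¹) by group]
        exact mul_mem hv (‹V.Normal›.conj_mem _ (inv_mem hv) d)
      have h6 : (b : X) * d⁻¹ = 1 :=
        Subgroup.disjoint_def.mp hGV.disjoint h5 (mul_mem b.2.1 (inv_mem hd))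
      have h7 : IsConj a b :=
        isConj_iff.mpr ⟨⟨k, hkC⟩, Subtype.ext (mul_inv_eq_one.mp h6).symm⟩
      rw [ConjClasses.mk_eq_mk_iff_isConj.mpr h7]
    · intro C
      obtain ⟨x, rfl⟩ := ConjClasses.exists_rep C
      obtain ⟨c, hc, g, hg, hcg, hxc⟩ := exists_conj_commute hab hGV hcop x
      obtain ⟨s, ⟨hs, k, hk, hks⟩, -⟩ := hrep c hc
      have hg' : k * g * k⁻¹ ∈ G ⊓ Subgroup.centralizer ({s} : Set X) := by
        refine ⟨G.mul_mem (G.mul_mem hk hg) (G.inv_mem hk), Subgroup.mem_centralizer_singleton_iff.mpr ?_⟩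
        have h : g * c = c * g := mul_inv_eq_iff_eq_mul.mp hcg
        rw [← hks, show k * g * k⁻¹ * (k * c * k⁻¹) = k * (g * c) * k⁻¹ by group, h]
        group
      refine ⟨⟨⟨s, hs⟩, ConjClasses.mk ⟨_, hg'⟩⟩, ConjClasses.mk_eq_mk_iff_isConj.mpr
        (IsConj.trans ?_ hxc.symm)⟩
      refine (isConj_iff.mpr ⟨k, ?_⟩).symm
      show k * (c * g) * k⁻¹ = s * (k * g * k⁻¹)
      rw [← hks]
      group
  rw [← Nat.card_eq_of_bijective F hbij, Nat.card_sigma]
  exact Finset.sum_coe_sort S (fun s => Nat.card (ConjClasses ↥(G ⊓ Subgroup.centralizer ({s} : Set X))))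

end Cfsg.Agent.S4956
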