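import Cfsg.Statements.S4958
import Cfsg.Agent.Lib.DegreeTools.KGV.Gauss

set_option autoImplicit false
open Cfsg

namespace Cfsg.Agent.S4958

open CfsgLib CfsgLib.DegreeTools.KGV

/-- Let X be a finite group and V a normal subgroup of X in which every element has order dividing the prime p, whose index in X is prime to p and which is its own centralizer in X; so V is an elementary abelian normal Sylow p-subgroup, and any complement G to V in X is a group of order prime to p acting faithfully on the vector space V by conjugation (the coprime linear setting of the k(GV) problem). Let G be a complement to V in X and suppose that for some v in V the centralizer of v in G is abelian. Then the number of conjugacy classes of X is at most the order of V (the abelian-stabilizer criterion for the k(GV) problem). -/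
theorem result {X : Type*} [Group X] [Finite X] (p : ℕ) [Fact p.Prime] (V : Subgroup X) [V.Normal] (hVexp : ∀ v ∈ V, v ^ p = 1) (hidx : ¬ p ∣ V.index) (hself : Subgroup.centralizer (V : Set X) = V) (G : Subgroup X) (hGV : Subgroup.IsComplement' V G) (v : X) (hv : v ∈ V) (hab : ∀ a ∈ G ⊓ Subgroup.centralizer ({v} : Set X), ∀ b ∈ G ⊓ Subgroup.centralizer ({v} : Set X), a * b = b * a) : Nat.card (ConjClasses X) ≤ Nat.card V := by
  have := Fintype.ofFinite X
  have hVab : ∀ a b : V, a * b = b * a := fun a b => Subtype.ext
    (((Subgroup.mem_centralizer_iff.1 (hself.symm ▸ a.2 :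
      (a : X) ∈ Subgroup.centralizer (V : Set X))) b b.2).symm)
  set H := G ⊓ Subgroup.centralizer ({v} : Set X) with hHdef
  have hH : ∀ g, g ∈ H ↔ g ∈ G ∧ g * v = v * g := fun g => by
    rw [hHdef, Subgroup.mem_inf, Subgroup.mem_centralizer_singleton_iff]
  letI : CommGroup H := { (inferInstance : Group H) with
    mul_comm := fun a b => Subtype.ext (hab a a.2 b b.2) }
  letI : CommGroup V := { (inferInstance : Group V) with mul_comm := hVab }
  let ρ : H →* AddMonoid.End (Additive V) :=
    { toFun := fun h => MonoidHom.toAdditive (MulAut.conjNormal (h : X) : V ≃* V).toMonoidHom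
      map_one' := AddMonoidHom.ext fun a => Additive.toMul.injective (Subtype.ext (by simp; rfl))
      map_mul' := fun a b => AddMonoidHom.ext fun w => Additive.toMul.injective (Subtype.ext (by
        show ((a : X) * b) * ((Additive.toMul w : V) : X) * ((a : X) * b)⁻¹
          = (a : X) * ((b : X) * ((Additive.toMul w : V) : X) * (b : X)⁻¹) * (a : X)⁻¹
        group)) }
  have hρ : ∀ (h : H) (a : Additive V),
      ((Additive.toMul (ρ h a) : V) : X) = (h : X) * (Additive.toMul a : V) * (h : X)⁻¹ :=
    fun h a => rfl
  have := Fintype.ofFinite H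
  have hpH : ¬ p ∣ Nat.card H := fun h => hidx (by
    rw [hGV.symm.index_eq_card]
    exact h.trans (Subgroup.card_dvd_of_le inf_le_left))
  have hN : 0 < p * Nat.card H := Nat.mul_pos (Fact.out : p.Prime).pos Nat.card_pos
  have hξ := Complex.isPrimitiveRoot_exp (p * Nat.card H) hN.ne'
  obtain ⟨g, hg, hg1, hgs, hgn⟩ := exists_good hN (dvd_mul_right p _) hξ hpH _ (Additive V) ρ
    (fun a => Additive.toMul.injective (Subtype.ext (hVexp _ (Additive.toMul a).2))) le_rfl
  choose n hn hle using hgn
  refine card_classes_le V hVab hidx G hGV v hv (hVexp v hv) H hH hN (dvd_mul_right p _) hξ g hg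
    hg1 (fun h hh => hgs h fun h1 => hh ?_) n hn fun h => ?_
  · -- a nontrivial element of `H` moves `V`
    have hc : (h : X) ∈ Subgroup.centralizer (V : Set X) :=
      Subgroup.mem_centralizer_iff.2 fun w hw => by
        have := hρ h (Additive.ofMul ⟨w, hw⟩)
        rw [h1] at this
        exact eq_mul_inv_iff_mul_eq.1 this
    rw [hself] at hc
    exact Subtype.ext (Subgroup.disjoint_def.1 hGV.disjoint hc ((hH h).1 h.2).1)
  · refine (Nat.mul_le_mul_right _ (hle h)).trans (le_of_eq ?_)
    set f : Additive V →+ Additive V := ((ρ h - 1 : AddMonoid.End (Additive V)))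
    have hker : Nat.card {x : X // x ∈ V ∧ x * (h : X) = (h : X) * x} = Nat.card f.ker := by
      refine Nat.card_congr
        { toFun := fun x => ⟨Additive.ofMul ⟨x.1, x.2.1⟩, sub_eq_zero.2 (Additive.toMul.injective
            (Subtype.ext ((hρ h _).trans (mul_inv_eq_iff_eq_mul.2 x.2.2.symm))))⟩
          invFun := fun a => ⟨((Additive.toMul a.1 : V) : X), (Additive.toMul a.1).2, by
            have h0 : ρ h a.1 = a.1 := sub_eq_zero.1 a.2
            have := hρ h a.1
            rw [h0] at this
            exact eq_mul_inv_iff_mul_eq.1 this⟩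
          left_inv := fun x => rfl
          right_inv := fun a => rfl }
    rw [hker, mul_comm]
    show Nat.card f.ker * Nat.card f.range = Nat.card (Additive V)
    rw [← AddSubgroup.index_ker, AddSubgroup.card_mul_index]

end Cfsg.Agent.S4958
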