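import Cfsg.Statements.S4959
import Cfsg.Agent.Lib.DegreeTools.KGV.SelfDual

set_option autoImplicit false
open Cfsg

namespace Cfsg.Agent.S4959

open CfsgLib CfsgLib.DegreeTools.KGV

/-- Let X be a finite group and V a normal subgroup of X in which every element has order dividing the prime p, whose index in X is prime to p and which is its own centralizer in X; so V is an elementary abelian normal Sylow p-subgroup, and any complement G to V in X is a group of order prime to p acting faithfully on the vector space V by conjugation (the coprime linear setting of the k(GV) problem). Let G be a complement to V in X, let v be in V and let H be the centralizer of v in G. Suppose there is a subgroup U of V normalized by H, on which H acts faithfully, and carrying an H-invariant bi-additive pairing β with values in the integers modulo p that is nondegenerate on U (equivalently: the restriction of the module V to H has a faithful self-dual submodule; such a v is called a real vector for G). Then the number of conjugacy classes of X is at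 most the order of V (the real-vector criterion for the k(GV) problem). The pairing is given as a function on X whose relevant values are those on pairs from U. -/
theorem result {X : Type*} [Group X] [Finite X] (p : ℕ) [Fact p.Prime] (V : Subgroup X) [V.Normal] (hVexp : ∀ v ∈ V, v ^ p = 1) (hidx : ¬ p ∣ V.index) (hself : Subgroup.centralizer (V : Set X) = V) (G : Subgroup X) (hGV : Subgroup.IsComplement' V G) (v : X) (hv : v ∈ V) (U : Subgroup X) (hUV : U ≤ V) (hUinv : ∀ h ∈ G, h * v * h⁻¹ = v → ∀ u ∈ U, h * u * h⁻¹ ∈ U) (hUfaith : ∀ h ∈ G, h * v * h⁻¹ = v → (∀ u ∈ U, h * u * h⁻¹ = u) → h = 1) (β : X → X → ZMod p) (hβl : ∀ u ∈ U, ∀ u' ∈ U, ∀ w ∈ U, β (u * u') w = β u w + β u' w) (hβr : ∀ u ∈ U, ∀ w ∈ U, ∀ w' ∈ U, β u (w * w') = β u w + β u w') (hβinv : ∀ h ∈ G, h * v * h⁻¹ = v → ∀ u ∈ U, ∀ w ∈ U, β (h * u * h⁻¹) (h * w * h⁻¹) = β u w) (hβnd : ∀ u ∈ U, (∀ w ∈ U, β u w = 0) → u = 1) : Nat.card (ConjClasses X) ≤ Nat.card V := by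
  have := Fintype.ofFinite X
  have hVab : ∀ a b : V, a * b = b * a := fun a b => Subtype.ext
    (((Subgroup.mem_centralizer_iff.1 (hself.symm ▸ a.2 :
      (a : X) ∈ Subgroup.centralizer (V : Set X))) b b.2).symm)
  set H := G ⊓ Subgroup.centralizer ({v} : Set X) with hHdef
  have hH : ∀ g, g ∈ H ↔ g ∈ G ∧ g * v = v * g := fun g => by
    rw [hHdef, Subgroup.mem_inf, Subgroup.mem_centralizer_singleton_iff]
  letI : CommGroup V := { (inferInstance : Group V) with mul_comm := hVab }
  let ρ : H →* AddMonoid.End (Additive V) :=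
    { toFun := fun h => MonoidHom.toAdditive (MulAut.conjNormal (h : X) : V ≃* V).toMonoidHom
      map_one' := AddMonoidHom.ext fun a => Additive.toMul.injective (Subtype.ext (by simp; rfl))
      map_mul' := fun a b => AddMonoidHom.ext fun w => Additive.toMul.injective (Subtype.ext (by
        show ((a : X) * b) * ((Additive.toMul w : V) : X) * ((a : X) * b)⁻¹
          = (a : X) * ((b : X) * ((Additive.toMul w : V) : X) * (b : X)⁻¹) * (a : X)⁻¹
        group)) }
  have hρ : ∀ (h : H) (a : Additive V),
      ((Additive.toMul (ρ h a) : V) : X) = (h : X) * (Additive.toMul a : V) * (h : X)⁻¹ :=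
    fun h a => rfl
  have hfixv : ∀ h : H, (h : X) * v * (h : X)⁻¹ = v := fun h =>
    mul_inv_eq_iff_eq_mul.2 ((hH h).1 h.2).2
  have := Fintype.ofFinite H
  have hpH : ¬ p ∣ Nat.card H := fun h => hidx (by
    rw [hGV.symm.index_eq_card]
    exact h.trans (Subgroup.card_dvd_of_le inf_le_left))
  have hN : 0 < p * Nat.card H := Nat.mul_pos (Fact.out : p.Prime).pos Nat.card_pos
  have hξ := Complex.isPrimitiveRoot_exp (p * Nat.card H) hN.ne'
  let W : AddSubgroup (Additive V) := Subgroup.toAddSubgroup (U.subgroupOf V)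
  have hmem : ∀ a : Additive V, a ∈ W ↔ ((Additive.toMul a : V) : X) ∈ U := fun a => Iff.rfl
  have hW : ∀ h, ∀ w ∈ W, ρ h w ∈ W := fun h w hw => (hmem _).2 (by
    rw [hρ]
    exact hUinv h ((hH h).1 h.2).1 (hfixv h) _ ((hmem w).1 hw))
  let B : W →+ W →+ ZMod p := AddMonoidHom.mk'
    (fun a => AddMonoidHom.mk' (fun b => β (Additive.toMul (a : Additive V) : V)
        (Additive.toMul (b : Additive V) : V))
      fun b b' => hβr _ a.2 _ b.2 _ b'.2)
    fun a a' => AddMonoidHom.ext fun b => hβl _ a.2 _ a'.2 _ b.2
  have hexpA : ∀ a : Additive V, p • a = 0 := fun a =>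
    Additive.toMul.injective (Subtype.ext (hVexp _ (Additive.toMul a).2))
  obtain ⟨g, hg, hg1, hgs, hgn⟩ := exists_good_selfDual hN (dvd_mul_right p _) hξ
    (dvd_mul_left _ p) hpH _ W (restr ρ W hW) B (fun a => Subtype.ext (hexpA a.1))
    (fun h a b => hβinv h ((hH h).1 h.2).1 (hfixv h) _ a.2 _ b.2)
    (fun a ha => Subtype.ext (Additive.toMul.injective (Subtype.ext
      (hβnd _ a.2 fun w hw => ha ⟨Additive.ofMul ⟨w, hUV hw⟩, hw⟩)))) le_rfl
  choose n hn hle using hgn
  refine card_classes_le V hVab hidx G hGV v hv (hVexp v hv) H hH hN (dvd_mul_right p _) hξ g hg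
    hg1 (fun h hh => hgs h fun h1 => hh ?_) n hn fun h => ?_
  · refine Subtype.ext (hUfaith h ((hH h).1 h.2).1 (hfixv h) fun u hu => ?_)
    exact congrArg (fun f : AddMonoid.End W => ((Additive.toMul ((f ⟨Additive.ofMul ⟨u, hUV hu⟩,
      hu⟩ : W) : Additive V) : V) : X)) h1
  · have hW' : Nat.card (rangeSub (restr ρ W hW h)) ≤ Nat.card (rangeSub (ρ h)) := by
      refine Nat.card_le_card_of_injective (fun x => ⟨((x : W) : Additive V), ?_⟩) fun x y e =>
        Subtype.ext (Subtype.ext (congrArg (fun z : rangeSub (ρ h) => (z : Additive V)) e))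
      obtain ⟨w, hw⟩ := mem_rangeSub.1 x.2
      exact mem_rangeSub.2 ⟨w, congrArg Subtype.val hw⟩
    refine (Nat.mul_le_mul_right _ ((hle h).trans hW')).trans (le_of_eq ?_)
    have hker : Nat.card {x : X // x ∈ V ∧ x * (h : X) = (h : X) * x}
        = Nat.card (fixSub (ρ h)) := by
      refine Nat.card_congr
        { toFun := fun x => ⟨Additive.ofMul ⟨x.1, x.2.1⟩, mem_fixSub.2 (Additive.toMul.injective
            (Subtype.ext ((hρ h _).trans (mul_inv_eq_iff_eq_mul.2 x.2.2.symm))))⟩
          invFun := fun a => ⟨((Additive.toMul a.1 : V) : X), (Additive.toMul a.1).2, by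
            have h0 : ρ h a.1 = a.1 := mem_fixSub.1 a.2
            have := hρ h a.1
            rw [h0] at this
            exact eq_mul_inv_iff_mul_eq.1 this⟩
          left_inv := fun x => rfl
          right_inv := fun a => rfl }
    rw [hker, mul_comm, card_fix_mul_range]
    rfl

end Cfsg.Agent.S4959
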