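import Cfsg.Statements.S4965
import Mathlib.Tactic
import Mathlib.GroupTheory.GroupAction.CardCommute
-- import your own Cfsg.Agent.* helpers here

set_option autoImplicit false
open Cfsg

namespace Cfsg.Agent.S4965

open scoped Classical in
theorem commProb_aux {X : Type*} [Group X] [Finite X] (V : Subgroup X) [V.Normal]
    (φ : X ⧸ V →* MulAut ↥V)
    (hφ : ∀ (x : X) (v : ↥V), ((φ (QuotientGroup.mk x) v : ↥V) : X) = x * v * x⁻¹) :
    Nat.card {p : X × X // Commute p.1 p.2} ≤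
      Nat.card {p : SemidirectProduct ↥V (X ⧸ V) φ × SemidirectProduct ↥V (X ⧸ V) φ //
        Commute p.1 p.2} := by
  haveI : Finite (SemidirectProduct ↥V (X ⧸ V) φ) :=
    Finite.of_equiv _ SemidirectProduct.equivProd.symm
  let base : (X ⧸ V) → (X ⧸ V) → X × X := fun a b =>
    if h : ∃ p : X × X, Commute p.1 p.2 ∧ QuotientGroup.mk p.1 = a ∧ QuotientGroup.mk p.2 = b
    then h.choose else (1, 1)
  have hbase : ∀ x y : X, Commute x y →
      Commute (base (x : X ⧸ V) (y : X ⧸ V)).1 (base (x : X ⧸ V) (y : X ⧸ V)).2 ∧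
      ((base (x : X ⧸ V) (y : X ⧸ V)).1 : X ⧸ V) = (x : X ⧸ V) ∧
      ((base (x : X ⧸ V) (y : X ⧸ V)).2 : X ⧸ V) = (y : X ⧸ V) := by
    intro x y hxy
    have hex : ∃ p : X × X, Commute p.1 p.2 ∧ (p.1 : X ⧸ V) = (x : X ⧸ V) ∧
        (p.2 : X ⧸ V) = (y : X ⧸ V) := ⟨(x, y), hxy, rfl, rfl⟩
    simp only [base, dif_pos hex]
    exact hex.choose_spec
  have hmem : ∀ x x0 : X, (x0 : X ⧸ V) = (x : X ⧸ V) → x * x0⁻¹ ∈ V := by
    intro x x0 h
    have := (QuotientGroup.eq (s := V)).mp h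
    exact (Subgroup.Normal.mem_comm_iff ‹V.Normal›).mp this
  refine Nat.card_le_card_of_injective
    (fun p => ⟨(⟨⟨p.1.1 * (base (p.1.1 : X ⧸ V) (p.1.2 : X ⧸ V)).1⁻¹,
        hmem _ _ (hbase _ _ p.2).2.1⟩, (p.1.1 : X ⧸ V)⟩,
      ⟨⟨p.1.2 * (base (p.1.1 : X ⧸ V) (p.1.2 : X ⧸ V)).2⁻¹,
        hmem _ _ (hbase _ _ p.2).2.2⟩, (p.1.2 : X ⧸ V)⟩), ?_⟩) ?_
  · obtain ⟨⟨x, y⟩, hxy⟩ := p
    obtain ⟨hc, h1, h2⟩ := hbase x y hxy
    show _ * _ = _ * _
    refine SemidirectProduct.ext ?_ ?_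
    · simp only [SemidirectProduct.mul_left]
      apply Subtype.ext
      simp only [Subgroup.coe_mul]
      have e1 : φ (x : X ⧸ V) = φ ((base (x : X ⧸ V) (y : X ⧸ V)).1 : X ⧸ V) :=
        congrArg φ h1.symm
      have e2 : φ (y : X ⧸ V) = φ ((base (x : X ⧸ V) (y : X ⧸ V)).2 : X ⧸ V) :=
        congrArg φ h2.symm
      have key : ∀ x0 y0 : X, Commute x0 y0 →
          x * x0⁻¹ * (x0 * (y * y0⁻¹) * x0⁻¹) = y * y0⁻¹ * (y0 * (x * x0⁻¹) * y0⁻¹) := by
        intro x0 y0 h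
        calc x * x0⁻¹ * (x0 * (y * y0⁻¹) * x0⁻¹) = x * y * (x0 * y0)⁻¹ := by group
          _ = y * x * (y0 * x0)⁻¹ := by rw [h.eq, hxy.eq]
          _ = y * y0⁻¹ * (y0 * (x * x0⁻¹) * y0⁻¹) := by group
      rw [e1, e2, hφ, hφ]
      exact key _ _ hc
    · simp only [SemidirectProduct.mul_right]
      rw [← QuotientGroup.mk_mul, ← QuotientGroup.mk_mul, hxy.eq]
  · rintro ⟨⟨x, y⟩, hxy⟩ ⟨⟨x', y'⟩, hxy'⟩ h
    simp only [Subtype.mk.injEq, Prod.mk.injEq, SemidirectProduct.ext_iff] at h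
    obtain ⟨⟨h1, h2⟩, h3, h4⟩ := h
    rw [← h2, ← h4] at h1 h3
    simp only [mul_left_inj] at h1 h3
    simp [h1, h3]


/-- Let X be a finite group with an abelian normal subgroup V (any two elements of V commute), and let φ be the action of X ⧸ V on V induced by conjugation (well defined because V is abelian; the hypothesis hφ says that the class of x acts as conjugation by x). Then X has at most as many conjugacy classes as the semidirect product of V by X ⧸ V formed with this action: the split extension has the largest class number among extensions with the given action. -/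
theorem result {X : Type*} [Group X] [Finite X] (V : Subgroup X) [V.Normal] (hab : ∀ a ∈ V, ∀ b ∈ V, a * b = b * a) (φ : X ⧸ V →* MulAut ↥V) (hφ : ∀ (x : X) (v : ↥V), ((φ (QuotientGroup.mk x) v : ↥V) : X) = x * v * x⁻¹) : Nat.card (ConjClasses X) ≤ Nat.card (ConjClasses (SemidirectProduct ↥V (X ⧸ V) φ)) := by
  haveI : Finite (SemidirectProduct ↥V (X ⧸ V) φ) :=
    Finite.of_equiv _ SemidirectProduct.equivProd.symm
  have h := commProb_aux V φ hφ
  rw [card_comm_eq_card_conjClasses_mul_card, card_comm_eq_card_conjClasses_mul_card] at h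
  have hc : Nat.card (SemidirectProduct ↥V (X ⧸ V) φ) = Nat.card X := by
    rw [SemidirectProduct.card, Subgroup.card_eq_card_quotient_mul_card_subgroup V, mul_comm]
  rw [hc] at h
  exact Nat.le_of_mul_le_mul_right h Nat.card_pos


end Cfsg.Agent.S4965
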