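import Cfsg.Statements.S4967
import Mathlib.FieldTheory.Finite.Basic
import Mathlib.RingTheory.IntegralDomain
import Mathlib.LinearAlgebra.Dual.Lemmas
import Mathlib.LinearAlgebra.BilinearForm.Properties
import Mathlib.Tactic

set_option autoImplicit false
open Cfsg

namespace Cfsg.Agent.S4967

variable {F : Type*} [Field F] {H : Type*} [CommGroup H] {V : Type*} [AddCommGroup V] [Module F V]
  (ρ : Representation F H V)

/-- The algebra generated by the operators. -/
abbrev opAlg : Subalgebra F (Module.End F V) := Algebra.adjoin F (Set.range ρ)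

/-- An operator inside the algebra it generates. -/
def opElt : H →* opAlg ρ where
  toFun h := ⟨ρ h, Algebra.subset_adjoin ⟨h, rfl⟩⟩
  map_one' := Subtype.ext (map_one ρ)
  map_mul' a b := Subtype.ext (map_mul ρ a b)

theorem comm_range : ∀ a ∈ Set.range ρ, ∀ b ∈ Set.range ρ, a * b = b * a := by
  rintro _ ⟨a, rfl⟩ _ ⟨b, rfl⟩
  rw [← map_mul, ← map_mul, mul_comm]

theorem opAlg_comm (a b : opAlg ρ) : a * b = b * a :=
  (Algebra.isMulCommutative_adjoin F (comm_range ρ)).1.1 a b

theorem comm_op (a : opAlg ρ) (h : H) : (a : Module.End F V) * ρ h = ρ h * (a : Module.End F V) :=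
  congrArg Subtype.val (opAlg_comm ρ a (opElt ρ h))

variable (hirr : ∀ U : Submodule F V, (∀ h : H, ∀ u ∈ U, ρ h u ∈ U) → U = ⊥ ∨ U = ⊤)
include hirr

theorem injective_of_ne (a : opAlg ρ) (ha : a ≠ 0) (v : V) (hv : (a : Module.End F V) v = 0) :
    v = 0 := by
  rcases hirr (LinearMap.ker (a : Module.End F V)) (fun h u hu => by
    show (a : Module.End F V) (ρ h u) = 0
    rw [← Module.End.mul_apply, comm_op, Module.End.mul_apply, show (a : Module.End F V) u = 0 from hu,
      map_zero]) with hb | ht
  · exact hb.le hv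
  · exact absurd (Subtype.ext (LinearMap.ker_eq_top.1 ht)) ha

theorem surjective_ev {v : V} (hv : v ≠ 0) :
    Function.Surjective fun a : opAlg ρ => (a : Module.End F V) v := by
  rcases hirr (LinearMap.range ((LinearMap.applyₗ v).comp (opAlg ρ).val.toLinearMap))
    (fun h u hu => by
      obtain ⟨a, rfl⟩ := hu
      exact ⟨opElt ρ h * a, rfl⟩) with hb | ht
  · have : v ∈ LinearMap.range ((LinearMap.applyₗ v).comp (opAlg ρ).val.toLinearMap) := ⟨1, rfl⟩
    rw [hb, Submodule.mem_bot] at this
    exact absurd this hv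
  · intro w
    obtain ⟨a, ha⟩ := (ht ▸ Submodule.mem_top :
      w ∈ LinearMap.range ((LinearMap.applyₗ v).comp (opAlg ρ).val.toLinearMap))
    exact ⟨a, ha⟩

end Cfsg.Agent.S4967

namespace Cfsg.Agent.S4967

/-- Let F be a finite field with r elements and of characteristic p, H a finite abelian group of order prime to p, and V a faithful irreducible representation of H over F of dimension n (faithful: distinct elements act differently; irreducible: the only H-invariant subspaces are 0 and V). Call V self-dual when it carries a nondegenerate H-invariant bilinear form. If n = 1 and V is self-dual then H has order at most 2. If n ≥ 2 then V is self-dual if and only if n is even and the order of H divides r^(n/2) + 1. -/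
theorem result {F : Type*} [Field F] [Fintype F] (p : ℕ) [Fact p.Prime] [CharP F p] {H : Type*} [CommGroup H] [Finite H] (hcop : ¬ p ∣ Nat.card H) {V : Type*} [AddCommGroup V] [Module F V] [FiniteDimensional F V] (ρ : Representation F H V) (hfaith : Function.Injective ρ) (hirr : ∀ U : Submodule F V, (∀ h : H, ∀ u ∈ U, ρ h u ∈ U) → U = ⊥ ∨ U = ⊤) : (Module.finrank F V = 1 → (∃ B : LinearMap.BilinForm F V, B.Nondegenerate ∧ ∀ h : H, ∀ x y : V, B (ρ h x) (ρ h y) = B x y) → Nat.card H ≤ 2) ∧ (2 ≤ Module.finrank F V → ((∃ B : LinearMap.BilinForm F V, B.Nondegenerate ∧ ∀ h : H, ∀ x y : V, B (ρ h x) (ρ h y) = B x y) ↔ (Even (Module.finrank F V) ∧ Nat.card H ∣ Fintype.card F ^ (Module.finrank F V / 2) + 1))) := by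
  classical
  refine ⟨fun hn ⟨B, hB, hBinv⟩ => ?_, fun hn => ?_⟩
  · -- dimension one
    obtain ⟨v, hv, hv'⟩ := finrank_eq_one_iff'.1 hn
    have hBv : B v v ≠ 0 := fun h0 => hv (hB.1 v fun y => by
      obtain ⟨c, rfl⟩ := hv' y
      rw [map_smul, h0, smul_zero])
    choose c hc using fun h => hv' (ρ h v)
    have hc2 : ∀ h, c h = 1 ∨ c h = -1 := fun h => by
      have := hBinv h v v
      rw [← hc] at this
      simp only [map_smul, LinearMap.smul_apply, smul_eq_mul] at this
      exact sq_eq_one_iff.1 (mul_right_cancel₀ hBv (by linear_combination this : c h ^ 2 * B v v = 1 * B v v))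
    have hinj : Function.Injective fun h => decide (c h = 1) := fun a b e => hfaith (LinearMap.ext fun y => by
      obtain ⟨t, rfl⟩ := hv' y
      have : c a = c b := by
        by_cases h1 : c a = 1
        · have : c b = 1 := by simpa [h1] using e.symm
          rw [h1, this]
        · have h2 : c b ≠ 1 := fun h => h1 (by simpa [h] using e)
          rw [(hc2 a).resolve_left h1, (hc2 b).resolve_left h2]
      rw [map_smul, map_smul, ← hc, ← hc, this])
    exact (Nat.card_le_card_of_injective _ hinj).trans (by simp)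
  have : Nontrivial V := Module.nontrivial_of_finrank_pos (R := F) (lt_of_lt_of_le two_pos hn)
  obtain ⟨v, hv⟩ := exists_ne (0 : V)
  letI : CommRing (opAlg ρ) := { (inferInstance : Ring (opAlg ρ)) with mul_comm := opAlg_comm ρ }
  haveI : Nontrivial (opAlg ρ) :=
    ⟨⟨0, 1, fun h => hv (congrArg (fun a : opAlg ρ => (a : Module.End F V) v) h).symm⟩⟩
  haveI : NoZeroDivisors (opAlg ρ) := ⟨fun {a b} h => by
    by_contra hc
    push Not at hc
    exact hv (injective_of_ne ρ hirr b hc.2 v (injective_of_ne ρ hirr a hc.1 _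
      (congrArg (fun z : opAlg ρ => (z : Module.End F V) v) h)))⟩
  haveI : IsDomain (opAlg ρ) := NoZeroDivisors.to_isDomain _
  let ev : opAlg ρ →ₗ[F] V := (LinearMap.applyₗ v).comp (opAlg ρ).val.toLinearMap
  have hev : Function.Bijective ev := ⟨(injective_iff_map_eq_zero ev).2 fun a ha => by
    by_contra hne
    exact hv (injective_of_ne ρ hirr a hne v ha), surjective_ev ρ hirr hv⟩
  let e := LinearEquiv.ofBijective ev hev
  haveI : FiniteDimensional F (opAlg ρ) := e.symm.finiteDimensional
  haveI : Finite (opAlg ρ) := Module.finite_of_finite F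
  haveI : Fintype (opAlg ρ) := Fintype.ofFinite _
  letI : Field (opAlg ρ) := (Finite.isField_of_domain (opAlg ρ)).toField
  have hdim : Module.finrank F (opAlg ρ) = Module.finrank F V := e.finrank_eq
  have hinj : Function.Injective (opElt ρ) := fun a b h => hfaith (congrArg Subtype.val h)
  have hcyc : IsCyclic H := isCyclic_of_injective_ringHom (opElt ρ) hinj
  have hord : ∀ a : opAlg ρ, a ^ (Fintype.card F ^ Module.finrank F V) = a := fun a => by
    rw [← hdim, ← Module.card_eq_pow_finrank]
    exact FiniteField.pow_card a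
  have hfrob : ∀ (j : ℕ) (a : opAlg ρ),
      (FiniteField.frobeniusAlgHom F (opAlg ρ) ^ j) a = a ^ (Fintype.card F ^ j) := fun j a => by
    rw [AlgHom.coe_pow, FiniteField.coe_frobeniusAlgHom, pow_iterate]
  constructor
  · rintro ⟨B, hB, hBinv⟩
    have hadj : ∀ a : opAlg ρ, ∃ b : opAlg ρ, ∀ x y,
        B ((a : Module.End F V) x) y = B x ((b : Module.End F V) y) := by
      rintro ⟨a, ha⟩
      induction ha using Algebra.adjoin_induction with
      | mem z hz =>
        obtain ⟨h, rfl⟩ := hz
        refine ⟨opElt ρ h⁻¹, fun x y => ?_⟩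
        show B (ρ h x) y = B x (ρ h⁻¹ y)
        conv_lhs => rw [← ρ.self_inv_apply h y, hBinv]
      | algebraMap r => exact ⟨algebraMap F _ r, fun x y => by simp [Algebra.algebraMap_eq_smul_one]⟩
      | add u w hu hw ihu ihw =>
        obtain ⟨b, hb⟩ := ihu
        obtain ⟨b', hb'⟩ := ihw
        exact ⟨b + b', fun x y => by simp [hb x y, hb' x y]⟩
      | mul u w hu hw ihu ihw =>
        obtain ⟨b, hb⟩ := ihu
        obtain ⟨b', hb'⟩ := ihw
        exact ⟨b' * b, fun x y => by simp [hb _ _, hb' _ _]⟩
    choose s hs using hadj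
    have hs' : ∀ a b : opAlg ρ, (∀ x y, B ((a : Module.End F V) x) y = B x ((b : Module.End F V) y)) →
        s a = b := fun a b h => Subtype.ext (LinearMap.ext fun y => sub_eq_zero.1 (hB.2 _ fun x => by
          rw [map_sub, ← hs, ← h, sub_self]))
    let σ : opAlg ρ →ₐ[F] opAlg ρ :=
      { toFun := s
        map_one' := hs' _ _ fun x y => rfl
        map_mul' := fun a b => hs' _ _ fun x y => by
          rw [mul_comm (s a) (s b)]
          simp [hs]
        map_zero' := hs' _ _ fun x y => by simp
        map_add' := fun a b => hs' _ _ fun x y => by simp [hs]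
        commutes' := fun r => hs' _ _ fun x y => by simp [Algebra.algebraMap_eq_smul_one] }
    have hσh : ∀ h, σ (opElt ρ h) = opElt ρ h⁻¹ := fun h => hs' _ _ fun x y => by
      show B (ρ h x) y = B x (ρ h⁻¹ y)
      conv_lhs => rw [← ρ.self_inv_apply h y, hBinv]
    obtain ⟨⟨j, hj⟩, hjσ⟩ := (FiniteField.bijective_frobeniusAlgHom_pow F (opAlg ρ)).2 σ
    rw [hdim] at hj
    have hσpow : ∀ a, σ a = a ^ (Fintype.card F ^ j) := fun a => by rw [← hjσ]; exact hfrob j a
    have hσσ : σ.comp σ = AlgHom.id F _ := by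
      refine AlgHom.ext fun ⟨a, ha⟩ => ?_
      induction ha using Algebra.adjoin_induction with
      | mem z hz =>
        obtain ⟨h, rfl⟩ := hz
        show σ (σ (opElt ρ h)) = opElt ρ h
        rw [hσh, hσh, inv_inv]
      | algebraMap r => exact AlgHom.commutes _ r
      | add u w hu hw ihu ihw =>
        exact (map_add (σ.comp σ) ⟨u, hu⟩ ⟨w, hw⟩).trans (congrArg₂ (· + ·) ihu ihw)
      | mul u w hu hw ihu ihw =>
        exact (map_mul (σ.comp σ) ⟨u, hu⟩ ⟨w, hw⟩).trans (congrArg₂ (· * ·) ihu ihw)
    have hj0 : j ≠ 0 := by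
      intro h0
      have hpm : ∀ h, opElt ρ h = 1 ∨ opElt ρ h = -1 := fun h => by
        have h1 := hσh h
        rw [hσpow, h0, pow_zero, pow_one] at h1
        refine sq_eq_one_iff.1 ?_
        rw [sq]
        conv_lhs => arg 2; rw [h1]
        rw [← map_mul, mul_inv_cancel, map_one]
      have hbot : opAlg ρ ≤ ⊥ := Algebra.adjoin_le (by
        rintro _ ⟨h, rfl⟩
        rcases hpm h with e | e
        · rw [show ρ h = 1 from congrArg Subtype.val e]; exact Subalgebra.one_mem _
        · rw [show ρ h = -1 from congrArg Subtype.val e]; exact Subalgebra.neg_mem _ (Subalgebra.one_mem _))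
      have h1 := Submodule.finrank_mono (R := F)
        (show Subalgebra.toSubmodule (opAlg ρ) ≤ Subalgebra.toSubmodule ⊥ from hbot)
      rw [Subalgebra.finrank_toSubmodule, Subalgebra.finrank_toSubmodule, Subalgebra.finrank_bot,
        hdim] at h1
      omega
    have hjj : Module.finrank F V ∣ 2 * j := by
      rw [← hdim, ← FiniteField.orderOf_frobeniusAlgHom F (opAlg ρ), orderOf_dvd_iff_pow_eq_one,
        two_mul, pow_add]
      show (FiniteField.frobeniusAlgHom F (opAlg ρ) ^ j).comp
        (FiniteField.frobeniusAlgHom F (opAlg ρ) ^ j) = _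
      rw [show FiniteField.frobeniusAlgHom F (opAlg ρ) ^ j = σ from hjσ, hσσ]
      rfl
    obtain ⟨t, ht⟩ := hjj
    have ht1 : t = 1 := by
      rcases t with _ | _ | t
      · omega
      · rfl
      · exfalso
        have : Module.finrank F V * 2 ≤ 2 * j := ht ▸ Nat.mul_le_mul_left _ (by omega)
        omega
    rw [ht1, mul_one] at ht
    refine ⟨⟨j, by omega⟩, ?_⟩
    rw [show Module.finrank F V / 2 = j by omega]
    obtain ⟨g, hg⟩ := hcyc.exists_generator
    rw [← orderOf_eq_card_of_forall_mem_zpowers hg, orderOf_dvd_iff_pow_eq_one]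
    refine hinj ?_
    rw [map_pow, pow_succ, ← hσpow, hσh, ← map_mul, inv_mul_cancel, map_one]
  · rintro ⟨⟨k, hk⟩, hdvd⟩
    rw [show Module.finrank F V / 2 = k by omega] at hdvd
    let σ := FiniteField.frobeniusAlgHom F (opAlg ρ) ^ k
    have hσh : ∀ h, σ (opElt ρ h) * opElt ρ h = 1 := fun h => by
      rw [show σ (opElt ρ h) = _ from hfrob k _, ← pow_succ, ← map_pow,
        orderOf_dvd_iff_pow_eq_one.1 ((orderOf_dvd_natCard h).trans hdvd), map_one]
    obtain ⟨L, hL⟩ : ∃ L : Module.Dual F (opAlg ρ), L 1 ≠ 0 := by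
      by_contra hc
      push Not at hc
      exact one_ne_zero ((Module.forall_dual_apply_eq_zero_iff F (1 : opAlg ρ)).1 hc)
    let B : LinearMap.BilinForm F V := LinearMap.mk₂ F (fun x y => L (e.symm x * σ (e.symm y)))
      (fun x x' y => by simp [add_mul]) (fun c x y => by simp)
      (fun x y y' => by simp [mul_add]) (fun c x y => by simp)
    have hBval : ∀ a b : opAlg ρ, B (e a) (e b) = L (a * σ b) := fun a b => by simp [B]
    have hσb : Function.Bijective σ :=
      Finite.injective_iff_bijective.1 σ.toRingHom.injective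
    refine ⟨B, ⟨fun x hx => ?_, fun y hy => ?_⟩, fun h x y => ?_⟩
    · obtain ⟨a, rfl⟩ := e.surjective x
      by_contra hne
      obtain ⟨b, hb⟩ := hσb.2 a⁻¹
      have h1 := hx (e b)
      rw [hBval, hb, mul_inv_cancel₀ (fun h => hne (by rw [h, map_zero]))] at h1
      exact hL h1
    · obtain ⟨b, rfl⟩ := e.surjective y
      by_contra hne
      have hσ0 : σ b ≠ 0 := fun h => hne (by rw [hσb.1 (h.trans (map_zero σ).symm), map_zero])
      have h1 := hy (e (σ b)⁻¹)
      rw [hBval, inv_mul_cancel₀ hσ0] at h1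
      exact hL h1
    · obtain ⟨a, rfl⟩ := e.surjective x
      obtain ⟨b, rfl⟩ := e.surjective y
      have he : ∀ c, ρ h (e c) = e (opElt ρ h * c) := fun c => rfl
      rw [he, he, hBval, hBval, map_mul σ,
        show opElt ρ h * a * (σ (opElt ρ h) * σ b) = (σ (opElt ρ h) * opElt ρ h) * (a * σ b) by ring,
        hσh, one_mul]

end Cfsg.Agent.S4967
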