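import Cfsg.Statements.S4969
import Cfsg.Agent.Lib.DegreeTools.Basic
import Mathlib.Analysis.InnerProductSpace.Basic
-- import your own Cfsg.Agent.* helpers here

set_option autoImplicit false
open Cfsg

namespace Cfsg.Agent.S4969

/-- Let G be a finite group with k conjugacy classes, g ∈ G, and N > 0. Then the sum over the irreducible complex characters χ of G with χ(1) ≥ N of |χ(g)|/χ(1) is at most √(k · #C_G(g)) / N. -/
theorem result {G : Type*} [Group G] [Finite G] (g : G) (N : ℝ) (hN : 0 < N) :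
    ∑ᶠ χ : Cfsg.IrrCharacter G, (if N ≤ ‖(χ : G → ℂ) 1‖ then ‖(χ : G → ℂ) g‖ / ‖(χ : G → ℂ) 1‖ else 0) ≤
      Real.sqrt ((Nat.card (ConjClasses G) : ℝ) * (Nat.card ↥(Subgroup.centralizer ({g} : Set G)) : ℝ)) / N := by
  classical
  cases nonempty_fintype G
  rw [finsum_eq_sum_of_fintype]
  calc ∑ χ : Cfsg.IrrCharacter G, (if N ≤ ‖(χ : G → ℂ) 1‖ then ‖(χ : G → ℂ) g‖ / ‖(χ : G → ℂ) 1‖ else 0)
      ≤ ∑ χ : Cfsg.IrrCharacter G, 1 * ‖(χ : G → ℂ) g‖ / N := by
        refine Finset.sum_le_sum fun χ _ => ?_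
        rw [one_mul]
        split_ifs with h
        · exact div_le_div_of_nonneg_left (norm_nonneg _) hN h
        · positivity
    _ = (∑ χ : Cfsg.IrrCharacter G, 1 * ‖(χ : G → ℂ) g‖) / N := by rw [Finset.sum_div]
    _ ≤ Real.sqrt ((Nat.card (ConjClasses G) : ℝ) *
          (Nat.card ↥(Subgroup.centralizer ({g} : Set G)) : ℝ)) / N := by
        refine div_le_div_of_nonneg_right ?_ hN.le
        refine (Real.le_sqrt (by positivity) (by positivity)).mpr ?_
        refine (Finset.sum_mul_sq_le_sq_mul_sq _ _ _).trans (le_of_eq ?_)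
        rw [CfsgLib.DegreeTools.sum_norm_sq_col, ← CfsgLib.Char.card_irrCharacter,
          Nat.card_eq_fintype_card]
        simp


end Cfsg.Agent.S4969
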