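import Cfsg.Statements.S4978
import Cfsg.Agent.Lib.BrouePuig.AutPGroup

set_option autoImplicit false
open Cfsg

namespace Cfsg.Agent.S4978

/-- Let p be a prime and B a p-block of the finite group G (relative to a maximal ideal M of the algebraic integers containing p) with a nontrivial defect group D whose automorphism group is a p-group (for a p-group D this is the same as its outer automorphism group being a p-group). Then the number of irreducible characters of height zero in B is divisible by p; if p > 3 this number is at least 2p, and if moreover p ≡ 3 (mod 4) it is at least 3p. -/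
theorem result {G : Type*} [Group G] [Finite G] (p : ℕ) [Fact p.Prime] (M : Ideal Cfsg.AlgInt) (hM : Cfsg.IsPModular p M) (B : Set (Cfsg.IrrCharacter G)) (hB : Cfsg.IsPBlock M B) (D : Subgroup G) (hD : Cfsg.IsDefectGroup p M B D) (hD1 : D ≠ ⊥) (hAut : IsPGroup p (MulAut ↥D)) : p ∣ Nat.card {χ : Cfsg.IrrCharacter G // χ ∈ B ∧ Cfsg.blockHeight p B (χ : G → ℂ) = 0} ∧ (3 < p → 2 * p ≤ Nat.card {χ : Cfsg.IrrCharacter G // χ ∈ B ∧ Cfsg.blockHeight p B (χ : G → ℂ) = 0}) ∧ (3 < p → p % 4 = 3 → 3 * p ≤ Nat.card {χ : Cfsg.IrrCharacter G // χ ∈ B ∧ Cfsg.blockHeight p B (χ : G → ℂ) = 0}) :=  by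
  classical
  haveI : Fintype G := Fintype.ofFinite G
  rw [CfsgLib.BrouePuig.AutPGroup.card_height0]
  obtain ⟨e, he⟩ := CfsgLib.BrauerPairs.exists_pair_of_defectGroup hM hB hD
  have hmax := CfsgLib.BrauerPairs.isMaximal_of_defectGroup hM hD he
  have hd : 1 ≤ Cfsg.blockDefect p B := by
    refine Nat.pos_of_ne_zero fun h => hD1 (Subgroup.eq_bot_of_card_eq _ ?_)
    rw [CfsgLib.Blocks.card_defectGroup hM hB hD, h, pow_zero]
  have hF := CfsgLib.BrauerPairs.isBlockFusionSystemOn_blockFusion hM hmax
  rcases lt_or_ge 3 p with hp | hp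
  · have hp5 : 5 ≤ p := by
      have := (Fact.out : p.Prime)
      by_contra hlt
      obtain rfl : p = 4 := by omega
      norm_num at this
    obtain ⟨h1, h2, h3⟩ := CfsgLib.BrouePuig.AutPGroup.card_bounds hM hp5 hF hD1 hAut
    exact ⟨h1, fun _ => h2, fun _ => h3⟩
  · exact ⟨CfsgLib.BrouePuig.AutPGroup.dvd_card_small hM hB hd hp,
      fun h => absurd h (by omega), fun h => absurd h (by omega)⟩

end Cfsg.Agent.S4978
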