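import Cfsg.Statements.S4989
import Cfsg.Agent.Lib.DegreeTools.CharTools
-- import your own Cfsg.Agent.* helpers here

set_option autoImplicit false
open Cfsg

namespace Cfsg.Agent.S4989

/-- Let H be a subgroup of the finite group G and χ an irreducible complex character of G. Then the inner product of the restriction of χ to H with itself, (1/#H)·Σ_{h ∈ H} |χ(h)|², is at most 1 + #(Z ∖ H)/#H, where Z is the set of zeros of χ in G. -/
theorem result {G : Type*} [Group G] [Finite G] (H : Subgroup G) (χ : Cfsg.IrrCharacter G) : (Nat.card ↥H : ℝ)⁻¹ * ∑ᶠ h : ↥H, ‖(χ : G → ℂ) h‖ ^ 2 ≤ 1 + (Set.ncard ({x : G | (χ : G → ℂ) x = 0} \ (H : Set G)) : ℝ) / (Nat.card ↥H : ℝ) := by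
  classical
  cases nonempty_fintype G
  obtain ⟨d, ρ, hirr, hρ⟩ := χ.2
  haveI := hirr
  have hsum := CfsgLib.DegreeTools.CharTools.sum_norm_sq ρ
  rw [hρ] at hsum
  set f : G → ℝ := fun g => ‖(χ : G → ℂ) g‖ ^ 2 with hf
  set S : Finset G := Finset.univ.filter fun g => g ∉ H ∧ (χ : G → ℂ) g ≠ 0 with hS
  have hclosed : ∀ g ∈ S, ∀ j : ℕ, (Nat.card G).Coprime j → g ^ j ∈ S := by
    intro g hg j hj
    simp only [hS, Finset.mem_filter, Finset.mem_univ, true_and] at hg ⊢
    refine ⟨fun hmem => hg.1 ?_, ?_⟩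
    · obtain ⟨i, hi⟩ := exists_pow_eq_self_of_coprime (x := g)
        (Nat.Coprime.coprime_dvd_right (orderOf_dvd_natCard g) hj.symm)
      exact hi ▸ H.pow_mem hmem i
    · rw [← hρ] at hg ⊢
      exact CfsgLib.DegreeTools.CharTools.char_pow_ne_zero ρ hj hg.2
  have hle := CfsgLib.DegreeTools.CharTools.card_le_sum_pow 2 ρ S hclosed (fun g hg => by
    rw [hρ]; exact (Finset.mem_filter.mp hg).2.2)
  rw [hρ] at hle
  have hsplit : ∑ g ∈ Finset.univ.filter (· ∈ H), f g + ∑ g ∈ Finset.univ.filter (· ∉ H), f g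
      = (Nat.card G : ℝ) := by
    rw [Finset.sum_filter_add_sum_filter_not]; exact hsum
  have hS' : ∑ g ∈ S, f g ≤ ∑ g ∈ Finset.univ.filter (· ∉ H), f g :=
    Finset.sum_le_sum_of_subset_of_nonneg (fun g hg => by
      simp only [hS, Finset.mem_filter, Finset.mem_univ, true_and] at hg ⊢; exact hg.1)
      (fun g _ _ => by positivity)
  have hH : ∑ᶠ h : ↥H, ‖(χ : G → ℂ) h‖ ^ 2 = ∑ g ∈ Finset.univ.filter (· ∈ H), f g := by
    rw [finsum_eq_sum_of_fintype, ← Finset.sum_subtype_eq_sum_filter (f := f)]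
    exact Finset.sum_congr (by simp) fun _ _ => rfl
  set Z : Finset G := Finset.univ.filter fun g => g ∉ H ∧ (χ : G → ℂ) g = 0 with hZ
  have hZcard : Set.ncard ({x : G | (χ : G → ℂ) x = 0} \ (H : Set G)) = Z.card := by
    rw [← Set.ncard_coe_finset]; congr 1; ext x; simp [hZ, and_comm]
  have hcards : (Nat.card ↥H : ℕ) + (Z.card + S.card) = Nat.card G := by
    have h1 : Z.card + S.card = (Finset.univ.filter (· ∉ H)).card := by
      rw [← Finset.card_filter_add_card_filter_not (fun g => (χ : G → ℂ) g = 0)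
        (s := Finset.univ.filter (· ∉ H)), Finset.filter_filter, Finset.filter_filter]
    rw [h1, Nat.card_eq_fintype_card, Nat.card_eq_fintype_card, Fintype.card_subtype,
      Finset.card_filter_add_card_filter_not, Finset.card_univ]
  have hcards' : (Nat.card ↥H : ℝ) + ((Z.card : ℝ) + S.card) = Nat.card G := by
    exact_mod_cast hcards
  have hpos : (0 : ℝ) < Nat.card ↥H := Nat.cast_pos.mpr Nat.card_pos
  rw [hH, hZcard, inv_mul_le_iff₀ hpos, mul_add, mul_one, mul_div_cancel₀ _ hpos.ne']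
  linarith


end Cfsg.Agent.S4989
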