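import Cfsg.Statements.S4990
import Cfsg.Agent.Lib.Solvable.BlockSize.Main
import Cfsg.Agent.S4494

set_option autoImplicit false

namespace Cfsg.Agent.S4990

open Cfsg

/-- Let G be a finite solvable group, p a prime, M a maximal ideal of the algebraic integers containing p, and B a p-block of G of positive defect d. Then B contains at most 3^{d−1}·p^d irreducible complex characters. -/
theorem result {G : Type*} [Group G] [Finite G] (hsolv : Group.IsSolvable G) (p : ℕ) [Fact p.Prime] (M : Ideal Cfsg.AlgInt) (hM : Cfsg.IsPModular p M) (B : Set (Cfsg.IrrCharacter G)) (hB : Cfsg.IsPBlock M B) (hd : 0 < Cfsg.blockDefect p B) : Set.ncard B ≤ 3 ^ (Cfsg.blockDefect p B - 1) * p ^ Cfsg.blockDefect p B := by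
  classical
  rw [← Nat.card_coe_set_eq]
  by_cases hp5 : 5 ≤ p
  · haveI : Fintype G := Fintype.ofFinite G
    exact CfsgLib.Solvable.BlockSize.ncard_block_le hp5 hM (Nat.card G) G le_rfl hsolv B hB hd
  · have hp : p.Prime := Fact.out
    have h := Cfsg.Agent.S4494.result p M hM B hB
    set d := Cfsg.blockDefect p B with hdd
    set k := Nat.card B
    obtain ⟨i, hi⟩ : ∃ i, d = i + 1 := ⟨d - 1, by omega⟩
    rw [hi] at h ⊢
    simp only [Nat.add_sub_cancel]
    have hp' : p = 2 ∨ p = 3 := by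
      have := hp.two_le
      rcases (show p = 2 ∨ p = 3 ∨ p = 4 by omega) with h | h | h
      · exact Or.inl h
      · exact Or.inr h
      · subst h; norm_num at hp
    rcases Nat.eq_zero_or_pos i with rfl | hi0
    · rcases hp' with rfl | rfl <;> norm_num at h ⊢ <;> omega
    · obtain ⟨j, rfl⟩ : ∃ j, i = j + 1 := ⟨i - 1, by omega⟩
      rw [pow_mul'] at h
      rcases hp' with rfl | rfl
      · have h4 : (2 ^ (j + 1 + 1)) ^ 2 = 16 * 4 ^ j := by
          rw [← pow_mul, show (j + 1 + 1) * 2 = 4 + 2 * j by ring, pow_add, pow_mul]; norm_num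
        have h6 : 3 ^ (j + 1) * 2 ^ (j + 1 + 1) = 12 * 6 ^ j := by
          rw [show (6 : ℕ) ^ j = 3 ^ j * 2 ^ j by rw [← mul_pow]; norm_num]; ring
        have h46 : 4 ^ j ≤ 6 ^ j := Nat.pow_le_pow_left (by norm_num) j
        have h1 : 1 ≤ 6 ^ j := Nat.one_le_pow _ _ (by norm_num)
        rw [h4] at h
        rw [h6]
        omega
      · have h9 : (3 ^ (j + 1 + 1)) ^ 2 = 81 * 9 ^ j := by
          rw [← pow_mul, show (j + 1 + 1) * 2 = 4 + 2 * j by ring, pow_add, pow_mul]; norm_num
        have h33 : 3 ^ (j + 1) * 3 ^ (j + 1 + 1) = 27 * 9 ^ j := by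
          rw [show (9 : ℕ) ^ j = 3 ^ j * 3 ^ j by rw [← mul_pow]; norm_num]; ring
        have h1 : 1 ≤ 9 ^ j := Nat.one_le_pow _ _ (by norm_num)
        rw [h9] at h
        rw [h33]
        omega

end Cfsg.Agent.S4990
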