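import Cfsg.Statements.S4993
import Cfsg.Agent.Lib.DegreeTools.CoprimeFixedHalf
import Cfsg.Agent.Lib.DegreeTools.CentralSupport
import Cfsg.Agent.Lib.CharDeep.RelativeSteps
import Cfsg.Agent.Lib.Solvable.Cores
import Cfsg.Agent.Lib.OddOrder.Basic

set_option autoImplicit false
set_option linter.style.haveILetI false
open Cfsg

namespace Cfsg.Agent.S4993

open CfsgLib CfsgLib.Char CfsgLib.DegreeTools
open scoped commutatorElement Classical

/-- Primitivity passes to quotients. -/
theorem prim_deflate {G : Type*} [Group G] [Fintype G] (K : Subgroup G) [K.Normal]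
    [Fintype (G ⧸ K)] {χ : G → ℂ} {ψ : G ⧸ K → ℂ} (he : χ = ψ ∘ QuotientGroup.mk' K)
    (hprim : ¬ ∃ (H : Subgroup G), H ≠ ⊤ ∧ ∃ θ : ↥H → ℂ, Cfsg.IsCharacter ↥H θ ∧ Cfsg.indFun H θ = χ) :
    ¬ ∃ (H : Subgroup (G ⧸ K)), H ≠ ⊤ ∧ ∃ θ : ↥H → ℂ, Cfsg.IsCharacter ↥H θ ∧ Cfsg.indFun H θ = ψ := by
  rintro ⟨H, hH, θ, hθ, rfl⟩
  set π := QuotientGroup.mk' K
  refine hprim ⟨H.comap π, fun h => hH ?_, fun y => θ ⟨π y, y.2⟩, ?_, ?_⟩
  · rw [← Subgroup.map_comap_eq_self_of_surjective (QuotientGroup.mk'_surjective K) H, h,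
      Subgroup.map_top_of_surjective _ (QuotientGroup.mk'_surjective K)]
  · exact IsCharacter.comp hθ ((π.comp (H.comap π).subtype).codRestrict H fun y => y.2)
  · funext g
    rw [he, Function.comp_apply]
    simp only [Cfsg.indFun]
    have hext : ∀ y : G, Cfsg.extendByZero (H.comap π) (fun y => θ ⟨π y, y.2⟩) y =
        Cfsg.extendByZero H θ (π y) := by
      intro y
      simp only [Cfsg.extendByZero]
      by_cases hy : π y ∈ H
      · exact (Subtype.val_injective.extend_apply _ _ (⟨y, hy⟩ : H.comap π)).trans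
          (Subtype.val_injective.extend_apply θ 0 (⟨π y, hy⟩ : H)).symm
      · rw [Function.extend_apply' _ _ _ (by rintro ⟨a, rfl⟩; exact hy a.2),
          Function.extend_apply' _ _ _ (by rintro ⟨a, ha⟩; exact hy (ha ▸ a.2))]
        rfl
    have hcardH : Nat.card (H.comap π) = Nat.card K * Nat.card H := by
      have e1 := (H.comap π).card_mul_index
      rw [Subgroup.index_comap_of_surjective _ (QuotientGroup.mk'_surjective K)] at e1
      have e2 := H.card_mul_index
      have e3 := K.card_mul_index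
      rw [Subgroup.index_eq_card] at e3
      refine Nat.eq_of_mul_eq_mul_right (Nat.pos_of_ne_zero (Subgroup.index_ne_zero_of_finite (H := H))) ?_
      rw [e1, ← e3, ← e2, mul_assoc]
    have hsum : ∑ x : G, Cfsg.extendByZero H θ (π (x⁻¹ * g * x)) =
        (Nat.card K : ℂ) * ∑ x : G ⧸ K, Cfsg.extendByZero H θ (x⁻¹ * π g * x) := by
      rw [← Finset.sum_fiberwise (g := fun x => π x) (s := Finset.univ), Finset.mul_sum]
      refine Finset.sum_congr rfl fun c _ => ?_
      rw [Finset.sum_congr rfl (g := fun _ => Cfsg.extendByZero H θ (c⁻¹ * π g * c)) fun x hx => by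
        rw [map_mul, map_mul, map_inv, (Finset.mem_filter.1 hx).2], Finset.sum_const, nsmul_eq_mul]
      congr 2
      obtain ⟨a, rfl⟩ := QuotientGroup.mk'_surjective K c
      rw [Nat.card_eq_fintype_card, Fintype.card_subtype]
      refine Finset.card_equiv (Equiv.mulLeft a⁻¹) fun x => ?_
      simp only [Finset.mem_filter, Finset.mem_univ, true_and, Equiv.coe_mulLeft]
      exact eq_comm.trans QuotientGroup.eq
    simp only [hext, hsum, hcardH, Nat.cast_mul]
    have hK : (Nat.card K : ℂ) ≠ 0 := Nat.cast_ne_zero.2 Nat.card_pos.ne'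
    field_simp

/-- A quotient of a commutative group of order `p ^ a * q ^ b` split by primes. -/
theorem card_dvd_split {V : Type*} [CommGroup V] [Finite V] {m n : ℕ} (h : Nat.card V = m * n)
    (C : Subgroup V) :
    Nat.card C ∣ Nat.card (C ⊓ (powMonoidHom m : V →* V).ker : Subgroup V) *
      Nat.card (C ⊓ (powMonoidHom n : V →* V).ker : Subgroup V) := by
  rw [CoprimeFixedHalf.card_eq_map_mul C (powMonoidHom m : V →* V), mul_comm]
  refine Nat.mul_dvd_mul_left _ (Subgroup.card_dvd_of_le ?_)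
  rintro _ ⟨x, hx, rfl⟩
  refine ⟨pow_mem hx m, ?_⟩
  show (x ^ m) ^ n = 1
  rw [← pow_mul, ← h, pow_card_eq_one']

theorem pow_ker_card {V : Type*} [CommGroup V] [Finite V] {p : ℕ} [Fact p.Prime] (a : ℕ) :
    ∃ c, Nat.card (powMonoidHom (p ^ a) : V →* V).ker = p ^ c := by
  obtain ⟨c, hc⟩ := IsPGroup.iff_card.1 (show IsPGroup p (powMonoidHom (p ^ a) : V →* V).ker from
    fun v => ⟨a, Subtype.ext (by rw [Subgroup.coe_pow]; exact v.2)⟩)
  exact ⟨c, hc⟩

theorem commutator_mul_central {G : Type*} [Group G] {a b c d : G} (hc : ∀ g, c * g = g * c)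
    (hd : ∀ g, d * g = g * d) : ⁅c * a, d * b⁆ = ⁅a, b⁆ := by
  rw [commutatorElement_def, commutatorElement_def, mul_inv_rev, mul_inv_rev]
  have hc' : ∀ g, c⁻¹ * g = g * c⁻¹ := fun g =>
    (show Commute c g from hc g).inv_left.eq
  have hd' : ∀ g, d⁻¹ * g = g * d⁻¹ := fun g =>
    (show Commute d g from hd g).inv_left.eq
  calc c * a * (d * b) * (a⁻¹ * c⁻¹) * (b⁻¹ * d⁻¹)
      = c * (a * d) * b * a⁻¹ * (c⁻¹ * (b⁻¹ * d⁻¹)) := by group
    _ = c * (d * a) * b * a⁻¹ * ((b⁻¹ * d⁻¹) * c⁻¹) := by rw [← hd a, hc' (b⁻¹ * d⁻¹)]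
    _ = c * (d * (a * b * a⁻¹ * b⁻¹) * d⁻¹) * c⁻¹ := by group
    _ = a * b * a⁻¹ * b⁻¹ := by rw [hd, mul_inv_cancel_right, hc, mul_inv_cancel_right]

theorem core {G : Type*} [Group G] [Fintype G] (p q : ℕ) [Fact p.Prime] [Fact q.Prime] (hpq : p ≠ q)
    (hcard : ∀ r : ℕ, r.Prime → r ∣ Nat.card G → r = p ∨ r = q)
    (hmeta : Group.IsNilpotent (G ⧸ Cfsg.fittingSubgroup G)) (χ : Cfsg.IrrCharacter G)
    (hf : ∀ g : G, (χ : G → ℂ) g = (χ : G → ℂ) 1 → g = 1)
    (hprim : ¬ ∃ (H : Subgroup G), H ≠ ⊤ ∧ ∃ θ : ↥H → ℂ, Cfsg.IsCharacter ↥H θ ∧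
      Cfsg.indFun H θ = (χ : G → ℂ)) :
    ∃ g : G, Cfsg.charDegree (χ : G → ℂ) ∣ (Subgroup.centralizer ({g} : Set G)).index := by
  set F := Cfsg.fittingSubgroup G with hFdef
  set Z := Subgroup.center G with hZdef
  haveI hFn : Group.IsNilpotent F := CfsgLib.Solvable.Cores.fittingSubgroup_isNilpotent
  have hhom : ∀ M : Subgroup G, M.Normal → CfsgLib.CharDeep.Relative.Homogeneous (χ : G → ℂ) M := by
    intro M hM
    by_contra hnh
    obtain ⟨T, ψ, -, hT, hψ, he⟩ :=
      CfsgLib.CharDeep.Relative.exists_induced_of_not_homogeneous χ.2 M hnh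
    exact hprim ⟨T, hT, ψ, IsIrrCharacter.isCharacter hψ, he⟩
  -- normal abelian subgroups are central
  have hA : ∀ A : Subgroup G, A.Normal → (∀ x ∈ A, ∀ y ∈ A, x * y = y * x) → A ≤ Z := by
    intro A hAn hAc a ha
    obtain ⟨φ, e, hφ, he⟩ := hhom A hAn
    have hφ1 : φ 1 = 1 := apply_one_eq_one_of_comm (fun x y => Subtype.ext (hAc x x.2 y y.2)) hφ
    obtain ⟨f, hfe⟩ := exists_hom_of_apply_one_eq_one (IsIrrCharacter.isCharacter hφ) hφ1
    refine Subgroup.mem_center_iff.2 fun g => ?_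
    have hinv := CfsgLib.CharDeep.Relative.invariant_of_homogeneous χ.2 he g ⟨a, ha⟩
    have hmem : g * a * g⁻¹ * a⁻¹ ∈ A := mul_mem (hAn.conj_mem a ha g) (inv_mem ha)
    have h1 : φ ⟨g * a * g⁻¹ * a⁻¹, hmem⟩ = 1 := by
      rw [hfe] at hinv ⊢
      simp only at hinv ⊢
      rw [show (⟨g * a * g⁻¹ * a⁻¹, hmem⟩ : A) = ⟨g * a * g⁻¹, hAn.conj_mem a ha g⟩ * (⟨a, ha⟩)⁻¹ from rfl,
        map_mul, map_inv, Units.val_mul, hinv, ← Units.val_mul, mul_inv_cancel, Units.val_one]
    have h2 := congrFun he ⟨g * a * g⁻¹ * a⁻¹, hmem⟩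
    have h3 := congrFun he 1
    simp only [Pi.smul_apply, smul_eq_mul, OneMemClass.coe_one, h1, hφ1] at h2 h3
    have h4 := hf _ (h2.trans h3.symm)
    rw [mul_inv_eq_one, mul_inv_eq_iff_eq_mul] at h4
    exact h4
  have hZF : Z ≤ F := by
    haveI : Group.IsNilpotent Z := by
      letI : CommGroup Z := { mul_comm := fun a b => Subtype.ext (Subgroup.mem_center_iff.mp b.2 a) }
      exact CommGroup.isNilpotent
    exact CfsgLib.Solvable.Cores.le_fittingSubgroup inferInstance
  have hcenF : F ⊓ Subgroup.centralizer (F : Set G) ≤ Z :=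
    hA _ inferInstance fun x hx y hy => Subgroup.mem_centralizer_iff.1 hy.2 x hx.1
  set π := QuotientGroup.mk' Z with hπ
  have hπsurj : Function.Surjective π := QuotientGroup.mk'_surjective Z
  have hπ1 : ∀ x : G, π x = 1 ↔ x ∈ Z := fun x => QuotientGroup.eq_one_iff x
  set W := F.map π with hWdef
  haveI hWn : W.Normal := Subgroup.Normal.map inferInstance _ hπsurj
  haveI hWnil : Group.IsNilpotent W :=
    nilpotent_of_surjective (π.subgroupMap F) (MonoidHom.subgroupMap_surjective _ F)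
  -- class two
  have hclass : ∀ a ∈ F, ∀ b ∈ F, ⁅a, b⁆ ∈ Z := by
    set M := (F ⊓ (Subgroup.centralizer (W : Set (G ⧸ Z))).comap π) ⊓ ⁅F, F⁆ with hM
    have hcomm : ∀ x ∈ F ⊓ (Subgroup.centralizer (W : Set (G ⧸ Z))).comap π,
        ⁅F, F⁆ ≤ Subgroup.centralizer ({x} : Set G) := by
      intro x hx
      rw [Subgroup.commutator_le]
      intro a ha b hb
      rw [Subgroup.mem_centralizer_singleton_iff]
      have hc : ∀ y ∈ F, ∀ g, (x * y * x⁻¹ * y⁻¹) * g = g * (x * y * x⁻¹ * y⁻¹) := by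
        intro y hy g
        have : x * y * x⁻¹ * y⁻¹ ∈ Z := by
          rw [← hπ1, map_mul, map_mul, map_mul, map_inv, map_inv,
            ← Subgroup.mem_centralizer_iff.1 hx.2 (π y) ⟨y, hy, rfl⟩, mul_inv_cancel_right, mul_inv_cancel]
        exact (Subgroup.mem_center_iff.1 this g).symm
      have h1 : x * ⁅a, b⁆ * x⁻¹ = ⁅a, b⁆ := by
        conv_rhs => rw [← commutator_mul_central (hc a ha) (hc b hb)]
        simp only [commutatorElement_def]; group
      exact (mul_inv_eq_iff_eq_mul.1 h1).symm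
    have hMZ : M ≤ Z := hA _ inferInstance fun x hx y hy =>
      (Subgroup.mem_centralizer_singleton_iff.1 (hcomm x hx.1 hy.2)).symm
    have hD : ⁅F, F⁆ ≤ Z := by
      by_contra hD
      have hDF : ⁅F, F⁆ ≤ F := Subgroup.commutator_le_right F F
      set D := (⁅F, F⁆).map π
      haveI : D.Normal := Subgroup.Normal.map inferInstance _ hπsurj
      have hne : D.subgroupOf W ≠ ⊥ := by
        intro h0
        rw [Subgroup.subgroupOf_eq_bot] at h0
        apply hD
        intro d hd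
        rw [← hπ1, ← Subgroup.mem_bot]
        exact h0.le_bot ⟨⟨d, hd, rfl⟩, ⟨d, hDF hd, rfl⟩⟩
      obtain ⟨y, hy, hy1⟩ := ((D.subgroupOf W) ⊓ Subgroup.center W).bot_or_exists_ne_one.resolve_left
        (CfsgLib.Solvable.FrattiniFitting.inf_center_ne_bot _ hne)
      obtain ⟨d, hd, hdy⟩ := Subgroup.mem_subgroupOf.1 hy.1
      refine hy1 (Subtype.ext ?_)
      rw [OneMemClass.coe_one, ← hdy, hπ1]
      refine hMZ ⟨⟨hDF hd, ?_⟩, hd⟩
      refine Subgroup.mem_comap.2 ?_
      rw [hdy, Subgroup.mem_centralizer_iff]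
      exact fun w hw => congrArg Subtype.val (Subgroup.mem_center_iff.1 hy.2 ⟨w, hw⟩)
    exact fun a ha b hb => hD (Subgroup.commutator_mem_commutator ha hb)
  -- irreducible restriction and its degree
  have hsolvQ : Group.IsSolvable (G ⧸ F) := inferInstance
  have hθ : Cfsg.IsIrrCharacter F fun n : F => (χ : G → ℂ) n := by
    refine CfsgLib.CharDeep.Relative.irr_restrict_of_homogeneous χ.2 F hsolvQ ?_ fun M hM _ => hhom M hM
    intro L K hL hK hFL hLK hchief
    haveI := hL; haveI := hK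
    haveI : Group.IsNilpotent (G ⧸ L) :=
      nilpotent_of_surjective (QuotientGroup.map F L (MonoidHom.id G) hFL) (fun x => by
        obtain ⟨g, rfl⟩ := QuotientGroup.mk'_surjective L x
        exact ⟨QuotientGroup.mk' F g, rfl⟩)
    set τ := QuotientGroup.mk' L
    haveI : (K.map τ).Normal := Subgroup.Normal.map inferInstance _ (QuotientGroup.mk'_surjective L)
    have hne : K.map τ ≠ ⊥ := fun h => hLK.not_ge (by
      rwa [Subgroup.map_eq_bot_iff, QuotientGroup.ker_mk'] at h)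
    have h1 : K.map τ ⊓ Subgroup.center (G ⧸ L) ≠ ⊥ :=
      CfsgLib.Solvable.FrattiniFitting.inf_center_ne_bot _ hne
    set X := K.map τ ⊓ Subgroup.center (G ⧸ L)
    set r := (Nat.card X).minFac
    haveI hr : Fact r.Prime := ⟨Nat.minFac_prime fun h => h1 (Subgroup.card_eq_one.1 h)⟩
    obtain ⟨c, hc⟩ := exists_prime_orderOf_dvd_card' (G := X) r (Nat.minFac_dvd _)
    haveI hcn : (Subgroup.zpowers (c : G ⧸ L)).Normal := ⟨fun y hy g => by
      obtain ⟨i, rfl⟩ := Subgroup.mem_zpowers_iff.1 hy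
      rw [Subgroup.mem_center_iff.1 (zpow_mem (Subgroup.mem_inf.1 c.2).2 i) g, mul_inv_cancel_right]
      exact Subgroup.zpow_mem_zpowers _ i⟩
    have hcK : (Subgroup.zpowers (c : G ⧸ L)).comap τ ≤ K := by
      refine (Subgroup.comap_mono (Subgroup.zpowers_le.2 (Subgroup.mem_inf.1 c.2).1)).trans (le_of_eq ?_)
      rw [Subgroup.comap_map_eq, QuotientGroup.ker_mk', sup_eq_left.2 hLK.le]
    have hback := Subgroup.map_comap_eq_self_of_surjective (QuotientGroup.mk'_surjective L)
      (Subgroup.zpowers (c : G ⧸ L))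
    rcases hchief _ inferInstance (fun x hx => by
        rw [Subgroup.mem_comap, show τ x = 1 from (QuotientGroup.eq_one_iff x).2 hx]
        exact one_mem _) hcK with h | h
    · exfalso
      rw [h, QuotientGroup.map_mk'_self, eq_comm, Subgroup.zpowers_eq_bot] at hback
      have := hr.out.ne_one
      rw [← hc, ← Subgroup.orderOf_coe, hback, orderOf_one] at this
      exact this rfl
    · intro hsq
      rw [← h] at hsq
      have : L.relIndex ((Subgroup.zpowers (c : G ⧸ L)).comap τ) = r := by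
        have e : τ.ker.relIndex ((Subgroup.zpowers (c : G ⧸ L)).comap τ) =
            Nat.card (((Subgroup.zpowers (c : G ⧸ L)).comap τ).map τ) := Subgroup.relIndex_ker _ _
        rw [QuotientGroup.ker_mk', hback, Nat.card_zpowers, Subgroup.orderOf_coe, hc] at e
        exact e
      rw [this] at hsq
      exact hr.out.prime.not_isSquare hsq
  set θ : Cfsg.IrrCharacter F := ⟨_, hθ⟩
  have hcenter : ∀ x : F, x ∈ Subgroup.center F ↔ (x : G) ∈ Z := by
    intro x
    refine ⟨fun hx => hcenF ⟨x.2, ?_⟩, fun hx => Subgroup.mem_center_iff.2 fun y =>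
      Subtype.ext (Subgroup.mem_center_iff.1 hx y)⟩
    exact Subgroup.mem_centralizer_iff.2 fun y hy =>
      congrArg Subtype.val (Subgroup.mem_center_iff.1 hx ⟨y, hy⟩)
  have hvan : ∀ g : F, g ∉ Subgroup.center F → (θ : F → ℂ) g = 0 := by
    intro g hg
    obtain ⟨h, hh⟩ : ∃ h : F, h * g ≠ g * h := by
      by_contra h; push Not at h
      exact hg (Subgroup.mem_center_iff.2 h)
    refine vanish_of_commutator θ (h := h) ((hcenter _).2 ?_) fun e => hh ?_
    · exact hclass h h.2 g g.2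
    · have := hf _ e
      rw [← commutatorElement_eq_one_iff_mul_comm]
      exact Subtype.ext this
  have hdeg := deg_sq_mul_card_center_eq θ hvan
  have hdθ : Cfsg.charDegree (θ : F → ℂ) = Cfsg.charDegree (χ : G → ℂ) := rfl
  rw [hdθ] at hdeg
  have hcardW : Nat.card W = Cfsg.charDegree (χ : G → ℂ) ^ 2 := by
    have e1 : Nat.card (Subgroup.center F) = Nat.card Z := by
      rw [show Subgroup.center F = Z.subgroupOf F from Subgroup.ext fun x =>
        (hcenter x).trans Subgroup.mem_subgroupOf.symm]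
      exact Nat.card_congr (Subgroup.subgroupOfEquivOfLe hZF).toEquiv
    rw [e1] at hdeg
    have e2 : Nat.card F = Nat.card W * Nat.card Z := by
      rw [hWdef, ← Subgroup.relIndex_ker, QuotientGroup.ker_mk', ← Nat.card_congr (Subgroup.subgroupOfEquivOfLe hZF).toEquiv,
        Subgroup.relIndex, Subgroup.index_mul_card]
    rw [e2] at hdeg
    exact (Nat.eq_of_mul_eq_mul_right Nat.card_pos hdeg).symm
  -- the action
  letI : CommGroup W :=
    { (inferInstance : Group W) with
      mul_comm := fun a b => Subtype.ext (by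
        obtain ⟨_, x, hx, rfl⟩ := a
        obtain ⟨_, y, hy, rfl⟩ := b
        show π x * π y = π y * π x
        rw [← commutatorElement_eq_one_iff_mul_comm, ← map_commutatorElement, hπ1]
        exact hclass x hx y hy) }
  set act : G ⧸ Z →* MulAut W := MulAut.conjNormal with hact
  have hWact : ∀ w ∈ W, act w = 1 := by
    intro w hw
    ext v
    rw [hact, MulAut.conjNormal_apply, MulAut.one_apply]
    have := congrArg Subtype.val (mul_comm (⟨w, hw⟩ : W) v)
    simp only [Subgroup.coe_mul] at this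
    rw [this, mul_inv_cancel_right]
  have hcenW : ∀ x ∈ W, x ∈ Subgroup.center (G ⧸ Z) → x = 1 := by
    intro x hx hxc
    obtain ⟨a, ha, rfl⟩ := hx
    haveI : (Subgroup.zpowers (π a)).Normal := ⟨fun y hy g => by
      obtain ⟨i, rfl⟩ := Subgroup.mem_zpowers_iff.1 hy
      rw [Subgroup.mem_center_iff.1 (zpow_mem hxc i) g, mul_inv_cancel_right]
      exact Subgroup.zpow_mem_zpowers _ i⟩
    refine (hπ1 a).2 (hA ((Subgroup.zpowers (π a)).comap π) inferInstance ?_ (Subgroup.mem_zpowers _))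
    intro u hu v hv
    obtain ⟨i, hi⟩ := Subgroup.mem_zpowers_iff.1 hu
    obtain ⟨j, hj⟩ := Subgroup.mem_zpowers_iff.1 hv
    have hu' : (a ^ i)⁻¹ * u ∈ Z := by rw [← hπ1, map_mul, map_inv, map_zpow, hi, inv_mul_cancel]
    have hv' : (a ^ j)⁻¹ * v ∈ Z := by rw [← hπ1, map_mul, map_inv, map_zpow, hj, inv_mul_cancel]
    have e1 := Subgroup.mem_center_iff.1 hu'
    have e2 := Subgroup.mem_center_iff.1 hv'
    rw [show u = a ^ i * ((a ^ i)⁻¹ * u) by group, show v = a ^ j * ((a ^ j)⁻¹ * v) by group]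
    calc _ = a ^ i * (((a ^ i)⁻¹ * u) * a ^ j) * ((a ^ j)⁻¹ * v) := by group
      _ = a ^ i * a ^ j * (((a ^ i)⁻¹ * u) * ((a ^ j)⁻¹ * v)) := by rw [← e1 (a ^ j)]; group
      _ = a ^ j * a ^ i * (((a ^ j)⁻¹ * v) * ((a ^ i)⁻¹ * u)) := by
          rw [(Commute.refl a).zpow_zpow i j, e2]
      _ = _ := by rw [show a ^ j * a ^ i * (((a ^ j)⁻¹ * v) * ((a ^ i)⁻¹ * u)) =
            a ^ j * (a ^ i * ((a ^ j)⁻¹ * v)) * ((a ^ i)⁻¹ * u) by group, e2 (a ^ i)]; group
  -- the quotient by `W` is nilpotent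
  set σ := QuotientGroup.mk' W with hσ
  haveI : Group.IsNilpotent ((G ⧸ Z) ⧸ W) := by
    refine nilpotent_of_surjective
      (QuotientGroup.lift F (σ.comp π) fun x hx => ?_) ?_
    · rw [MonoidHom.mem_ker, MonoidHom.comp_apply]
      exact (QuotientGroup.eq_one_iff _).2 ⟨x, hx, rfl⟩
    · intro y
      obtain ⟨z, rfl⟩ := QuotientGroup.mk'_surjective W y
      obtain ⟨g, rfl⟩ := hπsurj z
      exact ⟨g, rfl⟩
  have hcardB : ∀ r : ℕ, r.Prime → r ∣ Nat.card (G ⧸ Z) → r = p ∨ r = q := fun r hr hd =>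
    hcard r hr (hd.trans (Subgroup.card_quotient_dvd_card Z))
  obtain ⟨P⟩ : Nonempty (Sylow p (G ⧸ Z)) := inferInstance
  obtain ⟨Q⟩ : Nonempty (Sylow q (G ⧸ Z)) := inferInstance
  have hPQ : Nat.card (G ⧸ Z) ∣ Nat.card P * Nat.card Q := by
    rw [P.card_eq_multiplicity, Q.card_eq_multiplicity]
    refine (Nat.factorization_le_iff_dvd Nat.card_pos.ne' (by
      have := (Fact.out : p.Prime).pos; have := (Fact.out : q.Prime).pos; positivity)).1 fun r => ?_
    rw [Nat.factorization_mul (pow_ne_zero _ (Fact.out : p.Prime).ne_zero)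
      (pow_ne_zero _ (Fact.out : q.Prime).ne_zero), Finsupp.add_apply,
      Nat.Prime.factorization_pow Fact.out, Nat.Prime.factorization_pow Fact.out]
    by_cases h0 : (Nat.card (G ⧸ Z)).factorization r = 0
    · omega
    rcases hcardB r (Nat.prime_of_mem_primeFactors (Finsupp.mem_support_iff.2 h0))
      (Nat.dvd_of_factorization_pos h0) with rfl | rfl
    · simp
    · simp
  set d := Cfsg.charDegree (χ : G → ℂ)
  -- a good element for each prime
  have side : ∀ (r s : ℕ) [Fact r.Prime] [Fact s.Prime], r ≠ s →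
      ∀ (R : Sylow r (G ⧸ Z)) (S : Sylow s (G ⧸ Z)), Nat.card (G ⧸ Z) ∣ Nat.card R * Nat.card S →
      ∀ a : ℕ, ∃ h ∈ (S : Subgroup (G ⧸ Z)), Nat.card (CoprimeFixedHalf.fixIn act
        ((powMonoidHom (r ^ a) : W →* W).ker) h) ^ 2 ∣ Nat.card ((powMonoidHom (r ^ a) : W →* W).ker) := by
    intro r s _ _ hrs R S hRS a
    set U := (powMonoidHom (r ^ a) : W →* W).ker with hU
    have hUinv : ∀ h : G ⧸ Z, ∀ v ∈ U, act h v ∈ U := fun h v hv => by
      show (act h v) ^ (r ^ a) = 1
      rw [← map_pow, show v ^ (r ^ a) = 1 from hv, map_one]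
    obtain ⟨c, hc⟩ := pow_ker_card (V := W) (p := r) a
    obtain ⟨e, he⟩ := IsPGroup.iff_card.1 S.2
    haveI : Group.IsNilpotent (S : Subgroup (G ⧸ Z)) := S.2.isNilpotent
    have hfix : ∀ v ∈ U, (∀ h : (S : Subgroup (G ⧸ Z)), (act.comp (S : Subgroup (G ⧸ Z)).subtype) h v = v) →
        v = 1 := by
      intro v₀ hv₀ hfix₀
      set Ue := U.map W.subtype with hUe
      set T := (S : Subgroup (G ⧸ Z)) ⊔ W
      haveI hUen : Ue.Normal := ⟨fun x hx g => by
        obtain ⟨v, hv, rfl⟩ := hx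
        exact ⟨act g v, hUinv g v hv, rfl⟩⟩
      haveI hTn : T.Normal := by
        have h1 := S.mapSurjective (QuotientGroup.mk'_surjective W)
        haveI : ((S.mapSurjective (QuotientGroup.mk'_surjective W) : Sylow s ((G ⧸ Z) ⧸ W)) :
            Subgroup ((G ⧸ Z) ⧸ W)).Normal := by
          have := (Group.isNilpotent_of_finite_tfae (G := (G ⧸ Z) ⧸ W)).out 0 3
          exact this.mp inferInstance s inferInstance _
        have e2 : T = ((S : Subgroup (G ⧸ Z)).map σ).comap σ := by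
          rw [Subgroup.comap_map_eq, QuotientGroup.ker_mk']
        rw [e2]
        exact Subgroup.Normal.comap (by simpa [hσ] using this) σ
      set X := Ue ⊓ Subgroup.centralizer (T : Set (G ⧸ Z))
      have hX : (v₀ : G ⧸ Z) ∈ X := by
        refine ⟨⟨v₀, hv₀, rfl⟩, ?_⟩
        have : T ≤ Subgroup.centralizer ({(v₀ : G ⧸ Z)} : Set (G ⧸ Z)) := by
          refine sup_le (fun h hh => ?_) fun w hw => ?_
          · rw [Subgroup.mem_centralizer_singleton_iff]
            have := congrArg Subtype.val (hfix₀ ⟨h, hh⟩)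
            simp only [MonoidHom.comp_apply, Subgroup.coe_subtype, hact, MulAut.conjNormal_apply] at this
            exact mul_inv_eq_iff_eq_mul.1 this
          · rw [Subgroup.mem_centralizer_singleton_iff]
            exact congrArg Subtype.val (mul_comm (⟨w, hw⟩ : W) v₀)
        exact Subgroup.mem_centralizer_iff.2 fun t ht => Subgroup.mem_centralizer_singleton_iff.1 (this ht)
      have hXp : IsPGroup r X := by
        refine IsPGroup.to_le ?_ (inf_le_left : X ≤ Ue)
        exact IsPGroup.of_card (n := c) ((Subgroup.card_map_of_injective W.subtype_injective).trans hc)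
      have hXR : X ≤ (R : Subgroup (G ⧸ Z)) := by
        obtain ⟨R', hR'⟩ := hXp.exists_le_sylow
        obtain ⟨g, hg⟩ := MulAction.exists_smul_eq (G ⧸ Z) R' R
        intro x hx
        rw [← hg, Sylow.coe_subgroup_smul]
        have := Subgroup.smul_mem_pointwise_smul _ (MulAut.conj g) _
          (hR' ((inferInstance : X.Normal).conj_mem x hx g⁻¹))
        simpa [MulAut.smul_def, mul_assoc] using this
      by_contra hne
      have hXne : X.subgroupOf (R : Subgroup (G ⧸ Z)) ≠ ⊥ := by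
        intro h0
        rw [Subgroup.subgroupOf_eq_bot] at h0
        exact hne (Subtype.ext (Subgroup.mem_bot.1 (h0.le_bot ⟨hX, hXR hX⟩)))
      haveI : Group.IsNilpotent (R : Subgroup (G ⧸ Z)) := R.2.isNilpotent
      obtain ⟨y, hy, hy1⟩ := ((X.subgroupOf (R : Subgroup (G ⧸ Z))) ⊓
        Subgroup.center (R : Subgroup (G ⧸ Z))).bot_or_exists_ne_one.resolve_left
        (CfsgLib.Solvable.FrattiniFitting.inf_center_ne_bot _ hXne)
      refine hy1 (Subtype.ext ?_)
      have hyX : (y : G ⧸ Z) ∈ X := hy.1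
      obtain ⟨w, -, hw⟩ := hyX.1
      refine hcenW _ (hw ▸ w.2) ?_
      set C := Subgroup.centralizer ({(y : G ⧸ Z)} : Set (G ⧸ Z))
      have hRC : (R : Subgroup (G ⧸ Z)) ≤ C := fun z hz => Subgroup.mem_centralizer_singleton_iff.2
        (congrArg Subtype.val (Subgroup.mem_center_iff.1 hy.2 ⟨z, hz⟩))
      have hSC : (S : Subgroup (G ⧸ Z)) ≤ C := fun z hz => Subgroup.mem_centralizer_singleton_iff.2
        (Subgroup.mem_centralizer_iff.1 hyX.2 z (le_sup_left (b := W) hz))
      have hco : (Nat.card R).Coprime (Nat.card S) := by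
        obtain ⟨e', he'⟩ := IsPGroup.iff_card.1 R.2
        rw [show Nat.card R = r ^ e' from he', show Nat.card S = s ^ e from he]
        exact Nat.Coprime.pow _ _ ((Nat.coprime_primes Fact.out Fact.out).2 hrs)
      have hC : C = ⊤ := Subgroup.eq_top_of_le_card C (Nat.le_of_dvd Nat.card_pos
        (hRS.trans (hco.mul_dvd_of_dvd_of_dvd (Subgroup.card_dvd_of_le hRC) (Subgroup.card_dvd_of_le hSC))))
      exact Subgroup.mem_center_iff.2 fun g =>
        Subgroup.mem_centralizer_singleton_iff.1 (hC ▸ Subgroup.mem_top g : g ∈ C)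
    have hcop : (Nat.card U).Coprime (Nat.card (S : Subgroup (G ⧸ Z))) := by
      rw [hc, show Nat.card (S : Subgroup (G ⧸ Z)) = s ^ e from he]
      exact Nat.Coprime.pow _ _ ((Nat.coprime_primes Fact.out Fact.out).2 hrs)
    obtain ⟨h, hh⟩ := CoprimeFixedHalf.exists_half (act.comp (S : Subgroup (G ⧸ Z)).subtype) U
      (fun h v hv => hUinv _ v hv) hcop hfix
    refine ⟨h, h.2, ?_⟩
    have hh' : Nat.card (CoprimeFixedHalf.fixIn act U (h : G ⧸ Z)) ^ 2 ≤ Nat.card U := hh
    obtain ⟨k, hk⟩ := IsPGroup.iff_card.1 ((IsPGroup.of_card hc).to_le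
      (fun v hv => hv.1 : CoprimeFixedHalf.fixIn act U (h : G ⧸ Z) ≤ U))
    rw [hk, hc] at hh' ⊢
    rw [← pow_mul] at hh' ⊢
    exact pow_dvd_pow r ((Nat.pow_le_pow_iff_right (Fact.out : r.Prime).one_lt).1 hh')
  -- the two parts of `W`
  set α := (Nat.card W).factorization p
  set β := (Nat.card W).factorization q
  have hWab : Nat.card W = p ^ α * q ^ β := by
    have hdW : Nat.card W ∣ Nat.card (G ⧸ Z) := Subgroup.card_subgroup_dvd_card W
    refine Nat.eq_of_factorization_eq Nat.card_pos.ne' (by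
      have := (Fact.out : p.Prime).pos; have := (Fact.out : q.Prime).pos; positivity) fun r => ?_
    rw [Nat.factorization_mul (pow_ne_zero _ (Fact.out : p.Prime).ne_zero)
      (pow_ne_zero _ (Fact.out : q.Prime).ne_zero), Finsupp.add_apply,
      Nat.Prime.factorization_pow Fact.out, Nat.Prime.factorization_pow Fact.out]
    by_cases hrp : r = p
    · subst hrp; simp [hpq.symm, α]
    by_cases hrq : r = q
    · subst hrq; simp [hpq, β]
    rw [Finsupp.single_eq_of_ne (by tauto), Finsupp.single_eq_of_ne (by tauto)]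
    by_contra h0
    exact (hcardB r (Nat.prime_of_mem_primeFactors (Finsupp.mem_support_iff.2 h0))
      ((Nat.dvd_of_factorization_pos h0).trans hdW)).elim hrp hrq
  set Up := (powMonoidHom (p ^ α) : W →* W).ker
  set Uq := (powMonoidHom (q ^ β) : W →* W).ker
  obtain ⟨cp, hcp⟩ := pow_ker_card (V := W) (p := p) α
  obtain ⟨cq, hcq⟩ := pow_ker_card (V := W) (p := q) β
  obtain ⟨a, haQ, ha⟩ := side p q hpq P Q hPQ α
  obtain ⟨b, hbP, hb⟩ := side q p hpq.symm Q P (by rwa [mul_comm]) β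
  obtain ⟨g, hg⟩ := hπsurj (a * b)
  refine ⟨g, ?_⟩
  -- powers of the element
  have hpow : ∀ v : W, act (a * b) v = v → act a v = v ∧ act b v = v := by
    intro v hv
    obtain ⟨ea, hea⟩ := IsPGroup.iff_card.1 P.2
    obtain ⟨eb, heb⟩ := IsPGroup.iff_card.1 Q.2
    have hco : (Nat.card P).Coprime (Nat.card Q) := by
      rw [show Nat.card P = p ^ ea from hea, show Nat.card Q = q ^ eb from heb]
      exact Nat.Coprime.pow _ _ ((Nat.coprime_primes Fact.out Fact.out).2 hpq)
    have ha1 : σ a ^ Nat.card Q = 1 := by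
      rw [← map_pow, orderOf_dvd_iff_pow_eq_one.1 (Subgroup.orderOf_dvd_natCard _ haQ), map_one]
    have hb1 : σ b ^ Nat.card P = 1 := by
      rw [← map_pow, orderOf_dvd_iff_pow_eq_one.1 (Subgroup.orderOf_dvd_natCard _ hbP), map_one]
    have hab : Commute (σ a) (σ b) := CfsgLib.OddOrder.Basic.commute_of_coprime_orderOf
      ((hco.symm.coprime_dvd_left (orderOf_dvd_of_pow_eq_one ha1)).coprime_dvd_right
        (orderOf_dvd_of_pow_eq_one hb1))
    have htriv : ∀ u u' : G ⧸ Z, σ u = σ u' → act u = act u' := by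
      intro u u' h
      have hmem : u⁻¹ * u' ∈ W := QuotientGroup.eq.1 h
      have := hWact _ hmem
      rw [map_mul, map_inv, inv_mul_eq_one] at this
      exact this
    have hfixpow : ∀ m : ℕ, act ((a * b) ^ m) v = v := fun m =>
      CoprimeFixedHalf.map_zpow_apply act hv m
    constructor
    · obtain ⟨m, hm1, hm2⟩ := Nat.chineseRemainder hco.symm 1 0
      rw [← htriv ((a * b) ^ m) a ?_]; · exact hfixpow m
      rw [map_pow, map_mul, hab.mul_pow, pow_eq_pow_mod m hb1,
        pow_eq_pow_mod m ha1, show m % Nat.card P = 0 from Eq.trans hm2 (Nat.zero_mod _), pow_zero, mul_one,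
        show m % Nat.card Q = 1 % Nat.card Q from hm1, ← pow_eq_pow_mod 1 ha1, pow_one]
    · obtain ⟨m, hm1, hm2⟩ := Nat.chineseRemainder hco 1 0
      rw [← htriv ((a * b) ^ m) b ?_]; · exact hfixpow m
      rw [map_pow, map_mul, hab.mul_pow, pow_eq_pow_mod m hb1,
        pow_eq_pow_mod m ha1, show m % Nat.card Q = 0 from Eq.trans hm2 (Nat.zero_mod _), pow_zero, one_mul,
        show m % Nat.card P = 1 % Nat.card P from hm1, ← pow_eq_pow_mod 1 hb1, pow_one]
  set C := CoprimeFixedHalf.fixIn act (⊤ : Subgroup W) (a * b)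
  have hCsq : Nat.card C ^ 2 ∣ d ^ 2 := by
    rw [← hcardW]
    refine dvd_trans (pow_dvd_pow_of_dvd (card_dvd_split hWab C) 2) ?_
    rw [mul_pow]
    have h1 : Nat.card (C ⊓ Up : Subgroup W) ^ 2 ∣ Nat.card Up :=
      (pow_dvd_pow_of_dvd (Subgroup.card_dvd_of_le
        (fun v hv => ⟨hv.2, (hpow v hv.1.2).1⟩ : C ⊓ Up ≤ CoprimeFixedHalf.fixIn act Up a)) 2).trans ha
    have h2 : Nat.card (C ⊓ Uq : Subgroup W) ^ 2 ∣ Nat.card Uq :=
      (pow_dvd_pow_of_dvd (Subgroup.card_dvd_of_le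
        (fun v hv => ⟨hv.2, (hpow v hv.1.2).2⟩ : C ⊓ Uq ≤ CoprimeFixedHalf.fixIn act Uq b)) 2).trans hb
    refine (mul_dvd_mul h1 h2).trans (Nat.Coprime.mul_dvd_of_dvd_of_dvd ?_
      (Subgroup.card_subgroup_dvd_card _) (Subgroup.card_subgroup_dvd_card _))
    rw [hcp, hcq]
    exact Nat.Coprime.pow _ _ ((Nat.coprime_primes Fact.out Fact.out).2 hpq)
  obtain ⟨k, hk⟩ := (Nat.pow_dvd_pow_iff two_ne_zero).1 hCsq
  have hidx : C.index = d * k := by
    have := C.card_mul_index
    rw [hcardW] at this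
    refine Nat.eq_of_mul_eq_mul_left (Nat.card_pos (α := C)) (this.trans ?_)
    calc d ^ 2 = d * (Nat.card C * k) := by rw [← hk, sq]
      _ = _ := by ring
  refine dvd_trans ⟨k, hidx⟩ ?_
  set Cg := Subgroup.centralizer ({g} : Set G)
  have h3 : ((Cg.subgroupOf F).map (π.subgroupMap F)) ≤ C := by
    rintro _ ⟨x, hx, rfl⟩
    refine ⟨Subgroup.mem_top _, Subtype.ext ?_⟩
    rw [hact, MulAut.conjNormal_apply]
    show a * b * π (x : G) * (a * b)⁻¹ = π (x : G)
    rw [← hg, ← map_inv, ← map_mul, ← map_mul]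
    congr 1
    rw [← Subgroup.mem_centralizer_singleton_iff.1 (Subgroup.mem_subgroupOf.1 hx), mul_inv_cancel_right]
  refine (Subgroup.index_dvd_of_le h3).trans ((Subgroup.index_map_dvd _
    (MonoidHom.subgroupMap_surjective _ F)).trans ?_)
  change Cg.relIndex F ∣ Cg.index
  rw [← CfsgLib.CharDeep.Relative.relIndex_sup_left' F Cg,
    ← Subgroup.relIndex_mul_index (le_sup_right : Cg ≤ F ⊔ Cg)]
  exact dvd_mul_right _ _

/-- Let G be a group of odd order whose order has exactly two prime divisors and whose quotient by its Fitting subgroup is nilpotent (G is metanilpotent), and let χ be a primitive irreducible complex character of G (not induced from a character of any proper subgroup). Then χ(1) divides the size of some conjugacy class of G. -/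
theorem result {G : Type*} [Group G] [Fintype G] (hodd : Odd (Nat.card G)) (h2 : (Nat.card G).primeFactors.card = 2) [hF : (Cfsg.fittingSubgroup G).Normal] (hmeta : Group.IsNilpotent (G ⧸ Cfsg.fittingSubgroup G)) (χ : Cfsg.IrrCharacter G) (hprim : ¬ ∃ (H : Subgroup G), H ≠ ⊤ ∧ ∃ θ : ↥H → ℂ, Cfsg.IsCharacter ↥H θ ∧ Cfsg.indFun H θ = (χ : G → ℂ)) : ∃ g : G, Cfsg.charDegree (χ : G → ℂ) ∣ (Subgroup.centralizer ({g} : Set G)).index := by
  classical
  obtain ⟨p, q, hpq, hpf⟩ := Finset.card_eq_two.1 h2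
  haveI : Fact p.Prime := ⟨Nat.prime_of_mem_primeFactors (hpf.symm ▸ Finset.mem_insert_self p _)⟩
  haveI : Fact q.Prime := ⟨Nat.prime_of_mem_primeFactors
    (hpf.symm ▸ Finset.mem_insert_of_mem (Finset.mem_singleton_self q))⟩
  set K := CfsgLib.Char.charKer (CfsgLib.Char.isCharacter_irr χ)
  haveI : K.Normal := CfsgLib.Char.charKer_normal _
  haveI : Fintype (G ⧸ K) := Fintype.ofFinite _
  obtain ⟨ψ, hψ, he⟩ := CfsgLib.Char.IsIrrCharacter.exists_deflate χ.2 K fun n hn =>
    (CfsgLib.Char.mem_charKer _).1 hn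
  set π := QuotientGroup.mk' K
  have hsurj : Function.Surjective π := QuotientGroup.mk'_surjective K
  have hcard : ∀ r : ℕ, r.Prime → r ∣ Nat.card (G ⧸ K) → r = p ∨ r = q := by
    intro r hr hd
    have : r ∈ (Nat.card G).primeFactors :=
      Nat.mem_primeFactors.2 ⟨hr, hd.trans (Subgroup.card_quotient_dvd_card K), Nat.card_pos.ne'⟩
    rw [hpf] at this
    simpa using this
  have hm : Group.IsNilpotent ((G ⧸ K) ⧸ Cfsg.fittingSubgroup (G ⧸ K)) := by
    have hle : (Cfsg.fittingSubgroup G).map π ≤ Cfsg.fittingSubgroup (G ⧸ K) := by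
      haveI : ((Cfsg.fittingSubgroup G).map π).Normal := Subgroup.Normal.map hF _ hsurj
      exact CfsgLib.Solvable.Cores.le_fittingSubgroup (Group.nilpotent_of_surjective _
        (MonoidHom.subgroupMap_surjective π _))
    haveI := hmeta
    refine Group.nilpotent_of_surjective
      (QuotientGroup.map (Cfsg.fittingSubgroup G) _ π (Subgroup.map_le_iff_le_comap.1 hle)) ?_
    intro y
    obtain ⟨z, rfl⟩ := QuotientGroup.mk'_surjective _ y
    obtain ⟨g, rfl⟩ := hsurj z
    exact ⟨QuotientGroup.mk' _ g, rfl⟩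
  have hval : ∀ g : G, (χ : G → ℂ) g = ψ (π g) := fun g => congrFun he g
  obtain ⟨x, hx⟩ := core p q hpq hcard hm ⟨ψ, hψ⟩ (fun x hx => by
      obtain ⟨g, rfl⟩ := hsurj x
      refine (QuotientGroup.eq_one_iff g).2 ((CfsgLib.Char.mem_charKer _).2 ?_)
      rw [hval, hval, map_one]
      exact hx) (prim_deflate K he hprim)
  obtain ⟨g, rfl⟩ := hsurj x
  refine ⟨g, ?_⟩
  have hd : Cfsg.charDegree (χ : G → ℂ) = Cfsg.charDegree ψ := by
    simp only [Cfsg.charDegree, hval, map_one]
  rw [hd]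
  refine hx.trans ?_
  refine (Subgroup.index_dvd_of_le ?_).trans (Subgroup.index_map_dvd _ hsurj)
  rintro _ ⟨c, hc, rfl⟩
  rw [Subgroup.mem_centralizer_singleton_iff, ← map_mul, ← map_mul]
  exact congrArg π (Subgroup.mem_centralizer_singleton_iff.1 hc)

end Cfsg.Agent.S4993
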