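import Cfsg.Statements.S4996
import Cfsg.Agent.Lib.DegreeTools.Commutant
-- import your own Cfsg.Agent.* helpers here

set_option autoImplicit false
open Cfsg

namespace Cfsg.Agent.S4996

/-- Let N be a normal subgroup of the finite group G and χ an irreducible complex character of G. Then the restriction of χ to N is not irreducible if and only if χ vanishes on some whole coset Nx of N in G. -/
theorem result {G : Type*} [Group G] [Finite G] (N : Subgroup G) [N.Normal] (χ : Cfsg.IrrCharacter G) : ¬ Cfsg.IsIrrCharacter ↥N (fun n : ↥N => (χ : G → ℂ) n) ↔ ∃ x : G, ∀ n : ↥N, (χ : G → ℂ) ((n : G) * x) = 0 := by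
  classical
  cases nonempty_fintype G
  obtain ⟨d, ρ, hirr, hρ⟩ := χ.2
  haveI := hirr
  haveI : Nontrivial (Fin d → ℂ) := CfsgLib.DegreeTools.Eigen.nontrivial_of_isIrreducible hirr
  open CfsgLib.DegreeTools in
  let ρN : Representation ℂ N (Fin d → ℂ) := ρ.comp N.subtype
  have hN0 : (0 : ℝ) < Nat.card N := Nat.cast_pos.mpr Nat.card_pos
  set W := CfsgLib.DegreeTools.Commutant.space ρ N with hW
  set τ := CfsgLib.DegreeTools.Commutant.rep ρ N with hτ
  set φ : G → ℝ := fun x => (Nat.card N : ℝ)⁻¹ * ∑ n : N, ‖ρ.character ((n : G) * x)‖ ^ 2 with hφ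
  have hφτ : ∀ x, τ.character x = (φ x : ℂ) :=
    fun x => CfsgLib.DegreeTools.Commutant.character_rep ρ N x
  have hφnn : ∀ x, 0 ≤ φ x := fun x => by positivity
  constructor
  · intro hred
    by_contra hno
    push Not at hno
    apply hred
    have hφpos : ∀ x, 0 < φ x := by
      intro x
      obtain ⟨n, hn⟩ := hno x
      refine mul_pos (inv_pos.mpr hN0) (Finset.sum_pos' (fun _ _ => by positivity)
        ⟨n, Finset.mem_univ _, ?_⟩)
      rw [hρ]; positivity
    have hτne : ∀ x, τ.character x ≠ 0 := fun x => by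
      rw [hφτ]; exact_mod_cast (hφpos x).ne'
    have hτnorm : ∀ x, ‖τ.character x‖ = φ x := fun x => by
      rw [hφτ, Complex.norm_real, Real.norm_eq_abs, abs_of_nonneg (hφnn x)]
    have hS : ∀ g ∈ Finset.univ.filter (fun g : G => g ∉ N), ∀ j : ℕ,
        (Nat.card G).Coprime j → g ^ j ∈ Finset.univ.filter (fun g : G => g ∉ N) := by
      intro g hg j hj
      simp only [Finset.mem_filter, Finset.mem_univ, true_and] at hg ⊢
      intro hmem
      obtain ⟨i, hi⟩ := exists_pow_eq_self_of_coprime (x := g)
        (Nat.Coprime.coprime_dvd_right (orderOf_dvd_natCard g) hj.symm)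
      exact hg (hi ▸ N.pow_mem hmem i)
    have hle := CfsgLib.DegreeTools.CharTools.card_le_sum_pow (V := W) 1 τ _ hS (fun g _ => hτne g)
    simp only [pow_one, hτnorm] at hle
    have htot : ∑ x : G, φ x = (Nat.card G : ℝ) := by
      simp only [hφ, ← Finset.mul_sum]
      rw [Finset.sum_comm]
      have : ∀ n : N, ∑ x : G, ‖ρ.character ((n : G) * x)‖ ^ 2 = (Nat.card G : ℝ) := fun n => by
        rw [← CfsgLib.DegreeTools.CharTools.sum_norm_sq ρ]
        exact Equiv.sum_comp (Equiv.mulLeft (n : G)) (fun g => ‖ρ.character g‖ ^ 2)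
      rw [Finset.sum_congr rfl (fun n _ => this n), Finset.sum_const, nsmul_eq_mul,
        Finset.card_univ, ← Nat.card_eq_fintype_card]
      field_simp
    have hinv : ∀ n : N, φ n = φ 1 := by
      intro n
      simp only [hφ, mul_one]
      congr 1
      exact Equiv.sum_comp (Equiv.mulRight n) (fun m : N => ‖ρ.character (m : G)‖ ^ 2)
    have hsumN : ∑ x ∈ Finset.univ.filter (fun g : G => g ∈ N), φ x = Nat.card N * φ 1 := by
      rw [← Finset.sum_subtype_eq_sum_filter (f := φ), Finset.sum_congr rfl (fun n _ => hinv n),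
        Finset.sum_const, nsmul_eq_mul]
      congr 2
      simp [Nat.card_eq_fintype_card]
    have hsplit := Finset.sum_filter_add_sum_filter_not Finset.univ (fun g : G => g ∈ N) φ
    rw [hsumN, htot] at hsplit
    have hcard : (Nat.card N : ℝ) + (Finset.univ.filter (fun g : G => g ∉ N)).card = Nat.card G := by
      have : Nat.card N + (Finset.univ.filter (fun g : G => g ∉ N)).card = Nat.card G := by
        rw [Nat.card_eq_fintype_card, Nat.card_eq_fintype_card, Fintype.card_subtype,
          Finset.card_filter_add_card_filter_not, Finset.card_univ]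
      exact_mod_cast this
    have h1 : φ 1 ≤ 1 := by
      by_contra hc
      push Not at hc
      have := mul_lt_mul_of_pos_left hc hN0
      linarith
    have hdim : Module.finrank ℂ W = 1 := by
      have h := hφτ 1
      rw [Representation.char_one] at h
      have h' : (Module.finrank ℂ W : ℝ) = φ 1 := by exact_mod_cast h
      have hpos : 0 < Module.finrank ℂ W := by
        have := hφpos 1
        rw [← h'] at this
        exact_mod_cast this
      have hle1 : Module.finrank ℂ W ≤ 1 := by
        rw [← h'] at h1; exact_mod_cast h1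
      omega
    have hone : (1 : Module.End ℂ (Fin d → ℂ)) ∈ W :=
      (CfsgLib.DegreeTools.Commutant.mem_space_iff_comm ρ N _).mpr fun n => by rw [one_mul, mul_one]
    have hscal : ∀ f ∈ W, ∃ c : ℂ, f = c • (1 : Module.End ℂ (Fin d → ℂ)) := by
      intro f hf
      obtain ⟨c, hc⟩ := exists_smul_eq_of_finrank_eq_one hdim
        (x := (⟨1, hone⟩ : W)) (fun h => one_ne_zero (α := Module.End ℂ (Fin d → ℂ))
          (congrArg Subtype.val h)) ⟨f, hf⟩
      exact ⟨c, (congrArg Subtype.val hc).symm⟩
    haveI : ρN.IsIrreducible := by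
      refine CfsgLib.CharDeep.IrrTools.isIrreducible_of_forall ρN fun U hU => ?_
      by_cases hU0 : U = ⊥
      · exact Or.inl hU0
      right
      obtain ⟨U', hU'⟩ := U.exists_isCompl
      set π := U.projectionOnto U' hU' with hπ
      set P : Module.End ℂ (Fin d → ℂ) := U.subtype ∘ₗ π with hP
      set Q : Module.End ℂ (Fin d → ℂ) :=
        (Nat.card N : ℂ)⁻¹ • ∑ n : N, ρN n * P * ρN n⁻¹ with hQ
      have hQW : Q ∈ W := by
        rw [CfsgLib.DegreeTools.Commutant.mem_space_iff_comm]
        intro m
        show Q * ρN m = ρN m * Q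
        rw [hQ, smul_mul_assoc, mul_smul_comm, Finset.sum_mul, Finset.mul_sum]
        congr 1
        refine Fintype.sum_equiv (Equiv.mulLeft m⁻¹) _ _ fun n => ?_
        simp only [Equiv.coe_mulLeft]
        rw [← mul_assoc, ← mul_assoc, ← map_mul, mul_inv_cancel_left, mul_inv_rev, inv_inv,
          map_mul, mul_assoc _ (ρN n⁻¹)]
      obtain ⟨c, hc⟩ := hscal Q hQW
      have hQU : ∀ v, Q v ∈ U := by
        intro v
        simp only [hQ, LinearMap.smul_apply, LinearMap.sum_apply, Module.End.mul_apply]
        exact U.smul_mem _ (U.sum_mem fun n _ => hU n _ (π _).2)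
      have hQid : ∀ v ∈ U, Q v = v := by
        intro v hv
        simp only [hQ, LinearMap.smul_apply, LinearMap.sum_apply, Module.End.mul_apply]
        have : ∀ n : N, ρN n (P (ρN n⁻¹ v)) = v := by
          intro n
          have hmem : ρN n⁻¹ v ∈ U := hU _ _ hv
          have : P (ρN n⁻¹ v) = ρN n⁻¹ v := by
            simp [hP, hπ, Submodule.projectionOnto_apply_left U U' hU' ⟨_, hmem⟩]
            exact hmem
          rw [this, ← Module.End.mul_apply, ← map_mul, mul_inv_cancel, map_one,
            Module.End.one_apply]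
        rw [Finset.sum_congr rfl (fun n _ => this n), Finset.sum_const, Finset.card_univ,
          ← Nat.cast_smul_eq_nsmul ℂ, smul_smul, Nat.card_eq_fintype_card,
          inv_mul_cancel₀ (by simp), one_smul]
      obtain ⟨u, huU, hu⟩ := U.exists_mem_ne_zero_of_ne_bot hU0
      have hc1 : c = 1 := by
        have := hQid u huU
        rw [hc, LinearMap.smul_apply, Module.End.one_apply] at this
        have : (c - 1) • u = 0 := by rw [sub_smul, this, one_smul, sub_self]
        exact sub_eq_zero.mp ((smul_eq_zero.mp this).resolve_right hu)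
      refine eq_top_iff.mpr fun v _ => ?_
      have := hQU v
      rwa [hc, hc1, one_smul, Module.End.one_apply] at this
    have h := CfsgLib.CharDeep.IrrTools.isIrrCharacter_character ρN
    have heq : ρN.character = fun n : N => (χ : G → ℂ) n := by
      funext n; rw [← hρ]; rfl
    rwa [heq] at h
  · rintro ⟨x, hx⟩ ⟨e, σ, hσ, hσχ⟩
    haveI := hσ
    have heq : ρN.character = σ.character := by
      rw [hσχ]; funext n; rw [← hρ]; rfl
    obtain ⟨E⟩ := CfsgLib.CharDeep.IrrTools.nonempty_equiv_of_character_eq σ ρN heq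
    have hscal : ∀ f ∈ W, ∃ c : ℂ, f = c • (1 : Module.End ℂ (Fin d → ℂ)) := by
      intro f hf
      rw [CfsgLib.DegreeTools.Commutant.mem_space_iff_comm] at hf
      have hEn : ∀ n v, E (σ n v) = ρN n (E v) := fun n v => by
        simpa using LinearMap.congr_fun (E.toIntertwiningMap.isIntertwining' n) v
      obtain ⟨c, hc⟩ := CfsgLib.CharDeep.IrrTools.exists_smul_of_commute σ
        ((E.toLinearEquiv.symm : _ →ₗ[ℂ] _) ∘ₗ f ∘ₗ (E.toLinearEquiv : _ →ₗ[ℂ] _)) (fun n => by
          apply LinearMap.ext
          intro v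
          apply E.toLinearEquiv.injective
          simp only [Module.End.mul_apply, LinearMap.comp_apply, LinearEquiv.coe_coe,
            LinearEquiv.apply_symm_apply]
          show f (E (σ n v)) = E (σ n (E.toLinearEquiv.symm (f (E v))))
          rw [hEn n v, hEn n (E.toLinearEquiv.symm (f (E v)))]
          have h2 : E (E.toLinearEquiv.symm (f (E v))) = f (E v) :=
            E.toLinearEquiv.apply_symm_apply _
          rw [h2]
          exact LinearMap.congr_fun (hf n) (E v))
      refine ⟨c, LinearMap.ext fun w => ?_⟩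
      obtain ⟨v, rfl⟩ := E.toLinearEquiv.surjective w
      have := congrArg E.toLinearEquiv (LinearMap.congr_fun hc v)
      simp only [LinearMap.comp_apply, LinearEquiv.coe_coe, LinearEquiv.apply_symm_apply,
        LinearMap.smul_apply, Module.End.one_apply, map_smul] at this
      simpa using this
    have htriv : τ x = 1 := by
      refine LinearMap.ext fun f => Subtype.ext ?_
      obtain ⟨c, hc⟩ := hscal f f.2
      show ρ x ∘ₗ (f : Module.End ℂ (Fin d → ℂ)) ∘ₗ ρ x⁻¹ = (f : Module.End ℂ (Fin d → ℂ))
      rw [hc, LinearMap.smul_comp, LinearMap.comp_smul]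
      show c • (ρ x * (1 * ρ x⁻¹)) = _
      rw [one_mul, ← map_mul, mul_inv_cancel, map_one]
    have hφx : φ x = 0 := by
      rw [hφ]
      simp only [hρ, hx, norm_zero, ne_eq, OfNat.ofNat_ne_zero, not_false_eq_true, zero_pow,
        Finset.sum_const_zero, mul_zero]
    have h1 : (φ x : ℂ) = (φ 1 : ℂ) := by
      rw [← hφτ, ← hφτ]
      show LinearMap.trace ℂ _ (τ x) = LinearMap.trace ℂ _ (τ 1)
      rw [htriv]
      exact congrArg _ (map_one τ).symm
    have hd : 0 < d := by
      have := Module.finrank_pos (R := ℂ) (M := Fin d → ℂ)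
      simpa using this
    have hpos : 0 < φ 1 := by
      refine mul_pos (inv_pos.mpr hN0) (Finset.sum_pos' (fun _ _ => by positivity)
        ⟨1, Finset.mem_univ _, ?_⟩)
      simp only [OneMemClass.coe_one, mul_one, Representation.char_one, Module.finrank_fin_fun,
        Complex.norm_natCast]
      exact pow_pos (Nat.cast_pos.mpr hd) 2
    have h2 : φ x = φ 1 := by exact_mod_cast h1
    rw [hφx] at h2
    exact hpos.ne h2



end Cfsg.Agent.S4996
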