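import Cfsg.Statements.S4997
import Cfsg.Agent.Lib.DegreeTools.VanishSingular.Main

set_option autoImplicit false
open Cfsg

namespace Cfsg.Agent.S4997

/-- Let p be an odd prime and G a finite solvable group with exactly one conjugacy class consisting of vanishing elements (elements at which some irreducible complex character is zero) of order divisible by p. Let P be a Sylow p-subgroup of G. Then the order of P is at most p times the order of the largest normal p-subgroup of G. -/
theorem result {G : Type*} [Group G] [Finite G] (hsolv : Group.IsSolvable G) (p : ℕ) [Fact p.Prime] (hp : p ≠ 2) (h1 : Set.ncard {C : ConjClasses G | (∀ g ∈ C.carrier, ∃ χ : Cfsg.IrrCharacter G, (χ : G → ℂ) g = 0) ∧ ∃ g ∈ C.carrier, p ∣ orderOf g} = 1) (P : Sylow p G) : Nat.card ↥(P : Subgroup G) ≤ p * Nat.card ↥(Cfsg.pCore p G) := by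
  classical
  have := hsolv
  obtain ⟨C, hC⟩ := Set.ncard_eq_one.mp h1
  obtain ⟨g₀, hg₀⟩ := ConjClasses.exists_rep C
  refine (CfsgLib.DegreeTools.VanishSingular.card_sylow_le (p := p) (b := orderOf g₀)
    (fun g hg hd => ?_) P).2
  obtain ⟨χ, hχ⟩ := hg
  have h2 : ConjClasses.mk g ∈ ({C} : Set (ConjClasses G)) := by
    rw [← hC]
    refine ⟨fun x hx => ⟨χ, ?_⟩, g, ConjClasses.mem_carrier_mk, hd⟩
    rw [← CfsgLib.Char.IsClassFunction.apply_eq_of_isConj
      (CfsgLib.Char.IsIrrCharacter.isClassFunction χ.2)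
      (ConjClasses.mk_eq_mk_iff_isConj.mp (ConjClasses.mem_carrier_iff_mk_eq.mp hx)).symm]
    exact hχ
  rw [Set.mem_singleton_iff, ← hg₀, ConjClasses.mk_eq_mk_iff_isConj] at h2
  obtain ⟨c, hc⟩ := isConj_iff.mp h2
  rw [← hc]
  exact (MulEquiv.orderOf_eq (MulAut.conj c) g).symm

end Cfsg.Agent.S4997
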