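import Cfsg.Statements.S5001
import Cfsg.Agent.Lib.Blocks.HeightZeroLinear
import Cfsg.Agent.Lib.CharDeep.CentralTrick
-- import your own Cfsg.Agent.* helpers here

set_option autoImplicit false
open Cfsg

namespace Cfsg.Agent.S5001

/-- Let p be a prime, G a finite group and B a p-block of G (relative to a maximal ideal M of the algebraic integers containing p) with defect group D. Let Z be a central p-subgroup of G contained in D and λ a linear character of Z (a homomorphism to the nonzero complex numbers). Say an irreducible character χ of G lies over λ when χ(z) = χ(1)λ(z) for all z ∈ Z. If some irreducible character in B lying over λ has height zero, then λ extends to a linear character of D. -/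
theorem result {G : Type*} [Group G] [Finite G] (p : ℕ) [Fact p.Prime] (M : Ideal Cfsg.AlgInt) (hM : Cfsg.IsPModular p M) (B : Set (Cfsg.IrrCharacter G)) (hB : Cfsg.IsPBlock M B) (D : Subgroup G) (hD : Cfsg.IsDefectGroup p M B D) (Z : Subgroup G) (hZc : Z ≤ Subgroup.center G) (hZp : IsPGroup p ↥Z) (hZD : Z ≤ D) (lam : ↥Z →* ℂˣ) (χ : Cfsg.IrrCharacter G) (hχ : χ ∈ B) (hover : (∀ z : ↥Z, (χ : G → ℂ) z = (χ : G → ℂ) 1 * (lam z : ℂ))) (h0 : Cfsg.blockHeight p B (χ : G → ℂ) = 0) : (∃ μ : ↥D →* ℂˣ, ∀ z : ↥Z, μ ⟨(z : G), hZD z.2⟩ = lam z) := by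
  classical
  cases nonempty_fintype G
  obtain ⟨μ, hμ⟩ := CfsgLib.Blocks.exists_linear_constituent hM hB hD hχ h0
  refine ⟨μ, fun z => Units.ext ?_⟩
  refine (CfsgLib.Blocks.linear_constituent_eq_of_central μ χ hμ
    (z := ⟨(z : G), hZD z.2⟩) (a := (lam z : ℂ)) fun g => ?_).symm
  obtain ⟨c, hc, -⟩ := CfsgLib.CharDeep.CentralTrick.exists_scalar_center χ.2 (hZc z.2)
  have h1 : (lam z : ℂ) = c := by
    have h := hc 1
    rw [one_mul, hover z, mul_comm c] at h
    exact mul_left_cancel₀ (CfsgLib.Blocks.irr_one_ne_zero χ) h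
  rw [h1]; exact hc g

end Cfsg.Agent.S5001
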