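import Cfsg.Statements.S5005
import Cfsg.Agent.Lib.DegreeTools.MathieuLocal
import Cfsg.Agent.Lib.DegreeTools.PrimeValues
import Cfsg.Agent.Lib.Blocks.SingleBlock
-- import your own Cfsg.Agent.* helpers here

set_option autoImplicit false
open Cfsg

namespace Cfsg.Agent.S5005

open CfsgLib CfsgLib.DegreeTools CfsgLib.Sporadic.MathieuOutTwo
open scoped Classical ComplexConjugate

/-- The elements of order `ℓ` and the values of a character at them. -/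
theorem family [Fintype Cfsg.Spor.M22] {ℓ : ℕ} (hℓ : ℓ = 5 ∨ ℓ = 7 ∨ ℓ = 11) {k n : ℕ}
    (hsq : ¬ ℓ * ℓ ∣ 443520)
    (huniq : ∀ j < ℓ, j ∣ ℓ - 1 → 443520 / (j * ℓ) % ℓ = 1 → j = k)
    (hk : k = ℓ - 1 ∨ (Odd k ∧ 2 * k = ℓ - 1)) (hn : n * (k * ℓ) = (ℓ - 1) * 443520)
    (χ : Cfsg.IrrCharacter Cfsg.Spor.M22) :
    ∃ (E : Finset Cfsg.Spor.M22) (s q y : ℤ), E.card = n ∧ (∀ h ∈ E, orderOf h = ℓ) ∧
      0 ≤ y ∧ 4 * q = s ^ 2 + (ℓ : ℤ) * y ∧
      (ℓ : ℤ) ∣ q - (Cfsg.charDegree (χ : Cfsg.Spor.M22 → ℂ) : ℤ) ^ 2 ∧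
      (ℓ : ℤ) ∣ s - 2 * (Cfsg.charDegree (χ : Cfsg.Spor.M22 → ℂ) : ℤ) ∧
      ∀ h ∈ E, (χ : Cfsg.Spor.M22 → ℂ) h + conj ((χ : Cfsg.Spor.M22 → ℂ) h) = (s : ℂ) ∧
        Complex.normSq ((χ : Cfsg.Spor.M22 → ℂ) h) = (q : ℝ) := by
  have hℓp : ℓ.Prime := by rcases hℓ with rfl | rfl | rfl <;> norm_num
  haveI : Fact ℓ.Prime := ⟨hℓp⟩
  obtain ⟨g, hg⟩ := exists_prime_orderOf_dvd_card' (G := Cfsg.Spor.M22) ℓ
    (by rw [card_M22]; rcases hℓ with rfl | rfl | rfl <;> norm_num)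
  have hC : Nat.card (Subgroup.centralizer ({g} : Set Cfsg.Spor.M22)) = ℓ := by
    rw [← CfsgLib.Sporadic.MathieuLocalCounts.card_cent (K := Cfsg.Spor.M22)
      (fun x hx => ((mem_M22 x).1 hx).1) (show (none : Cfsg.GolayPt) ≠ some 0 by simp)
      (fun x hx => ⟨((mem_M22 x).1 hx).2 none (by simp), ((mem_M22 x).1 hx).2 (some 0) (by simp)⟩)
      g.2 hℓ (by rw [Subgroup.orderOf_coe, hg])]
    exact Nat.card_congr ⟨fun c => ⟨c.1.1, c.1.2, Subgroup.mem_centralizer_singleton_iff.2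
        (congrArg Subtype.val (Subgroup.mem_centralizer_singleton_iff.1 c.2))⟩,
      fun c => ⟨⟨c.1, c.2.1⟩, Subgroup.mem_centralizer_singleton_iff.2
        (Subtype.ext (Subgroup.mem_centralizer_singleton_iff.1 c.2.2))⟩,
      fun _ => rfl, fun _ => rfl⟩
  obtain ⟨j, hN, hj, -, hmod⟩ := PrimeValues.automizer hℓp hg (by rw [card_M22]; exact hsq) hC
  rw [card_M22] at hmod
  have hjk : j = k := huniq j (by
    have := Nat.le_of_dvd (by have := hℓp.two_le; omega) hj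
    have := hℓp.two_le
    omega) hj hmod
  subst hjk
  obtain ⟨hP, hcard⟩ := PrimeValues.pm_spec hℓp (by omega) hg (by rw [hN, hC]) hk
  rw [hN, card_M22] at hcard
  obtain ⟨s, q, y, h1, h2, h3, h4, h5⟩ := PrimeValues.values χ hℓp hg hP
  refine ⟨_, s, q, y, ?_, fun h hh => ?_, h1, h2, h3, h4, h5⟩
  · refine Nat.eq_of_mul_eq_mul_right ?_ (hcard.trans hn.symm)
    rw [← hN]; exact Nat.card_pos
  · rcases PrimeValues.mem_pm.1 hh with e | e <;> obtain ⟨u, rfl⟩ := isConj_iff.1 e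
    · rw [← MulAut.conj_apply, MulEquiv.orderOf_eq, hg]
    · rw [← MulAut.conj_apply, MulEquiv.orderOf_eq, orderOf_inv, hg]

theorem arith {d : ℕ} {s5 q5 y5 s7 q7 y7 s11 q11 y11 : ℤ} (h128 : 128 ∣ d) (hdvd : d ∣ 443520)
    (hd0 : 0 < d) (hy5 : 0 ≤ y5) (hy7 : 0 ≤ y7) (hy11 : 0 ≤ y11)
    (hq5 : 4 * q5 = s5 ^ 2 + ((5 : ℕ) : ℤ) * y5) (hq7 : 4 * q7 = s7 ^ 2 + ((7 : ℕ) : ℤ) * y7)
    (hq11 : 4 * q11 = s11 ^ 2 + ((11 : ℕ) : ℤ) * y11)
    (ha : ((5 : ℕ) : ℤ) ∣ q5 - (d : ℤ) ^ 2) (hb : ((7 : ℕ) : ℤ) ∣ q7 - (d : ℤ) ^ 2)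
    (hc : ((11 : ℕ) : ℤ) ∣ q11 - (d : ℤ) ^ 2)
    (hs5 : ((5 : ℕ) : ℤ) ∣ s5 - 2 * (d : ℤ)) (hs7 : ((7 : ℕ) : ℤ) ∣ s7 - 2 * (d : ℤ))
    (hs11 : ((11 : ℕ) : ℤ) ∣ s11 - 2 * (d : ℤ))
    (hle : (d : ℤ) ^ 2 + 88704 * q5 + 126720 * q7 + 80640 * q11 ≤ 443520) :
    d = 384 ∧ q5 = 1 ∧ q7 = 1 ∧ q11 = 1 ∧ s5 = -2 ∧ s7 = -2 ∧ s11 = -2 := by
  simp only [Nat.cast_ofNat] at *
  have h5 : 0 ≤ q5 := by linarith [sq_nonneg s5]
  have h7 : 0 ≤ q7 := by linarith [sq_nonneg s7]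
  have h11 : 0 ≤ q11 := by linarith [sq_nonneg s11]
  obtain ⟨m, rfl⟩ := h128
  have hm : m < 6 := by
    by_contra hcon
    have h2 : (768 : ℤ) ≤ ((128 * m : ℕ) : ℤ) := by omega
    have h3 := pow_le_pow_left₀ (by norm_num) h2 2
    linarith
  interval_cases m
  all_goals (first | (norm_num at hdvd; done) | (norm_num at hd0; done) |
    (norm_num at hle ha hb hc hs5 hs7 hs11; try omega))
  refine ⟨by norm_num, ?_⟩
  obtain ⟨rfl, rfl, rfl⟩ : q5 = 1 ∧ q7 = 1 ∧ q11 = 1 := by omega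
  have b5 := abs_le_of_sq_le_sq' (show s5 ^ 2 ≤ 2 ^ 2 by linarith) (by norm_num)
  have b7 := abs_le_of_sq_le_sq' (show s7 ^ 2 ≤ 2 ^ 2 by linarith) (by norm_num)
  have b11 := abs_le_of_sq_le_sq' (show s11 ^ 2 ≤ 2 ^ 2 by linarith) (by norm_num)
  omega

theorem no_defect_zero [Fintype Cfsg.Spor.M22] (χ : Cfsg.IrrCharacter Cfsg.Spor.M22) :
    ¬ 128 ∣ Cfsg.charDegree (χ : Cfsg.Spor.M22 → ℂ) := by
  intro h128
  obtain ⟨E5, s5, q5, y5, c5, o5, hy5, hq5, hqd5, hsd5, hv5⟩ :=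
    family (ℓ := 5) (k := 4) (n := 88704) (by omega) (by norm_num)
      (by decide) (Or.inl rfl) (by norm_num) χ
  obtain ⟨E7, s7, q7, y7, c7, o7, hy7, hq7, hqd7, hsd7, hv7⟩ :=
    family (ℓ := 7) (k := 3) (n := 126720) (by omega) (by norm_num)
      (by decide) (Or.inr ⟨⟨1, rfl⟩, rfl⟩) (by norm_num) χ
  obtain ⟨E11, s11, q11, y11, c11, o11, hy11, hq11, hqd11, hsd11, hv11⟩ :=
    family (ℓ := 11) (k := 5) (n := 80640) (by omega) (by norm_num)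
      (by decide) (Or.inr ⟨⟨2, rfl⟩, rfl⟩) (by norm_num) χ
  set d := Cfsg.charDegree (χ : Cfsg.Spor.M22 → ℂ) with hd
  set U : Finset Cfsg.Spor.M22 := {1} ∪ (E5 ∪ (E7 ∪ E11))
  have hdj : ∀ {a b : ℕ} {A B : Finset Cfsg.Spor.M22}, (∀ h ∈ A, orderOf h = a) →
      (∀ h ∈ B, orderOf h = b) → a ≠ b → Disjoint A B := fun hA hB hab =>
    Finset.disjoint_left.2 fun h h1 h2 => hab ((hA h h1).symm.trans (hB h h2))
  have hd1 : Disjoint ({1} : Finset Cfsg.Spor.M22) (E5 ∪ (E7 ∪ E11)) := by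
    simp only [Finset.disjoint_singleton_left, Finset.mem_union, not_or]
    exact ⟨fun h => by have := o5 _ h; simp at this, fun h => by have := o7 _ h; simp at this,
      fun h => by have := o11 _ h; simp at this⟩
  have hd5 : Disjoint E5 (E7 ∪ E11) := Finset.disjoint_union_right.2
    ⟨hdj o5 o7 (by norm_num), hdj o5 o11 (by norm_num)⟩
  have hd7 : Disjoint E7 E11 := hdj o7 o11 (by norm_num)
  have hone : (χ : Cfsg.Spor.M22 → ℂ) 1 = (d : ℂ) := Blocks.irr_one_eq χ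
  have hU : ∑ h ∈ U, Complex.normSq ((χ : Cfsg.Spor.M22 → ℂ) h)
      = (d : ℝ) ^ 2 + 88704 * q5 + 126720 * q7 + 80640 * q11 := by
    rw [Finset.sum_union hd1, Finset.sum_union hd5, Finset.sum_union hd7, Finset.sum_singleton,
      Finset.sum_congr rfl fun h hh => (hv5 h hh).2, Finset.sum_congr rfl fun h hh => (hv7 h hh).2,
      Finset.sum_congr rfl fun h hh => (hv11 h hh).2]
    simp only [Finset.sum_const, c5, c7, c11, nsmul_eq_mul, hone, Complex.normSq_natCast]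
    push_cast
    ring
  have htot := PrimeValues.sum_normSq χ
  rw [card_M22, ← Finset.sum_add_sum_compl U, hU] at htot
  have hrest : 0 ≤ ∑ h ∈ Uᶜ, Complex.normSq ((χ : Cfsg.Spor.M22 → ℂ) h) :=
    Finset.sum_nonneg fun h _ => Complex.normSq_nonneg _
  push_cast at htot
  have hbr : (d : ℝ) ^ 2 + 88704 * q5 + 126720 * q7 + 80640 * q11 ≤ 443520 := by linarith
  have hb : (d : ℤ) ^ 2 + 88704 * q5 + 126720 * q7 + 80640 * q11 ≤ 443520 := by exact_mod_cast hbr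
  have hdvd : d ∣ 443520 := card_M22 ▸ Blocks.charDegree_dvd χ
  obtain ⟨hm, rfl, rfl, rfl, rfl, rfl, rfl⟩ := arith h128 hdvd (Blocks.charDegree_pos χ) hy5 hy7
    hy11 hq5 hq7 hq11 hqd5 hqd7 hqd11 hsd5 hsd7 hsd11 hb
  have hz : ∑ h ∈ Uᶜ, Complex.normSq ((χ : Cfsg.Spor.M22 → ℂ) h) = 0 := by
    rw [hm] at htot; push_cast at htot; linarith
  have hzero := (Finset.sum_eq_zero_iff_of_nonneg fun h _ => Complex.normSq_nonneg _).1 hz
  have hsum0 := PrimeValues.sum_eq_zero χ hd.symm (by omega)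
  have hF : ∑ h : Cfsg.Spor.M22, ((χ : Cfsg.Spor.M22 → ℂ) h + conj ((χ : Cfsg.Spor.M22 → ℂ) h)) = 0 := by
    rw [Finset.sum_add_distrib, ← map_sum, hsum0, map_zero, add_zero]
  rw [← Finset.sum_add_sum_compl U, Finset.sum_eq_zero (s := Uᶜ) (fun h hh => by
      rw [Complex.normSq_eq_zero.1 (hzero h hh), map_zero, add_zero]),
    add_zero, Finset.sum_union hd1, Finset.sum_union hd5, Finset.sum_union hd7,
    Finset.sum_singleton,
    Finset.sum_congr rfl fun h hh => (hv5 h hh).1, Finset.sum_congr rfl fun h hh => (hv7 h hh).1,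
    Finset.sum_congr rfl fun h hh => (hv11 h hh).1] at hF
  simp only [Finset.sum_const, c5, c7, c11, nsmul_eq_mul, hone, map_natCast, hm] at hF
  norm_num at hF

/-- All irreducible complex characters of the Mathieu group `M₂₂` lie in a single 2-block: any two of them lie in the same block relative to every maximal ideal of the algebraic integers containing 2. -/
theorem result (M : Ideal Cfsg.AlgInt) (hM : Cfsg.IsPModular 2 M)
    (χ ψ : Cfsg.IrrCharacter ↥Cfsg.Spor.M22) : Cfsg.SameBlock M (χ : ↥Cfsg.Spor.M22 → ℂ) (ψ : ↥Cfsg.Spor.M22 → ℂ) := by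
  letI : Fintype Cfsg.Spor.M22 := Fintype.ofFinite _
  have key : ∀ φ : Cfsg.IrrCharacter Cfsg.Spor.M22, φ ∈ Cfsg.principalBlock M Cfsg.Spor.M22 := by
    intro φ
    refine Blocks.mem_principalBlock_of_local hM MathieuLocal.constrained_M22 φ ?_
    have h7 : (Nat.card Cfsg.Spor.M22).factorization 2 = 7 := by
      rw [card_M22, show (443520 : ℕ) = 2 ^ 7 * 3465 by norm_num,
        Nat.factorization_mul (by norm_num) (by norm_num), Nat.factorization_pow]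
      simp [Nat.prime_two.factorization_self, Nat.factorization_eq_zero_of_not_dvd]
    rw [h7]
    by_contra hcon
    exact no_defect_zero φ ((pow_dvd_pow 2 (Nat.not_lt.1 hcon)).trans (Nat.ordProj_dvd _ 2))
  exact Blocks.SameBlock_trans hM
    (Blocks.SameBlock_symm (Blocks.mem_blockOf.1 (key χ))) (Blocks.mem_blockOf.1 (key ψ))

end Cfsg.Agent.S5005
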