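import Cfsg.Agent.Lib.ThreeTransp.M24Classes
import Cfsg.Agent.Lib.Sporadic.OctadStabilizer
import Cfsg.Agent.Lib.Sporadic.M24Trio
import Cfsg.Statements.S5604
-- import your own Cfsg.Agent.* helpers here

set_option autoImplicit false
set_option maxRecDepth 40000
open scoped Pointwise
open Cfsg

namespace Cfsg.Agent.S5604
open CfsgLib.ThreeTransp.M24Classes CfsgLib.SmallGroups.Golay CfsgLib.SmallGroups.GolayOctads CfsgLib.SmallGroups.Mathieu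
open CfsgLib.SmallGroups.M24Group CfsgLib.Sporadic CfsgLib.Sporadic.M24Orbits
open scoped Pointwise

abbrev G : Type := Equiv.Perm Cfsg.GolayPt

/-- An element of order seven. -/
def RT : List ℕ := [12, 1, 20, 4, 19, 15, 3, 9, 7, 6, 10, 13, 14, 2, 16, 11, 17, 18, 23, 8, 21, 5, 22, 0]

/-- The normaliser of the group it generates, with exponents. -/
def rows : List (List ℕ × ℕ) := [
  ([12, 1, 20, 4, 19, 15, 3, 9, 7, 6, 10, 13, 14, 2, 16, 11, 17, 18, 23, 8, 21, 5, 22, 0], 1),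
  ([12, 10, 3, 21, 5, 8, 20, 13, 11, 2, 1, 9, 14, 6, 16, 7, 17, 18, 23, 15, 4, 19, 22, 0], 1),
  ([20, 1, 0, 7, 9, 16, 8, 4, 3, 19, 22, 18, 21, 23, 5, 17, 15, 11, 13, 6, 12, 14, 10, 2], 1),
  ([20, 22, 8, 12, 14, 6, 0, 18, 17, 23, 1, 4, 21, 19, 5, 3, 15, 11, 13, 16, 7, 9, 10, 2], 1),
  ([4, 10, 12, 13, 2, 17, 11, 5, 21, 15, 22, 23, 19, 0, 8, 18, 7, 9, 6, 20, 14, 16, 1, 3], 1),
  ([4, 22, 11, 14, 16, 20, 12, 23, 18, 0, 10, 5, 19, 15, 8, 21, 7, 9, 6, 17, 13, 2, 1, 3], 1),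
  ([19, 10, 14, 2, 20, 18, 13, 15, 5, 11, 22, 0, 8, 12, 7, 23, 9, 6, 3, 21, 16, 17, 1, 4], 1),
  ([19, 22, 13, 16, 17, 21, 14, 0, 23, 12, 10, 15, 8, 11, 7, 5, 9, 6, 3, 18, 2, 20, 1, 4], 1),
  ([15, 1, 16, 3, 4, 23, 6, 7, 8, 9, 22, 12, 11, 14, 13, 0, 2, 20, 21, 19, 17, 18, 10, 5], 1),
  ([15, 22, 6, 17, 18, 19, 16, 12, 0, 14, 1, 7, 11, 9, 13, 8, 2, 20, 21, 23, 3, 4, 10, 5], 1),
  ([3, 10, 0, 11, 13, 16, 15, 21, 20, 5, 22, 18, 4, 23, 19, 17, 8, 7, 9, 2, 12, 14, 1, 6], 1),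
  ([3, 22, 15, 12, 14, 2, 0, 18, 17, 23, 10, 21, 4, 5, 19, 20, 8, 7, 9, 16, 11, 13, 1, 6], 1),
  ([9, 10, 18, 5, 15, 12, 21, 2, 13, 20, 22, 16, 6, 17, 3, 14, 4, 19, 8, 11, 23, 0, 1, 7], 1),
  ([9, 22, 21, 23, 0, 11, 18, 16, 14, 17, 10, 2, 6, 20, 3, 13, 4, 19, 8, 12, 5, 15, 1, 7], 1),
  ([7, 10, 17, 21, 5, 0, 20, 13, 11, 2, 22, 14, 9, 16, 6, 12, 3, 4, 19, 15, 18, 23, 1, 8], 1),
  ([7, 22, 20, 18, 23, 15, 17, 14, 12, 16, 10, 13, 9, 2, 6, 11, 3, 4, 19, 0, 21, 5, 1, 8], 1),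
  ([6, 10, 23, 15, 11, 14, 5, 20, 2, 21, 22, 17, 3, 18, 4, 16, 19, 8, 7, 13, 0, 12, 1, 9], 1),
  ([6, 22, 5, 0, 12, 13, 23, 17, 16, 18, 10, 20, 3, 21, 4, 2, 19, 8, 7, 14, 15, 11, 1, 9], 1),
  ([13, 1, 18, 19, 8, 12, 4, 6, 9, 3, 22, 16, 2, 17, 20, 14, 21, 5, 15, 7, 23, 0, 10, 11], 1),
  ([13, 22, 4, 23, 0, 7, 18, 16, 14, 17, 1, 6, 2, 3, 20, 9, 21, 5, 15, 12, 19, 8, 10, 11], 1),
  ([14, 1, 21, 19, 8, 11, 4, 6, 9, 3, 10, 2, 16, 20, 17, 13, 18, 23, 0, 7, 5, 15, 22, 12], 1),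
  ([14, 10, 4, 5, 15, 7, 21, 2, 13, 20, 1, 6, 16, 3, 17, 9, 18, 23, 0, 11, 19, 8, 22, 12], 1),
  ([2, 1, 23, 8, 7, 14, 19, 3, 6, 4, 22, 17, 20, 18, 21, 16, 5, 15, 11, 9, 0, 12, 10, 13], 1),
  ([2, 22, 19, 0, 12, 9, 23, 17, 16, 18, 1, 3, 20, 4, 21, 6, 5, 15, 11, 14, 8, 7, 10, 13], 1),
  ([16, 1, 5, 8, 7, 13, 19, 3, 6, 4, 10, 20, 17, 21, 18, 2, 23, 0, 12, 9, 15, 11, 22, 14], 1),
  ([16, 10, 19, 15, 11, 9, 5, 20, 2, 21, 1, 3, 17, 4, 18, 6, 23, 0, 12, 13, 8, 7, 22, 14], 1),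
  ([11, 1, 17, 4, 19, 0, 3, 9, 7, 6, 22, 14, 13, 16, 2, 12, 20, 21, 5, 8, 18, 23, 10, 15], 1),
  ([11, 22, 3, 18, 23, 8, 17, 14, 12, 16, 1, 9, 13, 6, 2, 7, 20, 21, 5, 0, 4, 19, 10, 15], 1),
  ([17, 1, 15, 7, 9, 2, 8, 4, 3, 19, 10, 21, 18, 5, 23, 20, 0, 12, 14, 6, 11, 13, 22, 16], 1),
  ([17, 10, 8, 11, 13, 6, 15, 21, 20, 5, 1, 4, 18, 19, 23, 3, 0, 12, 14, 2, 7, 9, 22, 16], 1),
  ([18, 1, 11, 9, 6, 20, 7, 19, 4, 8, 10, 5, 23, 15, 0, 21, 12, 14, 16, 3, 13, 2, 22, 17], 1),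
  ([18, 10, 7, 13, 2, 3, 11, 5, 21, 15, 1, 19, 23, 8, 0, 4, 12, 14, 16, 20, 9, 6, 22, 17], 1),
  ([23, 1, 13, 6, 3, 21, 9, 8, 19, 7, 10, 15, 0, 11, 12, 5, 14, 16, 17, 4, 2, 20, 22, 18], 1),
  ([23, 10, 9, 2, 20, 4, 13, 15, 5, 11, 1, 8, 0, 7, 12, 19, 14, 16, 17, 21, 6, 3, 22, 18], 1),
  ([8, 10, 16, 20, 21, 23, 2, 11, 15, 13, 22, 12, 7, 14, 9, 0, 6, 3, 4, 5, 17, 18, 1, 19], 1),
  ([8, 22, 2, 17, 18, 5, 16, 12, 0, 14, 10, 11, 7, 13, 9, 15, 6, 3, 4, 23, 20, 21, 1, 19], 1),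
  ([21, 1, 12, 9, 6, 17, 7, 19, 4, 8, 22, 23, 5, 0, 15, 18, 11, 13, 2, 3, 14, 16, 10, 20], 1),
  ([21, 22, 7, 14, 16, 3, 12, 23, 18, 0, 1, 19, 5, 8, 15, 4, 11, 13, 2, 17, 9, 6, 10, 20], 1),
  ([5, 1, 14, 6, 3, 18, 9, 8, 19, 7, 22, 0, 15, 12, 11, 23, 13, 2, 20, 4, 16, 17, 10, 21], 1),
  ([5, 22, 9, 16, 17, 4, 14, 0, 23, 12, 1, 8, 15, 7, 11, 19, 13, 2, 20, 18, 6, 3, 10, 21], 1),
  ([0, 1, 2, 3, 4, 5, 6, 7, 8, 9, 10, 11, 12, 13, 14, 15, 16, 17, 18, 19, 20, 21, 22, 23], 1),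
  ([0, 10, 6, 20, 21, 19, 2, 11, 15, 13, 1, 7, 12, 9, 14, 8, 16, 17, 18, 5, 3, 4, 22, 23], 1),
  ([14, 1, 11, 6, 4, 15, 7, 3, 9, 19, 10, 20, 17, 5, 23, 13, 12, 16, 18, 8, 2, 21, 22, 0], 2),
  ([14, 10, 7, 2, 21, 8, 11, 20, 13, 5, 1, 3, 17, 19, 23, 9, 12, 16, 18, 15, 6, 4, 22, 0], 2),
  ([21, 1, 17, 19, 7, 16, 3, 8, 4, 9, 22, 0, 15, 14, 13, 18, 20, 5, 11, 6, 23, 12, 10, 2], 2),
  ([21, 22, 3, 23, 12, 6, 17, 0, 18, 14, 1, 8, 15, 9, 13, 4, 20, 5, 11, 16, 19, 7, 10, 2], 2),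
  ([19, 10, 18, 15, 13, 17, 21, 11, 5, 2, 22, 12, 7, 16, 6, 23, 4, 8, 9, 20, 0, 14, 1, 3], 2),
  ([19, 22, 21, 0, 14, 20, 18, 12, 23, 16, 10, 11, 7, 2, 6, 5, 4, 8, 9, 17, 15, 13, 1, 3], 2),
  ([8, 10, 23, 11, 2, 18, 5, 13, 15, 20, 22, 14, 9, 17, 3, 0, 19, 7, 6, 21, 12, 16, 1, 4], 2),
  ([8, 22, 5, 12, 16, 21, 23, 14, 0, 17, 10, 13, 9, 20, 3, 15, 19, 7, 6, 18, 11, 2, 1, 4], 2),
  ([11, 1, 0, 9, 3, 23, 8, 6, 7, 4, 22, 16, 2, 18, 21, 12, 15, 13, 20, 19, 14, 17, 10, 5], 2),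
  ([11, 22, 8, 14, 17, 19, 0, 16, 12, 18, 1, 6, 2, 4, 21, 7, 15, 13, 20, 23, 9, 3, 10, 5], 2),
  ([4, 10, 17, 5, 11, 16, 20, 15, 21, 13, 22, 0, 8, 14, 9, 18, 3, 19, 7, 2, 23, 12, 1, 6], 2),
  ([4, 22, 20, 23, 12, 2, 17, 0, 18, 14, 10, 15, 8, 13, 9, 21, 3, 19, 7, 16, 5, 11, 1, 6], 2),
  ([6, 10, 14, 20, 5, 12, 13, 21, 2, 15, 22, 18, 4, 0, 8, 16, 9, 3, 19, 11, 17, 23, 1, 7], 2),
  ([6, 22, 13, 17, 23, 11, 14, 18, 16, 0, 10, 21, 4, 15, 8, 2, 9, 3, 19, 12, 20, 5, 1, 7], 2),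
  ([9, 10, 12, 2, 21, 0, 11, 20, 13, 5, 22, 17, 3, 23, 19, 14, 7, 6, 4, 15, 16, 18, 1, 8], 2),
  ([9, 22, 11, 16, 18, 15, 12, 17, 14, 23, 10, 20, 3, 5, 19, 13, 7, 6, 4, 0, 2, 21, 1, 8], 2),
  ([3, 10, 16, 21, 15, 14, 2, 5, 20, 11, 22, 23, 19, 12, 7, 17, 6, 4, 8, 13, 18, 0, 1, 9], 2),
  ([3, 22, 2, 18, 0, 13, 16, 23, 17, 12, 10, 5, 19, 11, 7, 20, 6, 4, 8, 14, 21, 15, 1, 9], 2),
  ([2, 1, 14, 3, 19, 12, 9, 4, 6, 8, 22, 18, 21, 0, 15, 16, 13, 20, 5, 7, 17, 23, 10, 11], 2),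
  ([2, 22, 9, 17, 23, 7, 14, 18, 16, 0, 1, 4, 21, 8, 15, 6, 13, 20, 5, 12, 3, 19, 10, 11], 2),
  ([16, 1, 13, 3, 19, 11, 9, 4, 6, 8, 10, 21, 18, 15, 0, 2, 14, 17, 23, 7, 20, 5, 22, 12], 2),
  ([16, 10, 9, 20, 5, 7, 13, 21, 2, 15, 1, 4, 18, 8, 0, 6, 14, 17, 23, 11, 3, 19, 22, 12], 2),
  ([20, 1, 16, 4, 8, 14, 6, 19, 3, 7, 22, 23, 5, 12, 11, 17, 2, 21, 15, 9, 18, 0, 10, 13], 2),
  ([20, 22, 6, 18, 0, 9, 16, 23, 17, 12, 1, 19, 5, 7, 11, 3, 2, 21, 15, 14, 4, 8, 10, 13], 2),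
  ([17, 1, 2, 4, 8, 13, 6, 19, 3, 7, 10, 5, 23, 11, 12, 20, 16, 18, 0, 9, 21, 15, 22, 14], 2),
  ([17, 10, 6, 21, 15, 9, 2, 5, 20, 11, 1, 19, 23, 7, 12, 3, 16, 18, 0, 13, 4, 8, 22, 14], 2),
  ([13, 1, 12, 6, 4, 0, 7, 3, 9, 19, 22, 17, 20, 23, 5, 14, 11, 2, 21, 8, 16, 18, 10, 15], 2),
  ([13, 22, 7, 16, 18, 8, 12, 17, 14, 23, 1, 3, 20, 19, 5, 9, 11, 2, 21, 0, 6, 4, 10, 15], 2),
  ([18, 1, 20, 19, 7, 2, 3, 8, 4, 9, 10, 15, 0, 13, 14, 21, 17, 23, 12, 6, 5, 11, 22, 16], 2),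
  ([18, 10, 3, 5, 11, 6, 20, 15, 21, 13, 1, 8, 0, 9, 14, 4, 17, 23, 12, 2, 19, 7, 22, 16], 2),
  ([23, 1, 21, 8, 9, 20, 4, 7, 19, 6, 10, 11, 12, 2, 16, 5, 18, 0, 14, 3, 15, 13, 22, 17], 2),
  ([23, 10, 4, 15, 13, 3, 21, 11, 5, 2, 1, 7, 12, 6, 16, 19, 18, 0, 14, 20, 8, 9, 22, 17], 2),
  ([0, 1, 5, 7, 6, 21, 19, 9, 8, 3, 10, 13, 14, 20, 17, 15, 23, 12, 16, 4, 11, 2, 22, 18], 2),
  ([0, 10, 19, 11, 2, 4, 5, 13, 15, 20, 1, 9, 14, 3, 17, 8, 23, 12, 16, 21, 7, 6, 22, 18], 2),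
  ([7, 10, 0, 13, 20, 23, 15, 2, 11, 21, 22, 16, 6, 18, 4, 12, 8, 9, 3, 5, 14, 17, 1, 19], 2),
  ([7, 22, 15, 14, 17, 5, 0, 16, 12, 18, 10, 2, 6, 21, 4, 11, 8, 9, 3, 23, 13, 20, 1, 19], 2),
  ([5, 1, 18, 8, 9, 17, 4, 7, 19, 6, 22, 12, 11, 16, 2, 23, 21, 15, 13, 3, 0, 14, 10, 20], 2),
  ([5, 22, 4, 0, 14, 3, 18, 12, 23, 16, 1, 7, 11, 6, 2, 19, 21, 15, 13, 17, 8, 9, 10, 20], 2),
  ([15, 1, 23, 7, 6, 18, 19, 9, 8, 3, 22, 14, 13, 17, 20, 0, 5, 11, 2, 4, 12, 16, 10, 21], 2),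
  ([15, 22, 19, 12, 16, 4, 23, 14, 0, 17, 1, 9, 13, 3, 20, 8, 5, 11, 2, 18, 7, 6, 10, 21], 2),
  ([12, 1, 15, 9, 3, 5, 8, 6, 7, 4, 10, 2, 16, 21, 18, 11, 0, 14, 17, 19, 13, 20, 22, 23], 2),
  ([12, 10, 8, 13, 20, 19, 15, 2, 11, 21, 1, 6, 16, 4, 18, 7, 0, 14, 17, 5, 9, 3, 22, 23], 2),
  ([17, 1, 13, 19, 6, 15, 9, 7, 3, 4, 10, 11, 12, 21, 18, 20, 14, 23, 16, 8, 5, 2, 22, 0], 4),
  ([17, 10, 9, 5, 2, 8, 13, 11, 20, 21, 1, 7, 12, 4, 18, 3, 14, 23, 16, 15, 19, 6, 22, 0], 4),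
  ([15, 1, 18, 9, 19, 16, 4, 3, 8, 7, 22, 17, 20, 12, 11, 0, 21, 13, 5, 6, 14, 23, 10, 2], 4),
  ([15, 22, 4, 14, 23, 6, 18, 17, 0, 12, 1, 3, 20, 7, 11, 8, 21, 13, 5, 16, 9, 19, 10, 2], 4),
  ([7, 10, 23, 2, 15, 17, 5, 21, 11, 13, 22, 18, 4, 14, 9, 12, 19, 6, 8, 20, 16, 0, 1, 3], 4),
  ([7, 22, 5, 16, 0, 20, 23, 18, 12, 14, 10, 21, 4, 13, 9, 11, 19, 6, 8, 17, 2, 15, 1, 3], 4),
  ([9, 10, 0, 20, 11, 18, 15, 5, 13, 2, 22, 23, 19, 16, 6, 14, 8, 3, 7, 21, 17, 12, 1, 4], 4),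
  ([9, 22, 15, 17, 12, 21, 0, 23, 14, 16, 10, 5, 19, 2, 6, 13, 8, 3, 7, 18, 20, 11, 1, 4], 4),
  ([2, 1, 12, 4, 9, 23, 7, 8, 6, 3, 22, 0, 15, 17, 20, 16, 11, 21, 13, 19, 18, 14, 10, 5], 4),
  ([2, 22, 7, 18, 14, 19, 12, 0, 16, 17, 1, 8, 15, 3, 20, 6, 11, 21, 13, 23, 4, 9, 10, 5], 4),
  ([8, 10, 18, 13, 5, 16, 21, 20, 15, 11, 22, 17, 3, 12, 7, 0, 4, 9, 19, 2, 14, 23, 1, 6], 4),
  ([8, 22, 21, 14, 23, 2, 18, 17, 0, 12, 10, 20, 3, 11, 7, 15, 4, 9, 19, 16, 13, 5, 1, 6], 4),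
  ([4, 10, 16, 15, 20, 12, 2, 13, 21, 5, 22, 14, 9, 23, 19, 18, 6, 8, 3, 11, 0, 17, 1, 7], 4),
  ([4, 22, 2, 0, 17, 11, 16, 14, 18, 23, 10, 13, 9, 5, 19, 21, 6, 8, 3, 12, 15, 20, 1, 7], 4),
  ([3, 10, 14, 5, 2, 0, 13, 11, 20, 21, 22, 12, 7, 18, 4, 17, 9, 19, 6, 15, 23, 16, 1, 8], 4),
  ([3, 22, 13, 23, 16, 15, 14, 12, 17, 18, 10, 11, 7, 21, 4, 20, 9, 19, 6, 0, 5, 2, 1, 8], 4),
  ([19, 10, 17, 11, 21, 14, 20, 2, 5, 15, 22, 16, 6, 0, 8, 23, 3, 7, 4, 13, 12, 18, 1, 9], 4),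
  ([19, 22, 20, 12, 18, 13, 17, 16, 23, 0, 10, 2, 6, 15, 8, 5, 3, 7, 4, 14, 11, 21, 1, 9], 4),
  ([21, 1, 16, 8, 3, 12, 6, 9, 4, 19, 22, 14, 13, 23, 5, 18, 2, 15, 20, 7, 0, 17, 10, 11], 4),
  ([21, 22, 6, 0, 17, 7, 16, 14, 18, 23, 1, 9, 13, 19, 5, 4, 2, 15, 20, 12, 8, 3, 10, 11], 4),
  ([18, 1, 2, 8, 3, 11, 6, 9, 4, 19, 10, 13, 14, 5, 23, 21, 16, 0, 17, 7, 15, 20, 22, 12], 4),
  ([18, 10, 6, 15, 20, 7, 2, 13, 21, 5, 1, 9, 14, 19, 23, 4, 16, 0, 17, 11, 8, 3, 22, 12], 4),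
  ([5, 1, 17, 7, 4, 14, 3, 6, 19, 8, 22, 16, 2, 0, 15, 23, 20, 11, 21, 9, 12, 18, 10, 13], 4),
  ([5, 22, 3, 12, 18, 9, 17, 16, 23, 0, 1, 6, 2, 8, 15, 19, 20, 11, 21, 14, 7, 4, 10, 13], 4),
  ([23, 1, 20, 7, 4, 13, 3, 6, 19, 8, 10, 2, 16, 15, 0, 5, 17, 12, 18, 9, 11, 21, 22, 14], 4),
  ([23, 10, 3, 11, 21, 9, 20, 2, 5, 15, 1, 6, 16, 8, 0, 19, 17, 12, 18, 13, 7, 4, 22, 14], 4),
  ([20, 1, 14, 19, 6, 0, 9, 7, 3, 4, 22, 12, 11, 18, 21, 17, 13, 5, 2, 8, 23, 16, 10, 15], 4),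
  ([20, 22, 9, 23, 16, 8, 14, 12, 17, 18, 1, 7, 11, 4, 21, 3, 13, 5, 2, 0, 19, 6, 10, 15], 4),
  ([0, 1, 21, 9, 19, 2, 4, 3, 8, 7, 10, 20, 17, 11, 12, 15, 18, 14, 23, 6, 13, 5, 22, 16], 4),
  ([0, 10, 4, 13, 5, 6, 21, 20, 15, 11, 1, 3, 17, 7, 12, 8, 18, 14, 23, 2, 9, 19, 22, 16], 4),
  ([12, 1, 5, 6, 8, 20, 19, 4, 7, 9, 10, 21, 18, 13, 14, 11, 23, 16, 0, 3, 2, 15, 22, 17], 4),
  ([12, 10, 19, 2, 15, 3, 5, 21, 11, 13, 1, 4, 18, 9, 14, 7, 23, 16, 0, 20, 6, 8, 22, 17], 4),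
  ([14, 1, 15, 3, 7, 21, 8, 19, 9, 6, 10, 5, 23, 2, 16, 13, 0, 17, 12, 4, 20, 11, 22, 18], 4),
  ([14, 10, 8, 20, 11, 4, 15, 5, 13, 2, 1, 19, 23, 6, 16, 9, 0, 17, 12, 21, 3, 7, 22, 18], 4),
  ([6, 10, 12, 21, 13, 23, 11, 15, 2, 20, 22, 0, 8, 17, 3, 16, 7, 4, 9, 5, 18, 14, 1, 19], 4),
  ([6, 22, 11, 18, 14, 5, 12, 0, 16, 17, 10, 15, 8, 20, 3, 2, 7, 4, 9, 23, 21, 13, 1, 19], 4),
  ([11, 1, 23, 6, 8, 17, 19, 4, 7, 9, 22, 18, 21, 14, 13, 12, 5, 2, 15, 3, 16, 0, 10, 20], 4),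
  ([11, 22, 19, 16, 0, 3, 23, 18, 12, 14, 1, 4, 21, 9, 13, 7, 5, 2, 15, 17, 6, 8, 10, 20], 4),
  ([13, 1, 0, 3, 7, 18, 8, 19, 9, 6, 22, 23, 5, 16, 2, 14, 15, 20, 11, 4, 17, 12, 10, 21], 4),
  ([13, 22, 8, 17, 12, 4, 0, 23, 14, 16, 1, 19, 5, 6, 2, 9, 15, 20, 11, 18, 3, 7, 10, 21], 4),
  ([16, 1, 11, 4, 9, 5, 7, 8, 6, 3, 10, 15, 0, 20, 17, 2, 12, 18, 14, 19, 21, 13, 22, 23], 4),
  ([16, 10, 7, 21, 13, 19, 11, 15, 2, 20, 1, 8, 0, 3, 17, 6, 12, 18, 14, 5, 4, 9, 22, 23], 4)]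

/-- The three invariant octads. -/
def om : Fin 3 → ℕ := ![13062145, 525274, 3189796]

/-- A moved point in each. -/
def xm : Fin 3 → ℕ := ![0, 3, 2]

abbrev oct (k : Fin 3) : Finset Cfsg.GolayPt := toSet (om k)

/-- A row is correct. -/
def okN (r : List ℕ × ℕ) : Bool :=
  okTbl r.1 && (List.range 24).all fun i => tblNat r.1 (tblNat RT i) == iter r.2 RT (tblNat r.1 i)

theorem rows_ok : rows.all okN = true ∧ rows.length = 126 ∧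
    ((rows.map fun r => (List.range 24).map (tblNat r.1)).Nodup) ∧
    (∀ i < 42, (rows.getD i ([], 0)).2 = 1) := by decide +kernel

theorem R_facts : okTbl RT = true ∧ (∀ i < 24, iter 7 RT i = i) ∧
    (∀ j < 7, j ≠ 0 → ∀ i < 24, iter j RT i = i → tblNat RT i = i) ∧ tblNat RT 23 ≠ 23 ∧
    tblNat RT 1 = 1 ∧ tblNat RT 22 = 22 := by decide +kernel

theorem oct_facts : ∀ k : Fin 3, om k < 2 ^ 24 ∧ img (tblNat RT) (om k) = om k ∧ pc (om k) = 8 ∧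
    isCW (om k) = true ∧ ((List.range 5).map fun i => iter i RT (xm k)).Nodup ∧
    (∀ i < 5, (om k).testBit (iter i RT (xm k)) = true) ∧ xm k < 24 := by decide +kernel

theorem oct_fixed' : ∀ k : Fin 3, ∀ i j : Fin 24, (om k).testBit i.val = true → (om k).testBit j.val = true →
    tblNat RT i.val = i.val → tblNat RT j.val = j.val → i = j := by decide +kernel

theorem oct_fixed (k : Fin 3) (i : ℕ) (hi : i < 24) (j : ℕ) (hj : j < 24) (h1 : (om k).testBit i = true)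
    (h2 : (om k).testBit j = true) (h3 : tblNat RT i = i) (h4 : tblNat RT j = j) : i = j :=
  congrArg Fin.val (oct_fixed' k ⟨i, hi⟩ ⟨j, hj⟩ h1 h2 h3 h4)

theorem cover : ∀ p : Cfsg.GolayPt, ∃ k, p ∈ oct k := by decide +kernel

theorem disjoint_oct : ∀ k m : Fin 3, ∀ p : Cfsg.GolayPt, p ∈ oct k → p ∈ oct m → k = m := by decide +kernel

theorem base_cases : ∀ l < 7, base.getD l 0 = 1 ∨ ∃ i < 7, iter i RT 23 = base.getD l 0 := by decide +kernel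

theorem zero_pts : pt 23 ∈ oct 0 ∧ pt 22 ∈ oct 0 ∧ pt 1 ∉ oct 0 := by decide +kernel

/-- The possible images of two points. -/
def P2 : Finset (Cfsg.GolayPt × Cfsg.GolayPt) :=
  Finset.univ.filter fun q => tblNat RT (idx q.1) ≠ idx q.1 ∧ tblNat RT (idx q.2) = idx q.2 ∧
    ∀ k, ¬ (q.1 ∈ oct k ∧ q.2 ∈ oct k)

theorem card_P2 : P2.card = 42 := by decide +kernel

section

variable {R : G}

theorem R_seven (hR : IsTbl R RT) : R ^ 7 = 1 := Equiv.ext fun p => idx_injective (by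
  rw [hR.idx_iter, R_facts.2.1 _ (idx_lt p)]; rfl)

theorem pow_fix (hR : IsTbl R RT) {j : ℕ} (hj : R ^ j ≠ 1) {p : Cfsg.GolayPt} (h : (R ^ j) p = p) : R p = p := by
  rw [← Nat.mod_add_div j 7, pow_add, pow_mul, R_seven hR, one_pow, mul_one] at h hj
  have h0 : j % 7 ≠ 0 := fun e => hj (by rw [e, pow_zero])
  refine (hR.fix_iff p).2 (R_facts.2.2.1 _ (Nat.mod_lt _ (by norm_num)) h0 _ (idx_lt p) ?_)
  rw [← hR.idx_iter, h]

theorem R_ne (hR : IsTbl R RT) : R ≠ 1 := fun e => R_facts.2.2.2.1 (by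
  have h := hR (pt 23)
  rw [e, Equiv.Perm.one_apply, idx_pt (by norm_num)] at h
  exact h.symm)

theorem R_order (hR : IsTbl R RT) : orderOf R = 7 := by
  have : Fact (Nat.Prime 7) := ⟨by norm_num⟩
  exact orderOf_eq_prime (R_seven hR) (R_ne hR)

theorem R_oct (hR : IsTbl R RT) (k : Fin 3) (e : ℕ) : R ^ e • oct k = oct k := by
  have h : R • oct k = oct k := by rw [smul_toSet hR, (oct_facts k).2.1]
  exact (pow_mem (show R ∈ MulAction.stabilizer G (oct k) from h) e :)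

theorem oct_mem (k : Fin 3) : oct k ∈ Cfsg.octads := by
  obtain ⟨-, -, h8, hc, -, -, -⟩ := oct_facts k
  exact mem_octads.2 ⟨_, mem_cwOfWeight.2 ⟨mem_cw.2 ⟨om k % 4096, Nat.mod_lt _ (by norm_num),
    beq_iff_eq.1 hc⟩, h8⟩, rfl⟩

theorem moves_pow {n : G} {j : ℕ} (hj : n * R * n⁻¹ = R ^ j) (i : ℕ) (p : Cfsg.GolayPt) :
    n ((R ^ i) p) = (R ^ (j * i)) (n p) := by
  have h : n * R ^ i = R ^ (j * i) * n := by
    have e : (n * R * n⁻¹) ^ i = n * R ^ i * n⁻¹ := conj_pow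
    rw [pow_mul, ← hj, e, inv_mul_cancel_right]
  exact congrArg (fun x : G => x p) h

theorem pow_ne (hR : IsTbl R RT) {n : G} {j : ℕ} (hj : n * R * n⁻¹ = R ^ j) : R ^ j ≠ 1 := fun e =>
  R_ne hR (conj_eq_one_iff.1 (hj.trans e))

theorem fix_to_fix (hR : IsTbl R RT) {n : G} {j : ℕ} (hj : n * R * n⁻¹ = R ^ j) (p : Cfsg.GolayPt) :
    R (n p) = n p ↔ R p = p := by
  have h := moves_pow hj 1 p
  rw [mul_one, pow_one] at h
  constructor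
  · intro e
    have : (R ^ j) (n p) = n p := Equiv.Perm.pow_apply_eq_self_of_apply_eq_self e j
    exact n.injective (h.trans this)
  · intro e
    rw [e] at h
    exact pow_fix hR (pow_ne hR hj) h.symm

theorem map_oct (hR : IsTbl R RT) {n : G} (hn : n ∈ Cfsg.M24) {j : ℕ} (hj : n * R * n⁻¹ = R ^ j) (k : Fin 3) :
    ∃ m, n • oct k = oct m := by
  obtain ⟨-, -, -, -, hnd, hin, hx⟩ := oct_facts k
  obtain ⟨m, hm⟩ := cover (n (pt (xm k)))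
  refine ⟨m, octad_eq_of_inter (smul_mem_weight hn (oct_mem k)) (oct_mem m) ?_⟩
  have hidx : ∀ i, idx ((R ^ i) (pt (xm k))) = iter i RT (xm k) := fun i => by
    rw [hR.idx_iter, idx_pt hx]
  have hinj : Set.InjOn (fun i => n ((R ^ i) (pt (xm k)))) (Finset.range 5 : Set ℕ) := by
    intro a ha b hb e
    have e' : iter a RT (xm k) = iter b RT (xm k) := by
      rw [← hidx, ← hidx, n.injective e]
    exact List.inj_on_of_nodup_map hnd (List.mem_range.2 (Finset.mem_range.1 ha))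
      (List.mem_range.2 (Finset.mem_range.1 hb)) e'
  refine le_of_eq_of_le (((Finset.card_image_of_injOn hinj).trans (Finset.card_range 5)).symm)
    (Finset.card_le_card fun q hq => ?_)
  obtain ⟨i, hi, rfl⟩ := Finset.mem_image.1 hq
  refine Finset.mem_inter.2 ⟨?_, ?_⟩
  · rw [← Equiv.Perm.smul_def n]
    refine Finset.smul_mem_smul_finset (mem_toSet.2 ?_)
    rw [hidx]
    exact hin i (Finset.mem_range.1 hi)
  · rw [moves_pow hj, ← R_oct hR m (j * i), ← Equiv.Perm.smul_def (R ^ (j * i))]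
    exact Finset.smul_mem_smul_finset hm

theorem eq_one (hR : IsTbl R RT) {d : G} (hd : d ∈ Cfsg.M24) (hc : d * R = R * d) (h23 : d (pt 23) = pt 23)
    (h1 : d (pt 1) = pt 1) : d = 1 := by
  refine eq_one_of_fix_base hd fun l hl => ?_
  rcases base_cases l hl with e | ⟨i, hi, e⟩
  · rw [bpt, e, h1]
  · have hb : bpt l = (R ^ i) (pt 23) := idx_injective (by
      rw [idx_bpt l hl, hR.idx_iter, idx_pt (by norm_num), e])
    rw [hb, ← Equiv.Perm.mul_apply, (Commute.pow_right hc i).eq, Equiv.Perm.mul_apply, h23]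

/-- The centraliser. -/
def CS (R : G) : Set G := {c | c ∈ Cfsg.M24 ∧ c * R = R * c}

/-- The normaliser. -/
def NS (R : G) : Set G := {n | n ∈ Cfsg.M24 ∧ ∃ j : ℕ, n * R * n⁻¹ = R ^ j}

theorem CS_j {c : G} (hc : c * R = R * c) : c * R * c⁻¹ = R ^ 1 := by
  rw [hc, mul_inv_cancel_right, pow_one]

theorem pair_mem (hR : IsTbl R RT) {n : G} (hn : n ∈ Cfsg.M24) {j : ℕ} (hj : n * R * n⁻¹ = R ^ j) :
    (n (pt 23), n (pt 1)) ∈ P2 := by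
  refine Finset.mem_filter.2 ⟨Finset.mem_univ _, ?_, ?_, fun m hm => ?_⟩
  · rw [Ne, ← hR.fix_iff, fix_to_fix hR hj, hR.fix_iff, idx_pt (by norm_num)]
    exact R_facts.2.2.2.1
  · rw [← hR.fix_iff, fix_to_fix hR hj, hR.fix_iff, idx_pt (by norm_num)]
    exact R_facts.2.2.2.2.1
  · obtain ⟨m', hm'⟩ := map_oct hR hn hj 0
    have h0 : n (pt 23) ∈ oct m' := hm' ▸ Finset.smul_mem_smul_finset zero_pts.1
    have e := disjoint_oct m m' _ hm.1 h0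
    have h1 : n (pt 1) ∈ n • oct 0 := by rw [hm', ← e]; exact hm.2
    exact zero_pts.2.2 ((Finset.smul_mem_smul_finset_iff n).1 h1)

theorem exists_row (hR : IsTbl R RT) (i : Fin 126) : ∃ g : G, g ∈ Cfsg.M24 ∧
    g * R * g⁻¹ = R ^ (rows.getD i ([], 0)).2 ∧ IsTbl g (rows.getD i ([], 0)).1 := by
  have hmem : rows.getD i ([], 0) ∈ rows := by
    rw [List.getD_eq_getElem _ _ (by rw [rows_ok.2.1]; exact i.2)]; exact List.getElem_mem _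
  have h := List.all_eq_true.1 rows_ok.1 _ hmem
  simp only [okN, Bool.and_eq_true, List.all_eq_true, beq_iff_eq, List.mem_range] at h
  obtain ⟨g, hg, hgi⟩ := exists_elt h.1
  refine ⟨g, hg, ?_, hgi⟩
  rw [mul_inv_eq_iff_eq_mul]
  refine Equiv.ext fun p => idx_injective ?_
  rw [Equiv.Perm.mul_apply, Equiv.Perm.mul_apply, hgi, hR, hR.idx_iter, hgi]
  exact h.2 _ (idx_lt p)

theorem row_inj {i k : Fin 126} {g : G} (hi : IsTbl g (rows.getD i ([], 0)).1)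
    (hk : IsTbl g (rows.getD k ([], 0)).1) : i = k := by
  have hl := rows_ok.2.1
  have e : (List.range 24).map (tblNat (rows.getD i ([], 0)).1) = (List.range 24).map (tblNat (rows.getD k ([], 0)).1) :=
    List.map_congr_left fun q hq => by rw [← idx_pt (List.mem_range.1 hq), ← hi, ← hk]
  rw [List.getD_eq_getElem _ _ (by omega), List.getD_eq_getElem _ _ (by omega)] at e
  exact Fin.ext ((rows_ok.2.2.1.getElem_inj_iff (hi := by rw [List.length_map]; omega)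
    (hj := by rw [List.length_map]; omega)).1 (by simpa using e))

theorem CS_facts (hR : IsTbl R RT) : (CS R).ncard = 42 ∧
    (fun c : G => (c (pt 23), c (pt 1))) '' CS R = ↑P2 := by
  choose f hf hfj hfi using exists_row hR
  have hle : 42 ≤ 126 := by norm_num
  have hge : 42 ≤ (CS R).ncard := by
    have hsub : Set.range (fun i : Fin 42 => f (i.castLE hle)) ⊆ CS R := by
      rintro _ ⟨i, rfl⟩
      refine ⟨hf _, ?_⟩
      have h := hfj (i.castLE hle)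
      rw [Fin.val_castLE, rows_ok.2.2.2 i i.2, pow_one, mul_inv_eq_iff_eq_mul] at h
      exact h
    have h := Set.ncard_le_ncard hsub (Set.toFinite _)
    rwa [Set.ncard_range_of_injective fun a b e => Fin.castLE_injective hle (row_inj (hfi _) (by rw [show f (a.castLE hle) = f (b.castLE hle) from e]; exact hfi _)),
      Nat.card_eq_fintype_card, Fintype.card_fin] at h
  have hinj : Set.InjOn (fun c : G => (c (pt 23), c (pt 1))) (CS R) := by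
    intro a ha b hb e
    simp only [Prod.mk.injEq] at e
    have hd : b⁻¹ * a = 1 := eq_one hR (mul_mem (inv_mem hb.1) ha.1)
      (Commute.mul_left (Commute.inv_left hb.2) ha.2)
      (by rw [Equiv.Perm.mul_apply, e.1, Equiv.Perm.coe_inv, Equiv.symm_apply_apply])
      (by rw [Equiv.Perm.mul_apply, e.2, Equiv.Perm.coe_inv, Equiv.symm_apply_apply])
    exact (inv_mul_eq_one.1 hd).symm
  have hsub : (fun c : G => (c (pt 23), c (pt 1))) '' CS R ⊆ ↑P2 := by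
    rintro _ ⟨c, hc, rfl⟩
    exact pair_mem hR hc.1 (CS_j hc.2)
  have h1 := Set.ncard_le_ncard hsub (Set.toFinite _)
  rw [hinj.ncard_image, Set.ncard_coe_finset, card_P2] at h1
  refine ⟨le_antisymm h1 hge, Set.eq_of_subset_of_ncard_le hsub ?_ (Set.toFinite _)⟩
  rw [hinj.ncard_image, Set.ncard_coe_finset, card_P2]
  exact hge

theorem no_inversion (hR : IsTbl R RT) {n : G} (hn : n ∈ Cfsg.M24) (hj : n * R * n⁻¹ = R ^ 6) : False := by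
  have h2 : (n (pt 23), n (pt 1)) ∈ (↑P2 : Set _) := pair_mem hR hn hj
  rw [← (CS_facts hR).2] at h2
  obtain ⟨c, hc, e⟩ := h2
  simp only [Prod.mk.injEq] at e
  set d := c⁻¹ * n with hd
  have hdM : d ∈ Cfsg.M24 := mul_mem (inv_mem hc.1) hn
  have hdj : d * R * d⁻¹ = R ^ 6 := by
    have hc6 : Commute c⁻¹ (R ^ 6) := (Commute.inv_left hc.2).pow_right 6
    calc d * R * d⁻¹ = c⁻¹ * (n * R * n⁻¹) * c := by rw [hd]; group
      _ = c⁻¹ * R ^ 6 * c := by rw [hj]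
      _ = R ^ 6 := by rw [hc6.eq, inv_mul_cancel_right]
  have d23 : d (pt 23) = pt 23 := by
    rw [hd, Equiv.Perm.mul_apply, ← e.1, Equiv.Perm.coe_inv, Equiv.symm_apply_apply]
  obtain ⟨m, hm⟩ := map_oct hR hdM hdj 0
  have hm0 : m = 0 := by
    refine disjoint_oct m 0 (pt 23) ?_ zero_pts.1
    have h := Finset.smul_mem_smul_finset (a := d) zero_pts.1
    rwa [Equiv.Perm.smul_def, d23, hm] at h
  rw [hm0] at hm
  have h22 : d (pt 22) ∈ oct 0 := by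
    have h := Finset.smul_mem_smul_finset (a := d) zero_pts.2.1
    rwa [Equiv.Perm.smul_def, hm] at h
  have d22 : d (pt 22) = pt 22 := by
    refine idx_injective (oct_fixed 0 _ (idx_lt _) _ (idx_lt _)
      (mem_toSet.1 h22) (mem_toSet.1 zero_pts.2.1) ?_ ?_)
    · rw [← hR.fix_iff, fix_to_fix hR hdj, hR.fix_iff, idx_pt (by norm_num)]
      exact R_facts.2.2.2.2.2
    · rw [idx_pt (by norm_num)]
      exact R_facts.2.2.2.2.2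
  have horb : ∀ p : Cfsg.GolayPt, p ∈ oct 0 → p = pt 22 ∨ ∃ i < 7, idx p = iter i RT 23 := by decide +kernel
  let a : Fin 8 → ↥(oct 0) := fun i => ⟨pt ([23, 0, 12, 14, 16, 17, 18, 22].getD i 0), by revert i; decide +kernel⟩
  have ha : ∀ i j : Fin 8, a i = a j → i = j := by decide +kernel
  let τ : Equiv.Perm ↥(oct 0) := Equiv.swap (a 1) (a 6) * Equiv.swap (a 2) (a 5) * Equiv.swap (a 3) (a 4)
  have hτ : (∀ x : ↥(oct 0), ∀ i < 7, idx (x : Cfsg.GolayPt) = iter i RT 23 →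
      idx ((τ x : ↥(oct 0)) : Cfsg.GolayPt) = iter (6 * i) RT 23) ∧
      ∀ x : ↥(oct 0), (x : Cfsg.GolayPt) = pt 22 → ((τ x : ↥(oct 0)) : Cfsg.GolayPt) = pt 22 := by
    decide +kernel
  have hres : OctadStabilizer.res (oct 0) ⟨d, hdM, hm⟩ = τ := by
    refine Equiv.ext fun x => Subtype.ext ?_
    rw [OctadStabilizer.res_apply]
    rcases horb _ x.2 with e1 | ⟨i, hi, e1⟩
    · rw [hτ.2 x e1, e1, d22]
    · have hx : (x : Cfsg.GolayPt) = (R ^ i) (pt 23) := idx_injective (by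
        rw [e1, hR.idx_iter, idx_pt (by norm_num)])
      refine idx_injective ?_
      rw [hτ.1 x i hi e1, hx, moves_pow hdj, d23, hR.idx_iter, idx_pt (by norm_num)]
  have hA : τ ∈ alternatingGroup ↥(oct 0) := by
    rw [← OctadStabilizer.range_res (oct_mem 0), ← hres]
    exact ⟨_, rfl⟩
  rw [Equiv.Perm.mem_alternatingGroup] at hA
  simp only [τ, map_mul] at hA
  rw [Equiv.Perm.sign_swap (fun h => by simpa using ha _ _ h), Equiv.Perm.sign_swap (fun h => by simpa using ha _ _ h),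
    Equiv.Perm.sign_swap (fun h => by simpa using ha _ _ h)] at hA
  exact absurd hA (by decide)

theorem NS_card (hR : IsTbl R RT) : (NS R).ncard = 126 := by
  choose f hf hfj hfi using exists_row hR
  have hge : 126 ≤ (NS R).ncard := by
    have hsub : Set.range f ⊆ NS R := by rintro _ ⟨i, rfl⟩; exact ⟨hf i, _, hfj i⟩
    have h := Set.ncard_le_ncard hsub (Set.toFinite _)
    rwa [Set.ncard_range_of_injective fun a b e => row_inj (hfi _) (by rw [e]; exact hfi _),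
      Nat.card_eq_fintype_card, Fintype.card_fin] at h
  have hexp : ∀ n ∈ NS R, ∃ j : ℕ, (j = 1 ∨ j = 2 ∨ j = 4) ∧ n * R * n⁻¹ = R ^ j := by
    rintro n ⟨hn, j, hj⟩
    have hmod : R ^ j = R ^ (j % 7) := by
      conv_lhs => rw [← Nat.mod_add_div j 7, pow_add, pow_mul, R_seven hR, one_pow, mul_one]
    rw [hmod] at hj
    have h7 : j % 7 < 7 := Nat.mod_lt _ (by norm_num)
    have hcube : ∀ k, n * R * n⁻¹ = R ^ k → n ^ 3 * R * (n ^ 3)⁻¹ = R ^ (k * k * k) := by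
      intro k hk
      have hp : ∀ i, n * R ^ i * n⁻¹ = R ^ (k * i) := fun i => by rw [← conj_pow, hk, ← pow_mul]
      calc n ^ 3 * R * (n ^ 3)⁻¹ = n * (n * (n * R * n⁻¹) * n⁻¹) * n⁻¹ := by
            rw [show n ^ 3 = n * (n * n) by rw [pow_succ', pow_two], mul_inv_rev, mul_inv_rev]
            simp only [mul_assoc]
        _ = R ^ (k * k * k) := by rw [hk, hp, hp, ← mul_assoc]
    have hne := pow_ne hR hj
    have hinv : ∀ k, k * k * k % 7 = 6 → n * R * n⁻¹ ≠ R ^ k := by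
      intro k hk e
      refine no_inversion hR (pow_mem hn 3) ((hcube k e).trans ?_)
      conv_lhs => rw [← Nat.mod_add_div (k * k * k) 7, pow_add, pow_mul, R_seven hR, one_pow, mul_one, hk]
    refine ⟨j % 7, ?_, hj⟩
    obtain e | e | e | e | e | e | e : j % 7 = 0 ∨ j % 7 = 1 ∨ j % 7 = 2 ∨ j % 7 = 3 ∨ j % 7 = 4 ∨ j % 7 = 5 ∨ j % 7 = 6 := by omega
    · exact absurd (by rw [e, pow_zero]) hne
    · exact Or.inl e
    · exact Or.inr (Or.inl e)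
    · exact absurd hj (e ▸ hinv 3 (by norm_num))
    · exact Or.inr (Or.inr e)
    · exact absurd hj (e ▸ hinv 5 (by norm_num))
    · exact absurd hj (e ▸ hinv 6 (by norm_num))
  choose! e he hej using hexp
  have hinj : Set.InjOn (fun n => (e n, n (pt 23), n (pt 1))) (NS R) := by
    intro a ha b hb h
    simp only [Prod.mk.injEq] at h
    have hc : (b⁻¹ * a) * R = R * (b⁻¹ * a) := by
      have h1 : a * R * a⁻¹ = b * R * b⁻¹ := by rw [hej a ha, hej b hb, h.1]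
      calc b⁻¹ * a * R = b⁻¹ * (a * R * a⁻¹) * a := by group
        _ = b⁻¹ * (b * R * b⁻¹) * a := by rw [h1]
        _ = R * (b⁻¹ * a) := by group
    have hd : b⁻¹ * a = 1 := eq_one hR (mul_mem (inv_mem hb.1) ha.1) hc
      (by rw [Equiv.Perm.mul_apply, h.2.1, Equiv.Perm.coe_inv, Equiv.symm_apply_apply])
      (by rw [Equiv.Perm.mul_apply, h.2.2, Equiv.Perm.coe_inv, Equiv.symm_apply_apply])
    exact (inv_mul_eq_one.1 hd).symm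
  refine le_antisymm ?_ hge
  rw [← hinj.ncard_image]
  refine le_trans (Set.ncard_le_ncard (t := ↑(({1, 2, 4} : Finset ℕ) ×ˢ P2)) ?_ (Finset.finite_toSet _)) ?_
  · rintro _ ⟨n, hn, rfl⟩
    simp only [Finset.mem_coe, Finset.mem_product, Finset.mem_insert, Finset.mem_singleton]
    exact ⟨he n hn, pair_mem hR hn.1 (hej n hn)⟩
  · rw [Set.ncard_coe_finset, Finset.card_product, card_P2]
    rfl

theorem noncomm (hR : IsTbl R RT) : ∃ a ∈ CS R, ∃ b ∈ CS R, a * b ≠ b * a := by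
  obtain ⟨a, ha, haj, hai⟩ := exists_row hR 1
  obtain ⟨b, hb, hbj, hbi⟩ := exists_row hR 2
  have hj : ∀ i : Fin 126, (i : ℕ) < 42 → (rows.getD i ([], 0)).2 = 1 := fun i hi => rows_ok.2.2.2 i hi
  rw [hj _ (by decide), pow_one, mul_inv_eq_iff_eq_mul] at haj hbj
  refine ⟨a, ⟨ha, haj⟩, b, ⟨hb, hbj⟩, fun h => ?_⟩
  have hne : ∃ i < 24, tblNat (rows.getD 1 ([], 0)).1 (tblNat (rows.getD 2 ([], 0)).1 i) ≠
      tblNat (rows.getD 2 ([], 0)).1 (tblNat (rows.getD 1 ([], 0)).1 i) := by decide +kernel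
  obtain ⟨i, hi, hne⟩ := hne
  refine hne ?_
  have e := congrArg (fun x : G => idx (x (pt i))) h
  simp only [Equiv.Perm.mul_apply, hai _, hbi _, idx_pt hi] at e
  exact e

/-- The invariant trio. -/
def T0 : Finset (Finset Cfsg.GolayPt) := Finset.univ.image oct

theorem T0_trio : T0 ∈ Cfsg.trios := by
  refine ⟨by decide +kernel, ?_, ?_⟩
  · intro o ho
    obtain ⟨k, -, rfl⟩ := Finset.mem_image.1 ho
    exact oct_mem k
  · intro o ho o' ho' hne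
    obtain ⟨k, -, rfl⟩ := Finset.mem_image.1 ho
    obtain ⟨m, -, rfl⟩ := Finset.mem_image.1 ho'
    exact Finset.disjoint_left.2 fun p hp hp' => hne (by rw [disjoint_oct k m p hp hp'])

theorem T0_fixed (hR : IsTbl R RT) {n : G} (hn : n ∈ NS R) : n • T0 = T0 := by
  obtain ⟨hnM, j, hj⟩ := hn
  refine Finset.eq_of_subset_of_card_le (fun x hx => ?_) (Finset.card_smul_finset n T0).ge
  obtain ⟨y, hy, rfl⟩ := Finset.mem_smul_finset.1 hx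
  obtain ⟨k, -, rfl⟩ := Finset.mem_image.1 hy
  obtain ⟨m, hm⟩ := map_oct hR hnM hj k
  exact Finset.mem_image.2 ⟨m, Finset.mem_univ _, hm.symm⟩

end

theorem exists_conj {S : Subgroup ↥Cfsg.M24} (hS : Nat.card S = 7) {R : ↥Cfsg.M24} (hR : orderOf R = 7) :
    ∃ g : ↥Cfsg.M24, S = Subgroup.zpowers (g * R * g⁻¹) := by
  have : Fact (Nat.Prime 7) := ⟨by norm_num⟩
  have hf : 7 ^ (Nat.card ↥Cfsg.M24).factorization 7 = 7 := by
    rw [card_M24, show 244823040 = 34974720 * 7 by norm_num, Nat.factorization_mul (by norm_num) (by norm_num),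
      Nat.Prime.factorization (by norm_num : Nat.Prime 7)]
    simp [Nat.factorization_eq_zero_of_not_dvd (show ¬ 7 ∣ 34974720 by norm_num)]
  let P : Sylow 7 ↥Cfsg.M24 := Sylow.ofCard S (by rw [hS, hf])
  let Q : Sylow 7 ↥Cfsg.M24 := Sylow.ofCard (Subgroup.zpowers R) (by rw [Nat.card_zpowers, hR, hf])
  obtain ⟨g, hg⟩ := MulAction.exists_smul_eq ↥Cfsg.M24 Q P
  refine ⟨g, ?_⟩
  have e : (P : Subgroup ↥Cfsg.M24) = MulAut.conj g • Subgroup.zpowers R := by rw [← hg]; rfl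
  have e' : S = (Subgroup.zpowers R).map (MulAut.conj g).toMonoidHom := e
  rw [e', MonoidHom.map_zpowers]
  rfl

/-- For a subgroup S of order 7 of the group of the length-24 code (a Sylow 7-subgroup): the normaliser of S has order 126, the centraliser of S has order 42 and is non-abelian, and the whole normaliser leaves some trio invariant. (These are the orders of a Frobenius group of order 21 times a symmetric group of degree 3; the isomorphism type itself is not asserted here.) -/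
theorem result (S : Subgroup ↥Cfsg.M24) (hS : Nat.card S = 7) : Nat.card ↥(Subgroup.normalizer (S : Set ↥Cfsg.M24)) = 126 ∧ Nat.card ↥(Subgroup.centralizer (S : Set ↥Cfsg.M24)) = 42 ∧ (∃ x ∈ Subgroup.centralizer (S : Set ↥Cfsg.M24), ∃ y ∈ Subgroup.centralizer (S : Set ↥Cfsg.M24), x * y ≠ y * x) ∧ ∃ T ∈ Cfsg.trios, ∀ n ∈ Subgroup.normalizer (S : Set ↥Cfsg.M24), ((n : ↥Cfsg.M24) : Equiv.Perm Cfsg.GolayPt) • T = T := by
  obtain ⟨R, hR, hRi⟩ := exists_elt R_facts.1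
  have hRo : orderOf (⟨R, hR⟩ : ↥Cfsg.M24) = 7 := by rw [← Subgroup.orderOf_coe]; exact R_order hRi
  obtain ⟨g, rfl⟩ := exists_conj hS hRo
  set r : ↥Cfsg.M24 := g * ⟨R, hR⟩ * g⁻¹ with hr
  let toC : ↥Cfsg.M24 → G := fun n => (g : G)⁻¹ * (n : G) * (g : G)
  have htoC : Function.Injective toC := fun a b h => Subtype.ext (mul_left_cancel (mul_right_cancel h))
  have hrel : ∀ (n : ↥Cfsg.M24) (j : ℕ), n * r * n⁻¹ = r ^ j ↔ toC n * R * (toC n)⁻¹ = R ^ j := by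
    intro n j
    rw [hr, conj_pow, Subtype.ext_iff]
    push_cast
    constructor
    · intro h
      calc toC n * R * (toC n)⁻¹ = (g : G)⁻¹ * ((n : G) * ((g : G) * R * (g : G)⁻¹) * (n : G)⁻¹) * (g : G) := by
            simp only [toC]; group
        _ = R ^ j := by rw [h]; group
    · intro h
      rw [← h]
      simp only [toC]
      group
  have hN : ∀ n : ↥Cfsg.M24, n ∈ Subgroup.normalizer ((Subgroup.zpowers r : Subgroup ↥Cfsg.M24) : Set ↥Cfsg.M24) ↔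
      toC n ∈ NS R := by
    intro n
    constructor
    · intro hn
      refine ⟨mul_mem (mul_mem (inv_mem g.2) n.2) g.2, ?_⟩
      have h1 : n * r * n⁻¹ ∈ Subgroup.zpowers r := ((Subgroup.mem_set_normalizer_iff.1 hn) r).1 (Subgroup.mem_zpowers r)
      rw [← (isOfFinOrder_of_finite r).mem_powers_iff_mem_zpowers] at h1
      obtain ⟨j, hj⟩ := h1
      exact ⟨j, (hrel n j).1 hj.symm⟩
    · rintro ⟨-, j, hj⟩
      have hj' := (hrel n j).2 hj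
      have hmap : (Subgroup.zpowers r).map (MulAut.conj n).toMonoidHom = Subgroup.zpowers r := by
        refine Subgroup.eq_of_le_of_card_ge ?_ (Nat.card_congr ((MulAut.conj n).subgroupMap _).toEquiv).le
        rw [MonoidHom.map_zpowers, Subgroup.zpowers_le]
        show n * r * n⁻¹ ∈ _
        rw [hj']
        exact Subgroup.pow_mem _ (Subgroup.mem_zpowers r) j
      refine Subgroup.mem_set_normalizer_iff.2 fun h => ⟨fun hh => ?_, fun hh => ?_⟩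
      · rw [SetLike.mem_coe] at hh ⊢
        rw [← hmap]
        exact ⟨h, hh, rfl⟩
      · rw [SetLike.mem_coe] at hh ⊢
        rw [← hmap] at hh
        obtain ⟨y, hy, e⟩ := hh
        exact (MulAut.conj n).injective e ▸ hy
  have hC : ∀ n : ↥Cfsg.M24, n ∈ Subgroup.centralizer ((Subgroup.zpowers r : Subgroup ↥Cfsg.M24) : Set ↥Cfsg.M24) ↔
      toC n ∈ CS R := by
    intro n
    have h1 : n ∈ Subgroup.centralizer ((Subgroup.zpowers r : Subgroup ↥Cfsg.M24) : Set ↥Cfsg.M24) ↔ n * r = r * n := by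
      rw [Subgroup.mem_centralizer_iff]
      refine ⟨fun h => (h r (Subgroup.mem_zpowers r)).symm, fun h x hx => ?_⟩
      obtain ⟨k, rfl⟩ := Subgroup.mem_zpowers_iff.1 hx
      exact ((Commute.zpow_right h k).symm).eq
    rw [h1]
    have h2 := hrel n 1
    rw [pow_one, pow_one, mul_inv_eq_iff_eq_mul, mul_inv_eq_iff_eq_mul] at h2
    exact h2.trans ⟨fun h => ⟨mul_mem (mul_mem (inv_mem g.2) n.2) g.2, h⟩, fun h => h.2⟩
  have hsurj : ∀ x : G, x ∈ Cfsg.M24 → ∃ n, toC n = x := fun x hx =>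
    ⟨g * ⟨x, hx⟩ * g⁻¹, by simp only [toC]; push_cast; group⟩
  refine ⟨?_, ?_, ?_, (g : G) • T0, M24Trio.smul_trio g.2 T0_trio, fun n hn => ?_⟩
  · rw [← NS_card hRi, ← Nat.card_coe_set_eq (NS R)]
    refine Nat.card_congr (Equiv.ofBijective (fun n => ⟨toC n.1, (hN n.1).1 n.2⟩)
      ⟨fun a b h => Subtype.ext (htoC (congrArg Subtype.val h)), fun x => ?_⟩)
    obtain ⟨n, hn⟩ := hsurj x.1 x.2.1
    exact ⟨⟨n, (hN n).2 (hn ▸ x.2)⟩, Subtype.ext hn⟩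
  · rw [← (CS_facts hRi).1, ← Nat.card_coe_set_eq (CS R)]
    refine Nat.card_congr (Equiv.ofBijective (fun n => ⟨toC n.1, (hC n.1).1 n.2⟩)
      ⟨fun a b h => Subtype.ext (htoC (congrArg Subtype.val h)), fun x => ?_⟩)
    obtain ⟨n, hn⟩ := hsurj x.1 x.2.1
    exact ⟨⟨n, (hC n).2 (hn ▸ x.2)⟩, Subtype.ext hn⟩
  · obtain ⟨a, ha, b, hb, hab⟩ := noncomm hRi
    obtain ⟨x, rfl⟩ := hsurj a ha.1
    obtain ⟨y, rfl⟩ := hsurj b hb.1
    refine ⟨x, (hC x).2 ha, y, (hC y).2 hb, fun e => hab ?_⟩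
    have e' : (x : G) * (y : G) = (y : G) * (x : G) := congrArg Subtype.val e
    simp only [toC]
    calc (g : G)⁻¹ * (x : G) * (g : G) * ((g : G)⁻¹ * (y : G) * (g : G)) = (g : G)⁻¹ * ((x : G) * (y : G)) * (g : G) := by group
      _ = (g : G)⁻¹ * ((y : G) * (x : G)) * (g : G) := by rw [e']
      _ = _ := by group
  · have h := T0_fixed hRi ((hN n).1 hn)
    simp only [toC, mul_smul, inv_smul_eq_iff] at h
    exact h

end Cfsg.Agent.S5604
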