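import Cfsg.Statements.S5006
import Cfsg.Agent.Lib.DegreeTools.MathieuLocal
import Cfsg.Agent.Lib.DegreeTools.PrimeValues
import Cfsg.Agent.Lib.Blocks.SingleBlock
import Cfsg.Agent.Lib.Char.SymSmallChars
import Cfsg.Agent.S5604
import Cfsg.Agent.S5607
-- import your own Cfsg.Agent.* helpers here

set_option autoImplicit false
set_option maxRecDepth 4000
open Cfsg

namespace Cfsg.Agent.S5006

open CfsgLib CfsgLib.DegreeTools CfsgLib.SmallGroups.M24Group CfsgLib.SmallGroups.Mathieu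
  CfsgLib.Sporadic.IndexPoints CfsgLib.Sporadic.MathieuLocalCounts
open CfsgLib.SmallGroups.MathieuSimple (card_stab_point card_stab_two)
open scoped Classical ComplexConjugate Pointwise

theorem card_golay : Fintype.card Cfsg.GolayPt = 24 := CfsgLib.SmallGroups.GolayOctads.card_golayPt

/-- The number of fixed points. -/
noncomputable def fx (g : Cfsg.M24) : ℕ := (fixedPts (g : Equiv.Perm Cfsg.GolayPt)).card

theorem fx_prime {g : Cfsg.M24} {ℓ r : ℕ} (hℓ : ℓ.Prime) (h5 : 5 ≤ ℓ) (hg : orderOf g = ℓ)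
    (hr : ∀ x ≤ 4, x % ℓ = 24 % ℓ → x = r) : fx g = r := by
  haveI : Fact ℓ.Prime := ⟨hℓ⟩
  obtain ⟨h1, h2⟩ := card_fixedPts_eq g.2 (by rw [Subgroup.orderOf_coe]; exact hg) h5
  exact hr _ h1 h2

theorem card_cent_eleven {g : Cfsg.M24} (hg : orderOf g = 11) :
    Nat.card (Subgroup.centralizer ({g} : Set Cfsg.M24)) = 11 := by
  haveI : Fact (Nat.Prime 11) := ⟨by norm_num⟩
  set C := Subgroup.centralizer ({g} : Set Cfsg.M24)
  have hord : orderOf (g : Equiv.Perm Cfsg.GolayPt) = 11 := by rw [Subgroup.orderOf_coe]; exact hg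
  have h2 : fx g = 2 := fx_prime (by norm_num) (by norm_num) hg (by decide)
  obtain ⟨p, q, hpq, hF⟩ := Finset.card_eq_two.1 h2
  have hp : (g : Equiv.Perm Cfsg.GolayPt) p = p := mem_fixedPts.1 (by rw [hF]; simp)
  have hq : (g : Equiv.Perm Cfsg.GolayPt) q = q := mem_fixedPts.1 (by rw [hF]; simp)
  have hmove : ∀ (c : Cfsg.M24), c ∈ C → ∀ z ∈ fixedPts (g : Equiv.Perm Cfsg.GolayPt),
      (c : Equiv.Perm Cfsg.GolayPt) z ∈ fixedPts (g : Equiv.Perm Cfsg.GolayPt) := by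
    intro c hc z hz
    rw [mem_fixedPts] at hz ⊢
    have h := Equiv.congr_fun (congrArg Subtype.val (Subgroup.mem_centralizer_singleton_iff.1 hc)) z
    simp only [Subgroup.coe_mul, Equiv.Perm.mul_apply] at h
    rw [← h, hz]
  set K : Subgroup (Equiv.Perm Cfsg.GolayPt) := Cfsg.M24
    ⊓ MulAction.stabilizer (Equiv.Perm Cfsg.GolayPt) p
    ⊓ MulAction.stabilizer (Equiv.Perm Cfsg.GolayPt) q
  have hker : Nat.card (MulAction.stabilizer C p) = 11 := by
    rw [← card_cent (K := K) (fun x hx => hx.1.1) hpq (fun x hx => ⟨hx.1.2, hx.2⟩)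
      (show (g : Equiv.Perm Cfsg.GolayPt) ∈ K from ⟨⟨g.2, hp⟩, hq⟩) (Or.inr (Or.inr rfl)) hord]
    refine Nat.card_congr ⟨fun c => ⟨c.1.1.1, ⟨⟨c.1.1.2, c.2⟩, ?_⟩,
        Subgroup.mem_centralizer_singleton_iff.2
          (congrArg Subtype.val (Subgroup.mem_centralizer_singleton_iff.1 c.1.2))⟩,
      fun c => ⟨⟨⟨c.1, c.2.1.1.1⟩, Subgroup.mem_centralizer_singleton_iff.2
        (Subtype.ext (Subgroup.mem_centralizer_singleton_iff.1 c.2.2))⟩, c.2.1.1.2⟩,
      fun _ => rfl, fun _ => rfl⟩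
    have hm := hmove c.1.1 c.1.2 q (by rw [hF]; simp)
    rw [hF, Finset.mem_insert, Finset.mem_singleton] at hm
    refine hm.resolve_left fun e => hpq ?_
    exact ((c.1.1 : Equiv.Perm Cfsg.GolayPt).injective (e.trans (show (c.1.1 : Equiv.Perm Cfsg.GolayPt) p = p from c.2).symm)).symm
  have horb : (MulAction.orbit C p).ncard ≤ 2 := by
    refine le_trans (Set.ncard_le_ncard (t := ((fixedPts (g : Equiv.Perm Cfsg.GolayPt) : Finset _) : Set _)) ?_
      (Finset.finite_toSet _)) (by rw [Set.ncard_coe_finset]; exact h2.le)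
    rintro _ ⟨c, rfl⟩
    exact hmove c.1 c.2 p (by rw [hF]; simp)
  have hC := (MulAction.stabilizer C p).card_mul_index
  rw [hker, MulAction.index_stabilizer] at hC
  rcases (show (MulAction.orbit C p).ncard = 1 ∨ (MulAction.orbit C p).ncard = 2 by
      have : 0 < Nat.card C := Nat.card_pos
      omega) with h | h
  · rw [h] at hC; omega
  exfalso
  haveI : Fact (Nat.Prime 2) := ⟨Nat.prime_two⟩
  obtain ⟨⟨c, hc⟩, hc2⟩ := exists_prime_orderOf_dvd_card' (G := C) 2 (by rw [← hC, h]; norm_num)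
  rw [Subgroup.orderOf_mk] at hc2
  have hcord : orderOf (c : Equiv.Perm Cfsg.GolayPt) = 2 := by rw [Subgroup.orderOf_coe]; exact hc2
  have hcg : (c : Equiv.Perm Cfsg.GolayPt) * g = g * c :=
    congrArg Subtype.val (Subgroup.mem_centralizer_singleton_iff.1 hc)
  rcases (Cfsg.Agent.S5394.result).1 (c : Equiv.Perm Cfsg.GolayPt) c.2 hcord with ho | h0
  · have hmod := card_fixedPts_mod hord
      ((fixedPts (c : Equiv.Perm Cfsg.GolayPt) : Finset _) : Set Cfsg.GolayPt) fun z hz => by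
        rw [Finset.mem_coe, mem_fixedPts] at hz ⊢
        have h := Equiv.congr_fun hcg z
        simp only [Equiv.Perm.mul_apply] at h
        rw [h, hz]
    have hle : {z | z ∈ ((fixedPts (c : Equiv.Perm Cfsg.GolayPt) : Finset _) : Set Cfsg.GolayPt) ∧
        (g : Equiv.Perm Cfsg.GolayPt) z = z}.ncard ≤ 2 := by
      refine le_trans (Set.ncard_le_ncard (t := ((fixedPts (g : Equiv.Perm Cfsg.GolayPt) : Finset _) : Set _))
        (fun z hz => Finset.mem_coe.2 (mem_fixedPts.2 hz.2)) (Finset.finite_toSet _))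
        (by rw [Set.ncard_coe_finset]; exact h2.le)
    rw [Set.ncard_coe_finset, show (fixedPts (c : Equiv.Perm Cfsg.GolayPt)).card = 8 from ho.2] at hmod
    omega
  · obtain ⟨hcard, -, -⟩ := Cfsg.Agent.S5607.result (c : Equiv.Perm Cfsg.GolayPt) c.2 hcord h0
    have hd : 11 ∣ 7680 := by
      rw [← hcard]
      let f : Subgroup.centralizer ({c} : Set Cfsg.M24) ≃
          {x : Equiv.Perm Cfsg.GolayPt // x ∈ Cfsg.M24 ∧ x * c = c * x} :=
        ⟨fun x => ⟨x.1.1, x.1.2,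
          congrArg Subtype.val (Subgroup.mem_centralizer_singleton_iff.1 x.2)⟩,
        fun x => ⟨⟨x.1, x.2.1⟩, Subgroup.mem_centralizer_singleton_iff.2 (Subtype.ext x.2.2)⟩,
        fun _ => rfl, fun _ => rfl⟩
      rw [← Nat.card_congr f, ← hg]
      have hgC : g ∈ Subgroup.centralizer ({c} : Set Cfsg.M24) :=
        Subgroup.mem_centralizer_singleton_iff.2
          (Subgroup.mem_centralizer_singleton_iff.1 hc).symm
      rw [← Subgroup.orderOf_mk g hgC]
      exact orderOf_dvd_natCard _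
    norm_num at hd

theorem card_cent_twentythree {g : Cfsg.M24} (hg : orderOf g = 23) :
    Nat.card (Subgroup.centralizer ({g} : Set Cfsg.M24)) = 23 := by
  haveI : Fact (Nat.Prime 23) := ⟨by norm_num⟩
  set C := Subgroup.centralizer ({g} : Set Cfsg.M24)
  have hord : orderOf (g : Equiv.Perm Cfsg.GolayPt) = 23 := by rw [Subgroup.orderOf_coe]; exact hg
  have h1 : fx g = 1 := fx_prime (by norm_num) (by norm_num) hg (by decide)
  have hcomm : ∀ c : C, ∀ z, (c.1 : Equiv.Perm Cfsg.GolayPt) ((g : Equiv.Perm Cfsg.GolayPt) z)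
      = (g : Equiv.Perm Cfsg.GolayPt) ((c.1 : Equiv.Perm Cfsg.GolayPt) z) := fun c z =>
    Equiv.congr_fun (congrArg Subtype.val (Subgroup.mem_centralizer_singleton_iff.1 c.2)) z
  obtain ⟨a, -, ha⟩ := Finset.exists_mem_notMem_of_card_lt_card (t := Finset.univ)
    (s := fixedPts (g : Equiv.Perm Cfsg.GolayPt))
    (by rw [Finset.card_univ, card_golay]; exact lt_of_eq_of_lt h1 (by norm_num))
  have hga : (g : Equiv.Perm Cfsg.GolayPt) a ≠ a := fun e => ha (mem_fixedPts.2 e)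
  have hstab : Nat.card (MulAction.stabilizer C a) = 1 := by
    rw [Subgroup.card_eq_one, Subgroup.eq_bot_iff_forall]
    rintro c (hca : (c.1 : Equiv.Perm Cfsg.GolayPt) a = a)
    refine Subtype.ext (Subtype.ext ?_)
    show (c.1 : Equiv.Perm Cfsg.GolayPt) = 1
    by_contra hne
    have h8 := card_fixedPts_le_eight c.1.2 hne
    have hsub : (MulAction.orbit (Subgroup.zpowers (g : Equiv.Perm Cfsg.GolayPt)) a).toFinset
        ⊆ fixedPts (c.1 : Equiv.Perm Cfsg.GolayPt) := by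
      intro z hz
      rw [Set.mem_toFinset] at hz
      obtain ⟨⟨w, n, rfl⟩, rfl⟩ := hz
      rw [mem_fixedPts]
      show (c.1 : Equiv.Perm Cfsg.GolayPt) (((g : Equiv.Perm Cfsg.GolayPt) ^ n) a) = _
      have hcm : Commute (c.1 : Equiv.Perm Cfsg.GolayPt) (g : Equiv.Perm Cfsg.GolayPt) :=
        Equiv.ext (hcomm c)
      rw [← Equiv.Perm.mul_apply, (hcm.zpow_right n).eq, Equiv.Perm.mul_apply, hca]
      rfl
    have := Finset.card_le_card hsub
    rw [← Set.ncard_eq_toFinset_card', card_orbit_of_moved hord hga] at this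
    omega
  have horb : (MulAction.orbit C a).ncard ≤ 23 := by
    refine le_trans (Set.ncard_le_ncard
      (t := (((fixedPts (g : Equiv.Perm Cfsg.GolayPt))ᶜ : Finset _) : Set Cfsg.GolayPt)) ?_
      (Finset.finite_toSet _)) (by rw [Set.ncard_coe_finset, Finset.card_compl, card_golay,
        show (fixedPts (g : Equiv.Perm Cfsg.GolayPt)).card = 1 from h1])
    rintro _ ⟨c, rfl⟩
    rw [Finset.coe_compl, Set.mem_compl_iff, Finset.mem_coe, mem_fixedPts]
    intro e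
    exact hga ((c.1 : Equiv.Perm Cfsg.GolayPt).injective ((hcomm c a).trans e))
  have hC := (MulAction.stabilizer C a).card_mul_index
  rw [hstab, MulAction.index_stabilizer, one_mul] at hC
  have hdvd : 23 ∣ Nat.card C := by
    rw [← hg, ← Subgroup.orderOf_mk g (Subgroup.mem_centralizer_singleton_iff.2 rfl : g ∈ C)]
    exact orderOf_dvd_natCard _
  have := Nat.le_of_dvd Nat.card_pos hdvd
  omega

/-- The elements of order `ℓ` and the values of a character at them. -/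
theorem family [Fintype Cfsg.M24] {ℓ : ℕ} (hℓ : ℓ = 7 ∨ ℓ = 11 ∨ ℓ = 23) {g : Cfsg.M24}
    (hg : orderOf g = ℓ) {j n N r : ℕ}
    (hN : Nat.card (Subgroup.normalizer (Subgroup.zpowers g : Set Cfsg.M24))
      = j * Nat.card (Subgroup.centralizer ({g} : Set Cfsg.M24)))
    (hNN : Nat.card (Subgroup.normalizer (Subgroup.zpowers g : Set Cfsg.M24)) = N)
    (hk : j = ℓ - 1 ∨ (Odd j ∧ 2 * j = ℓ - 1)) (hn : n * N = (ℓ - 1) * 244823040)
    (hr : ∀ x ≤ 4, x % ℓ = 24 % ℓ → x = r)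
    (χ : Cfsg.IrrCharacter Cfsg.M24) :
    ∃ (E : Finset Cfsg.M24) (s q y : ℤ), E.card = n ∧
      (∀ h ∈ E, orderOf h = ℓ ∧ fx h = r) ∧
      0 ≤ y ∧ 4 * q = s ^ 2 + (ℓ : ℤ) * y ∧
      (ℓ : ℤ) ∣ q - (Cfsg.charDegree (χ : Cfsg.M24 → ℂ) : ℤ) ^ 2 ∧
      (ℓ : ℤ) ∣ s - 2 * (Cfsg.charDegree (χ : Cfsg.M24 → ℂ) : ℤ) ∧
      ∀ h ∈ E, 2 * ((χ : Cfsg.M24 → ℂ) h).re = (s : ℝ) ∧
        Complex.normSq ((χ : Cfsg.M24 → ℂ) h) = (q : ℝ) := by
  have hℓp : ℓ.Prime := by rcases hℓ with rfl | rfl | rfl <;> norm_num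
  obtain ⟨hP, hcard⟩ := PrimeValues.pm_spec hℓp (by omega) hg hN hk
  rw [hNN, card_M24] at hcard
  obtain ⟨s, q, y, h1, h2, h3, h4, h5⟩ := PrimeValues.values χ hℓp hg hP
  refine ⟨_, s, q, y, ?_, fun h hh => ?_, h1, h2, h3, h4, fun h hh => ⟨?_, (h5 h hh).2⟩⟩
  · refine Nat.eq_of_mul_eq_mul_right ?_ (hcard.trans hn.symm)
    rw [← hNN]; exact Nat.card_pos
  · have ho : orderOf h = ℓ := by
      rcases PrimeValues.mem_pm.1 hh with e | e <;> obtain ⟨u, rfl⟩ := isConj_iff.1 e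
      · rw [← MulAut.conj_apply, MulEquiv.orderOf_eq, hg]
      · rw [← MulAut.conj_apply, MulEquiv.orderOf_eq, orderOf_inv, hg]
    exact ⟨ho, fx_prime hℓp (by omega) ho hr⟩
  · have h6 := congrArg Complex.re (h5 h hh).1
    simp only [Complex.add_re, Complex.conj_re, Complex.intCast_re] at h6
    linarith

theorem arith {d : ℕ} {s23 q23 y23 s11 q11 y11 s7 q7 y7 : ℤ} (h1024 : 1024 ∣ d)
    (hdvd : d ∣ 244823040) (hd0 : 0 < d) (hy23 : 0 ≤ y23) (hy11 : 0 ≤ y11) (hy7 : 0 ≤ y7)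
    (hq23 : 4 * q23 = s23 ^ 2 + ((23 : ℕ) : ℤ) * y23)
    (hq11 : 4 * q11 = s11 ^ 2 + ((11 : ℕ) : ℤ) * y11)
    (hq7 : 4 * q7 = s7 ^ 2 + ((7 : ℕ) : ℤ) * y7)
    (ha : ((23 : ℕ) : ℤ) ∣ q23 - (d : ℤ) ^ 2) (hb : ((11 : ℕ) : ℤ) ∣ q11 - (d : ℤ) ^ 2)
    (hc : ((7 : ℕ) : ℤ) ∣ q7 - (d : ℤ) ^ 2)
    (hs23 : ((23 : ℕ) : ℤ) ∣ s23 - 2 * (d : ℤ)) (hs11 : ((11 : ℕ) : ℤ) ∣ s11 - 2 * (d : ℤ))
    (hs7 : ((7 : ℕ) : ℤ) ∣ s7 - 2 * (d : ℤ))
    (hle : (d : ℤ) ^ 2 + 21288960 * q23 + 22256640 * q11 + 11658240 * q7 ≤ 244823040) :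
    d = 1024 ∧ q23 = 6 ∧ q11 = 1 ∧ q7 = 4 ∧ s23 = 1 ∧ s11 = 2 ∧ (s7 = 4 ∨ s7 = -3) := by
  simp only [Nat.cast_ofNat] at *
  have h23 : 0 ≤ q23 := by linarith [sq_nonneg s23]
  have h11 : 0 ≤ q11 := by linarith [sq_nonneg s11]
  have h7 : 0 ≤ q7 := by linarith [sq_nonneg s7]
  obtain ⟨m, rfl⟩ := h1024
  have hm : m < 16 := by
    by_contra hcon
    have h2 : (16384 : ℤ) ≤ ((1024 * m : ℕ) : ℤ) := by omega
    have h3 := pow_le_pow_left₀ (by norm_num) h2 2
    linarith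
  interval_cases m
  all_goals (first | (norm_num at hdvd; done) | (norm_num at hd0; done) |
    (norm_num at hle ha hb hc hs23 hs11 hs7; try omega))
  refine ⟨by norm_num, ?_⟩
  obtain ⟨rfl, rfl, rfl⟩ : q23 = 6 ∧ q11 = 1 ∧ q7 = 4 := by omega
  have b23 := abs_le_of_sq_le_sq' (show s23 ^ 2 ≤ 5 ^ 2 by linarith) (by norm_num)
  have b11 := abs_le_of_sq_le_sq' (show s11 ^ 2 ≤ 2 ^ 2 by linarith) (by norm_num)
  have b7 := abs_le_of_sq_le_sq' (show s7 ^ 2 ≤ 4 ^ 2 by linarith) (by norm_num)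
  omega

/-- A character of degree greater than that of a character is no constituent of it. -/
theorem inner_eq_zero {G : Type} [Group G] [Fintype G] {f : G → ℂ} (hf : Cfsg.IsCharacter G f)
    (χ : Cfsg.IrrCharacter G) {n : ℕ} (hn : f 1 = n)
    (hlt : n < Cfsg.charDegree (χ : G → ℂ)) : Cfsg.classInner f (χ : G → ℂ) = 0 := by
  choose m hm using fun ψ : Cfsg.IrrCharacter G =>
    Char.IsCharacter.classInner_nat hf (Char.isCharacter_irr ψ)
  have h := congrFun (Char.IsClassFunction.eq_sum_irr (Char.IsCharacter.isClassFunction hf)) 1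
  simp only [Finset.sum_apply, Pi.smul_apply, smul_eq_mul, hm, Blocks.irr_one_eq, hn] at h
  have h' : n = ∑ ψ : Cfsg.IrrCharacter G, m ψ * Cfsg.charDegree (ψ : G → ℂ) := by exact_mod_cast h
  have hle := Finset.single_le_sum (f := fun ψ : Cfsg.IrrCharacter G =>
    m ψ * Cfsg.charDegree (ψ : G → ℂ)) (fun _ _ => Nat.zero_le _) (Finset.mem_univ χ)
  rw [← h'] at hle
  rw [hm]
  rcases (m χ).eq_zero_or_pos with h0 | h0
  · rw [h0, Nat.cast_zero]
  · have := Nat.le_mul_of_pos_left (Cfsg.charDegree (χ : G → ℂ)) h0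
    omega

theorem sum_fx_sq [Fintype Cfsg.M24] : ∑ g : Cfsg.M24, fx g ^ 2 = 489646080 := by
  have e : ∀ g : Cfsg.M24, fx g ^ 2 = ∑ p : Cfsg.GolayPt, ∑ q : Cfsg.GolayPt,
      if g • p = p ∧ g • q = q then 1 else 0 := by
    intro g
    rw [pow_two, fx, fixedPts, Finset.card_filter, Finset.sum_mul_sum]
    refine Finset.sum_congr rfl fun p _ => Finset.sum_congr rfl fun q _ => ?_
    show (if (g : Equiv.Perm Cfsg.GolayPt) p = p then 1 else 0) * _ = _
    rw [ite_zero_mul_ite_zero, mul_one]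
    rfl
  simp only [e]
  rw [Finset.sum_comm]
  have hinner : ∀ p q : Cfsg.GolayPt,
      ∑ g : Cfsg.M24, (if g • p = p ∧ g • q = q then 1 else 0)
        = if p = q then 10200960 else 443520 := by
    intro p q
    rw [← Finset.card_filter, ← Fintype.card_subtype, ← Nat.card_eq_fintype_card]
    split_ifs with h
    · subst h
      rw [← card_stab_point p]
      exact Nat.card_congr (Equiv.subtypeEquivRight fun g => ⟨fun h => h.1, fun h => ⟨h, h⟩⟩)
    · rw [← card_stab_two h]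
      exact Nat.card_congr (Equiv.subtypeEquivRight fun g => Iff.rfl)
  have hp : ∀ p : Cfsg.GolayPt, ∑ g : Cfsg.M24, ∑ q : Cfsg.GolayPt,
      (if g • p = p ∧ g • q = q then 1 else 0) = 20401920 := by
    intro p
    rw [Finset.sum_comm, Finset.sum_congr rfl fun q _ => hinner p q,
      ← Finset.add_sum_erase _ _ (Finset.mem_univ p), if_pos rfl,
      Finset.sum_congr rfl fun q hq => if_neg (Ne.symm (Finset.ne_of_mem_erase hq)),
      Finset.sum_const, Finset.card_erase_of_mem (Finset.mem_univ _), Finset.card_univ, card_golay]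
    rfl
  rw [Finset.sum_congr rfl fun p _ => hp p, Finset.sum_const, Finset.card_univ, card_golay]
  rfl

theorem sum_fx_mul [Fintype Cfsg.M24] (χ : Cfsg.IrrCharacter Cfsg.M24)
    (hd : 24 < Cfsg.charDegree (χ : Cfsg.M24 → ℂ)) :
    ∑ g : Cfsg.M24, (fx g : ℝ) * (2 * ((χ : Cfsg.M24 → ℂ) g).re) = 0 := by
  have hf := Char.SymSmallChars.isCharacter_fix (G := Cfsg.M24) (Ω := Cfsg.GolayPt)
  have e : (fun g : Cfsg.M24 => (Nat.card {a : Cfsg.GolayPt // g • a = a} : ℂ))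
      = fun g => (fx g : ℂ) := by
    funext g
    congr 1
    rw [Nat.card_eq_fintype_card, Fintype.card_subtype]
    rfl
  rw [e] at hf
  have h := inner_eq_zero hf χ (n := 24) ?_ hd
  · rw [classInner, mul_eq_zero] at h
    have h' := congrArg Complex.re (h.resolve_left (inv_ne_zero Char.card_ne_zero))
    simp only [Complex.re_sum, Complex.mul_re, Complex.natCast_re, Complex.natCast_im,
      Complex.conj_re, zero_mul, sub_zero, Complex.zero_re] at h'
    simp only [mul_left_comm _ (2 : ℝ), ← Finset.mul_sum, h', mul_zero]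
  · simp only [fx, fixedPts, Subgroup.coe_one, Equiv.Perm.one_apply, Finset.filter_true,
      Finset.card_univ, card_golay]

theorem no_defect_zero [Fintype Cfsg.M24] (χ : Cfsg.IrrCharacter Cfsg.M24) :
    ¬ 1024 ∣ Cfsg.charDegree (χ : Cfsg.M24 → ℂ) := by
  intro h1024
  haveI : Fact (Nat.Prime 7) := ⟨by norm_num⟩
  haveI : Fact (Nat.Prime 11) := ⟨by norm_num⟩
  haveI : Fact (Nat.Prime 23) := ⟨by norm_num⟩
  obtain ⟨g23, hg23⟩ := exists_prime_orderOf_dvd_card' (G := Cfsg.M24) 23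
    (by rw [card_M24]; norm_num)
  obtain ⟨g11, hg11⟩ := exists_prime_orderOf_dvd_card' (G := Cfsg.M24) 11
    (by rw [card_M24]; norm_num)
  obtain ⟨g7, hg7⟩ := exists_prime_orderOf_dvd_card' (G := Cfsg.M24) 7
    (by rw [card_M24]; norm_num)
  have hC23 := card_cent_twentythree hg23
  obtain ⟨k23, hN23, hk23, -, hm23⟩ :=
    PrimeValues.automizer (by norm_num) hg23 (by rw [card_M24]; norm_num) hC23
  rw [card_M24] at hm23
  obtain rfl : k23 = 11 :=
    (by decide : ∀ j < 23, j ∣ 22 → 244823040 / (j * 23) % 23 = 1 → j = 11) k23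
      (by have := Nat.le_of_dvd (by norm_num) hk23; omega) hk23 hm23
  have hC11 := card_cent_eleven hg11
  obtain ⟨k11, hN11, hk11, -, hm11⟩ :=
    PrimeValues.automizer (by norm_num) hg11 (by rw [card_M24]; norm_num) hC11
  rw [card_M24] at hm11
  obtain rfl : k11 = 10 :=
    (by decide : ∀ j < 11, j ∣ 10 → 244823040 / (j * 11) % 11 = 1 → j = 10) k11
      (by have := Nat.le_of_dvd (by norm_num) hk11; omega) hk11 hm11
  obtain ⟨hN7, hC7, -⟩ := Cfsg.Agent.S5604.result (Subgroup.zpowers g7)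
    (by rw [Nat.card_zpowers, hg7])
  rw [Blocks.centralizer_zpowers] at hC7
  obtain ⟨E23, s23, q23, y23, c23, o23, hy23, hq23, hqd23, hsd23, hv23⟩ :=
    family (j := 11) (n := 21288960) (r := 1) (by omega) hg23 (by rw [hN23, hC23]) hN23
      (Or.inr ⟨⟨5, rfl⟩, rfl⟩) (by norm_num) (by decide) χ
  obtain ⟨E11, s11, q11, y11, c11, o11, hy11, hq11, hqd11, hsd11, hv11⟩ :=
    family (j := 10) (n := 22256640) (r := 2) (by omega) hg11 (by rw [hN11, hC11]) hN11
      (Or.inl rfl) (by norm_num) (by decide) χ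
  obtain ⟨E7, s7, q7, y7, c7, o7, hy7, hq7, hqd7, hsd7, hv7⟩ :=
    family (j := 3) (n := 11658240) (r := 3) (by omega) hg7 (by rw [hN7, hC7]) hN7
      (Or.inr ⟨⟨1, rfl⟩, rfl⟩) (by norm_num) (by decide) χ
  set d := Cfsg.charDegree (χ : Cfsg.M24 → ℂ) with hd
  set U : Finset Cfsg.M24 := {1} ∪ (E23 ∪ (E11 ∪ E7)) with hUdef
  have hdj : ∀ {a b : ℕ} {A B : Finset Cfsg.M24} {r r' : ℕ},
      (∀ h ∈ A, orderOf h = a ∧ fx h = r) → (∀ h ∈ B, orderOf h = b ∧ fx h = r') → a ≠ b →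
      Disjoint A B := fun hA hB hab =>
    Finset.disjoint_left.2 fun h h1 h2 => hab ((hA h h1).1.symm.trans (hB h h2).1)
  have hd1 : Disjoint ({1} : Finset Cfsg.M24) (E23 ∪ (E11 ∪ E7)) := by
    simp only [Finset.disjoint_singleton_left, Finset.mem_union, not_or]
    exact ⟨fun h => by have := (o23 _ h).1; simp at this,
      fun h => by have := (o11 _ h).1; simp at this, fun h => by have := (o7 _ h).1; simp at this⟩
  have hd23 : Disjoint E23 (E11 ∪ E7) := Finset.disjoint_union_right.2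
    ⟨hdj o23 o11 (by norm_num), hdj o23 o7 (by norm_num)⟩
  have hd11 : Disjoint E11 E7 := hdj o11 o7 (by norm_num)
  have hone : (χ : Cfsg.M24 → ℂ) 1 = (d : ℂ) := Blocks.irr_one_eq χ
  have hUs : ∀ (F : Cfsg.M24 → ℝ) (a b c : ℝ), (∀ h ∈ E23, F h = a) → (∀ h ∈ E11, F h = b) →
      (∀ h ∈ E7, F h = c) →
      ∑ h ∈ U, F h = F 1 + 21288960 * a + 22256640 * b + 11658240 * c := by
    intro F a b c ha hb hc
    rw [hUdef, Finset.sum_union hd1, Finset.sum_union hd23, Finset.sum_union hd11,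
      Finset.sum_singleton, Finset.sum_congr rfl ha, Finset.sum_congr rfl hb,
      Finset.sum_congr rfl hc]
    simp only [Finset.sum_const, c23, c11, c7, nsmul_eq_mul]
    push_cast
    ring
  have hN := PrimeValues.sum_normSq χ
  rw [card_M24, ← Finset.sum_add_sum_compl U,
    hUs _ _ _ _ (fun h hh => (hv23 h hh).2) (fun h hh => (hv11 h hh).2) (fun h hh => (hv7 h hh).2),
    hone, Complex.normSq_natCast] at hN
  push_cast at hN
  have hrest : 0 ≤ ∑ h ∈ Uᶜ, Complex.normSq ((χ : Cfsg.M24 → ℂ) h) :=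
    Finset.sum_nonneg fun h _ => Complex.normSq_nonneg _
  have hle : (d : ℤ) ^ 2 + 21288960 * q23 + 22256640 * q11 + 11658240 * q7 ≤ 244823040 := by
    have h : (d : ℝ) ^ 2 + 21288960 * q23 + 22256640 * q11 + 11658240 * q7 ≤ 244823040 := by
      rw [pow_two]; linarith
    exact_mod_cast h
  obtain ⟨hdeg, rfl, rfl, rfl, rfl, rfl, hs7⟩ := arith h1024 (card_M24 ▸ Blocks.charDegree_dvd χ)
    (Blocks.charDegree_pos χ) hy23 hy11 hy7 hq23 hq11 hq7 hqd23 hqd11 hqd7 hsd23 hsd11 hsd7 hle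
  obtain ⟨x, hx⟩ : E23.Nonempty := Finset.card_pos.1 (by rw [c23]; norm_num)
  have hsq0 : ∑ g : Cfsg.M24, (χ : Cfsg.M24 → ℂ) g ^ 2 = 0 := by
    refine PrimeValues.sum_sq_eq_zero χ (g₀ := x) fun hreal => ?_
    obtain ⟨h1, h2⟩ := hv23 x hx
    rw [Complex.conj_eq_iff_im] at hreal
    rw [Complex.normSq_apply, hreal] at h2
    simp only [Int.cast_one, Int.cast_ofNat] at h1 h2
    have h3 : ((χ : Cfsg.M24 → ℂ) x).re = 1 / 2 := by linarith
    rw [h3] at h2
    norm_num at h2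
  have hF2 : ∑ g : Cfsg.M24, (2 * ((χ : Cfsg.M24 → ℂ) g).re) ^ 2 = 489646080 := by
    have h := congrArg Complex.re hsq0
    simp only [Complex.re_sum, pow_two, Complex.mul_re, Complex.zero_re] at h
    have h2 := PrimeValues.sum_normSq χ
    simp only [Complex.normSq_apply, card_M24] at h2
    rw [Finset.sum_congr rfl fun g _ => show (2 * ((χ : Cfsg.M24 → ℂ) g).re) ^ 2
      = 2 * (((χ : Cfsg.M24 → ℂ) g).re * ((χ : Cfsg.M24 → ℂ) g).re
          - ((χ : Cfsg.M24 → ℂ) g).im * ((χ : Cfsg.M24 → ℂ) g).im)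
        + 2 * (((χ : Cfsg.M24 → ℂ) g).re * ((χ : Cfsg.M24 → ℂ) g).re
          + ((χ : Cfsg.M24 → ℂ) g).im * ((χ : Cfsg.M24 → ℂ) g).im) by ring,
      Finset.sum_add_distrib, ← Finset.mul_sum, ← Finset.mul_sum, h, h2]
    push_cast; ring
  have hd1024 : ((χ : Cfsg.M24 → ℂ) 1).re = 1024 := by rw [hone, hdeg]; simp
  have hs : (s7 : ℝ) = 4 := by
    rcases hs7 with rfl | rfl
    · norm_num
    exfalso
    have hI := hUs (fun g => 4 * Complex.normSq ((χ : Cfsg.M24 → ℂ) g)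
        - (2 * ((χ : Cfsg.M24 → ℂ) g).re) ^ 2) 23 0 7
      (fun h hh => by rw [(hv23 h hh).1, (hv23 h hh).2]; norm_num)
      (fun h hh => by rw [(hv11 h hh).1, (hv11 h hh).2]; norm_num)
      (fun h hh => by rw [(hv7 h hh).1, (hv7 h hh).2]; norm_num)
    have hIc : 0 ≤ ∑ g ∈ Uᶜ, (4 * Complex.normSq ((χ : Cfsg.M24 → ℂ) g)
        - (2 * ((χ : Cfsg.M24 → ℂ) g).re) ^ 2) := Finset.sum_nonneg fun g _ => by
      rw [Complex.normSq_apply]
      linarith [mul_self_nonneg ((χ : Cfsg.M24 → ℂ) g).im]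
    have htot : ∑ g : Cfsg.M24, (4 * Complex.normSq ((χ : Cfsg.M24 → ℂ) g)
        - (2 * ((χ : Cfsg.M24 → ℂ) g).re) ^ 2) = 489646080 := by
      rw [Finset.sum_sub_distrib, ← Finset.mul_sum, PrimeValues.sum_normSq, card_M24, hF2]
      norm_num
    rw [← Finset.sum_add_sum_compl U, hI, hd1024, hone, hdeg, Complex.normSq_natCast] at htot
    push_cast at htot
    linarith
  have hU2 := hUs (fun g => (2 * ((χ : Cfsg.M24 → ℂ) g).re) ^ 2) 1 4 16
    (fun h hh => by rw [(hv23 h hh).1]; norm_num) (fun h hh => by rw [(hv11 h hh).1]; norm_num)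
    (fun h hh => by rw [(hv7 h hh).1, hs]; norm_num)
  have hU1 := hUs (fun g => (fx g : ℝ) * (2 * ((χ : Cfsg.M24 → ℂ) g).re)) 1 4 12
    (fun h hh => by rw [(hv23 h hh).1, (o23 h hh).2]; norm_num)
    (fun h hh => by rw [(hv11 h hh).1, (o11 h hh).2]; norm_num)
    (fun h hh => by rw [(hv7 h hh).1, (o7 h hh).2, hs]; norm_num)
  have hUf := hUs (fun g => (fx g : ℝ) ^ 2) 1 4 9
    (fun h hh => by rw [(o23 h hh).2]; norm_num) (fun h hh => by rw [(o11 h hh).2]; norm_num)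
    (fun h hh => by rw [(o7 h hh).2]; norm_num)
  have hfx1 : fx 1 = 24 := by
    simp only [fx, fixedPts, Subgroup.coe_one, Equiv.Perm.one_apply, Finset.filter_true,
      Finset.card_univ, card_golay]
  rw [hd1024] at hU1 hU2
  rw [hfx1] at hU1 hUf
  have hL := sum_fx_mul χ (by rw [← hd, hdeg]; norm_num)
  have hf2 : ∑ g : Cfsg.M24, (fx g : ℝ) ^ 2 = 489646080 := by exact_mod_cast sum_fx_sq
  rw [← Finset.sum_add_sum_compl U, hU2] at hF2
  rw [← Finset.sum_add_sum_compl U, hU1] at hL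
  rw [← Finset.sum_add_sum_compl U, hUf] at hf2
  have hcs := Finset.sum_mul_sq_le_sq_mul_sq Uᶜ (fun g => (fx g : ℝ))
    (fun g => 2 * ((χ : Cfsg.M24 → ℂ) g).re)
  push_cast at hL hf2
  rw [eq_sub_of_add_eq' hL, eq_sub_of_add_eq' hf2, eq_sub_of_add_eq' hF2] at hcs
  norm_num at hcs

/-- All irreducible complex characters of the Mathieu group `M₂₄` lie in a single 2-block: any two of them lie in the same block relative to every maximal ideal of the algebraic integers containing 2. -/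
theorem result (M : Ideal Cfsg.AlgInt) (hM : Cfsg.IsPModular 2 M)
    (χ ψ : Cfsg.IrrCharacter ↥Cfsg.M24) : Cfsg.SameBlock M (χ : ↥Cfsg.M24 → ℂ) (ψ : ↥Cfsg.M24 → ℂ) := by
  letI : Fintype Cfsg.M24 := Fintype.ofFinite _
  have key : ∀ φ : Cfsg.IrrCharacter Cfsg.M24, φ ∈ Cfsg.principalBlock M Cfsg.M24 := by
    intro φ
    refine Blocks.mem_principalBlock_of_local hM MathieuLocal.constrained_M24 φ ?_
    have h10 : (Nat.card Cfsg.M24).factorization 2 = 10 := by
      rw [card_M24, show (244823040 : ℕ) = 2 ^ 10 * 239085 by norm_num,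
        Nat.factorization_mul (by norm_num) (by norm_num), Nat.factorization_pow]
      simp [Nat.prime_two.factorization_self, Nat.factorization_eq_zero_of_not_dvd]
    rw [h10]
    by_contra hcon
    exact no_defect_zero φ ((pow_dvd_pow 2 (Nat.not_lt.1 hcon)).trans (Nat.ordProj_dvd _ 2))
  exact Blocks.SameBlock_trans hM
    (Blocks.SameBlock_symm (Blocks.mem_blockOf.1 (key χ))) (Blocks.mem_blockOf.1 (key ψ))

end Cfsg.Agent.S5006
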