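import Cfsg.Statements.S5011
-- import your own Cfsg.Agent.* helpers here

set_option autoImplicit false
open Cfsg

namespace Cfsg.Agent.S5011

/-- Let G be a finite non-abelian simple group and ρ an irreducible complex representation of G on a space of dimension greater than one (irreducible in the sense that the only subspaces invariant under every ρ(x) are 0 and the whole space). Then for every non-identity element g of G, the centralizer of g does not act irreducibly: there is a non-zero proper subspace invariant under ρ(c) for every c commuting with g. -/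
theorem result {G : Type*} [Group G] [Finite G] [IsSimpleGroup G]
    (hG : ¬ IsMulCommutative G) {V : Type*} [AddCommGroup V] [Module ℂ V] [FiniteDimensional ℂ V]
    (ρ : Representation ℂ G V)
    (hirr : ∀ W : Submodule ℂ V, (∀ x : G, ∀ v ∈ W, ρ x v ∈ W) → W = ⊥ ∨ W = ⊤)
    (hdim : 1 < Module.finrank ℂ V) (g : G) (hg : g ≠ 1) :
    ∃ W : Submodule ℂ V, W ≠ ⊥ ∧ W ≠ ⊤ ∧ ∀ c ∈ Subgroup.centralizer ({g} : Set G), ∀ v ∈ W, ρ c v ∈ W := by
  by_contra hcon
  push Not at hcon
  haveI : Nontrivial V := Module.nontrivial_of_finrank_pos (R := ℂ) (by omega)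
  obtain ⟨a, ha⟩ := Module.End.exists_eigenvalue (ρ g)
  set E : Submodule ℂ V := Module.End.eigenspace (ρ g) a with hE
  have hEtop : E = ⊤ := by
    by_contra hne
    obtain ⟨c, hc, v, hv, hcv⟩ := hcon E ha hne
    apply hcv
    rw [hE, Module.End.mem_eigenspace_iff] at hv ⊢
    have hcomm : g * c = c * g := Subgroup.mem_centralizer_iff.mp hc g rfl
    calc ρ g (ρ c v) = ρ (g * c) v := by rw [map_mul]; rfl
      _ = ρ (c * g) v := by rw [hcomm]
      _ = ρ c (ρ g v) := by rw [map_mul]; rfl
      _ = a • ρ c v := by rw [hv, map_smul]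
  have hscal : ∀ v, ρ g v = a • v := fun v =>
    Module.End.mem_eigenspace_iff.mp (hEtop ▸ Submodule.mem_top : v ∈ E)
  have hcomm : ∀ x : G, ρ (x * g) = ρ (g * x) := by
    intro x
    ext v
    simp [map_mul, hscal, map_smul]
  rcases IsSimpleGroup.eq_bot_or_eq_top_of_normal (MonoidHom.ker ρ) inferInstance with hk | hk
  · have hinj : Function.Injective ρ := (MonoidHom.ker_eq_bot_iff ρ).mp hk
    have hgc : g ∈ Subgroup.center G := Subgroup.mem_center_iff.mpr fun x => hinj (hcomm x)
    rcases IsSimpleGroup.eq_bot_or_eq_top_of_normal (Subgroup.center G) inferInstance with h | h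
    · rw [h, Subgroup.mem_bot] at hgc
      exact hg hgc
    · exact hG ⟨⟨fun x y => (Subgroup.mem_center_iff.mp (h ▸ Subgroup.mem_top y) x)⟩⟩
  · have htriv : ∀ x : G, ρ x = 1 := fun x =>
      MonoidHom.mem_ker.mp (hk ▸ Subgroup.mem_top x)
    obtain ⟨v, hv⟩ := exists_ne (0 : V)
    rcases hirr (ℂ ∙ v) (fun x w hw => by simpa [htriv x] using hw) with h | h
    · exact hv (by simpa [Submodule.span_singleton_eq_bot] using h)
    · have := finrank_span_singleton (K := ℂ) hv
      rw [h, finrank_top] at this
      omega


end Cfsg.Agent.S5011
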