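import Cfsg.Statements.S5014
import Cfsg.Agent.Lib.Perm.RankOne

set_option autoImplicit false
open Cfsg

namespace Cfsg.Agent.S5014

/-- Let X = ⟨A, B⟩ be a rank one group with unipotent subgroups A and B and let Ω be the set of conjugates of A under X. Then Ω has at least three members, X acts doubly transitively on Ω by conjugation (any two ordered pairs of distinct members are carried to one another by a single element of X), and A acts regularly on Ω with A removed: for C, D in Ω different from A there is exactly one element of A conjugating C to D. -/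
theorem result {G : Type*} [Group G] {A B : Subgroup G} (h : Cfsg.IsRankOnePair A B) :
    (∃ C₁ ∈ Cfsg.unipotentSubgroups A B, ∃ C₂ ∈ Cfsg.unipotentSubgroups A B, ∃ C₃ ∈ Cfsg.unipotentSubgroups A B,
      C₁ ≠ C₂ ∧ C₁ ≠ C₃ ∧ C₂ ≠ C₃) ∧
    (∀ C₁ ∈ Cfsg.unipotentSubgroups A B, ∀ C₂ ∈ Cfsg.unipotentSubgroups A B, ∀ D₁ ∈ Cfsg.unipotentSubgroups A B,
      ∀ D₂ ∈ Cfsg.unipotentSubgroups A B, C₁ ≠ C₂ → D₁ ≠ D₂ →
        ∃ x ∈ A ⊔ B, Cfsg.conjBy C₁ x = D₁ ∧ Cfsg.conjBy C₂ x = D₂) ∧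
    (∀ C ∈ Cfsg.unipotentSubgroups A B, ∀ D ∈ Cfsg.unipotentSubgroups A B, C ≠ A → D ≠ A →
      ∃! a : G, a ∈ A ∧ Cfsg.conjBy C a = D) := by
  open CfsgLib.Perm.RankOne in
  refine ⟨?_, ?_, ?_⟩
  · obtain ⟨⟨a, ha⟩, ha1⟩ := right_ne_bot.exists_ne_one_of_ne_bot (left_ne_bot h)
    have hne : Cfsg.conjBy B a ≠ B := fun e => ha1 (Subtype.ext (eq_one_of_normalizes h ha e))
    refine ⟨A, self_mem_unipotent A B, B, right_mem_unipotent h, _,
      conjBy_mem_unipotent (right_mem_unipotent h) (le_sup_left (a := A) ha), h.ne, fun e => ?_, hne.symm⟩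
    exact h.ne (conjBy_inj ((conjBy_of_mem ha).trans e))
  · intro C₁ hC₁ C₂ hC₂ D₁ hD₁ D₂ hD₂ hC hD
    obtain ⟨x, hx, h1, h2⟩ := exists_conj_pair h hC₁ hC₂ hC
    obtain ⟨y, hy, h3, h4⟩ := exists_conj_pair h hD₁ hD₂ hD
    exact ⟨y * x⁻¹, mul_mem hy (inv_mem hx), by rw [← h1, conjBy_mul, conjBy_inv_conjBy, h3],
      by rw [← h2, conjBy_mul, conjBy_inv_conjBy, h4]⟩
  · intro C hC D hD hCA hDA
    rw [unipotentSubgroups_eq h] at hC hD
    obtain ⟨a, ha, rfl⟩ := hC.resolve_left hCA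
    obtain ⟨a', ha', rfl⟩ := hD.resolve_left hDA
    refine ⟨a' * a⁻¹, ⟨A.mul_mem ha' (A.inv_mem ha), by rw [← conjBy_mul, inv_mul_cancel_right]⟩,
      fun x ⟨hx, he⟩ => ?_⟩
    rw [← conjBy_mul] at he
    rw [eq_mul_inv_iff_mul_eq]
    exact eq_of_conj_eq h (A.mul_mem hx ha) ha' he

end Cfsg.Agent.S5014
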