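import Cfsg.Statements.S5017
import Cfsg.Agent.Lib.Perm.RankOne

set_option autoImplicit false
open Cfsg

namespace Cfsg.Agent.S5017

/-- Let X be a rank one group with unipotent subgroups A and B and N a normal subgroup of X. Then either X = N A or N lies in the centre of X. Consequently a perfect rank one group is quasisimple. -/
theorem result {X : Type*} [Group X] {A B : Subgroup X} (h : Cfsg.IsRankOneGroup X A B) :
    (∀ N : Subgroup X, N.Normal → N ⊔ A = ⊤ ∨ N ≤ Subgroup.center X) ∧
    (Group.IsPerfect X → Cfsg.IsQuasisimple X) := by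
  open CfsgLib.Perm.RankOne in
  obtain ⟨htop, hp⟩ := h
  have hall : ∀ x : X, x ∈ A ⊔ B := fun x => htop ▸ Subgroup.mem_top x
  have main : ∀ N : Subgroup X, N.Normal → N ⊔ A = ⊤ ∨ N ≤ Subgroup.center X := by
    intro N hN
    by_cases hfix : ∀ n ∈ N, ∀ C ∈ Cfsg.unipotentSubgroups A B, Cfsg.conjBy C n = C
    · right
      intro n hn
      rw [Subgroup.mem_center_iff]
      intro x
      exact (le_centralizer_of_fix hp (N := N)
        (fun m hm => ⟨hfix m hm A (self_mem_unipotent A B), hfix m hm B (right_mem_unipotent hp)⟩)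
        (fun m hm y _ => hN.conj_mem _ (N.inv_mem hm) y) n hn x (hall x)).symm
    left
    push Not at hfix
    obtain ⟨n, hn, C, hC, hCn⟩ := hfix
    have hC' := conjBy_mem_unipotent hC (hall n)
    obtain ⟨x, -, hx1, hx2⟩ := exists_conj_pair hp hC hC' (Ne.symm hCn)
    have hB : B = Cfsg.conjBy A (x⁻¹ * n * x) := by
      rw [conjBy_mul, hx1, conjBy_mul, ← hx2, conjBy_inv_conjBy]
    have hm : x⁻¹ * n * x ∈ N := by simpa using hN.conj_mem n hn x⁻¹
    rw [eq_top_iff, ← htop]
    refine sup_le le_sup_right fun b hb => ?_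
    rw [hB, mem_conjBy] at hb
    have hm' : x⁻¹ * n * x ∈ N ⊔ A := Subgroup.mem_sup_left hm
    have := mul_mem (mul_mem hm' (Subgroup.mem_sup_right (S := N) hb)) (inv_mem hm')
    simpa [mul_assoc] using this
  refine ⟨main, fun hperf => ⟨hperf, ?_⟩⟩
  haveI := hp.nilpotent_left
  have htopN : ∀ N : Subgroup X, N.Normal → N ⊔ A = ⊤ → N = ⊤ := by
    intro N hN hNA
    have hsurj : Function.Surjective ((QuotientGroup.mk' N).comp A.subtype) := by
      intro q
      obtain ⟨x, rfl⟩ := QuotientGroup.mk'_surjective N q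
      have hx : x ∈ N ⊔ A := hNA ▸ Subgroup.mem_top x
      obtain ⟨n, hn, a, ha, rfl⟩ := Subgroup.mem_sup_of_normal_left.mp hx
      exact ⟨⟨a, ha⟩, by simp [(QuotientGroup.eq_one_iff n).mpr hn]⟩
    haveI : Group.IsSolvable (X ⧸ N) := Group.isSolvable_of_surjective hsurj
    haveI : Group.IsPerfect (X ⧸ N) := Group.IsPerfect.ofSurjective (QuotientGroup.mk'_surjective N)
    by_contra hne
    haveI : Nontrivial (X ⧸ N) := QuotientGroup.nontrivial_iff.mpr hne
    exact Group.IsPerfect.not_isSolvable (X ⧸ N) inferInstance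
  have hcne : Subgroup.center X ≠ ⊤ := by
    intro hc
    obtain ⟨⟨a, ha⟩, ha1⟩ := right_ne_bot.exists_ne_one_of_ne_bot (left_ne_bot hp)
    exact ha1 (Subtype.ext (eq_one_of_normalizes hp ha (conjBy_of_comm fun b _ =>
      (Subgroup.mem_center_iff.mp (hc ▸ Subgroup.mem_top a) b).symm)))
  haveI : Nontrivial (X ⧸ Subgroup.center X) := QuotientGroup.nontrivial_iff.mpr hcne
  refine ⟨fun K hK => ?_⟩
  rcases main (K.comap (QuotientGroup.mk' _)) inferInstance with hK' | hK'
  · exact Or.inr ((Subgroup.comap_injective (QuotientGroup.mk'_surjective _))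
      ((htopN _ inferInstance hK').trans (Subgroup.comap_top _).symm))
  · left
    rw [eq_bot_iff]
    intro q hq
    obtain ⟨x, rfl⟩ := QuotientGroup.mk'_surjective _ q
    exact Subgroup.mem_bot.mpr ((QuotientGroup.eq_one_iff x).mpr (hK' hq))

end Cfsg.Agent.S5017
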