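import Cfsg.Statements.S5018
import Cfsg.Agent.Lib.Perm.RankOne

set_option autoImplicit false
open Cfsg

namespace Cfsg.Agent.S5018

/-- A rank one group is not nilpotent, and its second centre equals its centre. -/
theorem result {X : Type*} [Group X] {A B : Subgroup X} (h : Cfsg.IsRankOneGroup X A B) :
    Subgroup.upperCentralSeries X 2 = Subgroup.center X ∧ ¬ Group.IsNilpotent X := by
  open CfsgLib.Perm.RankOne in
  obtain ⟨htop, hp⟩ := h
  have hall : ∀ x : X, x ∈ A ⊔ B := fun x => htop ▸ Subgroup.mem_top x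
  have hZfix : ∀ w ∈ Subgroup.center X, ∀ C : Subgroup X, Cfsg.conjBy C w = C := fun w hw C =>
    conjBy_of_comm fun c _ => (Subgroup.mem_center_iff.mp hw c).symm
  set Z2 := Subgroup.upperCentralSeries X 2 with hZ2
  have hmem : ∀ z ∈ Z2, ∀ y : X, z * y * z⁻¹ * y⁻¹ ∈ Subgroup.center X := fun z hz y => by
    have := (Subgroup.mem_upperCentralSeries_succ_iff.mp hz) y
    rwa [Subgroup.upperCentralSeries_one] at this
  have key : ∀ {C D : Subgroup X}, Cfsg.IsRankOnePair C D → C ⊔ D = ⊤ →
      ∀ z ∈ Z2, Cfsg.conjBy C z = C := by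
    intro C D hCD hCD' z hz
    by_contra hne
    obtain ⟨⟨a, ha⟩, ha1⟩ := right_ne_bot.exists_ne_one_of_ne_bot (left_ne_bot hCD)
    obtain ⟨hp', -⟩ := pair_of_mem hCD (self_mem_unipotent C D)
      (conjBy_mem_unipotent (self_mem_unipotent C D) (hCD' ▸ Subgroup.mem_top z)) (Ne.symm hne)
    refine ha1 (Subtype.ext (eq_one_of_normalizes hp' ha ?_))
    have e : a * z = (a * z * a⁻¹ * z⁻¹) * (z * a) := by group
    have hc : (a * z * a⁻¹ * z⁻¹) ∈ Subgroup.center X := by
      have := Subgroup.inv_mem _ (hmem z hz a)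
      simpa [mul_assoc] using this
    rw [← conjBy_mul, e, conjBy_mul, hZfix _ hc, conjBy_mul, conjBy_of_mem ha]
  have hle : Z2 ≤ Subgroup.center X := by
    intro z hz
    rw [Subgroup.mem_center_iff]
    intro x
    exact (le_centralizer_of_fix hp (N := Z2)
      (fun m hm => ⟨key hp htop m hm,
        key (Cfsg.RankOnePair_symm hp) (sup_comm A B ▸ htop) m hm⟩)
      (fun m hm y _ => (inferInstance : Z2.Normal).conj_mem _ (Z2.inv_mem hm) y) z hz x (hall x)).symm
  have heq : Z2 = Subgroup.center X := le_antisymm hle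
    ((Subgroup.upperCentralSeries_one X).symm.le.trans (Subgroup.upperCentralSeries_mono X (by norm_num)))
  refine ⟨heq, fun hnil => ?_⟩
  obtain ⟨n, hn⟩ := hnil.nilpotent
  have hall' : ∀ m, Subgroup.upperCentralSeries X m ≤ Subgroup.center X := by
    intro m
    induction m with
    | zero => simp
    | succ m ih =>
      intro x hx
      rw [← heq, hZ2]
      refine Subgroup.mem_upperCentralSeries_succ_iff.mpr fun y => ?_
      rw [Subgroup.upperCentralSeries_one]
      exact ih (Subgroup.mem_upperCentralSeries_succ_iff.mp hx y)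
  obtain ⟨⟨a, ha⟩, ha1⟩ := right_ne_bot.exists_ne_one_of_ne_bot (left_ne_bot hp)
  exact ha1 (Subtype.ext (eq_one_of_normalizes hp ha (hZfix a (hall' n (hn ▸ Subgroup.mem_top a)) B)))

end Cfsg.Agent.S5018
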