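import Cfsg.Statements.S5022
import Cfsg.Agent.Lib.Perm.SpecialRankOne
import Cfsg.Agent.Lib.Perm.SL2Pres

set_option autoImplicit false
open Cfsg

namespace Cfsg.Agent.S5022

/-- Let X be a special rank one group with abelian unipotent subgroups A and B, where A is an elementary abelian p-group for the prime p. Then for every non-identity a in A and the non-identity b in B with b⁻¹ A b = a⁻¹ B a, the subgroup generated by a and b is isomorphic to SL₂(p) or to PSL₂(p). -/
theorem result {X : Type*} [Group X] {A B : Subgroup X} (h : Cfsg.IsRankOneGroup X A B)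
    (hs : Cfsg.IsSpecialRankOnePair A B) (hab : Cfsg.HasAbelianUnipotents A B)
    {p : ℕ} [Fact p.Prime] (hA : Cfsg.IsElementaryAbelian p A)
    {a b : X} (ha : a ∈ A) (ha1 : a ≠ 1) (hb : b ∈ B) (hb1 : b ≠ 1) (hab' : Cfsg.conjBy A b⁻¹ = Cfsg.conjBy B a⁻¹) :
    Nonempty (↥(Subgroup.closure ({a, b} : Set X)) ≃* Matrix.SpecialLinearGroup (Fin 2) (ZMod p)) ∨
    Nonempty (↥(Subgroup.closure ({a, b} : Set X)) ≃* Matrix.ProjectiveSpecialLinearGroup (Fin 2) (ZMod p)) := by
  open CfsgLib.Perm in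
  classical
  have hp := (Fact.out : p.Prime)
  have hR := h.2
  have hpow : ∀ {g : X}, g ^ p = 1 → ∀ u v : ZMod p, g ^ (u + v).val = g ^ u.val * g ^ v.val :=
    fun {g} hg u v => by
      rw [← pow_add, ZMod.val_add, ← pow_eq_pow_mod _ hg]
  obtain ⟨z, -, hBz⟩ := RankOne.right_mem_unipotent hR
  have hBp : ∀ g ∈ B, g ^ p = 1 := by
    intro g hg
    rw [hBz, RankOne.mem_conjBy] at hg
    have h1 := hA.2 _ hg
    have h2 := (map_pow (MulAut.conj z⁻¹) g p).symm
    simp only [MulAut.conj_apply, inv_inv] at h2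
    rw [h1] at h2
    calc g ^ p = z * (z⁻¹ * g ^ p * z) * z⁻¹ := by group
      _ = 1 := by rw [← h2]; group
  have hap : a ^ p = 1 := hA.2 a ha
  have hbp : b ^ p = 1 := hBp b hb
  have hne : ∀ u : ZMod p, u ≠ 0 → a ^ u.val ≠ 1 := fun u hu e => hu (by
    have hd := orderOf_dvd_of_pow_eq_one e
    rw [orderOf_eq_prime hap ha1] at hd
    rcases Nat.eq_zero_or_pos u.val with h0 | h0
    · exact (ZMod.val_eq_zero u).mp h0
    · exact absurd (Nat.le_of_dvd h0 hd) (not_le.mpr u.val_lt))
  let P : SL2Pres.Pair p X :=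
    { x := fun u => a ^ u.val
      y := fun v => b ^ v.val
      x_add := hpow hap
      y_add := hpow hbp
      braid := fun t ht => by
        obtain ⟨g, hg, hg1, hge⟩ := hR.cond_left (a ^ t.val) (A.pow_mem ha _) (hne t ht)
        have hgb : g ^ t.val = b :=
          SpecialRankOne.partner_pow t.val hs ⟨ha, ha1, hb, hb1, hab'⟩ (hne t ht)
            ⟨A.pow_mem ha _, hne t ht, hg, hg1, hge⟩
        have hgy : b ^ (-t⁻¹).val = g⁻¹ := by
          refine eq_inv_of_mul_eq_one_left ?_
          have e1 : b ^ (t⁻¹).val = g := by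
            rw [← hgb, ← pow_mul, pow_eq_pow_mod _ (hBp g hg), ← ZMod.val_natCast, Nat.cast_mul,
              ZMod.natCast_zmod_val, ZMod.natCast_zmod_val, mul_inv_cancel₀ ht, ZMod.val_one, pow_one]
          rw [← e1]
          rw [← hpow hbp, neg_add_cancel, ZMod.val_zero, pow_zero]
        rw [hgy]
        have hsp := hs.2 (a ^ t.val) (A.pow_mem ha _) (hne t ht) g hg hg1 hge
        set c := a ^ t.val
        calc c * g⁻¹ * c = c * (g⁻¹ * c * g) * g⁻¹ := by group
          _ = c * (c⁻¹ * g⁻¹ * c) * g⁻¹ := by rw [hsp]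
          _ = g⁻¹ * c * g⁻¹ := by group }
  have hx1 : P.x 1 ≠ 1 := hne 1 one_ne_zero
  obtain ⟨φ, hφx, hφy, hrange⟩ := SL2Pres.exists_hom P hx1
  have hxy : ∀ u v, P.x u = P.y v → P.x u = 1 := fun u v e =>
    RankOne.eq_one_of_normalizes hR (A.pow_mem ha _)
      (RankOne.conjBy_of_mem (e ▸ B.pow_mem hb _))
  have hfree : ∀ u v, MulAut.conj (P.x u) (P.y 1) = P.y v → u = 0 := by
    intro u v e
    by_contra hu
    apply hne u hu
    refine RankOne.eq_one_of_normalizes hR (A.pow_mem ha _) ?_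
    by_contra hne'
    obtain ⟨hpair, -⟩ := RankOne.pair_of_mem hR
      (RankOne.conjBy_mem_unipotent (RankOne.right_mem_unipotent hR) (le_sup_left (b := B) (A.pow_mem ha u.val)))
      (RankOne.right_mem_unipotent hR) hne'
    have hmem : MulAut.conj (P.x u) (P.y 1) ∈ Cfsg.conjBy B (a ^ u.val) :=
      RankOne.conjBy_conj_mem (B.pow_mem hb _)
    have h1 := RankOne.eq_one_of_normalizes hpair hmem (RankOne.conjBy_of_mem (e ▸ B.pow_mem hb _))
    exact SL2Pres.y_one_ne P hx1 ((MulAut.conj (P.x u)).injective (h1.trans (map_one _).symm))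
  have hker := SL2Pres.ker_le_center P hx1 hxy hfree φ hφx hφy
  have hcl : φ.range = Subgroup.closure ({a, b} : Set X) := by
    rw [hrange]
    refine le_antisymm ((Subgroup.closure_le _).mpr ?_) ((Subgroup.closure_le _).mpr ?_)
    · rintro _ (⟨u, rfl⟩ | ⟨u, rfl⟩)
      · exact pow_mem (Subgroup.subset_closure (by simp)) _
      · exact pow_mem (Subgroup.subset_closure (by simp)) _
    · rintro _ (rfl | rfl)
      · exact Subgroup.subset_closure (Or.inl ⟨1, by simp [P, ZMod.val_one]⟩)
      · exact Subgroup.subset_closure (Or.inr ⟨1, by simp [P, ZMod.val_one]⟩)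
  by_cases hbot : φ.ker = ⊥
  · exact Or.inl ⟨((MonoidHom.ofInjective ((MonoidHom.ker_eq_bot_iff φ).mp hbot)).trans
      (MulEquiv.subgroupCongr hcl)).symm⟩
  · have hcen : φ.ker = Subgroup.center _ := by
      refine le_antisymm hker fun g hg => ?_
      obtain ⟨k, hk, hk1⟩ := (Subgroup.bot_or_exists_ne_one φ.ker).resolve_left hbot
      obtain ⟨r, hr, hrk⟩ := Matrix.SpecialLinearGroup.mem_center_iff.mp (hker hk)
      obtain ⟨s, hs', hsg⟩ := Matrix.SpecialLinearGroup.mem_center_iff.mp hg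
      simp only [Fintype.card_fin] at hr hs'
      have hr1 : r ≠ 1 := fun e => hk1 (Subtype.ext (by rw [← hrk, e, map_one]; rfl))
      have hrm : r = -1 := (sq_eq_one_iff.mp hr).resolve_left hr1
      rcases sq_eq_one_iff.mp hs' with e | e
      · have : g = 1 := Subtype.ext (by rw [← hsg, e, map_one]; rfl)
        rw [this]; exact one_mem _
      · have : g = k := Subtype.ext (by rw [← hsg, ← hrk, e, hrm])
        rw [this]; exact hk
    exact Or.inr ⟨(((QuotientGroup.quotientMulEquivOfEq hcen.symm).trans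
      (QuotientGroup.quotientKerEquivRange φ)).trans (MulEquiv.subgroupCongr hcl)).symm⟩

end Cfsg.Agent.S5022
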