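import Cfsg.Statements.S5020
import Cfsg.Agent.Lib.Perm.RootQuasisimple
import Cfsg.Agent.Lib.Perm.RootSet
import Cfsg.Agent.S5022

set_option autoImplicit false
open Cfsg

namespace Cfsg.Agent.S5020

/-- Let X be a special rank one group with abelian unipotent subgroups A and B, and H = N(A) ∩ N(B) its diagonal subgroup. Then either A has at most three elements and X is isomorphic to SL₂(2), SL₂(3) or PSL₂(3); or X = X' A with the commutator subgroup X' quasisimple and the commutator subgroup ⁅A, H⁆ having more than three elements. -/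
theorem result {X : Type*} [Group X] {A B : Subgroup X} (h : Cfsg.IsRankOneGroup X A B)
    (hs : Cfsg.IsSpecialRankOnePair A B) (hab : Cfsg.HasAbelianUnipotents A B) :
    (ENat.card A ≤ 3 ∧ (Nonempty (X ≃* Matrix.SpecialLinearGroup (Fin 2) (ZMod 2)) ∨
        Nonempty (X ≃* Matrix.SpecialLinearGroup (Fin 2) (ZMod 3)) ∨
        Nonempty (X ≃* Matrix.ProjectiveSpecialLinearGroup (Fin 2) (ZMod 3)))) ∨
    (commutator X ⊔ A = ⊤ ∧ Cfsg.IsQuasisimple (commutator X) ∧
      3 < ENat.card ↥(⁅A, Cfsg.rankOneDiagonal A B⁆ : Subgroup X)) := by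
  open CfsgLib.Perm RootQuasisimple in
  classical
  have hz2 : ∀ r : ZMod 2, r ^ 2 = 1 → r = 1 := by decide
  obtain ⟨hA, hB⟩ := hab
  by_cases h3 : 3 < ENat.card A
  · refine Or.inr ?_
    have hTA := Torus.commutator_diag hs hA hB h3
    have hAle : A ≤ commutator X := by
      rw [← hTA, commutator_def]; exact Subgroup.commutator_mono le_top le_top
    have hperf : commutator X = ⊤ := by
      refine eq_top_iff.mpr (h.1 ▸ sup_le hAle ?_)
      obtain ⟨x, -, hx⟩ := RankOne.right_mem_unipotent h.2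
      intro b hb
      rw [hx, RankOne.mem_conjBy] at hb
      simpa [mul_assoc] using (inferInstance : (commutator X).Normal).conj_mem _ (hAle hb) x
    refine ⟨by rw [hperf, top_sup_eq], quasisimple_of hperf ?_ ?_, by rw [hTA]; exact h3⟩
    · intro e
      exact RankOne.not_commute_pair h.2 (RootSet.bot_of_commute fun a _ b _ =>
        (Subgroup.mem_center_iff.mp (e ▸ Subgroup.mem_top b) a))
    intro N hN hnc
    haveI := hN
    obtain ⟨n, hn, hmove⟩ : ∃ n ∈ N, ¬ (Cfsg.conjBy A n = A ∧ Cfsg.conjBy B n = B) := by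
      by_contra hall
      push Not at hall
      refine hnc fun n hn => Subgroup.mem_center_iff.mpr fun x => ?_
      exact (RankOne.le_centralizer_of_fix h.2 (N := (N : Set X)) hall
        (fun m hm y _ => hN.conj_mem _ (inv_mem hm) y) n hn x (h.1 ▸ Subgroup.mem_top x)).symm
    have key : ∀ M ∈ Cfsg.unipotentSubgroups A B, IsMulCommutative M →
        Cfsg.conjBy M n ≠ M → N = ⊤ := by
      intro M hM hMc hne
      obtain ⟨-, hsup⟩ := RankOne.pair_of_mem h.2 hM
        (RankOne.conjBy_mem_unipotent hM (h.1 ▸ Subgroup.mem_top n)) hne.symm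
      refine eq_top_iff.mpr (hperf ▸ commutator_le_of_image N hMc ?_)
      rw [← h.1, ← hsup, Subgroup.map_sup, sup_le_iff]
      refine ⟨le_rfl, ?_⟩
      rw [map_mk_conjBy, show QuotientGroup.mk' N n = 1 from (QuotientGroup.eq_one_iff n).mpr hn,
        RankOne.conjBy_one]
    by_cases hAn : Cfsg.conjBy A n = A
    · exact key B (RankOne.right_mem_unipotent h.2) hB fun e => hmove ⟨hAn, e⟩
    · exact key A (RankOne.self_mem_unipotent A B) hA hAn
  · refine Or.inl ⟨not_lt.mp h3, ?_⟩
    haveI : Finite A := ENat.card_lt_top.mp (lt_of_le_of_lt (not_lt.mp h3) (ENat.coe_lt_top 3))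
    have hcard : Nat.card A ≤ 3 := by
      have := not_lt.mp h3
      rw [ENat.card_eq_coe_natCard] at this
      exact_mod_cast this
    haveI : Nontrivial A := (Subgroup.nontrivial_iff_ne_bot A).mpr (RankOne.left_ne_bot h.2)
    have h1 : 1 < Nat.card A := Finite.one_lt_card
    set p := Nat.card A with hp
    haveI : Fact p.Prime := ⟨by rcases (show p = 2 ∨ p = 3 by omega) with e | e <;> rw [e] <;> decide⟩
    obtain ⟨⟨a, ha⟩, ha1⟩ := exists_ne (1 : A)
    have ha1 : a ≠ 1 := fun e => ha1 (Subtype.ext e)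
    have hAel : Cfsg.IsElementaryAbelian p A := ⟨hA, fun x hx =>
      congrArg Subtype.val (pow_card_eq_one' (x := (⟨x, hx⟩ : A)))⟩
    have hgen : ∀ {C : Subgroup X}, Nat.card C = p → ∀ {c : X}, c ∈ C → c ≠ 1 →
        C ≤ Subgroup.closure {c} := by
      intro C hC c hc hc1 x hx
      have := mem_zpowers_of_prime_card hC (g := (⟨c, hc⟩ : C))
        (g' := ⟨x, hx⟩) (fun e => hc1 (congrArg Subtype.val e))
      obtain ⟨k, hk⟩ := this
      rw [← Subgroup.zpowers_eq_closure]
      exact ⟨k, congrArg Subtype.val hk⟩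
    obtain ⟨b, hb, hb1, hbe⟩ := h.2.cond_left a ha ha1
    have hBcard : Nat.card B = p := by
      obtain ⟨x, -, hx⟩ := RankOne.right_mem_unipotent h.2
      rw [hx, Cfsg.conjBy, Subgroup.card_map_of_injective (MulAut.conj x).injective]
    have htop : Subgroup.closure ({a, b} : Set X) = ⊤ := by
      refine eq_top_iff.mpr (h.1 ▸ sup_le ((hgen rfl ha ha1).trans (Subgroup.closure_mono (by simp)))
        ((hgen hBcard hb hb1).trans (Subgroup.closure_mono (by simp))))
    have e : ↥(Subgroup.closure ({a, b} : Set X)) ≃* X := (MulEquiv.subgroupCongr htop).trans Subgroup.topEquiv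
    have key : ∀ {q : ℕ} [Fact q.Prime], Cfsg.IsElementaryAbelian q A →
        Nonempty (X ≃* Matrix.SpecialLinearGroup (Fin 2) (ZMod q)) ∨
          Nonempty (X ≃* Matrix.ProjectiveSpecialLinearGroup (Fin 2) (ZMod q)) := fun {q} _ hq =>
      (Cfsg.Agent.S5022.result h hs ⟨hA, hB⟩ hq ha ha1 hb hb1 hbe).imp
        (fun ⟨f⟩ => ⟨e.symm.trans f⟩) (fun ⟨f⟩ => ⟨e.symm.trans f⟩)
    rcases (show p = 2 ∨ p = 3 by omega) with e' | e' <;> rw [e'] at hAel
    · haveI : Fact (Nat.Prime 2) := ⟨Nat.prime_two⟩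
      refine Or.inl ((key hAel).elim id fun ⟨f⟩ => ?_)
      have hc : Subgroup.center (Matrix.SpecialLinearGroup (Fin 2) (ZMod 2)) = ⊥ := by
        rw [eq_bot_iff]
        intro g hg
        obtain ⟨r, hr, hrg⟩ := Matrix.SpecialLinearGroup.mem_center_iff.mp hg
        simp only [Fintype.card_fin] at hr
        have hr1 : r = 1 := hz2 r hr
        exact Subgroup.mem_bot.mpr (Subtype.ext (by rw [← hrg, hr1, map_one]; rfl))
      exact ⟨f.trans ((QuotientGroup.quotientMulEquivOfEq hc).trans QuotientGroup.quotientBot)⟩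
    · haveI : Fact (Nat.Prime 3) := ⟨Nat.prime_three⟩
      exact Or.inr (key hAel)

end Cfsg.Agent.S5020
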