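import Cfsg.Statements.S5026
import Cfsg.Agent.Lib.Perm.RankOne

set_option autoImplicit false
open Cfsg

namespace Cfsg.Agent.S5026

/-- Let S be a degenerate set of abstract root subgroups of G (a set of abstract transvection groups) and let a, b be commuting non-identity elements of members of S with a b ≠ 1. Then the members of S centralizing a b are exactly those centralizing both a and b. -/
theorem result {G : Type*} [Group G] {S : Set (Subgroup G)} (hS : Cfsg.IsRootSubgroupSet S) (hdeg : Cfsg.IsDegenerateRootSet S)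
    {a b : G} (ha : a ∈ Cfsg.rootElements S) (hb : b ∈ Cfsg.rootElements S) (hab : a * b = b * a) (hab1 : a * b ≠ 1) :
    Cfsg.centralizingMembers S (Subgroup.zpowers (a * b)) =
      Cfsg.centralizingMembers S (Subgroup.zpowers a) ∩ Cfsg.centralizingMembers S (Subgroup.zpowers b) := by
  open CfsgLib.Perm.RankOne in
  obtain ⟨ha1, A, hA, haA⟩ := ha
  obtain ⟨hb1, B, hB, hbB⟩ := hb
  have hC : ∀ C : Subgroup G, ∀ g : G, C ≤ Subgroup.centralizer (Subgroup.zpowers g : Set G) ↔
      ∀ c ∈ C, g * c = c * g := fun C g => by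
    constructor
    · intro h c hc
      exact Subgroup.mem_centralizer_iff.mp (h hc) g (Subgroup.mem_zpowers g)
    · intro h c hc
      rw [Subgroup.mem_centralizer_iff]
      intro x hx
      obtain ⟨n, rfl⟩ := Subgroup.mem_zpowers_iff.mp hx
      exact (Commute.zpow_left (h c hc) n).eq
  ext C
  simp only [Cfsg.centralizingMembers, Set.mem_inter_iff, Set.mem_ofPred_eq, hC]
  constructor
  · rintro ⟨hCS, hc⟩
    suffices ∀ c ∈ C, a * c = c * a by
      refine ⟨⟨hCS, this⟩, hCS, fun c hcC => ?_⟩
      have h1 := hc c hcC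
      rw [mul_assoc] at h1
      have h2 : c * (a * b) = a * (c * b) := by rw [← mul_assoc, ← this c hcC, mul_assoc]
      rw [h2] at h1
      exact mul_left_cancel h1
    rcases hS.pair A hA C hCS with h0 | h0 | h0
    · exact fun c hc' => commutes_of_bot h0 haA hc'
    · exfalso
      rcases hS.pair B hB C hCS with h1 | h1 | h1
      · refine ha1 (eq_one_of_normalizes h0 haA (conjBy_of_comm fun c hcC => ?_))
        have e1 := hc c hcC
        have e2 := commutes_of_bot h1 hbB hcC
        rw [mul_assoc, e2, ← mul_assoc, ← mul_assoc] at e1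
        exact mul_right_cancel e1
      · have hF : Cfsg.conjBy C b = Cfsg.conjBy C a⁻¹ := by
          have : Cfsg.conjBy C (a * b) = C := conjBy_of_comm fun c hcC => hc c hcC
          rw [conjBy_mul, conjBy_eq_iff] at this
          exact this
        obtain ⟨c, hcC, -, he⟩ := h0.cond_left a haA ha1
        obtain ⟨c', hc'C, -, he'⟩ := h1.cond_left b⁻¹ (B.inv_mem hbB) (by simpa using hb1)
        rw [inv_inv, hF] at he'
        have hBA : B = Cfsg.conjBy A (c' * c⁻¹) := by
          rw [conjBy_mul, he, ← he', conjBy_conjBy_inv]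
        by_cases hAB : A = B
        · subst hAB
          exact hab1 (eq_one_of_normalizes h0 (A.mul_mem haA hbB) (conjBy_of_comm fun c hcC => hc c hcC))
        · obtain ⟨hp, -⟩ := pair_of_mem h0 (self_mem_unipotent A C)
            ⟨_, le_sup_right (a := A) (C.mul_mem hc'C (C.inv_mem hcC)), hBA⟩ hAB
          by_cases hbA : Cfsg.conjBy A b = A
          · exact hb1 (eq_one_of_normalizes (Cfsg.RankOnePair_symm hp) hbB hbA)
          · obtain ⟨hp2, -⟩ := pair_of_mem hp (self_mem_unipotent A B)
              (conjBy_mem_unipotent (self_mem_unipotent A B) (le_sup_right (a := A) hbB)) (Ne.symm hbA)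
            refine ha1 (eq_one_of_normalizes hp2 haA (conjBy_of_mem ?_))
            rw [mem_conjBy, mul_assoc, hab, inv_mul_cancel_left]
            exact haA
      · exact hdeg B hB C hCS h1
    · exact absurd h0 (hdeg A hA C hCS)
  · rintro ⟨⟨hCS, h1⟩, -, h2⟩
    exact ⟨hCS, fun c hcC => by rw [mul_assoc, h2 c hcC, ← mul_assoc, h1 c hcC, mul_assoc]⟩

end Cfsg.Agent.S5026
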