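import Cfsg.Statements.S5027
import Cfsg.Agent.Lib.Perm.RankOne

set_option autoImplicit false
open Cfsg

namespace Cfsg.Agent.S5027

/-- Let S be a set of abstract root subgroups of G such that every member of S has a rank one partner in S (the graph of rank one pairs on S has no isolated vertex). Then the second centre of G equals its centre. -/
theorem result {G : Type*} [Group G] {S : Set (Subgroup G)} (hS : Cfsg.IsRootSubgroupSet S)
    (hF : ∀ A ∈ S, ¬ Cfsg.IsIsolatedIn (Cfsg.FAdj S) S A) : Subgroup.upperCentralSeries G 2 = Subgroup.center G := by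
  open CfsgLib.Perm.RankOne in
  refine le_antisymm (fun z hz => ?_)
    ((Subgroup.upperCentralSeries_one G).symm.le.trans (Subgroup.upperCentralSeries_mono G (by norm_num)))
  have hmem : ∀ y : G, z * y * z⁻¹ * y⁻¹ ∈ Subgroup.center G := fun y => by
    have := (Subgroup.mem_upperCentralSeries_succ_iff.mp hz) y
    rwa [Subgroup.upperCentralSeries_one] at this
  have hle : (⨆ A ∈ S, A) ≤ Subgroup.centralizer ({z} : Set G) := by
    refine iSup₂_le fun A hA a ha => ?_
    rw [Subgroup.mem_centralizer_singleton_iff]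
    by_contra hne
    have ha1 : a ≠ 1 := fun e => hne (by simp [e])
    obtain ⟨B, hB⟩ : ∃ B, Cfsg.FAdj S A B ∨ Cfsg.FAdj S B A := by
      have := hF A hA
      simp only [Cfsg.IsIsolatedIn, not_and, not_forall] at this
      obtain ⟨B, hB⟩ := this hA
      exact ⟨B, by by_cases h : Cfsg.FAdj S A B
                   · exact Or.inl h
                   · exact Or.inr (not_not.mp (hB h))⟩
    obtain ⟨hBS, hAB⟩ : B ∈ S ∧ Cfsg.IsRankOnePair A B := by
      rcases hB with ⟨-, h1, h2⟩ | ⟨h1, -, h2⟩
      · exact ⟨h1, h2⟩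
      · exact ⟨h1, Cfsg.RankOnePair_symm h2⟩
    have hw : z * a * z⁻¹ * a⁻¹ ≠ 1 := fun e => hne (by
      rw [mul_inv_eq_one, mul_inv_eq_iff_eq_mul] at e
      exact e.symm)
    refine mul_not_mem_root hS hA hBS hAB (z := z * a * z⁻¹ * a⁻¹) ?_ hw ha ha1 ⟨?_, ?_⟩
    · rw [Subgroup.mem_centralizer_iff]
      exact fun x _ => Subgroup.mem_center_iff.mp (hmem a) x
    · intro e
      rw [inv_mul_cancel_right, conj_eq_one_iff] at e
      exact ha1 e
    · exact ⟨Cfsg.conjBy A z, hS.conj_mem A hA z, by rw [inv_mul_cancel_right]; exact conjBy_conj_mem ha⟩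
  rw [hS.generates] at hle
  rw [Subgroup.mem_center_iff]
  exact fun g => Subgroup.mem_centralizer_singleton_iff.mp (hle (Subgroup.mem_top g))

end Cfsg.Agent.S5027
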