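import Cfsg.Statements.S5030
import Cfsg.Agent.Lib.Perm.RootPath

set_option autoImplicit false
open Cfsg
open scoped commutatorElement

namespace Cfsg.Agent.S5030

/-- Commutators of generated subgroups fall into a normalised subgroup when those of generators do. -/
theorem comm_le_of_gen {G : Type*} [Group G] {K : Subgroup G} {s t : Set G}
    (hs : Subgroup.closure s ≤ Subgroup.normalizer (K : Set G))
    (ht : Subgroup.closure t ≤ Subgroup.normalizer (K : Set G))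
    (h : ∀ x ∈ s, ∀ y ∈ t, ⁅x, y⁆ ∈ K) : ⁅Subgroup.closure s, Subgroup.closure t⁆ ≤ K := by
  have conjK : ∀ {g k : G}, g ∈ Subgroup.normalizer (K : Set G) → k ∈ K → g * k * g⁻¹ ∈ K :=
    fun {g k} hg hk => (Subgroup.mem_normalizer_iff.mp hg k).mp hk
  have conjK' : ∀ {g k : G}, g ∈ Subgroup.normalizer (K : Set G) → k ∈ K → g⁻¹ * k * g ∈ K :=
    fun {g k} hg hk => by simpa using conjK (inv_mem hg) hk
  have h1 : ∀ x ∈ s, ∀ y ∈ Subgroup.closure t, ⁅x, y⁆ ∈ K := by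
    intro x hx y hy
    induction hy using Subgroup.closure_induction with
    | mem y hy => exact h x hx y hy
    | one => simp
    | mul y z hy hz ihy ihz =>
      have : ⁅x, y * z⁆ = ⁅x, y⁆ * (y * ⁅x, z⁆ * y⁻¹) := by simp only [commutatorElement_def]; group
      rw [this]; exact K.mul_mem ihy (conjK (ht hy) ihz)
    | inv y hy ih =>
      have : ⁅x, y⁻¹⁆ = y⁻¹ * ⁅x, y⁆⁻¹ * y := by simp only [commutatorElement_def]; group
      rw [this]; exact conjK' (ht hy) (K.inv_mem ih)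
  rw [Subgroup.commutator_le]
  intro x hx y hy
  induction hx using Subgroup.closure_induction generalizing y with
  | mem x hx => exact h1 x hx y hy
  | one => simp
  | mul x z hx hz ihx ihz =>
    have : ⁅x * z, y⁆ = x * ⁅z, y⁆ * x⁻¹ * ⁅x, y⁆ := by simp only [commutatorElement_def]; group
    rw [this]; exact K.mul_mem (conjK (hs hx) (ihz y hy)) (ihx y hy)
  | inv x hx ih =>
    have : ⁅x⁻¹, y⁆ = x⁻¹ * ⁅x, y⁆⁻¹ * x := by simp only [commutatorElement_def]; group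
    rw [this]; exact conjK' (hs hx) (K.inv_mem (ih y hy))

/-- Let S be a set of abstract root subgroups of G and A, B, C ∈ S with ⁅A, B⁆ ∈ S and ⁅B, C⁆ ∈ S, where A and C are different and commute. For a non-identity b ∈ B put X = ⟨A, b⁻¹ C b⟩ and Y = ⟨b⁻¹ A b, C⟩ and R = ⟨A, B, C⟩. Then X and Y are either both abelian or both nilpotent of class exactly two; X and Y commute elementwise; XY is normal in R with R = (XY) B; and R is nilpotent. -/
theorem result {G : Type*} [Group G] {S : Set (Subgroup G)} (hS : Cfsg.IsRootSubgroupSet S)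
    {A B C : Subgroup G} (hA : A ∈ S) (hB : B ∈ S) (hC : C ∈ S) (hAB : ⁅A, B⁆ ∈ S) (hBC : ⁅B, C⁆ ∈ S)
    (hAC : C ∈ Cfsg.commutingPartners S A)
    {b : G} (hb : b ∈ B) (hb1 : b ≠ 1) :
    ((IsMulCommutative ↥(A ⊔ Cfsg.conjBy C b⁻¹) ∧ IsMulCommutative ↥(Cfsg.conjBy A b⁻¹ ⊔ C)) ∨
      ((¬ IsMulCommutative ↥(A ⊔ Cfsg.conjBy C b⁻¹) ∧
          ⁅⁅A ⊔ Cfsg.conjBy C b⁻¹, A ⊔ Cfsg.conjBy C b⁻¹⁆, A ⊔ Cfsg.conjBy C b⁻¹⁆ = ⊥) ∧
        (¬ IsMulCommutative ↥(Cfsg.conjBy A b⁻¹ ⊔ C) ∧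
          ⁅⁅Cfsg.conjBy A b⁻¹ ⊔ C, Cfsg.conjBy A b⁻¹ ⊔ C⁆, Cfsg.conjBy A b⁻¹ ⊔ C⁆ = ⊥))) ∧
    ⁅A ⊔ Cfsg.conjBy C b⁻¹, Cfsg.conjBy A b⁻¹ ⊔ C⁆ = ⊥ ∧
    (∀ r ∈ A ⊔ B ⊔ C, Cfsg.conjBy ((A ⊔ Cfsg.conjBy C b⁻¹) ⊔ (Cfsg.conjBy A b⁻¹ ⊔ C)) r =
      (A ⊔ Cfsg.conjBy C b⁻¹) ⊔ (Cfsg.conjBy A b⁻¹ ⊔ C)) ∧
    ((A ⊔ Cfsg.conjBy C b⁻¹) ⊔ (Cfsg.conjBy A b⁻¹ ⊔ C)) ⊔ B = A ⊔ B ⊔ C ∧
    Group.IsNilpotent ↥(A ⊔ B ⊔ C) := by
  open CfsgLib.Perm RankOne RootSet RootLine RootPath in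
  obtain ⟨-, hCA, hACb⟩ := hAC
  have c1 : Cfsg.RootCommutatorCase S A B := commCase_of_mem hS hA hB hAB
  have c2 : Cfsg.RootCommutatorCase S B C := commCase_of_mem hS hB hC hBC
  set D := ⁅A, B⁆ with hD
  set E := ⁅B, C⁆ with hE
  have hAD : ⁅A, D⁆ = ⊥ := bot_left_of_case c1
  have hBD : ⁅B, D⁆ = ⊥ := bot_right_of_case c1
  have hBE : ⁅B, E⁆ = ⊥ := bot_left_of_case c2
  have hCE : ⁅C, E⁆ = ⊥ := bot_right_of_case c2
  have habel : ∀ {W : Subgroup G}, W ∈ S → ⁅W, W⁆ = ⊥ := fun {W} hW =>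
    bot_of_commute fun x hx y hy => congrArg Subtype.val ((hS.commutative W hW).1.comm (⟨x, hx⟩ : W) ⟨y, hy⟩)
  set A' := Cfsg.conjBy A b⁻¹ with hA'
  set C' := Cfsg.conjBy C b⁻¹ with hC'
  have hA'le : A' ≤ A ⊔ D := by
    rintro _ ⟨a, ha, rfl⟩
    simp only [MulEquiv.coe_toMonoidHom, MulAut.conj_apply]
    rw [conj_eq_comm_mul]
    refine mul_mem (Subgroup.mem_sup_right ?_) (Subgroup.mem_sup_left ha)
    rw [hD, Subgroup.commutator_comm]
    exact Subgroup.commutator_mem_commutator (B.inv_mem hb) ha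
  have hC'le : C' ≤ C ⊔ E := by
    rintro _ ⟨c, hc, rfl⟩
    simp only [MulEquiv.coe_toMonoidHom, MulAut.conj_apply]
    rw [conj_eq_comm_mul]
    exact mul_mem (Subgroup.mem_sup_right (Subgroup.commutator_mem_commutator (B.inv_mem hb) hc))
      (Subgroup.mem_sup_left hc)
  have hDle : D ≤ A ⊔ A' := by
    rw [hD, ← c1.2.2.2 b⁻¹ (B.inv_mem hb) (inv_ne_one.mpr hb1), Subgroup.closure_le]
    rintro _ ⟨a, ha, rfl⟩
    simp only [SetLike.mem_coe, inv_inv]
    rw [show a * b⁻¹ * a⁻¹ * b = a * (b⁻¹ * a⁻¹ * b) by group]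
    exact mul_mem (Subgroup.mem_sup_left ha) (Subgroup.mem_sup_right (by
      rw [hA', mem_conjBy]; simpa [mul_assoc] using ha))
  have hEle : E ≤ C ⊔ C' := by
    rw [hE, ← c2.2.2.1 b⁻¹ (B.inv_mem hb) (inv_ne_one.mpr hb1), Subgroup.closure_le]
    rintro _ ⟨c, hc, rfl⟩
    simp only [SetLike.mem_coe]
    exact mul_mem (Subgroup.mem_sup_right (conjBy_conj_mem hc)) (inv_mem (Subgroup.mem_sup_left hc))
  have hcent : ∀ {P Q R : Subgroup G}, ⁅P, R⁆ = ⊥ → ⁅Q, R⁆ = ⊥ → ⁅P ⊔ Q, R⁆ = ⊥ := fun h1 h2 =>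
    Subgroup.commutator_eq_bot_iff_le_centralizer.mpr (sup_le (le_centralizer_of_bot h1) (le_centralizer_of_bot h2))
  have hmono : ∀ {P Q R : Subgroup G}, P ≤ Q → ⁅Q, R⁆ = ⊥ → ⁅P, R⁆ = ⊥ := fun h1 h2 =>
    le_bot_iff.mp (h2 ▸ Subgroup.commutator_mono h1 le_rfl)
  have hA'A : ⁅A', A⁆ = ⊥ := hmono hA'le (hcent (habel hA) (bot_symm hAD))
  have hC'C : ⁅C', C⁆ = ⊥ := hmono hC'le (hcent (habel hC) (bot_symm hCE))
  have hA'C' : ⁅A', C'⁆ = ⊥ := conj_comm_bot hACb b⁻¹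
  set X := A ⊔ C' with hX
  set Y := A' ⊔ C with hY
  have hXY : ⁅X, Y⁆ = ⊥ :=
    hcent (bot_symm (hcent hA'A (bot_symm hACb))) (bot_symm (hcent hA'C' (bot_symm hC'C)))
  have hA'S : A' ∈ S := hS.conj_mem A hA _
  have hC'S : C' ∈ S := hS.conj_mem C hC _
  -- `A`, `C'` and `A'`, `C` are no rank one pairs
  have hnp : ∀ {P Q M : Subgroup G}, P ∈ S → Q ∈ S → M ∈ S → ⁅P, Q⁆ = ⊥ → ⁅B, Q⁆ = M → Q ≤ Q →
      Cfsg.RootCommutatorCase S B Q → ¬ Cfsg.IsRankOnePair P (Cfsg.conjBy Q b⁻¹) := by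
    intro P Q M hP hQ _ hPQ _ _ hBQ hp
    obtain ⟨q, hq, hne⟩ : ∃ q ∈ Q, ⁅b⁻¹, q⁆ ≠ 1 := by
      by_contra hall
      push Not at hall
      exact inv_ne_one.mpr hb1 (eq_one_of_commute hS hBQ (B.inv_mem hb) fun q hq =>
        commutatorElement_eq_one_iff_mul_comm.mp (hall q hq))
    have hq1 : q ≠ 1 := fun e => hne (by simp [e])
    have hBQc : ∀ y ∈ Q, ∀ x ∈ Cfsg.conjBy Q b⁻¹, y * x = x * y := fun y hy x hx =>
      (commutatorCase_conj hBQ (hS.commutative Q hQ) (B.inv_mem hb) hy hx).symm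
    refine mul_not_mem_root hS (hS.conj_mem Q hQ b⁻¹) hP (Cfsg.RankOnePair_symm hp) (z := q⁻¹)
      ?_ (inv_ne_one.mpr hq1) (a := b⁻¹ * q * b⁻¹⁻¹) (conjBy_conj_mem hq)
      (by rw [ne_eq, conj_eq_one_iff]; exact hq1)
      ⟨?_, ⁅B, Q⁆, hBQ.1, ?_⟩
    · refine (Subgroup.le_centralizer_iff.mp (sup_le ?_ (le_centralizer_of_bot hPQ))) (Q.inv_mem hq)
      exact fun x hx => Subgroup.mem_centralizer_iff.mpr fun y hy => hBQc y hy x hx
    · rw [conj_eq_comm_mul]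
      intro e
      apply hne
      have hc : Commute ⁅b⁻¹, q⁆ q :=
        hBQ.2.1 _ (Subgroup.commutator_mem_commutator (B.inv_mem hb) hq) q (Subgroup.mem_sup_right hq)
      rwa [hc.eq, inv_mul_cancel_left] at e
    · have hc : Commute ⁅b⁻¹, q⁆ q :=
        hBQ.2.1 _ (Subgroup.commutator_mem_commutator (B.inv_mem hb) hq) q (Subgroup.mem_sup_right hq)
      rw [conj_eq_comm_mul, hc.eq, inv_mul_cancel_left]
      exact Subgroup.commutator_mem_commutator (B.inv_mem hb) hq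
  have hXpair : ¬ Cfsg.IsRankOnePair A C' := hnp hA hC hBC hACb rfl le_rfl c2
  have hYpair : ¬ Cfsg.IsRankOnePair C A' :=
    hnp hC hA (commCase_swap c1).1 (bot_symm hACb) rfl le_rfl (commCase_swap c1)
  -- the commutator subgroups are central
  have hZX : ∀ {P Q : Subgroup G}, P ∈ S → Q ∈ S → ¬ Cfsg.IsRankOnePair P Q →
      ⁅P ⊔ Q, ⁅P, Q⁆⁆ = ⊥ := by
    intro P Q hP hQ hn
    rcases hS.pair P hP Q hQ with h | h | h
    · rw [h, Subgroup.commutator_bot_right]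
    · exact absurd h hn
    · exact hcent (bot_left_of_case h) (bot_right_of_case h)
  have hnormc : ∀ {P Q : Subgroup G}, ⁅P, Q⁆ = ⊥ → P ≤ Subgroup.normalizer (Q : Set G) :=
    fun h => (le_centralizer_of_bot h).trans (Subgroup.centralizer_le_normalizer _)
  have hderived : ∀ {P Q : Subgroup G}, P ∈ S → Q ∈ S → ⁅P ⊔ Q, ⁅P, Q⁆⁆ = ⊥ →
      ⁅P ⊔ Q, P ⊔ Q⁆ ≤ ⁅P, Q⁆ := by
    intro P Q hP hQ hc
    have hn : Subgroup.closure ((P : Set G) ∪ Q) ≤ Subgroup.normalizer ((⁅P, Q⁆ : Subgroup G) : Set G) := by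
      rw [Subgroup.closure_union, Subgroup.closure_eq, Subgroup.closure_eq]; exact hnormc hc
    have := comm_le_of_gen hn hn (s := (P : Set G) ∪ Q) (t := (P : Set G) ∪ Q) ?_
    · rwa [Subgroup.closure_union, Subgroup.closure_eq, Subgroup.closure_eq] at this
    rintro x (hx | hx) y (hy | hy)
    · rw [commutatorElement_eq_one_iff_mul_comm.mpr (commutes_of_bot (habel hP) hx hy)]; exact one_mem _
    · exact Subgroup.commutator_mem_commutator hx hy
    · rw [Subgroup.commutator_comm]; exact Subgroup.commutator_mem_commutator hx hy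
    · rw [commutatorElement_eq_one_iff_mul_comm.mpr (commutes_of_bot (habel hQ) hx hy)]; exact one_mem _
  have hXc := hZX hA hC'S hXpair
  have hYc := hZX hA'S hC (fun h => hYpair (Cfsg.RankOnePair_symm h))
  have hXd := hderived hA hC'S hXc
  have hYd := hderived hA'S hC hYc
  have hab : ∀ {P Q : Subgroup G}, IsMulCommutative ↥(P ⊔ Q) → ⁅P, Q⁆ = ⊥ := fun {P Q} h =>
    bot_of_commute fun x hx y hy => congrArg Subtype.val
      (h.1.comm (⟨x, Subgroup.mem_sup_left hx⟩ : ↥(P ⊔ Q)) ⟨y, Subgroup.mem_sup_right hy⟩)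
  have hab' : ∀ {P Q : Subgroup G}, P ∈ S → Q ∈ S → ⁅P, Q⁆ = ⊥ → IsMulCommutative ↥(P ⊔ Q) :=
    fun {P Q} hP hQ h => by
      have h2 : ⁅P ⊔ Q, P ⊔ Q⁆ = ⊥ :=
        hcent (bot_symm (hcent (habel hP) (bot_symm h))) (bot_symm (hcent h (habel hQ)))
      exact ⟨⟨fun x y => Subtype.ext (commutes_of_bot h2 x.2 y.2)⟩⟩
  -- `⁅A, C'⁆ = ⊥` iff `⁅A, E⁆ = ⊥` iff `⁅C, D⁆ = ⊥` iff `⁅A', C⁆ = ⊥`
  have hiff : ⁅A, C'⁆ = ⊥ ↔ ⁅A', C⁆ = ⊥ := by
    have t1 : ⁅A, E⁆ = ⊥ → ⁅D, C⁆ = ⊥ := fun h => Subgroup.commutator_commutator_eq_bot_of_rotate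
      (H₁ := A) (H₂ := B) (H₃ := C) (by rw [← hE]; exact bot_symm h)
      (by rw [bot_symm hACb, Subgroup.commutator_bot_left])
    have t2 : ⁅C, D⁆ = ⊥ → ⁅E, A⁆ = ⊥ := fun h => Subgroup.commutator_commutator_eq_bot_of_rotate
      (H₁ := B) (H₂ := C) (H₃ := A) (by rw [bot_symm hACb, Subgroup.commutator_bot_left])
      (by rw [← hD]; exact bot_symm h)
    constructor
    · intro h
      have hAE : ⁅A, E⁆ = ⊥ := bot_symm (hmono hEle (hcent (bot_symm hACb) (bot_symm h)))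
      exact hmono hA'le (hcent hACb (t1 hAE))
    · intro h
      have hDC : ⁅D, C⁆ = ⊥ := hmono hDle (hcent hACb h)
      exact bot_symm (hmono hC'le (hcent (bot_symm hACb) (t2 (bot_symm hDC))))
  set N := X ⊔ Y with hN
  have hAN : A ≤ N := le_sup_left.trans (le_sup_left (b := Y))
  have hC'N : C' ≤ N := le_sup_right.trans (le_sup_left (b := Y))
  have hA'N : A' ≤ N := le_sup_left.trans (le_sup_right (a := X))
  have hCN : C ≤ N := le_sup_right.trans (le_sup_right (a := X))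
  have hDN : D ≤ N := hDle.trans (sup_le hAN hA'N)
  have hEN : E ≤ N := hEle.trans (sup_le hCN hC'N)
  set R := A ⊔ B ⊔ C with hR
  have hAR : A ≤ R := le_sup_left.trans le_sup_left
  have hBR : B ≤ R := le_sup_right.trans le_sup_left
  have hCR : C ≤ R := le_sup_right
  have hconjR : ∀ {W : Subgroup G}, W ≤ R → Cfsg.conjBy W b⁻¹ ≤ R := by
    rintro W hW _ ⟨w, hw, rfl⟩
    exact mul_mem (mul_mem (inv_mem (hBR hb)) (hW hw)) (inv_mem (inv_mem (hBR hb)))
  have hNR : N ≤ R :=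
    sup_le (sup_le hAR (hconjR hCR)) (sup_le (hconjR hAR) hCR)
  have hNgen : N = Subgroup.closure ((A : Set G) ∪ C ∪ D ∪ E) := by
    simp only [Subgroup.closure_union, Subgroup.closure_eq]
    refine le_antisymm (sup_le (sup_le ?_ ?_) (sup_le ?_ ?_))
      (sup_le (sup_le (sup_le hAN hCN) hDN) hEN)
    · exact le_sup_left.trans (le_sup_left.trans le_sup_left)
    · exact hC'le.trans (sup_le (le_sup_right.trans (le_sup_left.trans le_sup_left)) le_sup_right)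
    · exact hA'le.trans (sup_le (le_sup_left.trans (le_sup_left.trans le_sup_left))
        (le_sup_right.trans le_sup_left))
    · exact le_sup_right.trans (le_sup_left.trans le_sup_left)
  have hRgen : R = Subgroup.closure ((A : Set G) ∪ B ∪ C) := by
    simp only [Subgroup.closure_union, Subgroup.closure_eq, hR]
  -- `⁅N, N⁆` is central in `N`
  set Z := ⁅A, C'⁆ ⊔ ⁅A', C⁆ with hZ
  have hNZ : ⁅N, Z⁆ = ⊥ := by
    refine bot_symm (hcent ?_ ?_)
    · refine bot_symm (hcent hXc ?_)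
      exact bot_symm (hmono (Subgroup.commutator_le.mpr fun x hx y hy => by
        rw [commutatorElement_def]
        exact X.mul_mem (X.mul_mem (X.mul_mem (Subgroup.mem_sup_left hx) (Subgroup.mem_sup_right hy))
          (X.inv_mem (Subgroup.mem_sup_left hx))) (X.inv_mem (Subgroup.mem_sup_right hy))) hXY)
    · refine bot_symm (hcent ?_ hYc)
      exact bot_symm (hmono (Subgroup.commutator_le.mpr fun x hx y hy => by
        rw [commutatorElement_def]
        exact Y.mul_mem (Y.mul_mem (Y.mul_mem (Subgroup.mem_sup_left hx) (Subgroup.mem_sup_right hy))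
          (Y.inv_mem (Subgroup.mem_sup_left hx))) (Y.inv_mem (Subgroup.mem_sup_right hy))) (bot_symm hXY))
  have hNN : ⁅N, N⁆ ≤ Z := by
    have hn : Subgroup.closure ((X : Set G) ∪ Y) ≤ Subgroup.normalizer (Z : Set G) := by
      rw [Subgroup.closure_union, Subgroup.closure_eq, Subgroup.closure_eq]; exact hnormc hNZ
    have := comm_le_of_gen hn hn (s := (X : Set G) ∪ Y) (t := (X : Set G) ∪ Y) ?_
    · rwa [Subgroup.closure_union, Subgroup.closure_eq, Subgroup.closure_eq] at this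
    rintro x (hx | hx) y (hy | hy)
    · exact le_sup_left (b := ⁅A', C⁆) (hXd (Subgroup.commutator_mem_commutator hx hy))
    · rw [commutatorElement_eq_one_iff_mul_comm.mpr (commutes_of_bot hXY hx hy)]; exact one_mem _
    · rw [commutatorElement_eq_one_iff_mul_comm.mpr (commutes_of_bot hXY hy hx).symm]; exact one_mem _
    · exact le_sup_right (a := ⁅A, C'⁆) (hYd (Subgroup.commutator_mem_commutator hx hy))
  -- the central series
  have hstep : ∀ {K L : Subgroup G}, L ≤ K → ⁅K, R⁆ ≤ L → R ≤ Subgroup.normalizer (K : Set G) := by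
    intro K L hLK h r hr
    have key : ∀ r ∈ R, ∀ k ∈ K, r * k * r⁻¹ ∈ K := fun r hr k hk => by
      rw [conj_eq_comm_mul]
      refine K.mul_mem (hLK (h ?_)) hk
      rw [Subgroup.commutator_comm]
      exact Subgroup.commutator_mem_commutator hr hk
    rw [Subgroup.mem_normalizer_iff]
    exact fun k => ⟨key r hr k, fun hk => by simpa [mul_assoc] using key r⁻¹ (R.inv_mem hr) _ hk⟩
  set K1 := ⁅D, E⁆ with hK1
  set K2 := ⁅A, E⁆ ⊔ ⁅C, D⁆ ⊔ K1 with hK2
  set K3 := K2 ⊔ D ⊔ E with hK3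
  have hK1N : K1 ≤ ⁅N, N⁆ := Subgroup.commutator_mono hDN hEN
  have hK2N : K2 ≤ ⁅N, N⁆ :=
    sup_le (sup_le (Subgroup.commutator_mono hAN hEN) (Subgroup.commutator_mono hCN hDN)) hK1N
  have hcN : ∀ {W : Subgroup G}, W ≤ ⁅N, N⁆ → ⁅N, W⁆ = ⊥ := fun h =>
    le_bot_iff.mp (hNZ ▸ Subgroup.commutator_mono le_rfl (h.trans hNN))
  have hBK1 : ⁅B, K1⁆ = ⊥ := commute_comm_of_bot hBD hBE
  have hK1R : ⁅K1, R⁆ = ⊥ := bot_symm (hcent
    (hcent (hmono hAN (hcN hK1N)) hBK1) (hmono hCN (hcN hK1N)))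
  have hRK1 : R ≤ Subgroup.normalizer (K1 : Set G) := hnormc (bot_symm hK1R)
  have hone : ∀ {P Q K : Subgroup G}, ⁅P, Q⁆ = ⊥ → ∀ x ∈ P, ∀ y ∈ Q, ⁅x, y⁆ ∈ K := fun {P Q K} h x hx y hy => by
    rw [commutatorElement_eq_one_iff_mul_comm.mpr (commutes_of_bot h hx hy)]; exact one_mem _
  have hsw : ∀ {K : Subgroup G} {x y : G}, ⁅x, y⁆ ∈ K → ⁅y, x⁆ ∈ K := fun {K x y} h => by
    rw [← commutatorElement_inv]; exact K.inv_mem h
  have hK2gen : K2 = Subgroup.closure (((⁅A, E⁆ : Subgroup G) : Set G) ∪ (⁅C, D⁆ : Subgroup G) ∪ K1) := by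
    simp only [Subgroup.closure_union, Subgroup.closure_eq, hK2]
  have hK1K2 : K1 ≤ K2 := le_sup_right
  have hnK : ∀ {W : Subgroup G}, W ≤ R → W ≤ Subgroup.normalizer (K1 : Set G) := fun h => h.trans hRK1
  have hK2R : ⁅K2, R⁆ ≤ K1 := by
    -- the commutators of `⁅A, E⁆` and `⁅C, D⁆` with `B`
    have hB1 : ∀ {P Q M : Subgroup G}, P ≤ R → Q ≤ R → (∀ p ∈ P, ∀ z ∈ B, ⁅z, p⁆ ∈ M) →
        (∀ m ∈ M, ∀ q ∈ Q, ⁅m, q⁆ ∈ K1) → ⁅B, Q⁆ = ⊥ → ⁅N, ⁅P, Q⁆⁆ = ⊥ → P ≤ N → Q ≤ N → M ≤ N →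
        ∀ z ∈ B, ∀ w ∈ ⁅P, Q⁆, ⁅w, z⁆ ∈ K1 := by
      intro P Q M hP hQ hPM hMQ hBQ hNc hPN hQN hMN z hz w hw
      have hle : ⁅P, Q⁆ ≤ R := Subgroup.commutator_le.mpr fun x hx y hy => by
        rw [commutatorElement_def]
        exact R.mul_mem (R.mul_mem (R.mul_mem (hP hx) (hQ hy)) (R.inv_mem (hP hx))) (R.inv_mem (hQ hy))
      have key := comm_le_of_gen (K := K1) (s := {x | ∃ p ∈ P, ∃ q ∈ Q, ⁅p, q⁆ = x}) (t := (B : Set G))
        ((Subgroup.closure_le _).mpr ?_) (by rw [Subgroup.closure_eq]; exact hnK hBR) ?_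
      · rw [Subgroup.closure_eq] at key
        exact key (Subgroup.commutator_mem_commutator hw hz)
      · rintro _ ⟨p, hp, q, hq, rfl⟩
        exact hnK hle (Subgroup.commutator_mem_commutator hp hq)
      · rintro _ ⟨p, hp, q, hq, rfl⟩ y hy
        apply hsw
        have hyq : y * q * y⁻¹ = q := by rw [commutes_of_bot hBQ hy hq, mul_inv_cancel_right]
        have hm : ⁅y, p⁆ ∈ N := hMN (hPM p hp y hy)
        have e : y * ⁅p, q⁆ * y⁻¹ = ⁅p, q⁆ * ⁅⁅y, p⁆, q⁆ := by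
          have h1 : y * ⁅p, q⁆ * y⁻¹ = ⁅⁅y, p⁆ * p, q⁆ := by
            rw [← conj_eq_comm_mul]
            conv_rhs => rw [← hyq]
            simp only [commutatorElement_def]; group
          have h2 : Commute ⁅y, p⁆ ⁅p, q⁆ :=
            commutes_of_bot hNc hm (Subgroup.commutator_mem_commutator hp hq)
          calc y * ⁅p, q⁆ * y⁻¹ = ⁅y, p⁆ * ⁅p, q⁆ * ⁅y, p⁆⁻¹ * ⁅⁅y, p⁆, q⁆ := by
                rw [h1]; simp only [commutatorElement_def]; group
            _ = _ := by rw [h2.eq, mul_inv_cancel_right]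
        rw [commutatorElement_def y ⁅p, q⁆, e]
        have hk := hMQ _ (hPM p hp y hy) q hq
        have h3 : Commute ⁅p, q⁆ ⁅⁅y, p⁆, q⁆ :=
          (commutes_of_bot hK1R hk (hle (Subgroup.commutator_mem_commutator hp hq))).symm
        rw [h3.eq, mul_inv_cancel_right]
        exact hk
    rw [hK2gen, hRgen]
    refine comm_le_of_gen ?_ ?_ ?_
    · rw [← hK2gen]; exact hnK (hK2N.trans (Subgroup.commutator_le.mpr fun x hx y hy => by
        rw [commutatorElement_def]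
        exact R.mul_mem (R.mul_mem (R.mul_mem (hNR hx) (hNR hy)) (R.inv_mem (hNR hx))) (R.inv_mem (hNR hy))))
    · rw [← hRgen]; exact hnK le_rfl
    rintro x hx y hy
    have hxN : ∀ z ∈ N, ⁅x, z⁆ ∈ K1 := fun z hz =>
      hone (bot_symm (hcN hK2N)) x (hK2gen ▸ Subgroup.subset_closure hx) z hz
    rcases hy with (hy | hy) | hy
    · exact hxN y (hAN hy)
    swap
    · exact hxN y (hCN hy)
    rcases hx with (hx | hx) | hx
    · exact hB1 (P := A) (Q := E) (M := D) hAR (hEN.trans hNR)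
        (fun p hp z hz => by rw [hD, Subgroup.commutator_comm]; exact Subgroup.commutator_mem_commutator hz hp)
        (fun m hm q hq => Subgroup.commutator_mem_commutator hm hq) hBE
        (hcN (Subgroup.commutator_mono hAN hEN)) hAN hEN hDN y hy x hx
    · exact hB1 (P := C) (Q := D) (M := E) hCR (hDN.trans hNR)
        (fun p hp z hz => Subgroup.commutator_mem_commutator hz hp)
        (fun m hm q hq => hsw (Subgroup.commutator_mem_commutator hq hm)) hBD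
        (hcN (Subgroup.commutator_mono hCN hDN)) hCN hDN hEN y hy x hx
    · exact hone hK1R x hx y (hBR hy)
  have hRK2 : R ≤ Subgroup.normalizer (K2 : Set G) := hstep hK1K2 hK2R
  have hK2R' : K2 ≤ R := hK2N.trans (Subgroup.commutator_le.mpr fun x hx y hy => by
    rw [commutatorElement_def]
    exact R.mul_mem (R.mul_mem (R.mul_mem (hNR hx) (hNR hy)) (R.inv_mem (hNR hx))) (R.inv_mem (hNR hy)))
  have hK3gen : K3 = Subgroup.closure ((K2 : Set G) ∪ D ∪ E) := by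
    simp only [Subgroup.closure_union, Subgroup.closure_eq, hK3]
  have hK3R : ⁅K3, R⁆ ≤ K2 := by
    rw [hK3gen, hRgen]
    refine comm_le_of_gen ?_ ?_ ?_
    · rw [← hK3gen]; exact (sup_le (sup_le hK2R' (hDN.trans hNR)) (hEN.trans hNR)).trans hRK2
    · rw [← hRgen]; exact hRK2
    rintro x hx y hy
    rcases hx with (hx | hx) | hx
    · exact hK1K2 (hK2R (Subgroup.commutator_mem_commutator hx (hRgen ▸ Subgroup.subset_closure hy)))
    · rcases hy with (hy | hy) | hy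
      · exact hone (bot_symm hAD) x hx y hy
      · exact hone (bot_symm hBD) x hx y hy
      · exact hsw (Subgroup.mem_sup_left (Subgroup.mem_sup_right (Subgroup.commutator_mem_commutator hy hx)))
    · rcases hy with (hy | hy) | hy
      · exact hsw (Subgroup.mem_sup_left (Subgroup.mem_sup_left (Subgroup.commutator_mem_commutator hy hx)))
      · exact hone (bot_symm hBE) x hx y hy
      · exact hone (bot_symm hCE) x hx y hy
  have hK2K3 : K2 ≤ K3 := le_sup_left.trans le_sup_left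
  have hRK3 : R ≤ Subgroup.normalizer (K3 : Set G) := hstep hK2K3 hK3R
  have hK3N : K3 ≤ N := sup_le (sup_le (hK2N.trans (Subgroup.commutator_le.mpr fun x hx y hy => by
    rw [commutatorElement_def]
    exact N.mul_mem (N.mul_mem (N.mul_mem hx hy) (N.inv_mem hx)) (N.inv_mem hy))) hDN) hEN
  have hNR3 : ⁅N, R⁆ ≤ K3 := by
    rw [hNgen, hRgen]
    refine comm_le_of_gen ?_ ?_ ?_
    · rw [← hNgen]; exact hNR.trans hRK3
    · rw [← hRgen]; exact hRK3
    have hKd : D ≤ K3 := le_sup_right.trans le_sup_left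
    have hKe : E ≤ K3 := le_sup_right
    rintro x hx y hy
    rcases hx with ((hx | hx) | hx) | hx
    · rcases hy with (hy | hy) | hy
      · exact hone (habel hA) x hx y hy
      · exact hKd (Subgroup.commutator_mem_commutator hx hy)
      · exact hone hACb x hx y hy
    · rcases hy with (hy | hy) | hy
      · exact hone (bot_symm hACb) x hx y hy
      · exact hsw (hKe (Subgroup.commutator_mem_commutator hy hx))
      · exact hone (habel hC) x hx y hy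
    · exact hK2K3 (hK3R (Subgroup.commutator_mem_commutator (hKd hx) (hRgen ▸ Subgroup.subset_closure hy)))
    · exact hK2K3 (hK3R (Subgroup.commutator_mem_commutator (hKe hx) (hRgen ▸ Subgroup.subset_closure hy)))
  have hRN : R ≤ Subgroup.normalizer (N : Set G) := hstep hK3N hNR3
  have hsup : N ⊔ B = R :=
    le_antisymm (sup_le hNR hBR) (sup_le (sup_le (hAN.trans le_sup_left) le_sup_right) (hCN.trans le_sup_left))
  refine ⟨?_, hXY, fun r hr => conjBy_eq_iff_mem_normalizer.mpr (hRN hr), hsup, ?_⟩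
  · by_cases h : ⁅A, C'⁆ = ⊥
    · exact Or.inl ⟨hab' hA hC'S h, hab' hA'S hC (hiff.mp h)⟩
    · have cl : ∀ {P Q : Subgroup G}, ⁅P ⊔ Q, ⁅P, Q⁆⁆ = ⊥ → ⁅P ⊔ Q, P ⊔ Q⁆ ≤ ⁅P, Q⁆ →
          ⁅⁅P ⊔ Q, P ⊔ Q⁆, P ⊔ Q⁆ = ⊥ := fun hc hd => hmono hd (bot_symm hc)
      exact Or.inr ⟨⟨fun hc => h (hab hc), cl hXc hXd⟩,
        ⟨fun hc => h (hiff.mpr (hab hc)), cl hYc hYd⟩⟩
  · have hRRN : ⁅R, R⁆ ≤ N := by
      conv_lhs => rw [hRgen]
      refine comm_le_of_gen ?_ ?_ ?_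
      · rw [← hRgen]; exact hRN
      · rw [← hRgen]; exact hRN
      rintro x hx y hy
      have hxR : x ∈ R := hRgen ▸ Subgroup.subset_closure hx
      have hyR : y ∈ R := hRgen ▸ Subgroup.subset_closure hy
      rcases hx with (hx | hx) | hx
      · exact hK3N (hNR3 (Subgroup.commutator_mem_commutator (hAN hx) hyR))
      swap
      · exact hK3N (hNR3 (Subgroup.commutator_mem_commutator (hCN hx) hyR))
      rcases hy with (hy | hy) | hy
      · exact hsw (hK3N (hNR3 (Subgroup.commutator_mem_commutator (hAN hy) hxR)))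
      · exact hone (habel hB) x hx y hy
      · exact hsw (hK3N (hNR3 (Subgroup.commutator_mem_commutator (hCN hy) hxR)))
    rw [Subgroup.isNilpotent_iff_lowerCentralSeries]
    refine ⟨5, le_bot_iff.mp ?_⟩
    simp only [Subgroup.lowerCentralSeries_succ, Subgroup.lowerCentralSeries_zero]
    calc ⁅⁅⁅⁅⁅R, R⁆, R⁆, R⁆, R⁆, R⁆
        ≤ ⁅⁅⁅⁅N, R⁆, R⁆, R⁆, R⁆ := Subgroup.commutator_mono (Subgroup.commutator_mono
          (Subgroup.commutator_mono (Subgroup.commutator_mono hRRN le_rfl) le_rfl) le_rfl) le_rfl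
      _ ≤ ⁅⁅⁅K3, R⁆, R⁆, R⁆ := Subgroup.commutator_mono (Subgroup.commutator_mono
          (Subgroup.commutator_mono hNR3 le_rfl) le_rfl) le_rfl
      _ ≤ ⁅⁅K2, R⁆, R⁆ := Subgroup.commutator_mono (Subgroup.commutator_mono hK3R le_rfl) le_rfl
      _ ≤ ⁅K1, R⁆ := Subgroup.commutator_mono hK2R le_rfl
      _ = ⊥ := hK1R

end Cfsg.Agent.S5030
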