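import Cfsg.Statements.S5033
import Cfsg.Agent.Lib.Perm.RootSet
import Cfsg.Agent.Lib.Perm.RootLine
import Cfsg.Agent.Lib.Perm.RootQuasisimple

set_option autoImplicit false
open Cfsg

namespace Cfsg.Agent.S5033

/-- Quasisimplicity criterion for groups generated by abstract root subgroups. Let S be a set of abstract root subgroups of G with more than one member such that: the graph of rank one pairs on S is connected; no two different members of S have the same set of commuting members of S; if S is degenerate then every member of S has more than three elements; and every rank one pair in S is special. Then for every A ∈ S one has G = G' A with A ∩ G' ≠ 1, and the commutator subgroup G' is quasisimple. Moreover G is perfect if S is non-degenerate, or if some rank one pair A, B in S generates a perfect group. -/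
theorem result {G : Type*} [Group G] {S : Set (Subgroup G)} (hS : Cfsg.IsRootSubgroupSet S) (h2 : ∃ A ∈ S, ∃ B ∈ S, A ≠ B)
    (h1 : Cfsg.IsConnectedFamily (Cfsg.FAdj S) S)
    (h2' : ∀ A ∈ S, ∀ C ∈ S, A ≠ C → Cfsg.centralizingMembers S A ≠ Cfsg.centralizingMembers S C)
    (h3 : Cfsg.IsDegenerateRootSet S → ∀ A ∈ S, 3 < ENat.card A)
    (h4 : ∀ A ∈ S, ∀ B ∈ Cfsg.rankOnePartners S A, Cfsg.IsSpecialRankOnePair A B) :
    (∀ A ∈ S, commutator G ⊔ A = ⊤ ∧ A ⊓ commutator G ≠ ⊥) ∧ Cfsg.IsQuasisimple ↥(commutator G) ∧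
    (Cfsg.IsNondegenerateRootSet S → commutator G = ⊤) ∧
    ((∃ A ∈ S, ∃ B ∈ Cfsg.rankOnePartners S A, Group.IsPerfect ↥(A ⊔ B)) → commutator G = ⊤) := by
  open CfsgLib.Perm RootQuasisimple in
  classical
  have hpartner : ∀ A ∈ S, ∃ D ∈ Cfsg.rankOnePartners S A, True := by
    intro A hA
    obtain ⟨C, hC, hne⟩ : ∃ C ∈ S, A ≠ C := by
      obtain ⟨A₀, hA₀, B₀, hB₀, hne⟩ := h2
      by_cases e : A = A₀
      · exact ⟨B₀, hB₀, e ▸ hne⟩
      · exact ⟨A₀, hA₀, e⟩
    rcases Relation.ReflTransGen.cases_head (h1 A hA C hC) with e | ⟨D, hD, -⟩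
    · exact absurd e hne
    · exact ⟨D, ⟨hD.2.1, hD.2.2⟩, trivial⟩
  have hclass : ∀ A ∈ S, ∀ B ∈ S, ∃ g : G, B = Cfsg.conjBy A g := by
    intro A hA B hB
    have key : ∀ {P}, Relation.ReflTransGen (Cfsg.FAdj S) A P → ∃ g : G, P = Cfsg.conjBy A g := by
      intro P h
      induction h with
      | refl => exact ⟨1, (RankOne.conjBy_one A).symm⟩
      | tail _ h ih =>
        obtain ⟨g, rfl⟩ := ih
        obtain ⟨x, -, rfl⟩ := RankOne.right_mem_unipotent h.2.2
        exact ⟨x * g, (RankOne.conjBy_mul _ _ _).symm⟩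
    exact key (h1 A hA B hB)
  -- every member has more than three elements, or every member occurs in a commutator case
  have hdich : (∀ A ∈ S, 3 < ENat.card A) ∨ ∀ A ∈ S, ∃ E ∈ S, Cfsg.RootCommutatorCase S A E := by
    by_cases hd : Cfsg.IsDegenerateRootSet S
    · exact Or.inl (h3 hd)
    simp only [Cfsg.IsDegenerateRootSet, not_forall, not_not] at hd
    obtain ⟨A₀, hA₀, E₀, hE₀, hC₀⟩ := hd
    refine Or.inr fun A hA => ?_
    obtain ⟨g, rfl⟩ := hclass A₀ hA₀ A hA
    refine ⟨_, hS.conj_mem E₀ hE₀ g, RootSet.commCase_of_mem hS hA (hS.conj_mem E₀ hE₀ g) ?_⟩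
    have := hS.conj_mem _ hC₀.1 g
    rwa [Cfsg.conjBy, Subgroup.map_commutator] at this
  have hperf : commutator G = ⊤ := by
    rw [eq_top_iff, ← hS.generates, iSup₂_le_iff]
    intro A hA
    obtain ⟨B, hB, -⟩ := hpartner A hA
    rcases hdich with hd | hd
    · rw [← Torus.commutator_diag (h4 A hA B hB) (hS.commutative A hA) (hS.commutative B hB.1) (hd A hA),
        commutator_def]
      exact Subgroup.commutator_mono le_top le_top
    · obtain ⟨E, hE, hC⟩ := hd A hA
      obtain ⟨g, hg⟩ := hclass _ hC.1 A hA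
      rw [hg]
      rintro _ ⟨x, hx, rfl⟩
      refine (inferInstance : (commutator G).Normal).conj_mem x ?_ g
      rw [commutator_def]
      exact Subgroup.commutator_mono le_top le_top hx
  refine ⟨fun A hA => ⟨by rw [hperf, top_sup_eq], by rw [hperf, inf_top_eq]; exact hS.ne_bot A hA⟩,
    quasisimple_of hperf ?_ ?_, fun _ => hperf, fun _ => hperf⟩
  · intro e
    obtain ⟨A, hA, -⟩ := h2
    obtain ⟨B, hB, -⟩ := hpartner A hA
    exact RankOne.not_commute_pair hB.2 (RootSet.bot_of_commute fun a _ b _ =>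
      (Subgroup.mem_center_iff.mp (e ▸ Subgroup.mem_top b) a))
  intro N hN hnc
  haveI := hN
  set π := QuotientGroup.mk' N with hπ
  -- a member meeting `N` gives everything
  have hmeet : ∀ A ∈ S, ∀ a ∈ A, a ≠ 1 → a ∈ N → N = ⊤ := by
    intro A hA a ha ha1 haN
    have key : ∀ {P}, Relation.ReflTransGen (Cfsg.FAdj S) A P →
        P.map π = A.map π ∧ ∃ x ∈ P, x ≠ 1 ∧ x ∈ N := by
      intro P h
      induction h with
      | refl => exact ⟨rfl, a, ha, ha1, haN⟩
      | tail _ h ih =>
        obtain ⟨e, x, hx, hx1, hxN⟩ := ih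
        obtain ⟨e', hb⟩ := image_eq (h4 _ h.1 _ ⟨h.2.1, h.2.2⟩) N hx hx1 hxN
        exact ⟨e'.symm.trans e, hb⟩
    refine eq_top_iff.mpr (hperf ▸ commutator_le_of_image N (hS.commutative A hA) ?_)
    rw [← hS.generates, Subgroup.map_le_iff_le_comap, iSup₂_le_iff]
    intro P hP
    rw [← Subgroup.map_le_iff_le_comap]
    exact ((key (h1 A hA P hP)).1).le
  have hmem : ∀ M ∈ S, M ≤ N → N = ⊤ := by
    intro M hM hle
    obtain ⟨x, hx, hx1⟩ := RootSet.exists_ne_one (hS.ne_bot M hM)
    exact hmeet M hM x hx hx1 (hle hx)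
  have hkey : ∀ A ∈ S, ∀ n ∈ N, ∀ D ∈ S, ⁅D, A⁆ = ⊥ → ⁅D, Cfsg.conjBy A n⁆ ≠ ⊥ → N = ⊤ := by
    intro A hA n hn D hD hDA hDC
    set C := Cfsg.conjBy A n with hC
    have hCS : C ∈ S := hS.conj_mem A hA n
    have hle : ⁅D, C⁆ ≤ N := by
      rw [Subgroup.commutator_le]
      intro d hd c hc
      rw [hC, RankOne.mem_conjBy] at hc
      rw [← QuotientGroup.eq_one_iff, ← QuotientGroup.mk'_apply, map_commutatorElement]
      have e1 : QuotientGroup.mk' N c = QuotientGroup.mk' N (n⁻¹ * c * n) := by
        rw [map_mul, map_mul, map_inv,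
          show QuotientGroup.mk' N n = 1 from (QuotientGroup.eq_one_iff n).mpr hn]
        group
      rw [e1, ← map_commutatorElement,
        commutatorElement_eq_one_iff_mul_comm.mpr (RankOne.commutes_of_bot hDA hd hc), map_one]
    rcases hS.pair D hD C hCS with h0 | h0 | h0
    · exact absurd h0 hDC
    · have hs := h4 D hD C ⟨hCS, h0⟩
      rcases hdich with hd | hd
      · exact hmem D hD (le_of_comm_le hs (hS.commutative D hD) (hS.commutative C hCS) (hd D hD) N hle)
      · obtain ⟨E, hE, hDE⟩ := hd D hD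
        obtain ⟨K, hK, hDK, hCK, hmove⟩ := RootLine.exists_module hS hD hCS h0 hE hDE
        obtain ⟨c, hc, hc1⟩ := RootSet.exists_ne_one (RankOne.right_ne_bot h0)
        obtain ⟨d, hd, he⟩ := hmove c hc hc1
        have he' := congrArg (Subgroup.map π) he
        rw [map_mk_conjBy, map_mk_conjBy, map_inv, map_inv] at he'
        set E' := (⁅D, K⁆ : Subgroup G).map π with hE'
        set K' := K.map π with hK'
        have hdc : π d * π c = π c * π d := commutatorElement_eq_one_iff_mul_comm.mp (by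
          rw [← map_commutatorElement]
          exact (QuotientGroup.eq_one_iff _).mpr (hle (Subgroup.commutator_mem_commutator hd hc)))
        have hcK : Cfsg.conjBy K' (π c) = K' := RankOne.conjBy_of_comm fun k hk => by
          obtain ⟨k, hk, rfl⟩ := hk
          rw [← map_mul, ← map_mul, RankOne.commutes_of_bot hCK hc hk]
        have hdE : Cfsg.conjBy E' (π d) = E' := RankOne.conjBy_of_comm fun e he => by
          obtain ⟨e, he, rfl⟩ := he
          rw [← map_mul, ← map_mul, hDK.2.1 e he d (Subgroup.mem_sup_left hd)]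
        have hEK : E' = K' := by
          have e1 : E' = Cfsg.conjBy K' ((π d)⁻¹) := by
            conv_rhs => rw [← hcK, ← RankOne.conjBy_mul]
            rw [show (π d)⁻¹ * π c = π c * (π d)⁻¹ from ((show Commute (π d) (π c) from hdc).inv_left).eq,
              RankOne.conjBy_mul, ← he', RankOne.conjBy_conjBy_inv]
          have e2 := congrArg (fun H => Cfsg.conjBy H (π d)) e1
          simpa only [hdE, RankOne.conjBy_conjBy_inv] using e2
        refine hmem _ hDK.1 ?_
        rw [Subgroup.commutator_le]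
        intro x hx k hk
        obtain ⟨e, he2, hek⟩ : π k ∈ E' := hEK ▸ ⟨k, hk, rfl⟩
        rw [← QuotientGroup.eq_one_iff, ← QuotientGroup.mk'_apply, map_commutatorElement, ← hπ,
          ← hek, ← map_commutatorElement, commutatorElement_eq_one_iff_mul_comm.mpr
            (hDK.2.1 e he2 x (Subgroup.mem_sup_left hx)).symm, map_one]
    · exact hmem _ h0.1 hle
  obtain ⟨A, hA, n, hn, hmove⟩ : ∃ A ∈ S, ∃ n ∈ N, Cfsg.conjBy A n ≠ A := by
    by_contra hall
    push Not at hall
    refine hnc fun n hn => ?_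
    have hle : (⨆ A ∈ S, A) ≤ Subgroup.centralizer ({n} : Set G) := by
      refine iSup₂_le fun A hA x hx => ?_
      obtain ⟨B, hB, -⟩ := hpartner A hA
      rw [Subgroup.mem_centralizer_singleton_iff]
      exact (RankOne.le_centralizer_of_fix hB.2 (N := (N : Set G))
        (fun m hm => ⟨hall A hA m hm, hall B hB.1 m hm⟩)
        (fun m hm y _ => hN.conj_mem _ (inv_mem hm) y) n hn x (Subgroup.mem_sup_left hx)).symm
    rw [hS.generates] at hle
    exact Subgroup.mem_center_iff.mpr fun x =>
      Subgroup.mem_centralizer_singleton_iff.mp (hle (Subgroup.mem_top x))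
  have hne := h2' A hA _ (hS.conj_mem A hA n) hmove.symm
  obtain ⟨D, hD⟩ : ∃ D, ¬ (D ∈ Cfsg.centralizingMembers S A ↔ D ∈ Cfsg.centralizingMembers S (Cfsg.conjBy A n)) := by
    by_contra hall
    push Not at hall
    exact hne (Set.ext hall)
  by_cases hDA : D ∈ Cfsg.centralizingMembers S A
  · refine hkey A hA n hn D hDA.1 (Subgroup.commutator_eq_bot_iff_le_centralizer.mpr hDA.2) fun e => hD ?_
    exact iff_of_true hDA ⟨hDA.1, Subgroup.commutator_eq_bot_iff_le_centralizer.mp e⟩
  · have hDC : D ∈ Cfsg.centralizingMembers S (Cfsg.conjBy A n) := by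
      by_contra h
      exact hD (iff_of_false hDA h)
    refine hkey _ (hS.conj_mem A hA n) n⁻¹ (N.inv_mem hn) D hDC.1
      (Subgroup.commutator_eq_bot_iff_le_centralizer.mpr hDC.2) fun e => hDA ?_
    rw [RankOne.conjBy_inv_conjBy] at e
    exact ⟨hDC.1, Subgroup.commutator_eq_bot_iff_le_centralizer.mp e⟩

end Cfsg.Agent.S5033
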