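import Cfsg.Statements.S5034
import Cfsg.Agent.Lib.Perm.RootLine

set_option autoImplicit false
open Cfsg

namespace Cfsg.Agent.S5034

/-- Let S be a non-degenerate class of abstract root subgroups of G, A ∈ S and B a rank one partner of A. Then some line partner C of A has ⁅B, C⁆ ∈ S, and the rank one pair A, B is special. -/
theorem result {G : Type*} [Group G] {S : Set (Subgroup G)} (hS : Cfsg.IsRootSubgroupClass S) (hnd : Cfsg.IsNondegenerateRootSet S)
    {A B : Subgroup G} (hA : A ∈ S) (hB : B ∈ Cfsg.rankOnePartners S A) :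
    (∃ C ∈ Cfsg.linePartners S A, C ∈ Cfsg.commutatorPartners S B) ∧ Cfsg.IsSpecialRankOnePair A B := by
  open CfsgLib.Perm in
  obtain ⟨-, -, A₀, hA₀, E₀, hE₀, hC₀⟩ := hnd
  obtain ⟨g, rfl⟩ := hS.2.2 A₀ hA₀ A hA
  have hE : Cfsg.conjBy E₀ g ∈ S := hS.1.conj_mem _ hE₀ g
  have hC : Cfsg.RootCommutatorCase S (Cfsg.conjBy A₀ g) (Cfsg.conjBy E₀ g) := by
    refine RootSet.commCase_of_mem hS.1 hA hE ?_
    have := hS.1.conj_mem _ hC₀.1 g
    rwa [Cfsg.conjBy, Subgroup.map_commutator] at this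
  refine ⟨?_, RootLine.special hS.1 hA hB.1 hB.2 hE hC⟩
  obtain ⟨F, hF, hBF⟩ := RootLine.exists_line_partner hS.1 hA hB.1 hB.2 hE hC
  exact ⟨F, hF, hF.1.1, hBF.1⟩

end Cfsg.Agent.S5034
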