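import Mathlib
import Cfsg.Statements.S5035
import Cfsg.Agent.Lib.Perm.RootSet
-- import your own Cfsg.Agent.* helpers here

set_option autoImplicit false
open Cfsg

namespace Cfsg.Agent.S5035

/-- Let S be a set of abstract root subgroups of G whose graph of rank one pairs is connected, and f a homomorphism from G onto a group H. Then either the images of the members of S form a set of abstract root subgroups of H whose graph of rank one pairs is again connected, or H equals the image of a member of S. -/
theorem result {G H : Type*} [Group G] [Group H] {S : Set (Subgroup G)} (hS : Cfsg.IsRootSubgroupSet S)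
    (hc : Cfsg.IsConnectedFamily (Cfsg.FAdj S) S) (f : G →* H) (hf : Function.Surjective f) :
    (Cfsg.IsRootSubgroupSet ((fun A : Subgroup G => A.map f) '' S) ∧
      Cfsg.IsConnectedFamily (Cfsg.FAdj ((fun A : Subgroup G => A.map f) '' S)) ((fun A : Subgroup G => A.map f) '' S)) ∨
    ∃ A ∈ S, A.map f = ⊤ := by
  open CfsgLib.Perm.RootSet CfsgLib.Perm.RankOne in
  have hconj : ∀ (A : Subgroup G) (g : G), Cfsg.conjBy (A.map f) (f g) = (Cfsg.conjBy A g).map f := by
    intro A g
    simp only [Cfsg.conjBy, Subgroup.map_map]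
    congr 1
    ext x
    simp
  by_cases hbot : ∃ A ∈ S, A.map f = ⊥
  · obtain ⟨A, hA, hAf⟩ := hbot
    refine Or.inr ⟨A, hA, ?_⟩
    have key : ∀ {P}, Relation.ReflTransGen (Cfsg.FAdj S) A P → P.map f = ⊥ := by
      intro P h
      induction h with
      | refl => exact hAf
      | tail _ h ih =>
        obtain ⟨x, -, rfl⟩ := right_mem_unipotent h.2.2
        rw [← hconj, ih]
        exact Subgroup.map_bot _
    have htop : (⊤ : Subgroup H) = ⊥ := by
      rw [← MonoidHom.range_eq_top.mpr hf, MonoidHom.range_eq_map, ← hS.generates]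
      simp only [Subgroup.map_iSup, eq_bot_iff, iSup_le_iff]
      exact fun P hP => (key (hc A hA P hP)).le
    rw [hAf, htop]
  push Not at hbot
  -- the image of a rank one pair with distinct images
  have himg : ∀ {A B : Subgroup G}, Cfsg.IsRankOnePair A B → A.map f ≠ B.map f →
      Cfsg.IsRankOnePair (A.map f) (B.map f) := by
    have hcond : ∀ {A B : Subgroup G}, Cfsg.RankOneCondition A B → A.map f ≠ B.map f →
        Cfsg.RankOneCondition (A.map f) (B.map f) := by
      intro A B h hne _ hx hx1
      obtain ⟨a, ha, rfl⟩ := hx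
      obtain ⟨b, hb, -, he⟩ := h a ha (fun e => hx1 (by rw [e, map_one]))
      have he' : Cfsg.conjBy (A.map f) (f b)⁻¹ = Cfsg.conjBy (B.map f) (f a)⁻¹ := by
        rw [← map_inv, ← map_inv, hconj, hconj, he]
      refine ⟨f b, ⟨b, hb, rfl⟩, fun e => hne ?_, he'⟩
      rw [e, inv_one, conjBy_one] at he'
      have h1 : Cfsg.conjBy (A.map f) (f a) = A.map f := conjBy_of_mem (Subgroup.mem_map_of_mem f ha)
      rw [he', conjBy_conjBy_inv] at h1
      exact he'.trans h1.symm
    intro A B h hne
    have hn : ∀ {P : Subgroup G}, Group.IsNilpotent P → Group.IsNilpotent (P.map f) := by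
      intro P hP
      exact Group.nilpotent_of_surjective (f.subgroupMap P) (MonoidHom.subgroupMap_surjective _ _)
    exact ⟨hne, hn h.nilpotent_left, hn h.nilpotent_right, hcond h.cond_left hne,
      hcond h.cond_right hne.symm⟩
  refine Or.inl ⟨⟨?_, ?_, ?_, ?_, ?_⟩, ?_⟩
  · rintro _ ⟨A, hA, rfl⟩
    have := hS.commutative A hA
    infer_instance
  · rintro _ ⟨A, hA, rfl⟩
    exact hbot A hA
  · rw [← MonoidHom.range_eq_top.mpr hf, MonoidHom.range_eq_map, ← hS.generates, iSup_image]
    simp only [Subgroup.map_iSup]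
  · rintro _ ⟨A, hA, rfl⟩ h
    obtain ⟨g, rfl⟩ := hf h
    exact ⟨_, hS.conj_mem A hA g, (hconj A g).symm⟩
  · rintro _ ⟨A, hA, rfl⟩ _ ⟨B, hB, rfl⟩
    dsimp only
    rcases hS.pair A hA B hB with h | h | h
    · left; rw [← Subgroup.map_commutator, h, Subgroup.map_bot]
    · by_cases hne : A.map f = B.map f
      · left
        rw [← hne, ← Subgroup.map_commutator, bot_of_commute (fun x hx y hy =>
          congrArg Subtype.val ((hS.commutative A hA).1.comm ⟨x, hx⟩ ⟨y, hy⟩)), Subgroup.map_bot]
      · exact Or.inr (Or.inl (himg h hne))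
    · refine Or.inr (Or.inr ⟨?_, ?_, ?_, ?_⟩)
      · exact ⟨_, h.1, Subgroup.map_commutator A B f⟩
      · rw [← Subgroup.map_commutator, ← Subgroup.map_sup]
        rintro _ ⟨c, hc', rfl⟩ _ ⟨x, hx, rfl⟩
        rw [← map_mul, ← map_mul, h.2.1 c hc' x hx]
      · rintro _ ⟨a, ha, rfl⟩ h1
        rw [← Subgroup.map_commutator, ← h.2.2.1 a ha (fun e => h1 (by rw [e, map_one])),
          MonoidHom.map_closure, Subgroup.coe_map, Set.image_image, Set.image_image]
        simp only [map_mul, map_inv]
      · rintro _ ⟨b, hb, rfl⟩ h1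
        rw [← Subgroup.map_commutator, ← h.2.2.2 b hb (fun e => h1 (by rw [e, map_one])),
          MonoidHom.map_closure, Subgroup.coe_map, Set.image_image, Set.image_image]
        simp only [map_mul, map_inv]
  · rintro _ ⟨A, hA, rfl⟩ _ ⟨B, hB, rfl⟩
    have h := hc A hA B hB
    induction h with
    | refl => exact .refl
    | tail _ h ih =>
      rename_i P Q _
      by_cases hne : P.map f = Q.map f
      · show Relation.ReflTransGen _ (A.map f) (Q.map f)
        rw [← hne]
        exact ih h.1
      · exact (ih h.1).tail ⟨⟨P, h.1, rfl⟩, ⟨Q, h.2.1, rfl⟩, himg h.2.2 hne⟩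

end Cfsg.Agent.S5035
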