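import Cfsg.Statements.S5036
import Cfsg.Agent.Lib.Perm.RootPath
import Cfsg.Agent.Lib.Perm.RootClass

set_option autoImplicit false
open Cfsg
open scoped commutatorElement

namespace Cfsg.Agent.S5036

/-- Let S be a set of abstract root subgroups of G, A, B ∈ S with C = ⁅A, B⁆ ∈ S, and D ∈ S with ⁅D, C⁆ = A. Put X = ⟨B, D⟩ and N = AC. Then B, D form a rank one pair; the conjugates of A under X are the conjugates of C under X, namely the conjugates of A by elements of B together with C, equally the conjugates of C by elements of D together with A, and they partition N; and the centralizer of N in X is central in X. -/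
theorem result {G : Type*} [Group G] {S : Set (Subgroup G)} (hS : Cfsg.IsRootSubgroupSet S)
    {A B D : Subgroup G} (hA : A ∈ S) (hB : B ∈ S) (hC : ⁅A, B⁆ ∈ S) (hD : D ∈ S) (hDC : ⁅D, ⁅A, B⁆⁆ = A) :
    Cfsg.IsRankOnePair B D ∧
    {E | ∃ x ∈ B ⊔ D, E = Cfsg.conjBy A x} = {E | ∃ x ∈ B ⊔ D, E = Cfsg.conjBy ⁅A, B⁆ x} ∧
    {E | ∃ x ∈ B ⊔ D, E = Cfsg.conjBy A x} = (fun b : G => Cfsg.conjBy A b) '' (B : Set G) ∪ {⁅A, B⁆} ∧
    {E | ∃ x ∈ B ⊔ D, E = Cfsg.conjBy A x} = (fun d : G => Cfsg.conjBy ⁅A, B⁆ d) '' (D : Set G) ∪ {A} ∧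
    Cfsg.IsSubgroupPartition (A ⊔ ⁅A, B⁆) {E | ∃ x ∈ B ⊔ D, E = Cfsg.conjBy A x} ∧
    ∀ x ∈ (B ⊔ D) ⊓ Subgroup.centralizer ((A ⊔ ⁅A, B⁆ : Subgroup G) : Set G), ∀ y ∈ B ⊔ D, x * y = y * x := by
  open CfsgLib.Perm RankOne RootSet RootLine RootPath in
  set C := ⁅A, B⁆ with hCdef
  have c1 : Cfsg.RootCommutatorCase S A B := commCase_of_mem hS hA hB hC
  have c2 : Cfsg.RootCommutatorCase S D C := commCase_of_mem hS hD hC (hDC.symm ▸ hA)
  have hBC : ⁅B, C⁆ = ⊥ := bot_right_of_case c1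
  have hDA : ⁅D, A⁆ = ⊥ := hDC ▸ bot_left_of_case c2
  have hAC : ⁅A, C⁆ = ⊥ := bot_left_of_case c1
  have hp : Cfsg.IsRankOnePair B D := Cfsg.RankOnePair_symm (opposite hS hD hC hA hB hDC rfl)
  have hinf : ∀ x ∈ A, x ∈ C → x = 1 := fun x hxA hxC =>
    eq_one_of_commute hS (commCase_swap c2) hxC fun d hd => (commutes_of_bot hDA hd hxA).symm
  -- the conjugate of `A` by an element of `B` is a conjugate of `C` by one of `D`
  have hswap : ∀ b ∈ B, ∀ d ∈ D, b ≠ 1 → Cfsg.conjBy D b = Cfsg.conjBy B d →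
      Cfsg.conjBy A b = Cfsg.conjBy C d := by
    intro b hb d hd hb1 he
    have hd1 : d ≠ 1 := fun e => hp.ne.symm (conjBy_inj (g := b) (by
      rw [he, e, conjBy_one, conjBy_of_mem hb]))
    have hCd : Cfsg.conjBy C d⁻¹ ≠ C := fun e => hd1 (inv_eq_one.mp (eq_one_of_commute hS c2
      (D.inv_mem hd) fun c hc => by
        have h1 : ⁅d⁻¹, c⁆ ∈ C := by
          rw [commutatorElement_def]
          exact C.mul_mem (e ▸ conjBy_conj_mem hc) (C.inv_mem hc)
        have h2 : ⁅d⁻¹, c⁆ ∈ A := hDC ▸ Subgroup.commutator_mem_commutator (D.inv_mem hd) hc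
        exact commutatorElement_eq_one_iff_mul_comm.mp (hinf _ h2 h1)))
    have hbC : Cfsg.conjBy C b = C := conjBy_of_comm fun c hc => commutes_of_bot hBC hb hc
    have h1 : Cfsg.conjBy A b = ⁅Cfsg.conjBy B d, C⁆ := by
      rw [← hDC, Cfsg.conjBy, Subgroup.map_commutator, ← Cfsg.conjBy, ← Cfsg.conjBy, he, hbC]
    have h2 : ⁅Cfsg.conjBy B d, C⁆ = Cfsg.conjBy ⁅B, Cfsg.conjBy C d⁻¹⁆ d := by
      conv_rhs => rw [Cfsg.conjBy, Subgroup.map_commutator, ← Cfsg.conjBy, ← Cfsg.conjBy, conjBy_conjBy_inv]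
    rw [h1, h2]
    congr 1
    refine le_antisymm ?_ ?_
    · rw [Subgroup.commutator_le]
      intro b' hb' y hy
      rw [mem_conjBy, inv_inv] at hy
      set c := d * y * d⁻¹ with hc
      have hy' : y = ⁅d⁻¹, c⁆ * c := by rw [← conj_eq_comm_mul, hc]; group
      have hcb : Commute c b' := (commutes_of_bot hBC hb' hy).symm
      have e : ⁅b', ⁅d⁻¹, c⁆ * c⁆ = ⁅b', ⁅d⁻¹, c⁆⁆ := by
        simp only [commutatorElement_def]
        calc _ = b' * (d⁻¹ * c * d⁻¹⁻¹ * c⁻¹) * (c * b'⁻¹ * c⁻¹) * (d⁻¹ * c * d⁻¹⁻¹ * c⁻¹)⁻¹ := by group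
          _ = _ := by rw [hcb.inv_right.eq, mul_inv_cancel_right]
      rw [hy', e, hCdef, Subgroup.commutator_comm A B]
      exact Subgroup.commutator_mem_commutator hb'
        (hDC ▸ Subgroup.commutator_mem_commutator (D.inv_mem hd) hy)
    · refine (le_of_eq (hCdef.trans (c1.2.2.2 b hb hb1).symm)).trans ((Subgroup.closure_le _).mpr ?_)
      rintro _ ⟨a, ha, rfl⟩
      obtain ⟨c, hc, hca⟩ := comm_surj c2 (D.inv_mem hd) (inv_ne_one.mpr hd1) (hDC.symm ▸ ha)
      have hy : ⁅d⁻¹, c⁆ * c ∈ Cfsg.conjBy C d⁻¹ := by rw [← conj_eq_comm_mul]; exact conjBy_conj_mem hc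
      have hbc : Commute b c := commutes_of_bot hBC hb hc
      have e : ⁅b, ⁅d⁻¹, c⁆ * c⁆ = ⁅b, a⁆ := by
        rw [hca]; simp only [commutatorElement_def]
        calc _ = b * a * (c * b⁻¹ * c⁻¹) * a⁻¹ := by group
          _ = _ := by rw [hbc.symm.inv_right.eq, mul_inv_cancel_right]
      have h3 := Subgroup.commutator_mem_commutator hb hy
      rw [e] at h3
      simp only [SetLike.mem_coe]
      rw [← commutatorElement_def, ← commutatorElement_inv]
      exact inv_mem h3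
  set O := (fun b : G => Cfsg.conjBy A b) '' (B : Set G) ∪ {C} with hO
  set O' := (fun d : G => Cfsg.conjBy C d) '' (D : Set G) ∪ {A} with hO'
  have hOO : O = O' := by
    ext W
    constructor
    · rintro (⟨b, hb, rfl⟩ | hW)
      · by_cases hb1 : b = 1
        · exact Or.inr (by simp [hb1, conjBy_one])
        obtain ⟨d, hd, -, he⟩ := hp.cond_left b⁻¹ (B.inv_mem hb) (inv_ne_one.mpr hb1)
        rw [inv_inv] at he
        exact Or.inl ⟨d⁻¹, D.inv_mem hd, (hswap b hb d⁻¹ (D.inv_mem hd) hb1 he.symm).symm⟩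
      · exact Or.inl ⟨1, D.one_mem, by rw [Set.mem_singleton_iff.mp hW]; exact conjBy_one C⟩
    · rintro (⟨d, hd, rfl⟩ | hW)
      · by_cases hd1 : d = 1
        · exact Or.inr (by simp [hd1, conjBy_one])
        obtain ⟨b, hb, hb1, he⟩ := hp.cond_right d⁻¹ (D.inv_mem hd) (inv_ne_one.mpr hd1)
        rw [inv_inv] at he
        exact Or.inl ⟨b⁻¹, B.inv_mem hb, hswap b⁻¹ (B.inv_mem hb) d hd (inv_ne_one.mpr hb1) he⟩
      · exact Or.inl ⟨1, B.one_mem, by rw [Set.mem_singleton_iff.mp hW]; exact conjBy_one A⟩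
  have hOB : ∀ b ∈ B, ∀ W ∈ O, Cfsg.conjBy W b ∈ O := by
    rintro b hb W (⟨b', hb', rfl⟩ | hW)
    · exact Or.inl ⟨b * b', B.mul_mem hb hb', conjBy_mul _ _ _⟩
    · rw [Set.mem_singleton_iff.mp hW, conjBy_of_comm fun c hc => commutes_of_bot hBC hb hc]
      exact Or.inr rfl
  have hOD : ∀ d ∈ D, ∀ W ∈ O, Cfsg.conjBy W d ∈ O := by
    rw [hOO]
    rintro d hd W (⟨d', hd', rfl⟩ | hW)
    · exact Or.inl ⟨d * d', D.mul_mem hd hd', conjBy_mul _ _ _⟩
    · rw [Set.mem_singleton_iff.mp hW, conjBy_of_comm fun c hc => commutes_of_bot hDA hd hc]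
      exact Or.inr rfl
  have hOX : ∀ x ∈ B ⊔ D, ∀ W ∈ O, Cfsg.conjBy W x ∈ O ∧ Cfsg.conjBy W x⁻¹ ∈ O := by
    intro x hx
    rw [← Subgroup.closure_eq B, ← Subgroup.closure_eq D, ← Subgroup.closure_union] at hx
    induction hx using Subgroup.closure_induction with
    | mem x hx =>
      intro W hW
      rcases hx with hx | hx
      · exact ⟨hOB x hx W hW, hOB _ (B.inv_mem hx) W hW⟩
      · exact ⟨hOD x hx W hW, hOD _ (D.inv_mem hx) W hW⟩
    | one => intro W hW; simp only [inv_one, conjBy_one]; exact ⟨hW, hW⟩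
    | mul x y _ _ ihx ihy =>
      intro W hW
      rw [mul_inv_rev, conjBy_mul, conjBy_mul]
      exact ⟨(ihx _ (ihy W hW).1).1, (ihy _ (ihx W hW).2).2⟩
    | inv x _ ih => intro W hW; rw [inv_inv]; exact (ih W hW).symm
  have hA0 : A ∈ O := Or.inl ⟨1, B.one_mem, conjBy_one A⟩
  obtain ⟨y, hy, hyC⟩ : ∃ y ∈ B ⊔ D, C = Cfsg.conjBy A y := by
    obtain ⟨b, hb, hb1⟩ := exists_ne_one (left_ne_bot hp)
    obtain ⟨d, hd, -, he⟩ := hp.cond_left b⁻¹ (B.inv_mem hb) (inv_ne_one.mpr hb1)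
    rw [inv_inv] at he
    refine ⟨d * b, mul_mem (Subgroup.mem_sup_right hd) (Subgroup.mem_sup_left hb), ?_⟩
    rw [conjBy_mul, hswap b hb d⁻¹ (D.inv_mem hd) hb1 he.symm, conjBy_conjBy_inv]
  have horb : {E | ∃ x ∈ B ⊔ D, E = Cfsg.conjBy A x} = O := by
    ext W
    constructor
    · rintro ⟨x, hx, rfl⟩; exact (hOX x hx A hA0).1
    · rintro (⟨b, hb, rfl⟩ | hW)
      · exact ⟨b, Subgroup.mem_sup_left hb, rfl⟩
      · exact ⟨y, hy, (Set.mem_singleton_iff.mp hW).trans hyC⟩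
  refine ⟨hp, ?_, horb, horb.trans hOO, ?_, ?_⟩
  · ext W
    constructor
    · rintro ⟨x, hx, rfl⟩
      exact ⟨x * y⁻¹, mul_mem hx (inv_mem hy), by rw [conjBy_mul, hyC, conjBy_inv_conjBy]⟩
    · rintro ⟨x, hx, rfl⟩
      exact ⟨x * y, mul_mem hx hy, by rw [hyC, conjBy_mul]⟩
  · rw [horb]
    have hconjmem : ∀ b ∈ B, ∀ a ∈ A, b * a * b⁻¹ = ⁅b, a⁆ * a ∧ ⁅b, a⁆ ∈ C := fun b hb a ha =>
      ⟨conj_eq_comm_mul b a, by
        rw [hCdef, Subgroup.commutator_comm]
        exact Subgroup.commutator_mem_commutator hb ha⟩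
    refine ⟨?_, ?_, ?_⟩
    · rintro W (⟨b, hb, rfl⟩ | hW)
      · rintro _ ⟨a, ha, rfl⟩
        simp only [MulEquiv.coe_toMonoidHom, MulAut.conj_apply]
        rw [(hconjmem b hb a ha).1]
        exact mul_mem (Subgroup.mem_sup_right (hconjmem b hb a ha).2) (Subgroup.mem_sup_left ha)
      · rw [Set.mem_singleton_iff.mp hW]; exact le_sup_right
    · intro x hx hx1
      rw [← SetLike.mem_coe, Subgroup.coe_mul_of_left_le_normalizer_right A C
        (fun a ha => Subgroup.centralizer_le_normalizer _ (le_centralizer_of_bot hAC ha))] at hx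
      obtain ⟨a, ha, c, hc, rfl⟩ := hx
      by_cases ha1 : a = 1
      · exact ⟨C, Or.inr rfl, by rw [ha1]; simpa using hc⟩
      obtain ⟨b, hb, hab⟩ := comm_surj c1 ha ha1 (C.inv_mem hc)
      refine ⟨Cfsg.conjBy A b, Or.inl ⟨b, hb, rfl⟩, ?_⟩
      have : a * c = b * a * b⁻¹ := by
        rw [conj_eq_comm_mul, ← commutatorElement_inv a b, hab, inv_inv]
        exact commutes_of_bot hAC ha hc
      show a * c ∈ Cfsg.conjBy A b
      rw [this]; exact conjBy_conj_mem ha
    · have hAC' : ∀ b ∈ B, ∀ z, z ∈ Cfsg.conjBy A b → z ∈ C → z = 1 := by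
        intro b hb z hz hzC
        rw [mem_conjBy] at hz
        have hzb : Commute z b := (commutes_of_bot hBC hb hzC).symm
        rw [mul_assoc, hzb.eq, inv_mul_cancel_left] at hz
        exact hinf z hz hzC
      have hAb : ∀ b ∈ B, b ≠ 1 → ∀ z, z ∈ A → z ∈ Cfsg.conjBy A b → z = 1 := by
        intro b hb hb1 z hz hz'
        rw [mem_conjBy] at hz'
        set a := b⁻¹ * z * b
        have hzeq : z = ⁅b, a⁆ * a := by rw [← conj_eq_comm_mul]; simp [a, mul_assoc]
        have h1 : ⁅b, a⁆ = 1 := hinf _ (by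
          have : ⁅b, a⁆ = z * a⁻¹ := by rw [hzeq, mul_inv_cancel_right]
          rw [this]; exact A.mul_mem hz (A.inv_mem hz')) (hconjmem b hb a hz').2
        by_contra hz1
        refine hb1 ?_
        rw [h1, one_mul] at hzeq
        have ha1 : a ≠ 1 := fun e => hz1 (hzeq.trans e)
        -- `C` would be trivial
        obtain ⟨d, hd, -, he⟩ := hp.cond_left b⁻¹ (B.inv_mem hb) (inv_ne_one.mpr hb1)
        rw [inv_inv] at he
        have h2 := hswap b hb d⁻¹ (D.inv_mem hd) hb1 he.symm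
        have haC : a ∈ Cfsg.conjBy C d⁻¹ := by
          rw [← h2, mem_conjBy, mul_assoc, (commutatorElement_eq_one_iff_mul_comm.mp h1).symm,
            inv_mul_cancel_left]
          exact hz'
        rw [mem_conjBy, inv_inv] at haC
        have hda : d * a * d⁻¹ = a := by
          rw [commutes_of_bot hDA hd hz', mul_inv_cancel_right]
        rw [hda] at haC
        exact absurd (hinf a hz' haC) ha1
      rintro W (⟨b, hb, rfl⟩ | hW) V (⟨b', hb', rfl⟩ | hV) hne
      · rw [Subgroup.eq_bot_iff_forall]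
        rintro z ⟨hz, hz'⟩
        have h1 : b⁻¹ * z * b ∈ A := mem_conjBy.mp hz
        have h2 : b⁻¹ * z * b ∈ Cfsg.conjBy A (b⁻¹ * b') := by
          rw [mem_conjBy]
          have := mem_conjBy.mp hz'
          simpa [mul_assoc] using this
        have hbb : b⁻¹ * b' ≠ 1 := fun e => hne (by rw [inv_mul_eq_one.mp e])
        have h3 := hAb _ (B.mul_mem (B.inv_mem hb) hb') hbb _ h1 h2
        calc z = b * (b⁻¹ * z * b) * b⁻¹ := by group
          _ = 1 := by rw [h3]; group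
      · rw [Set.mem_singleton_iff.mp hV, Subgroup.eq_bot_iff_forall]
        rintro z ⟨hz, hz'⟩; exact hAC' b hb z hz hz'
      · rw [Set.mem_singleton_iff.mp hW, Subgroup.eq_bot_iff_forall]
        rintro z ⟨hz, hz'⟩; exact hAC' b' hb' z hz' hz
      · exact absurd ((Set.mem_singleton_iff.mp hW).trans (Set.mem_singleton_iff.mp hV).symm) hne
  · -- the centraliser of `AC`
    have hN : ∀ x ∈ B ⊔ D, ∀ W ∈ O, W ≤ A ⊔ C → x ∈ Subgroup.centralizer ((A ⊔ C : Subgroup G) : Set G) →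
        Cfsg.conjBy W x = W := fun x _ W _ hle hx => conjBy_of_comm fun w hw =>
      (Subgroup.mem_centralizer_iff.mp hx w (hle hw)).symm
    intro x hx y hy
    refine le_centralizer_of_fix hp
      (N := ((B ⊔ D) ⊓ Subgroup.centralizer ((A ⊔ C : Subgroup G) : Set G) : Subgroup G))
      (fun n hn => ?_) (fun n hn z hz => ?_) x hx y hy
    · obtain ⟨hn0, hnc⟩ := hn
      have hfixA : Cfsg.conjBy A n = A := hN n hn0 A hA0 le_sup_left hnc
      have hfixC : Cfsg.conjBy C n = C := hN n hn0 C (Or.inr rfl) le_sup_right hnc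
      constructor
      · have hm := conjBy_mem_unipotent (self_mem_unipotent B D) hn0
        rw [unipotentSubgroups_eq hp] at hm
        rcases hm with e | ⟨b, hb, e⟩
        · exact e
        · exfalso
          have h1 := conj_comm_bot hBC n
          rw [e, hfixC] at h1
          have h2 := conj_comm_bot h1 b⁻¹
          rw [conjBy_inv_conjBy, conjBy_of_comm (A := C) fun c hc => commutes_of_bot hBC (B.inv_mem hb) hc] at h2
          exact hS.ne_bot A hA (hDC ▸ h2)
      · have hm := conjBy_mem_unipotent (self_mem_unipotent D B) (sup_comm B D ▸ hn0)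
        rw [unipotentSubgroups_eq (Cfsg.RankOnePair_symm hp)] at hm
        rcases hm with e | ⟨d, hd, e⟩
        · exact e
        · exfalso
          have h1 := conj_comm_bot hDA n
          rw [e, hfixA] at h1
          have h2 := conj_comm_bot h1 d⁻¹
          rw [conjBy_inv_conjBy, conjBy_of_comm (A := A) fun c hc => commutes_of_bot hDA (D.inv_mem hd) hc] at h2
          exact hS.ne_bot C hC (bot_symm h2)
    · obtain ⟨hn0, hnc⟩ := hn
      refine Subgroup.mem_inf.mpr ⟨(B ⊔ D).mul_mem ((B ⊔ D).mul_mem hz ((B ⊔ D).inv_mem hn0)) ((B ⊔ D).inv_mem hz), ?_⟩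
      refine (Subgroup.le_centralizer_iff.mp ?_) (Subgroup.mem_zpowers (z * n⁻¹ * z⁻¹))
      rw [sup_le_iff]
      have key : ∀ W ∈ O, W ≤ A ⊔ C → ∀ w ∈ W,
          w ∈ Subgroup.centralizer ((Subgroup.zpowers (z * n⁻¹ * z⁻¹) : Subgroup G) : Set G) := by
        intro W hW hle w hw
        rw [Subgroup.zpowers_eq_closure, Subgroup.centralizer_closure, Subgroup.mem_centralizer_singleton_iff]
        have hWz : Cfsg.conjBy W z⁻¹ ≤ A ⊔ C := by
          have hWO := (hOX z hz W hW).2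
          rcases hWO with ⟨b, hb, e⟩ | e
          · rw [← e]
            rintro _ ⟨a, ha, rfl⟩
            simp only [MulEquiv.coe_toMonoidHom, MulAut.conj_apply]
            rw [conj_eq_comm_mul]
            refine mul_mem (Subgroup.mem_sup_right ?_) (Subgroup.mem_sup_left ha)
            rw [hCdef, Subgroup.commutator_comm]
            exact Subgroup.commutator_mem_commutator hb ha
          · rw [Set.mem_singleton_iff.mp e]; exact le_sup_right
        have h1 : Commute n (z⁻¹ * w * z⁻¹⁻¹) :=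
          (Subgroup.mem_centralizer_iff.mp hnc _ (hWz (conjBy_conj_mem hw))).symm
        have h2 := (Commute.conj_iff (h := z)).mpr h1.inv_left
        rw [show z * (z⁻¹ * w * z⁻¹⁻¹) * z⁻¹ = w by group] at h2
        exact h2.symm.eq
      exact ⟨key A hA0 le_sup_left, key C (Or.inr rfl) le_sup_right⟩

end Cfsg.Agent.S5036
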