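import Cfsg.Statements.S5037
import Cfsg.Agent.Lib.Perm.RootPath
import Cfsg.Agent.Lib.Perm.RootClass

set_option autoImplicit false
open Cfsg

namespace Cfsg.Agent.S5037

/-- Let S be a class of abstract root subgroups of G that is either degenerate or non-degenerate (so either the commutator case never occurs, or all three cases occur), and A ≠ C members of S. If every member of S commuting with A commutes with C, then A and C have the same commuting members of S; and if every rank one partner of A is a rank one partner of C, then A and C commute and have the same rank one partners. -/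
theorem result {G : Type*} [Group G] {S : Set (Subgroup G)} (hS : Cfsg.IsRootSubgroupClass S)
    (hdn : Cfsg.IsDegenerateRootSet S ∨ Cfsg.IsNondegenerateRootSet S)
    {A C : Subgroup G} (hA : A ∈ S) (hC : C ∈ S) (hAC : A ≠ C) :
    (Cfsg.centralizingMembers S A ⊆ Cfsg.centralizingMembers S C →
      Cfsg.centralizingMembers S A = Cfsg.centralizingMembers S C) ∧
    (Cfsg.rankOnePartners S A ⊆ Cfsg.rankOnePartners S C →
      ⁅A, C⁆ = ⊥ ∧ Cfsg.rankOnePartners S A = Cfsg.rankOnePartners S C) := by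
  open CfsgLib.Perm RankOne RootSet RootLine RootPath RootClass in
  have hS' := hS.1
  have hrelC : ∀ U : Subgroup G, ∀ g : G, Cfsg.centralizingMembers S (Cfsg.conjBy U g) =
      (fun W => Cfsg.conjBy W g) '' Cfsg.centralizingMembers S U := by
    intro U g
    ext W
    constructor
    · intro hW
      refine ⟨Cfsg.conjBy W g⁻¹, ⟨hS'.conj_mem W hW.1 _, le_centralizer_of_bot ?_⟩, conjBy_conjBy_inv W g⟩
      have := conj_comm_bot (Subgroup.commutator_eq_bot_iff_le_centralizer.mpr hW.2) g⁻¹
      rwa [conjBy_inv_conjBy] at this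
    · rintro ⟨W, hW, rfl⟩
      exact ⟨hS'.conj_mem W hW.1 g, le_centralizer_of_bot
        (conj_comm_bot (Subgroup.commutator_eq_bot_iff_le_centralizer.mpr hW.2) g)⟩
  have hrelO : ∀ U : Subgroup G, ∀ g : G, Cfsg.rankOnePartners S (Cfsg.conjBy U g) =
      (fun W => Cfsg.conjBy W g) '' Cfsg.rankOnePartners S U := by
    intro U g
    ext W
    constructor
    · intro hW
      refine ⟨Cfsg.conjBy W g⁻¹, ⟨hS'.conj_mem W hW.1 _, ?_⟩, conjBy_conjBy_inv W g⟩
      have := pair_conj hW.2 g⁻¹
      rwa [conjBy_inv_conjBy] at this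
    · rintro ⟨W, hW, rfl⟩
      exact ⟨hS'.conj_mem W hW.1 g, pair_conj hW.2 g⟩
  by_cases hp : ∃ P ∈ S, ∃ Q ∈ S, Cfsg.IsRankOnePair P Q
  swap
  · push Not at hp
    have hdeg : Cfsg.IsDegenerateRootSet S := hdn.resolve_right fun hn => by
      obtain ⟨P, hP, Q, hQ, h⟩ := hn.2.1
      exact hp P hP Q hQ h
    have hall : ∀ P ∈ S, ∀ Q ∈ S, ⁅P, Q⁆ = ⊥ := fun P hP Q hQ =>
      (hS'.pair P hP Q hQ).resolve_right (not_or.mpr ⟨hp P hP Q hQ, hdeg P hP Q hQ⟩)
    have hcen : ∀ P ∈ S, Cfsg.centralizingMembers S P = S := fun P hP =>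
      Set.ext fun W => ⟨fun h => h.1, fun h => ⟨h, le_centralizer_of_bot (hall W h P hP)⟩⟩
    have hrk : ∀ P ∈ S, Cfsg.rankOnePartners S P = ∅ := fun P hP =>
      Set.eq_empty_iff_forall_notMem.mpr fun W hW => hp P hP W hW.1 hW.2
    exact ⟨fun _ => by rw [hcen A hA, hcen C hC],
      fun _ => ⟨hall A hA C hC, by rw [hrk A hA, hrk C hC]⟩⟩
  have hiso := all_not_isolated hS hp
  constructor
  · intro hsub
    obtain ⟨E, hE, hCE⟩ := exists_partner (hiso C hC) hC
    have hAC : ⁅A, C⁆ = ⊥ := by
      refine Subgroup.commutator_eq_bot_iff_le_centralizer.mpr (hsub ⟨hA, le_centralizer_of_bot ?_⟩).2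
      exact bot_of_commute fun x hx y hy =>
        congrArg Subtype.val ((hS'.commutative A hA).1.comm (⟨x, hx⟩ : A) ⟨y, hy⟩)
    rcases hS'.pair A hA E hE with h | h | h
    · exact absurd (bot_symm (Subgroup.commutator_eq_bot_iff_le_centralizer.mpr
        (hsub ⟨hE, le_centralizer_of_bot (bot_symm h)⟩).2)) (not_commute_pair hCE)
    · exact comparison hS' _ hrelC hA hC hE hAC h hCE hsub
    · exact absurd (Subgroup.commutator_eq_bot_iff_le_centralizer.mpr
        (hsub ⟨h.1, le_centralizer_of_bot (bot_symm (bot_left_of_case h))⟩).2)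
        (not_commute_mid hS' hE hAC hCE h)
  · intro hsub
    obtain ⟨E, hE, hAE⟩ := exists_partner (hiso A hA) hA
    have hAC' : ⁅A, C⁆ = ⊥ := by
      rcases hS'.pair A hA C hC with h | h | h
      · exact h
      · exact absurd rfl (hsub ⟨hC, h⟩).2.ne
      · exfalso
        have hCA := commCase_swap h
        have hl := linePartners_of_case hS' hC (hiso C hC) hA hCA
        obtain ⟨P, hP, hUP⟩ := exists_mid hS' hiso hC hl
        have hPU : ⁅P, ⁅C, A⁆⁆ = C := by rw [Subgroup.commutator_comm]; exact hUP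
        have hpair := opposite hS' hP hCA.1 hC hA hPU rfl
        have hcase : Cfsg.RootCommutatorCase S P ⁅C, A⁆ := commCase_of_mem hS' hP hCA.1 (hPU.symm ▸ hC)
        have hPC := bot_left_of_case hcase
        rw [hPU] at hPC
        exact not_commute_pair (hsub ⟨hP, Cfsg.RankOnePair_symm hpair⟩).2 (bot_symm hPC)
    exact ⟨hAC', comparison hS' _ hrelO hA hC hE hAC' hAE (hsub ⟨hE, hAE⟩).2 hsub⟩

end Cfsg.Agent.S5037
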