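import Cfsg.Statements.S5039
import Cfsg.Agent.Lib.Perm.RootSpecial
import Cfsg.Agent.Lib.Perm.RootClass
import Cfsg.Agent.Lib.Perm.SL2Unipotent

set_option autoImplicit false
universe u
open Cfsg

namespace Cfsg.Agent.S5039

/-- Let S be a class of abstract root subgroups of G containing two different commuting members. Suppose that, in case S is degenerate and every element of every member of S has order at most 3, the following holds: for every A ∈ S and every rank one partner B of A there are subgroups A₀ ≤ A and B₀ ≤ B generating an image of SL₂(k) with central kernel, k a field with at least four elements, A₀ and B₀ being the images of the unitriangular subgroups. Then every rank one pair A, B in S is special. -/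
theorem result {G : Type u} [Group G] {S : Set (Subgroup G)} (hS : Cfsg.IsRootSubgroupClass S)
    (hcomm : ∃ A ∈ S, ∃ C ∈ S, A ≠ C ∧ ⁅A, C⁆ = ⊥)
    (hH : Cfsg.IsDegenerateRootSet S → (∀ A ∈ S, ∀ a ∈ A, 0 < orderOf a ∧ orderOf a ≤ 3) →
      ∀ A ∈ S, ∀ B ∈ Cfsg.rankOnePartners S A, ∃ A₀ B₀ : Subgroup G, A₀ ≤ A ∧ B₀ ≤ B ∧
        ∃ (k : Type u) (_ : Field k), 3 < ENat.card k ∧ Cfsg.IsPSL2PairOver k A₀ B₀)
    {A B : Subgroup G} (hA : A ∈ S) (hB : B ∈ Cfsg.rankOnePartners S A) : Cfsg.IsSpecialRankOnePair A B := by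
  open CfsgLib.Perm RankOne RootSet RootLine RootClass RootSpecial in
  have hS' := hS.1
  obtain ⟨hB, hAB⟩ := hB
  by_cases hd : Cfsg.IsDegenerateRootSet S
  swap
  · simp only [Cfsg.IsDegenerateRootSet, not_forall, not_not] at hd
    obtain ⟨A₀, hA₀, E₀, hE₀, hC₀⟩ := hd
    obtain ⟨E, hE, hC⟩ := exists_case hS ⟨A₀, hA₀, E₀, hE₀, hC₀⟩ A hA
    exact RootLine.special hS' hA hB hAB hE hC
  by_contra hns
  have hnA : ∀ W ∈ S, W ≠ A → ⁅W, A⁆ = ⊥ → W ≠ B ∧ ⁅W, B⁆ = ⊥ := by
    intro W hW hne hb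
    refine ⟨fun e => not_commute_pair hAB (bot_symm (e ▸ hb)), ?_⟩
    rcases hS'.pair W hW B hB with h | h | h
    · exact h
    · exact absurd (special_of_commuting hS' hA hB hW (bot_symm hb) hne.symm hAB h) hns
    · exact absurd h (hd W hW B hB)
  have hnB : ∀ W ∈ S, W ≠ B → ⁅W, B⁆ = ⊥ → W ≠ A ∧ ⁅W, A⁆ = ⊥ := by
    intro W hW hne hb
    refine ⟨fun e => not_commute_pair hAB (e ▸ hb), ?_⟩
    rcases hS'.pair W hW A hA with h | h | h
    · exact h
    · exact absurd (SpecialRankOne.special_swap (special_of_commuting hS' hB hA hW (bot_symm hb)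
        hne.symm (Cfsg.RankOnePair_symm hAB) h)) hns
    · exact absurd h (hd W hW A hA)
  -- all unipotent subgroups commute with the same members
  have hfixW : ∀ W ∈ S, W ≠ A → ⁅W, A⁆ = ⊥ → ∀ x ∈ A ⊔ B, Cfsg.conjBy W x = W := by
    intro W hW hne hb x hx
    have hle : A ⊔ B ≤ Subgroup.centralizer (W : Set G) :=
      sup_le (le_centralizer_of_bot (bot_symm hb))
        (le_centralizer_of_bot (bot_symm (hnA W hW hne hb).2))
    exact conjBy_of_comm fun w hw => (Subgroup.mem_centralizer_iff.mp (hle hx) w hw).symm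
  have hsameA : ∀ U ∈ Cfsg.unipotentSubgroups A B, Same S A U := by
    rintro U ⟨x, hx, rfl⟩ W hW
    constructor
    · rintro ⟨hne, hb⟩
      have h1 := hfixW W hW hne hb x hx
      refine ⟨fun e => hne (conjBy_inj (h1.trans e)), ?_⟩
      have h2 := conj_comm_bot hb x
      rwa [h1] at h2
    · rintro ⟨hne, hb⟩
      have h2 := conj_comm_bot hb x⁻¹
      rw [conjBy_inv_conjBy] at h2
      have h3 : Cfsg.conjBy W x⁻¹ ≠ A := fun e => hne (by rw [← e, conjBy_conjBy_inv])
      have h1 := hfixW _ (hS'.conj_mem W hW _) h3 h2 x hx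
      rw [conjBy_conjBy_inv] at h1
      rw [← h1] at h3 h2
      exact ⟨h3, h2⟩
  -- a member with other commuting members
  obtain ⟨E, hE, hEA, hEb⟩ : ∃ E ∈ S, E ≠ A ∧ ⁅E, A⁆ = ⊥ := by
    obtain ⟨A₀, hA₀, C₀, hC₀, hne, hb⟩ := hcomm
    obtain ⟨g, rfl⟩ := hS.2.2 A₀ hA₀ A hA
    exact ⟨_, hS'.conj_mem C₀ hC₀ g, fun e => hne (conjBy_inj e).symm, conj_comm_bot (bot_symm hb) g⟩
  have hconn := (Cfsg.Agent.S5032.result hS' ⟨A, hA, B, hB, hAB.ne⟩).mpr
    ⟨hS.2, A, hA, not_isolated hA hB hAB⟩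
  obtain ⟨C, hC, hAC, hnotsame⟩ : ∃ C ∈ S, Cfsg.IsRankOnePair A C ∧ ¬ Same S A C := by
    by_contra hall
    push Not at hall
    have key : ∀ {Q}, Relation.ReflTransGen (Cfsg.FAdj S) A Q → Same S A Q := by
      intro Q h
      induction h with
      | refl => exact fun W _ => Iff.rfl
      | @tail P Q _ hPQ ih =>
        obtain ⟨hP, hQ, hpq⟩ := hPQ
        by_cases hQA : Q = A
        · rw [hQA]; exact fun W _ => Iff.rfl
        refine hall Q hQ ?_
        rcases hS'.pair A hA Q hQ with h | h | h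
        · exact absurd (bot_symm ((ih Q hQ).mp ⟨hQA, bot_symm h⟩).2) (not_commute_pair hpq)
        · exact h
        · exact absurd h (hd A hA Q hQ)
    exact ((key (hconn A hA E hE)) E hE).mp ⟨hEA, hEb⟩ |>.1 rfl
  obtain ⟨D, hD, hDC, hDCb, hAD⟩ : ∃ D ∈ S, D ≠ C ∧ ⁅D, C⁆ = ⊥ ∧ Cfsg.IsRankOnePair A D := by
    simp only [Same, not_forall] at hnotsame
    obtain ⟨W, hW, hiff⟩ := hnotsame
    by_cases h1 : W ≠ C ∧ ⁅W, C⁆ = ⊥
    · refine ⟨W, hW, h1.1, h1.2, ?_⟩
      rcases hS'.pair A hA W hW with h | h | h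
      · refine absurd (iff_of_true ⟨fun e => not_commute_pair hAC (e ▸ h1.2), bot_symm h⟩ h1) hiff
      · exact h
      · exact absurd h (hd A hA W hW)
    · have h2 : W ≠ A ∧ ⁅W, A⁆ = ⊥ := by
        by_contra h
        exact hiff (iff_of_false h h1)
      have hWC : W ≠ C := fun e => not_commute_pair hAC (bot_symm (e ▸ h2.2))
      have hp : Cfsg.IsRankOnePair W C := by
        rcases hS'.pair W hW C hC with h | h | h
        · exact absurd ⟨hWC, h⟩ h1
        · exact h
        · exact absurd h (hd W hW C hC)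
      obtain ⟨x, -, e1, e2⟩ := exists_conj_pair hAC (right_mem_unipotent hAC)
        (self_mem_unipotent A C) hAC.ne.symm
      refine ⟨Cfsg.conjBy W x, hS'.conj_mem W hW x, fun e => h2.1 (conjBy_inj (e.trans e1.symm)), ?_, ?_⟩
      · have := conj_comm_bot h2.2 x
        rwa [e1] at this
      · have := pair_conj hp x
        rw [e2] at this
        exact Cfsg.RankOnePair_symm this
  have hmem : ∀ U ∈ Cfsg.unipotentSubgroups A B, U ∈ S := by
    rintro U ⟨x, -, rfl⟩; exact hS'.conj_mem A hA x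
  have hpair : ∀ U ∈ Cfsg.unipotentSubgroups A B, Cfsg.IsRankOnePair C U ∧ Cfsg.IsRankOnePair D U := by
    intro U hU
    have hsU := hsameA U hU
    constructor
    · rcases hS'.pair C hC U (hmem U hU) with h | h | h
      · have hne : C ≠ U := fun e => hnotsame (e ▸ hsU)
        exact absurd (bot_symm ((hsU C hC).mpr ⟨hne, h⟩).2) (not_commute_pair hAC)
      · exact h
      · exact absurd h (hd C hC U (hmem U hU))
    · rcases hS'.pair D hD U (hmem U hU) with h | h | h
      · by_cases hne : D = U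
        · exact absurd (bot_symm ((hsU C hC).mpr ⟨hne ▸ hDC.symm, hne ▸ bot_symm hDCb⟩).2)
            (not_commute_pair hAC)
        · exact absurd (bot_symm ((hsU D hD).mpr ⟨hne, h⟩).2) (not_commute_pair hAD)
      · exact h
      · exact absurd h (hd D hD U (hmem U hU))
  have K : Conf S A B C D :=
    { hS := hS'
      mem := hmem
      same := fun U hU V hV W hW => ((hsameA U hU W hW).symm.trans (hsameA V hV W hW))
      pair := hAB
      memC := hC
      memD := hD
      hne := hDC.symm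
      comm := bot_symm hDCb
      pC := fun U hU => (hpair U hU).1
      pD := fun U hU => (hpair U hU).2 }
  have hexp : ∀ W ∈ S, ∀ w ∈ W, 0 < orderOf w ∧ orderOf w ≤ 3 := by
    intro W hW w hw
    obtain ⟨g, rfl⟩ := hS.2.2 A hA W hW
    rw [mem_conjBy] at hw
    have hord : orderOf w = orderOf (g⁻¹ * w * g) := by
      have := (MulAut.conj g⁻¹).orderOf_eq w
      simpa using this.symm
    rw [hord]
    rcases K.exponent hw with h | h
    · have := Nat.le_of_dvd (by norm_num) (orderOf_dvd_of_pow_eq_one h)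
      exact ⟨(isOfFinOrder_iff_pow_eq_one.mpr ⟨2, by norm_num, h⟩).orderOf_pos, by omega⟩
    · have := Nat.le_of_dvd (by norm_num) (orderOf_dvd_of_pow_eq_one h)
      exact ⟨(isOfFinOrder_iff_pow_eq_one.mpr ⟨3, by norm_num, h⟩).orderOf_pos, this⟩
  obtain ⟨A₀, B₀, hA₀, hB₀, k, hk, h3, φ, hrange, hker, hup, hlow⟩ := hH hd hexp A hA B ⟨hB, hAB⟩
  letI := hk
  open CfsgLib.Perm.SL2Unipotent in
  classical
  obtain ⟨t, ht0, ht2⟩ : ∃ t : k, t ≠ 0 ∧ t ^ 2 ≠ 1 := by
    by_contra hall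
    push Not at hall
    have hsub : (Set.univ : Set k) ⊆ {0, 1, -1} := fun t _ => by
      simp only [Set.mem_insert_iff, Set.mem_singleton_iff]
      by_cases h : t = 0
      · exact Or.inl h
      · exact Or.inr (sq_eq_one_iff.mp (hall t h))
    have h5 := Set.encard_le_encard hsub
    rw [Set.encard_univ] at h5
    have h6 : Set.encard ({0, 1, -1} : Set k) ≤ 3 :=
      (Set.encard_insert_le _ _).trans (by
        calc Set.encard ({1, -1} : Set k) + 1 ≤ (Set.encard ({-1} : Set k) + 1) + 1 :=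
              add_le_add_left (Set.encard_insert_le _ _) 1
          _ = 3 := by rw [Set.encard_singleton]; norm_num)
    exact absurd (h5.trans h6) (not_le.mpr h3)
  obtain ⟨d, hdv⟩ : ∃ d : Matrix.SpecialLinearGroup (Fin 2) k, d.1 = !![t, 0; 0, t⁻¹] :=
    ⟨⟨!![t, 0; 0, t⁻¹], by rw [Matrix.det_fin_two_of]; field_simp; ring⟩, rfl⟩
  have hdup : ∀ c : k, d * up c = up (t ^ 2 * c) * d := fun c => by
    apply sl_ext <;>
      simp [hdv, up_val, Matrix.SpecialLinearGroup.coe_mul, Matrix.mul_apply, Fin.sum_univ_two] <;>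
      field_simp <;> ring
  have hdlow : ∀ c : k, d * low c = low (c / t ^ 2) * d := fun c => by
    apply sl_ext <;>
      simp [hdv, low_val, Matrix.SpecialLinearGroup.coe_mul, Matrix.mul_apply, Fin.sum_univ_two] <;>
      field_simp <;> ring
  have hupA : ∀ c : k, φ (up c) ∈ A := fun c => hA₀ (hup ▸ ⟨_, mem_upper.mpr ⟨c, rfl⟩, rfl⟩)
  have hlowB : ∀ c : k, φ (low c) ∈ B := fun c => hB₀ (hlow ▸ ⟨_, mem_lower.mpr ⟨c, rfl⟩, rfl⟩)
  have hconjup : ∀ c : k, φ d * φ (up c) * (φ d)⁻¹ = φ (up (t ^ 2 * c)) := fun c => by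
    rw [← map_mul, hdup, map_mul, mul_inv_cancel_right]
  have hconjlow : ∀ c : k, φ d * φ (low c) * (φ d)⁻¹ = φ (low (c / t ^ 2)) := fun c => by
    rw [← map_mul, hdlow, map_mul, mul_inv_cancel_right]
  have hupne : ∀ c : k, φ (up c) = 1 → c = 0 := fun c hc => by
    have h1 := Subgroup.mem_center_iff.mp (hker hc) (low 1)
    simpa [up_val, low_val, Matrix.SpecialLinearGroup.coe_mul, Matrix.mul_apply, Fin.sum_univ_two] using
      congrArg (fun g : Matrix.SpecialLinearGroup (Fin 2) k => g.1 0 0) h1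
  have hlowne : ∀ c : k, φ (low c) = 1 → c = 0 := fun c hc => by
    have h1 := Subgroup.mem_center_iff.mp (hker hc) (up 1)
    simpa [up_val, low_val, Matrix.SpecialLinearGroup.coe_mul, Matrix.mul_apply, Fin.sum_univ_two] using
      congrArg (fun g : Matrix.SpecialLinearGroup (Fin 2) k => g.1 0 0) h1
  have hTI : ∀ {U V : Subgroup G} {x : G}, U ∈ S → V ∈ S → Cfsg.IsRankOnePair U V → x ∈ U →
      φ d * x * (φ d)⁻¹ ∈ U → φ d * x * (φ d)⁻¹ ≠ 1 → Cfsg.conjBy U (φ d) = U := by
    intro U V x hU hV hp hx hx' hne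
    refine ((inf_eq_bot_or_eq hS' hV hp (hS'.conj_mem U hU (φ d))).resolve_left fun e => hne ?_).symm
    rw [← Subgroup.mem_bot, ← e]
    exact Subgroup.mem_inf.mpr ⟨hx', conjBy_conj_mem hx⟩
  have h1 : Cfsg.conjBy A (φ d) = A := by
    refine hTI hA hB hAB (hupA 1) (hconjup 1 ▸ hupA _) ?_
    rw [hconjup, mul_one]
    exact fun e => pow_ne_zero 2 ht0 (hupne _ e)
  have h2 : Cfsg.conjBy B (φ d) = B := by
    refine hTI hB hA (Cfsg.RankOnePair_symm hAB) (hlowB 1) (hconjlow 1 ▸ hlowB _) ?_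
    rw [hconjlow]
    exact fun e => one_div_ne_zero (pow_ne_zero 2 ht0) (hlowne _ e)
  have hdiag : φ d ∈ Cfsg.rankOneDiagonal A B :=
    ⟨⟨(sup_le_sup hA₀ hB₀) (hrange ▸ ⟨d, rfl⟩), conjBy_eq_iff_mem_normalizer.mp h1⟩,
      conjBy_eq_iff_mem_normalizer.mp h2⟩
  have h4 := K.diag_centralizes _ hdiag _ (hupA 1)
  rw [hconjup, mul_one] at h4
  have h5 : φ (up (t ^ 2 - 1)) = 1 := by
    rw [sub_eq_add_neg, ← up_mul, map_mul, h4, ← map_mul, up_mul, add_neg_cancel, up_zero, map_one]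
  exact ht2 (sub_eq_zero.mp (hupne _ h5))

end Cfsg.Agent.S5039
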