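import Cfsg.Statements.S5040
import Cfsg.Agent.Lib.Perm.RootPath
import Cfsg.Agent.Lib.Perm.RootClass

set_option autoImplicit false
open Cfsg

namespace Cfsg.Agent.S5040

/-- Let S be a non-degenerate class of abstract root subgroups of G and Δ a weak TI-subset of S. Then the members of Δ commute with one another elementwise. -/
theorem result {G : Type*} [Group G] {S : Set (Subgroup G)} (hS : Cfsg.IsRootSubgroupClass S) (hnd : Cfsg.IsNondegenerateRootSet S)
    {Δ : Set (Subgroup G)} (hΔ : Cfsg.IsWeakTISubset S Δ) : Cfsg.IsAbelianFamily Δ := by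
  open CfsgLib.Perm RankOne RootSet RootLine RootPath RootClass in
  have hS' := hS.1
  obtain ⟨hΔS, -, hne, hTI⟩ := hΔ
  let St : Subgroup G :=
    { carrier := {g | (fun A => Cfsg.conjBy A g) '' Δ = Δ}
      one_mem' := by simp [conjBy_one]
      mul_mem' := fun {g h} hg hh => by
        simp only [Set.mem_setOf_eq] at hg hh ⊢
        conv_rhs => rw [← hg, ← hh, Set.image_image]
        exact Set.image_congr fun x _ => conjBy_mul x g h
      inv_mem' := fun {g} hg => by
        simp only [Set.mem_setOf_eq] at hg ⊢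
        conv_lhs => rw [← hg, Set.image_image]
        simp [conjBy_inv_conjBy] }
  have hfix : ∀ W ∈ S, ∀ X ∈ Δ, ⁅X, W⁆ = ⊥ → W ≤ St := by
    intro W hW X hX hb d hd
    by_cases hd1 : d = 1
    · rw [hd1]; exact St.one_mem
    rcases hTI d ⟨hd1, W, hW, hd⟩ with e | e
    · exact e
    · exact (Set.disjoint_left.mp e ⟨X, hX,
        conjBy_of_comm fun x hx => (commutes_of_bot hb hx hd).symm⟩ hX).elim
  have hnotop : ∀ A ∈ Δ, ∀ B ∈ S, Cfsg.IsRankOnePair A B → B ≤ St → False := by
    intro A hA B hB h hBSt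
    have htop : St = ⊤ := by
      rw [eq_top_iff, ← generate hS hnd (hΔS hA) hB h]
      exact sup_le (iSup₂_le fun C hC => hfix C hC.1.1 A hA hC.1.2.2) hBSt
    refine hne (Set.Subset.antisymm hΔS fun W hW => ?_)
    obtain ⟨g, rfl⟩ := hS.2.2 A (hΔS hA) W hW
    have hg : g ∈ St := htop.symm ▸ Subgroup.mem_top g
    exact Set.ext_iff.mp hg _ |>.mp ⟨A, hA, rfl⟩
  have hbot : ∀ A ∈ Δ, ∀ B ∈ Δ, ⁅A, B⁆ = ⊥ := by
    intro A hA B hB
    rcases hS'.pair A (hΔS hA) B (hΔS hB) with h | h | h
    · exact h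
    · refine (hnotop A hA B (hΔS hB) h (hfix B (hΔS hB) B hB (bot_of_commute fun x hx y hy => ?_))).elim
      exact congrArg Subtype.val ((hS'.commutative B (hΔS hB)).1.comm (⟨x, hx⟩ : B) ⟨y, hy⟩)
    · exfalso
      have hiso := all_not_isolated hS hnd.2.1
      have hBA := commCase_swap h
      have hl := linePartners_of_case hS' (hΔS hB) (hiso B (hΔS hB)) (hΔS hA) hBA
      obtain ⟨P, hP, hCP⟩ := exists_mid hS' hiso (hΔS hB) hl
      have hPC : ⁅P, ⁅B, A⁆⁆ = B := by rw [Subgroup.commutator_comm]; exact hCP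
      have hp := opposite hS' hP hBA.1 (hΔS hB) (hΔS hA) hPC rfl
      refine hnotop A hA P hP (Cfsg.RankOnePair_symm hp) (hfix P hP B hB ?_)
      rw [Subgroup.commutator_comm]
      have hc : Cfsg.RootCommutatorCase S P ⁅B, A⁆ := commCase_of_mem hS' hP hBA.1 (hPC.symm ▸ hΔS hB)
      have := bot_left_of_case hc
      rwa [hPC] at this
  exact fun A hA B hB a ha b hb => commutes_of_bot (hbot A hA B hB) ha hb

end Cfsg.Agent.S5040
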