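import Cfsg.Statements.S5043
import Cfsg.Agent.Lib.Perm.RootModel.Dyad
import Cfsg.Agent.Lib.Classical.SLBasic

set_option autoImplicit false
open Matrix
open Cfsg

namespace Cfsg.Agent.S5043

/-- Let k be a field and n a natural number. In SL_{n+3}(k) (so in every dimension at least 3) the conjugates of the root subgroup of elementary transvections 1 + c E₁₂ (c ∈ k) — that is, the groups of transvections attached to an incident point–hyperplane pair — form a non-degenerate class of abstract k-root subgroups of SL_{n+3}(k) whose graph of rank one pairs is connected. -/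
theorem result (k : Type*) [Field k] (n : ℕ) :
    Cfsg.IsRootSubgroupClass {A : Subgroup (Matrix.SpecialLinearGroup (Fin (n + 3)) k) |
        ∃ g : Matrix.SpecialLinearGroup (Fin (n + 3)) k,
          A = Cfsg.conjBy (Subgroup.closure {t : Matrix.SpecialLinearGroup (Fin (n + 3)) k |
            ∃ c : k, (t : Matrix (Fin (n + 3)) (Fin (n + 3)) k) = Matrix.transvection 0 1 c}) g} ∧
    Cfsg.IsNondegenerateRootSet {A : Subgroup (Matrix.SpecialLinearGroup (Fin (n + 3)) k) |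
        ∃ g : Matrix.SpecialLinearGroup (Fin (n + 3)) k,
          A = Cfsg.conjBy (Subgroup.closure {t : Matrix.SpecialLinearGroup (Fin (n + 3)) k |
            ∃ c : k, (t : Matrix (Fin (n + 3)) (Fin (n + 3)) k) = Matrix.transvection 0 1 c}) g} ∧
    Cfsg.IsKRootSubgroupSet k {A : Subgroup (Matrix.SpecialLinearGroup (Fin (n + 3)) k) |
        ∃ g : Matrix.SpecialLinearGroup (Fin (n + 3)) k,
          A = Cfsg.conjBy (Subgroup.closure {t : Matrix.SpecialLinearGroup (Fin (n + 3)) k |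
            ∃ c : k, (t : Matrix (Fin (n + 3)) (Fin (n + 3)) k) = Matrix.transvection 0 1 c}) g} ∧
    Cfsg.IsConnectedFamily (Cfsg.FAdj {A : Subgroup (Matrix.SpecialLinearGroup (Fin (n + 3)) k) |
        ∃ g : Matrix.SpecialLinearGroup (Fin (n + 3)) k,
          A = Cfsg.conjBy (Subgroup.closure {t : Matrix.SpecialLinearGroup (Fin (n + 3)) k |
            ∃ c : k, (t : Matrix (Fin (n + 3)) (Fin (n + 3)) k) = Matrix.transvection 0 1 c}) g})
      {A : Subgroup (Matrix.SpecialLinearGroup (Fin (n + 3)) k) |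
        ∃ g : Matrix.SpecialLinearGroup (Fin (n + 3)) k,
          A = Cfsg.conjBy (Subgroup.closure {t : Matrix.SpecialLinearGroup (Fin (n + 3)) k |
            ∃ c : k, (t : Matrix (Fin (n + 3)) (Fin (n + 3)) k) = Matrix.transvection 0 1 c}) g} := by
  open Matrix CfsgLib.Perm CfsgLib.Perm.RankOne CfsgLib.Perm.RootModel in
  classical
  let N := Fin (n + 3)
  let ι : Matrix.SpecialLinearGroup N k →* Matrix N N k :=
    { toFun := fun g => g.1, map_one' := rfl, map_mul' := fun _ _ => rfl }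
  have hι : Function.Injective ι := fun g h e => Subtype.ext e
  let Λ : Set (Matrix N N k) :=
    {X | ∃ x φ : N → k, x ≠ 0 ∧ φ ≠ 0 ∧ φ ⬝ᵥ x = 0 ∧ X = vecMulVec x φ}
  let S' : Set (Subgroup (Matrix.SpecialLinearGroup N k)) := {A | ∃ X ∈ Λ, Root k ι X A}
  have hne : ∀ X ∈ Λ, X ≠ 0 := by
    rintro X ⟨x, φ, hx, hφ, -, rfl⟩; exact Dyad.dyad_ne_zero hx hφ
  have hroot : ∀ X ∈ Λ, ∃ A, Root k ι X A := by
    rintro X ⟨x, φ, hx, hφ, h0, rfl⟩
    refine ⟨_, Root.closure hι (by rw [Dyad.dyad_mul, h0, zero_smul]) fun c =>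
      ⟨⟨1 + c • vecMulVec x φ, ?_⟩, rfl⟩⟩
    rw [← Matrix.smul_vecMulVec, Dyad.det_one_add, dotProduct_smul, h0, smul_zero, add_zero]
  have hlink : ∀ X ∈ Λ, ∀ Y ∈ Λ, ∃ Z ∈ Λ,
      (∃ l : k, l ≠ 0 ∧ X * Z * X = l • X ∧ Z * X * Z = l • Z) ∧
      (∃ l : k, l ≠ 0 ∧ Z * Y * Z = l • Z ∧ Y * Z * Y = l • Y) := by
    rintro X ⟨x, φ, hx, hφ, h0, rfl⟩ Y ⟨y, ψ, hy, hψ, h0', rfl⟩
    obtain ⟨z, hz1, hz2⟩ := Dyad.exists_dot_ne hφ hψ
    have hz : z ≠ 0 := fun e => hz1 (by rw [e, dotProduct_zero])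
    have key : ∀ {w χ : N → k}, w ≠ 0 → χ ⬝ᵥ w = 0 → χ ⬝ᵥ z ≠ 0 → ∀ c : k, w ≠ c • z := by
      intro w χ hw h h' c e
      rw [e, dotProduct_smul, smul_eq_mul] at h
      rcases mul_eq_zero.1 h with hc | hc
      · exact hw (by rw [e, hc, zero_smul])
      · exact h' hc
    obtain ⟨θ, hθz, hθx, hθy⟩ := Dyad.exists_perp_ne_two hz (key hx h0 hz1) (key hy h0' hz2)
    refine ⟨_, ⟨z, θ, hz, fun e => hθx (by rw [e, zero_dotProduct]), hθz, rfl⟩,
      ⟨_, mul_ne_zero hz1 hθx, Dyad.dyad_three _ _ _ _, by rw [Dyad.dyad_three, mul_comm]⟩,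
      ⟨_, mul_ne_zero hθy hz2, Dyad.dyad_three _ _ _ _, by rw [Dyad.dyad_three, mul_comm]⟩⟩
  have hconn : IsConnectedFamily (FAdj S') S' :=
    RootModel.isConnectedFamily hι Λ S' (fun _ => Iff.rfl) hne hroot hlink
  have hconj : ∀ X ∈ Λ, ∀ g, ι g * X * ι g⁻¹ ∈ Λ := by
    rintro X ⟨x, φ, hx, hφ, h0, rfl⟩ g
    have h1 : ι g⁻¹ * ι g = 1 := by rw [← map_mul, inv_mul_cancel, map_one]
    have h2 : ι g * ι g⁻¹ = 1 := by rw [← map_mul, mul_inv_cancel, map_one]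
    refine ⟨ι g *ᵥ x, φ ᵥ* ι g⁻¹, fun e => hx ?_, fun e => hφ ?_, ?_,
      by rw [Matrix.mul_vecMulVec, Matrix.vecMulVec_mul]⟩
    · rw [← one_mulVec x, ← h1, ← mulVec_mulVec, e, mulVec_zero]
    · rw [← vecMul_one φ, ← h1, ← vecMul_vecMul, e, zero_vecMul]
    · rw [← dotProduct_mulVec, mulVec_mulVec, h1, one_mulVec, h0]
  let T : N → N → Matrix N N k := fun i j => vecMulVec (Pi.single i 1) (Pi.single j 1)
  have hTr : ∀ (i j : N) (c : k), Matrix.transvection i j c = 1 + c • T i j := by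
    intro i j c
    ext a b
    simp [Matrix.transvection, T, Matrix.vecMulVec_apply, Pi.single_apply, Matrix.single_apply]
    grind
  have hTΛ : ∀ i j, i ≠ j → T i j ∈ Λ := fun i j hij =>
    ⟨_, _, by simp, by simp, by simp [hij.symm], rfl⟩
  have h01 : (0 : N) ≠ 1 := by simp
  obtain ⟨A₀, hA₀⟩ := hroot _ (hTΛ 0 1 h01)
  have hA₀eq : Subgroup.closure {t : Matrix.SpecialLinearGroup N k |
      ∃ c : k, (t : Matrix N N k) = Matrix.transvection 0 1 c} = A₀ := by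
    rw [hA₀.eq_closure hι]
    simp only [hTr]
    rfl
  have hA₀S : A₀ ∈ S' := ⟨_, hTΛ 0 1 h01, hA₀⟩
  have hclass := RootModel.isConjClass_of_connected ⟨A₀, hA₀S⟩ hconn
  have hS : {A : Subgroup (Matrix.SpecialLinearGroup (Fin (n + 3)) k) |
        ∃ g : Matrix.SpecialLinearGroup (Fin (n + 3)) k,
          A = Cfsg.conjBy (Subgroup.closure {t : Matrix.SpecialLinearGroup (Fin (n + 3)) k |
            ∃ c : k, (t : Matrix (Fin (n + 3)) (Fin (n + 3)) k) = Matrix.transvection 0 1 c}) g} = S' := by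
    ext A
    rw [Set.mem_setOf_eq, hA₀eq]
    constructor
    · rintro ⟨g, rfl⟩; exact ⟨_, hconj _ (hTΛ 0 1 h01) g, hA₀.conj g⟩
    · exact fun hA => hclass.2 A₀ hA₀S A hA
  rw [hS]
  have hgen : (⨆ A ∈ S', A) = ⊤ := by
    refine CfsgLib.Classical.sl_subgroup_eq_top _ fun i j hij c => ?_
    obtain ⟨A, hA⟩ := hroot _ (hTΛ i j hij)
    obtain ⟨g, hg, hgc⟩ := hA.exists_elt c
    have : Matrix.SpecialLinearGroup.transvection hij c = g := hι ((hTr i j c).trans hgc.symm)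
    rw [this]
    exact Subgroup.mem_iSup_of_mem A (Subgroup.mem_iSup_of_mem ⟨_, hTΛ i j hij, hA⟩ hg)
  have hk : IsKRootSubgroupSet k S' := by
    refine RootModel.isKRootSubgroupSet hι Λ S' (fun _ => Iff.rfl) hne hroot hconj hgen ?_
    rintro X ⟨x, φ, hx, hφ, h0, rfl⟩ Y ⟨y, ψ, hy, hψ, h0', rfl⟩
    exact Dyad.trichotomy (Λ := Λ) (fun a b ha hb hab => ⟨a, b, ha, hb, hab, rfl⟩) hx hφ h0 hy hψ h0'
  have h02 : (0 : N) ≠ 2 := by simp [Fin.ext_iff, N, Nat.mod_eq_of_lt (show 2 < n + 3 by omega)]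
  have h12 : (1 : N) ≠ 2 := by simp [Fin.ext_iff, N, Nat.mod_eq_of_lt (show 2 < n + 3 by omega)]
  obtain ⟨A₁, hA₁⟩ := hroot _ (hTΛ 0 2 h02)
  obtain ⟨A₂, hA₂⟩ := hroot _ (hTΛ 1 0 h01.symm)
  obtain ⟨A₃, hA₃⟩ := hroot _ (hTΛ 1 2 h12)
  have hA₁S : A₁ ∈ S' := ⟨_, hTΛ 0 2 h02, hA₁⟩
  have hA₂S : A₂ ∈ S' := ⟨_, hTΛ 1 0 h01.symm, hA₂⟩
  have hA₃S : A₃ ∈ S' := ⟨_, hTΛ 1 2 h12, hA₃⟩
  have hmul : ∀ i j i' j', T i j * T i' j' = (if j = i' then (1 : k) else 0) • T i j' := by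
    intro i j i' j'
    rw [Dyad.dyad_mul]
    simp [T, Pi.single_apply, eq_comm]
  have hnd : IsNondegenerateRootSet S' := by
    refine ⟨⟨A₀, hA₀S, A₁, hA₁S, fun e => ?_, hA₀.commute hι hA₁ ?_⟩,
      ⟨A₀, hA₀S, A₂, hA₂S,
        (Root.psl2 hι hA₀ hA₂ (one_ne_zero (α := k)) ?_ ?_ (hne _ (hTΛ 0 1 h01))).2⟩,
      ⟨A₀, hA₀S, A₃, hA₃S,
        Root.commutatorCase hι hA₀ hA₃ ?_ ?_ ?_ hA₁S⟩⟩
    · obtain ⟨g, hg, hgc⟩ := hA₀.exists_elt 1
      obtain ⟨c, hc⟩ := hA₁.exists_coef g (e ▸ hg)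
      have := congrFun (congrFun (hgc.symm.trans hc) 0) 1
      simp [T, Matrix.vecMulVec_apply, h12] at this
    · simp [hmul, h01.symm, h02.symm]
    · simp [hmul]
    · simp [hmul]
    · simp [hmul, h02.symm]
    · simp [hmul, h02.symm]
    · simpa [hmul, h02.symm] using hA₁
  exact ⟨⟨hk.1, hclass⟩, hnd, hk, hconn⟩

end Cfsg.Agent.S5043
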