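import Mathlib
import Cfsg.Statements.S5045
import Cfsg.Agent.Lib.Perm.RootInvolution
import Cfsg.Agent.Lib.Involution.BaerSuzuki
import Cfsg.Agent.Lib.Solvable.Cores
-- import your own Cfsg.Agent.* helpers here

set_option autoImplicit false
open Cfsg

namespace Cfsg.Agent.S5045

open CfsgLib.Perm.RootInvolution

variable {G : Type*} [Group G] [Finite G] {D : Set G}

theorem isolated_conj (hD : Cfsg.IsRootInvolutionSet D) {w : G}
    (hw : Cfsg.IsIsolatedElem (Cfsg.OddAdj D) D w) (g : G) :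
    Cfsg.IsIsolatedElem (Cfsg.OddAdj D) D (g * w * g⁻¹) := by
  refine ⟨hD.conj_mem w hw.1 g, fun b => ⟨fun h => ?_, fun h => ?_⟩⟩
  · have h' := oddAdj_conj hD h g⁻¹
    simp only [mul_assoc, inv_inv, inv_mul_cancel_left, inv_mul_cancel, mul_one] at h'
    exact (hw.2 _).1 h'
  · have h' := oddAdj_conj hD h g⁻¹
    simp only [mul_assoc, inv_inv, inv_mul_cancel_left, inv_mul_cancel, mul_one] at h'
    exact (hw.2 _).2 h'

theorem exists_adj (hD : Cfsg.IsRootInvolutionSet D) {a : G}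
    (h : ∃ a' ∈ Cfsg.elemComponentOf (Cfsg.OddAdj D) D a, a' ≠ a) :
    ∃ b, Cfsg.OddAdj D a b := by
  obtain ⟨a', ⟨-, hr⟩, hne⟩ := h
  rcases Relation.ReflTransGen.cases_head hr with rfl | ⟨b, hb, -⟩
  · exact absurd rfl hne
  · exact ⟨b, hb⟩

theorem not_isolated (hD : Cfsg.IsRootInvolutionSet D) {c : G} (hc : c ∈ D)
    (h : ¬ Cfsg.IsIsolatedElem (Cfsg.OddAdj D) D c) : ∃ b, Cfsg.OddAdj D c b := by
  by_contra hno
  push Not at hno
  exact h ⟨hc, fun b => ⟨hno b, fun e => hno b (oddAdj_symm hD e)⟩⟩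

theorem isolated_le (hD : Cfsg.IsRootInvolutionSet D) :
    Subgroup.closure {w | Cfsg.IsIsolatedElem (Cfsg.OddAdj D) D w} ≤ Cfsg.pCore 2 G := by
  rw [Subgroup.closure_le]
  intro w hw
  by_contra hno
  obtain ⟨h, h1, hodd, hinv⟩ := CfsgLib.Involution.BaerSuzuki.exists_inverted_odd w
    (hD.orderOf_eq w hw.1) fun N hN hNp hwN =>
      hno ((CfsgLib.Solvable.Cores.le_pCore (hn := hN) hNp) hwN)
  have hwh : w * h * w⁻¹ = h⁻¹ := hinv
  rw [inv_eq hD hw.1] at hwh
  have hprod : w * (h * w * h⁻¹) = h⁻¹ ^ 2 := by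
    calc w * (h * w * h⁻¹) = (w * h * w) * h⁻¹ := by simp only [mul_assoc]
      _ = h⁻¹ * h⁻¹ := by rw [hwh]
      _ = _ := (pow_two _).symm
  have hodd2 : Odd (orderOf (h⁻¹ ^ 2)) :=
    Odd.of_dvd_nat hodd (orderOf_inv h ▸ orderOf_pow_dvd 2)
  refine (hw.2 (h * w * h⁻¹)).1 ⟨hw.1, hD.conj_mem w hw.1 h, fun e => ?_, by rwa [hprod]⟩
  rw [← e, sq_one hD hw.1] at hprod
  have hdvd : orderOf h⁻¹ ∣ 2 := orderOf_dvd_of_pow_eq_one hprod.symm
  rw [orderOf_inv] at hdvd
  rcases (Nat.dvd_prime Nat.prime_two).mp hdvd with e' | e'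
  · exact h1 (orderOf_eq_one_iff.mp e')
  · rw [e'] at hodd
    exact (by decide : ¬ Odd 2) hodd


/-- Let G be a finite group generated by a set D of root involutions, and W the set of members of D whose product with every other member of D has even order or is trivial (the isolated vertices of the odd-order-product graph on D). Then W is conjugation-invariant and generates a normal 2-subgroup of G meeting D in exactly W; the commutator of two members of D lying in different connected components of that graph, each with more than one member, lies in the subgroup generated by W; and for a in such a component, every member of D commuting with a, different from a and with product with a in D, lies in that component or in W. -/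
theorem result {G : Type*} [Group G] [Finite G] {D : Set G} (hD : Cfsg.IsRootInvolutionSet D) :
    (∀ w ∈ {w | Cfsg.IsIsolatedElem (Cfsg.OddAdj D) D w}, ∀ g : G, g * w * g⁻¹ ∈ {w | Cfsg.IsIsolatedElem (Cfsg.OddAdj D) D w}) ∧
    (Subgroup.closure {w | Cfsg.IsIsolatedElem (Cfsg.OddAdj D) D w}).Normal ∧
    IsPGroup 2 ↥(Subgroup.closure {w | Cfsg.IsIsolatedElem (Cfsg.OddAdj D) D w}) ∧
    (Subgroup.closure {w | Cfsg.IsIsolatedElem (Cfsg.OddAdj D) D w} : Set G) ∩ D = {w | Cfsg.IsIsolatedElem (Cfsg.OddAdj D) D w} ∧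
    (∀ a ∈ D, ∀ b ∈ D, (∃ a' ∈ Cfsg.elemComponentOf (Cfsg.OddAdj D) D a, a' ≠ a) →
      (∃ b' ∈ Cfsg.elemComponentOf (Cfsg.OddAdj D) D b, b' ≠ b) →
      Cfsg.elemComponentOf (Cfsg.OddAdj D) D a ≠ Cfsg.elemComponentOf (Cfsg.OddAdj D) D b →
        a * b * a⁻¹ * b⁻¹ ∈ Subgroup.closure {w | Cfsg.IsIsolatedElem (Cfsg.OddAdj D) D w}) ∧
    (∀ a ∈ D, (∃ a' ∈ Cfsg.elemComponentOf (Cfsg.OddAdj D) D a, a' ≠ a) →
      Cfsg.productPartners D a ⊆ Cfsg.elemComponentOf (Cfsg.OddAdj D) D a ∪ {w | Cfsg.IsIsolatedElem (Cfsg.OddAdj D) D w}) := by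
  have hp2 : IsPGroup 2 ↥(Cfsg.pCore 2 G) := CfsgLib.Solvable.Cores.isPGroup_pCore 2
  refine ⟨fun w hw g => isolated_conj hD hw g, ?_, hp2.to_le (isolated_le hD), ?_, ?_, ?_⟩
  · exact ⟨fun n hn g => by
      induction hn using Subgroup.closure_induction with
      | mem x hx => exact Subgroup.subset_closure (isolated_conj hD hx g)
      | one => simp
      | mul x y _ _ hx hy => rw [← conj_mul]; exact mul_mem hx hy
      | inv x _ hx => rw [← conj_inv]; exact inv_mem hx⟩
  · refine Set.Subset.antisymm (fun d ⟨hd, hdD⟩ => ?_)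
      fun w hw => ⟨Subgroup.subset_closure hw, hw.1⟩
    by_contra hno
    obtain ⟨e, he⟩ := not_isolated hD hdD hno
    obtain ⟨g, hg⟩ := conj_of_oddAdj hD he
    have hd2 := isolated_le hD hd
    have he2 : e ∈ Cfsg.pCore 2 G := by
      rw [← hg]; exact Subgroup.Normal.conj_mem inferInstance d hd2 g
    obtain ⟨k, hk⟩ := hp2 ⟨d * e, mul_mem hd2 he2⟩
    have hk' : (d * e) ^ 2 ^ k = 1 := congrArg Subtype.val hk
    obtain ⟨i, -, hi⟩ := (Nat.dvd_prime_pow Nat.prime_two).mp (orderOf_dvd_of_pow_eq_one hk')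
    have hodd := he.2.2.2
    rw [hi] at hodd
    rcases Nat.eq_zero_or_pos i with rfl | hpos
    · rw [pow_zero, orderOf_eq_one_iff] at hi
      exact he.2.2.1 (by rw [← mul_one d, ← sq_one hD he.2.1, ← mul_assoc, hi, one_mul])
    · exact Nat.not_odd_iff_even.mpr ((Nat.even_pow).mpr ⟨even_two, by omega⟩) hodd
  · intro a ha b hb hca hcb hne
    have hnr : ¬ Relation.ReflTransGen (Cfsg.OddAdj D) a b := by
      intro hr
      apply hne
      ext c
      exact ⟨fun ⟨hc, hac⟩ => ⟨hc, (reach_symm hD hr).trans hac⟩,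
        fun ⟨hc, hbc⟩ => ⟨hc, hr.trans hbc⟩⟩
    by_cases hcm : Commute a b
    · rw [hcm.eq, mul_inv_cancel_right, mul_inv_cancel]
      exact one_mem _
    · obtain ⟨hta, htb⟩ := tri_bracket hD ha hb (fun h => hnr (Relation.ReflTransGen.single h)) hcm
      rw [comm_eq_sq hD ha hb]
      apply Subgroup.subset_closure
      by_contra hno
      obtain ⟨d, hd⟩ := not_isolated hD hta.right hno
      obtain ⟨a', ha'⟩ := exists_adj hD hca
      obtain ⟨b', hb'⟩ := exists_adj hD hcb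
      exact hnr ((reach_of_tri hD hta ha' hd).trans
        (reach_symm hD (reach_of_tri hD htb hb' hd)))
  · rintro a ha hca e ⟨⟨he, hea, -⟩, hed⟩
    by_cases hiso : Cfsg.IsIsolatedElem (Cfsg.OddAdj D) D e
    · exact Or.inr hiso
    · obtain ⟨d, hd⟩ := not_isolated hD he hiso
      obtain ⟨a', ha'⟩ := exists_adj hD hca
      exact Or.inl ⟨he, reach_of_tri hD ⟨ha, he, hea.symm, hea ▸ hed⟩ ha' hd⟩

end Cfsg.Agent.S5045
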