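import Mathlib
import Cfsg.Statements.S5046
import Cfsg.Agent.Lib.Perm.RootInvolutionSame
-- import your own Cfsg.Agent.* helpers here

set_option autoImplicit false
open Cfsg

namespace Cfsg.Agent.S5046

open CfsgLib.Perm.RootInvolution

/-- Let G be a finite group generated by a set D of root involutions whose odd-order-product graph is connected, and d ∈ D. Then the members e of D with the same commuting members as d are exactly those for which the union of the commuting members of d and the members whose product with d has order 4 equals the corresponding union for e. -/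
theorem result {G : Type*} [Group G] [Finite G] {D : Set G} (hD : Cfsg.IsRootInvolutionSet D)
    (hc : Cfsg.IsConnectedSet (Cfsg.OddAdj D) D) {d : G} (hd : d ∈ D) :
    Cfsg.sameCommutingClass D d =
      {e | e ∈ D ∧ Cfsg.commutingMembers D d ∪ Cfsg.fourPartners D d = Cfsg.commutingMembers D e ∪ Cfsg.fourPartners D e} := by
  have key : ∀ x ∈ D, Cfsg.commutingMembers D x ∪ Cfsg.fourPartners D x =
      D \ Cfsg.oddPartners D x := by
    intro x hx
    ext y
    constructor
    · rintro (⟨hy, hc'⟩ | ⟨hy, h4⟩)
      · exact ⟨hy, fun h => not_commute hD ((mem_oddPartners hD hx).mp h) hc'.symm⟩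
      · refine ⟨hy, fun h => ?_⟩
        have := h.2.2
        rw [h4] at this
        exact (by decide : ¬ Odd 4) this
    · rintro ⟨hy, hn⟩
      by_cases hcm : Commute x y
      · exact Or.inl ⟨hy, hcm.symm⟩
      · exact Or.inr ⟨hy, (order_four hD hx hy (fun h => hn ((mem_oddPartners hD hx).mpr h))
          hcm).1⟩
  ext e
  constructor
  · rintro ⟨he, h⟩
    refine ⟨he, ?_⟩
    rw [key d hd, key e he,
      (CfsgLib.Perm.RootInvolution.oddPartners_eq_iff hD hc hd he).mpr h]
  · rintro ⟨he, h⟩
    refine ⟨he, (CfsgLib.Perm.RootInvolution.oddPartners_eq_iff hD hc hd he).mp ?_⟩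
    rw [key d hd, key e he] at h
    have hsub : ∀ x, Cfsg.oddPartners D x ⊆ D := fun x y hy => hy.1
    rw [← Set.sdiff_sdiff_cancel_left (hsub d), h, Set.sdiff_sdiff_cancel_left (hsub e)]

end Cfsg.Agent.S5046
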