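import Mathlib
import Cfsg.Statements.S5048
import Cfsg.Agent.Lib.Perm.RootInvolutionSame
-- import your own Cfsg.Agent.* helpers here

set_option autoImplicit false
open Cfsg

namespace Cfsg.Agent.S5048

open CfsgLib.Perm.RootInvolution
open scoped commutatorElement

variable {G : Type*} [Group G] [Finite G] {D : Set G}

theorem exists_tri (hD : Cfsg.IsRootInvolutionSet D) (hc : Cfsg.IsConnectedSet (Cfsg.OddAdj D) D)
    (hDD : (D ∩ Cfsg.commutingProducts D).Nonempty) {a : G} (ha : a ∈ D) :
    ∃ b, Tri D a b := by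
  obtain ⟨x, hx, p, hp, q, hq, hpq, -, rfl⟩ := hDD
  obtain ⟨g, rfl⟩ := exists_conj hD hc hp ha
  exact ⟨_, (⟨hp, hq, hpq, hx⟩ : Tri D p q).conj hD g⟩

theorem eq_top_of_adj (hD : Cfsg.IsRootInvolutionSet D)
    (hc : Cfsg.IsConnectedSet (Cfsg.OddAdj D) D) (hDD : (D ∩ Cfsg.commutingProducts D).Nonempty)
    (N : Subgroup G) [N.Normal] {a z : G} (hz : Cfsg.OddAdj D a z) (haz : a * z ∈ N) :
    N = ⊤ := by
  obtain ⟨b, hab⟩ := exists_tri hD hc hDD hz.1
  have ha := hab.left
  have hb := hab.right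
  let q := QuotientGroup.mk' N
  have hqz : q z = q a := by
    have h : q (a * z) = 1 := (QuotientGroup.eq_one_iff _).mpr haz
    rw [map_mul] at h
    rw [eq_inv_of_mul_eq_one_right h, ← map_inv, inv_eq hD ha]
  suffices h : ∃ d ∈ D, d ∈ N by
    obtain ⟨d, hdD, hdN⟩ := h
    rw [eq_top_iff, ← hD.generates, Subgroup.closure_le]
    intro e he
    obtain ⟨g, rfl⟩ := exists_conj hD hc hdD he
    exact Subgroup.Normal.conj_mem inferInstance d hdN g
  by_cases hzb : Cfsg.OddAdj D b z
  · refine ⟨b * a, hab.symm.mem, (QuotientGroup.eq_one_iff _).mp (?_ : q (b * a) = 1)⟩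
    have h2 : q (b * a) * q (b * a) = 1 := by
      rw [← map_mul, sq_one hD hab.symm.mem, map_one]
    obtain ⟨j, hj⟩ := hzb.2.2.2
    have hn : q (b * z) ^ (2 * j + 1) = 1 := by
      rw [← hj, ← map_pow, pow_orderOf_eq_one, map_one]
    rw [map_mul q b z, hqz, ← map_mul, pow_succ, pow_mul, pow_two, h2, one_pow, one_mul] at hn
    exact hn
  · have hbz : ¬ Commute b z := not_commute_of_adj hD hab.symm hz
    refine ⟨b * z * b * z, (order_four hD hb hz.2.1 hzb hbz).2,
      (QuotientGroup.eq_one_iff _).mp (?_ : q (b * z * b * z) = 1)⟩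
    simp only [map_mul, hqz]
    rw [← map_mul, ← map_mul, ← map_mul, mul_assoc (b * a) b a, sq_one hD hab.symm.mem, map_one]

theorem isPGroup_closure (hD : Cfsg.IsRootInvolutionSet D) {K : Set G} (hK : K ⊆ D)
    (hno : ∀ u ∈ K, ∀ w ∈ K, ¬ Cfsg.OddAdj D u w)
    (hconj : ∀ u ∈ K, ∀ g ∈ Subgroup.closure K, g * u * g⁻¹ ∈ K) :
    IsPGroup 2 (Subgroup.closure K) := by
  haveI : Fact (Nat.Prime 2) := ⟨Nat.prime_two⟩
  have htop : (⊤ : Subgroup (Subgroup.closure K)) ≤ Cfsg.pCore 2 (Subgroup.closure K) := by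
    rw [← Subgroup.closure_closure_coe_preimage (k := K), Subgroup.closure_le]
    rintro ⟨w, hwL⟩ hw
    by_contra hnot
    obtain ⟨g, g1, hodd, hinv⟩ := CfsgLib.Involution.BaerSuzuki.exists_inverted_odd
      (⟨w, hwL⟩ : Subgroup.closure K) ((Subgroup.orderOf_mk w hwL).trans (hD.orderOf_eq w (hK hw)))
      fun N hN hNp hwN => hnot ((CfsgLib.Solvable.Cores.le_pCore (hn := hN) hNp) hwN)
    have hwg : w * (g : G) * w = (g : G)⁻¹ := by
      have := congrArg Subtype.val hinv
      simpa [inv_eq hD (hK hw)] using this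
    have hprod : w * ((g : G) * w * (g : G)⁻¹) = (g : G)⁻¹ ^ 2 := by
      calc w * ((g : G) * w * (g : G)⁻¹) = (w * (g : G) * w) * (g : G)⁻¹ := by
            simp only [mul_assoc]
        _ = _ := by rw [hwg, pow_two]
    have hw' := hconj w hw g g.2
    refine hno w hw _ hw' ⟨hK hw, hK hw', fun e' => ?_, ?_⟩
    · rw [← e', sq_one hD (hK hw)] at hprod
      have hdvd : orderOf (g : G)⁻¹ ∣ 2 := orderOf_dvd_of_pow_eq_one hprod.symm
      rw [orderOf_inv, Subgroup.orderOf_coe] at hdvd
      rcases (Nat.dvd_prime Nat.prime_two).mp hdvd with e'' | e''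
      · exact g1 (orderOf_eq_one_iff.mp e'')
      · rw [e''] at hodd
        exact (by decide : ¬ Odd 2) hodd
    · rw [hprod]
      refine Odd.of_dvd_nat hodd ?_
      rw [← Subgroup.orderOf_coe, ← orderOf_inv (g : G)]
      exact orderOf_pow_dvd 2
  intro y
  obtain ⟨i, hi⟩ := CfsgLib.Solvable.Cores.isPGroup_pCore (G := Subgroup.closure K) 2
    ⟨y, htop trivial⟩
  exact ⟨i, congrArg Subtype.val hi⟩

theorem le_twoZCore (hD : Cfsg.IsRootInvolutionSet D)
    (hc : Cfsg.IsConnectedSet (Cfsg.OddAdj D) D) (hDD : (D ∩ Cfsg.commutingProducts D).Nonempty)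
    (N : Subgroup G) [hN : N.Normal] (hne : N ≠ ⊤) : N ≤ Cfsg.twoZCore G := by
  have hcomm : ∀ d ∈ D, ∀ n ∈ N, n * d * n⁻¹ * d ∈ Cfsg.pCore 2 G := by
    intro d hd n hn
    let K : Set G := {u | u ∈ D ∧ d * u ∈ N}
    have hKK : ∀ u ∈ K, ∀ w ∈ K, u * w ∈ N := by
      intro u hu w hw
      have h := mul_mem (inv_mem hu.2) hw.2
      rwa [mul_inv_rev, inv_eq hD hd, inv_eq hD hu.1, mul_assoc, cancel hD hd] at h
    have hno : ∀ u ∈ K, ∀ w ∈ K, ¬ Cfsg.OddAdj D u w := fun u hu w hw h =>
      hne (eq_top_of_adj hD hc hDD N h (hKK u hu w hw))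
    have hnK : ∀ m ∈ N, ∀ u ∈ K, m * u * m⁻¹ ∈ K := by
      intro m hm u hu
      refine ⟨hD.conj_mem u hu.1 m, ?_⟩
      rw [show d * (m * u * m⁻¹) = (d * m * d⁻¹) * (d * u) * m⁻¹ by group]
      exact mul_mem (mul_mem (hN.conj_mem m hm d) hu.2) (inv_mem hm)
    have hgK : ∀ g ∈ K, ∀ u ∈ K, g * u * g⁻¹ ∈ K := by
      intro g hg u hu
      refine ⟨hD.conj_mem u hu.1 g, ?_⟩
      rw [inv_eq hD hg.1, show d * (g * u * g) = (d * g) * (u * g) by group]
      exact mul_mem hg.2 (hKK u hu g hg)
    have hconj : ∀ u ∈ K, ∀ g ∈ Subgroup.closure K, g * u * g⁻¹ ∈ K := by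
      intro u hu g hg
      induction hg using Subgroup.closure_induction'' generalizing u with
      | mem w hw => exact hgK w hw u hu
      | inv_mem w hw => rw [inv_eq hD hw.1]; exact hgK w hw u hu
      | one => simpa using hu
      | mul g g' _ _ hg hg' =>
        have := hg _ (hg' u hu)
        simpa [mul_assoc, mul_inv_rev] using this
    let M : Subgroup G := Subgroup.closure K ⊓ N
    haveI hMn : (M.subgroupOf N).Normal := by
      refine ⟨fun x hx m => ?_⟩
      have hxL := (Subgroup.mem_inf.mp (Subgroup.mem_subgroupOf.mp hx)).1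
      rw [Subgroup.mem_subgroupOf]
      refine Subgroup.mem_inf.mpr ⟨?_, (m * x * m⁻¹).2⟩
      have key : ∀ y ∈ Subgroup.closure K, (m : G) * y * (m : G)⁻¹ ∈ Subgroup.closure K := by
        intro y hy
        induction hy using Subgroup.closure_induction with
        | mem w hw => exact Subgroup.subset_closure (hnK m m.2 w hw)
        | one => simp
        | mul u v _ _ hu hv => rw [← conj_mul]; exact mul_mem hu hv
        | inv u _ hu => rw [← conj_inv]; exact inv_mem hu
      simpa using key x hxL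
    have hp : IsPGroup 2 (M.subgroupOf N) := by
      have hM2 : IsPGroup 2 M := (isPGroup_closure hD (fun u h => h.1) hno hconj).to_le inf_le_left
      exact hM2.comap_of_injective N.subtype N.subtype_injective
    have hdK : d ∈ K := ⟨hd, by rw [sq_one hD hd]; exact one_mem N⟩
    have hmem : n * d * n⁻¹ * d ∈ M := by
      refine Subgroup.mem_inf.mpr ⟨?_, ?_⟩
      · exact mul_mem (Subgroup.subset_closure (hnK n hn d hdK)) (Subgroup.subset_closure hdK)
      · rw [show n * d * n⁻¹ * d = n * (d * n⁻¹ * d) by group]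
        refine mul_mem hn ?_
        have := hN.conj_mem _ (inv_mem hn) d
        rwa [inv_eq hD hd] at this
    exact CfsgLib.Solvable.Cores.map_pCore_le 2 N
      ⟨⟨_, (Subgroup.mem_inf.mp hmem).2⟩, CfsgLib.Solvable.Cores.le_pCore hp hmem, rfl⟩
  intro n hn
  rw [Cfsg.twoZCore, Subgroup.mem_comap, Subgroup.mem_center_iff]
  intro y
  obtain ⟨g, rfl⟩ := QuotientGroup.mk'_surjective _ y
  have hg : g ∈ Subgroup.closure D := hD.generates ▸ Subgroup.mem_top g
  induction hg using Subgroup.closure_induction with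
  | mem d hd =>
    have h : QuotientGroup.mk' (Cfsg.pCore 2 G) (n * d * n⁻¹ * d) = 1 :=
      (QuotientGroup.eq_one_iff _).mpr (hcomm d hd n hn)
    simp only [map_mul, map_inv] at h
    have hd2 : QuotientGroup.mk' (Cfsg.pCore 2 G) d * QuotientGroup.mk' (Cfsg.pCore 2 G) d = 1 := by
      rw [← map_mul, sq_one hD hd, map_one]
    rw [← inv_eq_of_mul_eq_one_right hd2] at h ⊢
    set x := QuotientGroup.mk' (Cfsg.pCore 2 G) n
    set e := QuotientGroup.mk' (Cfsg.pCore 2 G) d
    have hc' : Commute x e⁻¹ := commutatorElement_eq_one_iff_mul_comm.mp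
      (by rw [commutatorElement_def]; rw [inv_inv]; simpa [inv_eq_of_mul_eq_one_right hd2] using h)
    exact hc'.eq.symm
  | one => simp
  | mul u v _ _ hu hv =>
    exact ((show Commute _ _ from hu).mul_left (show Commute _ _ from hv))
  | inv u _ hu => exact ((show Commute _ _ from hu).inv_left)


/-- Let G be a finite group generated by a set D of root involutions whose odd-order-product graph is connected, with some product of two different commuting members of D again in D. Then the largest solvable normal subgroup of G is the preimage of the centre of G/O₂(G), and the quotient of G by it is a simple group. -/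
theorem result {G : Type*} [Group G] [Finite G] {D : Set G} (hD : Cfsg.IsRootInvolutionSet D)
    (hc : Cfsg.IsConnectedSet (Cfsg.OddAdj D) D) (hDD : (D ∩ Cfsg.commutingProducts D).Nonempty) :
    Cfsg.solvableRadical G = Cfsg.twoZCore G ∧ IsSimpleGroup (G ⧸ Cfsg.twoZCore G) := by
  haveI : Fact (Nat.Prime 2) := ⟨Nat.prime_two⟩
  have hbad : ∀ {u v : G}, Cfsg.OddAdj D u v → u * v ∉ Cfsg.pCore 2 G := by
    intro u v h hmem
    obtain ⟨k, hk⟩ := CfsgLib.Solvable.Cores.isPGroup_pCore (G := G) 2 ⟨_, hmem⟩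
    have hk' : (u * v) ^ 2 ^ k = 1 := congrArg Subtype.val hk
    have hcop : Nat.Coprime (orderOf (u * v)) (2 ^ k) :=
      Nat.Coprime.pow_right k (Nat.coprime_two_right.mpr h.2.2.2)
    have h1 := Nat.eq_one_of_dvd_coprimes hcop dvd_rfl (orderOf_dvd_of_pow_eq_one hk')
    rw [orderOf_eq_one_iff] at h1
    exact h.2.2.1 (by rw [← mul_one u, ← sq_one hD h.2.1, ← mul_assoc, h1, one_mul])
  obtain ⟨a, z, haz⟩ : ∃ a z, Cfsg.OddAdj D a z := by
    obtain ⟨x, hx, p, hp, q, hq, hpq, hne, rfl⟩ := hDD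
    have hpq' : p ≠ q := fun e => hne (by rw [e, sq_one hD hq])
    rcases Relation.ReflTransGen.cases_head (hc p hp q hq) with h | ⟨r, hr, -⟩
    · exact absurd h hpq'
    · exact ⟨p, r, hr⟩
  set q := QuotientGroup.mk' (Cfsg.pCore 2 G) with hq
  have hZne : Cfsg.twoZCore G ≠ ⊤ := by
    intro htop
    have hmem : q a ∈ Subgroup.center _ := by
      have : a ∈ Cfsg.twoZCore G := htop ▸ Subgroup.mem_top a
      exact this
    have hcm : Commute (q a) (q z) := ((Subgroup.mem_center_iff.mp hmem) (q z)).symm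
    obtain ⟨j, hj⟩ := haz.2.2.2
    have hn : q (a * z) ^ (2 * j + 1) = 1 := by rw [← hj, ← map_pow, pow_orderOf_eq_one, map_one]
    rw [map_mul, pow_succ, pow_mul, hcm.mul_pow, pow_two, pow_two, ← map_mul, ← map_mul,
      sq_one hD haz.1, sq_one hD haz.2.1, map_one, one_mul, one_pow, one_mul, ← map_mul] at hn
    exact hbad haz ((QuotientGroup.eq_one_iff _).mp hn)
  have hperf : commutator G = ⊤ := by
    by_contra hne
    have hle := le_twoZCore hD hc hDD (commutator G) hne
    -- the image in the abelian quotient is generated by one element, equal to a product of two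
    apply hZne
    let r := QuotientGroup.mk' (Cfsg.twoZCore G)
    have hab : ∀ x y : G, r x * r y = r y * r x := fun x y => by
      have : ⁅x, y⁆ ∈ Cfsg.twoZCore G :=
        hle (Subgroup.commutator_mem_commutator (Subgroup.mem_top x) (Subgroup.mem_top y))
      rw [← commutatorElement_eq_one_iff_mul_comm, ← map_commutatorElement]
      exact (QuotientGroup.eq_one_iff _).mpr this
    have hone : ∀ e ∈ D, r e = 1 := by
      intro e he
      obtain ⟨b, hb⟩ := exists_tri hD hc hDD he
      have hsame : ∀ w ∈ D, r w = r e := by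
        intro w hw
        obtain ⟨g, rfl⟩ := exists_conj hD hc he hw
        rw [map_mul, map_mul, hab g e, mul_assoc, ← map_mul, mul_inv_cancel, map_one, mul_one]
      have h := hsame _ hb.mem
      rw [map_mul, hsame b hb.right] at h
      exact mul_eq_left.mp h
    rw [eq_top_iff, ← hD.generates, Subgroup.closure_le]
    exact fun e he => (QuotientGroup.eq_one_iff e).mp (hone e he)
  have hsol : Group.IsSolvable (Cfsg.twoZCore G) := by
    haveI : Group.IsNilpotent (Cfsg.pCore 2 G) :=
      (CfsgLib.Solvable.Cores.isPGroup_pCore (G := G) 2).isNilpotent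
    let f : ↥(Cfsg.twoZCore G) →* ↥(Subgroup.center (G ⧸ Cfsg.pCore 2 G)) :=
      (q.comp (Cfsg.twoZCore G).subtype).codRestrict _ fun x => x.2
    haveI : Group.IsSolvable ↥(Subgroup.center (G ⧸ Cfsg.pCore 2 G)) := Group.isSolvable_of_comm fun x y =>
      Subtype.ext ((Subgroup.mem_center_iff.mp x.2) y.1).symm
    refine Group.isSolvable_of_ker_le_range
      (Subgroup.inclusion (show Cfsg.pCore 2 G ≤ Cfsg.twoZCore G from fun x hx => ?_)) f ?_
    · rw [Cfsg.twoZCore, Subgroup.mem_comap,
        show QuotientGroup.mk' (Cfsg.pCore 2 G) x = 1 from (QuotientGroup.eq_one_iff _).mpr hx]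
      try exact one_mem _
    · intro x hx
      have hx' : q x = 1 := congrArg Subtype.val hx
      exact ⟨⟨x, (QuotientGroup.eq_one_iff _).mp hx'⟩, rfl⟩
  refine ⟨le_antisymm (sSup_le fun N hN => ?_) (le_sSup ⟨inferInstance, hsol⟩), ?_⟩
  · obtain ⟨hNn, hNs⟩ := hN
    refine le_twoZCore hD hc hDD N (hN := hNn) fun htop => ?_
    subst htop
    haveI := hNs
    have : Group.IsSolvable G := Group.isSolvable_of_surjective (f := (⊤ : Subgroup G).subtype)
      fun g => ⟨⟨g, trivial⟩, rfl⟩
    haveI : Nontrivial G := ⟨⟨a, 1, ne_one hD haz.1⟩⟩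
    exact (Group.IsSolvable.commutator_lt_top_of_nontrivial G).ne hperf
  · haveI : Nontrivial (G ⧸ Cfsg.twoZCore G) := QuotientGroup.nontrivial_iff.mpr hZne
    refine ⟨fun N hN => ?_⟩
    by_cases htop : N.comap (QuotientGroup.mk' (Cfsg.twoZCore G)) = ⊤
    · exact Or.inr (Subgroup.comap_injective (QuotientGroup.mk'_surjective _)
        (htop.trans (Subgroup.comap_top _).symm))
    · have hle := le_twoZCore hD hc hDD _ (hN := hN.comap _) htop
      left
      rw [eq_bot_iff]
      intro y hy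
      obtain ⟨g, rfl⟩ := QuotientGroup.mk'_surjective _ y
      exact Subgroup.mem_bot.mpr ((QuotientGroup.eq_one_iff g).mpr (hle hy))

end Cfsg.Agent.S5048
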