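import Cfsg.Statements.S5049
import Mathlib
import Cfsg.Agent.Lib.Solvable.Cores

set_option autoImplicit false
open Cfsg

namespace Cfsg.Agent.S5049

/-- Let G be a finite group generated by a set D of odd transpositions (root involutions with no product of order 4), Q = O₂(G), and for a ∈ D let Q_a be the commutator subgroup of Q with a. Then every member of D commuting with a centralizes Q_a; and for b ∈ D with ab of odd order greater than 1, the centralizer of ab in Q is the intersection of the centralizers of a and b in Q. -/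
theorem result {G : Type*} [Group G] [Finite G] {D : Set G} (hD : Cfsg.IsOddTranspositionSet D) {a : G} (ha : a ∈ D) :
    (∀ e ∈ Cfsg.commutingMembers D a, ∀ q ∈ ⁅Cfsg.pCore 2 G, Subgroup.zpowers a⁆, e * q = q * e) ∧
    (∀ b ∈ Cfsg.oddPartners D a,
      Cfsg.pCore 2 G ⊓ Subgroup.centralizer {a * b} = Cfsg.pCore 2 G ⊓ Subgroup.centralizer {a} ⊓ Subgroup.centralizer {b}) := by
  classical
  obtain ⟨hR, h4⟩ := hD
  haveI : Fact (Nat.Prime 2) := ⟨Nat.prime_two⟩
  have hinv : ∀ d ∈ D, d * d = 1 := fun d hd => by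
    rw [← sq, ← hR.orderOf_eq d hd, pow_orderOf_eq_one]
  have hinv' : ∀ d ∈ D, d⁻¹ = d := fun d hd => inv_eq_of_mul_eq_one_right (hinv d hd)
  have hcomm : ∀ x ∈ D, ∀ y ∈ D, ¬ Odd (orderOf (x * y)) ∨ x * y = 1 → x * y = y * x := by
    intro x hx y hy hor
    rcases hR.pair x hx y hy with h | h | h
    · exact h
    · rcases hor with h' | h'
      · exact absurd h h'
      · rw [show y = x⁻¹ from eq_inv_of_mul_eq_one_right h', mul_inv_cancel, inv_mul_cancel]
    · exact absurd h.1 (h4 x hx y hy)
  set Q := Cfsg.pCore 2 G with hQdef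
  have hQ : IsPGroup 2 Q := by
    rw [hQdef]
    exact CfsgLib.Solvable.Cores.isPGroup_pCore 2
  haveI hQn : Q.Normal := by
    rw [hQdef]
    infer_instance
  have hQ2 : ∀ d ∈ D, ∀ d' ∈ D, d * d' ∈ Q → d * d' = d' * d := by
    intro d hd d' hd' hmem
    refine hcomm d hd d' hd' ?_
    obtain ⟨k, hk⟩ := (IsPGroup.iff_orderOf.mp hQ) ⟨_, hmem⟩
    rw [Subgroup.orderOf_mk] at hk
    rcases Nat.eq_zero_or_pos k with rfl | hk0
    · exact Or.inr (orderOf_eq_one_iff.mp (by rw [hk, pow_zero]))
    · exact Or.inl fun ho => by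
        rw [hk] at ho
        exact (Nat.not_even_iff_odd.mpr ho) (Nat.even_pow.mpr ⟨even_two, hk0.ne'⟩)
  refine ⟨fun e he q hq => ?_, fun b hb => ?_⟩
  · obtain ⟨heD, hea⟩ := he
    have hle : ⁅Q, Subgroup.zpowers a⁆ ≤ Subgroup.centralizer {e} := by
      rw [Subgroup.commutator_le]
      intro x hx y hy
      rw [Subgroup.mem_centralizer_singleton_iff]
      obtain ⟨i, rfl⟩ := Subgroup.mem_zpowers_iff.mp hy
      rcases Int.even_or_odd i with ⟨j, rfl⟩ | ⟨j, rfl⟩
      · rw [zpow_add, ← (Commute.refl a).mul_zpow, hinv a ha, one_zpow]; simp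
      · rw [zpow_add, zpow_one, zpow_mul, zpow_two, hinv a ha, one_zpow, one_mul, commutatorElement_def,
          hinv' a ha]
        set a' := x * a * x⁻¹ with ha'
        have ha'D : a' ∈ D := hR.conj_mem a ha x
        have hta : a' * a ∈ Q := by
          have h : a' * a = x * (a * x⁻¹ * a⁻¹) := by rw [ha', hinv' a ha]; group
          rw [h]; exact Q.mul_mem hx (hQn.conj_mem _ (Q.inv_mem hx) a)
        have hec : e * a' = a' * e := by
          refine hcomm e heD a' ha'D ?_
          by_cases h1 : e * a' = 1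
          · exact Or.inr h1
          refine Or.inl fun ho => h1 ?_
          obtain ⟨n, hn⟩ := ho
          -- the square of the product lies in the 2-group
          have hea2 : (e * a) ^ 2 = 1 := by
            rw [sq, mul_assoc e a (e * a), ← mul_assoc a e a, ← hea, mul_assoc e a a, hinv a ha, mul_one,
              hinv e heD]
          have hmk : ((e * a' : G) : G ⧸ Q) = (e * a : G) := by
            rw [QuotientGroup.eq]
            have : (e * a')⁻¹ * (e * a) = a' * a := by
              rw [mul_inv_rev, hinv' a' ha'D, hinv' e heD, mul_assoc, ← mul_assoc e e a, hinv e heD, one_mul]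
            rwa [this]
          have h2 : (e * a') ^ 2 ∈ Q := by
            rw [← QuotientGroup.eq_one_iff, QuotientGroup.mk_pow, hmk, ← QuotientGroup.mk_pow, hea2,
              QuotientGroup.mk_one]
          obtain ⟨k, hk⟩ := hQ ⟨_, h2⟩
          have hk' : ((e * a') ^ 2) ^ 2 ^ k = 1 := congrArg Subtype.val hk
          rw [← pow_mul, ← pow_succ'] at hk'
          have hdvd := orderOf_dvd_of_pow_eq_one hk'
          rw [← orderOf_eq_one_iff]
          obtain ⟨l, -, hl⟩ := (Nat.dvd_prime_pow Nat.prime_two).mp hdvd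
          rcases Nat.eq_zero_or_pos l with rfl | hl0
          · simpa using hl
          · obtain ⟨c, hc⟩ := dvd_pow_self 2 hl0.ne'
            omega
        calc a' * a * e = a' * (e * a) := by rw [mul_assoc, ← hea]
          _ = e * (a' * a) := by rw [← mul_assoc, ← hec, mul_assoc]
    exact (Subgroup.mem_centralizer_singleton_iff.mp (hle hq)).symm
  · obtain ⟨hbD, hba, hodd⟩ := hb
    refine le_antisymm (fun q hq => ?_) (fun q hq => ⟨hq.1.1, ?_⟩)
    swap
    · show q ∈ Subgroup.centralizer ({a * b} : Set G)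
      rw [Subgroup.mem_centralizer_singleton_iff]
      have h1 := Subgroup.mem_centralizer_singleton_iff.mp hq.1.2
      have h2 := Subgroup.mem_centralizer_singleton_iff.mp hq.2
      rw [← mul_assoc, h1, mul_assoc, h2, mul_assoc]
    obtain ⟨hqQ, hqz⟩ := hq
    have hqz : q * (a * b) = a * b * q := Subgroup.mem_centralizer_singleton_iff.mp hqz
    set a' := q * a * q⁻¹ with ha'
    set b' := q * b * q⁻¹ with hb'
    have ha'D : a' ∈ D := hR.conj_mem a ha q
    have hb'D : b' ∈ D := hR.conj_mem b hbD q
    have hab' : a' * b' = a * b := by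
      rw [ha', hb', show q * a * q⁻¹ * (q * b * q⁻¹) = q * (a * b) * q⁻¹ by group, hqz, mul_inv_cancel_right]
    have hca : a' * a = a * a' := by
      refine hQ2 a' ha'D a ha ?_
      have h : a' * a = q * (a * q⁻¹ * a⁻¹) := by rw [ha', hinv' a ha]; group
      rw [h]; exact Q.mul_mem hqQ (hQn.conj_mem _ (Q.inv_mem hqQ) a)
    have hcb : b' * b = b * b' := by
      refine hQ2 b' hb'D b hbD ?_
      have h : b' * b = q * (b * q⁻¹ * b⁻¹) := by rw [hb', hinv' b hbD]; group
      rw [h]; exact Q.mul_mem hqQ (hQn.conj_mem _ (Q.inv_mem hqQ) b)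
    set t := a * a' with ht
    have h3 : a * a' = b * b' := by
      have h5 : b' * b = a' * a := by
        calc b' * b = (a' * a') * (b' * b) := by rw [hinv a' ha'D, one_mul]
          _ = a' * (a' * b') * b := by simp only [mul_assoc]
          _ = a' * (a * (b * b)) := by rw [hab']; simp only [mul_assoc]
          _ = a' * a := by rw [hinv b hbD, mul_one]
      rw [hcb, hca] at h5
      exact h5.symm
    have hat : a * t = t * a := by rw [ht, mul_assoc, hca]
    have hbt : b * t = t * b := by rw [ht, h3, mul_assoc, hcb]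
    have htt : t * t = 1 := by
      rw [ht, mul_assoc, ← mul_assoc a', hca, mul_assoc a, hinv a' ha'D, mul_one, hinv a ha]
    by_cases ht1 : t = 1
    · have e1 : a' = a := by
        rw [← inv_mul_cancel_left a a', hinv' a ha, ← ht, ht1, mul_one]
      have e2 : b' = b := by
        rw [← inv_mul_cancel_left b b', hinv' b hbD, ← h3, ← ht, ht1, mul_one]
      exact ⟨⟨hqQ, Subgroup.mem_centralizer_singleton_iff.mpr (mul_inv_eq_iff_eq_mul.mp e1)⟩,
        Subgroup.mem_centralizer_singleton_iff.mpr (mul_inv_eq_iff_eq_mul.mp e2)⟩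
    exfalso
    -- then `a' * b` has order twice an odd number
    have ha't : a' = a * t := by rw [ht, ← mul_assoc, hinv a ha, one_mul]
    have hprod : a' * b = (a * b) * t := by rw [ha't, mul_assoc, ← hbt, mul_assoc]
    have hzt : Commute (a * b) t := by
      show a * b * t = t * (a * b)
      rw [mul_assoc, hbt, ← mul_assoc, hat, mul_assoc]
    have ht2 : orderOf t = 2 := orderOf_eq_prime (by rw [sq, htt]) ht1
    have hord : orderOf (a' * b) = orderOf (a * b) * 2 := by
      rw [hprod, hzt.orderOf_mul_eq_mul_orderOf_of_coprime (by rw [ht2]; exact Nat.coprime_two_right.mpr hodd), ht2]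
    have hcomm' := hcomm a' ha'D b hbD (Or.inl (by rw [hord]; simp [Nat.odd_mul]))
    have hsq : (a' * b) ^ 2 = 1 := by
      rw [sq, mul_assoc, ← mul_assoc b, ← hcomm', mul_assoc a' b b, hinv b hbD, mul_one, hinv a' ha'D]
    have hle := Nat.le_of_dvd (by norm_num) (orderOf_dvd_of_pow_eq_one hsq)
    have h1 : orderOf (a * b) = 1 := by
      obtain ⟨c, hc⟩ := hodd
      omega
    exact hba (eq_inv_of_mul_eq_one_right (orderOf_eq_one_iff.mp h1) |>.trans (hinv' a ha))

end Cfsg.Agent.S5049
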