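import Cfsg.Statements.S5050
import Cfsg.Agent.Lib.Perm.OddConnected.Main

set_option autoImplicit false
open Cfsg

namespace Cfsg.Agent.S5050

/-- Let G be a finite group generated by a class D of odd transpositions whose commuting graph is connected, with some product of two different commuting members again in D. Then for every d ∈ D and every x ∈ D with dx of odd order greater than 1, some member of D commutes with both d and x. -/
theorem result {G : Type*} [Group G] [Finite G] {D : Set G} (hD : Cfsg.IsOddTranspositionSet D) (hcl : Cfsg.IsRootInvolutionClass D)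
    (hc : Cfsg.IsConnectedSet (Cfsg.CommAdj D) D) (hDD : (D ∩ Cfsg.commutingProducts D).Nonempty)
    {d x : G} (hd : d ∈ D) (hx : x ∈ Cfsg.oddPartners D d) : ∃ e ∈ D, e * d = d * e ∧ e * x = x * e := by
  obtain ⟨hxD, hdx⟩ := (CfsgLib.Perm.OddTransposition.mem_oddPartners_iff hD hd).1 hx
  set π := QuotientGroup.mk' (Cfsg.pCore 2 G) with hπ
  haveI : Fact (Nat.Prime 2) := ⟨Nat.prime_two⟩
  have hker : IsPGroup 2 ↥π.ker := by
    rw [hπ, QuotientGroup.ker_mk']
    exact CfsgLib.Solvable.Cores.isPGroup_pCore 2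
  have hcomm : ∀ a ∈ D, ∀ b ∈ D, Commute (π a) (π b) → Commute a b := fun a ha b hb h =>
    CfsgLib.Perm.OddTransposition.commute_of_map π hker hD ha hb h
  have hconj : ∀ a ∈ D, ∀ b ∈ D, IsConj a b := fun a ha b hb => by
    obtain ⟨g, rfl⟩ := hcl.2.2 a ha b hb
    exact isConj_iff.2 ⟨g, rfl⟩
  have hne : ∀ a ∈ D, π a ≠ 1 := by
    intro a ha h1
    refine hdx (hcomm d hd x hxD ?_)
    obtain ⟨g, rfl⟩ := isConj_iff.1 (hconj a ha d hd)
    rw [map_mul, map_mul, h1, mul_one, map_inv, mul_inv_cancel]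
    exact Commute.one_left _
  have hyp : CfsgLib.Perm.OddConnected.Hyp (π '' D) := by
    refine ⟨CfsgLib.Perm.OddTransposition.isOddTranspositionSet_map π hker hD
      (QuotientGroup.mk'_surjective _) hne, ?_, ?_, ?_,
      CfsgLib.Components.SFT.pCore_quotient_eq_bot 2 G⟩
    · rintro _ ⟨a, ha, rfl⟩ _ ⟨b, hb, rfl⟩
      exact π.map_isConj (hconj a ha b hb)
    · rintro _ ⟨a, ha, rfl⟩ _ ⟨b, hb, rfl⟩
      have hr := hc a ha b hb
      clear hb
      induction hr with
      | refl => exact .refl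
      | @tail p q _ hpq ih =>
        by_cases he : π p = π q
        · rw [← he]; exact ih
        · exact ih.tail ⟨⟨p, hpq.1, rfl⟩, ⟨q, hpq.2.1, rfl⟩, he,
            ((show Commute p q from hpq.2.2.2).map π).eq⟩
    · obtain ⟨y, hy, a, ha, b, hb, hab, -, rfl⟩ := hDD
      exact ⟨π a, π b, ⟨a, ha, rfl⟩, ⟨b, hb, rfl⟩, (show Commute a b from hab).map π,
        by rw [← map_mul]; exact ⟨_, hy, rfl⟩⟩
  obtain ⟨_, ⟨e, he, rfl⟩, _, -, h1, h2, -⟩ :=
    hyp.good.common (π d) (π x) ⟨d, hd, rfl⟩ ⟨x, hxD, rfl⟩ fun h => hdx (hcomm d hd x hxD h)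
  exact ⟨e, he, (hcomm e he d hd h1).eq, (hcomm e he x hxD h2).eq⟩

end Cfsg.Agent.S5050
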