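import Mathlib
import Cfsg.Statements.S5057
-- import your own Cfsg.Agent.* helpers here

set_option autoImplicit false
open Cfsg

namespace Cfsg.Agent.S5057

open Equiv

abbrev A6 := ↥(alternatingGroup (Fin 6))

def d0 : Perm (Fin 6) := swap 0 1 * swap 2 3

theorem table : ∀ e : Perm (Fin 6), e * e = 1 →
    ((d0 * e) ^ 2 = 1 ∨ (d0 * e) ^ 3 = 1 ∨ (d0 * e) ^ 5 = 1 ∨
      ((d0 * e) ^ 4 = 1 ∧ (d0 * e) ^ 2 ≠ 1)) ∨ Perm.sign e ≠ 1 := by
  decide +kernel

theorem d0_even : d0 ∈ alternatingGroup (Fin 6) :=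
  Equiv.Perm.mem_alternatingGroup.mpr (by decide +kernel)

theorem cycleType_eq (g : A6) (hg : orderOf g = 2) : (g : Perm (Fin 6)).cycleType = {2, 2} := by
  have ho : orderOf (g : Perm (Fin 6)) = 2 := by rw [Subgroup.orderOf_coe, hg]
  obtain ⟨n, hn⟩ := Perm.cycleType_prime_order (by rw [ho]; exact Nat.prime_two)
  rw [ho] at hn
  have hle : 2 * (n + 1) ≤ 6 := by
    have h := Perm.sum_cycleType (g : Perm (Fin 6))
    rw [hn, Multiset.sum_replicate, smul_eq_mul] at h
    have := Finset.card_le_univ (g : Perm (Fin 6)).support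
    simp only [Fintype.card_fin] at this
    omega
  have hsign : Perm.sign (g : Perm (Fin 6)) = 1 := Equiv.Perm.mem_alternatingGroup.mp g.2
  rw [Perm.sign_of_cycleType, hn, Multiset.sum_replicate, Multiset.card_replicate, smul_eq_mul]
    at hsign
  rw [hn]
  have : n ≤ 2 := by omega
  interval_cases n
  · exact absurd hsign (by decide)
  · rfl
  · exact absurd hsign (by decide)

theorem conj_d0 (g : A6) (hg : orderOf g = 2) :
    ∃ c : A6, g = c * ⟨d0, d0_even⟩ * c⁻¹ := by
  have h0 : d0.cycleType = {2, 2} :=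
    cycleType_eq ⟨d0, d0_even⟩ (orderOf_eq_prime (by decide +kernel) (by decide +kernel))
  obtain ⟨c, hc⟩ := isConj_iff.mp (Perm.isConj_iff_cycleType_eq.mpr (h0.trans (cycleType_eq g hg).symm))
  rcases Int.units_eq_one_or (Perm.sign c) with h | h
  · exact ⟨⟨c, Equiv.Perm.mem_alternatingGroup.mpr h⟩, Subtype.ext hc.symm⟩
  · refine ⟨⟨c * swap 0 1, Equiv.Perm.mem_alternatingGroup.mpr ?_⟩, Subtype.ext ?_⟩
    · rw [map_mul, h, Perm.sign_swap (by decide)]; rfl
    · have hcomm : swap (0 : Fin 6) 1 * d0 * (swap (0 : Fin 6) 1)⁻¹ = d0 := by decide +kernel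
      show (g : Perm (Fin 6)) = c * swap 0 1 * d0 * (c * swap 0 1)⁻¹
      rw [mul_inv_rev, ← hc]
      calc c * d0 * c⁻¹ = c * (swap 0 1 * d0 * (swap 0 1)⁻¹) * c⁻¹ := by rw [hcomm]
        _ = _ := by group

theorem pair_cases (a b : A6) (ha : orderOf a = 2) (hb : orderOf b = 2) :
    (a * b) ^ 2 = 1 ∨ (a * b) ^ 3 = 1 ∨ (a * b) ^ 5 = 1 ∨
      ((a * b) ^ 4 = 1 ∧ (a * b) ^ 2 ≠ 1) := by
  obtain ⟨c, rfl⟩ := conj_d0 a ha
  have hb2 : b ^ 2 = 1 := hb ▸ pow_orderOf_eq_one b
  have key : ∀ n : ℕ, (c * ⟨d0, d0_even⟩ * c⁻¹ * b) ^ n = 1 ↔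
      (d0 * ((c⁻¹ * b * c : A6) : Perm (Fin 6))) ^ n = 1 := by
    intro n
    have : c * ⟨d0, d0_even⟩ * c⁻¹ * b = c * (⟨d0, d0_even⟩ * (c⁻¹ * b * c)) * c⁻¹ := by group
    rw [this, conj_pow, conj_eq_one_iff, ← OneMemClass.coe_eq_one]
    rfl
  have he : ((c⁻¹ * b * c : A6) : Perm (Fin 6)) * ((c⁻¹ * b * c : A6) : Perm (Fin 6)) = 1 := by
    rw [← Subgroup.coe_mul, OneMemClass.coe_eq_one,
      show c⁻¹ * b * c * (c⁻¹ * b * c) = c⁻¹ * (b * b) * c by group, ← sq, hb2]
    group
  rcases table _ he with h | h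
  · simpa only [key, ne_eq] using h
  · exact absurd (Equiv.Perm.mem_alternatingGroup.mp (c⁻¹ * b * c).2) h

theorem comm_of_sq (a b : A6) (ha : orderOf a = 2) (hb : orderOf b = 2) (h : (a * b) ^ 2 = 1) :
    a * b = b * a := by
  have e : ∀ x : A6, orderOf x = 2 → x⁻¹ = x := fun x hx => by
    rw [inv_eq_iff_mul_eq_one, ← sq, ← hx, pow_orderOf_eq_one]
  rw [sq] at h
  calc a * b = (a * b)⁻¹ := eq_inv_of_mul_eq_one_left h
    _ = b * a := by rw [mul_inv_rev, e a ha, e b hb]

theorem dvd_cases (a b : A6) (ha : orderOf a = 2) (hb : orderOf b = 2) :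
    a * b = b * a ∧ orderOf (a * b) ≤ 5 ∨ Odd (orderOf (a * b)) ∧ orderOf (a * b) ≤ 5 ∨
      orderOf (a * b) = 4 ∧ orderOf ((a * b) ^ 2) = 2 := by
  rcases pair_cases a b ha hb with h | h | h | ⟨h, h2⟩
  · exact Or.inl ⟨comm_of_sq a b ha hb h,
      (Nat.le_of_dvd (by norm_num) (orderOf_dvd_of_pow_eq_one h)).trans (by norm_num)⟩
  · have hd := orderOf_dvd_of_pow_eq_one h
    exact Or.inr (Or.inl ⟨Odd.of_dvd_nat (by decide) hd,
      (Nat.le_of_dvd (by norm_num) hd).trans (by norm_num)⟩)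
  · have hd := orderOf_dvd_of_pow_eq_one h
    exact Or.inr (Or.inl ⟨Odd.of_dvd_nat (by decide) hd, Nat.le_of_dvd (by norm_num) hd⟩)
  · refine Or.inr (Or.inr ⟨?_, orderOf_eq_prime ?_ h2⟩)
    · exact orderOf_eq_prime_pow (p := 2) (n := 1) h2 h
    · rw [← pow_mul]; exact h


/-- The involutions of the alternating group of degree 6 form a class of root involutions (a single conjugacy class of involutions generating the group, any two of which commute, have product of odd order, or have product of order 4 whose square is again an involution of the class), and the product of any two of them has order at most 5. -/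
theorem result :
    Cfsg.IsRootInvolutionClass {g : ↥(alternatingGroup (Fin 6)) | orderOf g = 2} ∧
    ∀ d ∈ {g : ↥(alternatingGroup (Fin 6)) | orderOf g = 2}, ∀ e ∈ {g : ↥(alternatingGroup (Fin 6)) | orderOf g = 2},
      orderOf (d * e) ≤ 5 := by
  have hsimple : IsSimpleGroup A6 := alternatingGroup.isSimpleGroup (by simp)
  have hd : orderOf (⟨d0, d0_even⟩ : A6) = 2 := orderOf_eq_prime (by decide +kernel) (by decide +kernel)
  have hconj : ∀ d : A6, orderOf d = 2 → ∀ g : A6, orderOf (g * d * g⁻¹) = 2 := by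
    intro d hd g
    rw [← MulAut.conj_apply, MulEquiv.orderOf_eq, hd]
  refine ⟨⟨⟨fun d hd => hd, ?_, fun d hd g => hconj d hd g, ?_⟩, ⟨_, hd⟩, ?_⟩, ?_⟩
  · have hn : (Subgroup.closure {g : A6 | orderOf g = 2}).Normal := by
      constructor
      intro n hn g
      induction hn using Subgroup.closure_induction with
      | mem x hx => exact Subgroup.subset_closure (hconj x hx g)
      | one => simp
      | mul x y _ _ hx hy =>
        rw [show g * (x * y) * g⁻¹ = (g * x * g⁻¹) * (g * y * g⁻¹) by group]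
        exact mul_mem hx hy
      | inv x _ hx =>
        rw [show g * x⁻¹ * g⁻¹ = (g * x * g⁻¹)⁻¹ by group]
        exact inv_mem hx
    rcases hn.eq_bot_or_eq_top with h | h
    · have : (⟨d0, d0_even⟩ : A6) ∈ Subgroup.closure {g : A6 | orderOf g = 2} :=
        Subgroup.subset_closure hd
      rw [h, Subgroup.mem_bot] at this
      rw [this, orderOf_one] at hd
      exact absurd hd (by norm_num)
    · exact h
  · intro a ha b hb
    rcases dvd_cases a b ha hb with h | h | h
    · exact Or.inl h.1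
    · exact Or.inr (Or.inl h.1)
    · exact Or.inr (Or.inr h)
  · intro a ha b hb
    obtain ⟨c, rfl⟩ := conj_d0 a ha
    obtain ⟨c', rfl⟩ := conj_d0 b hb
    exact ⟨c' * c⁻¹, by group⟩
  · intro a ha b hb
    rcases dvd_cases a b ha hb with h | h | h
    · exact h.2
    · exact h.2
    · omega

end Cfsg.Agent.S5057
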