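import Cfsg.Statements.S5058
import Cfsg.Agent.Lib.Char.TransvectionRootClass

set_option autoImplicit false
open Matrix
open Cfsg

namespace Cfsg.Agent.S5058

/-- Let F be a finite field of characteristic 2 and n a natural number. Then the transvections of SL_{n+3}(F) (so in every dimension at least 3) (the conjugates of the elementary matrices 1 + c E₁₂, c ≠ 0) form a class of root involutions of SL_{n+3}(F); when F has two elements they form a class of {3,4}⁺-transpositions (every product of odd order has order 1 or 3). -/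
theorem result (F : Type*) [Field F] [Fintype F] [CharP F 2] (n : ℕ) :
    Cfsg.IsRootInvolutionClass {t : Matrix.SpecialLinearGroup (Fin (n + 3)) F | ∃ c : F, c ≠ 0 ∧
        ∃ g : Matrix.SpecialLinearGroup (Fin (n + 3)) F, ((g⁻¹ * t * g : Matrix.SpecialLinearGroup (Fin (n + 3)) F) :
          Matrix (Fin (n + 3)) (Fin (n + 3)) F) = Matrix.transvection 0 1 c} ∧
    (Fintype.card F = 2 → Cfsg.IsThreeFourPlusTranspositionSet {t : Matrix.SpecialLinearGroup (Fin (n + 3)) F | ∃ c : F, c ≠ 0 ∧
        ∃ g : Matrix.SpecialLinearGroup (Fin (n + 3)) F, ((g⁻¹ * t * g : Matrix.SpecialLinearGroup (Fin (n + 3)) F) :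
          Matrix (Fin (n + 3)) (Fin (n + 3)) F) = Matrix.transvection 0 1 c}) := by
  have hroot : Cfsg.IsRootInvolutionClass (CfsgLib.Char.TransvectionRootClass.D n F) := by
    refine ⟨⟨?_, ?_, ?_, ?_⟩, ?_, ?_⟩
    · exact fun d hd => CfsgLib.Char.TransvectionRootClass.orderOf_two
        (CfsgLib.Char.TransvectionRootClass.mem_D_iff.1 hd)
    · refine CfsgLib.Classical.sl_subgroup_eq_top _ fun i j h c => ?_
      by_cases hc : c = 0
      · subst hc
        convert Subgroup.one_mem _
        apply Subtype.ext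
        show Matrix.transvection i j (0 : F) = 1
        rw [Matrix.transvection_zero]
      · refine Subgroup.subset_closure (CfsgLib.Char.TransvectionRootClass.mem_D_iff.2
          ⟨Pi.single i c, Pi.single j 1, by simpa using hc, by simp, by simp [h], ?_⟩)
        show Matrix.transvection i j c = _
        rw [Matrix.transvection]
        congr 1
        ext a b
        simp only [Matrix.vecMulVec_apply, Matrix.single_apply, Pi.single_apply]
        by_cases ha : a = i <;> by_cases hb : b = j <;> simp [ha, hb, Ne.symm, eq_comm]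
    · rintro d ⟨c, hc, g, hg⟩ k
      refine ⟨c, hc, k * g, ?_⟩
      rw [← hg]
      exact congrArg Subtype.val (by group : (k * g)⁻¹ * (k * d * k⁻¹) * (k * g) = g⁻¹ * d * g)
    · intro a ha b hb
      rcases CfsgLib.Char.TransvectionRootClass.pair (CfsgLib.Char.TransvectionRootClass.mem_D_iff.1 ha)
        (CfsgLib.Char.TransvectionRootClass.mem_D_iff.1 hb) with h | ⟨h, -⟩ | ⟨h, h'⟩
      · exact Or.inl h
      · exact Or.inr (Or.inl h)
      · exact Or.inr (Or.inr ⟨h, CfsgLib.Char.TransvectionRootClass.mem_D_iff.2 h'⟩)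
    · exact ⟨Matrix.SpecialLinearGroup.transvection (show (0 : Fin (n + 3)) ≠ 1 by simp) (1 : F), 1, one_ne_zero,
        1, by rw [inv_one, one_mul, mul_one]; rfl⟩
    · intro a ha b hb
      obtain ⟨g, hg⟩ := CfsgLib.Char.TransvectionRootClass.conj_T (CfsgLib.Char.TransvectionRootClass.mem_D_iff.1 ha)
      obtain ⟨k, hk⟩ := CfsgLib.Char.TransvectionRootClass.conj_T (CfsgLib.Char.TransvectionRootClass.mem_D_iff.1 hb)
      have e : g⁻¹ * a * g = k⁻¹ * b * k := Subtype.ext (hg.trans hk.symm)
      refine ⟨k * g⁻¹, ?_⟩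
      calc b = k * (k⁻¹ * b * k) * k⁻¹ := by group
        _ = _ := by rw [← e]; group
  refine ⟨hroot, fun hcard => ⟨hroot.1, fun a ha b hb hodd => ?_⟩⟩
  rcases CfsgLib.Char.TransvectionRootClass.pair (CfsgLib.Char.TransvectionRootClass.mem_D_iff.1 ha)
    (CfsgLib.Char.TransvectionRootClass.mem_D_iff.1 hb) with h | ⟨-, c, hc, h⟩ | ⟨h, -⟩
  · left
    have ha2 := hroot.1.orderOf_eq a ha
    have hb2 := hroot.1.orderOf_eq b hb
    have h2 : (a * b) ^ 2 = 1 := by
      rw [Commute.mul_pow h, ← ha2, pow_orderOf_eq_one, one_mul, ha2, ← hb2, pow_orderOf_eq_one]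
    rcases (Nat.dvd_prime Nat.prime_two).1 (orderOf_dvd_of_pow_eq_one h2) with e | e
    · exact e
    · rw [e] at hodd; exact absurd hodd (by decide)
  · have hc1 : c = 1 := by
      classical
      have h2 : Fintype.card Fˣ = 1 := by rw [Fintype.card_units, hcard]
      exact congrArg Units.val ((Fintype.card_le_one_iff.1 h2.le) (Units.mk0 c hc) 1)
    have h3 := orderOf_dvd_of_pow_eq_one (h hc1)
    exact (Nat.dvd_prime Nat.prime_three).1 h3
  · rw [h] at hodd; exact absurd hodd (by decide)

end Cfsg.Agent.S5058
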