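import Cfsg.Statements.S5059
import Mathlib

set_option autoImplicit false
universe u
open Cfsg

namespace Cfsg.Agent.S5059

/-- Let k be a field of characteristic not 2 with k not of order 3, M a finite-dimensional k-vector space and G ≤ GL(M) such that (G, M) is a quadratic pair (M irreducible for G, and G generated by its quadratically acting elements σ whose scalar family 1 + c(σ − 1), c ∈ k, lies in G). Write 𝒬_d for the quadratic elements of G of minimal commutator rank, E(σ) for the subgroup generated by the members of 𝒬_d with the same fixed space and commutator space as σ, and Σ for the set of these subgroups. Then for σ ∈ 𝒬_d the subgroup E(σ) consists exactly of those members together with the identity, it is abelian, and if k has prime characteristic p every element of E(σ) has order dividing p. -/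
theorem result {k : Type u} [Field k] (hk2 : ringChar k ≠ 2) (hk3 : Nat.card k ≠ 3)
    {M : Type u} [AddCommGroup M] [Module k M] [FiniteDimensional k M]
    {G : Subgroup (LinearMap.GeneralLinearGroup k M)} (hG : Cfsg.IsQuadraticPair G)
    {σ : LinearMap.GeneralLinearGroup k M} (hσ : σ ∈ Cfsg.minimalQuadraticElements G) :
    (Cfsg.sameActionSubgroup G σ : Set (LinearMap.GeneralLinearGroup k M)) = Cfsg.sameActionClass G σ ∪ {1} ∧
    IsMulCommutative ↥(Cfsg.sameActionSubgroup G σ) ∧
    (∀ p : ℕ, p.Prime → ringChar k = p → ∀ x ∈ Cfsg.sameActionSubgroup G σ, x ^ p = 1) := by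
  classical
  obtain ⟨hσQ, hσmin⟩ := hσ
  let d : LinearMap.GeneralLinearGroup k M → (M →ₗ[k] M) := fun τ => (τ : M →ₗ[k] M) - 1
  have hval : ∀ τ : LinearMap.GeneralLinearGroup k M, (τ : M →ₗ[k] M) = 1 + d τ := fun τ => (add_sub_cancel _ _).symm
  have hone : d 1 = 0 := sub_self _
  have hdinj : ∀ τ : LinearMap.GeneralLinearGroup k M, d τ = 0 → τ = 1 := fun τ h => Units.ext (sub_eq_zero.mp h)
  have hC : ∀ τ ∈ Cfsg.sameActionClass G σ, ∀ τ' ∈ Cfsg.sameActionClass G σ, d τ * d τ' = 0 := by
    intro τ hτ τ' hτ'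
    refine LinearMap.ext fun m => ?_
    have h1 : d τ' m ∈ LinearMap.range (d τ) := by
      have := LinearMap.mem_range_self (d τ') m
      exact hτ.2.2.symm ▸ (hτ'.2.2 ▸ this)
    obtain ⟨m', hm'⟩ := h1
    simp only [Module.End.mul_apply, ← hm', LinearMap.zero_apply]
    exact LinearMap.congr_fun hτ.1.1.2.1.1 m'
  have hdmul : ∀ τ ∈ Cfsg.sameActionClass G σ, ∀ τ' ∈ Cfsg.sameActionClass G σ, d (τ * τ') = d τ + d τ' := by
    intro τ hτ τ' hτ'
    change ((τ * τ' : LinearMap.GeneralLinearGroup k M) : M →ₗ[k] M) - 1 = _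
    rw [Units.val_mul, hval τ, hval τ', mul_add, mul_one, add_mul, one_mul, hC τ hτ τ' hτ']
    abel
  have hscal : ∀ τ ∈ Cfsg.sameActionClass G σ, ∀ c : k, ∃ u ∈ G, d u = c • d τ := by
    intro τ hτ c
    have hsq : d τ * d τ = 0 := hτ.1.1.2.1.1
    let u : LinearMap.GeneralLinearGroup k M :=
      ⟨1 + c • d τ, 1 - c • d τ, by
        simp [mul_add, add_mul, mul_sub, sub_mul, smul_mul_assoc, mul_smul_comm, hsq], by
        simp [mul_add, add_mul, mul_sub, sub_mul, smul_mul_assoc, mul_smul_comm, hsq]⟩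
    exact ⟨u, hτ.1.1.2.2 ⟨c, rfl⟩, add_sub_cancel_left _ _⟩
  have hmulc : ∀ τ ∈ Cfsg.sameActionClass G σ, ∀ τ' ∈ Cfsg.sameActionClass G σ,
      τ * τ' ∈ Cfsg.sameActionClass G σ ∪ {1} := by
    intro τ hτ τ' hτ'
    by_cases h1 : τ * τ' = 1
    · exact Or.inr h1
    left
    have hd := hdmul τ hτ τ' hτ'
    have hq : τ * τ' ∈ Cfsg.quadraticElements G := by
      refine ⟨G.mul_mem hτ.1.1.1 hτ'.1.1.1, ⟨?_, fun e => h1 (hdinj _ e)⟩, ?_⟩
      · change d (τ * τ') * d (τ * τ') = 0
        rw [hd, mul_add, add_mul, add_mul, hC τ hτ τ hτ, hC τ' hτ' τ hτ, hC τ hτ τ' hτ', hC τ' hτ' τ' hτ']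
        simp
      · rintro x ⟨c, hx⟩
        obtain ⟨u, hu, hud⟩ := hscal τ hτ c
        obtain ⟨u', hu', hud'⟩ := hscal τ' hτ' c
        have : x = u * u' := by
          apply Units.ext
          rw [hx, Units.val_mul u u', hval u, hval u', hud, hud', mul_add, mul_one, add_mul, one_mul,
            smul_mul_assoc, mul_smul_comm, hC τ hτ τ' hτ']
          change 1 + c • d (τ * τ') = _
          rw [hd, smul_add, smul_zero, smul_zero, add_zero, ← add_assoc]
        exact this ▸ G.mul_mem hu hu'
    have hrk : ∀ ρ ∈ Cfsg.quadraticElements G, Cfsg.commutatorRank σ ≤ Cfsg.commutatorRank ρ := hσmin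
    have hrle : LinearMap.range (d (τ * τ')) ≤ LinearMap.range (d σ) := by
      rintro _ ⟨m, rfl⟩
      rw [hd, LinearMap.add_apply]
      exact Submodule.add_mem _ (hτ.2.2 ▸ LinearMap.mem_range_self (d τ) m)
        (hτ'.2.2 ▸ LinearMap.mem_range_self (d τ') m)
    have hreq : LinearMap.range (d (τ * τ')) = LinearMap.range (d σ) :=
      Submodule.eq_of_le_of_finrank_le hrle (hrk _ hq)
    have hkle : LinearMap.ker (d σ) ≤ LinearMap.ker (d (τ * τ')) := by
      intro m hm
      have e1 : d τ m = 0 := (hτ.2.1.symm ▸ hm : m ∈ LinearMap.ker (d τ))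
      have e2 : d τ' m = 0 := (hτ'.2.1.symm ▸ hm : m ∈ LinearMap.ker (d τ'))
      rw [LinearMap.mem_ker, hd, LinearMap.add_apply, e1, e2, add_zero]
    have hkeq : LinearMap.ker (d σ) = LinearMap.ker (d (τ * τ')) := by
      refine Submodule.eq_of_le_of_finrank_eq hkle ?_
      have i1 := LinearMap.finrank_range_add_finrank_ker (d σ)
      have i2 := LinearMap.finrank_range_add_finrank_ker (d (τ * τ'))
      rw [hreq] at i2
      omega
    refine ⟨⟨hq, fun ρ hρ => ?_⟩, hkeq.symm, hreq⟩
    have e : Cfsg.commutatorRank (τ * τ') = Cfsg.commutatorRank σ :=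
      congrArg (fun W : Submodule k M => Module.finrank k W) hreq
    rw [e]
    exact hrk ρ hρ
  have hinvc : ∀ τ ∈ Cfsg.sameActionClass G σ, τ⁻¹ ∈ Cfsg.sameActionClass G σ := by
    intro τ hτ
    have hd : d τ⁻¹ = - d τ := by
      have hsq : d τ * d τ = 0 := hτ.1.1.2.1.1
      have : ((τ⁻¹ : LinearMap.GeneralLinearGroup k M) : M →ₗ[k] M) = 1 - d τ := by
        apply Units.inv_eq_of_mul_eq_one_right
        rw [hval τ]
        simp [mul_sub, add_mul, hsq]
      change _ - 1 = _
      rw [this]; abel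
    have hq : τ⁻¹ ∈ Cfsg.quadraticElements G := by
      refine ⟨G.inv_mem hτ.1.1.1, ⟨?_, ?_⟩, ?_⟩
      · change d τ⁻¹ * d τ⁻¹ = 0
        rw [hd, neg_mul_neg]; exact hτ.1.1.2.1.1
      · change d τ⁻¹ ≠ 0
        rw [hd, neg_ne_zero]; exact hτ.1.1.2.1.2
      · rintro x ⟨c, hx⟩
        refine hτ.1.1.2.2 ⟨-c, ?_⟩
        rw [hx]
        change 1 + c • d τ⁻¹ = 1 + -c • d τ
        rw [hd, smul_neg, neg_smul]
    have hr : LinearMap.range (d τ⁻¹) = LinearMap.range (d τ) := by rw [hd, LinearMap.range_neg]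
    have hk : LinearMap.ker (d τ⁻¹) = LinearMap.ker (d τ) := by
      rw [hd]; ext m; simp
    refine ⟨⟨hq, fun ρ hρ => ?_⟩, hk.trans hτ.2.1, hr.trans hτ.2.2⟩
    have e : Cfsg.commutatorRank τ⁻¹ = Cfsg.commutatorRank τ :=
      congrArg (fun W : Submodule k M => Module.finrank k W) hr
    rw [e]
    exact hτ.1.2 ρ hρ
  have hset : (Cfsg.sameActionSubgroup G σ : Set (LinearMap.GeneralLinearGroup k M)) =
      Cfsg.sameActionClass G σ ∪ {1} := by
    refine le_antisymm (fun x hx => ?_) ?_
    · induction hx using Subgroup.closure_induction with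
      | mem x hx => exact Or.inl hx
      | one => exact Or.inr rfl
      | mul x y _ _ hx hy =>
        rcases hx with hx | rfl
        · rcases hy with hy | rfl
          · exact hmulc x hx y hy
          · rw [mul_one]; exact Or.inl hx
        · rw [one_mul]; exact hy
      | inv x _ hx =>
        rcases hx with hx | rfl
        · exact Or.inl (hinvc x hx)
        · rw [inv_one]; exact Or.inr rfl
    · rintro x (hx | rfl)
      · exact Subgroup.subset_closure hx
      · exact one_mem _
  have hmem : ∀ x ∈ Cfsg.sameActionSubgroup G σ, x ∈ Cfsg.sameActionClass G σ ∨ x = 1 := fun x hx => by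
    have hx' : x ∈ (Cfsg.sameActionSubgroup G σ : Set (LinearMap.GeneralLinearGroup k M)) := hx
    rw [hset] at hx'
    exact hx'
  refine ⟨hset, ⟨⟨fun x y => ?_⟩⟩, fun p hp hchar x hx => ?_⟩
  · apply Subtype.ext
    rcases hmem x x.2 with hx | hx
    · rcases hmem y y.2 with hy | hy
      · apply Units.ext
        rw [hval, hval ((y * x : Cfsg.sameActionSubgroup G σ) : LinearMap.GeneralLinearGroup k M),
          Subgroup.coe_mul, Subgroup.coe_mul, hdmul _ hx _ hy, hdmul _ hy _ hx, add_comm (d _)]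
      · simp [hy]
    · simp [hx]
  · rcases hmem x hx with hx | rfl
    · haveI : CharP k p := hchar ▸ ringChar.charP k
      have hsq : d x * d x = 0 := hx.1.1.2.1.1
      have hpow : ∀ n : ℕ, ((x ^ n : LinearMap.GeneralLinearGroup k M) : M →ₗ[k] M) = 1 + (n : k) • d x := by
        intro n
        induction n with
        | zero => simp
        | succ n ih =>
          rw [pow_succ, Units.val_mul, ih, hval x, mul_add, mul_one, add_mul, one_mul, smul_mul_assoc,
            hsq, smul_zero, add_zero, Nat.cast_succ, add_smul, one_smul, add_assoc]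
      apply Units.ext
      rw [hpow, CharP.cast_eq_zero, zero_smul, add_zero, Units.val_one]
    · simp

end Cfsg.Agent.S5059
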