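import Cfsg.Statements.S5060
import Cfsg.Agent.Lib.Perm.Quad.SL2Gen

set_option autoImplicit false
open Cfsg

namespace Cfsg.Agent.S5060

/-- Let k ⊆ K be fields with the characteristic of k not 2 and k not of order 3, and let α ∈ K be a non-zero element algebraic over k. Then the subgroup of SL₂(K) generated by the upper unitriangular matrices with entry c and the lower unitriangular matrices with entry cα, c ranging over k, is exactly the group of matrices of SL₂(K) with all entries in k(α). -/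
theorem result {k K : Type*} [Field k] [Field K] [Algebra k K] (hk2 : ringChar k ≠ 2) (hk3 : Nat.card k ≠ 3)
    (α : K) (hα : IsAlgebraic k α) (hα0 : α ≠ 0) :
    (Subgroup.closure ({g : Matrix.SpecialLinearGroup (Fin 2) K | ∃ c : k, (g : Matrix (Fin 2) (Fin 2) K) = !![1, algebraMap k K c; 0, 1]} ∪
        {g : Matrix.SpecialLinearGroup (Fin 2) K | ∃ c : k, (g : Matrix (Fin 2) (Fin 2) K) = !![1, 0; algebraMap k K c * α, 1]}) :
      Set (Matrix.SpecialLinearGroup (Fin 2) K)) =
    {g : Matrix.SpecialLinearGroup (Fin 2) K | ∀ i j : Fin 2, (g : Matrix (Fin 2) (Fin 2) K) i j ∈ IntermediateField.adjoin k ({α} : Set K)} := by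
  classical
  have h2 : (2 : k) ≠ 0 := Ring.two_ne_zero hk2
  set L := IntermediateField.adjoin k ({α} : Set K)
  let f : CfsgLib.Perm.Quad.SL2.SL L →* CfsgLib.Perm.Quad.SL2.SL K :=
    Matrix.SpecialLinearGroup.map (algebraMap L K)
  have hf : ∀ g i j, (f g : Matrix (Fin 2) (Fin 2) K) i j = algebraMap L K (g.1 i j) := fun g i j => rfl
  let pb := IntermediateField.adjoin.powerBasis hα.isIntegral
  have hgen : pb.gen = IntermediateField.AdjoinSimple.gen k α :=
    IntermediateField.adjoin.powerBasis_gen hα.isIntegral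
  have hcoe : ((pb.gen : L) : K) = α := by
    rw [hgen, IntermediateField.AdjoinSimple.coe_gen]
  have htop : CfsgLib.Perm.Quad.SL2.gen k pb.gen = ⊤ := CfsgLib.Perm.Quad.SL2Gen.eq_top_of_mem
    (CfsgLib.Perm.Quad.SL2Gen.mem_gen h2 hk3 pb (fun e => hα0 (by rw [← hcoe, e]; rfl)))
  set S : Set (CfsgLib.Perm.Quad.SL2.SL K) := {g | ∃ c : k, (g : Matrix (Fin 2) (Fin 2) K) = !![1, algebraMap k K c; 0, 1]} ∪
    {g | ∃ c : k, (g : Matrix (Fin 2) (Fin 2) K) = !![1, 0; algebraMap k K c * α, 1]}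
  have hle : Subgroup.closure S ≤ f.range := by
    rw [Subgroup.closure_le]
    rintro g (⟨c, hc⟩ | ⟨c, hc⟩)
    · refine ⟨CfsgLib.Perm.Quad.SL2.up (algebraMap k L c), ?_⟩
      apply CfsgLib.Perm.Quad.SL2.ext2 <;> simp [hf, hc, CfsgLib.Perm.Quad.SL2.up_val] <;> rfl
    · refine ⟨CfsgLib.Perm.Quad.SL2.low (algebraMap k L c * pb.gen), ?_⟩
      apply CfsgLib.Perm.Quad.SL2.ext2 <;> simp [hf, hc, CfsgLib.Perm.Quad.SL2.low_val, hcoe] <;> rfl
  have hge : f.range ≤ Subgroup.closure S := by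
    rw [MonoidHom.range_eq_map, ← htop, CfsgLib.Perm.Quad.SL2.gen, MonoidHom.map_closure]
    refine Subgroup.closure_mono ?_
    rintro _ ⟨g, ⟨c, rfl⟩ | ⟨c, rfl⟩, rfl⟩
    · exact Or.inl ⟨c, by ext i j; fin_cases i <;> fin_cases j <;>
        simp [hf, CfsgLib.Perm.Quad.SL2.up_val] <;> rfl⟩
    · exact Or.inr ⟨c, by ext i j; fin_cases i <;> fin_cases j <;>
        simp [hf, CfsgLib.Perm.Quad.SL2.low_val, hcoe] <;> rfl⟩
  ext g
  constructor
  · intro hg i j
    obtain ⟨x, rfl⟩ := hle hg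
    rw [hf]
    exact (x.1 i j).2
  · intro hg
    refine hge ⟨⟨Matrix.of fun i j => (⟨_, hg i j⟩ : L), ?_⟩, ?_⟩
    · apply (algebraMap L K).injective
      rw [RingHom.map_det, map_one]
      exact g.2
    · ext i j; rfl

end Cfsg.Agent.S5060
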