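import Cfsg.Statements.S5062
import Cfsg.Agent.Lib.Perm.Quad.RootSystem

set_option autoImplicit false
universe u
open Cfsg CfsgLib.Perm.Quad CfsgLib.Perm.Quad.Ends CfsgLib.Perm.Quad.Opposite CfsgLib.Perm.Quad.Bracket

namespace Cfsg.Agent.S5062

/-- Let k be a field of characteristic not 2 with k not of order 3, M a finite-dimensional k-vector space and G ≤ GL(M) such that (G, M) is a quadratic pair (M irreducible for G, and G generated by its quadratically acting elements σ whose scalar family 1 + c(σ − 1), c ∈ k, lies in G). Write 𝒬_d for the quadratic elements of G of minimal commutator rank, E(σ) for the subgroup generated by the members of 𝒬_d with the same fixed space and commutator space as σ, and Σ for the set of these subgroups. Then, inside the subgroup G₀ generated by Σ, the members of Σ form a set of abstract root subgroups of G₀ in which every member has a rank one partner; and whenever a member A and a rank one partner B of A lie in a connected component of the rank-one-pair graph that is degenerate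 (no commutator case among its members), there are subgroups A₀ ≤ A, B₀ ≤ B generating an image of SL₂(k₁) with central kernel on unitriangular subgroups, for some field k₁ with at least four elements. -/
theorem result {k : Type u} [Field k] (hk2 : ringChar k ≠ 2) (hk3 : Nat.card k ≠ 3)
    {M : Type u} [AddCommGroup M] [Module k M] [FiniteDimensional k M]
    {G : Subgroup (LinearMap.GeneralLinearGroup k M)} (hG : Cfsg.IsQuadraticPair G) :
    Cfsg.IsRootSubgroupSet ((fun A : Subgroup (LinearMap.GeneralLinearGroup k M) => A.subgroupOf (⨆ B ∈ Cfsg.quadraticRootSubgroups G, B)) ''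
      Cfsg.quadraticRootSubgroups G) ∧
    (∀ A ∈ Cfsg.quadraticRootSubgroups G, ¬ Cfsg.IsIsolatedIn (Cfsg.FAdj (Cfsg.quadraticRootSubgroups G)) (Cfsg.quadraticRootSubgroups G) A) ∧
    (∀ A ∈ Cfsg.quadraticRootSubgroups G, ∀ B ∈ Cfsg.rankOnePartners (Cfsg.quadraticRootSubgroups G) A,
      (∀ C ∈ Cfsg.componentOf (Cfsg.FAdj (Cfsg.quadraticRootSubgroups G)) (Cfsg.quadraticRootSubgroups G) A,
        ∀ D ∈ Cfsg.componentOf (Cfsg.FAdj (Cfsg.quadraticRootSubgroups G)) (Cfsg.quadraticRootSubgroups G) A,
          ¬ Cfsg.RootCommutatorCase (Cfsg.quadraticRootSubgroups G) C D) →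
      ∃ A₀ B₀ : Subgroup (LinearMap.GeneralLinearGroup k M), A₀ ≤ A ∧ B₀ ≤ B ∧
        ∃ (k₁ : Type u) (_ : Field k₁), 3 < ENat.card k₁ ∧ Cfsg.IsPSL2PairOver k₁ A₀ B₀) := by
  have h2 : (2 : k) ≠ 0 := Ring.two_ne_zero hk2
  refine ⟨RootSystem.isRootSubgroupSet h2 hk3 (Bracket.clean_of_pair hG), fun A hA hiso => ?_, ?_⟩
  · obtain ⟨B, hB, hp⟩ := RootSystem.not_isolated h2 hk3 (Bracket.clean_of_pair hG) hA
    exact (hiso.2 B).1 ⟨hA, hB, hp⟩
  · intro A hA B hB _
    obtain ⟨x, hx, rfl⟩ := mem_rootSubgroups.mp hA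
    obtain ⟨y, hy, rfl⟩ := mem_rootSubgroups.mp hB.1
    obtain ⟨y', hy', hy0, hf⟩ :=
      Opposite.exists_inv h2 hk3 hx hy (RootSystem.opp_of_pair h2 hk3 hx hy hB.2)
    obtain ⟨A₀, B₀, hA₀, hB₀, h⟩ := Opposite.psl2 hf hx (cls_qd hy' hy0).1
    refine ⟨A₀, B₀, hA₀, hB₀.trans (root_eq_of_mem hy' hy0).le, k, inferInstance, ?_, h⟩
    cases finite_or_infinite k with
    | inl hfin =>
      have := SL2Gen.five_le_card h2 hk3
      rw [ENat.card_eq_coe_natCard]
      exact_mod_cast (by omega : 3 < Nat.card k)
    | inr hinf =>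
      rw [ENat.card_eq_top_of_infinite]
      exact ENat.coe_lt_top 3

end Cfsg.Agent.S5062
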