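import Cfsg.Statements.S5063
import Cfsg.Agent.Lib.Perm.Quad.Decompose

set_option autoImplicit false
universe u
open Cfsg CfsgLib.Perm.Quad CfsgLib.Perm.Quad.Ends

namespace Cfsg.Agent.S5063

/-- Let k be a field of characteristic not 2 with k not of order 3, M a finite-dimensional k-vector space and G ≤ GL(M) such that (G, M) is a quadratic pair (M irreducible for G, and G generated by its quadratically acting elements σ whose scalar family 1 + c(σ − 1), c ∈ k, lies in G). Write 𝒬_d for the quadratic elements of G of minimal commutator rank, E(σ) for the subgroup generated by the members of 𝒬_d with the same fixed space and commutator space as σ, and Σ for the set of these subgroups. Then G is a central product of finitely many quasisimple normal subgroups G₁, …, G_s (pairwise commuting and together generating G), each generated by the quadratic elements of G it contains, and every quadratic element of G lies in one of them. -/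
theorem result {k : Type u} [Field k] (hk2 : ringChar k ≠ 2) (hk3 : Nat.card k ≠ 3)
    {M : Type u} [AddCommGroup M] [Module k M] [FiniteDimensional k M]
    {G : Subgroup (LinearMap.GeneralLinearGroup k M)} (hG : Cfsg.IsQuadraticPair G) :
    ∃ (s : ℕ) (Gi : Fin s → Subgroup (LinearMap.GeneralLinearGroup k M)),
      (∀ i, Gi i ≤ G ∧ ∀ g ∈ G, Cfsg.conjBy (Gi i) g = Gi i) ∧ (∀ i j, i ≠ j → ⁅Gi i, Gi j⁆ = ⊥) ∧ (⨆ i, Gi i) = G ∧
      (∀ i, Cfsg.IsQuasisimple ↥(Gi i) ∧ Subgroup.closure (Cfsg.quadraticElements G ∩ (Gi i : Set (LinearMap.GeneralLinearGroup k M))) = Gi i) ∧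
      Cfsg.quadraticElements G ⊆ ⋃ i, (Gi i : Set (LinearMap.GeneralLinearGroup k M)) := by
  have h2 : (2 : k) ≠ 0 := Ring.two_ne_zero hk2
  obtain ⟨𝒢, hf⟩ := Decompose.exists_factors h2 hk3 (Bracket.clean_of_pair hG)
  haveI : Finite 𝒢 := Set.finite_coe_iff.mpr hf.finite
  let e := (Finite.equivFin 𝒢).symm
  have hsup := Decompose.generated h2 hk3 hG.2 hf
  refine ⟨Nat.card 𝒢, fun i => (e i).1, fun i => ⟨hf.le _ (e i).2, ?_⟩, ?_, ?_,
    fun i => ⟨hf.quasisimple _ (e i).2, hf.gen _ (e i).2⟩, ?_⟩
  · have : G ≤ Subgroup.normalizer (((e i).1 : Subgroup _) : Set (LinearMap.GeneralLinearGroup k M)) := by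
      conv_lhs => rw [← hsup]
      refine iSup₂_le fun Y hY g hg => CfsgLib.Perm.RankOne.conjBy_eq_iff_mem_normalizer.mp ?_
      rcases eq_or_ne Y (e i).1 with rfl | hne
      · exact CfsgLib.Perm.RankOne.conjBy_of_mem hg
      · exact CfsgLib.Perm.RankOne.conjBy_of_comm fun u hu => commutatorElement_eq_one_iff_mul_comm.mp
          (Subgroup.mem_bot.mp (hf.commute Y hY _ (e i).2 hne ▸ Subgroup.commutator_mem_commutator hg hu))
    exact fun g hg => CfsgLib.Perm.RankOne.conjBy_eq_iff_mem_normalizer.mpr (this hg)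
  · exact fun i j hij => hf.commute _ (e i).2 _ (e j).2 fun h => hij (e.injective (Subtype.ext h))
  · conv_rhs => rw [← hsup]
    apply le_antisymm
    · exact iSup_le fun i => le_iSup₂_of_le _ (e i).2 le_rfl
    · exact iSup₂_le fun X hX => le_iSup_of_le (e.symm ⟨X, hX⟩) (congrArg Subtype.val (e.apply_symm_apply ⟨X, hX⟩)).ge
  · intro t ht
    obtain ⟨X, hX, htX⟩ := Decompose.quadratic_mem h2 hk3 hG hf ht
    exact Set.mem_iUnion.mpr ⟨e.symm ⟨X, hX⟩, (congrArg Subtype.val (e.apply_symm_apply ⟨X, hX⟩)).ge htX⟩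

end Cfsg.Agent.S5063
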