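import Cfsg.Statements.S5064
import Cfsg.Agent.Lib.Perm.Quad.Opposite

set_option autoImplicit false
universe u
open Cfsg

namespace Cfsg.Agent.S5064

/-- Let k be a field of characteristic not 2 with k not of order 3, M a finite-dimensional k-vector space and G ≤ GL(M) such that (G, M) is a quadratic pair (M irreducible for G, and G generated by its quadratically acting elements σ whose scalar family 1 + c(σ − 1), c ∈ k, lies in G). Write 𝒬_d for the quadratic elements of G of minimal commutator rank, E(σ) for the subgroup generated by the members of 𝒬_d with the same fixed space and commutator space as σ, and Σ for the set of these subgroups. If σ, τ ∈ 𝒬_d and the subgroup H generated by their two scalar families does not act unipotently on M, then H is isomorphic to SL₂ over a simple algebraic extension k(λ) of k. -/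
theorem result {k : Type u} [Field k] (hk2 : ringChar k ≠ 2) (hk3 : Nat.card k ≠ 3)
    {M : Type u} [AddCommGroup M] [Module k M] [FiniteDimensional k M]
    {G : Subgroup (LinearMap.GeneralLinearGroup k M)} (hG : Cfsg.IsQuadraticPair G)
    {σ τ : LinearMap.GeneralLinearGroup k M} (hσ : σ ∈ Cfsg.minimalQuadraticElements G) (hτ : τ ∈ Cfsg.minimalQuadraticElements G)
    (hH : ¬ Cfsg.IsUnipotentOn (Subgroup.closure (Cfsg.scalarFamily σ ∪ Cfsg.scalarFamily τ))) :
    ∃ (K : Type u) (_ : Field K) (_ : Algebra k K) (lam : K), IsAlgebraic k lam ∧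
      IntermediateField.adjoin k ({lam} : Set K) = ⊤ ∧
      Nonempty (↥(Subgroup.closure (Cfsg.scalarFamily σ ∪ Cfsg.scalarFamily τ)) ≃* Matrix.SpecialLinearGroup (Fin 2) K) := by
  have h2 : (2 : k) ≠ 0 := Ring.two_ne_zero hk2
  have hx := CfsgLib.Perm.Quad.Ends.mem_minimal_iff.mp hσ
  have hy := CfsgLib.Perm.Quad.Ends.mem_minimal_iff.mp hτ
  have hz : ¬ IsNilpotent (((σ : M →ₗ[k] M) - 1) * ((τ : M →ₗ[k] M) - 1) +
      ((τ : M →ₗ[k] M) - 1) * ((σ : M →ₗ[k] M) - 1)) := fun h =>
    hH (CfsgLib.Perm.Quad.PairSplit.unipotent_of_nilpotent hx.sq hy.sq h)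
  obtain ⟨D, -, -, -, -, -, hH', -, hF⟩ := CfsgLib.Perm.Quad.PairSplit.exists_data h2 hk3 hx hy hz
  haveI := D.finite
  letI := hF.toField
  refine ⟨D.R, inferInstance, inferInstance, D.lam, Algebra.IsAlgebraic.isAlgebraic D.lam, ?_,
    ⟨((MonoidHom.ofInjective D.Ψ_injective).trans (MulEquiv.subgroupCongr hH'.symm)).symm⟩⟩
  rw [← IntermediateField.toSubalgebra_inj, IntermediateField.top_toSubalgebra,
    IntermediateField.adjoin_simple_toSubalgebra_of_isAlgebraic (Algebra.IsAlgebraic.isAlgebraic D.lam),
    D.adjoin_lam]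

end Cfsg.Agent.S5064
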