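import Cfsg.Statements.S5065
import Cfsg.Agent.Lib.Perm.Quad.RootSystem

set_option autoImplicit false
universe u
open Cfsg CfsgLib.Perm.Quad CfsgLib.Perm.Quad.Ends CfsgLib.Perm.Quad.Opposite CfsgLib.Perm.Quad.Bracket

namespace Cfsg.Agent.S5065

/-- Let k be a field of characteristic not 2 with k not of order 3, M a finite-dimensional k-vector space and G ≤ GL(M) such that (G, M) is a quadratic pair (M irreducible for G, and G generated by its quadratically acting elements σ whose scalar family 1 + c(σ − 1), c ∈ k, lies in G). Write 𝒬_d for the quadratic elements of G of minimal commutator rank, E(σ) for the subgroup generated by the members of 𝒬_d with the same fixed space and commutator space as σ, and Σ for the set of these subgroups. For σ, τ ∈ 𝒬_d put A = E(σ), B = E(τ) and X = ⟨A, B⟩. Then either X acts unipotently on M, or A and B are the unipotent subgroups of a special rank one group X; in the latter case X contains exactly one central involution acting as −1 on the commutator space [M, X] and trivially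 on the fixed space C_M(X), and M is the direct sum of C_M(X) and [M, X]. -/
theorem result {k : Type u} [Field k] (hk2 : ringChar k ≠ 2) (hk3 : Nat.card k ≠ 3)
    {M : Type u} [AddCommGroup M] [Module k M] [FiniteDimensional k M]
    {G : Subgroup (LinearMap.GeneralLinearGroup k M)} (hG : Cfsg.IsQuadraticPair G)
    {σ τ : LinearMap.GeneralLinearGroup k M} (hσ : σ ∈ Cfsg.minimalQuadraticElements G) (hτ : τ ∈ Cfsg.minimalQuadraticElements G) :
    Cfsg.IsUnipotentOn (Cfsg.sameActionSubgroup G σ ⊔ Cfsg.sameActionSubgroup G τ) ∨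
    (Cfsg.IsSpecialRankOnePair (Cfsg.sameActionSubgroup G σ) (Cfsg.sameActionSubgroup G τ) ∧
      (∃! i : LinearMap.GeneralLinearGroup k M, i ∈ Cfsg.sameActionSubgroup G σ ⊔ Cfsg.sameActionSubgroup G τ ∧ i ≠ 1 ∧ i * i = 1 ∧
        (∀ x ∈ Cfsg.sameActionSubgroup G σ ⊔ Cfsg.sameActionSubgroup G τ, i * x = x * i) ∧
        (∀ m ∈ Cfsg.commutatorSubmodule (Cfsg.sameActionSubgroup G σ ⊔ Cfsg.sameActionSubgroup G τ), (i : M →ₗ[k] M) m = -m) ∧
        (∀ m ∈ Cfsg.fixedSubmodule (Cfsg.sameActionSubgroup G σ ⊔ Cfsg.sameActionSubgroup G τ), (i : M →ₗ[k] M) m = m)) ∧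
      IsCompl (Cfsg.fixedSubmodule (Cfsg.sameActionSubgroup G σ ⊔ Cfsg.sameActionSubgroup G τ))
        (Cfsg.commutatorSubmodule (Cfsg.sameActionSubgroup G σ ⊔ Cfsg.sameActionSubgroup G τ))) := by
  have h2 : (2 : k) ≠ 0 := Ring.two_ne_zero hk2
  have hx := mem_minimal_iff.mp hσ
  have hy := mem_minimal_iff.mp hτ
  rw [sameActionSubgroup_eq, sameActionSubgroup_eq]
  obtain ⟨x, ex⟩ : ∃ x, x = (σ : Module.End k M) - 1 := ⟨_, rfl⟩
  obtain ⟨y, ey⟩ : ∃ y, y = (τ : Module.End k M) - 1 := ⟨_, rfl⟩
  rw [← ex] at hx ⊢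
  rw [← ey] at hy ⊢
  by_cases ho : Opp x y
  swap
  · exact Or.inl (PairNil.cls_unipotent h2 hk3 ho)
  refine Or.inr ⟨Opposite.isSpecial h2 hk3 hx hy ho, ?_⟩
  obtain ⟨y', hy', hy0, hf⟩ := Opposite.exists_inv h2 hk3 hx hy ho
  obtain ⟨-, hky, hry⟩ := cls_qd hy' hy0
  obtain ⟨u, hu, eu⟩ := exists_mem_root (self_mem_cls hx)
  obtain ⟨v, hv, ev⟩ := exists_mem_root (neg_mem hy')
  obtain ⟨n, en, hn⟩ := hf.exists_swap
  obtain ⟨X, hX⟩ : ∃ X, X = root G x ⊔ root G y := ⟨_, rfl⟩
  rw [← hX]
  have hnX : n ∈ X := by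
    rw [hn u v eu (ev.trans (sub_eq_add_neg _ _).symm), hX]
    exact mul_mem (mul_mem (Subgroup.mem_sup_left hu) (Subgroup.mem_sup_right hv)) (Subgroup.mem_sup_left hu)
  obtain ⟨P, eP⟩ : ∃ P, P = x * y' + y' * x := ⟨_, rfl⟩
  have hnn : ((n * n : LinearMap.GeneralLinearGroup k M) : Module.End k M) = 1 - (P + P) := by
    rw [Units.val_mul, en, eP]
    simp only [mul_add, add_mul, mul_sub, sub_mul, mul_one, one_mul, mul_assoc, hf.hx, hf.hy, mul_zero,
      ← mul_assoc x x, ← mul_assoc y' y', zero_mul,
      show x * (y' * x) = x by rw [← mul_assoc, hf.hxyx], show y' * (x * y') = y' by rw [← mul_assoc, hf.hyxy]]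
    abel
  have gens : ∀ g : LinearMap.GeneralLinearGroup k M, ((g : Module.End k M) - 1 ∈ cls G x ∨ (g : Module.End k M) - 1 ∈ cls G y) →
      P * ((g : Module.End k M) - 1) = (g : Module.End k M) - 1 ∧ ((g : Module.End k M) - 1) * P = (g : Module.End k M) - 1 := by
    intro g hg
    generalize (g : Module.End k M) - 1 = a at hg
    rcases eq_or_ne a 0 with rfl | ha0
    · simp
    have hr : LinearMap.range a ≤ LinearMap.range x ⊔ LinearMap.range y' := by
      rcases hg with hg | hg
      · exact (cls_qd hg ha0).2.2 ▸ le_sup_left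
      · rw [(cls_qd hg ha0).2.2, hry]; exact le_sup_right
    have hk : LinearMap.ker x ⊓ LinearMap.ker y' ≤ LinearMap.ker a := by
      rcases hg with hg | hg
      · exact (cls_qd hg ha0).2.1 ▸ inf_le_left
      · rw [(cls_qd hg ha0).2.1, hky]; exact inf_le_right
    rw [← hf.range_P, ← eP] at hr
    rw [← hf.ker_P, ← eP] at hk
    have hPP : P * P = P := eP ▸ hf.PP
    constructor
    · ext m
      obtain ⟨m', hm'⟩ := hr ⟨m, rfl⟩
      rw [Module.End.mul_apply, ← hm', ← Module.End.mul_apply, hPP]
    · ext m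
      have : P m - m ∈ LinearMap.ker P := by
        rw [LinearMap.mem_ker, map_sub, ← Module.End.mul_apply P P, hPP, sub_self]
      have := LinearMap.mem_ker.mp (hk this)
      rw [map_sub, sub_eq_zero] at this
      exact this
  have all : ∀ g ∈ X, P * ((g : Module.End k M) - 1) = (g : Module.End k M) - 1 ∧ ((g : Module.End k M) - 1) * P = (g : Module.End k M) - 1 := by
    intro g hg
    rw [hX, ← Subgroup.closure_eq (root G x), ← Subgroup.closure_eq (root G y), ← Subgroup.closure_union] at hg
    induction hg using Subgroup.closure_induction'' with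
    | mem g hg => exact gens g hg
    | inv_mem g hg => exact gens _ (hg.imp (fun h => (root G x).inv_mem h) (fun h => (root G y).inv_mem h))
    | one => simp
    | mul g h _ _ hg hh =>
      rw [Units.val_mul]
      generalize (g : Module.End k M) = a at hg
      generalize (h : Module.End k M) = b at hh
      have e : a * b - 1 = (a - 1) * (b - 1) + (a - 1) + (b - 1) := by noncomm_ring
      rw [e]
      constructor
      · rw [mul_add, mul_add, ← mul_assoc, hg.1, hh.1]
      · rw [add_mul, add_mul, mul_assoc, hg.2, hh.2]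
  have hcom : commutatorSubmodule X = LinearMap.range x ⊔ LinearMap.range y := by
    apply le_antisymm
    · refine iSup₂_le fun g hg => ?_
      rw [← hry, ← hf.range_P, ← eP, ← (all g hg).1]
      exact LinearMap.range_comp_le_range _ P
    · have key : ∀ {a z : Module.End k M}, root G z ≤ X → Qd G z → LinearMap.range z ≤ commutatorSubmodule X := by
        intro a z hz hq
        rw [← RootSystem.commutator_root hq]
        exact biSup_mono fun g hg => hz hg
      exact sup_le (key (a := x) (hX ▸ le_sup_left) hx) (key (a := x) (hX ▸ le_sup_right) hy)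
  have hfix : fixedSubmodule X = LinearMap.ker x ⊓ LinearMap.ker y := by
    apply le_antisymm
    · rw [← RootSystem.fixed_root hx, ← RootSystem.fixed_root hy]
      exact le_inf (biInf_mono fun g hg => hX ▸ Subgroup.mem_sup_left hg)
        (biInf_mono fun g hg => hX ▸ Subgroup.mem_sup_right hg)
    · refine le_iInf₂ fun g hg m hm => ?_
      rw [← hky, ← hf.ker_P, ← eP, LinearMap.mem_ker] at hm
      rw [LinearMap.mem_ker, ← (all g hg).2, Module.End.mul_apply, hm, map_zero]
  have hc := hf.isCompl
  rw [hky, hry, ← hfix, ← hcom] at hc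
  refine ⟨⟨n * n, ⟨mul_mem hnX hnX, ?_, ?_, ?_, ?_, ?_⟩, ?_⟩, hc⟩
  · intro e
    rw [e, Units.val_one, eq_comm, sub_eq_self] at hnn
    have := congrArg (· * x) hnn
    simp only [add_mul, eP, hf.Px, zero_mul] at this
    rw [← two_smul k, smul_eq_zero] at this
    exact this.elim h2 hx.ne
  · refine Units.ext ?_
    rw [Units.val_mul, hnn, Units.val_one]
    have hPP : P * P = P := eP ▸ hf.PP
    simp only [mul_sub, sub_mul, mul_add, add_mul, mul_one, one_mul, hPP]
    abel
  · intro g hg
    refine Units.ext ?_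
    rw [Units.val_mul (n * n) g, Units.val_mul g (n * n), hnn]
    obtain ⟨a1, a2⟩ := all g hg
    simp only [mul_sub, sub_mul, mul_one, one_mul] at a1 a2
    simp only [mul_sub, sub_mul, mul_add, add_mul, mul_one, one_mul]
    have : P * (g : Module.End k M) = (g : Module.End k M) * P := by
      linear_combination (norm := abel) a1 - a2
    rw [this]
  · intro m hm
    rw [hcom, ← hry, ← hf.range_P, ← eP] at hm
    obtain ⟨m', rfl⟩ := hm
    change ((n * n : LinearMap.GeneralLinearGroup k M) : Module.End k M) (P m') = -(P m')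
    rw [hnn, LinearMap.sub_apply, LinearMap.add_apply, Module.End.one_apply, ← Module.End.mul_apply,
      eP, hf.PP]
    abel
  · intro m hm
    rw [hfix, ← hky, ← hf.ker_P, ← eP, LinearMap.mem_ker] at hm
    change ((n * n : LinearMap.GeneralLinearGroup k M) : Module.End k M) m = m
    rw [hnn, LinearMap.sub_apply, LinearMap.add_apply, Module.End.one_apply, hm, add_zero, sub_zero]
  · rintro i ⟨-, -, -, -, hi1, hi2⟩
    refine Units.ext (LinearMap.ext fun m => ?_)
    obtain ⟨a, ha, b, hb, rfl⟩ := Submodule.mem_sup.mp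
      (hc.sup_eq_top ▸ Submodule.mem_top : m ∈ fixedSubmodule X ⊔ commutatorSubmodule X)
    rw [hnn]
    rw [map_add, map_add]
    change (i : M →ₗ[k] M) a + (i : M →ₗ[k] M) b = _
    rw [hi1 b hb, hi2 a ha]
    rw [hfix, ← hky, ← hf.ker_P, ← eP, LinearMap.mem_ker] at ha
    rw [hcom, ← hry, ← hf.range_P, ← eP] at hb
    obtain ⟨b', rfl⟩ := hb
    simp only [LinearMap.sub_apply, LinearMap.add_apply, Module.End.one_apply, ha, ← Module.End.mul_apply, one_mul,
      show P * P = P from eP ▸ hf.PP]
    abel

end Cfsg.Agent.S5065
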