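import Cfsg.Statements.S5066
import Cfsg.Agent.Lib.Perm.Quad.RootSystem

set_option autoImplicit false
universe u
open Cfsg CfsgLib.Perm.Quad CfsgLib.Perm.Quad.Ends CfsgLib.Perm.Quad.Opposite CfsgLib.Perm.Quad.Bracket

namespace Cfsg.Agent.S5066

/-- Let k be a field of characteristic not 2 with k not of order 3, M a finite-dimensional k-vector space and G ≤ GL(M) such that (G, M) is a quadratic pair (M irreducible for G, and G generated by its quadratically acting elements σ whose scalar family 1 + c(σ − 1), c ∈ k, lies in G). Write 𝒬_d for the quadratic elements of G of minimal commutator rank, E(σ) for the subgroup generated by the members of 𝒬_d with the same fixed space and commutator space as σ, and Σ for the set of these subgroups. Let E, F ∈ Σ generate a subgroup that is nilpotent of class exactly two. Then D = ⁅E, F⁆ belongs to Σ, equals the subgroup generated by the commutators of e with F, and also of E with f, for every non-identity e ∈ E, f ∈ F, and ⟨E, F⟩ lies in U(D), the set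 of elements g of G normalizing D with (g − 1)M inside the fixed space of D, (g − 1) mapping that fixed space into the commutator space of D, and g acting trivially on the commutator space of D. -/
theorem result {k : Type u} [Field k] (hk2 : ringChar k ≠ 2) (hk3 : Nat.card k ≠ 3)
    {M : Type u} [AddCommGroup M] [Module k M] [FiniteDimensional k M]
    {G : Subgroup (LinearMap.GeneralLinearGroup k M)} (hG : Cfsg.IsQuadraticPair G)
    {E F : Subgroup (LinearMap.GeneralLinearGroup k M)} (hE : E ∈ Cfsg.quadraticRootSubgroups G) (hF : F ∈ Cfsg.quadraticRootSubgroups G)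
    (h2 : ⁅E ⊔ F, E ⊔ F⁆ ≠ ⊥ ∧ ⁅⁅E ⊔ F, E ⊔ F⁆, E ⊔ F⁆ = ⊥) :
    ⁅E, F⁆ ∈ Cfsg.quadraticRootSubgroups G ∧
    (∀ e ∈ E, e ≠ 1 → Subgroup.closure ((fun f : LinearMap.GeneralLinearGroup k M => e * f * e⁻¹ * f⁻¹) '' (F : Set (LinearMap.GeneralLinearGroup k M))) = ⁅E, F⁆) ∧
    (∀ f ∈ F, f ≠ 1 → Subgroup.closure ((fun e : LinearMap.GeneralLinearGroup k M => e * f * e⁻¹ * f⁻¹) '' (E : Set (LinearMap.GeneralLinearGroup k M))) = ⁅E, F⁆) ∧
    ((E ⊔ F : Subgroup (LinearMap.GeneralLinearGroup k M)) : Set (LinearMap.GeneralLinearGroup k M)) ⊆ Cfsg.quadraticUnipotentCore G ⁅E, F⁆ := by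
  have h2' : (2 : k) ≠ 0 := Ring.two_ne_zero hk2
  obtain ⟨x, hx, rfl⟩ := mem_rootSubgroups.mp hE
  obtain ⟨y, hy, rfl⟩ := mem_rootSubgroups.mp hF
  have ho : ¬ Opp x y := by
    intro ho
    obtain ⟨y', hy', -, hf⟩ := Opposite.exists_inv h2' hk3 hx hy ho
    obtain ⟨μ, hμ0, hμ⟩ := PairSplit.exists_tor h2' hk3
    obtain ⟨X, hX⟩ : ∃ X, X = root G x ⊔ root G y := ⟨_, rfl⟩
    have hall : (⊤ : Subgroup (SL2.SL k)).map hf.hom ≤ X := by
      rw [← CfsgLib.Perm.SL2Unipotent.sup_eq_top (k := k), Subgroup.map_sup, hX, sup_comm]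
      refine sup_le_sup ?_ ?_
      · rintro _ ⟨g, hg, rfl⟩
        obtain ⟨c, rfl⟩ := CfsgLib.Perm.SL2Unipotent.mem_upper.mp hg
        exact mem_root_of_eq (Submodule.smul_mem _ c (self_mem_cls hx)) (hf.hom_up c)
      · rintro _ ⟨g, hg, rfl⟩
        obtain ⟨c, rfl⟩ := CfsgLib.Perm.SL2Unipotent.mem_lower.mp hg
        exact mem_root_of_eq (Submodule.smul_mem _ c hy') (hf.hom_low c)
    have hperf : ∀ r : k, SL2.up r ∈ ⁅(⊤ : Subgroup (SL2.SL k)), (⊤ : Subgroup (SL2.SL k))⁆ := by
      intro r
      have hμ1 : μ ^ 2 - 1 ≠ 0 := sub_ne_zero.mpr hμ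
      convert Subgroup.commutator_mem_commutator (Subgroup.mem_top (PairSplit.tor (Units.mk0 μ hμ0)))
        (Subgroup.mem_top (SL2.up (r / (μ ^ 2 - 1)))) using 1
      rw [commutatorElement_def, PairSplit.tor_inv, SL2.up_inv]
      apply SL2.ext2 <;> simp [PairSplit.tor_val, SL2.mul_apply2, SL2.up_val] <;> field_simp <;> ring
    have htwice : hf.hom (SL2.up 1) ∈ ⁅⁅X, X⁆, X⁆ := by
      have h3 : SL2.up (1 : k) ∈ ⁅⁅(⊤ : Subgroup (SL2.SL k)), (⊤ : Subgroup (SL2.SL k))⁆, (⊤ : Subgroup (SL2.SL k))⁆ := by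
        have hμ1 : μ ^ 2 - 1 ≠ 0 := sub_ne_zero.mpr hμ
        have := Subgroup.commutator_mem_commutator (hperf (-1 / (μ ^ 2 - 1)))
          (Subgroup.mem_top (PairSplit.tor (Units.mk0 μ hμ0)))
        convert this using 1
        rw [commutatorElement_def, PairSplit.tor_inv, SL2.up_inv]
        apply SL2.ext2 <;> simp [PairSplit.tor_val, SL2.mul_apply2, SL2.up_val] <;> field_simp <;> ring
      have := Subgroup.mem_map_of_mem hf.hom h3
      rw [Subgroup.map_commutator, Subgroup.map_commutator] at this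
      exact Subgroup.commutator_mono (Subgroup.commutator_mono hall hall) hall this
    rw [hX, h2.2, Subgroup.mem_bot] at htwice
    have := hf.hom_up 1
    rw [htwice, one_smul, Units.val_one, left_eq_add] at this
    exact hx.ne this
  by_cases hw : x * y - y * x = 0
  · exfalso
    have e := Bracket.comm_bot h2' hk3 hx hy ho hw
    apply h2.1
    have hc : ∀ u ∈ root G x, ∀ v ∈ root G y, u * v = v * u := fun u hu v hv =>
      commutatorElement_eq_one_iff_mul_comm.mp (Subgroup.mem_bot.mp (e ▸ Subgroup.commutator_mem_commutator hu hv))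
    rw [eq_bot_iff, Subgroup.commutator_le]
    intro s hs t ht
    rw [Subgroup.mem_bot, commutatorElement_eq_one_iff_mul_comm]
    have key : root G x ⊔ root G y ≤ Subgroup.centralizer ((root G x ⊔ root G y : Subgroup _) : Set _) := by
      rw [Subgroup.le_centralizer_iff]
      have h1 : root G x ≤ Subgroup.centralizer ((root G x ⊔ root G y : Subgroup _) : Set _) := by
        rw [Subgroup.le_centralizer_iff]
        exact sup_le (fun u hu v hv => RootSystem.comm_root x hv hu) (fun v hv u hu => hc u hu v hv)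
      have h2'' : root G y ≤ Subgroup.centralizer ((root G x ⊔ root G y : Subgroup _) : Set _) := by
        rw [Subgroup.le_centralizer_iff]
        exact sup_le (fun u hu v hv => (hc u hu v hv).symm) (fun v hv u hu => RootSystem.comm_root y hu hv)
      exact sup_le h1 h2''
    exact key ht s hs
  obtain ⟨hq, e, e1, e2⟩ := Bracket.commutator_eq h2' hk3 (Bracket.clean_of_pair hG) hx hy ho hw
  rw [e]
  exact ⟨mem_rootSubgroups.mpr ⟨_, hq, rfl⟩, e1, e2, fun g hg => RootSystem.core h2' hk3 hx hy ho hw g hg⟩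

end Cfsg.Agent.S5066
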