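import Mathlib
import Cfsg.Statements.S5067
-- import your own Cfsg.Agent.* helpers here

set_option autoImplicit false
open Cfsg

namespace Cfsg.Agent.S5067

open Subgroup

theorem class_lt {P : Type*} [Group P] [Group.IsNilpotent P] (hna : ¬ IsMulCommutative P)
    {E : Subgroup P} (hE : IsMulCommutative ↥E) :
    Group.nilpotencyClass ↥(normalClosure (E : Set P)) < Group.nilpotencyClass P := by
  let L : ℕ → Subgroup P := fun i => (⊤ : Subgroup P).lowerCentralSeries i
  haveI hL : ∀ i, (L i).Normal := fun i => inferInstanceAs ((⊤ : Subgroup P).lowerCentralSeries i).Normal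
  have hLs : ∀ i, L (i + 1) = ⁅L i, (⊤ : Subgroup P)⁆ := fun i => rfl
  have hN : normalClosure (E : Set P) ≤ E ⊔ L 1 := by
    have : (E ⊔ L 1).Normal := by
      constructor
      intro x hx g
      have : g * x * g⁻¹ * x⁻¹ ∈ L 1 := commutator_mem_commutator (Subgroup.mem_top g) (Subgroup.mem_top x)
      simpa using mul_mem (mem_sup_right (S := E) this) hx
    exact normalClosure_le_normal (fun x hx => mem_sup_left (T := L 1) hx)
  have h2 : ⁅E ⊔ L 1, E ⊔ L 1⁆ ≤ L 2 := by
    let π := QuotientGroup.mk' (L 2)
    rw [← QuotientGroup.ker_mk' (L 2), ← (⁅E ⊔ L 1, E ⊔ L 1⁆).map_eq_bot_iff,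
      Subgroup.map_commutator, commutator_eq_bot_iff_le_centralizer, Subgroup.map_sup]
    have hEE : ⁅E.map π, E.map π⁆ = ⊥ := by
      have : ⁅E, E⁆ = ⊥ := by
        rw [commutator_eq_bot_iff_le_centralizer]
        exact fun x hx => mem_centralizer_iff.mpr fun y hy =>
          congrArg Subtype.val (hE.1.comm ⟨y, hy⟩ ⟨x, hx⟩)
      rw [← Subgroup.map_commutator, this, Subgroup.map_bot]
    have hL1 : ∀ H : Subgroup P, ⁅(L 1).map π, H.map π⁆ = ⊥ := fun H => by
      rw [← Subgroup.map_commutator, (⁅L 1, H⁆).map_eq_bot_iff, QuotientGroup.ker_mk']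
      exact commutator_mono le_rfl le_top
    refine sup_le ?_ ?_ <;> rw [← commutator_eq_bot_iff_le_centralizer, commutator_comm,
      commutator_eq_bot_iff_le_centralizer] <;> refine sup_le ?_ ?_ <;>
      rw [← commutator_eq_bot_iff_le_centralizer]
    · exact hEE
    · exact hL1 E
    · rw [commutator_comm]; exact hL1 E
    · exact hL1 (L 1)
  have hstep : ∀ i, (normalClosure (E : Set P)).lowerCentralSeries (i + 1) ≤ L (i + 2) := by
    intro i
    induction i with
    | zero => exact (commutator_mono hN hN).trans h2
    | succ i ih =>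
      rw [Subgroup.lowerCentralSeries_succ, hLs (i + 2)]
      exact commutator_mono ih le_top
  have hc : 2 ≤ Group.nilpotencyClass P := by
    by_contra h
    exact hna (Group.IsNilpotent.nilpotencyClass_le_one_iff.mp (by omega))
  have hb : (normalClosure (E : Set P)).lowerCentralSeries (Group.nilpotencyClass P - 1) = ⊥ := by
    have := hstep (Group.nilpotencyClass P - 2)
    rw [show Group.nilpotencyClass P - 2 + 1 = Group.nilpotencyClass P - 1 by omega,
      show Group.nilpotencyClass P - 2 + 2 = Group.nilpotencyClass P by omega] at this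
    exact eq_bot_iff.mpr (this.trans_eq Subgroup.lowerCentralSeries_nilpotencyClass)
  rw [← top_subtype_lowerCentralSeries, map_eq_bot_iff_of_injective _ (subtype_injective _),
    Subgroup.lowerCentralSeries_eq_bot_iff_nilpotencyClass_le] at hb
  omega


/-- Let P be a non-abelian nilpotent p-group (every element of p-power order; P possibly infinite) generated by two abelian subgroups E and F. Then the normal closure of E in P, and likewise that of F, has nilpotency class strictly smaller than that of P. -/
theorem result {P : Type*} [Group P] {p : ℕ} [Fact p.Prime] (hP : IsPGroup p P) [Group.IsNilpotent P]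
    (hna : ¬ IsMulCommutative P) {E F : Subgroup P} (hE : IsMulCommutative ↥E) (hF : IsMulCommutative ↥F) (hgen : E ⊔ F = ⊤) :
    Group.nilpotencyClass ↥(Subgroup.normalClosure (E : Set P)) < Group.nilpotencyClass P ∧
    Group.nilpotencyClass ↥(Subgroup.normalClosure (F : Set P)) < Group.nilpotencyClass P := by
  exact ⟨class_lt hna hE, class_lt hna hF⟩

end Cfsg.Agent.S5067
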