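import Cfsg.Statements.S5068
import Cfsg.Agent.Lib.Perm.Quad.RootSystem

set_option autoImplicit false
universe u
open Cfsg CfsgLib.Perm.Quad CfsgLib.Perm.Quad.Ends CfsgLib.Perm.Quad.Opposite CfsgLib.Perm.Quad.Bracket

namespace Cfsg.Agent.S5068

/-- Let k be a field of characteristic not 2 with k not of order 3, M a finite-dimensional k-vector space and G ≤ GL(M) such that (G, M) is a quadratic pair (M irreducible for G, and G generated by its quadratically acting elements σ whose scalar family 1 + c(σ − 1), c ∈ k, lies in G). Write 𝒬_d for the quadratic elements of G of minimal commutator rank, E(σ) for the subgroup generated by the members of 𝒬_d with the same fixed space and commutator space as σ, and Σ for the set of these subgroups. Let E, F ∈ Σ generate a subgroup acting unipotently on M. Then either E and F commute elementwise, or L = ⁅E, F⁆ belongs to Σ, equals the subgroup generated by the commutators of e with F, and of E with f, for all non-identity e ∈ E, f ∈ F, the group ⟨E, F⟩ is nilpotent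 of class two, and ⟨E, F⟩ lies in U(L), the set of elements g of G normalizing L with (g − 1)M inside the fixed space of L, (g − 1) mapping that fixed space into the commutator space of L, and g acting trivially on the commutator space of L. -/
theorem result {k : Type u} [Field k] (hk2 : ringChar k ≠ 2) (hk3 : Nat.card k ≠ 3)
    {M : Type u} [AddCommGroup M] [Module k M] [FiniteDimensional k M]
    {G : Subgroup (LinearMap.GeneralLinearGroup k M)} (hG : Cfsg.IsQuadraticPair G)
    {E F : Subgroup (LinearMap.GeneralLinearGroup k M)} (hE : E ∈ Cfsg.quadraticRootSubgroups G) (hF : F ∈ Cfsg.quadraticRootSubgroups G)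
    (hu : Cfsg.IsUnipotentOn (E ⊔ F)) :
    ⁅E, F⁆ = ⊥ ∨
    (⁅E, F⁆ ∈ Cfsg.quadraticRootSubgroups G ∧
      (∀ e ∈ E, e ≠ 1 → Subgroup.closure ((fun f : LinearMap.GeneralLinearGroup k M => e * f * e⁻¹ * f⁻¹) '' (F : Set (LinearMap.GeneralLinearGroup k M))) = ⁅E, F⁆) ∧
      (∀ f ∈ F, f ≠ 1 → Subgroup.closure ((fun e : LinearMap.GeneralLinearGroup k M => e * f * e⁻¹ * f⁻¹) '' (E : Set (LinearMap.GeneralLinearGroup k M))) = ⁅E, F⁆) ∧
      ⁅E ⊔ F, E ⊔ F⁆ ≠ ⊥ ∧ ⁅⁅E ⊔ F, E ⊔ F⁆, E ⊔ F⁆ = ⊥ ∧
      ((E ⊔ F : Subgroup (LinearMap.GeneralLinearGroup k M)) : Set (LinearMap.GeneralLinearGroup k M)) ⊆ Cfsg.quadraticUnipotentCore G ⁅E, F⁆) := by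
  have h2 : (2 : k) ≠ 0 := Ring.two_ne_zero hk2
  obtain ⟨x, hx, rfl⟩ := mem_rootSubgroups.mp hE
  obtain ⟨y, hy, rfl⟩ := mem_rootSubgroups.mp hF
  have ho : ¬ Opp x y := by
    intro ho
    obtain ⟨u, hu', eu⟩ := exists_mem_root (self_mem_cls hx)
    obtain ⟨v, hv', ev⟩ := exists_mem_root (self_mem_cls hy)
    obtain ⟨y', hy', -, hf⟩ := Opposite.exists_inv h2 hk3 hx hy ho
    obtain ⟨v', hv'', ev'⟩ := exists_mem_root (neg_mem hy')
    obtain ⟨n, en, hn⟩ := hf.exists_swap
    have hnX : n ∈ root G x ⊔ root G y := by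
      rw [hn u v' eu (ev'.trans (sub_eq_add_neg _ _).symm)]
      exact mul_mem (mul_mem (Subgroup.mem_sup_left hu') (Subgroup.mem_sup_right hv'')) (Subgroup.mem_sup_left hu')
    obtain ⟨N, hN⟩ := CfsgLib.Perm.Unipotent.isUnipotentOn_iff.mp hu
    have e : ((n * n : LinearMap.GeneralLinearGroup k M) : Module.End k M) - 1 = (-2 : k) • (x * y' + y' * x) := by
      rw [Units.val_mul, en]
      simp only [mul_add, add_mul, mul_sub, sub_mul, mul_one, one_mul, mul_assoc, hf.hx, hf.hy, mul_zero,
        ← mul_assoc x x, ← mul_assoc y' y', zero_mul, neg_smul, two_smul, smul_add,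
        show x * (y' * x) = x by rw [← mul_assoc, hf.hxyx], show y' * (x * y') = y' by rw [← mul_assoc, hf.hyxy]]
      abel
    have := hN (List.replicate N (n * n)) (fun g hg => (List.eq_of_mem_replicate hg) ▸ mul_mem hnX hnX)
      List.length_replicate
    rw [List.map_replicate, List.prod_replicate, e, smul_pow] at this
    have hp : ∀ j, (x * y' + y' * x) ^ j * x = x := fun j => by
      induction j with
      | zero => rw [pow_zero, one_mul]
      | succ j ih => rw [pow_succ, mul_assoc, hf.Px, ih]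
    have h3 := congrArg (· * x) this
    simp only [smul_mul_assoc, hp, zero_mul, smul_eq_zero, pow_eq_zero_iff', neg_eq_zero] at h3
    exact h3.elim (fun h => h2 h.1) hx.ne
  by_cases hw : x * y - y * x = 0
  · exact Or.inl (Bracket.comm_bot h2 hk3 hx hy ho hw)
  obtain ⟨hq, e, e1, e2⟩ := Bracket.commutator_eq h2 hk3 (Bracket.clean_of_pair hG) hx hy ho hw
  obtain ⟨c1, c2⟩ := RootSystem.class_two h2 hk3 (Bracket.clean_of_pair hG) hx hy ho hw
  rw [e]
  exact Or.inr ⟨mem_rootSubgroups.mpr ⟨_, hq, rfl⟩, e1, e2, c1, c2,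
    fun g hg => RootSystem.core h2 hk3 hx hy ho hw g hg⟩

end Cfsg.Agent.S5068
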