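import Cfsg.Statements.S5069
import Cfsg.Agent.Lib.Perm.Quad.Components

set_option autoImplicit false
universe u
open Cfsg CfsgLib.Perm.Quad CfsgLib.Perm.Quad.Ends CfsgLib.Perm.Quad.Opposite

namespace Cfsg.Agent.S5069

/-- Let k be a field of characteristic not 2 with k not of order 3, M a finite-dimensional k-vector space and G ≤ GL(M) such that (G, M) is a quadratic pair (M irreducible for G, and G generated by its quadratically acting elements σ whose scalar family 1 + c(σ − 1), c ∈ k, lies in G). Write 𝒬_d for the quadratic elements of G of minimal commutator rank, E(σ) for the subgroup generated by the members of 𝒬_d with the same fixed space and commutator space as σ, and Σ for the set of these subgroups. Then Σ is a disjoint union of finitely many parts Σ₁, …, Σ_r such that the subgroups G_i generated by the Σ_i commute pairwise, each G_i is quasisimple, and inside G_i the members of Σ_i form a class of abstract root subgroups in which every rank one pair A, B contains subgroups A₀ ≤ A,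 B₀ ≤ B generating an image of SL₂(k₁) with central kernel on unitriangular subgroups for some field k₁ with at least four elements. -/
theorem result {k : Type u} [Field k] (hk2 : ringChar k ≠ 2) (hk3 : Nat.card k ≠ 3)
    {M : Type u} [AddCommGroup M] [Module k M] [FiniteDimensional k M]
    {G : Subgroup (LinearMap.GeneralLinearGroup k M)} (hG : Cfsg.IsQuadraticPair G) :
    ∃ (r : ℕ) (part : Fin r → Set (Subgroup (LinearMap.GeneralLinearGroup k M))),
      (⋃ i, part i) = Cfsg.quadraticRootSubgroups G ∧ (∀ i j, i ≠ j → Disjoint (part i) (part j)) ∧ (∀ i, (part i).Nonempty) ∧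
      (∀ i j, i ≠ j → ⁅(⨆ A ∈ part i, A), (⨆ A ∈ part j, A)⁆ = ⊥) ∧
      (∀ i, Cfsg.IsQuasisimple ↥(⨆ A ∈ part i, A) ∧
        Cfsg.IsRootSubgroupClass ((fun A : Subgroup (LinearMap.GeneralLinearGroup k M) => A.subgroupOf (⨆ B ∈ part i, B)) '' (part i)) ∧
        ∀ A ∈ part i, ∀ B ∈ Cfsg.rankOnePartners (part i) A, ∃ A₀ B₀ : Subgroup (LinearMap.GeneralLinearGroup k M), A₀ ≤ A ∧ B₀ ≤ B ∧
          ∃ (k₁ : Type u) (_ : Field k₁), 3 < ENat.card k₁ ∧ Cfsg.IsPSL2PairOver k₁ A₀ B₀) := by
  have h2 : (2 : k) ≠ 0 := Ring.two_ne_zero hk2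
  obtain ⟨𝒞, h𝒞⟩ : ∃ 𝒞, 𝒞 = {S | ∃ A ∈ quadraticRootSubgroups G, S = Components.comp G A} := ⟨_, rfl⟩
  haveI : Finite 𝒞 := Set.finite_coe_iff.mpr (h𝒞 ▸ Components.finite_components h2 hk3 (Bracket.clean_of_pair hG))
  let e := (Finite.equivFin 𝒞).symm
  have hpart : ∀ i, ∃ A ∈ quadraticRootSubgroups G, (e i).1 = Components.comp G A := fun i => by
    have := (e i).2
    simp only [h𝒞, Set.mem_ofPred_eq] at this
    exact this
  choose A hA hAe using hpart
  have hinj : ∀ i j, i ≠ j → Components.comp G (A i) ≠ Components.comp G (A j) := fun i j hij h =>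
    hij (e.injective (Subtype.ext (by rw [hAe, hAe, h])))
  refine ⟨Nat.card 𝒞, fun i => Components.comp G (A i), ?_, ?_, ?_, ?_, ?_⟩
  · ext B
    simp only [Set.mem_iUnion]
    refine ⟨fun ⟨i, hi⟩ => hi.1, fun hB => ?_⟩
    refine ⟨e.symm ⟨Components.comp G B, h𝒞 ▸ ⟨B, hB, rfl⟩⟩, ?_⟩
    rw [← hAe, Equiv.apply_symm_apply]
    exact ⟨hB, Relation.ReflTransGen.refl⟩
  · intro i j hij
    rw [Set.disjoint_left]
    intro B h1 h1'
    exact hinj i j hij ((Components.comp_eq h1.2).symm.trans (Components.comp_eq h1'.2))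
  · exact fun i => ⟨A i, hA i, Relation.ReflTransGen.refl⟩
  · exact fun i j hij => Components.comp_commute h2 hk3 (Bracket.clean_of_pair hG) (hinj i j hij)
  · intro i
    refine ⟨Components.quasisimple h2 hk3 (Bracket.clean_of_pair hG) (hA i), Components.isRootClass h2 hk3 (Bracket.clean_of_pair hG) (hA i),
      fun B hB C hC => ?_⟩
    obtain ⟨x, hx, rfl⟩ := mem_rootSubgroups.mp hB.1
    obtain ⟨y, hy, rfl⟩ := mem_rootSubgroups.mp hC.1.1
    obtain ⟨y', hy', hy0, hf⟩ :=
      Opposite.exists_inv h2 hk3 hx hy (RootSystem.opp_of_pair h2 hk3 hx hy hC.2)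
    obtain ⟨A₀, B₀, hA₀, hB₀, h⟩ := Opposite.psl2 hf hx (cls_qd hy' hy0).1
    refine ⟨A₀, B₀, hA₀, hB₀.trans (root_eq_of_mem hy' hy0).le, k, inferInstance, ?_, h⟩
    cases finite_or_infinite k with
    | inl hfin =>
      have := SL2Gen.five_le_card h2 hk3
      rw [ENat.card_eq_coe_natCard]
      exact_mod_cast (by omega : 3 < Nat.card k)
    | inr hinf =>
      rw [ENat.card_eq_top_of_infinite]
      exact ENat.coe_lt_top 3

end Cfsg.Agent.S5069
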