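import Cfsg.Statements.S5070
import Cfsg.Agent.Lib.Perm.RootModel.Dyad
import Cfsg.Agent.Lib.Classical.SympMatrix

set_option autoImplicit false
open Matrix
open Cfsg

namespace Cfsg.Agent.S5070

/-- Let F be a field, m a natural number and V = F^{2(m+1)} with the standard non-degenerate alternating form f(u, v) = uᵀ J v. For a non-zero vector p let T(p) be the group of symplectic transvections v ↦ v + c f(v, p) p, c ∈ F. Then the subgroups T(p), p ≠ 0, generate the symplectic group Sp_{2(m+1)}(F) and form a degenerate class of abstract F-root subgroups of it (any two of them either commute elementwise or are the unipotent subgroups of a rank one group that is an image of SL₂(F) with central kernel, never the commutator case), and their graph of rank one pairs is connected. -/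
theorem result (F : Type*) [Field F] (m : ℕ) :
    Cfsg.IsRootSubgroupClass {A : Subgroup ↥(Matrix.symplecticGroup (Fin (m + 1)) F) | ∃ p : Fin (m + 1) ⊕ Fin (m + 1) → F, p ≠ 0 ∧
        A = Subgroup.closure {g : ↥(Matrix.symplecticGroup (Fin (m + 1)) F) | ∃ c : F, ∀ v : Fin (m + 1) ⊕ Fin (m + 1) → F,
          (g : Matrix (Fin (m + 1) ⊕ Fin (m + 1)) (Fin (m + 1) ⊕ Fin (m + 1)) F) *ᵥ v =
            v + (c * (v ⬝ᵥ (Matrix.J (Fin (m + 1)) F *ᵥ p))) • p}} ∧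
    Cfsg.IsDegenerateRootSet {A : Subgroup ↥(Matrix.symplecticGroup (Fin (m + 1)) F) | ∃ p : Fin (m + 1) ⊕ Fin (m + 1) → F, p ≠ 0 ∧
        A = Subgroup.closure {g : ↥(Matrix.symplecticGroup (Fin (m + 1)) F) | ∃ c : F, ∀ v : Fin (m + 1) ⊕ Fin (m + 1) → F,
          (g : Matrix (Fin (m + 1) ⊕ Fin (m + 1)) (Fin (m + 1) ⊕ Fin (m + 1)) F) *ᵥ v =
            v + (c * (v ⬝ᵥ (Matrix.J (Fin (m + 1)) F *ᵥ p))) • p}} ∧
    Cfsg.IsKRootSubgroupSet F {A : Subgroup ↥(Matrix.symplecticGroup (Fin (m + 1)) F) | ∃ p : Fin (m + 1) ⊕ Fin (m + 1) → F, p ≠ 0 ∧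
        A = Subgroup.closure {g : ↥(Matrix.symplecticGroup (Fin (m + 1)) F) | ∃ c : F, ∀ v : Fin (m + 1) ⊕ Fin (m + 1) → F,
          (g : Matrix (Fin (m + 1) ⊕ Fin (m + 1)) (Fin (m + 1) ⊕ Fin (m + 1)) F) *ᵥ v =
            v + (c * (v ⬝ᵥ (Matrix.J (Fin (m + 1)) F *ᵥ p))) • p}} ∧
    Cfsg.IsConnectedFamily (Cfsg.FAdj {A : Subgroup ↥(Matrix.symplecticGroup (Fin (m + 1)) F) | ∃ p : Fin (m + 1) ⊕ Fin (m + 1) → F, p ≠ 0 ∧
        A = Subgroup.closure {g : ↥(Matrix.symplecticGroup (Fin (m + 1)) F) | ∃ c : F, ∀ v : Fin (m + 1) ⊕ Fin (m + 1) → F,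
          (g : Matrix (Fin (m + 1) ⊕ Fin (m + 1)) (Fin (m + 1) ⊕ Fin (m + 1)) F) *ᵥ v =
            v + (c * (v ⬝ᵥ (Matrix.J (Fin (m + 1)) F *ᵥ p))) • p}})
      {A : Subgroup ↥(Matrix.symplecticGroup (Fin (m + 1)) F) | ∃ p : Fin (m + 1) ⊕ Fin (m + 1) → F, p ≠ 0 ∧
        A = Subgroup.closure {g : ↥(Matrix.symplecticGroup (Fin (m + 1)) F) | ∃ c : F, ∀ v : Fin (m + 1) ⊕ Fin (m + 1) → F,
          (g : Matrix (Fin (m + 1) ⊕ Fin (m + 1)) (Fin (m + 1) ⊕ Fin (m + 1)) F) *ᵥ v =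
            v + (c * (v ⬝ᵥ (Matrix.J (Fin (m + 1)) F *ᵥ p))) • p}} := by
  open CfsgLib.Perm CfsgLib.Perm.RootModel in
  classical
  let N := Fin (m + 1) ⊕ Fin (m + 1)
  let w : (N → F) → (N → F) := fun p => Matrix.J (Fin (m + 1)) F *ᵥ p
  let ι : ↥(Matrix.symplecticGroup (Fin (m + 1)) F) →* Matrix N N F :=
    { toFun := fun g => g.1, map_one' := rfl, map_mul' := fun _ _ => rfl }
  have hι : Function.Injective ι := fun g h e => Subtype.ext e
  have hf : ∀ u v, Cfsg.sympForm (m + 1) F u v = w v ⬝ᵥ u := fun u v => dotProduct_comm _ _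
  have hself : ∀ p, w p ⬝ᵥ p = 0 := fun p => by rw [← hf, CfsgLib.Classical.sympForm_self]
  have hskew : ∀ p y, w y ⬝ᵥ p = -(w p ⬝ᵥ y) := fun p y => by
    rw [← hf, ← hf, ← CfsgLib.Classical.sympBil_apply, ← CfsgLib.Classical.sympBil_apply,
      (CfsgLib.Classical.sympBil_isAlt (m + 1)).neg]
  have hw : ∀ p, p ≠ 0 → w p ≠ 0 := by
    intro p hp e
    refine hp ((CfsgLib.Classical.sympBil_nondegenerate (m + 1)).2 p fun v => ?_)
    rw [CfsgLib.Classical.sympBil_apply, hf, e, zero_dotProduct]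
  let Λ : Set (Matrix N N F) := {X | ∃ p : N → F, p ≠ 0 ∧ X = Matrix.vecMulVec p (w p)}
  have hmv : ∀ (p v : N → F) (c : F),
      (1 + c • Matrix.vecMulVec p (w p)) *ᵥ v = v + (c * (v ⬝ᵥ w p)) • p := by
    intro p v c
    ext i
    simp [Matrix.add_mulVec, Matrix.one_mulVec, Matrix.smul_mulVec, Matrix.vecMulVec_mulVec,
      dotProduct_comm v]
    ring
  have hT : ∀ p : N → F, {g : ↥(Matrix.symplecticGroup (Fin (m + 1)) F) | ∃ c : F, ∀ v : N → F,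
      (g : Matrix N N F) *ᵥ v = v + (c * (v ⬝ᵥ (Matrix.J (Fin (m + 1)) F *ᵥ p))) • p} =
      {g | ∃ c : F, ι g = 1 + c • Matrix.vecMulVec p (w p)} := by
    intro p
    ext g
    exact exists_congr fun c => ⟨fun h => Matrix.ext_of_mulVec_single fun i => by
      rw [hmv]; exact h _, fun h v => by
      rw [show (g : Matrix N N F) = _ from h]; exact hmv p v c⟩
  have hrootp : ∀ p : N → F, Root F ι (Matrix.vecMulVec p (w p))
      (Subgroup.closure {g | ∃ c : F, ι g = 1 + c • Matrix.vecMulVec p (w p)}) := fun p =>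
    Root.closure hι (by rw [Dyad.dyad_mul, hself, zero_smul]) fun c =>
      ⟨⟨_, CfsgLib.Classical.sympTransvection_mem (m + 1) p c⟩, rfl⟩
  let S' : Set (Subgroup ↥(Matrix.symplecticGroup (Fin (m + 1)) F)) :=
    {A | ∃ X ∈ Λ, Root F ι X A}
  have hS : {A : Subgroup ↥(Matrix.symplecticGroup (Fin (m + 1)) F) | ∃ p : Fin (m + 1) ⊕ Fin (m + 1) → F, p ≠ 0 ∧
        A = Subgroup.closure {g : ↥(Matrix.symplecticGroup (Fin (m + 1)) F) | ∃ c : F, ∀ v : Fin (m + 1) ⊕ Fin (m + 1) → F,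
          (g : Matrix (Fin (m + 1) ⊕ Fin (m + 1)) (Fin (m + 1) ⊕ Fin (m + 1)) F) *ᵥ v =
            v + (c * (v ⬝ᵥ (Matrix.J (Fin (m + 1)) F *ᵥ p))) • p}} = S' := by
    ext A
    constructor
    · rintro ⟨p, hp, rfl⟩
      exact ⟨_, ⟨p, hp, rfl⟩, by rw [hT p]; exact hrootp p⟩
    · rintro ⟨X, ⟨p, hp, rfl⟩, hA⟩
      exact ⟨p, hp, by rw [hT p]; exact hA.eq_of_root hι (hrootp p)⟩
  rw [hS]
  have hne : ∀ X ∈ Λ, X ≠ 0 := by
    rintro X ⟨p, hp, rfl⟩; exact Dyad.dyad_ne_zero hp (hw p hp)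
  have hroot : ∀ X ∈ Λ, ∃ A, Root F ι X A := by
    rintro X ⟨p, hp, rfl⟩; exact ⟨_, hrootp p⟩
  have hthree : ∀ p y, w p ⬝ᵥ y ≠ 0 → ∃ l : F, l ≠ 0 ∧
      Matrix.vecMulVec p (w p) * Matrix.vecMulVec y (w y) * Matrix.vecMulVec p (w p) =
        l • Matrix.vecMulVec p (w p) ∧
      Matrix.vecMulVec y (w y) * Matrix.vecMulVec p (w p) * Matrix.vecMulVec y (w y) =
        l • Matrix.vecMulVec y (w y) := fun p y h =>
    ⟨_, mul_ne_zero h (by rw [hskew]; exact neg_ne_zero.2 h), Dyad.dyad_three _ _ _ _,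
      by rw [Dyad.dyad_three, mul_comm]⟩
  have htri : ∀ X ∈ Λ, ∀ Y ∈ Λ, X * Y = Y * X ∨
      ∃ l : F, l ≠ 0 ∧ X * Y * X = l • X ∧ Y * X * Y = l • Y := by
    rintro X ⟨p, hp, rfl⟩ Y ⟨y, hy, rfl⟩
    by_cases h : w p ⬝ᵥ y = 0
    · left; rw [Dyad.dyad_mul, Dyad.dyad_mul, hskew p y, h, neg_zero, zero_smul, zero_smul]
    · exact Or.inr (hthree p y h)
  have hlink : ∀ X ∈ Λ, ∀ Y ∈ Λ, ∃ Z ∈ Λ,
      (∃ l : F, l ≠ 0 ∧ X * Z * X = l • X ∧ Z * X * Z = l • Z) ∧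
      (∃ l : F, l ≠ 0 ∧ Z * Y * Z = l • Z ∧ Y * Z * Y = l • Y) := by
    rintro X ⟨p, hp, rfl⟩ Y ⟨r, hr, rfl⟩
    obtain ⟨z, hz1, hz2⟩ := Dyad.exists_dot_ne (hw p hp) (hw r hr)
    exact ⟨_, ⟨z, fun e => hz1 (by rw [e, dotProduct_zero]), rfl⟩, hthree p z hz1,
      hthree z r (by rw [hskew]; exact neg_ne_zero.2 hz2)⟩
  have hconj : ∀ X ∈ Λ, ∀ g, ι g * X * ι g⁻¹ ∈ Λ := by
    rintro X ⟨p, hp, rfl⟩ g
    have h1 : ι g⁻¹ * ι g = 1 := by rw [← map_mul, inv_mul_cancel, map_one]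
    refine ⟨ι g *ᵥ p, fun e => hp ?_, ?_⟩
    · rw [← Matrix.one_mulVec p, ← h1, ← Matrix.mulVec_mulVec, e, Matrix.mulVec_zero]
    · rw [Matrix.mul_vecMulVec, Matrix.vecMulVec_mul]
      congr 1
      refine dotProduct_eq _ _ fun v => ?_
      rw [← Matrix.dotProduct_mulVec, ← hf, ← hf]
      have := (CfsgLib.Classical.mem_symplecticGroup_iff_preserves (m + 1)).1 g.2
        (ι g⁻¹ *ᵥ v) p
      rw [← this, show (g : Matrix N N F) = ι g from rfl, Matrix.mulVec_mulVec,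
        show ι g * ι g⁻¹ = 1 by rw [← map_mul, mul_inv_cancel, map_one], Matrix.one_mulVec]
  have hgen : (⨆ A ∈ S', A) = ⊤ := by
    rw [eq_top_iff, ← CfsgLib.Classical.closure_sympTransvection F (m + 1), Subgroup.closure_le]
    rintro g ⟨p, c, hg⟩
    by_cases hp : p = 0
    · have : g = 1 := Subtype.ext (by rw [hg, hp]; simp [Cfsg.sympTransvection])
      rw [this]; exact Subgroup.one_mem _
    · have hmem : Subgroup.closure {g | ∃ c : F, ι g = 1 + c • Matrix.vecMulVec p (w p)} ∈ S' :=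
        ⟨_, ⟨p, hp, rfl⟩, hrootp p⟩
      exact Subgroup.mem_iSup_of_mem _ (Subgroup.mem_iSup_of_mem hmem
        (Subgroup.subset_closure ⟨c, hg⟩))
  have hk := RootModel.isKRootSubgroupSet hι Λ S' (fun _ => Iff.rfl) hne hroot hconj hgen
    fun X hX Y hY => (htri X hX Y hY).imp id Or.inl
  have hconn := RootModel.isConnectedFamily hι Λ S' (fun _ => Iff.rfl) hne hroot hlink
  obtain ⟨i⟩ : Nonempty N := inferInstance
  refine ⟨⟨hk.1, RootModel.isConjClass_of_connected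
    ⟨_, _, ⟨Pi.single i 1, by simp, rfl⟩, hrootp _⟩ hconn⟩,
    RootModel.isDegenerateRootSet hι Λ S' (fun _ => Iff.rfl) hne htri, hk, hconn⟩

end Cfsg.Agent.S5070
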