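import Cfsg.Statements.S5071
import Cfsg.Agent.Lib.Perm.RootModel.Dyad
import Cfsg.Agent.Lib.Classical.HermField

set_option autoImplicit false
set_option maxHeartbeats 2000000
set_option linter.style.haveILetI false
open Matrix
open Cfsg

namespace Cfsg.Agent.S5071

/-- Let F be a finite field with q² elements, n a natural number, and h the Hermitian form Σ uᵢ vᵢ^q on F^{n+2}. For a non-zero isotropic vector p let T(p) be the group of unitary transvections with centre ⟨p⟩: the elements of SU_{n+2}(q) moving every vector by a multiple of p and fixing every vector perpendicular to p. Let Σ be the set of these T(p) and G₀ the subgroup they generate. Then, viewed inside G₀, the members of Σ form a degenerate class of abstract k-root subgroups of G₀ for some field k with q elements (any two commute or are the unipotent subgroups of a rank one group that is an image of SL₂(k) with central kernel, never the commutator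 case), and their graph of rank one pairs is connected. -/
theorem result (F : Type*) [Field F] [Fintype F] (q n : ℕ) (hF : Fintype.card F = q ^ 2) :
    Cfsg.IsRootSubgroupClass ((fun A : Subgroup ↥(Cfsg.SU (n + 2) F q) => A.subgroupOf (⨆ B ∈ {A : Subgroup ↥(Cfsg.SU (n + 2) F q) | ∃ p : Fin (n + 2) → F, p ≠ 0 ∧ Cfsg.hermForm (n + 2) F q p p = 0 ∧
          A = Subgroup.closure {g : ↥(Cfsg.SU (n + 2) F q) |
            (∀ v : Fin (n + 2) → F, ∃ c : F, ((g : Matrix.SpecialLinearGroup (Fin (n + 2)) F) : Matrix (Fin (n + 2)) (Fin (n + 2)) F) *ᵥ v = v + c • p) ∧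
            ∀ v : Fin (n + 2) → F, Cfsg.hermForm (n + 2) F q v p = 0 →
              ((g : Matrix.SpecialLinearGroup (Fin (n + 2)) F) : Matrix (Fin (n + 2)) (Fin (n + 2)) F) *ᵥ v = v}}, B)) ''
      {A : Subgroup ↥(Cfsg.SU (n + 2) F q) | ∃ p : Fin (n + 2) → F, p ≠ 0 ∧ Cfsg.hermForm (n + 2) F q p p = 0 ∧
          A = Subgroup.closure {g : ↥(Cfsg.SU (n + 2) F q) |
            (∀ v : Fin (n + 2) → F, ∃ c : F, ((g : Matrix.SpecialLinearGroup (Fin (n + 2)) F) : Matrix (Fin (n + 2)) (Fin (n + 2)) F) *ᵥ v = v + c • p) ∧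
            ∀ v : Fin (n + 2) → F, Cfsg.hermForm (n + 2) F q v p = 0 →
              ((g : Matrix.SpecialLinearGroup (Fin (n + 2)) F) : Matrix (Fin (n + 2)) (Fin (n + 2)) F) *ᵥ v = v}}) ∧
    Cfsg.IsDegenerateRootSet ((fun A : Subgroup ↥(Cfsg.SU (n + 2) F q) => A.subgroupOf (⨆ B ∈ {A : Subgroup ↥(Cfsg.SU (n + 2) F q) | ∃ p : Fin (n + 2) → F, p ≠ 0 ∧ Cfsg.hermForm (n + 2) F q p p = 0 ∧
          A = Subgroup.closure {g : ↥(Cfsg.SU (n + 2) F q) |
            (∀ v : Fin (n + 2) → F, ∃ c : F, ((g : Matrix.SpecialLinearGroup (Fin (n + 2)) F) : Matrix (Fin (n + 2)) (Fin (n + 2)) F) *ᵥ v = v + c • p) ∧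
            ∀ v : Fin (n + 2) → F, Cfsg.hermForm (n + 2) F q v p = 0 →
              ((g : Matrix.SpecialLinearGroup (Fin (n + 2)) F) : Matrix (Fin (n + 2)) (Fin (n + 2)) F) *ᵥ v = v}}, B)) ''
      {A : Subgroup ↥(Cfsg.SU (n + 2) F q) | ∃ p : Fin (n + 2) → F, p ≠ 0 ∧ Cfsg.hermForm (n + 2) F q p p = 0 ∧
          A = Subgroup.closure {g : ↥(Cfsg.SU (n + 2) F q) |
            (∀ v : Fin (n + 2) → F, ∃ c : F, ((g : Matrix.SpecialLinearGroup (Fin (n + 2)) F) : Matrix (Fin (n + 2)) (Fin (n + 2)) F) *ᵥ v = v + c • p) ∧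
            ∀ v : Fin (n + 2) → F, Cfsg.hermForm (n + 2) F q v p = 0 →
              ((g : Matrix.SpecialLinearGroup (Fin (n + 2)) F) : Matrix (Fin (n + 2)) (Fin (n + 2)) F) *ᵥ v = v}}) ∧
    (∃ (L : Type) (_ : Field L) (_ : Fintype L), Fintype.card L = q ∧ Cfsg.IsKRootSubgroupSet L ((fun A : Subgroup ↥(Cfsg.SU (n + 2) F q) => A.subgroupOf (⨆ B ∈ {A : Subgroup ↥(Cfsg.SU (n + 2) F q) | ∃ p : Fin (n + 2) → F, p ≠ 0 ∧ Cfsg.hermForm (n + 2) F q p p = 0 ∧
          A = Subgroup.closure {g : ↥(Cfsg.SU (n + 2) F q) |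
            (∀ v : Fin (n + 2) → F, ∃ c : F, ((g : Matrix.SpecialLinearGroup (Fin (n + 2)) F) : Matrix (Fin (n + 2)) (Fin (n + 2)) F) *ᵥ v = v + c • p) ∧
            ∀ v : Fin (n + 2) → F, Cfsg.hermForm (n + 2) F q v p = 0 →
              ((g : Matrix.SpecialLinearGroup (Fin (n + 2)) F) : Matrix (Fin (n + 2)) (Fin (n + 2)) F) *ᵥ v = v}}, B)) ''
      {A : Subgroup ↥(Cfsg.SU (n + 2) F q) | ∃ p : Fin (n + 2) → F, p ≠ 0 ∧ Cfsg.hermForm (n + 2) F q p p = 0 ∧
          A = Subgroup.closure {g : ↥(Cfsg.SU (n + 2) F q) |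
            (∀ v : Fin (n + 2) → F, ∃ c : F, ((g : Matrix.SpecialLinearGroup (Fin (n + 2)) F) : Matrix (Fin (n + 2)) (Fin (n + 2)) F) *ᵥ v = v + c • p) ∧
            ∀ v : Fin (n + 2) → F, Cfsg.hermForm (n + 2) F q v p = 0 →
              ((g : Matrix.SpecialLinearGroup (Fin (n + 2)) F) : Matrix (Fin (n + 2)) (Fin (n + 2)) F) *ᵥ v = v}})) ∧
    Cfsg.IsConnectedFamily (Cfsg.FAdj ((fun A : Subgroup ↥(Cfsg.SU (n + 2) F q) => A.subgroupOf (⨆ B ∈ {A : Subgroup ↥(Cfsg.SU (n + 2) F q) | ∃ p : Fin (n + 2) → F, p ≠ 0 ∧ Cfsg.hermForm (n + 2) F q p p = 0 ∧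
          A = Subgroup.closure {g : ↥(Cfsg.SU (n + 2) F q) |
            (∀ v : Fin (n + 2) → F, ∃ c : F, ((g : Matrix.SpecialLinearGroup (Fin (n + 2)) F) : Matrix (Fin (n + 2)) (Fin (n + 2)) F) *ᵥ v = v + c • p) ∧
            ∀ v : Fin (n + 2) → F, Cfsg.hermForm (n + 2) F q v p = 0 →
              ((g : Matrix.SpecialLinearGroup (Fin (n + 2)) F) : Matrix (Fin (n + 2)) (Fin (n + 2)) F) *ᵥ v = v}}, B)) ''
      {A : Subgroup ↥(Cfsg.SU (n + 2) F q) | ∃ p : Fin (n + 2) → F, p ≠ 0 ∧ Cfsg.hermForm (n + 2) F q p p = 0 ∧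
          A = Subgroup.closure {g : ↥(Cfsg.SU (n + 2) F q) |
            (∀ v : Fin (n + 2) → F, ∃ c : F, ((g : Matrix.SpecialLinearGroup (Fin (n + 2)) F) : Matrix (Fin (n + 2)) (Fin (n + 2)) F) *ᵥ v = v + c • p) ∧
            ∀ v : Fin (n + 2) → F, Cfsg.hermForm (n + 2) F q v p = 0 →
              ((g : Matrix.SpecialLinearGroup (Fin (n + 2)) F) : Matrix (Fin (n + 2)) (Fin (n + 2)) F) *ᵥ v = v}})) ((fun A : Subgroup ↥(Cfsg.SU (n + 2) F q) => A.subgroupOf (⨆ B ∈ {A : Subgroup ↥(Cfsg.SU (n + 2) F q) | ∃ p : Fin (n + 2) → F, p ≠ 0 ∧ Cfsg.hermForm (n + 2) F q p p = 0 ∧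
          A = Subgroup.closure {g : ↥(Cfsg.SU (n + 2) F q) |
            (∀ v : Fin (n + 2) → F, ∃ c : F, ((g : Matrix.SpecialLinearGroup (Fin (n + 2)) F) : Matrix (Fin (n + 2)) (Fin (n + 2)) F) *ᵥ v = v + c • p) ∧
            ∀ v : Fin (n + 2) → F, Cfsg.hermForm (n + 2) F q v p = 0 →
              ((g : Matrix.SpecialLinearGroup (Fin (n + 2)) F) : Matrix (Fin (n + 2)) (Fin (n + 2)) F) *ᵥ v = v}}, B)) ''
      {A : Subgroup ↥(Cfsg.SU (n + 2) F q) | ∃ p : Fin (n + 2) → F, p ≠ 0 ∧ Cfsg.hermForm (n + 2) F q p p = 0 ∧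
          A = Subgroup.closure {g : ↥(Cfsg.SU (n + 2) F q) |
            (∀ v : Fin (n + 2) → F, ∃ c : F, ((g : Matrix.SpecialLinearGroup (Fin (n + 2)) F) : Matrix (Fin (n + 2)) (Fin (n + 2)) F) *ᵥ v = v + c • p) ∧
            ∀ v : Fin (n + 2) → F, Cfsg.hermForm (n + 2) F q v p = 0 →
              ((g : Matrix.SpecialLinearGroup (Fin (n + 2)) F) : Matrix (Fin (n + 2)) (Fin (n + 2)) F) *ᵥ v = v}}) := by
  open Matrix CfsgLib.Perm CfsgLib.Perm.RootModel in
  classical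
  obtain ⟨σ, hσ, hconjσ⟩ := CfsgLib.Classical.exists_frob hF
  let N := Fin (n + 2)
  obtain ⟨a₀, ha₀, ha₀'⟩ := hconjσ.exists_trace_zero
  have hsa : σ a₀ = -a₀ := eq_neg_of_add_eq_zero_right ha₀'
  let s : (N → F) → (N → F) := fun v i => σ (v i)
  have hH : ∀ u v, Cfsg.hermForm (n + 2) F q u v = s v ⬝ᵥ u := fun u v => by
    simp only [Cfsg.hermForm, dotProduct, s, hσ]
    exact Finset.sum_congr rfl fun i _ => mul_comm _ _
  have hskew : ∀ u v, s u ⬝ᵥ v = σ (s v ⬝ᵥ u) := fun u v => by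
    simp [dotProduct, s, map_sum, hconjσ.invol, mul_comm]
  have hsadd : ∀ u v, s (u + v) = s u + s v := fun u v => funext fun i => map_add σ _ _
  have hssmul : ∀ (c : F) v, s (c • v) = σ c • s v := fun c v => funext fun i => map_mul σ _ _
  have hs0 : ∀ v, v ≠ 0 → s v ≠ 0 := fun v hv e =>
    hv (funext fun i => (map_eq_zero_iff σ σ.injective).1 (congrFun e i))
  have hcardK : Nat.card (σ.eqLocusField (RingHom.id F)) = q := by
    have h1 : Nat.card (CfsgLib.Classical.fixedUnits σ) = q - 1 :=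
      (CfsgLib.Classical.frob_cards hF hσ hconjσ).1
    have e : CfsgLib.Classical.fixedUnits σ ≃ {x : σ.eqLocusField (RingHom.id F) // x ≠ 0} :=
      { toFun := fun u => ⟨⟨(u.1 : F), u.2⟩, fun h => u.1.ne_zero (congrArg Subtype.val h)⟩
        invFun := fun x => ⟨Units.mk0 x.1.1 fun h => x.2 (Subtype.ext h), x.1.2⟩
        left_inv := fun u => Subtype.ext (Units.ext rfl)
        right_inv := fun x => rfl }
    rw [Nat.card_congr e, ← Nat.card_congr (unitsEquivNeZero (G₀ := σ.eqLocusField (RingHom.id F))),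
      Nat.card_units] at h1
    have h2 := Nat.card_pos (α := σ.eqLocusField (RingHom.id F))
    have := CfsgLib.Classical.two_le_of_card_sq hF
    omega
  haveI : Small.{0} (σ.eqLocusField (RingHom.id F)) := Countable.toSmall _
  haveI : Fintype (σ.eqLocusField (RingHom.id F)) := Fintype.ofFinite _
  let L : Type := Shrink.{0} (σ.eqLocusField (RingHom.id F))
  let eL : L ≃+* σ.eqLocusField (RingHom.id F) := Shrink.ringEquiv _
  let f : L →+* F := (σ.eqLocusField (RingHom.id F)).subtype.comp eL.toRingHom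
  letI : Fintype L := Fintype.ofEquiv _ (equivShrink _)
  have hfσ : ∀ c : L, σ (f c) = f c := fun c => (eL c).2
  have hfsurj : ∀ x : F, σ x = x → ∃ c : L, f c = x := fun x hx =>
    ⟨eL.symm ⟨x, hx⟩, by simp [f]⟩
  letI : Algebra L F := f.toAlgebra
  have hsmul : ∀ (c : L) (M : Matrix N N F), c • M = f c • M := fun c M => by
    ext i j; exact Algebra.smul_def c (M i j)
  let X : (N → F) → Matrix N N F := fun p => a₀ • vecMulVec p (s p)
  let ι : ↥(Cfsg.SU (n + 2) F q) →* Matrix N N F :=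
    (Cfsg.slToMat (n + 2) F).comp (Cfsg.SU (n + 2) F q).subtype
  have hι : Function.Injective ι := fun g h e => Subtype.ext (Subtype.ext e)
  have hιg : ∀ g : ↥(Cfsg.SU (n + 2) F q), ι g = g.1.1 := fun g => rfl
  have hmv : ∀ (p v : N → F) (c : F),
      (1 + c • vecMulVec p (s p)) *ᵥ v = v + (c * (s p ⬝ᵥ v)) • p := by
    intro p v c
    ext i
    simp [Matrix.add_mulVec, Matrix.one_mulVec, Matrix.smul_mulVec, Matrix.vecMulVec_mulVec]
    ring
  have hpres : ∀ (g : ↥(Cfsg.SU (n + 2) F q)) u v, s (ι g *ᵥ v) ⬝ᵥ (ι g *ᵥ u) = s v ⬝ᵥ u := by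
    intro g u v
    rw [← hH, ← hH]
    exact g.2 u v
  let T : (N → F) → Set ↥(Cfsg.SU (n + 2) F q) := fun p => {g : ↥(Cfsg.SU (n + 2) F q) |
      (∀ v : N → F, ∃ c : F, ((g : Matrix.SpecialLinearGroup (Fin (n + 2)) F) : Matrix N N F) *ᵥ v = v + c • p) ∧
      ∀ v : N → F, Cfsg.hermForm (n + 2) F q v p = 0 →
        ((g : Matrix.SpecialLinearGroup (Fin (n + 2)) F) : Matrix N N F) *ᵥ v = v}
  have hrootp : ∀ p : N → F, p ≠ 0 → Cfsg.hermForm (n + 2) F q p p = 0 →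
      Root L ι (X p) (Subgroup.closure (T p)) := by
    intro p hp hpp
    rw [hH] at hpp
    have hsq : X p * X p = 0 := by
      simp only [X, smul_mul_assoc, mul_smul_comm, Dyad.dyad_mul, hpp, zero_smul, smul_zero]
    have hex : ∀ c : L, ∃ g, ι g = 1 + c • X p := by
      intro c
      have hc : σ (f c * a₀) + f c * a₀ = 0 := by rw [map_mul, hfσ, hsa]; ring
      refine ⟨⟨⟨1 + c • X p, ?_⟩, ?_⟩, rfl⟩
      · rw [hsmul, smul_smul, ← Matrix.smul_vecMulVec, Dyad.det_one_add, dotProduct_smul, hpp,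
          smul_zero, add_zero]
      · intro u v
        change Cfsg.hermForm (n + 2) F q ((1 + c • X p) *ᵥ u) ((1 + c • X p) *ᵥ v) = _
        rw [hH, hH, hsmul, smul_smul, hmv, hmv, hsadd, hssmul, add_dotProduct, dotProduct_add,
          dotProduct_add, smul_dotProduct, smul_dotProduct, dotProduct_smul, dotProduct_smul, hpp,
          hskew v p]
        simp only [smul_eq_mul, map_mul, hfσ, hsa]
        ring
    have hT : T p = {g | ∃ c : L, ι g = 1 + c • X p} := by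
      ext g
      constructor
      · rintro ⟨h1, h2⟩
        obtain ⟨i, hi⟩ := Function.ne_iff.1 (hs0 p hp)
        let w : N → F := Pi.single i (s p i)⁻¹
        have hw : s p ⬝ᵥ w = 1 := by
          simp only [w, dotProduct_single]
          exact mul_inv_cancel₀ hi
        obtain ⟨c, hc⟩ := h1 w
        have hgv : ∀ v, ι g *ᵥ v = (1 + c • vecMulVec p (s p)) *ᵥ v := by
          intro v
          have h3 := h2 (v - (s p ⬝ᵥ v) • w) (by
            rw [hH, dotProduct_sub, dotProduct_smul, hw, smul_eq_mul, mul_one, sub_self])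
          rw [Matrix.mulVec_sub, Matrix.mulVec_smul, hc, sub_eq_iff_eq_add] at h3
          rw [hιg, h3, hmv, smul_add, smul_smul, mul_comm c]
          abel
        have hg : ι g = 1 + c • vecMulVec p (s p) := Matrix.ext_of_mulVec_single fun i => hgv _
        have hcc : σ c = -c := by
          have h4 := hpres g w w
          rw [hg, hmv, hw, mul_one, hsadd, hssmul, add_dotProduct, dotProduct_add, dotProduct_add,
            smul_dotProduct, smul_dotProduct, dotProduct_smul, dotProduct_smul, hpp, hw,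
            hskew w p, hw, map_one] at h4
          simp only [smul_eq_mul, mul_zero, mul_one, add_zero] at h4
          linear_combination h4
        obtain ⟨l, hl⟩ := hfsurj (c / a₀) (by rw [map_div₀, hcc, hsa, neg_div_neg_eq])
        exact ⟨l, by rw [hg, hsmul, smul_smul, hl, div_mul_cancel₀ c ha₀]⟩
      · rintro ⟨c, hc⟩
        rw [hsmul, smul_smul] at hc
        refine ⟨fun v => ⟨f c * a₀ * (s p ⬝ᵥ v), ?_⟩, fun v hv => ?_⟩
        · rw [← hιg, hc, hmv]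
        · rw [← hιg, hc, hmv, ← hH, hv, mul_zero, zero_smul, add_zero]
    rw [hT]
    exact Root.closure hι hsq hex
  let Λ : Set (Matrix N N F) :=
    {Z | ∃ p : N → F, p ≠ 0 ∧ Cfsg.hermForm (n + 2) F q p p = 0 ∧ Z = X p}
  set S₀ := {A : Subgroup ↥(Cfsg.SU (n + 2) F q) | ∃ p : Fin (n + 2) → F, p ≠ 0 ∧ Cfsg.hermForm (n + 2) F q p p = 0 ∧
          A = Subgroup.closure {g : ↥(Cfsg.SU (n + 2) F q) |
            (∀ v : Fin (n + 2) → F, ∃ c : F, ((g : Matrix.SpecialLinearGroup (Fin (n + 2)) F) : Matrix (Fin (n + 2)) (Fin (n + 2)) F) *ᵥ v = v + c • p) ∧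
            ∀ v : Fin (n + 2) → F, Cfsg.hermForm (n + 2) F q v p = 0 →
              ((g : Matrix.SpecialLinearGroup (Fin (n + 2)) F) : Matrix (Fin (n + 2)) (Fin (n + 2)) F) *ᵥ v = v}}
    with hS₀
  set G₀ : Subgroup ↥(Cfsg.SU (n + 2) F q) := ⨆ B ∈ S₀, B with hG₀
  set S := (fun A : Subgroup ↥(Cfsg.SU (n + 2) F q) => A.subgroupOf G₀) '' S₀ with hSdef
  let ι₀ : ↥G₀ →* Matrix N N F := ι.comp G₀.subtype
  have hι₀ : Function.Injective ι₀ := hι.comp Subtype.val_injective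
  have hroot₀ : ∀ p : N → F, p ≠ 0 → Cfsg.hermForm (n + 2) F q p p = 0 →
      Root L ι₀ (X p) ((Subgroup.closure (T p)).subgroupOf G₀) ∧
      (Subgroup.closure (T p)).subgroupOf G₀ ∈ S := by
    intro p hp hpp
    have hmem : Subgroup.closure (T p) ∈ S₀ := ⟨p, hp, hpp, rfl⟩
    exact ⟨(hrootp p hp hpp).subgroupOf
      (le_iSup₂ (f := fun (A : Subgroup ↥(Cfsg.SU (n + 2) F q)) (_ : A ∈ S₀) => A) _ hmem),
      ⟨_, hmem, rfl⟩⟩
  have hS : ∀ A, A ∈ S ↔ ∃ Z ∈ Λ, Root L ι₀ Z A := by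
    intro A
    constructor
    · rintro ⟨_, ⟨p, hp, hpp, rfl⟩, rfl⟩
      exact ⟨_, ⟨p, hp, hpp, rfl⟩, (hroot₀ p hp hpp).1⟩
    · rintro ⟨_, ⟨p, hp, hpp, rfl⟩, hA⟩
      rw [hA.eq_of_root hι₀ (hroot₀ p hp hpp).1]
      exact (hroot₀ p hp hpp).2
  have hne : ∀ Z ∈ Λ, Z ≠ 0 := by
    rintro Z ⟨p, hp, -, rfl⟩
    exact smul_ne_zero ha₀ (Dyad.dyad_ne_zero hp (hs0 p hp))
  have hroot : ∀ Z ∈ Λ, ∃ A, Root L ι₀ Z A := by
    rintro Z ⟨p, hp, hpp, rfl⟩; exact ⟨_, (hroot₀ p hp hpp).1⟩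
  have hthree : ∀ p y, s p ⬝ᵥ y ≠ 0 → ∃ l : L, l ≠ 0 ∧
      X p * X y * X p = l • X p ∧ X y * X p * X y = l • X y := by
    intro p y h
    have h' : s y ⬝ᵥ p ≠ 0 := by rw [hskew]; exact (map_ne_zero σ).2 h
    obtain ⟨l, hl⟩ := hfsurj (a₀ * a₀ * ((s p ⬝ᵥ y) * (s y ⬝ᵥ p))) (by
      rw [map_mul, map_mul, map_mul, ← hskew, ← hskew, hsa]; ring)
    refine ⟨l, fun e => ?_, ?_, ?_⟩
    · rw [e, map_zero] at hl
      exact mul_ne_zero (mul_ne_zero ha₀ ha₀) (mul_ne_zero h h') hl.symm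
    · simp only [X, hsmul, smul_mul_assoc, mul_smul_comm, Dyad.dyad_three, smul_smul, hl]
      congr 1
      ring
    · simp only [X, hsmul, smul_mul_assoc, mul_smul_comm, Dyad.dyad_three, smul_smul, hl]
      congr 1
      ring
  have htri : ∀ Z ∈ Λ, ∀ W ∈ Λ, Z * W = W * Z ∨
      ∃ l : L, l ≠ 0 ∧ Z * W * Z = l • Z ∧ W * Z * W = l • W := by
    rintro Z ⟨p, hp, -, rfl⟩ W ⟨y, hy, -, rfl⟩
    by_cases h : s p ⬝ᵥ y = 0
    · left
      simp only [X, smul_mul_assoc, mul_smul_comm, Dyad.dyad_mul, h, hskew y p, map_zero,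
        zero_smul, smul_zero]
    · exact Or.inr (hthree p y h)
  have hlink : ∀ Z ∈ Λ, ∀ W ∈ Λ, ∃ U ∈ Λ,
      (∃ l : L, l ≠ 0 ∧ Z * U * Z = l • Z ∧ U * Z * U = l • U) ∧
      (∃ l : L, l ≠ 0 ∧ U * W * U = l • U ∧ W * U * W = l • W) := by
    rintro Z ⟨p, hp, hpp, rfl⟩ W ⟨r, hr, hrr, rfl⟩
    rw [hH] at hpp hrr
    suffices h : ∃ z, s p ⬝ᵥ z ≠ 0 ∧ s r ⬝ᵥ z ≠ 0 ∧ s z ⬝ᵥ z = 0 by
      obtain ⟨z, hz1, hz2, hzz⟩ := h
      exact ⟨_, ⟨z, fun e => hz1 (by rw [e, dotProduct_zero]), by rw [hH]; exact hzz, rfl⟩,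
        hthree p z hz1, hthree z r (by rw [hskew]; exact (map_ne_zero σ).2 hz2)⟩
    by_cases hpr : s r ⬝ᵥ p = 0
    · obtain ⟨w, hw1, hw2⟩ := Dyad.exists_dot_ne (hs0 p hp) (hs0 r hr)
      obtain ⟨e, he⟩ := hconjσ.exists_trace_eq (a := -(s w ⬝ᵥ w)) (by rw [map_neg, ← hskew])
      have hw' : s w ⬝ᵥ p ≠ 0 := by rw [hskew]; exact (map_ne_zero σ).2 hw1
      refine ⟨w + (e / (s w ⬝ᵥ p)) • p, ?_, ?_, ?_⟩
      · rwa [dotProduct_add, dotProduct_smul, hpp, smul_zero, add_zero]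
      · rwa [dotProduct_add, dotProduct_smul, hpr, smul_zero, add_zero]
      · rw [hsadd, hssmul, add_dotProduct, dotProduct_add, dotProduct_add, smul_dotProduct,
          smul_dotProduct, dotProduct_smul, dotProduct_smul, hpp, map_div₀, hskew p w,
          smul_eq_mul, smul_eq_mul, smul_eq_mul, smul_eq_mul, div_mul_cancel₀ _ hw',
          div_mul_cancel₀ _ ((map_ne_zero σ).2 hw')]
        linear_combination he
    · have hrp : s p ⬝ᵥ r ≠ 0 := by rw [hskew]; exact (map_ne_zero σ).2 hpr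
      have hc : a₀ / (s p ⬝ᵥ r) ≠ 0 := div_ne_zero ha₀ hrp
      refine ⟨p + (a₀ / (s p ⬝ᵥ r)) • r, ?_, ?_, ?_⟩
      · rw [dotProduct_add, dotProduct_smul, hpp, zero_add]
        exact mul_ne_zero hc hrp
      · rwa [dotProduct_add, dotProduct_smul, hrr, smul_zero, add_zero]
      · rw [hsadd, hssmul, add_dotProduct, dotProduct_add, dotProduct_add, smul_dotProduct,
          smul_dotProduct, dotProduct_smul, dotProduct_smul, hpp, hrr, map_div₀, hskew r p,
          smul_eq_mul, smul_eq_mul, smul_eq_mul, smul_eq_mul, div_mul_cancel₀ _ hrp,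
          div_mul_cancel₀ _ ((map_ne_zero σ).2 hrp), hsa]
        ring
  have hconj : ∀ Z ∈ Λ, ∀ g : ↥G₀, ι₀ g * Z * ι₀ g⁻¹ ∈ Λ := by
    rintro Z ⟨p, hp, hpp, rfl⟩ g
    have h1 : ι₀ g⁻¹ * ι₀ g = 1 := by rw [← map_mul, inv_mul_cancel, map_one]
    have h2 : ι₀ g * ι₀ g⁻¹ = 1 := by rw [← map_mul, mul_inv_cancel, map_one]
    refine ⟨ι₀ g *ᵥ p, fun e => hp ?_, ?_, ?_⟩
    · rw [← Matrix.one_mulVec p, ← h1, ← Matrix.mulVec_mulVec, e, Matrix.mulVec_zero]
    · rw [hH]; exact (hpres g.1 p p).trans ((hH p p).symm.trans hpp)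
    · show ι₀ g * (a₀ • vecMulVec p (s p)) * ι₀ g⁻¹ = a₀ • vecMulVec (ι₀ g *ᵥ p) (s (ι₀ g *ᵥ p))
      rw [mul_smul_comm, smul_mul_assoc, Matrix.mul_vecMulVec, Matrix.vecMulVec_mul]
      congr 2
      refine dotProduct_eq _ _ fun v => ?_
      rw [← Matrix.dotProduct_mulVec]
      refine (hpres g.1 (ι₀ g⁻¹ *ᵥ v) p).symm.trans ?_
      rw [show ι g.1 = ι₀ g from rfl, Matrix.mulVec_mulVec, h2, Matrix.one_mulVec]
  have hgen : (⨆ A ∈ S, A) = ⊤ := iSup_subgroupOf hG₀.symm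
  have hk := RootModel.isKRootSubgroupSet hι₀ Λ S hS hne hroot hconj hgen
    fun Z hZ W hW => (htri Z hZ W hW).imp id Or.inl
  have hconn := RootModel.isConnectedFamily hι₀ Λ S hS hne hroot hlink
  obtain ⟨p, hp, hpp⟩ : ∃ p : N → F, p ≠ 0 ∧ Cfsg.hermForm (n + 2) F q p p = 0 := by
    obtain ⟨c, hc⟩ := hconjσ.exists_norm_eq (a := -1) (by rw [map_neg, map_one])
    refine ⟨Pi.single 0 1 + c • Pi.single 1 1, fun e => ?_, ?_⟩
    · simpa using congrFun e 0
    · have hsing : ∀ i : N, s (Pi.single i 1) = Pi.single i 1 := fun i =>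
        funext fun j => by simp [s, Pi.single_apply, apply_ite σ]
      rw [hH, hsadd, hssmul, hsing, hsing]
      simp
      linear_combination hc
  refine ⟨⟨hk.1, RootModel.isConjClass_of_connected ⟨_, (hroot₀ p hp hpp).2⟩ hconn⟩,
    RootModel.isDegenerateRootSet hι₀ Λ S hS hne htri, ⟨L, inferInstance, inferInstance, ?_, hk⟩,
    hconn⟩
  rw [← Nat.card_eq_fintype_card, Nat.card_congr eL.toEquiv, hcardK]

end Cfsg.Agent.S5071
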