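import Cfsg.Statements.S5072
import Cfsg.Agent.Lib.Perm.RootModel.Siegel

set_option autoImplicit false
set_option maxHeartbeats 2000000
open Matrix
open Cfsg

namespace Cfsg.Agent.S5072

/-- Let F be a field, m a natural number and V = F^{2(m+3)} with the hyperbolic quadratic form q(x, y) = Σ xᵢ yᵢ (non-degenerate, Witt index m + 3 ≥ 3). For a singular line ℓ (a 2-dimensional subspace on which q vanishes) let T(ℓ) be the group of isometries of q fixing every vector of ℓ^⊥ (the Siegel transvection group of ℓ), let Σ be the set of these groups and G₀ the subgroup they generate. Then, viewed inside G₀, the members of Σ form a set of abstract F-root subgroups of G₀ (any two commute, or are the unipotent subgroups of a rank one group that is an image of SL₂(F) with central kernel, or satisfy the commutator case), and their graph of rank one pairs is connected. -/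
theorem result (F : Type*) [Field F] (m : ℕ) :
    Cfsg.IsKRootSubgroupSet F ((fun A : Subgroup ↥(Cfsg.isometryGroup F (Cfsg.quadFormPlus (m + 3) F)) => A.subgroupOf (⨆ B ∈ {A : Subgroup ↥(Cfsg.isometryGroup F (Cfsg.quadFormPlus (m + 3) F)) | ∃ p r : Fin (m + 3) ⊕ Fin (m + 3) → F, LinearIndependent F ![p, r] ∧
          Cfsg.quadFormPlus (m + 3) F p = 0 ∧ Cfsg.quadFormPlus (m + 3) F r = 0 ∧
          Cfsg.quadFormPlus (m + 3) F (p + r) = 0 ∧
          A = Subgroup.closure {σ : ↥(Cfsg.isometryGroup F (Cfsg.quadFormPlus (m + 3) F)) | ∀ v : Fin (m + 3) ⊕ Fin (m + 3) → F,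
            Cfsg.quadFormPlus (m + 3) F (v + p) - Cfsg.quadFormPlus (m + 3) F v - Cfsg.quadFormPlus (m + 3) F p = 0 →
            Cfsg.quadFormPlus (m + 3) F (v + r) - Cfsg.quadFormPlus (m + 3) F v - Cfsg.quadFormPlus (m + 3) F r = 0 →
              ((σ : Matrix.GeneralLinearGroup (Fin (m + 3) ⊕ Fin (m + 3)) F) : Matrix (Fin (m + 3) ⊕ Fin (m + 3)) (Fin (m + 3) ⊕ Fin (m + 3)) F) *ᵥ v = v}}, B)) ''
      {A : Subgroup ↥(Cfsg.isometryGroup F (Cfsg.quadFormPlus (m + 3) F)) | ∃ p r : Fin (m + 3) ⊕ Fin (m + 3) → F, LinearIndependent F ![p, r] ∧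
          Cfsg.quadFormPlus (m + 3) F p = 0 ∧ Cfsg.quadFormPlus (m + 3) F r = 0 ∧
          Cfsg.quadFormPlus (m + 3) F (p + r) = 0 ∧
          A = Subgroup.closure {σ : ↥(Cfsg.isometryGroup F (Cfsg.quadFormPlus (m + 3) F)) | ∀ v : Fin (m + 3) ⊕ Fin (m + 3) → F,
            Cfsg.quadFormPlus (m + 3) F (v + p) - Cfsg.quadFormPlus (m + 3) F v - Cfsg.quadFormPlus (m + 3) F p = 0 →
            Cfsg.quadFormPlus (m + 3) F (v + r) - Cfsg.quadFormPlus (m + 3) F v - Cfsg.quadFormPlus (m + 3) F r = 0 →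
              ((σ : Matrix.GeneralLinearGroup (Fin (m + 3) ⊕ Fin (m + 3)) F) : Matrix (Fin (m + 3) ⊕ Fin (m + 3)) (Fin (m + 3) ⊕ Fin (m + 3)) F) *ᵥ v = v}}) ∧
    Cfsg.IsConnectedFamily (Cfsg.FAdj {A : Subgroup ↥(Cfsg.isometryGroup F (Cfsg.quadFormPlus (m + 3) F)) | ∃ p r : Fin (m + 3) ⊕ Fin (m + 3) → F, LinearIndependent F ![p, r] ∧
          Cfsg.quadFormPlus (m + 3) F p = 0 ∧ Cfsg.quadFormPlus (m + 3) F r = 0 ∧
          Cfsg.quadFormPlus (m + 3) F (p + r) = 0 ∧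
          A = Subgroup.closure {σ : ↥(Cfsg.isometryGroup F (Cfsg.quadFormPlus (m + 3) F)) | ∀ v : Fin (m + 3) ⊕ Fin (m + 3) → F,
            Cfsg.quadFormPlus (m + 3) F (v + p) - Cfsg.quadFormPlus (m + 3) F v - Cfsg.quadFormPlus (m + 3) F p = 0 →
            Cfsg.quadFormPlus (m + 3) F (v + r) - Cfsg.quadFormPlus (m + 3) F v - Cfsg.quadFormPlus (m + 3) F r = 0 →
              ((σ : Matrix.GeneralLinearGroup (Fin (m + 3) ⊕ Fin (m + 3)) F) : Matrix (Fin (m + 3) ⊕ Fin (m + 3)) (Fin (m + 3) ⊕ Fin (m + 3)) F) *ᵥ v = v}})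
      {A : Subgroup ↥(Cfsg.isometryGroup F (Cfsg.quadFormPlus (m + 3) F)) | ∃ p r : Fin (m + 3) ⊕ Fin (m + 3) → F, LinearIndependent F ![p, r] ∧
          Cfsg.quadFormPlus (m + 3) F p = 0 ∧ Cfsg.quadFormPlus (m + 3) F r = 0 ∧
          Cfsg.quadFormPlus (m + 3) F (p + r) = 0 ∧
          A = Subgroup.closure {σ : ↥(Cfsg.isometryGroup F (Cfsg.quadFormPlus (m + 3) F)) | ∀ v : Fin (m + 3) ⊕ Fin (m + 3) → F,
            Cfsg.quadFormPlus (m + 3) F (v + p) - Cfsg.quadFormPlus (m + 3) F v - Cfsg.quadFormPlus (m + 3) F p = 0 →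
            Cfsg.quadFormPlus (m + 3) F (v + r) - Cfsg.quadFormPlus (m + 3) F v - Cfsg.quadFormPlus (m + 3) F r = 0 →
              ((σ : Matrix.GeneralLinearGroup (Fin (m + 3) ⊕ Fin (m + 3)) F) : Matrix (Fin (m + 3) ⊕ Fin (m + 3)) (Fin (m + 3) ⊕ Fin (m + 3)) F) *ᵥ v = v}} := by
  open Matrix CfsgLib.Perm CfsgLib.Perm.RootModel CfsgLib.Perm.RootModel.Siegel in
  classical
  let N := Fin (m + 3) ⊕ Fin (m + 3)
  let H := ↥(Cfsg.isometryGroup F (Cfsg.quadFormPlus (m + 3) F))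
  let ι : H →* Matrix N N F :=
    (Units.coeHom _).comp (Cfsg.isometryGroup F (Cfsg.quadFormPlus (m + 3) F)).subtype
  have hι : Function.Injective ι := fun g h e => Subtype.ext (Units.ext e)
  have hQ : ∀ (g : H) v, Cfsg.quadFormPlus (m + 3) F (ι g *ᵥ v) = Cfsg.quadFormPlus (m + 3) F v :=
    fun g v => g.2 v v
  have hB : ∀ (g : H) u v, Siegel.B (ι g *ᵥ u) (ι g *ᵥ v) = Siegel.B u v := by
    intro g u v
    have h1 := Siegel.Q_add (ι g *ᵥ u) (ι g *ᵥ v)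
    rw [← Matrix.mulVec_add, hQ, hQ, hQ, Siegel.Q_add] at h1
    linear_combination -h1
  have hpolar : ∀ u v : N → F, Cfsg.quadFormPlus (m + 3) F (u + v) - Cfsg.quadFormPlus (m + 3) F u
      - Cfsg.quadFormPlus (m + 3) F v = Siegel.B u v := fun u v => by rw [Siegel.Q_add]; ring
  let Λ : Set (Matrix N N F) := {Z | ∃ p r : N → F, Siegel.Line p r ∧ Z = Siegel.X p r}
  let T : (N → F) → (N → F) → Set H := fun p r => {σ : H | ∀ v : N → F,
            Cfsg.quadFormPlus (m + 3) F (v + p) - Cfsg.quadFormPlus (m + 3) F v - Cfsg.quadFormPlus (m + 3) F p = 0 →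
            Cfsg.quadFormPlus (m + 3) F (v + r) - Cfsg.quadFormPlus (m + 3) F v - Cfsg.quadFormPlus (m + 3) F r = 0 →
              ((σ : Matrix.GeneralLinearGroup N F) : Matrix N N F) *ᵥ v = v}
  have hrootp : ∀ p r, Siegel.Line p r →
      Root F ι (Siegel.X p r) (Subgroup.closure (T p r)) := by
    intro p r h
    have hinv : ∀ c : F, (1 + c • Siegel.X p r) * (1 + (-c) • Siegel.X p r) = 1 := by
      intro c
      simp only [mul_add, add_mul, one_mul, mul_one, smul_mul_assoc, mul_smul_comm,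
        Siegel.X_sq h, smul_zero, add_zero]
      module
    have hex : ∀ c : F, ∃ g, ι g = 1 + c • Siegel.X p r := fun c =>
      ⟨⟨⟨_, _, hinv c, by simpa using hinv (-c)⟩, fun u _ => Siegel.root_preserves h c u⟩, rfl⟩
    have hT : T p r = {g | ∃ c : F, ι g = 1 + c • Siegel.X p r} := by
      ext g
      constructor
      · intro hg
        exact Siegel.eq_root_of_fix h (ι g) (hQ g) fun v h1 h2 =>
          hg v ((hpolar v p).trans h1) ((hpolar v r).trans h2)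
      · rintro ⟨c, hc⟩ v h1 h2
        show ι g *ᵥ v = v
        rw [hc, Siegel.root_fix c (by rw [← hpolar]; exact h1) (by rw [← hpolar]; exact h2)]
    rw [hT]
    exact Root.closure hι (Siegel.X_sq h) hex
  have hline : ∀ p r : N → F, Siegel.Line p r ↔ LinearIndependent F ![p, r] ∧
      Cfsg.quadFormPlus (m + 3) F p = 0 ∧ Cfsg.quadFormPlus (m + 3) F r = 0 ∧
      Cfsg.quadFormPlus (m + 3) F (p + r) = 0 := fun p r =>
    ⟨fun h => ⟨h.li, h.hp, h.hr, by rw [Siegel.Q_add, h.hp, h.hr, h.hpr]; ring⟩,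
      fun ⟨h1, h2, h3, h4⟩ => ⟨h1, h2, h3, by rw [← hpolar, h2, h3, h4]; ring⟩⟩
  set S₀ := {A : Subgroup ↥(Cfsg.isometryGroup F (Cfsg.quadFormPlus (m + 3) F)) | ∃ p r : Fin (m + 3) ⊕ Fin (m + 3) → F, LinearIndependent F ![p, r] ∧
          Cfsg.quadFormPlus (m + 3) F p = 0 ∧ Cfsg.quadFormPlus (m + 3) F r = 0 ∧
          Cfsg.quadFormPlus (m + 3) F (p + r) = 0 ∧
          A = Subgroup.closure {σ : ↥(Cfsg.isometryGroup F (Cfsg.quadFormPlus (m + 3) F)) | ∀ v : Fin (m + 3) ⊕ Fin (m + 3) → F,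
            Cfsg.quadFormPlus (m + 3) F (v + p) - Cfsg.quadFormPlus (m + 3) F v - Cfsg.quadFormPlus (m + 3) F p = 0 →
            Cfsg.quadFormPlus (m + 3) F (v + r) - Cfsg.quadFormPlus (m + 3) F v - Cfsg.quadFormPlus (m + 3) F r = 0 →
              ((σ : Matrix.GeneralLinearGroup (Fin (m + 3) ⊕ Fin (m + 3)) F) : Matrix (Fin (m + 3) ⊕ Fin (m + 3)) (Fin (m + 3) ⊕ Fin (m + 3)) F) *ᵥ v = v}}
    with hS₀def
  have hS₀ : ∀ A, A ∈ S₀ ↔ ∃ Z ∈ Λ, Root F ι Z A := by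
    intro A
    constructor
    · rintro ⟨p, r, h1, h2, h3, h4, rfl⟩
      exact ⟨_, ⟨p, r, (hline p r).2 ⟨h1, h2, h3, h4⟩, rfl⟩,
        hrootp p r ((hline p r).2 ⟨h1, h2, h3, h4⟩)⟩
    · rintro ⟨_, ⟨p, r, h, rfl⟩, hA⟩
      obtain ⟨h1, h2, h3, h4⟩ := (hline p r).1 h
      exact ⟨p, r, h1, h2, h3, h4, hA.eq_of_root hι (hrootp p r h)⟩
  have hne : ∀ Z ∈ Λ, Z ≠ 0 := by
    rintro Z ⟨p, r, h, rfl⟩; exact Siegel.X_ne_zero h
  have hroot : ∀ Z ∈ Λ, ∃ A, Root F ι Z A := by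
    rintro Z ⟨p, r, h, rfl⟩; exact ⟨_, hrootp p r h⟩
  have hlink : ∀ Z ∈ Λ, ∀ W ∈ Λ, ∃ U ∈ Λ,
      (∃ l : F, l ≠ 0 ∧ Z * U * Z = l • Z ∧ U * Z * U = l • U) ∧
      (∃ l : F, l ≠ 0 ∧ U * W * U = l • U ∧ W * U * W = l • W) := by
    rintro Z ⟨p, r, h, rfl⟩ W ⟨y, s, h', rfl⟩
    obtain ⟨u, v, huv, h1, h2⟩ := Siegel.exists_opposite (show 3 ≤ m + 3 by omega) h h'
    refine ⟨_, ⟨u, v, huv, rfl⟩, ⟨_, h1, Siegel.X_three p r u v, ?_⟩,
      ⟨_, h2, ?_, Siegel.X_three y s u v⟩⟩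
    · rw [Siegel.X_three, Siegel.B_comm u r, Siegel.B_comm v p, Siegel.B_comm u p,
        Siegel.B_comm v r]
      congr 1
      ring
    · rw [Siegel.X_three, Siegel.B_comm u s, Siegel.B_comm v y, Siegel.B_comm u y,
        Siegel.B_comm v s]
      congr 1
      ring
  have hconn := RootModel.isConnectedFamily hι Λ S₀ hS₀ hne hroot hlink
  refine ⟨?_, hconn⟩
  set G₀ : Subgroup H := ⨆ B ∈ S₀, B with hG₀
  let ι₀ : ↥G₀ →* Matrix N N F := ι.comp G₀.subtype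
  have hι₀ : Function.Injective ι₀ := hι.comp Subtype.val_injective
  have hsub : ∀ Z A, A ∈ S₀ → Root F ι Z A → Root F ι₀ Z (A.subgroupOf G₀) := fun Z A hA h =>
    h.subgroupOf (le_iSup₂ (f := fun (A : Subgroup H) (_ : A ∈ S₀) => A) A hA)
  refine RootModel.isKRootSubgroupSet hι₀ Λ _ ?_ hne ?_ ?_ (iSup_subgroupOf hG₀.symm) ?_
  · intro A
    constructor
    · rintro ⟨A', hA', rfl⟩
      obtain ⟨Z, hZ, h⟩ := (hS₀ A').1 hA'
      exact ⟨Z, hZ, hsub Z A' hA' h⟩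
    · rintro ⟨Z, hZ, h⟩
      obtain ⟨A', hA'⟩ := hroot Z hZ
      have hmem : A' ∈ S₀ := (hS₀ A').2 ⟨Z, hZ, hA'⟩
      exact ⟨A', hmem, (h.eq_of_root hι₀ (hsub Z A' hmem hA')).symm⟩
  · intro Z hZ
    obtain ⟨A', hA'⟩ := hroot Z hZ
    exact ⟨_, hsub Z A' ((hS₀ A').2 ⟨Z, hZ, hA'⟩) hA'⟩
  · rintro Z ⟨p, r, h, rfl⟩ g
    have h2 : ι₀ g * ι₀ g⁻¹ = 1 := by rw [← map_mul, mul_inv_cancel, map_one]
    have h1 : ι₀ g⁻¹ * ι₀ g = 1 := by rw [← map_mul, inv_mul_cancel, map_one]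
    refine ⟨ι₀ g *ᵥ p, ι₀ g *ᵥ r, ⟨?_, (hQ g.1 p).trans h.hp, (hQ g.1 r).trans h.hr,
      (hB g.1 p r).trans h.hpr⟩, Siegel.conj_eq _ _ h2 (hB g.1)⟩
    rw [LinearIndependent.pair_iff]
    intro a b hab
    apply LinearIndependent.pair_iff.1 h.li a b
    rw [← Matrix.one_mulVec (a • p + b • r), ← h1, ← Matrix.mulVec_mulVec, Matrix.mulVec_add,
      Matrix.mulVec_smul, Matrix.mulVec_smul, hab, Matrix.mulVec_zero]
  · rintro Z ⟨p, r, h, rfl⟩ W ⟨y, s, h', rfl⟩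
    exact Siegel.trichotomy (Λ := Λ) (fun a b hab => ⟨a, b, hab, rfl⟩) h h' 

end Cfsg.Agent.S5072
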