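import Cfsg.Statements.S5073
import Cfsg.Agent.Lib.Perm.Quad.RootSystem

set_option autoImplicit false
universe u
open Cfsg CfsgLib.Perm.Quad CfsgLib.Perm.Quad.Ends CfsgLib.Perm.Quad.Opposite CfsgLib.Perm.Quad.Bracket

namespace Cfsg.Agent.S5073

/-- Let k be a field of characteristic not 2 with k not of order 3, M a finite-dimensional k-vector space and G ≤ GL(M) such that (G, M) is a quadratic pair (M irreducible for G, and G generated by its quadratically acting elements σ whose scalar family 1 + c(σ − 1), c ∈ k, lies in G). Write 𝒬_d for the quadratic elements of G of minimal commutator rank, E(σ) for the subgroup generated by the members of 𝒬_d with the same fixed space and commutator space as σ, and Σ for the set of these subgroups. Let E, F ∈ Σ. If some non-identity element of E commutes with some non-identity element of F, or some non-identity element of E normalizes F, then E and F commute elementwise. -/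
theorem result {k : Type u} [Field k] (hk2 : ringChar k ≠ 2) (hk3 : Nat.card k ≠ 3)
    {M : Type u} [AddCommGroup M] [Module k M] [FiniteDimensional k M]
    {G : Subgroup (LinearMap.GeneralLinearGroup k M)} (hG : Cfsg.IsQuadraticPair G)
    {E F : Subgroup (LinearMap.GeneralLinearGroup k M)} (hE : E ∈ Cfsg.quadraticRootSubgroups G) (hF : F ∈ Cfsg.quadraticRootSubgroups G)
    (h : (∃ e ∈ E, e ≠ 1 ∧ ∃ f ∈ F, f ≠ 1 ∧ e * f = f * e) ∨ E ⊓ Subgroup.normalizer (F : Set (LinearMap.GeneralLinearGroup k M)) ≠ ⊥) :
    ⁅E, F⁆ = ⊥ := by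
  have h2 : (2 : k) ≠ 0 := Ring.two_ne_zero hk2
  obtain ⟨x, hx, rfl⟩ := mem_rootSubgroups.mp hE
  obtain ⟨y, hy, rfl⟩ := mem_rootSubgroups.mp hF
  have hne : ∀ {z : Module.End k M} {g : LinearMap.GeneralLinearGroup k M}, g ∈ root G z → g ≠ 1 →
      (g : Module.End k M) - 1 ≠ 0 := fun {z g} _ h e => h (Units.ext (sub_eq_zero.mp e))
  by_cases ho : Opp x y
  · exfalso
    have hp := Opposite.isRankOnePair h2 hk3 hx hy ho
    rcases h with ⟨e, he, he1, f, hf, hf1, hc⟩ | h
    · have ha := mem_root.mp he
      have hb := mem_root.mp hf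
      have ho' := (opp_of_cls ha (hne he he1) hb (hne hf hf1)).mpr ho
      apply not_nilpotent_of_opp (cls_mul_zero ha ha) (hne he he1) ho'
      have hc' : ((e : Module.End k M) - 1) * ((f : Module.End k M) - 1) =
          ((f : Module.End k M) - 1) * ((e : Module.End k M) - 1) := by
        have := congrArg (fun g : LinearMap.GeneralLinearGroup k M => (g : Module.End k M)) hc
        simp only [Units.val_mul] at this
        simp only [mul_sub, sub_mul, mul_one, one_mul]
        linear_combination (norm := abel) this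
      refine ⟨2, ?_⟩
      have q1 := cls_mul_zero hb hb
      rw [← hc', pow_two]
      generalize (e : Module.End k M) - 1 = a at hc' ⊢
      generalize (f : Module.End k M) - 1 = b at hc' q1 ⊢
      have : a * b * (a * b) = 0 := by
        rw [mul_assoc, hc', ← mul_assoc b, q1, zero_mul, mul_zero]
      simp [add_mul, mul_add, this]
    · exact h (CfsgLib.Perm.RankOne.inf_normalizer hp)
  by_cases hw : x * y - y * x = 0
  · exact Bracket.comm_bot h2 hk3 hx hy ho hw
  exfalso
  rcases h with ⟨e, he, he1, f, hf, hf1, hc⟩ | h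
  · have ha := mem_root.mp he
    have hb := mem_root.mp hf
    refine ((PairNil.bracket_cls h2 hk3 hx hy ho hw ha hb).2 ?_).elim (hne he he1) (hne hf hf1)
    have := congrArg (fun g : LinearMap.GeneralLinearGroup k M => (g : Module.End k M)) hc
    simp only [Units.val_mul] at this
    simp only [mul_sub, sub_mul, mul_one, one_mul]
    linear_combination (norm := abel) this
  · obtain ⟨e, ⟨he, hn⟩, he1⟩ : ∃ e ∈ root G x ⊓ Subgroup.normalizer ((root G y : Subgroup _) : Set (LinearMap.GeneralLinearGroup k M)), e ≠ 1 := by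
      by_contra! hc
      exact h ((Subgroup.eq_bot_iff_forall _).mpr hc)
    have ha := mem_root.mp he
    obtain ⟨f, hf, ef⟩ := exists_mem_root (self_mem_cls hy)
    have hxyx := PairNil.cls_aba h2 hk3 ho ha (self_mem_cls hy)
    have hyxy := PairNil.cls_aba h2 hk3 (fun e => ho e.symm) (self_mem_cls hy) ha
    obtain ⟨hcls, hz⟩ := PairNil.bracket_cls h2 hk3 hx hy ho hw ha (self_mem_cls hy)
    have hmem : e * f * e⁻¹ * f⁻¹ ∈ root G y :=
      (root G y).mul_mem ((Subgroup.mem_normalizer_iff.mp hn f).mp hf) ((root G y).inv_mem hf)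
    have eq := Bracket.group_comm h2 (cls_mul_zero ha ha) hy.sq hxyx hyxy (u := e) (v := f) (by abel) ef
    rw [mem_root, eq, add_sub_cancel_left] at hmem
    obtain ⟨a, eA⟩ : ∃ a, a = (e : Module.End k M) - 1 := ⟨_, rfl⟩
    rw [← eA] at hxyx hyxy hcls hz hmem ha
    have ha0 : a ≠ 0 := eA ▸ hne he he1
    have hne' : a * y - y * a ≠ 0 := fun e => (hz e).elim ha0 hy.ne
    obtain ⟨-, -, hr⟩ := cls_qd hmem hne'
    obtain ⟨-, hk, hr'⟩ := cls_qd ha ha0
    obtain ⟨-, hr2, -, hint, -, -⟩ := PairNil.bracket_data (cls_qd ha ha0).1 hy hxyx hyxy hne'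
    -- the range of `y` is the sum of the two intersections
    rw [hr] at hr2
    have h1 : LinearMap.range a ⊓ LinearMap.ker y = ⊥ := by
      refine le_bot_iff.mp (le_trans ?_ hint.le)
      refine le_inf le_rfl (le_inf ?_ (inf_le_left.trans (range_le_ker (cls_qd ha ha0).1.sq)))
      exact le_sup_left.trans hr2.ge
    rw [h1, bot_sup_eq] at hr2
    have hle : LinearMap.range y ≤ LinearMap.ker a := hr2.le.trans inf_le_right
    have d := (cls_qd ha ha0).1.rk_eq hy
    have hz2 : a * y = 0 := mul_eq_zero_iff.mpr hle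
    rw [hz2, zero_sub] at hne' hmem
    obtain ⟨-, hk2', hr2'⟩ := cls_qd hmem hne'
    have hker : LinearMap.ker a ≤ LinearMap.ker y := by
      intro m hm
      rw [← hk2']
      show -(y * a) m = 0
      rw [Module.End.mul_apply, show a m = 0 from hm, map_zero, neg_zero]
    have := (range_le_ker (cls_qd ha ha0).1.sq).trans hker
    rw [inf_eq_left.mpr this, LinearMap.range_eq_bot] at h1
    exact ha0 h1

end Cfsg.Agent.S5073
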