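import Cfsg.Statements.S5074
import Cfsg.Agent.Lib.Perm.Quad.Decompose

set_option autoImplicit false
universe u
open Cfsg CfsgLib.Perm.Quad CfsgLib.Perm.Quad.Ends

namespace Cfsg.Agent.S5074

/-- Let k be a field of characteristic not 2 with k not of order 3, M a finite-dimensional k-vector space and G ≤ GL(M) such that (G, M) is a quadratic pair (M irreducible for G, and G generated by its quadratically acting elements σ whose scalar family 1 + c(σ − 1), c ∈ k, lies in G). Write 𝒬_d for the quadratic elements of G of minimal commutator rank, E(σ) for the subgroup generated by the members of 𝒬_d with the same fixed space and commutator space as σ, and Σ for the set of these subgroups. Then G is the product of the subgroup G₀ generated by Σ with the centralizer of G₀ in G. -/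
theorem result {k : Type u} [Field k] (hk2 : ringChar k ≠ 2) (hk3 : Nat.card k ≠ 3)
    {M : Type u} [AddCommGroup M] [Module k M] [FiniteDimensional k M]
    {G : Subgroup (LinearMap.GeneralLinearGroup k M)} (hG : Cfsg.IsQuadraticPair G) :
    (⨆ A ∈ Cfsg.quadraticRootSubgroups G, A) ⊔
      (G ⊓ Subgroup.centralizer ((⨆ A ∈ Cfsg.quadraticRootSubgroups G, A : Subgroup (LinearMap.GeneralLinearGroup k M)) : Set (LinearMap.GeneralLinearGroup k M))) = G := by
  have h2 : (2 : k) ≠ 0 := Ring.two_ne_zero hk2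
  have hc := Bracket.clean_of_pair hG
  obtain ⟨G0, hG0⟩ : ∃ G0, G0 = (⨆ A ∈ Cfsg.quadraticRootSubgroups G, A : Subgroup (LinearMap.GeneralLinearGroup k M)) :=
    ⟨_, rfl⟩
  rw [← hG0]
  refine le_antisymm (sup_le (hG0 ▸ RootSystem.iSup_le_group) inf_le_left) ?_
  conv_lhs => rw [← hG.2]
  rw [Subgroup.closure_le]
  intro t ht
  obtain ⟨p1, p2, p3⟩ := mem_quadratic_iff.mp ht
  obtain ⟨x0, hx0, hr, hk, hcomm, hmem⟩ := Decompose.decompose h2 hk3 hc ⟨p1, p3⟩
  obtain ⟨g0, hg0, e0⟩ := Decompose.mem1_rest h2 hk3 hx0 hcomm 1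
  have key : ∀ r ∈ AddSubmonoid.closure {p : Module.End k M | Qd G p ∧
      LinearMap.range p ≤ LinearMap.range ((t : Module.End k M) - 1) ∧
      LinearMap.ker ((t : Module.End k M) - 1) ≤ LinearMap.ker p},
      Mem1 G0 r ∧ LinearMap.range r ≤ LinearMap.range ((t : Module.End k M) - 1) ∧
      LinearMap.ker ((t : Module.End k M) - 1) ≤ LinearMap.ker r := by
    intro r hr
    induction hr using AddSubmonoid.closure_induction with
    | mem p hp =>
      obtain ⟨g, hg, e⟩ := exists_mem_root (self_mem_cls hp.1)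
      exact ⟨⟨g, hG0 ▸ (le_iSup₂_of_le _ (mem_rootSubgroups.mpr ⟨p, hp.1, rfl⟩) le_rfl : root G p ≤ _) hg, e⟩,
        hp.2.1, hp.2.2⟩
    | zero => exact ⟨mem1_zero _, by simp, by simp⟩
    | add p q _ _ ihp ihq =>
      refine ⟨?_, ?_, fun m hm => ?_⟩
      · have := ihp.1.mul ihq.1
        rwa [mul_eq_zero_iff.mpr (ihq.2.1.trans ((range_le_ker p1).trans ihp.2.2)), add_zero] at this
      · rintro _ ⟨m, rfl⟩
        exact add_mem (ihp.2.1 ⟨m, rfl⟩) (ihq.2.1 ⟨m, rfl⟩)
      · show p m + q m = 0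
        rw [show p m = 0 from ihp.2.2 hm, show q m = 0 from ihq.2.2 hm, add_zero]
  obtain ⟨⟨g1, hg1, e1⟩, -, hk1⟩ := key _ hmem
  have ht' : t = g1 * g0 := Units.ext (by
    rw [Units.val_mul, e1, e0, one_smul]
    have : ((t : Module.End k M) - 1 - x0) * x0 = 0 :=
      mul_eq_zero_iff.mpr (hr.trans ((range_le_ker p1).trans hk1))
    rw [add_mul, one_mul, mul_add, mul_one, this]
    abel)
  rw [ht', SetLike.mem_coe]
  exact Subgroup.mul_mem_sup hg1
    ⟨Decompose.rest_le hg0, hG0 ▸ Decompose.rest_centralizes hg0⟩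

end Cfsg.Agent.S5074
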