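import Mathlib
import Cfsg.Agent.Lib.Perm.Transv.Image
import Cfsg.Agent.Lib.Solvable.Cores
import Cfsg.Statements.S5075

set_option autoImplicit false
open Cfsg

namespace Cfsg.Agent.S5075

open Module CfsgLib.Perm.Transv

/-- Let p be an odd prime, V a finite-dimensional vector space over the field with p elements, and H a group of linear automorphisms of V generated by transvections (elements of order p fixing a hyperplane pointwise) and having no nontrivial normal p-subgroup. Then for some n ≥ 1 there are a decomposition V = V₀ ⊕ V₁ ⊕ ⋯ ⊕ Vₙ into H-invariant subspaces and a decomposition of H as the internal direct product of normal subgroups H₁, …, Hₙ such that Hⱼ acts trivially on every Vᵢ with i ≠ j, and Hⱼ induces on Vⱼ exactly the special linear group of Vⱼ or exactly the isometry group of a non-degenerate alternating form on Vⱼ. -/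
theorem result {p : ℕ} [Fact p.Prime] (hp : Odd p) {V : Type*} [AddCommGroup V] [Module (ZMod p) V] [Finite V]
    (H : Subgroup (V ≃ₗ[ZMod p] V)) (T : Set (V ≃ₗ[ZMod p] V)) (hHT : H = Subgroup.closure T)
    (hT : ∀ t ∈ T, orderOf t = p ∧
      Module.finrank (ZMod p) ↥(LinearMap.ker ((t : V →ₗ[ZMod p] V) - LinearMap.id)) + 1 =
        Module.finrank (ZMod p) V)
    (hOp : Cfsg.pCore p ↥H = ⊥) :
    ∃ (n : ℕ) (W : Fin (n + 1) → Submodule (ZMod p) V) (K : Fin n → Subgroup (V ≃ₗ[ZMod p] V)),
      1 ≤ n ∧ DirectSum.IsInternal W ∧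
      (∀ h ∈ H, ∀ i, (W i).map (h : V →ₗ[ZMod p] V) = W i) ∧
      (∀ j, K j ≤ H ∧ ((K j).subgroupOf H).Normal) ∧ ⨆ j, K j = H ∧
      (∀ j, K j ⊓ (⨆ j' ∈ {j' : Fin n | j' ≠ j}, K j') = ⊥) ∧
      (∀ j j', j ≠ j' → ∀ a ∈ K j, ∀ b ∈ K j', a * b = b * a) ∧
      (∀ j, ∀ h ∈ K j, ∀ i : Fin (n + 1), i ≠ j.succ → ∀ v ∈ W i, h v = v) ∧
      (∀ j, ∃ ρ : ↥(K j) →* (↥(W j.succ) ≃ₗ[ZMod p] ↥(W j.succ)),
        (∀ (h : ↥(K j)) (v : ↥(W j.succ)), ((ρ h v : ↥(W j.succ)) : V) = (h : V ≃ₗ[ZMod p] V) (v : V)) ∧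
        ((ρ.range : Set (↥(W j.succ) ≃ₗ[ZMod p] ↥(W j.succ))) =
            {f : ↥(W j.succ) ≃ₗ[ZMod p] ↥(W j.succ) | LinearMap.det (f : ↥(W j.succ) →ₗ[ZMod p] ↥(W j.succ)) = 1} ∨
          ∃ B : LinearMap.BilinForm (ZMod p) ↥(W j.succ), B.IsAlt ∧ B.Nondegenerate ∧
            (ρ.range : Set (↥(W j.succ) ≃ₗ[ZMod p] ↥(W j.succ))) = {f : ↥(W j.succ) ≃ₗ[ZMod p] ↥(W j.succ) | ∀ x y, B (f x) (f y) = B x y})) := by
  classical
  have hTv : ∀ t ∈ T, IsTv t := fun t ht => isTv_of_orderOf (hT t ht).1 (hT t ht).2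
  have hnoUnip : ∀ N : Subgroup (V ≃ₗ[ZMod p] V), N ≤ H → (∀ g ∈ H, ∀ n ∈ N, g * n * g⁻¹ ∈ N) →
      (∀ n ∈ N, n ^ p = 1) → N = ⊥ := by
    intro N hN hn hp1
    haveI : (N.subgroupOf H).Normal := ⟨fun n hnN g => hn g g.2 n hnN⟩
    have h1 : N.subgroupOf H ≤ pCore p ↥H := by
      refine CfsgLib.Solvable.Cores.le_pCore fun x => ⟨1, ?_⟩
      refine Subtype.ext (Subtype.ext ?_)
      simp only [pow_one, SubmonoidClass.coe_pow]
      exact hp1 _ x.2
    rw [hOp, le_bot_iff, Subgroup.subgroupOf_eq_bot, disjoint_iff] at h1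
    rwa [inf_eq_left.2 hN] at h1
  by_cases hne : T = ∅
  · -- the trivial group
    have hbot : H = ⊥ := by rw [hHT, hne, Subgroup.closure_empty]
    refine ⟨1, Fin.cons ⊤ (fun _ => ⊥), fun _ => ⊥, le_rfl, ?_, ?_, ?_, ?_, ?_, ?_, ?_, ?_⟩
    · refine DirectSum.isInternal_submodule_of_iSupIndep_of_iSup_eq_top (fun i => ?_)
        (eq_top_iff.2 (le_iSup_of_le 0 (by simp)))
      induction i using Fin.cases with
      | zero =>
        refine disjoint_bot_right.mono_right (iSup₂_le fun k hk => ?_)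
        induction k using Fin.cases with
        | zero => exact absurd rfl hk
        | succ k => simp
      | succ j => simp
    · intro h hh i
      rw [hbot, Subgroup.mem_bot] at hh
      subst hh
      exact Submodule.map_id _
    · exact fun j => ⟨bot_le, inferInstance⟩
    · simp [hbot]
    · simp
    · intro j j' _ a ha b hb
      rw [Subgroup.mem_bot] at ha hb
      rw [ha, hb]
    · intro j h hh i _ v _
      rw [Subgroup.mem_bot] at hh
      rw [hh]; rfl
    · intro j
      refine ⟨1, fun h v => ?_, Or.inl ?_⟩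
      · have := Subgroup.mem_bot.1 h.2
        simp [this]
      · have hsub : ∀ x y : ↥((Fin.cons ⊤ fun _ => ⊥ : Fin 2 → Submodule (ZMod p) V) j.succ), x = y := by
          intro x y
          have hx : (x : V) ∈ (⊥ : Submodule (ZMod p) V) := x.2
          have hy : (y : V) ∈ (⊥ : Submodule (ZMod p) V) := y.2
          rw [Submodule.mem_bot] at hx hy
          exact Subtype.ext (hx.trans hy.symm)
        ext f
        have hf : f = 1 := LinearEquiv.ext fun x => hsub _ _
        subst hf
        simp only [SetLike.mem_coe, Set.mem_setOf_eq, one_mem, true_iff]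
        exact LinearMap.det_id
  -- the classes of non-commuting transvections
  let T' : Set (V ≃ₗ[ZMod p] V) := {t | t ∈ H ∧ IsTv t}
  have hgen : Subgroup.closure T' = H := le_antisymm ((Subgroup.closure_le _).2 fun t ht => ht.1)
    (hHT.le.trans (Subgroup.closure_mono fun t ht => ⟨hHT ▸ Subgroup.subset_closure ht, hTv t ht⟩))
  let r : T' → T' → Prop := Relation.ReflTransGen fun a b => (a : V ≃ₗ[ZMod p] V) * b ≠ b * a
  have hsymm : ∀ {a b}, r a b → r b a := by
    intro a b h
    induction h with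
    | refl => exact Relation.ReflTransGen.refl
    | tail _ hbc ih => exact Relation.ReflTransGen.head hbc.symm ih
  let s : Setoid T' := ⟨r, fun _ => Relation.ReflTransGen.refl, hsymm, Relation.ReflTransGen.trans⟩
  haveI : Finite (V ≃ₗ[ZMod p] V) := Finite.of_injective (fun e => (e : V → V)) DFunLike.coe_injective
  haveI : Finite (Quotient s) := inferInstance
  letI := Fintype.ofFinite (Quotient s)
  let n := Fintype.card (Quotient s)
  let q : Fin n ≃ Quotient s := (Fintype.equivFin _).symm
  let cls : Fin n → Set (V ≃ₗ[ZMod p] V) :=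
    fun j => {t | ∃ h : t ∈ T', Quotient.mk s ⟨t, h⟩ = q j}
  let K : Fin n → Subgroup (V ≃ₗ[ZMod p] V) := fun j => Subgroup.closure (cls j)
  have hKH : ∀ j, K j ≤ H := fun j => (Subgroup.closure_le _).2 fun t ⟨h, _⟩ => h.1
  have hcover : ∀ t ∈ T', ∃ j, t ∈ cls j := fun t ht =>
    ⟨q.symm (Quotient.mk s ⟨t, ht⟩), ht, (q.apply_symm_apply _).symm⟩
  have hcomm0 : ∀ j j', j ≠ j' → ∀ a ∈ cls j, ∀ b ∈ cls j', a * b = b * a := by
    rintro j j' hj a ⟨ha, ea⟩ b ⟨hb, eb⟩
    by_contra hab
    exact hj (q.injective (ea.symm.trans ((Quotient.sound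
      (Relation.ReflTransGen.single hab : r ⟨a, ha⟩ ⟨b, hb⟩)).trans eb)))
  have hcommK : ∀ j j', j ≠ j' → ∀ a ∈ K j, ∀ b ∈ K j', a * b = b * a := by
    intro j j' hj a ha b hb
    have h1 : ∀ x ∈ cls j, K j' ≤ Subgroup.centralizer {x} := fun x hx =>
      (Subgroup.closure_le _).2 fun y hy => Subgroup.mem_centralizer_iff.2 fun z hz => by
        rw [Set.mem_singleton_iff.1 hz]; exact hcomm0 j j' hj x hx y hy
    have h2 : K j ≤ Subgroup.centralizer {b} := (Subgroup.closure_le _).2 fun x hx =>
      Subgroup.mem_centralizer_iff.2 fun z hz => by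
        rw [Set.mem_singleton_iff.1 hz]
        exact (Subgroup.mem_centralizer_iff.1 (h1 x hx hb) x rfl).symm
    exact (Subgroup.mem_centralizer_iff.1 (h2 ha) b rfl).symm
  have hnorm : ∀ j (N : Subgroup (V ≃ₗ[ZMod p] V)), N ≤ K j → (∀ g ∈ K j, ∀ x ∈ N, g * x * g⁻¹ ∈ N) →
      ∀ g ∈ H, ∀ x ∈ N, g * x * g⁻¹ ∈ N := by
    intro j N hN hn g hg
    rw [← hgen] at hg
    induction hg using Subgroup.closure_induction with
    | mem t ht =>
      obtain ⟨i, hi⟩ := hcover t ht
      by_cases hij : i = j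
      · exact fun x hx => hn t (hij ▸ Subgroup.subset_closure hi) x hx
      · intro x hx
        rw [hcommK i j hij t (Subgroup.subset_closure hi) x (hN hx), mul_inv_cancel_right]
        exact hx
    | one => exact fun x hx => by simpa using hx
    | mul a b _ _ ha hb =>
      intro x hx
      have e : a * b * x * (a * b)⁻¹ = a * (b * x * b⁻¹) * a⁻¹ := by group
      rw [e]; exact ha _ (hb x hx)
    | inv a _ ha =>
      intro x hx
      let f : N → N := fun y => ⟨a * y * a⁻¹, ha y y.2⟩
      have hf : Function.Surjective f := Finite.injective_iff_surjective.1 fun y z e => Subtype.ext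
        (mul_left_cancel (mul_right_cancel (congrArg Subtype.val e)))
      obtain ⟨y, hy⟩ := hf ⟨x, hx⟩
      have e : a⁻¹ * x * a⁻¹⁻¹ = y := by
        have e0 : a * (y : V ≃ₗ[ZMod p] V) * a⁻¹ = x := congrArg Subtype.val hy
        rw [← e0]; group
      rw [e]; exact y.2
  have hC : ∀ j, Comp (K j) (cls j) := by
    intro j
    refine
      { odd := hp
        gen := rfl
        isTv := fun t ⟨h, _⟩ => h.2
        nonempty := ?_
        conn := ?_
        noUnip := fun N hN hn hp1 => hnoUnip N (hN.trans (hKH j)) (hnorm j N hN hn) hp1 }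
    · obtain ⟨⟨t, ht⟩, e⟩ := Quotient.exists_rep (q j)
      exact ⟨t, ht, e⟩
    · rintro a ⟨ha, ea⟩ b ⟨hb, eb⟩
      have hr : r ⟨a, ha⟩ ⟨b, hb⟩ := Quotient.exact (ea.trans eb.symm)
      have key : ∀ x, r ⟨a, ha⟩ x → Quotient.mk s x = q j ∧ Relation.ReflTransGen
          (fun u v => u ∈ cls j ∧ v ∈ cls j ∧ u * v ≠ v * u) a (x : V ≃ₗ[ZMod p] V) := by
        intro x hx
        induction hx with
        | refl => exact ⟨ea, Relation.ReflTransGen.refl⟩
        | @tail y z _ hyz ih =>
          have hz : Quotient.mk s z = q j :=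
            (Quotient.sound (hsymm (Relation.ReflTransGen.single hyz))).trans ih.1
          exact ⟨hz, ih.2.tail ⟨⟨y.2, ih.1⟩, ⟨z.2, hz⟩, hyz⟩⟩
      exact (key _ hr).2
  have hfix : ∀ i j, i ≠ j → moved (cls i) ≤ fixedSpace (K j) := by
    intro i j hij
    refine Submodule.span_le.2 ?_
    rintro _ ⟨t, ht, x, rfl⟩
    rw [SetLike.mem_coe, mem_fixedSpace_closure]
    intro u hu
    exact IsTv.fix_of_commute hu.1.2 ht.1.2 (hcomm0 j i (Ne.symm hij) u hu t ht) x
  let W : Fin (n + 1) → Submodule (ZMod p) V := Fin.cons (fixedSpace H) fun j => moved (cls j)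
  have hW0 : fixedSpace H = ⨅ j, fixedSpace (K j) := by
    refine le_antisymm (le_iInf fun j x hx g hg => hx g (hKH j hg)) fun x hx => ?_
    rw [← hgen, mem_fixedSpace_closure]
    intro t ht
    obtain ⟨j, hj⟩ := hcover t ht
    exact (Submodule.mem_iInf _).1 hx j t (Subgroup.subset_closure hj)
  have hother : ∀ (j : Fin n) (i : Fin (n + 1)), i ≠ j.succ → W i ≤ fixedSpace (K j) := by
    intro j i hi
    induction i using Fin.cases with
    | zero => exact hW0.le.trans (iInf_le _ j)
    | succ i => exact hfix i j fun e => hi (e ▸ rfl)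
  have hmovedH : ∀ (j : Fin n), ∀ g ∈ H, ∀ x ∈ moved (cls j), g x ∈ moved (cls j) := by
    intro j
    refine invariant_of_generators hgen.symm fun t ht x hx => ?_
    obtain ⟨i, hi⟩ := hcover t ht
    by_cases hij : i = j
    · exact (hC j).moved_invariant t (hij ▸ Subgroup.subset_closure hi) x hx
    · rw [hfix j i (Ne.symm hij) hx t (Subgroup.subset_closure hi)]; exact hx
  refine ⟨n, W, K, ?_, ?_, ?_, ?_, ?_, ?_, hcommK, ?_, ?_⟩
  · obtain ⟨t, ht⟩ := Set.nonempty_iff_ne_empty.2 hne
    obtain ⟨j, -⟩ := hcover t ⟨hHT ▸ Subgroup.subset_closure ht, hTv t ht⟩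
    exact Nat.one_le_iff_ne_zero.2 fun e => (Fin.cast e j).elim0
  · refine DirectSum.isInternal_submodule_of_iSupIndep_of_iSup_eq_top (fun i => ?_) ?_
    · induction i using Fin.cases with
      | succ j =>
        exact (hC j).disjoint.mono_right (iSup₂_le fun i hi => hother j i hi)
      | zero =>
        have key : ∀ S : Finset (Fin n), Disjoint (fixedSpace H) (⨆ j ∈ S, moved (cls j)) := by
          intro S
          induction S using Finset.induction_on with
          | empty => simp
          | @insert j S hjS ih =>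
            rw [Finset.iSup_insert, Submodule.disjoint_def]
            intro x hx hx'
            obtain ⟨y, hy, z, hz, rfl⟩ := Submodule.mem_sup.1 hx'
            have hzf : z ∈ fixedSpace (K j) :=
              iSup₂_le (fun i hi => hfix i j fun (e : i = j) => hjS (e ▸ hi)) hz
            have hyf : y ∈ fixedSpace (K j) := by
              have := sub_mem (hW0.le.trans (iInf_le _ j) hx) hzf
              rwa [add_sub_cancel_right] at this
            rw [Submodule.disjoint_def.1 (hC j).disjoint y hy hyf, zero_add] at hx ⊢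
            exact Submodule.disjoint_def.1 ih z hx hz
        refine (key Finset.univ).mono_right (iSup₂_le fun i hi => ?_)
        induction i using Fin.cases with
        | zero => exact absurd rfl hi
        | succ j => exact le_iSup₂_of_le j (Finset.mem_univ j) le_rfl
    · rw [eq_top_iff]
      intro x _
      have hdec : ∀ j, ∃ y ∈ moved (cls j), x - y ∈ fixedSpace (K j) := fun j => by
        obtain ⟨y, hy, z, hz, e⟩ := Submodule.mem_sup.1
          ((hC j).sup_eq_top ▸ Submodule.mem_top : x ∈ moved (cls j) ⊔ fixedSpace (K j))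
        exact ⟨y, hy, by rw [← e, add_sub_cancel_left]; exact hz⟩
      choose y hy hy' using hdec
      have h0 : x - ∑ j, y j ∈ fixedSpace H := by
        rw [hW0, Submodule.mem_iInf]
        intro j
        rw [← Finset.add_sum_erase _ _ (Finset.mem_univ j), sub_add_eq_sub_sub]
        exact sub_mem (hy' j) (sum_mem fun i hi => hfix i j (Finset.ne_of_mem_erase hi) (hy i))
      have e : x = (x - ∑ j, y j) + ∑ j, y j := by abel
      rw [e]
      exact add_mem (le_iSup W 0 h0) (sum_mem fun j _ => le_iSup W j.succ (hy j))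
  · intro h hh i
    have hle : (W i).map (h : V →ₗ[ZMod p] V) ≤ W i := by
      rintro _ ⟨x, hx, rfl⟩
      induction i using Fin.cases with
      | zero => show h x ∈ fixedSpace H; rw [hx h hh]; exact hx
      | succ j => exact hmovedH j h hh x hx
    exact Submodule.eq_of_le_of_finrank_eq hle (LinearEquiv.finrank_map_eq h (W i))
  · exact fun j => ⟨hKH j, ⟨fun x hx g => hnorm j (K j) le_rfl
      (fun a ha b hb => mul_mem (mul_mem ha hb) (inv_mem ha)) g g.2 x hx⟩⟩
  · refine le_antisymm (iSup_le hKH) (hgen.symm.le.trans ((Subgroup.closure_le _).2 fun t ht => ?_))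
    obtain ⟨j, hj⟩ := hcover t ht
    exact Subgroup.mem_iSup_of_mem j (Subgroup.subset_closure hj)
  · intro j
    rw [Subgroup.eq_bot_iff_forall]
    intro g hg
    refine (hC j).eq_one_of_trivial_moved hg.1 fun y hy => ?_
    let S : Subgroup (V ≃ₗ[ZMod p] V) :=
      { carrier := {g | ∀ y ∈ moved (cls j), g y = y}
        one_mem' := fun y _ => rfl
        mul_mem' := fun {a b} ha hb y hy => by show a (b y) = y; rw [hb y hy, ha y hy]
        inv_mem' := fun {a} ha y hy => by show a.symm y = y; rw [LinearEquiv.symm_apply_eq, ha y hy] }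
    exact (iSup₂_le (fun i hi a ha y hy => hfix j i (Ne.symm hi) hy a ha) :
      (⨆ i ∈ {i : Fin n | i ≠ j}, K i) ≤ S) hg.2 y hy
  · intro j h hh i hi v hv
    exact hother j i hi hv h hh
  · intro j
    exact ⟨(hC j).rho, fun h v => rfl, (hC j).range_eq⟩

end Cfsg.Agent.S5075
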