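import Cfsg.Agent.Lib.FusionSystem.Group
-- Template for statement S5076 (row 5076; see /opt/grader/pristine/manifest.json for weights).
-- Copy to Cfsg/Agent/S5076.lean and replace the sorry. The statement below is byte-identical to the frozen
-- statement Cfsg.CfsgFrozen.S5076 (Cfsg/Statements/S5076.lean; the theorem Cfsg.fus_group_fusion_system_saturated);
-- the grader kernel-checks Cfsg.Agent.S5076.result against that frozen type. Keep the theorem IN THIS FILE
-- (a `result` declared elsewhere and merely imported here is not credited); helpers may live anywhere
-- under Cfsg/Agent/.
import Cfsg.Statements.S5076
-- import your own Cfsg.Agent.* helpers here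

set_option autoImplicit false
open Cfsg

namespace Cfsg.Agent.S5076

/-- The fusion system of a finite group on a Sylow p-subgroup is saturated: every subgroup of the Sylow subgroup is conjugate in the system to one that is fully automized and receptive. -/
theorem result {G : Type*} [Group G] [Finite G] (p : ℕ) [Fact p.Prime] (S : Sylow p G) : (Cfsg.groupFusionSystem (S : Subgroup G)).IsSaturated p := CfsgLib.Fsys.group_isSaturated S

end Cfsg.Agent.S5076
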