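import Cfsg.Agent.Lib.FusionSystem.Saturated
-- Template for statement S5077 (row 5077; see /opt/grader/pristine/manifest.json for weights).
-- Copy to Cfsg/Agent/S5077.lean and replace the sorry. The statement below is byte-identical to the frozen
-- statement Cfsg.CfsgFrozen.S5077 (Cfsg/Statements/S5077.lean; the theorem Cfsg.fus_saturated_iff_sylow_and_extension_axioms);
-- the grader kernel-checks Cfsg.Agent.S5077.result against that frozen type. Keep the theorem IN THIS FILE
-- (a `result` declared elsewhere and merely imported here is not credited); helpers may live anywhere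
-- under Cfsg/Agent/.
import Cfsg.Statements.S5077
-- import your own Cfsg.Agent.* helpers here

set_option autoImplicit false
open Cfsg

namespace Cfsg.Agent.S5077

/-- A fusion system over a finite p-group S is saturated if and only if (Sylow axiom) every fully normalized subgroup is fully centralized and fully automized, and (extension axiom) every fully centralized subgroup is receptive. -/
theorem result {Ω : Type*} [Group Ω] {S : Subgroup Ω} [Finite S] (p : ℕ) [Fact p.Prime] (hS : IsPGroup p S) (F : Cfsg.FusionSystem S) : F.IsSaturated p ↔ ((∀ P : Subgroup Ω, F.IsFullyNormalized P → F.IsFullyCentralized P ∧ F.IsFullyAutomized p P) ∧ (∀ P : Subgroup Ω, F.IsFullyCentralized P → F.IsReceptive P)) := by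
  open CfsgLib.Fsys in
  refine ⟨fun hF => ⟨fun P hP => ⟨(fullyNormalized_good hS hF hP).2, (fullyNormalized_good hS hF hP).1⟩,
    fun P hP => fullyCentralized_receptive hS hF hP⟩, fun h => ?_⟩
  exact CfsgLib.Fsys.isSaturated_of_axioms fun P hP => ⟨(h.1 P hP).2, h.2 P (h.1 P hP).1⟩

end Cfsg.Agent.S5077
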