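import Cfsg.Agent.Lib.FusionSystem.Saturated
-- Template for statement S5078 (row 5078; see /opt/grader/pristine/manifest.json for weights).
-- Copy to Cfsg/Agent/S5078.lean and replace the sorry. The statement below is byte-identical to the frozen
-- statement Cfsg.CfsgFrozen.S5078 (Cfsg/Statements/S5078.lean; the theorem Cfsg.fus_receptive_fully_centralized);
-- the grader kernel-checks Cfsg.Agent.S5078.result against that frozen type. Keep the theorem IN THIS FILE
-- (a `result` declared elsewhere and merely imported here is not credited); helpers may live anywhere
-- under Cfsg/Agent/.
import Cfsg.Statements.S5078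
-- import your own Cfsg.Agent.* helpers here

set_option autoImplicit false
open Cfsg

namespace Cfsg.Agent.S5078

/-- In any fusion system over a finite subgroup S, a receptive subgroup is fully centralized. -/
theorem result {Ω : Type*} [Group Ω] {S : Subgroup Ω} [Finite S] (F : Cfsg.FusionSystem S) (P : Subgroup Ω) (hP : F.IsReceptive P) : F.IsFullyCentralized P := CfsgLib.Fsys.receptive_fullyCentralized hP

end Cfsg.Agent.S5078
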