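import Cfsg.Agent.Lib.FusionSystem.Saturated
-- Template for statement S5079 (row 5079; see /opt/grader/pristine/manifest.json for weights).
-- Copy to Cfsg/Agent/S5079.lean and replace the sorry. The statement below is byte-identical to the frozen
-- statement Cfsg.CfsgFrozen.S5079 (Cfsg/Statements/S5079.lean; the theorem Cfsg.fus_normalizer_hom_onto_fully_automized_receptive);
-- the grader kernel-checks Cfsg.Agent.S5079.result against that frozen type. Keep the theorem IN THIS FILE
-- (a `result` declared elsewhere and merely imported here is not credited); helpers may live anywhere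
-- under Cfsg/Agent/.
import Cfsg.Statements.S5079
-- import your own Cfsg.Agent.* helpers here

set_option autoImplicit false
open Cfsg

namespace Cfsg.Agent.S5079

/-- In any fusion system over a finite p-group S: if P is fully automized and receptive and Q is conjugate to P in the system, then there is a map of the system with source N_S(Q) and values in N_S(P) carrying Q onto P. -/
theorem result {Ω : Type*} [Group Ω] {S : Subgroup Ω} [Finite S] (p : ℕ) [Fact p.Prime] (hS : IsPGroup p S) (F : Cfsg.FusionSystem S) (P Q : Subgroup Ω) (h₁ : F.IsFullyAutomized p P) (h₂ : F.IsReceptive P) (hQ : F.IsConj Q P) : ∃ φ ∈ F.Hom (Cfsg.FusionSystem.normalizerIn S Q), (∀ x, φ x ∈ Cfsg.FusionSystem.normalizerIn S P) ∧ (Q.subgroupOf (Cfsg.FusionSystem.normalizerIn S Q)).map φ = P := by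
  obtain ⟨g, hg, hgn, hgi⟩ := CfsgLib.Fsys.exists_normalizer_map hS h₁ h₂ hQ
  obtain ⟨φ, hφ, hφg⟩ := id hg
  refine ⟨φ, hφ, fun x => hφg x ▸ hgn x x.2, ?_⟩
  have hle : Q ≤ Cfsg.FusionSystem.normalizerIn S Q :=
    CfsgLib.Fsys.le_normalizerIn (CfsgLib.Fsys.isConj_le_left hQ)
  ext y
  rw [← hgi, (hg.mono hle).mem_img]
  constructor
  · rintro ⟨x, hx, rfl⟩
    exact ⟨x, hx, (hφg x).symm⟩
  · rintro ⟨x, hx, rfl⟩
    exact ⟨⟨x, hle hx⟩, hx, hφg _⟩

end Cfsg.Agent.S5079
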