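import Cfsg.Agent.Lib.FusionSystem.Alperin
-- Template for statement S5080 (row 5080; see /opt/grader/pristine/manifest.json for weights).
-- Copy to Cfsg/Agent/S5080.lean and replace the sorry. The statement below is byte-identical to the frozen
-- statement Cfsg.CfsgFrozen.S5080 (Cfsg/Statements/S5080.lean; the theorem Cfsg.fus_essential_is_radical);
-- the grader kernel-checks Cfsg.Agent.S5080.result against that frozen type. Keep the theorem IN THIS FILE
-- (a `result` declared elsewhere and merely imported here is not credited); helpers may live anywhere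
-- under Cfsg/Agent/.
import Cfsg.Statements.S5080
-- import your own Cfsg.Agent.* helpers here

set_option autoImplicit false
open Cfsg

namespace Cfsg.Agent.S5080

/-- In a saturated fusion system over a finite p-group, every essential subgroup is radical (it is centric and fully normalized by definition, so it is centric-radical and fully normalized). -/
theorem result {Ω : Type*} [Group Ω] {S : Subgroup Ω} [Finite S] (p : ℕ) [Fact p.Prime] (hS : IsPGroup p S) (F : Cfsg.FusionSystem S) (hF : F.IsSaturated p) (P : Subgroup Ω) (hP : F.IsEssential p P) : F.IsRadical p P := by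
  open CfsgLib.Fsys in
  have hPS : P ≤ S := hP.1.1
  refine ⟨hPS, ?_⟩
  obtain ⟨hc, hfn, hN, Y, hY⟩ := hP
  have := finite_of_le_base hPS
  refine le_antisymm ?_ ?_
  · rintro _ ⟨a, ha, rfl⟩
    have h := pCore_eq_bot_of_stronglyPEmbedded hY
    have h2 : QuotientGroup.mk' ((Cfsg.Inn P).subgroupOf (F.autGroup P)) a = 1 := by
      rw [← Subgroup.mem_bot, ← h]
      have hn : ((Cfsg.pCore p ↥(F.autGroup P)).map
          (QuotientGroup.mk' ((Cfsg.Inn P).subgroupOf (F.autGroup P)))).Normal :=
        Subgroup.Normal.map inferInstance _ (QuotientGroup.mk'_surjective _)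
      exact (@CfsgLib.Solvable.Cores.le_pCore _ _ p _ hn
        ((CfsgLib.Solvable.Cores.isPGroup_pCore p).map _)) (Subgroup.mem_map_of_mem _ ha)
    exact (QuotientGroup.eq_one_iff a).1 h2
  · intro α hα
    refine ⟨⟨α, inn_le_autGroup hPS hα⟩, ?_, rfl⟩
    haveI := inn_normal_aut (F := F) (P := P)
    have hp : IsPGroup p ((Cfsg.Inn P).subgroupOf (F.autGroup P)) :=
      ((isPGroup_autInducedBy hS).to_le (inn_le_autInducedBy hPS)).comap_of_injective _
        (Subgroup.subtype_injective _)
    exact CfsgLib.Solvable.Cores.le_pCore hp (show α ∈ Cfsg.Inn P from hα)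

end Cfsg.Agent.S5080
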