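import Cfsg.Agent.Lib.FusionSystem.Alperin
-- Template for statement S5081 (row 5081; see /opt/grader/pristine/manifest.json for weights).
-- Copy to Cfsg/Agent/S5081.lean and replace the sorry. The statement below is byte-identical to the frozen
-- statement Cfsg.CfsgFrozen.S5081 (Cfsg/Statements/S5081.lean; the theorem Cfsg.fus_extendable_automorphisms_dichotomy);
-- the grader kernel-checks Cfsg.Agent.S5081.result against that frozen type. Keep the theorem IN THIS FILE
-- (a `result` declared elsewhere and merely imported here is not credited); helpers may live anywhere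
-- under Cfsg/Agent/.
import Cfsg.Statements.S5081
-- import your own Cfsg.Agent.* helpers here

set_option autoImplicit false
open Cfsg

namespace Cfsg.Agent.S5081

/-- Let F be a saturated fusion system over a finite p-group S, P a proper subgroup of S that is fully normalized, and H the subgroup of Aut_F(P) generated by the automorphisms that extend to maps of the system defined on strictly larger subgroups of S. Then either P is not essential and H is all of Aut_F(P), or P is essential and the image of H in Out_F(P) = Aut_F(P)/Inn(P) is strongly p-embedded there. -/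
theorem result {Ω : Type*} [Group Ω] {S : Subgroup Ω} [Finite S] (p : ℕ) [Fact p.Prime] (hS : IsPGroup p S) (F : Cfsg.FusionSystem S) (hF : F.IsSaturated p) (P : Subgroup Ω) (hPS : P < S) (hPn : F.IsFullyNormalized P) (H : Subgroup (MulAut P)) (hH : H = Subgroup.closure {α : MulAut P | ∃ (Q : Subgroup Ω) (hPQ : P < Q) (φ : Q →* Ω), φ ∈ F.Hom Q ∧ ∀ x : P, φ (Subgroup.inclusion hPQ.le x) = α x}) : (¬ F.IsEssential p P ∧ H = F.autGroup P) ∨ (F.IsEssential p P ∧ ∃ _ : ((Cfsg.Inn P).subgroupOf (F.autGroup P)).Normal, Cfsg.IsStronglyPEmbedded p ((H.subgroupOf (F.autGroup P)).map (QuotientGroup.mk' ((Cfsg.Inn P).subgroupOf (F.autGroup P))))) := by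
  open CfsgLib.Fsys in
  rw [setOf_extAut] at hH
  have hH' : H = extClosure F P := hH
  subst hH'
  have hn := inn_normal_aut (F := F) (P := P)
  by_cases hess : F.IsEssential p P
  · exact Or.inr ⟨hess, hn, extClosure_isStronglyPEmbedded hS hF hPS hPn hess.1
      (extClosure_ne_of_essential hS hF hPS hess)⟩
  · exact Or.inl ⟨hess, (extClosure_eq_or_essential hS hF hPS hPn).resolve_right hess⟩

end Cfsg.Agent.S5081
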