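import Cfsg.Agent.Lib.FusionSystem.Alperin
-- Template for statement S5082 (row 5082; see /opt/grader/pristine/manifest.json for weights).
-- Copy to Cfsg/Agent/S5082.lean and replace the sorry. The statement below is byte-identical to the frozen
-- statement Cfsg.CfsgFrozen.S5082 (Cfsg/Statements/S5082.lean; the theorem Cfsg.fus_alperin_goldschmidt_generation);
-- the grader kernel-checks Cfsg.Agent.S5082.result against that frozen type. Keep the theorem IN THIS FILE
-- (a `result` declared elsewhere and merely imported here is not credited); helpers may live anywhere
-- under Cfsg/Agent/.
import Cfsg.Statements.S5082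
-- import your own Cfsg.Agent.* helpers here

set_option autoImplicit false
open Cfsg

namespace Cfsg.Agent.S5082

/-- Alperin–Goldschmidt fusion Theorem for fusion systems: a saturated fusion system F over a finite p-group S is generated by the automorphism groups Aut_F(P) for P = S and for P essential — every fusion system over S whose automorphism groups of these subgroups contain those of F contains every map of F. -/
theorem result {Ω : Type*} [Group Ω] {S : Subgroup Ω} [Finite S] (p : ℕ) [Fact p.Prime] (hS : IsPGroup p S) (F : Cfsg.FusionSystem S) (hF : F.IsSaturated p) (E : Cfsg.FusionSystem S) (hE : ∀ P : Subgroup Ω, (P = S ∨ F.IsEssential p P) → F.autGroup P ≤ E.autGroup P) : F ≤ E := by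
  exact CfsgLib.Fsys.alperin hS hF E (hE S (Or.inl rfl)) fun P _ h => hE P (Or.inr h)

end Cfsg.Agent.S5082
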