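import Cfsg.Agent.Lib.FusionSystem.Normal
-- Template for statement S5084 (row 5084; see /opt/grader/pristine/manifest.json for weights).
-- Copy to Cfsg/Agent/S5084.lean and replace the sorry. The statement below is byte-identical to the frozen
-- statement Cfsg.CfsgFrozen.S5084 (Cfsg/Statements/S5084.lean; the theorem Cfsg.fus_central_iff_conj_classes_singletons);
-- the grader kernel-checks Cfsg.Agent.S5084.result against that frozen type. Keep the theorem IN THIS FILE
-- (a `result` declared elsewhere and merely imported here is not credited); helpers may live anywhere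
-- under Cfsg/Agent/.
import Cfsg.Statements.S5084
-- import your own Cfsg.Agent.* helpers here

set_option autoImplicit false
open Cfsg
open scoped commutatorElement

namespace Cfsg.Agent.S5084

/-- In a saturated fusion system over a finite p-group S, a subgroup Q is central in the system if and only if Q ≤ S and no element of Q is conjugate in the system to any element other than itself. -/
theorem result {Ω : Type*} [Group Ω] {S : Subgroup Ω} [Finite S] (p : ℕ) [Fact p.Prime] (hS : IsPGroup p S) (F : Cfsg.FusionSystem S) (hF : F.IsSaturated p) (Q : Subgroup Ω) : F.IsCentral Q ↔ (Q ≤ S ∧ ∀ x ∈ Q, ∀ y : Ω, F.IsConjElt x y → y = x) := by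
  open CfsgLib.Fsys in
  constructor
  · intro hc
    obtain ⟨hQ, h⟩ := central_iff_fn.1 hc
    refine ⟨hQ, fun x hx y ⟨φ, hφ, hxy⟩ => ?_⟩
    obtain ⟨g, hg, he, hfix⟩ := h _ _ (fn_ofHom hφ)
    rw [← hxy, ← ofHom_apply φ (Subgroup.mem_zpowers x), ← he x (Subgroup.mem_zpowers x)]
    exact hfix x hx
  · rintro ⟨hQ, h⟩
    have key : ∀ P f, Fn F P f → ∀ x ∈ P, x ∈ Q → f x = x := by
      intro P f hf x hx hxQ
      obtain ⟨φ, hφ, hφf⟩ := hf.mono (Subgroup.zpowers_le.2 hx)
      exact h x hxQ _ ⟨φ, hφ, hφf ⟨x, Subgroup.mem_zpowers x⟩⟩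
    have hsc : F.StronglyClosed Q :=
      stronglyClosed_iff_fn.2 ⟨hQ, fun P f hf x hx hxQ => (key P f hf x hx hxQ).symm ▸ hxQ⟩
    have hn : F.IsNormal Q := by
      refine normal_of_series hS hF hsc (fun i => if i = 0 then ⊥ else Q) 1 (if_pos rfl) rfl ?_ ?_
      · intro i hi
        interval_cases i
        · exact normal_stronglyClosed normal_bot
        · exact hsc
      · intro i hi
        interval_cases i
        show ⁅Q, Q⁆ ≤ ⊥
        rw [Subgroup.commutator_le]
        intro a ha b hb
        have := key S _ (fn_conj le_rfl (hQ ha)) b (hQ hb) hb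
        show a * b * a⁻¹ * b⁻¹ ∈ (⊥ : Subgroup Ω)
        rw [this, mul_inv_cancel]
        exact Subgroup.one_mem _
    refine central_iff_fn.2 ⟨hQ, fun P f hf => ?_⟩
    obtain ⟨g, hg, he, -⟩ := (normal_iff_fn.1 hn).2 P f hf
    exact ⟨g, hg, he, fun x hx => key _ g hg x (Subgroup.mem_sup_right hx) hx⟩

end Cfsg.Agent.S5084
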