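import Cfsg.Agent.Lib.FusionSystem.Normal
-- Template for statement S5085 (row 5085; see /opt/grader/pristine/manifest.json for weights).
-- Copy to Cfsg/Agent/S5085.lean and replace the sorry. The statement below is byte-identical to the frozen
-- statement Cfsg.CfsgFrozen.S5085 (Cfsg/Statements/S5085.lean; the theorem Cfsg.fus_characteristic_subgroup_of_normal_is_normal);
-- the grader kernel-checks Cfsg.Agent.S5085.result against that frozen type. Keep the theorem IN THIS FILE
-- (a `result` declared elsewhere and merely imported here is not credited); helpers may live anywhere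
-- under Cfsg/Agent/.
import Cfsg.Statements.S5085
-- import your own Cfsg.Agent.* helpers here

set_option autoImplicit false
open Cfsg
open scoped commutatorElement

namespace Cfsg.Agent.S5085

/-- In any fusion system, a characteristic subgroup of a subgroup that is normal in the system is itself normal in the system. -/
theorem result {Ω : Type*} [Group Ω] {S : Subgroup Ω} (F : Cfsg.FusionSystem S) (Q U : Subgroup Ω) (hQ : F.IsNormal Q) (hUQ : U ≤ Q) (hU : (U.subgroupOf Q).Characteristic) : F.IsNormal U := by
  open CfsgLib.Fsys in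
  obtain ⟨hQS, h⟩ := normal_iff_fn.1 hQ
  refine normal_iff_fn.2 ⟨hUQ.trans hQS, fun P f hf => ?_⟩
  obtain ⟨g, hg, he, hi⟩ := h P f hf
  obtain ⟨α, -, hα⟩ := exists_aut_of_fn (hg.mono le_sup_right) hi
  refine ⟨g, hg.mono (sup_le_sup_left hUQ P), he, le_antisymm (img_le fun x hx => ?_) fun y hy => ?_⟩
  · rw [← show ((α ⟨x, hUQ hx⟩ : Q) : Ω) = g x from hα ⟨x, hUQ hx⟩]
    exact (Subgroup.characteristic_iff_map_le.1 hU α) ⟨⟨x, hUQ hx⟩, hx, rfl⟩
  · obtain ⟨x, hx, hxy⟩ := (Subgroup.characteristic_iff_le_map.1 hU α) (x := ⟨y, hUQ hy⟩) hy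
    have h1 : g (x : Ω) = y := (hα x).symm.trans (congrArg Subtype.val hxy)
    exact h1 ▸ mem_img_of_mem hx

end Cfsg.Agent.S5085
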