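import Cfsg.Agent.Lib.FusionSystem.Normal
-- Template for statement S5086 (row 5086; see /opt/grader/pristine/manifest.json for weights).
-- Copy to Cfsg/Agent/S5086.lean and replace the sorry. The statement below is byte-identical to the frozen
-- statement Cfsg.CfsgFrozen.S5086 (Cfsg/Statements/S5086.lean; the theorem Cfsg.fus_normal_iff_strongly_closed_le_centric_radical);
-- the grader kernel-checks Cfsg.Agent.S5086.result against that frozen type. Keep the theorem IN THIS FILE
-- (a `result` declared elsewhere and merely imported here is not credited); helpers may live anywhere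
-- under Cfsg/Agent/.
import Cfsg.Statements.S5086
-- import your own Cfsg.Agent.* helpers here

set_option autoImplicit false
open Cfsg

namespace Cfsg.Agent.S5086

/-- In a saturated fusion system over a finite p-group, a subgroup Q is normal in the system if and only if Q is strongly closed in the system and is contained in every centric-radical subgroup. -/
theorem result {Ω : Type*} [Group Ω] {S : Subgroup Ω} [Finite S] (p : ℕ) [Fact p.Prime] (hS : IsPGroup p S) (F : Cfsg.FusionSystem S) (hF : F.IsSaturated p) (Q : Subgroup Ω) : F.IsNormal Q ↔ (F.StronglyClosed Q ∧ ∀ P : Subgroup Ω, F.IsCentric P → F.IsRadical p P → Q ≤ P) := by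
  open CfsgLib.Fsys in
  exact ⟨fun h => ⟨normal_stronglyClosed h, fun P hc hr => normal_le_centricRadical hS h hc hr⟩,
    fun h => normal_of_stronglyClosed_of_le hS hF h.1 h.2⟩

end Cfsg.Agent.S5086
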