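import Cfsg.Agent.Lib.FusionSystem.Normal
-- Template for statement S5087 (row 5087; see /opt/grader/pristine/manifest.json for weights).
-- Copy to Cfsg/Agent/S5087.lean and replace the sorry. The statement below is byte-identical to the frozen
-- statement Cfsg.CfsgFrozen.S5087 (Cfsg/Statements/S5087.lean; the theorem Cfsg.fus_normal_iff_invariant_under_essential_automorphisms);
-- the grader kernel-checks Cfsg.Agent.S5087.result against that frozen type. Keep the theorem IN THIS FILE
-- (a `result` declared elsewhere and merely imported here is not credited); helpers may live anywhere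
-- under Cfsg/Agent/.
import Cfsg.Statements.S5087
-- import your own Cfsg.Agent.* helpers here

set_option autoImplicit false
open Cfsg

namespace Cfsg.Agent.S5087

/-- In a saturated fusion system over a finite p-group S, a subgroup Q is normal in the system if and only if every subgroup P that equals S or is essential contains Q and every element of Aut_F(P) maps Q onto itself. -/
theorem result {Ω : Type*} [Group Ω] {S : Subgroup Ω} [Finite S] (p : ℕ) [Fact p.Prime] (hS : IsPGroup p S) (F : Cfsg.FusionSystem S) (hF : F.IsSaturated p) (Q : Subgroup Ω) : F.IsNormal Q ↔ ∀ P : Subgroup Ω, (P = S ∨ F.IsEssential p P) → (Q ≤ P ∧ ∀ α ∈ F.autGroup P, (Q.subgroupOf P).map α.toMonoidHom = Q.subgroupOf P) := by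
  open CfsgLib.Fsys in
  constructor
  · intro h P hP
    have hQP : Q ≤ P := by
      rcases hP with rfl | hP
      · exact h.1
      · exact normal_le_centricRadical hS h hP.1 (essential_radical hS hP)
    have hPS : P ≤ S := by
      rcases hP with rfl | hP
      · exact le_rfl
      · exact hP.1.1
    refine ⟨hQP, fun α hα => ?_⟩
    have hf := (mem_autGroup_iff_fn hPS).1 hα
    have hi : img (autFn α) Q = Q :=
      weaklyClosed_img (weaklyClosed_of_stronglyClosed (normal_stronglyClosed h)) hQP hf
    ext y
    constructor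
    · rintro ⟨x, hx, rfl⟩
      show ((α x : P) : Ω) ∈ Q
      rw [← autFn_coe]
      exact hi.le (mem_img_of_mem hx)
    · intro hy
      obtain ⟨x, hx, hxy⟩ := (hf.mono hQP).mem_img.1 (hi.ge hy)
      exact ⟨⟨x, hQP hx⟩, hx, Subtype.ext ((autFn_coe α ⟨x, hQP hx⟩).symm.trans hxy)⟩
  · intro h
    have hinv : ∀ P : Subgroup Ω, (P = S ∨ F.IsEssential p P) → ∀ α ∈ F.autGroup P, ∀ x ∈ Q, autFn α x ∈ Q := by
      intro P hP α hα x hx
      obtain ⟨hQP, hmap⟩ := h P hP
      rw [show x = ((⟨x, hQP hx⟩ : P) : Ω) from rfl, autFn_coe]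
      exact (hmap α hα).le ⟨⟨x, hQP hx⟩, hx, rfl⟩
    refine normal_of_generators hS hF (h S (Or.inl rfl)).1 (fun s hs => ?_) fun P hP => ⟨(h P hP).1, hinv P hP⟩
    have hQS := (h S (Or.inl rfl)).1
    have := finite_of_le_base hQS
    refine mem_normalizer_of_map_le fun x hx => ?_
    have h1 := hinv S (Or.inl rfl) (conjAut S (Subgroup.le_normalizer hs))
      (autInducedBy_le_autGroup le_rfl (conjAut_mem_autInducedBy _ hs)) x hx
    rwa [show x = ((⟨x, hQS hx⟩ : S) : Ω) from rfl, autFn_coe, conjAut_coe] at h1

end Cfsg.Agent.S5087
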