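import Cfsg.Agent.Lib.FusionSystem.Normal
-- Template for statement S5088 (row 5088; see /opt/grader/pristine/manifest.json for weights).
-- Copy to Cfsg/Agent/S5088.lean and replace the sorry. The statement below is byte-identical to the frozen
-- statement Cfsg.CfsgFrozen.S5088 (Cfsg/Statements/S5088.lean; the theorem Cfsg.fus_normal_iff_strongly_closed_series);
-- the grader kernel-checks Cfsg.Agent.S5088.result against that frozen type. Keep the theorem IN THIS FILE
-- (a `result` declared elsewhere and merely imported here is not credited); helpers may live anywhere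
-- under Cfsg/Agent/.
import Cfsg.Statements.S5088
-- import your own Cfsg.Agent.* helpers here

set_option autoImplicit false
open Cfsg
open scoped commutatorElement

namespace Cfsg.Agent.S5088

/-- In a saturated fusion system over a finite p-group, a subgroup Q is normal in the system if and only if there is a chain of subgroups 1 = Q₀ ≤ Q₁ ≤ ⋯ ≤ Qₙ = Q such that each Qᵢ with i ≥ 1 is strongly closed in the system and [Q, Qᵢ] ≤ Qᵢ₋₁. -/
theorem result {Ω : Type*} [Group Ω] {S : Subgroup Ω} [Finite S] (p : ℕ) [Fact p.Prime] (hS : IsPGroup p S) (F : Cfsg.FusionSystem S) (hF : F.IsSaturated p) (Q : Subgroup Ω) : F.IsNormal Q ↔ ∃ (n : ℕ) (Qs : Fin (n + 1) → Subgroup Ω), Qs 0 = ⊥ ∧ Qs (Fin.last n) = Q ∧ Monotone Qs ∧ ∀ i : Fin n, F.StronglyClosed (Qs i.succ) ∧ ⁅Q, Qs i.succ⁆ ≤ Qs (Fin.castSucc i) := by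
  open CfsgLib.Fsys in
  constructor
  · intro h
    obtain ⟨C, n, h0, hn, hmono, hsc, hcomm⟩ := normal_series hS h
    exact ⟨n, fun i => C i, h0, hn, fun a b hab => hmono hab,
      fun i => ⟨hsc _ (Nat.succ_le_of_lt i.2), hcomm i i.2⟩⟩
  · rintro ⟨n, Qs, h0, hn, -, h⟩
    let C : ℕ → Subgroup Ω := fun i => Qs ⟨min i n, Nat.lt_succ_of_le (min_le_right i n)⟩
    have hsc : ∀ i ≤ n, F.StronglyClosed (C i) := by
      intro i hi
      rcases i with _ | i
      · show F.StronglyClosed (Qs _)
        rw [show (⟨min 0 n, _⟩ : Fin (n + 1)) = 0 from Fin.ext (Nat.zero_min n), h0]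
        exact normal_stronglyClosed normal_bot
      · have := (h ⟨i, hi⟩).1
        convert this using 2
        exact Fin.ext (min_eq_left hi)
    have hn' : C n = Q := by
      show Qs _ = Q
      rw [show (⟨min n n, _⟩ : Fin (n + 1)) = Fin.last n from Fin.ext (min_self n), hn]
    have h0' : C 0 = ⊥ := by
      show Qs _ = ⊥
      rw [show (⟨min 0 n, _⟩ : Fin (n + 1)) = 0 from Fin.ext (Nat.zero_min n), h0]
    refine normal_of_series hS hF (hn' ▸ hsc n le_rfl) C n h0' hn' hsc fun i hi => ?_
    convert (h ⟨i, hi⟩).2 using 3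
    all_goals first | (show min i n = i; omega) | (refine Fin.ext ?_; simp; omega)

end Cfsg.Agent.S5088
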