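import Cfsg.Agent.Lib.FusionSystem.Normal
-- Template for statement S5089 (row 5089; see /opt/grader/pristine/manifest.json for weights).
-- Copy to Cfsg/Agent/S5089.lean and replace the sorry. The statement below is byte-identical to the frozen
-- statement Cfsg.CfsgFrozen.S5089 (Cfsg/Statements/S5089.lean; the theorem Cfsg.fus_core_ne_bot_iff_strongly_closed_abelian);
-- the grader kernel-checks Cfsg.Agent.S5089.result against that frozen type. Keep the theorem IN THIS FILE
-- (a `result` declared elsewhere and merely imported here is not credited); helpers may live anywhere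
-- under Cfsg/Agent/.
import Cfsg.Statements.S5089
-- import your own Cfsg.Agent.* helpers here

set_option autoImplicit false
open Cfsg
open scoped commutatorElement

namespace Cfsg.Agent.S5089

/-- A saturated fusion system over a finite p-group has a nontrivial subgroup that is normal in the system (O_p(F) ≠ 1) if and only if some nontrivial abelian subgroup is strongly closed in the system. -/
theorem result {Ω : Type*} [Group Ω] {S : Subgroup Ω} [Finite S] (p : ℕ) [Fact p.Prime] (hS : IsPGroup p S) (F : Cfsg.FusionSystem S) (hF : F.IsSaturated p) : F.core ≠ ⊥ ↔ ∃ Q : Subgroup Ω, Q ≠ ⊥ ∧ IsMulCommutative Q ∧ F.StronglyClosed Q := by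
  open CfsgLib.Fsys in
  constructor
  · intro hne
    have := finite_of_le_base (core_le_base (F := F))
    have hp : IsPGroup p F.core := hS.to_le core_le_base
    have := (Subgroup.nontrivial_iff_ne_bot _).2 hne
    refine ⟨(Subgroup.center F.core).map F.core.subtype, ?_, inferInstance, ?_⟩
    · rw [Ne, Subgroup.map_eq_bot_iff_of_injective _ (Subgroup.subtype_injective _)]
      exact hp.bot_lt_center.ne'
    · refine normal_stronglyClosed (normal_char core_normal (Subgroup.map_subtype_le _) fun α x hx => ?_)
      obtain ⟨z, hz, hzx⟩ := hx
      obtain rfl : z = x := Subtype.ext hzx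
      exact ⟨α z, (Subgroup.characteristic_iff_map_le.1 inferInstance α) ⟨z, hz, rfl⟩, rfl⟩
  · rintro ⟨Q, hne, hab, hsc⟩ hbot
    refine hne (le_bot_iff.1 (hbot ▸ le_core ?_))
    refine normal_of_series hS hF hsc (fun i => if i = 0 then ⊥ else Q) 1 (if_pos rfl) rfl ?_ ?_
    · intro i hi
      interval_cases i
      · exact normal_stronglyClosed normal_bot
      · exact hsc
    · intro i hi
      interval_cases i
      show ⁅Q, Q⁆ ≤ ⊥
      rw [Subgroup.commutator_le]
      intro a ha b hb
      have := congrArg Subtype.val (hab.is_comm.comm (⟨a, ha⟩ : Q) ⟨b, hb⟩)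
      show a * b * a⁻¹ * b⁻¹ ∈ (⊥ : Subgroup Ω)
      rw [show a * b = b * a from this]
      simp

end Cfsg.Agent.S5089
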