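import Cfsg.Agent.Lib.FusionSystem.Generation
-- Template for statement S5092 (row 5092; see /opt/grader/pristine/manifest.json for weights).
-- Copy to Cfsg/Agent/S5092.lean and replace the sorry. The statement below is byte-identical to the frozen
-- statement Cfsg.CfsgFrozen.S5092 (Cfsg/Statements/S5092.lean; the theorem Cfsg.fus_focal_eq_hyperfocal_sup_derived);
-- the grader kernel-checks Cfsg.Agent.S5092.result against that frozen type. Keep the theorem IN THIS FILE
-- (a `result` declared elsewhere and merely imported here is not credited); helpers may live anywhere
-- under Cfsg/Agent/.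
import Cfsg.Statements.S5092
-- import your own Cfsg.Agent.* helpers here

set_option autoImplicit false
open Cfsg

namespace Cfsg.Agent.S5092

/-- For a saturated fusion system over a finite p-group S, the focal subgroup is the product of the hyperfocal subgroup and the derived subgroup of S. -/
theorem result {Ω : Type*} [Group Ω] {S : Subgroup Ω} [Finite S] (p : ℕ) [Fact p.Prime] (hS : IsPGroup p S) (F : Cfsg.FusionSystem S) (hF : F.IsSaturated p) : F.focalSubgroup = F.hyperfocalSubgroup p ⊔ ⁅(S : Subgroup Ω), (S : Subgroup Ω)⁆ := CfsgLib.Fsys.focal_eq_hyperfocal_sup hS hF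

end Cfsg.Agent.S5092
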