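import Cfsg.Agent.Lib.FusionSystem.Hyperfocal
-- Template for statement S5093 (row 5093; see /opt/grader/pristine/manifest.json for weights).
-- Copy to Cfsg/Agent/S5093.lean and replace the sorry. The statement below is byte-identical to the frozen
-- statement Cfsg.CfsgFrozen.S5093 (Cfsg/Statements/S5093.lean; the theorem Cfsg.fus_hyperfocal_subgroup_theorem);
-- the grader kernel-checks Cfsg.Agent.S5093.result against that frozen type. Keep the theorem IN THIS FILE
-- (a `result` declared elsewhere and merely imported here is not credited); helpers may live anywhere
-- under Cfsg/Agent/.
import Cfsg.Statements.S5093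
-- import your own Cfsg.Agent.* helpers here

set_option autoImplicit false
open Cfsg

namespace Cfsg.Agent.S5093

/-- Hyperfocal subgroup Theorem: for a finite group G with Sylow p-subgroup S, the hyperfocal subgroup of the fusion system of G on S equals S ∩ O^p(G), where O^p(G) is the subgroup generated by the elements of order prime to p. -/
theorem result {G : Type*} [Group G] [Finite G] (p : ℕ) [Fact p.Prime] (S : Sylow p G) : (Cfsg.groupFusionSystem (S : Subgroup G)).hyperfocalSubgroup p = (S : Subgroup G) ⊓ Cfsg.pResidual p G := CfsgLib.Fsys.group_hyperfocal_eq

end Cfsg.Agent.S5093
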