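import Cfsg.Statements.S5094
import Cfsg.Agent.Lib.Involution.ZStar.Main
import Cfsg.Agent.Lib.FusionSystem.Normal
import Cfsg.Agent.Lib.FusionSystem.Group

set_option autoImplicit false
open Cfsg

namespace Cfsg.Agent.S5094

universe u

open CfsgLib.Fsys CfsgLib.Involution.ZStar

theorem le_center_aux : ∀ n : ℕ, ∀ (G : Type u) [Group G] [Finite G], Nat.card G ≤ n →
    Cfsg.oddCore G = ⊥ → ∀ (S : Sylow 2 G) (Q : Subgroup G), Q ≤ S →
      (∀ q ∈ Q, ∀ g : G, g * q * g⁻¹ ∈ S → g * q * g⁻¹ = q) → Q ≤ Subgroup.center G := by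
  haveI := Fact.mk Nat.prime_two
  intro n
  induction n with
  | zero => intro G _ _ hn; exact absurd hn (by have := Nat.card_pos (α := G); omega)
  | succ n ih =>
    intro G _ _ hn hO S Q hQS hQ q hq
    by_cases hq1 : q = 1
    · rw [hq1]; exact one_mem _
    obtain ⟨k, hk⟩ := IsPGroup.iff_orderOf.mp S.2 ⟨q, hQS hq⟩
    rw [Subgroup.orderOf_mk] at hk
    obtain ⟨j, rfl⟩ : ∃ j, k = j + 1 := ⟨k - 1, by
      rcases Nat.eq_zero_or_pos k with h | h
      · exact absurd (orderOf_eq_one_iff.mp (by rw [hk, h, pow_zero])) hq1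
      · omega⟩
    set t := q ^ 2 ^ j with ht
    have htQ : t ∈ Q := pow_mem hq _
    have ht2 : orderOf t = 2 := by
      rw [ht, orderOf_pow_of_dvd (by simp) (by rw [hk]; exact pow_dvd_pow 2 (Nat.le_succ j)), hk, pow_succ,
        Nat.mul_div_cancel_left _ (by positivity)]
    have htc : t ∈ Subgroup.center G := Subgroup.mem_center_iff.mpr fun g => by
      have h := comm_mem_oddCore ((CfsgLib.Involution.Isolated.isolated_iff_sylow ht2 (hQS htQ)).2 (hQ t htQ)) g
      rw [hO, Subgroup.mem_bot, mul_inv_eq_one, mul_inv_eq_iff_eq_mul] at h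
      exact h.symm
    haveI hWn : (Subgroup.zpowers t).Normal := ⟨fun x hx g => by
      have hxc : x ∈ Subgroup.center G := Subgroup.zpowers_le.mpr htc hx
      rw [Subgroup.mem_center_iff.mp hxc g, mul_inv_cancel_right]
      exact hx⟩
    set W := Subgroup.zpowers t
    have hWS : W ≤ (S : Subgroup G) := Subgroup.zpowers_le.mpr (hQS htQ)
    have hsurj := QuotientGroup.mk'_surjective W
    have hcard : Nat.card (G ⧸ W) ≤ n := by
      have h1 := W.card_eq_card_quotient_mul_card_subgroup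
      rw [show Nat.card W = 2 by rw [Nat.card_zpowers, ht2]] at h1
      have := Nat.card_pos (α := G ⧸ W)
      omega
    have hmem : ∀ y : G, QuotientGroup.mk' W y ∈ (S : Subgroup G).map (QuotientGroup.mk' W) → y ∈ (S : Subgroup G) := by
      rintro y ⟨s, hs, hsy⟩
      obtain ⟨w, hw, rfl⟩ := (QuotientGroup.mk'_eq_mk' W).mp hsy
      exact mul_mem hs (hWS hw)
    have hbar := ih (G ⧸ W) hcard (oddCore_quotient_central hO ht2 htc) (S.mapSurjective hsurj)
      (Q.map (QuotientGroup.mk' W))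
      (by rw [Sylow.coe_mapSurjective]; exact Subgroup.map_mono hQS) (by
        rintro _ ⟨r, hr, rfl⟩ gb hgb
        obtain ⟨g, rfl⟩ := hsurj gb
        rw [← map_inv, ← map_mul, ← map_mul] at hgb ⊢
        replace hgb : _ ∈ (S : Subgroup G).map (QuotientGroup.mk' _) := hgb
        rw [hQ r hr g (hmem _ hgb)])
    refine Subgroup.mem_center_iff.mpr fun g => ?_
    have h1 := Subgroup.mem_center_iff.mp (hbar ⟨q, hq, rfl⟩) (QuotientGroup.mk' W g)
    have h2 : g * q * g⁻¹ ∈ (S : Subgroup G) := hmem _ ⟨q, hQS hq, by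
      rw [map_mul, map_mul, map_inv, h1, mul_inv_cancel_right]⟩
    exact mul_inv_eq_iff_eq_mul.mp (hQ q hq g h2)


/-- Glauberman's Z*-Theorem in fusion language: for a finite group G with Sylow 2-subgroup S, the centre of the fusion system of G on S is the set of elements of S whose image in G/O(G) is central, O(G) being the largest normal subgroup of odd order. -/
theorem result {G : Type*} [Group G] [Finite G] (S : Sylow 2 G) : (Cfsg.groupFusionSystem (S : Subgroup G)).center = (S : Subgroup G) ⊓ (Subgroup.center (G ⧸ Cfsg.oddCore G)).comap (QuotientGroup.mk' (Cfsg.oddCore G)) := by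
  haveI := Fact.mk Nat.prime_two
  haveI hn : (Cfsg.oddCore G).Normal := oddCore_normal
  set O := Cfsg.oddCore G with hO
  set π := QuotientGroup.mk' O with hπ
  have hsurj : Function.Surjective π := QuotientGroup.mk'_surjective O
  have hSO : ∀ x ∈ (S : Subgroup G), x ∈ O → x = 1 := fun x hx hxO => by
    obtain ⟨k, hk⟩ := IsPGroup.iff_orderOf.mp S.2 ⟨x, hx⟩
    rw [Subgroup.orderOf_mk] at hk
    have h1 : Odd (orderOf x) := odd_orderOf_of_mem hxO
    rcases Nat.eq_zero_or_pos k with h | h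
    · exact orderOf_eq_one_iff.mp (by rw [hk, h, pow_zero])
    · rw [hk] at h1
      exact absurd h1 (Nat.not_odd_iff_even.mpr ((Nat.even_pow' h.ne').mpr even_two))
  apply le_antisymm
  · -- the centre is central modulo the odd core
    have hcen : (Cfsg.groupFusionSystem (S : Subgroup G)).IsCentral (Cfsg.groupFusionSystem (S : Subgroup G)).center :=
      center_central
    set Q := (Cfsg.groupFusionSystem (S : Subgroup G)).center
    have hQS : Q ≤ (S : Subgroup G) := hcen.1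
    have hQ : ∀ q ∈ Q, ∀ g : G, g * q * g⁻¹ ∈ S → g * q * g⁻¹ = q := by
      intro q hq g hg
      have hf : Fn (Cfsg.groupFusionSystem (S : Subgroup G)) (Subgroup.zpowers q) (fun x => g * x * g⁻¹) :=
        fn_group_conj (Subgroup.zpowers_le.mpr (hQS hq)) g fun x hx => by
          obtain ⟨i, rfl⟩ := Subgroup.mem_zpowers_iff.mp hx
          rw [← conj_zpow]
          exact Subgroup.zpow_mem _ hg i
      obtain ⟨f, -, h1, h2⟩ := (central_iff_fn.mp hcen).2 _ _ hf
      exact (h1 q (Subgroup.mem_zpowers q)).symm.trans (h2 q hq)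
    refine le_inf hQS (Subgroup.map_le_iff_le_comap.mp ?_)
    refine le_center_aux _ (G ⧸ O) le_rfl oddCore_quotient (S.mapSurjective hsurj) (Q.map π)
      (by rw [Sylow.coe_mapSurjective]; exact Subgroup.map_mono hQS) ?_
    rintro _ ⟨q, hq, rfl⟩ gb hgb
    obtain ⟨g, rfl⟩ := hsurj gb
    rw [← map_inv, ← map_mul, ← map_mul] at hgb ⊢
    replace hgb : _ ∈ (S : Subgroup G).map (QuotientGroup.mk' _) := hgb
    -- the preimage of the Sylow subgroup of the quotient
    set H := ((S : Subgroup G).map π).comap π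
    have hSH : (S : Subgroup G) ≤ H := Subgroup.le_comap_map _ _
    have hyH : g * q * g⁻¹ ∈ H := hgb
    have hp : IsPGroup 2 ↥(Subgroup.zpowers (⟨_, hyH⟩ : ↥H)) := by
      obtain ⟨k, hk⟩ := IsPGroup.iff_orderOf.mp S.2 ⟨q, hQS hq⟩
      rw [Subgroup.orderOf_mk] at hk
      exact IsPGroup.of_card (n := k) (by
        rw [Nat.card_zpowers, Subgroup.orderOf_mk, ← hk]
        exact (MulAut.conj g).orderOf_eq q)
    obtain ⟨T, hT⟩ := hp.exists_le_sylow
    obtain ⟨h, hh⟩ := MulAction.exists_smul_eq ↥H T (S.subtype hSH)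
    have hmem : (h : G) * (g * q * g⁻¹) * (h : G)⁻¹ ∈ (S : Subgroup G) := by
      have h1 : h * ⟨_, hyH⟩ * h⁻¹ ∈ (S.subtype hSH : Subgroup ↥H) := by
        rw [← hh]
        exact ⟨_, hT (Subgroup.mem_zpowers _), rfl⟩
      exact h1
    have he : (h : G) * (g * q * g⁻¹) * (h : G)⁻¹ = q := by
      have e : (h : G) * (g * q * g⁻¹) * (h : G)⁻¹ = ((h : G) * g) * q * ((h : G) * g)⁻¹ := by group
      rw [e] at hmem ⊢
      exact hQ q hq _ hmem
    obtain ⟨s, hs, hsh⟩ := h.2
    have hsq : s * q * s⁻¹ = q :=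
      hQ q hq s (mul_mem (mul_mem hs (hQS hq)) (inv_mem hs))
    have h2 := congrArg π he
    rw [map_mul, map_mul, map_inv, ← hsh] at h2
    calc π (g * q * g⁻¹) = (π s)⁻¹ * (π s * π (g * q * g⁻¹) * (π s)⁻¹) * π s := by group
      _ = π (s⁻¹ * q * s) := by rw [h2, map_mul, map_mul, map_inv]
      _ = π q := by rw [(show s⁻¹ * q * s = q from by conv_lhs => { rw [← hsq] }; group)]
  · -- elements central modulo the odd core are central in the fusion system
    set Q := (S : Subgroup G) ⊓ (Subgroup.center (G ⧸ O)).comap π with hQdef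
    have hQO : ∀ q ∈ Q, ∀ g : G, q * g * q⁻¹ * g⁻¹ ∈ O := by
      intro q hq g
      have h := Subgroup.mem_center_iff.mp (Subgroup.mem_comap.mp (Subgroup.mem_inf.mp hq).2) (π g)
      rw [← QuotientGroup.ker_mk' O, MonoidHom.mem_ker, ← hπ, map_mul, map_mul, map_mul, map_inv, map_inv, ← h,
        mul_inv_cancel_right, mul_inv_cancel]
    have hSQ : ∀ q ∈ Q, ∀ s ∈ (S : Subgroup G), q * s = s * q := by
      intro q hq s hs
      have hqS := (Subgroup.mem_inf.mp hq).1
      have := hSO _ (mul_mem (mul_mem (mul_mem hqS hs) (inv_mem hqS)) (inv_mem hs)) (hQO q hq s)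
      rwa [mul_inv_eq_one, mul_inv_eq_iff_eq_mul] at this
    refine le_center (central_iff_fn.mpr ⟨inf_le_left, fun P f hf => ?_⟩)
    obtain ⟨hP, hfS, g, hg⟩ := fn_group_iff.mp hf
    -- the coset of conjugating elements congruent to `g`
    let X := {h : G // g⁻¹ * h ∈ O ∧ ∀ x ∈ P, h * x * h⁻¹ = g * x * g⁻¹}
    have hstab : ∀ q ∈ Q, ∀ h : G, (g⁻¹ * h ∈ O ∧ ∀ x ∈ P, h * x * h⁻¹ = g * x * g⁻¹) →
        g⁻¹ * (q * h * q⁻¹) ∈ O ∧ ∀ x ∈ P, (q * h * q⁻¹) * x * (q * h * q⁻¹)⁻¹ = g * x * g⁻¹ := by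
      intro q hq h ⟨h1, h2⟩
      refine ⟨?_, fun x hx => ?_⟩
      · rw [show g⁻¹ * (q * h * q⁻¹) = (g⁻¹ * h) * (h⁻¹ * (q * h * q⁻¹ * h⁻¹) * h⁻¹⁻¹) by group]
        exact mul_mem h1 (hn.conj_mem _ (hQO q hq h) h⁻¹)
      · have e1 : q⁻¹ * x * q = x := by rw [mul_assoc, ← hSQ q hq x (hP hx), inv_mul_cancel_left]
        have e2 : g * x * g⁻¹ ∈ (S : Subgroup G) := hg x hx ▸ hfS x hx
        calc q * h * q⁻¹ * x * (q * h * q⁻¹)⁻¹ = q * (h * (q⁻¹ * x * q) * h⁻¹) * q⁻¹ := by group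
          _ = g * x * g⁻¹ := by rw [e1, h2 x hx, hSQ q hq _ e2, mul_inv_cancel_right]
    letI : MulAction ↥Q X :=
      { smul := fun q h => ⟨(q : G) * h.1 * (q : G)⁻¹, hstab q q.2 h.1 h.2⟩
        one_smul := fun h => Subtype.ext (show ((1 : ↥Q) : G) * h.1 * ((1 : ↥Q) : G)⁻¹ = h.1 by simp)
        mul_smul := fun a b h => Subtype.ext (show ((a * b : ↥Q) : G) * h.1 * ((a * b : ↥Q) : G)⁻¹ =
          (a : G) * ((b : G) * h.1 * (b : G)⁻¹) * (a : G)⁻¹ by simp only [Subgroup.coe_mul]; group) }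
    let D : Subgroup G := O ⊓ Subgroup.centralizer (P : Set G)
    let e : ↥D ≃ X :=
      { toFun := fun d => ⟨g * (d : G), by rw [inv_mul_cancel_left]; exact (Subgroup.mem_inf.mp d.2).1, fun x hx => by
          rw [show g * (d : G) * x * (g * (d : G))⁻¹ = g * ((d : G) * x * (d : G)⁻¹) * g⁻¹ by group,
            ← Subgroup.mem_centralizer_iff.mp (Subgroup.mem_inf.mp d.2).2 x hx, mul_inv_cancel_right]⟩
        invFun := fun h => ⟨g⁻¹ * h.1, Subgroup.mem_inf.mpr ⟨h.2.1, Subgroup.mem_centralizer_iff.mpr fun x hx => by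
          have := h.2.2 x hx
          calc x * (g⁻¹ * h.1) = g⁻¹ * (g * x * g⁻¹) * h.1 := by group
            _ = g⁻¹ * (h.1 * x * h.1⁻¹) * h.1 := by rw [this]
            _ = g⁻¹ * h.1 * x := by group⟩⟩
        left_inv := fun d => Subtype.ext (inv_mul_cancel_left g (d : G))
        right_inv := fun h => Subtype.ext (mul_inv_cancel_left g h.1) }
    have hX : ¬ 2 ∣ Nat.card X := by
      rw [← Nat.card_congr e]
      intro h
      exact Nat.not_even_iff_odd.mpr odd_card_oddCore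
        (even_iff_two_dvd.mpr (h.trans (Subgroup.card_dvd_of_le inf_le_left)))
    obtain ⟨⟨h, hh1, hh2⟩, hfix⟩ := (S.2.to_le (inf_le_left : Q ≤ S)).nonempty_fixed_point_of_prime_not_dvd_card X hX
    have hhQ : ∀ q ∈ Q, h * q * h⁻¹ = q := fun q hq => by
      have h3 : q * h * q⁻¹ = h := congrArg Subtype.val (hfix ⟨q, hq⟩)
      rw [mul_inv_eq_iff_eq_mul] at h3 ⊢
      exact h3.symm
    refine ⟨fun x => h * x * h⁻¹, fn_group_conj (sup_le hP inf_le_left) h ?_,
      fun x hx => (hh2 x hx).trans (hg x hx).symm, hhQ⟩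
    have hle : P ⊔ Q ≤ (S : Subgroup G).comap (MulAut.conj h).toMonoidHom :=
      sup_le (fun x hx => show h * x * h⁻¹ ∈ (S : Subgroup G) by rw [hh2 x hx, ← hg x hx]; exact hfS x hx)
        (fun x hx => show h * x * h⁻¹ ∈ (S : Subgroup G) by rw [hhQ x hx]; exact (Subgroup.mem_inf.mp hx).1)
    exact fun x hx => hle hx

end Cfsg.Agent.S5094
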