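import Cfsg.Agent.Lib.FusionSystem.Invariant
-- Template for statement S5095 (row 5095; see /opt/grader/pristine/manifest.json for weights).
-- Copy to Cfsg/Agent/S5095.lean and replace the sorry. The statement below is byte-identical to the frozen
-- statement Cfsg.CfsgFrozen.S5095 (Cfsg/Statements/S5095.lean; the theorem Cfsg.fus_maps_agreeing_on_centric_differ_by_inner);
-- the grader kernel-checks Cfsg.Agent.S5095.result against that frozen type. Keep the theorem IN THIS FILE
-- (a `result` declared elsewhere and merely imported here is not credited); helpers may live anywhere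
-- under Cfsg/Agent/.
import Cfsg.Statements.S5095
-- import your own Cfsg.Agent.* helpers here

set_option autoImplicit false
open Cfsg

namespace Cfsg.Agent.S5095

/-- In a saturated fusion system over a finite p-group S: if Q ≤ P ≤ S with Q centric, and two maps of the system with source P agree on Q, then they differ by an inner automorphism of P induced by an element of the centre of Q. -/
theorem result {Ω : Type*} [Group Ω] {S : Subgroup Ω} [Finite S] (p : ℕ) [Fact p.Prime] (hS : IsPGroup p S) (F : Cfsg.FusionSystem S) (hF : F.IsSaturated p) (P Q : Subgroup Ω) (hQP : Q ≤ P) (hQ : F.IsCentric Q) (φ φ' : P →* Ω) (hφ : φ ∈ F.Hom P) (hφ' : φ' ∈ F.Hom P) (h : ∀ x : P, (x : Ω) ∈ Q → φ x = φ' x) : ∃ z : P, (z : Ω) ∈ Q ∧ (z : Ω) ∈ Subgroup.centralizer (Q : Set Ω) ∧ ∀ y : P, φ' y = φ (z * y * z⁻¹) := by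
  open CfsgLib.Fsys in
  obtain ⟨z, hz, hzc, hze⟩ := rigidity hS hF hQ hQP (fn_ofHom hφ) (fn_ofHom hφ')
    fun x hx => by rw [ofHom_apply φ (hQP hx), ofHom_apply φ' (hQP hx)]; exact h ⟨x, hQP hx⟩ hx
  refine ⟨⟨z, hQP hz⟩, hz, fun x hx => hzc x hx, fun y => ?_⟩
  have h1 := hze y y.2
  rw [ofHom_coe] at h1
  rw [h1, ← ofHom_coe φ]
  rfl

end Cfsg.Agent.S5095
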