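import Cfsg.Agent.Lib.FusionSystem.Subsystems
-- Template for statement S5096 (row 5096; see /opt/grader/pristine/manifest.json for weights).
-- Copy to Cfsg/Agent/S5096.lean and replace the sorry. The statement below is byte-identical to the frozen
-- statement Cfsg.CfsgFrozen.S5096 (Cfsg/Statements/S5096.lean; the theorem Cfsg.fus_normalizer_system_exists);
-- the grader kernel-checks Cfsg.Agent.S5096.result against that frozen type. Keep the theorem IN THIS FILE
-- (a `result` declared elsewhere and merely imported here is not credited); helpers may live anywhere
-- under Cfsg/Agent/.
import Cfsg.Statements.S5096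
-- import your own Cfsg.Agent.* helpers here

set_option autoImplicit false
open Cfsg

namespace Cfsg.Agent.S5096

/-- For any fusion system over a subgroup S and any Q ≤ S, the maps of the normalizer system N_F(Q) — those maps between subgroups of N_S(Q) that extend to the subgroup generated with Q carrying Q onto Q — form a fusion system over N_S(Q). -/
theorem result {Ω : Type*} [Group Ω] {S : Subgroup Ω} (F : Cfsg.FusionSystem S) (Q : Subgroup Ω) (hQ : Q ≤ S) : ∃ E : Cfsg.FusionSystem (Cfsg.FusionSystem.normalizerIn S Q), F.IsNormalizerSystem Q E := CfsgLib.Fsys.exists_normalizerSystem F hQ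

end Cfsg.Agent.S5096
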