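import Cfsg.Agent.Lib.FusionSystem.Subsystems
-- Template for statement S5099 (row 5099; see /opt/grader/pristine/manifest.json for weights).
-- Copy to Cfsg/Agent/S5099.lean and replace the sorry. The statement below is byte-identical to the frozen
-- statement Cfsg.CfsgFrozen.S5099 (Cfsg/Statements/S5099.lean; the theorem Cfsg.fus_centralizer_system_saturated);
-- the grader kernel-checks Cfsg.Agent.S5099.result against that frozen type. Keep the theorem IN THIS FILE
-- (a `result` declared elsewhere and merely imported here is not credited); helpers may live anywhere
-- under Cfsg/Agent/.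
import Cfsg.Statements.S5099
-- import your own Cfsg.Agent.* helpers here

set_option autoImplicit false
open Cfsg

namespace Cfsg.Agent.S5099

/-- If F is a saturated fusion system over a finite p-group S and Q is fully centralized in F, then the centralizer system C_F(Q) is a saturated fusion system over C_S(Q). -/
theorem result {Ω : Type*} [Group Ω] {S : Subgroup Ω} [Finite S] (p : ℕ) [Fact p.Prime] (hS : IsPGroup p S) (F : Cfsg.FusionSystem S) (hF : F.IsSaturated p) (Q : Subgroup Ω) (hQ : F.IsFullyCentralized Q) (E : Cfsg.FusionSystem (Cfsg.FusionSystem.centralizerIn S Q)) (hE : F.IsCentralizerSystem Q E) : E.IsSaturated p := CfsgLib.Fsys.centralizerSystem_saturated hS hF hQ hE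

end Cfsg.Agent.S5099
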