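import Cfsg.Agent.Lib.FusionSystem.Group
-- Template for statement S5101 (row 5101; see /opt/grader/pristine/manifest.json for weights).
-- Copy to Cfsg/Agent/S5101.lean and replace the sorry. The statement below is byte-identical to the frozen
-- statement Cfsg.CfsgFrozen.S5101 (Cfsg/Statements/S5101.lean; the theorem Cfsg.fus_group_fully_centralized_iff_sylow_centralizer);
-- the grader kernel-checks Cfsg.Agent.S5101.result against that frozen type. Keep the theorem IN THIS FILE
-- (a `result` declared elsewhere and merely imported here is not credited); helpers may live anywhere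
-- under Cfsg/Agent/.
import Cfsg.Statements.S5101
-- import your own Cfsg.Agent.* helpers here

set_option autoImplicit false
open Cfsg

namespace Cfsg.Agent.S5101

/-- In the fusion system of a finite group G on a Sylow p-subgroup S, a subgroup P ≤ S is fully centralized if and only if C_S(P) is a Sylow p-subgroup of C_G(P). -/
theorem result {G : Type*} [Group G] [Finite G] (p : ℕ) [Fact p.Prime] (S : Sylow p G) (P : Subgroup G) (hP : P ≤ S) : (Cfsg.groupFusionSystem (S : Subgroup G)).IsFullyCentralized P ↔ ∃ R : Sylow p ↥(Subgroup.centralizer (P : Set G)), (R : Subgroup ↥(Subgroup.centralizer (P : Set G))) = (Cfsg.FusionSystem.centralizerIn (S : Subgroup G) P).subgroupOf (Subgroup.centralizer (P : Set G)) := (CfsgLib.Fsys.group_fullyCentralized_iff S hP).trans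
  (CfsgLib.Fsys.exists_sylow_iff CfsgLib.Fsys.centralizerIn_le_centralizer).symm

end Cfsg.Agent.S5101
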