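import Cfsg.Agent.Lib.FusionSystem.Models
-- Template for statement S5103 (row 5103; see /opt/grader/pristine/manifest.json for weights).
-- Copy to Cfsg/Agent/S5103.lean and replace the sorry. The statement below is byte-identical to the frozen
-- statement Cfsg.CfsgFrozen.S5103 (Cfsg/Statements/S5103.lean; the theorem Cfsg.fus_constrained_of_model);
-- the grader kernel-checks Cfsg.Agent.S5103.result against that frozen type. Keep the theorem IN THIS FILE
-- (a `result` declared elsewhere and merely imported here is not credited); helpers may live anywhere
-- under Cfsg/Agent/.
import Cfsg.Statements.S5103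
-- import your own Cfsg.Agent.* helpers here

set_option autoImplicit false
open Cfsg

namespace Cfsg.Agent.S5103

/-- A fusion system over a finite p-group that has a model (a finite group realizing it on a Sylow p-subgroup with self-centralizing largest normal p-subgroup) is constrained. -/
theorem result {Ω : Type*} [Group Ω] {S : Subgroup Ω} [Finite S] (p : ℕ) [Fact p.Prime] (hS : IsPGroup p S) (F : Cfsg.FusionSystem S) {G : Type*} [Group G] (ι : S →* G) (hG : F.IsModel p G ι) : F.IsConstrained p := CfsgLib.Fsys.model_constrained hG

end Cfsg.Agent.S5103
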