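import Cfsg.Agent.Lib.FusionSystem.Saturated
-- Template for statement S5104 (row 5104; see /opt/grader/pristine/manifest.json for weights).
-- Copy to Cfsg/Agent/S5104.lean and replace the sorry. The statement below is byte-identical to the frozen
-- statement Cfsg.CfsgFrozen.S5104 (Cfsg/Statements/S5104.lean; the theorem Cfsg.fus_centric_of_fully_centralized_self_centralizing);
-- the grader kernel-checks Cfsg.Agent.S5104.result against that frozen type. Keep the theorem IN THIS FILE
-- (a `result` declared elsewhere and merely imported here is not credited); helpers may live anywhere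
-- under Cfsg/Agent/.
import Cfsg.Statements.S5104
-- import your own Cfsg.Agent.* helpers here

set_option autoImplicit false
open Cfsg

namespace Cfsg.Agent.S5104

/-- In a saturated fusion system over a finite p-group S, a fully centralized subgroup U with C_S(U) ≤ U is centric. -/
theorem result {Ω : Type*} [Group Ω] {S : Subgroup Ω} [Finite S] (p : ℕ) [Fact p.Prime] (hS : IsPGroup p S) (F : Cfsg.FusionSystem S) (hF : F.IsSaturated p) (U : Subgroup Ω) (hU : F.IsFullyCentralized U) (hC : Cfsg.FusionSystem.centralizerIn S U ≤ U) : F.IsCentric U := by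
  refine ⟨hU.1, fun Q hQ => ?_⟩
  obtain ⟨f, hf, rfl⟩ := CfsgLib.Fsys.isConj_iff.1 hQ
  have hle : Cfsg.FusionSystem.centralizerIn S U ≤ U := hC
  have h : CfsgLib.Fsys.img f (Cfsg.FusionSystem.centralizerIn S U) =
      Cfsg.FusionSystem.centralizerIn S (CfsgLib.Fsys.img f U) :=
    CfsgLib.Fsys.img_eq_of_card_le CfsgLib.Fsys.centralizerIn_le (hf.mono hC)
      (fun n hn => hf.map_centralizer le_rfl rfl (hC hn) hn) (hU.2 _ hQ)
  exact h.ge.trans (CfsgLib.Fsys.img_mono hC)

end Cfsg.Agent.S5104
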