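import Cfsg.Agent.Lib.FusionSystem.Normal
-- Template for statement S5106 (row 5106; see /opt/grader/pristine/manifest.json for weights).
-- Copy to Cfsg/Agent/S5106.lean and replace the sorry. The statement below is byte-identical to the frozen
-- statement Cfsg.CfsgFrozen.S5106 (Cfsg/Statements/S5106.lean; the theorem Cfsg.fus_normal_iff_maps_extend_to_automorphisms);
-- the grader kernel-checks Cfsg.Agent.S5106.result against that frozen type. Keep the theorem IN THIS FILE
-- (a `result` declared elsewhere and merely imported here is not credited); helpers may live anywhere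
-- under Cfsg/Agent/.
import Cfsg.Statements.S5106
-- import your own Cfsg.Agent.* helpers here

set_option autoImplicit false
open Cfsg
open scoped commutatorElement

namespace Cfsg.Agent.S5106

/-- In a saturated fusion system over a finite p-group S, a subgroup R ≤ S is normal in the system if and only if every map of the system whose source is a subgroup of R is the restriction of an element of Aut_F(R). -/
theorem result {Ω : Type*} [Group Ω] {S : Subgroup Ω} [Finite S] (p : ℕ) [Fact p.Prime] (hS : IsPGroup p S) (F : Cfsg.FusionSystem S) (hF : F.IsSaturated p) (R : Subgroup Ω) (hRS : R ≤ S) : F.IsNormal R ↔ ∀ (P : Subgroup Ω) (hPR : P ≤ R) (φ : P →* Ω), φ ∈ F.Hom P → ∃ α ∈ F.autGroup R, ∀ x : P, ((α (Subgroup.inclusion hPR x) : R) : Ω) = φ x := by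
  open CfsgLib.Fsys in
  constructor
  · intro h P hPR φ hφ
    obtain ⟨g, hg, he, hi⟩ := (normal_iff_fn.1 h).2 P _ (fn_ofHom hφ)
    obtain ⟨α, hα, hαg⟩ := exists_aut_of_fn (hg.mono le_sup_right) hi
    exact ⟨α, hα, fun x => (hαg _).trans ((he x x.2).trans (ofHom_coe φ x))⟩
  · intro h
    have := finite_of_le_base hRS
    have key : ∀ P f, Fn F P f → ∀ x ∈ P, x ∈ R → ∀ n, x ∈ R.lowerCentralSeries n →
        f x ∈ R.lowerCentralSeries n := by
      intro P f hf x hx hxR n hxn
      obtain ⟨φ, hφ, hφf⟩ := hf.mono (inf_le_left : P ⊓ R ≤ P)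
      obtain ⟨α, hα, hαx⟩ := h _ inf_le_right φ hφ
      rw [← show φ ⟨x, hx, hxR⟩ = f x from hφf _, ← hαx, ← autFn_coe]
      exact map_lowerCentral ((mem_autGroup_iff_fn hRS).1 hα) le_rfl (img_autFn α) n x hxn
    have hsc : F.StronglyClosed R :=
      stronglyClosed_iff_fn.2 ⟨hRS, fun P f hf x hx hxR => by simpa using key P f hf x hx hxR 0 (by simpa using hxR)⟩
    obtain ⟨n, hn⟩ := (Subgroup.isNilpotent_iff_lowerCentralSeries R).1 (hS.to_le hRS).isNilpotent
    refine normal_of_series hS hF hsc (fun i => R.lowerCentralSeries (n - i)) n (by simpa using hn) (by simp)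
      (fun i _ => stronglyClosed_iff_fn.2 ⟨(R.lowerCentralSeries_le_self _).trans hRS,
        fun P f hf x hx hxn => key P f hf x hx (R.lowerCentralSeries_le_self _ hxn) _ hxn⟩) fun i hi => ?_
    rw [Subgroup.commutator_comm]
    show ⁅R.lowerCentralSeries (n - (i + 1)), R⁆ ≤ R.lowerCentralSeries (n - i)
    rw [show n - i = n - (i + 1) + 1 by omega, Subgroup.lowerCentralSeries_succ]

end Cfsg.Agent.S5106
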