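import Cfsg.Agent.Lib.FusionSystem.Inner
-- Template for statement S5107 (row 5107; see /opt/grader/pristine/manifest.json for weights).
-- Copy to Cfsg/Agent/S5107.lean and replace the sorry. The statement below is byte-identical to the frozen
-- statement Cfsg.CfsgFrozen.S5107 (Cfsg/Statements/S5107.lean; the theorem Cfsg.fus_class_two_center_strongly_closed_normalizer_controls);
-- the grader kernel-checks Cfsg.Agent.S5107.result against that frozen type. Keep the theorem IN THIS FILE
-- (a `result` declared elsewhere and merely imported here is not credited); helpers may live anywhere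
-- under Cfsg/Agent/.
import Cfsg.Statements.S5107
-- import your own Cfsg.Agent.* helpers here

set_option autoImplicit false
open Cfsg

namespace Cfsg.Agent.S5107

/-- If a Sylow p-subgroup S of a finite group G has nilpotency class at most two and its centre is strongly closed in S with respect to G, then every map of the fusion system of G on S is conjugation by an element of N_G(S), and S is the largest subgroup normal in that fusion system. -/
theorem result {G : Type*} [Group G] [Finite G] (p : ℕ) [Fact p.Prime] (S : Sylow p G) (hcl : ⁅(S : Subgroup G), (S : Subgroup G)⁆ ≤ (S : Subgroup G) ⊓ Subgroup.centralizer ((S : Subgroup G) : Set G)) (hZ : Cfsg.IsStronglyClosed ((S : Subgroup G) ⊓ Subgroup.centralizer ((S : Subgroup G) : Set G)) (S : Subgroup G)) : (∀ (P : Subgroup G) (φ : P →* G), φ ∈ (Cfsg.groupFusionSystem (S : Subgroup G)).Hom P → ∃ g ∈ Subgroup.normalizer ((S : Subgroup G) : Set G), ∀ x : P, φ x = g * (x : G) * g⁻¹) ∧ (Cfsg.groupFusionSystem (S : Subgroup G)).core = S := by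
  open CfsgLib.Fsys in
  have hF := group_isSaturated S
  have hS := S.2
  have hsc : (Cfsg.groupFusionSystem (S : Subgroup G)).StronglyClosed
      ((S : Subgroup G) ⊓ Subgroup.centralizer ((S : Subgroup G) : Set G)) := by
    refine stronglyClosed_iff_fn.2 ⟨inf_le_left, fun P f hf x hx hxZ => ?_⟩
    obtain ⟨-, hfS, g, hg⟩ := fn_group_iff.1 hf
    rw [hg x hx]
    exact hZ.2 x hxZ g (hg x hx ▸ hfS x hx)
  let C : ℕ → Subgroup G := fun i => if i = 0 then ⊥ else
    if i = 1 then (S : Subgroup G) ⊓ Subgroup.centralizer ((S : Subgroup G) : Set G) else (S : Subgroup G)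
  have hn : (Cfsg.groupFusionSystem (S : Subgroup G)).IsNormal (S : Subgroup G) := by
    refine normal_of_series hS hF sc_top C 2 (if_pos rfl) rfl (fun i _ => ?_) (fun i hi => ?_)
    · simp only [C]
      split_ifs
      exacts [sc_bot, hsc, sc_top]
    · interval_cases i
      · show ⁅(S : Subgroup G), (S : Subgroup G) ⊓ Subgroup.centralizer ((S : Subgroup G) : Set G)⁆ ≤ ⊥
        rw [Subgroup.commutator_le]
        intro a ha b hb
        rw [Subgroup.mem_bot, commutatorElement_eq_one_iff_mul_comm]
        exact Subgroup.mem_centralizer_iff.1 hb.2 a ha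
      · exact hcl
  refine ⟨fun P φ hφ => ?_, le_antisymm core_le_base (le_core hn)⟩
  obtain ⟨g, hg, he, hi⟩ := (normal_iff_fn.1 hn).2 P _ (fn_ofHom hφ)
  have hPS : P ≤ (S : Subgroup G) := ((Cfsg.groupFusionSystem (S : Subgroup G)).le_of_mem hφ).1
  obtain ⟨-, -, k, hk⟩ := fn_group_iff.1 hg
  refine ⟨k, mem_normalizer_of_map_le fun x hx => ?_, fun x => ?_⟩
  · rw [← hk x (Subgroup.mem_sup_right hx)]
    exact hg.mem (Subgroup.mem_sup_right hx)
  · rw [← ofHom_coe φ x, ← he x x.2, hk x (Subgroup.mem_sup_left x.2)]

end Cfsg.Agent.S5107
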