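import Cfsg.Agent.Lib.FusionSystem.Generation
-- Template for statement S5111 (row 5111; see /opt/grader/pristine/manifest.json for weights).
-- Copy to Cfsg/Agent/S5111.lean and replace the sorry. The statement below is byte-identical to the frozen
-- statement Cfsg.CfsgFrozen.S5111 (Cfsg/Statements/S5111.lean; the theorem Cfsg.fus_saturated_iff_top_automized_and_normalized_receptive);
-- the grader kernel-checks Cfsg.Agent.S5111.result against that frozen type. Keep the theorem IN THIS FILE
-- (a `result` declared elsewhere and merely imported here is not credited); helpers may live anywhere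
-- under Cfsg/Agent/.
import Cfsg.Statements.S5111
-- import your own Cfsg.Agent.* helpers here

set_option autoImplicit false
open Cfsg

namespace Cfsg.Agent.S5111

/-- A fusion system over a finite p-group S is saturated if and only if the inner automorphisms of S form a Sylow p-subgroup of Aut_F(S) and every fully normalized subgroup of S is receptive. -/
theorem result {Ω : Type*} [Group Ω] {S : Subgroup Ω} [Finite S] (p : ℕ) [Fact p.Prime] (hS : IsPGroup p S) (F : Cfsg.FusionSystem S) : F.IsSaturated p ↔ (F.IsFullyAutomized p S ∧ ∀ P : Subgroup Ω, F.IsFullyNormalized P → F.IsReceptive P) := by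
  constructor
  · intro hF
    exact ⟨CfsgLib.Fsys.fullyAutomized_top hF, fun P hP => CfsgLib.Fsys.fullyNormalized_receptive hS hF hP⟩
  · rintro ⟨hA, hr⟩
    exact CfsgLib.Fsys.saturated_of_top_and_receptive hS hA hr

end Cfsg.Agent.S5111
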