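import Cfsg.Agent.Lib.FusionSystem.TwoGroupAut
-- Template for statement S5112 (row 5112; see /opt/grader/pristine/manifest.json for weights).
-- Copy to Cfsg/Agent/S5112.lean and replace the sorry. The statement below is byte-identical to the frozen
-- statement Cfsg.CfsgFrozen.S5112 (Cfsg/Statements/S5112.lean; the theorem Cfsg.fus_dihedral_or_quaternion_top_automorphisms_inner);
-- the grader kernel-checks Cfsg.Agent.S5112.result against that frozen type. Keep the theorem IN THIS FILE
-- (a `result` declared elsewhere and merely imported here is not credited); helpers may live anywhere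
-- under Cfsg/Agent/.
import Cfsg.Statements.S5112
-- import your own Cfsg.Agent.* helpers here

set_option autoImplicit false
open Cfsg

namespace Cfsg.Agent.S5112

/-- If S is a dihedral or generalized quaternion 2-group of order at least 16, then in every saturated fusion system over S (at the prime 2) the automorphism group Aut_F(S) consists of the inner automorphisms of S. -/
theorem result {Ω : Type*} [Group Ω] {S : Subgroup Ω} [Finite S] (n : ℕ) (hn : 4 ≤ n) (hshape : Nonempty (S ≃* DihedralGroup (2 ^ (n - 1))) ∨ Nonempty (S ≃* QuaternionGroup (2 ^ (n - 2)))) (F : Cfsg.FusionSystem S) (hF : F.IsSaturated 2) : F.autGroup S = Cfsg.Inn S := by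
  open CfsgLib.Fsys in
  have hS : IsPGroup 2 S := by
    rcases id hshape with h | h <;> obtain ⟨e⟩ := h
    · refine IsPGroup.of_card (n := n) ?_
      rw [Nat.card_congr e.toEquiv, DihedralGroup.nat_card, ← pow_succ', Nat.sub_add_cancel (by omega)]
    · refine IsPGroup.of_card (n := n) ?_
      haveI : NeZero (2 ^ (n - 2)) := ⟨by positivity⟩
      rw [Nat.card_congr e.toEquiv, Nat.card_eq_fintype_card, QuaternionGroup.card,
        show 4 * 2 ^ (n - 2) = 2 ^ (n - 2 + 2) by ring, Nat.sub_add_cancel (by omega)]
  have hA : IsPGroup 2 (F.autGroup S) := isPGroup_of_forall_coprime fun a ha =>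
    Subtype.ext (dihedral_quaternion_aut n hn hshape (by rwa [Subgroup.orderOf_coe]))
  obtain ⟨-, T, hT⟩ := fullyAutomized_top hF
  refine le_antisymm (fun a ha => ?_) (inn_le_autGroup le_rfl)
  have e : (T : Subgroup (F.autGroup S)) = ⊤ := (T.3 (hA.of_equiv Subgroup.topEquiv.symm) le_top).symm
  have h2 : (⟨a, ha⟩ : F.autGroup S) ∈ (T : Subgroup (F.autGroup S)) := e.ge (Subgroup.mem_top _)
  rw [hT] at h2
  exact (autInducedBy_self S).le h2

end Cfsg.Agent.S5112
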