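import Cfsg.Agent.Lib.FusionSystem.PPowerExistence
-- Template for statement S5113 (row 5113; see /opt/grader/pristine/manifest.json for weights).
-- Copy to Cfsg/Agent/S5113.lean and replace the sorry. The statement below is byte-identical to the frozen
-- statement Cfsg.CfsgFrozen.S5113 (Cfsg/Statements/S5113.lean; the theorem Cfsg.fus_p_power_index_subsystem_exists_unique);
-- the grader kernel-checks Cfsg.Agent.S5113.result against that frozen type. Keep the theorem IN THIS FILE
-- (a `result` declared elsewhere and merely imported here is not credited); helpers may live anywhere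
-- under Cfsg/Agent/.
import Cfsg.Statements.S5113
-- import your own Cfsg.Agent.* helpers here

set_option autoImplicit false
open Cfsg

namespace Cfsg.Agent.S5113

/-- Let F be a saturated fusion system over a finite p-group S and T a subgroup of S containing the hyperfocal subgroup of F. Then there is exactly one saturated fusion system over T that is a subsystem of F of p-power index. -/
theorem result {Ω : Type*} [Group Ω] {S : Subgroup Ω} [Finite S] (p : ℕ) [Fact p.Prime] (hS : IsPGroup p S) (F : Cfsg.FusionSystem S) (hF : F.IsSaturated p) (T : Subgroup Ω) (hTS : T ≤ S) (hT : F.hyperfocalSubgroup p ≤ T) : ∃ E : Cfsg.FusionSystem T, (E.IsSaturated p ∧ E.HasPPowerIndexIn F p) ∧ ∀ E' : Cfsg.FusionSystem T, E'.IsSaturated p → E'.HasPPowerIndexIn F p → E' = E := by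
  obtain ⟨E, hEs, hEi⟩ := CfsgLib.Fsys.exists_pPowerIndex hS hF hTS hT
  have : Finite T := CfsgLib.Fsys.finite_of_le_base hTS
  refine ⟨E, ⟨hEs, hEi⟩, fun E' hEs' hEi' => ?_⟩
  have h1 := CfsgLib.Fsys.le_of_pResidual (hS.to_le hTS) hEs' hEi'.1 hEi.2.2
  have h2 := CfsgLib.Fsys.le_of_pResidual (hS.to_le hTS) hEs hEi.1 hEi'.2.2
  exact CfsgLib.Fsys.system_ext fun P => Set.Subset.antisymm (h1 P) (h2 P)

end Cfsg.Agent.S5113
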