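import Cfsg.Agent.Lib.FusionSystem.GroupConstrained
-- Template for statement S5115 (row 5115; see /opt/grader/pristine/manifest.json for weights).
-- Copy to Cfsg/Agent/S5115.lean and replace the sorry. The statement below is byte-identical to the frozen
-- statement Cfsg.CfsgFrozen.S5115 (Cfsg/Statements/S5115.lean; the theorem Cfsg.fus_subnormal_two_fusion_constrained);
-- the grader kernel-checks Cfsg.Agent.S5115.result against that frozen type. Keep the theorem IN THIS FILE
-- (a `result` declared elsewhere and merely imported here is not credited); helpers may live anywhere
-- under Cfsg/Agent/.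
import Cfsg.Statements.S5115
-- import your own Cfsg.Agent.* helpers here

set_option autoImplicit false
open Cfsg

namespace Cfsg.Agent.S5115

/-- If the 2-fusion system of a finite group G on a Sylow 2-subgroup S is constrained, then for every subnormal subgroup H of G the 2-fusion system of H on S ∩ H is constrained. -/
theorem result {G : Type*} [Group G] [Finite G] (S : Sylow 2 G) (hF : (Cfsg.groupFusionSystem (S : Subgroup G)).IsConstrained 2) (H : Subgroup G) (hH : H.IsSubnormal) : (Cfsg.groupFusionSystem ((S : Subgroup G).subgroupOf H)).IsConstrained 2 := by
  obtain ⟨hT, hc⟩ := CfsgLib.Fsys.subnormal_constrained S hF hH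
  exact CfsgLib.Fsys.constrained_subgroupOf hT hc

end Cfsg.Agent.S5115
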