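import Cfsg.Agent.Lib.FusionSystem.GroupNormal
-- Template for statement S5118 (row 5118; see /opt/grader/pristine/manifest.json for weights).
-- Copy to Cfsg/Agent/S5118.lean and replace the sorry. The statement below is byte-identical to the frozen
-- statement Cfsg.CfsgFrozen.S5118 (Cfsg/Statements/S5118.lean; the theorem Cfsg.fus_normal_subgroup_induces_normal_subsystem);
-- the grader kernel-checks Cfsg.Agent.S5118.result against that frozen type. Keep the theorem IN THIS FILE
-- (a `result` declared elsewhere and merely imported here is not credited); helpers may live anywhere
-- under Cfsg/Agent/.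
import Cfsg.Statements.S5118
-- import your own Cfsg.Agent.* helpers here

set_option autoImplicit false
open Cfsg

namespace Cfsg.Agent.S5118

/-- For a finite group G with Sylow p-subgroup S and a normal subgroup H, the fusion system of H on S ∩ H is a normal subsystem of the fusion system of G on S. -/
theorem result {G : Type*} [Group G] [Finite G] (p : ℕ) [Fact p.Prime] (S : Sylow p G) (H : Subgroup G) [H.Normal] : (Cfsg.fusionSystemOfSubgroup H ((S : Subgroup G) ⊓ H) inf_le_right).IsNormalIn (Cfsg.groupFusionSystem (S : Subgroup G)) p := CfsgLib.Fsys.normal_subsystem_of_normal S

end Cfsg.Agent.S5118
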