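import Cfsg.Agent.Lib.FusionSystem.GroupNormal
-- Template for statement S5119 (row 5119; see /opt/grader/pristine/manifest.json for weights).
-- Copy to Cfsg/Agent/S5119.lean and replace the sorry. The statement below is byte-identical to the frozen
-- statement Cfsg.CfsgFrozen.S5119 (Cfsg/Statements/S5119.lean; the theorem Cfsg.fus_invariant_iff_strong_invariance);
-- the grader kernel-checks Cfsg.Agent.S5119.result against that frozen type. Keep the theorem IN THIS FILE
-- (a `result` declared elsewhere and merely imported here is not credited); helpers may live anywhere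
-- under Cfsg/Agent/.
import Cfsg.Statements.S5119
-- import your own Cfsg.Agent.* helpers here

set_option autoImplicit false
open Cfsg

namespace Cfsg.Agent.S5119

/-- Let F be a saturated fusion system over a finite p-group S and E a subsystem of F over a subgroup T that is strongly closed in F. Then E is invariant in F (invariance under Aut_F(T) plus the Frattini condition) if and only if the strong invariance condition holds: for P ≤ Q ≤ T, every map φ of E from P into Q and every map ψ of F with source Q, the transported map ψ φ ψ⁻¹ on ψ(P) is a map of E. -/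
theorem result {Ω : Type*} [Group Ω] {S : Subgroup Ω} [Finite S] (p : ℕ) [Fact p.Prime] (hS : IsPGroup p S) (F : Cfsg.FusionSystem S) (hF : F.IsSaturated p) {T : Subgroup Ω} (E : Cfsg.FusionSystem T) (hE : E.IsSubsystemOf F) (hT : F.StronglyClosed T) : E.IsInvariantIn F ↔ ∀ (P Q : Subgroup Ω) (hPQ : P ≤ Q) (_ : Q ≤ T) (φ : P →* Ω) (_ : φ ∈ E.Hom P) (hφQ : ∀ x : P, φ x ∈ Q) (ψ : Q →* Ω) (_ : ψ ∈ F.Hom Q), ∃ χ ∈ E.Hom ((P.subgroupOf Q).map ψ), ∀ (x : P) (hx : ψ (Subgroup.inclusion hPQ x) ∈ (P.subgroupOf Q).map ψ), χ ⟨ψ (Subgroup.inclusion hPQ x), hx⟩ = ψ ⟨φ x, hφQ x⟩ := by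
  open CfsgLib.Fsys in
  constructor
  · intro hinv P Q hPQ hQT φ hφ hφQ ψ hψ
    have hg : ∀ x : P, φ x = ofHom φ x := fun x => (ofHom_coe φ x).symm
    obtain ⟨χ, hχ, he⟩ := Invariant.strong hinv hQT (fn_ofHom hψ) hPQ (fn_ofHom hφ)
      fun x hx => hg ⟨x, hx⟩ ▸ hφQ ⟨x, hx⟩
    obtain ⟨χ', hχ', hχf⟩ := id hχ
    have e : (P.subgroupOf Q).map ψ = img (ofHom ψ) P := by
      refine le_antisymm ?_ (img_le fun x hx => ⟨⟨x, hPQ hx⟩, hx, (ofHom_apply ψ (hPQ hx)).symm⟩)
      rintro _ ⟨x, hx, rfl⟩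
      rw [← ofHom_coe ψ x]
      exact mem_img_of_mem hx
    refine ⟨χ'.comp (MulEquiv.subgroupCongr e).toMonoidHom, mem_hom_of_fn (e.symm ▸ hχ) fun y => hχf _,
      fun x hx => ?_⟩
    refine (hχf _).trans ?_
    show χ (ψ (Subgroup.inclusion hPQ x)) = _
    rw [← ofHom_coe ψ (Subgroup.inclusion hPQ x)]
    refine (he x x.2).trans ?_
    rw [ofHom_coe φ x]
    exact ofHom_apply ψ (hφQ x)
  · intro h
    refine invariant_of_strong hS hF hE hT fun P Q g f hPQ hQT hg hgm hf => ?_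
    obtain ⟨φ, hφ, hφg⟩ := hg
    obtain ⟨ψ, hψ, hψf⟩ := hf
    obtain ⟨χ, hχ, he⟩ := h P Q hPQ hQT φ hφ (fun x => (hφg x).symm ▸ hgm x x.2) ψ hψ
    have e : (P.subgroupOf Q).map ψ = img f P := by
      refine le_antisymm ?_ (img_le fun x hx => ⟨⟨x, hPQ hx⟩, hx, hψf _⟩)
      rintro _ ⟨x, hx, rfl⟩
      rw [hψf]
      exact mem_img_of_mem hx
    refine ⟨ofHom χ, e ▸ fn_ofHom hχ, fun x hx => ?_⟩
    have hm : ψ (Subgroup.inclusion hPQ ⟨x, hx⟩) ∈ (P.subgroupOf Q).map ψ :=
      ⟨_, show (x : Ω) ∈ P from hx, rfl⟩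
    rw [show f x = ψ (Subgroup.inclusion hPQ ⟨x, hx⟩) from (hψf ⟨x, hPQ hx⟩).symm, ofHom_apply χ hm,
      he ⟨x, hx⟩ hm, hψf]
    exact congrArg f (hφg ⟨x, hx⟩)

end Cfsg.Agent.S5119
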