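import Cfsg.Statements.S5121
import Cfsg.Agent.Lib.KGroups.NormalSubsystemModel
-- import your own Cfsg.Agent.* helpers here

set_option autoImplicit false
open Cfsg

namespace Cfsg.Agent.S5121

/-- Let G be a finite group with Sylow p-subgroup S and C_G(O_p(G)) ≤ O_p(G). For every subgroup T ≤ S and every normal subsystem E over T of the fusion system of G on S there is exactly one normal subgroup H of G containing T as a Sylow p-subgroup whose fusion system on T is E. -/
theorem result {G : Type*} [Group G] [Finite G] (p : ℕ) [Fact p.Prime] (S : Sylow p G) (hG : Subgroup.centralizer ((Cfsg.pCore p G : Subgroup G) : Set G) ≤ Cfsg.pCore p G) (T : Subgroup G) (hTS : T ≤ S) (E : Cfsg.FusionSystem T) (hE : E.IsNormalIn (Cfsg.groupFusionSystem (S : Subgroup G)) p) : ∃ H : Subgroup G, (∃ hTH : T ≤ H, H.Normal ∧ (∃ R : Sylow p H, (R : Subgroup H) = T.subgroupOf H) ∧ ∀ P : Subgroup G, E.Hom P = (Cfsg.fusionSystemOfSubgroup H T hTH).Hom P) ∧ ∀ H' : Subgroup G,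 (∃ hTH' : T ≤ H', H'.Normal ∧ (∃ R : Sylow p H', (R : Subgroup H') = T.subgroupOf H') ∧ ∀ P : Subgroup G, E.Hom P = (Cfsg.fusionSystemOfSubgroup H' T hTH').Hom P) → H' = H := by
  open CfsgLib.KGroups.NormalSubsystemModel CfsgLib.Fsys in
  exact (by
  have hEI := hE.1.2.2
  have hmn := model_normal hE
  refine ⟨model p E, ⟨le_model, hmn, (exists_sylow_iff le_model).2 (model_sylow hG hTS hE), fun P => ?_⟩, ?_⟩
  · exact Set.Subset.antisymm (system_le hG hTS hE P) (le_system hG hTS hE P)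
  rintro H' ⟨hTH', hH'n, hH'S, hH'E⟩
  have hT' := (exists_sylow_iff hTH').1 hH'S
  haveI := hH'n
  haveI := hmn
  have hinf : ∀ x ∈ H', x ∈ Cfsg.pCore p G → x ∈ base p T := by
    intro x hx hxQ
    have h1 := hT'.2.2 ((Cfsg.pCore p G ⊓ H') ⊔ T) (sup_le inf_le_right hTH') (by
      refine IsPGroup.to_le S.2 (sup_le (inf_le_left.trans (CfsgLib.Solvable.Cores.pCore_le_sylow S)) hTS)) le_sup_right
    exact ⟨h1.le (Subgroup.mem_sup_left ⟨hxQ, hx⟩), hxQ⟩
  have hQn : (Cfsg.pCore p G).Normal := CfsgLib.LocalEven.SylowIn.pCore_normal G p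
  have hstab : ∀ h ∈ H', ∀ q ∈ Cfsg.pCore p G, h * q * h⁻¹ * q⁻¹ ∈ base p T := fun h hh q hq =>
    hinf _ (by
      have := H'.mul_mem hh (hH'n.conj_mem _ (H'.inv_mem hh) q)
      simpa [mul_assoc] using this) (Subgroup.mul_mem _ (hQn.conj_mem q hq h) (Subgroup.inv_mem _ hq))
  have hle : H' ≤ model p E := by
    intro h hh
    obtain ⟨l, hl, n, hn, rfl⟩ := exists_factor hE (N := Subgroup.normalClosure (T : Set G))
      Subgroup.le_normalClosure h
    have hlH : l ∈ H' := Subgroup.normalClosure_le_normal hTH' hl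
    have hnH : n ∈ H' := by
      have := H'.mul_mem (H'.inv_mem hlH) hh
      simpa using this
    refine Subgroup.mul_mem _ (Subgroup.mem_sup_left hl) ?_
    obtain ⟨a, m, hm, he, hco⟩ := exists_pow_coprime (p := p) n
    have h1 : n ^ p ^ a ∈ model p E := by
      have hnN := Subgroup.pow_mem _ hn (p ^ a)
      refine Subgroup.mem_sup_right (Subgroup.subset_closure ⟨hco, hstab _ (H'.pow_mem hnH _), hnN, ?_⟩)
      refine Subgroup.subset_closure ?_
      show T.subtype.comp (conjAut T hnN).toMonoidHom ∈ E.Hom T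
      rw [hH'E]
      exact ⟨le_rfl, fun x => (conjAut T hnN x).2, _, H'.pow_mem hnH _, fun x => conjAut_coe hnN x⟩
    have h2 : n ^ m ∈ model p E := by
      refine le_model ?_
      have hnm := Subgroup.pow_mem _ hn m
      have hpe : (n ^ m) ^ p ^ a = 1 := by rw [← pow_mul, mul_comm, ← he, pow_orderOf_eq_one]
      have hp : IsPGroup p ↥(Subgroup.zpowers (n ^ m) ⊔ T) := by
        refine IsPGroup.to_sup_of_normal_right' ?_ (S.2.to_le hTS) (Subgroup.zpowers_le.2 hnm)
        rintro ⟨_, i, rfl⟩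
        refine ⟨a, Subtype.ext ?_⟩
        show ((n ^ m) ^ i) ^ p ^ a = 1
        rw [← zpow_natCast, ← zpow_mul, mul_comm, zpow_mul, zpow_natCast, hpe, one_zpow]
      exact (hT'.2.2 _ (sup_le (Subgroup.zpowers_le.2 (H'.pow_mem hnH m)) hTH') hp le_sup_right).le
        (Subgroup.mem_sup_left (Subgroup.mem_zpowers _))
    have hb := Nat.gcd_eq_gcd_ab (p ^ a) m
    rw [(hm.pow_right a).symm.gcd_eq_one] at hb
    have : n = (n ^ p ^ a) ^ (Nat.gcdA (p ^ a) m) * (n ^ m) ^ (Nat.gcdB (p ^ a) m) := by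
      rw [← zpow_natCast, ← zpow_natCast n m, ← zpow_mul, ← zpow_mul, ← zpow_add, ← hb]
      simp
    rw [this]
    exact Subgroup.mul_mem _ (Subgroup.zpow_mem _ h1 _) (Subgroup.zpow_mem _ h2 _)
  refine le_antisymm hle (sup_le (Subgroup.normalClosure_le_normal hTH') ((Subgroup.closure_le _).2 ?_))
  intro g hg
  obtain ⟨hgn, hα⟩ := hg.2.2
  have hfn := (mem_autGroup_iff_fn le_rfl).1 hα
  obtain ⟨φ, hφ, hφe⟩ := hfn
  rw [hH'E] at hφ
  obtain ⟨-, -, h, hh, hφh⟩ := hφ
  have h1 : h⁻¹ * g ∈ base p T := by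
    refine eq_of_same_action hG hTS hE ((model p E).mul_mem ((model p E).inv_mem (hle hh))
      (Subgroup.mem_sup_right (Subgroup.subset_closure hg))) (Subgroup.mem_centralizer_iff.2 fun x hx => ?_)
    have h2 : h * x * h⁻¹ = g * x * g⁻¹ := by
      have e := (hφh ⟨x, hx.1⟩).symm.trans (hφe ⟨x, hx.1⟩)
      rw [autFn_coe, conjAut_coe] at e
      exact e
    calc x * (h⁻¹ * g) = h⁻¹ * (h * x * h⁻¹) * g := by group
      _ = h⁻¹ * (g * x * g⁻¹) * g := by rw [h2]
      _ = h⁻¹ * g * x := by group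
  have := H'.mul_mem hh (hTH' h1.1)
  simpa using this)

end Cfsg.Agent.S5121
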