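import Cfsg.Agent.Lib.FusionSystem.Group
-- Template for statement S5123 (row 5123; see /opt/grader/pristine/manifest.json for weights).
-- Copy to Cfsg/Agent/S5123.lean and replace the sorry. The statement below is byte-identical to the frozen
-- statement Cfsg.CfsgFrozen.S5123 (Cfsg/Statements/S5123.lean; the theorem Cfsg.fus_sylow_extension_lemma);
-- the grader kernel-checks Cfsg.Agent.S5123.result against that frozen type. Keep the theorem IN THIS FILE
-- (a `result` declared elsewhere and merely imported here is not credited); helpers may live anywhere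
-- under Cfsg/Agent/.
import Cfsg.Statements.S5123
-- import your own Cfsg.Agent.* helpers here

set_option autoImplicit false
open Cfsg

namespace Cfsg.Agent.S5123

/-- Let G be a finite group with Sylow p-subgroup S, P, Q ≤ S and g ∈ G with gPg⁻¹ = Q, and suppose N_S(Q) is a Sylow p-subgroup of N_G(Q). Let N be the set of x ∈ N_S(P) with gxg⁻¹ ∈ N_S(Q)C_G(Q). Then some h ∈ C_G(Q) satisfies (hg)N(hg)⁻¹ ≤ S. -/
theorem result {G : Type*} [Group G] [Finite G] (p : ℕ) [Fact p.Prime] (S : Sylow p G) (P Q : Subgroup G) (hP : P ≤ S) (hQ : Q ≤ S) (g : G) (hg : P.map (MulAut.conj g).toMonoidHom = Q) (hN : (∃ R : Sylow p ↥(Subgroup.normalizer (Q : Set G)), (R : Subgroup ↥(Subgroup.normalizer (Q : Set G))) = (Cfsg.FusionSystem.normalizerIn (S : Subgroup G) Q).subgroupOf (Subgroup.normalizer (Q : Set G)))) : ∃ h ∈ Subgroup.centralizer (Q : Set G), ((Cfsg.FusionSystem.normalizerIn (S : Subgroup G) P) ⊓ (Cfsg.FusionSystem.normalizerIn (S : Subgroup G) Q ⊔ Subgroup.centralizer (Q : Set G)).comap (MulAut.conj g).toMonoidHom).map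 (MulAut.conj (h * g)).toMonoidHom ≤ S := by
  open CfsgLib.Fsys in
  have h' := (exists_sylow_iff normalizerIn_le_normalizer).1 hN
  have hp : IsPGroup p ↥(((Cfsg.FusionSystem.normalizerIn (S : Subgroup G) P) ⊓
      (Cfsg.FusionSystem.normalizerIn (S : Subgroup G) Q ⊔ Subgroup.centralizer (Q : Set G)).comap
        (MulAut.conj g).toMonoidHom).map (MulAut.conj g).toMonoidHom) :=
    ((isPGroup_normalizerIn S).to_le inf_le_left).map _
  obtain ⟨c, hc, hcB⟩ := exists_centralizer_conj_le S hQ h' hp
    (Subgroup.map_le_iff_le_comap.2 inf_le_right)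
  refine ⟨c, hc, ?_⟩
  rw [CfsgLib.LocalEven.SylowIn.map_conj_conj] at hcB
  exact hcB.trans normalizerIn_le

end Cfsg.Agent.S5123
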