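import Cfsg.Agent.Lib.FusionSystem.Generation
-- Template for statement S5124 (row 5124; see /opt/grader/pristine/manifest.json for weights).
-- Copy to Cfsg/Agent/S5124.lean and replace the sorry. The statement below is byte-identical to the frozen
-- statement Cfsg.CfsgFrozen.S5124 (Cfsg/Statements/S5124.lean; the theorem Cfsg.fus_hyperfocal_subgroup_strongly_closed);
-- the grader kernel-checks Cfsg.Agent.S5124.result against that frozen type. Keep the theorem IN THIS FILE
-- (a `result` declared elsewhere and merely imported here is not credited); helpers may live anywhere
-- under Cfsg/Agent/.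
import Cfsg.Statements.S5124
-- import your own Cfsg.Agent.* helpers here

set_option autoImplicit false
open Cfsg

namespace Cfsg.Agent.S5124

/-- In a saturated fusion system over a finite p-group S the hyperfocal subgroup is strongly closed in the system. -/
theorem result {Ω : Type*} [Group Ω] {S : Subgroup Ω} [Finite S] (p : ℕ) [Fact p.Prime] (hS : IsPGroup p S) (F : Cfsg.FusionSystem S) (hF : F.IsSaturated p) : F.StronglyClosed (F.hyperfocalSubgroup p) := CfsgLib.Fsys.hyperfocal_stronglyClosed hS hF

end Cfsg.Agent.S5124
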