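import Cfsg.Agent.Lib.FusionSystem.Factor
-- Template for statement S5128 (row 5128; see /opt/grader/pristine/manifest.json for weights).
-- Copy to Cfsg/Agent/S5128.lean and replace the sorry. The statement below is byte-identical to the frozen
-- statement Cfsg.CfsgFrozen.S5128 (Cfsg/Statements/S5128.lean; the theorem Cfsg.fus_product_of_strongly_closed_is_strongly_closed);
-- the grader kernel-checks Cfsg.Agent.S5128.result against that frozen type. Keep the theorem IN THIS FILE
-- (a `result` declared elsewhere and merely imported here is not credited); helpers may live anywhere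
-- under Cfsg/Agent/.
import Cfsg.Statements.S5128
-- import your own Cfsg.Agent.* helpers here

set_option autoImplicit false
open Cfsg

namespace Cfsg.Agent.S5128

/-- In a saturated fusion system over a finite p-group S, the product of two strongly closed subgroups is strongly closed. -/
theorem result {Ω : Type*} [Group Ω] {S : Subgroup Ω} [Finite S] (p : ℕ) [Fact p.Prime] (hS : IsPGroup p S) (F : Cfsg.FusionSystem S) (hF : F.IsSaturated p) (T₁ T₂ : Subgroup Ω) (h₁ : F.StronglyClosed T₁) (h₂ : F.StronglyClosed T₂) : F.StronglyClosed (T₁ ⊔ T₂) := CfsgLib.Fsys.stronglyClosed_sup hS hF h₁ h₂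

end Cfsg.Agent.S5128
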