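import Cfsg.Agent.Lib.FusionSystem.Factor
-- Template for statement S5131 (row 5131; see /opt/grader/pristine/manifest.json for weights).
-- Copy to Cfsg/Agent/S5131.lean and replace the sorry. The statement below is byte-identical to the frozen
-- statement Cfsg.CfsgFrozen.S5131 (Cfsg/Statements/S5131.lean; the theorem Cfsg.fus2_morphism_kernel_strongly_closed);
-- the grader kernel-checks Cfsg.Agent.S5131.result against that frozen type. Keep the theorem IN THIS FILE
-- (a `result` declared elsewhere and merely imported here is not credited); helpers may live anywhere
-- under Cfsg/Agent/.
import Cfsg.Statements.S5131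
-- import your own Cfsg.Agent.* helpers here

set_option autoImplicit false
open Cfsg

namespace Cfsg.Agent.S5131

/-- Let F be a fusion system over a finite p-group S and F' a fusion system over S'. If α : S → S' is a morphism of fusion systems from F to F' (every map of F induces along α a map of F'), then the kernel of α is strongly closed in S with respect to F. -/
theorem result {Ω : Type*} [Group Ω] {S : Subgroup Ω} [Finite S] (p : ℕ) [Fact p.Prime] (hS : IsPGroup p S) (F : Cfsg.FusionSystem S) {Ω' : Type*} [Group Ω'] {S' : Subgroup Ω'} (F' : Cfsg.FusionSystem S') (α : S →* Ω') (hα : F.IsMorphism F' α) : F.StronglyClosed ((α.ker).map S.subtype) := CfsgLib.Fsys.morphism_kernel_stronglyClosed hα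

end Cfsg.Agent.S5131
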