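import Cfsg.Agent.Lib.FusionSystem.Hyperfocal
-- Template for statement S5139 (row 5139; see /opt/grader/pristine/manifest.json for weights).
-- Copy to Cfsg/Agent/S5139.lean and replace the sorry. The statement below is byte-identical to the frozen
-- statement Cfsg.CfsgFrozen.S5139 (Cfsg/Statements/S5139.lean; the theorem Cfsg.fus2_group_p_residual_subsystem);
-- the grader kernel-checks Cfsg.Agent.S5139.result against that frozen type. Keep the theorem IN THIS FILE
-- (a `result` declared elsewhere and merely imported here is not credited); helpers may live anywhere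
-- under Cfsg/Agent/.
import Cfsg.Statements.S5139
-- import your own Cfsg.Agent.* helpers here

set_option autoImplicit false
open Cfsg

namespace Cfsg.Agent.S5139

/-- Let G be a finite group with Sylow p-subgroup S and O^p(G) the subgroup generated by the elements of order prime to p. Then the p-residual subsystem of the fusion system of G on S — the saturated subsystem of p-power index over the hyperfocal subgroup — is the fusion system of O^p(G) on S ∩ O^p(G): its maps are exactly the conjugation maps by elements of O^p(G) between subgroups of S ∩ O^p(G). -/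
theorem result {G : Type*} [Group G] [Finite G] (p : ℕ) [Fact p.Prime] (S : Sylow p G) (E : Cfsg.FusionSystem ((Cfsg.groupFusionSystem (S : Subgroup G)).hyperfocalSubgroup p)) (hE : (Cfsg.groupFusionSystem (S : Subgroup G)).IsPResidual p E) : ∃ h : (S : Subgroup G) ⊓ Cfsg.pResidual p G ≤ Cfsg.pResidual p G, ∀ P : Subgroup G, E.Hom P = (Cfsg.fusionSystemOfSubgroup (Cfsg.pResidual p G) ((S : Subgroup G) ⊓ Cfsg.pResidual p G) h).Hom P := by
  refine ⟨inf_le_right, fun P => ?_⟩
  have key : ∀ T' : Subgroup G, T' = (S : Subgroup G) ⊓ Cfsg.pResidual p G →
      ∀ D : Cfsg.FusionSystem T', D.IsSaturated p → D.HasPPowerIndexIn (Cfsg.groupFusionSystem (S : Subgroup G)) p →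
      D.Hom P = (Cfsg.fusionSystemOfSubgroup (Cfsg.pResidual p G) ((S : Subgroup G) ⊓ Cfsg.pResidual p G)
        inf_le_right).Hom P := by
    rintro _ rfl D hD hidx
    exact CfsgLib.Fsys.pResidual_system_eq hD hidx P
  exact key _ CfsgLib.Fsys.group_hyperfocal_eq E hE.1 hE.2

end Cfsg.Agent.S5139
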