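import Cfsg.Agent.Lib.FusionSystem.PPrimeResidual
-- Template for statement S5140 (row 5140; see /opt/grader/pristine/manifest.json for weights).
-- Copy to Cfsg/Agent/S5140.lean and replace the sorry. The statement below is byte-identical to the frozen
-- statement Cfsg.CfsgFrozen.S5140 (Cfsg/Statements/S5140.lean; the theorem Cfsg.fus2_p_prime_residual_exists);
-- the grader kernel-checks Cfsg.Agent.S5140.result against that frozen type. Keep the theorem IN THIS FILE
-- (a `result` declared elsewhere and merely imported here is not credited); helpers may live anywhere
-- under Cfsg/Agent/.
import Cfsg.Statements.S5140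
-- import your own Cfsg.Agent.* helpers here

set_option autoImplicit false
open Cfsg

namespace Cfsg.Agent.S5140

/-- Let F be a saturated fusion system over a finite p-group S. Then F has a p'-residual subsystem: a saturated subsystem over S of index prime to p contained in every saturated subsystem over S of index prime to p. -/
theorem result {Ω : Type*} [Group Ω] {S : Subgroup Ω} [Finite S] (p : ℕ) [Fact p.Prime] (hS : IsPGroup p S) (F : Cfsg.FusionSystem S) (hF : F.IsSaturated p) : ∃ E : Cfsg.FusionSystem S, F.IsPPrimeResidual p E := CfsgLib.Fsys.exists_pPrimeResidual hS hF

end Cfsg.Agent.S5140
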