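import Cfsg.Agent.Lib.FusionSystem.WeaklyNormalResidual
-- Template for statement S5141 (row 5141; see /opt/grader/pristine/manifest.json for weights).
-- Copy to Cfsg/Agent/S5141.lean and replace the sorry. The statement below is byte-identical to the frozen
-- statement Cfsg.CfsgFrozen.S5141 (Cfsg/Statements/S5141.lean; the theorem Cfsg.fus2_weakly_normal_p_prime_residual_normal);
-- the grader kernel-checks Cfsg.Agent.S5141.result against that frozen type. Keep the theorem IN THIS FILE
-- (a `result` declared elsewhere and merely imported here is not credited); helpers may live anywhere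
-- under Cfsg/Agent/.
import Cfsg.Statements.S5141
-- import your own Cfsg.Agent.* helpers here

set_option autoImplicit false
open Cfsg

namespace Cfsg.Agent.S5141

/-- Let F be a saturated fusion system over a finite p-group S and E a weakly normal subsystem of F over T. Then the p'-residual subsystem of E (the least saturated subsystem of E over T of index prime to p) is normal in F. -/
theorem result {Ω : Type*} [Group Ω] {S : Subgroup Ω} [Finite S] (p : ℕ) [Fact p.Prime] (hS : IsPGroup p S) (F : Cfsg.FusionSystem S) (hF : F.IsSaturated p) {T : Subgroup Ω} (E : Cfsg.FusionSystem T) (hE : E.IsWeaklyNormalIn F p) (D : Cfsg.FusionSystem T) (hD : E.IsPPrimeResidual p D) : D.IsNormalIn F p := CfsgLib.Fsys.WNR.residual_normal hS hE hD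

end Cfsg.Agent.S5141
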