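import Cfsg.Statements.S5143
import Cfsg.Agent.Lib.FusionSystem.EProd.Product

set_option autoImplicit false
open Cfsg

namespace Cfsg.Agent.S5143

/-- Let F be a saturated fusion system over a finite p-group S, E a normal subsystem over T, and R a subgroup with T ≤ R ≤ S. Then there is exactly one saturated subsystem D of F over R (exactly one family of map sets) whose p-residual subsystem is that of E: the hyperfocal subgroups of D and E coincide and the p-residual subsystems of D and of E have the same maps. -/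
theorem result {Ω : Type*} [Group Ω] {S : Subgroup Ω} [Finite S] (p : ℕ) [Fact p.Prime] (hS : IsPGroup p S) (F : Cfsg.FusionSystem S) (hF : F.IsSaturated p) {T : Subgroup Ω} (E : Cfsg.FusionSystem T) (hE : E.IsNormalIn F p) (R : Subgroup Ω) (hTR : T ≤ R) (hRS : R ≤ S) : ∃ D : Cfsg.FusionSystem R, (D.IsSaturated p ∧ D.IsSubsystemOf F ∧ D.hyperfocalSubgroup p = E.hyperfocalSubgroup p ∧ ∀ (D₁ : Cfsg.FusionSystem (D.hyperfocalSubgroup p)) (E₁ : Cfsg.FusionSystem (E.hyperfocalSubgroup p)), D.IsPResidual p D₁ → E.IsPResidual p E₁ → ∀ P : Subgroup Ω, D₁.Hom P = E₁.Hom P) ∧ ∀ D' : Cfsg.FusionSystem R, D'.IsSaturated p → D'.IsSubsystemOf F → D'.hyperfocalSubgroup p = E.hyperfocalSubgroup p → (∀ (D₁ : Cfsg.FusionSystem (D'.hyperfocalSubgroup p)) (E₁ : Cfsg.FusionSystem (E.hyperfocalSubgroup p)), D'.IsPResidual p D₁ → E.IsPResidual p E₁ → ∀ P : Subgroup Ω, D₁.Hom P = E₁.Hom P) → ∀ P : Subgroup Ω, D'.Hom P = D.Hom P := by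
  haveI : Finite R := CfsgLib.Fsys.finite_of_le_base hRS
  have dt : CfsgLib.Fsys.EProd.Data F E p := ⟨hS, hE⟩
  exact ⟨CfsgLib.Fsys.EProd.gsys F E p hRS,
    ⟨CfsgLib.Fsys.EProd.gsys_saturated dt hTR hRS, CfsgLib.Fsys.EProd.gsys_sub,
      CfsgLib.Fsys.EProd.gsys_hyperfocal dt hTR hRS,
      fun D₁ E₁ hD hE₁ P => CfsgLib.Fsys.EProd.residual_eq dt hTR hRS hD hE₁ P⟩,
    fun D' a b c d P => CfsgLib.Fsys.EProd.unique dt hTR hRS a b c d P⟩

end Cfsg.Agent.S5143
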