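import Cfsg.Agent.Lib.FusionSystem.Normal
-- Template for statement S5145 (row 5145; see /opt/grader/pristine/manifest.json for weights).
-- Copy to Cfsg/Agent/S5145.lean and replace the sorry. The statement below is byte-identical to the frozen
-- statement Cfsg.CfsgFrozen.S5145 (Cfsg/Statements/S5145.lean; the theorem Cfsg.fus2_core_is_normal);
-- the grader kernel-checks Cfsg.Agent.S5145.result against that frozen type. Keep the theorem IN THIS FILE
-- (a `result` declared elsewhere and merely imported here is not credited); helpers may live anywhere
-- under Cfsg/Agent/.
import Cfsg.Statements.S5145
-- import your own Cfsg.Agent.* helpers here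

set_option autoImplicit false
open Cfsg

namespace Cfsg.Agent.S5145

/-- For a fusion system over a finite subgroup S, the join of all subgroups normal in the system is itself normal in the system, hence its largest normal subgroup. -/
theorem result {Ω : Type*} [Group Ω] {S : Subgroup Ω} [Finite S] (F : Cfsg.FusionSystem S) : F.IsNormal F.core := CfsgLib.Fsys.core_normal

end Cfsg.Agent.S5145
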