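import Cfsg.Agent.Lib.FusionSystem.GroupConstrained
-- Template for statement S5147 (row 5147; see /opt/grader/pristine/manifest.json for weights).
-- Copy to Cfsg/Agent/S5147.lean and replace the sorry. The statement below is byte-identical to the frozen
-- statement Cfsg.CfsgFrozen.S5147 (Cfsg/Statements/S5147.lean; the theorem Cfsg.fus2_group_component_central_quotient_two_fusion_constrained);
-- the grader kernel-checks Cfsg.Agent.S5147.result against that frozen type. Keep the theorem IN THIS FILE
-- (a `result` declared elsewhere and merely imported here is not credited); helpers may live anywhere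
-- under Cfsg/Agent/.
import Cfsg.Statements.S5147
-- import your own Cfsg.Agent.* helpers here

set_option autoImplicit false
open Cfsg

namespace Cfsg.Agent.S5147

/-- Let G be a finite group with Sylow 2-subgroup S whose 2-fusion system on S is constrained, and L a component of G (a subnormal quasisimple subgroup). Then the 2-fusion system of L/Z(L) on the image of S ∩ L is constrained. -/
theorem result {G : Type*} [Group G] [Finite G] (S : Sylow 2 G) (hF : (Cfsg.groupFusionSystem (S : Subgroup G)).IsConstrained 2) (L : Subgroup G) (hL : Cfsg.IsComponent L) : (Cfsg.groupFusionSystem (((S : Subgroup G).subgroupOf L).map (QuotientGroup.mk' (Subgroup.center L)))).IsConstrained 2 := by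
  obtain ⟨hT, hc⟩ := CfsgLib.Fsys.subnormal_constrained S hF hL.1
  have hc' := CfsgLib.Fsys.constrained_subgroupOf hT hc
  obtain ⟨R, hR⟩ := (CfsgLib.Fsys.exists_sylow_iff hT.1).2 hT
  rw [Subgroup.inf_subgroupOf_right] at hR
  rw [← hR] at hc' ⊢
  exact CfsgLib.Fsys.quotient_constrained R hc' _ le_rfl

end Cfsg.Agent.S5147
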