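import Cfsg.Agent.Lib.FusionSystem.Models
-- Template for statement S5148 (row 5148; see /opt/grader/pristine/manifest.json for weights).
-- Copy to Cfsg/Agent/S5148.lean and replace the sorry. The statement below is byte-identical to the frozen
-- statement Cfsg.CfsgFrozen.S5148 (Cfsg/Statements/S5148.lean; the theorem Cfsg.fus2_quasisimple_over_nonabelian);
-- the grader kernel-checks Cfsg.Agent.S5148.result against that frozen type. Keep the theorem IN THIS FILE
-- (a `result` declared elsewhere and merely imported here is not credited); helpers may live anywhere
-- under Cfsg/Agent/.
import Cfsg.Statements.S5148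
-- import your own Cfsg.Agent.* helpers here

set_option autoImplicit false
open Cfsg

namespace Cfsg.Agent.S5148

/-- A quasisimple fusion system over a finite p-group S (saturated, equal to its p-residual subsystem, with simple — in particular nontrivial — factor system modulo its centre) has S nonabelian. -/
theorem result {Ω : Type*} [Group Ω] {S : Subgroup Ω} [Finite S] (p : ℕ) [Fact p.Prime] (hS : IsPGroup p S) (F : Cfsg.FusionSystem S) (hq : F.Quasisimple p) : ¬ IsMulCommutative S := CfsgLib.Fsys.quasisimple_nonabelian hS hq

end Cfsg.Agent.S5148
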