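import Cfsg.Agent.Lib.FusionSystem.Invariant
-- Template for statement S5153 (row 5153; see /opt/grader/pristine/manifest.json for weights).
-- Copy to Cfsg/Agent/S5153.lean and replace the sorry. The statement below is byte-identical to the frozen
-- statement Cfsg.CfsgFrozen.S5153 (Cfsg/Statements/S5153.lean; the theorem Cfsg.fus2_fully_normalized_in_subnormal_subsystem);
-- the grader kernel-checks Cfsg.Agent.S5153.result against that frozen type. Keep the theorem IN THIS FILE
-- (a `result` declared elsewhere and merely imported here is not credited); helpers may live anywhere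
-- under Cfsg/Agent/.
import Cfsg.Statements.S5153
-- import your own Cfsg.Agent.* helpers here

set_option autoImplicit false
open Cfsg

namespace Cfsg.Agent.S5153

/-- Let F be a saturated fusion system over a finite p-group S and E a subnormal subsystem of F over T. Then every subgroup of T that is fully normalized in F is fully normalized in E. -/
theorem result {Ω : Type*} [Group Ω] {S : Subgroup Ω} [Finite S] (p : ℕ) [Fact p.Prime] (hS : IsPGroup p S) (F : Cfsg.FusionSystem S) (hF : F.IsSaturated p) {T : Subgroup Ω} (E : Cfsg.FusionSystem T) (hE : E.IsSubnormalIn F p) (P : Subgroup Ω) (hPT : P ≤ T) (hP : F.IsFullyNormalized P) : E.IsFullyNormalized P := by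
  open CfsgLib.Fsys in
  suffices key : ∀ {T S : Subgroup Ω} {E : Cfsg.FusionSystem T} {F : Cfsg.FusionSystem S} {p : ℕ},
      E.IsSubnormalIn F p → T ≤ S ∧ (Finite S → p.Prime → IsPGroup p S → F.IsSaturated p →
        ∀ P : Subgroup Ω, P ≤ T → F.IsFullyNormalized P → E.IsFullyNormalized P) from
    (key hE).2 inferInstance (Fact.out : p.Prime) hS hF P hPT hP
  intro T S E F p h
  induction h with
  | refl => exact ⟨le_rfl, fun _ _ _ _ P _ hP => hP⟩
  | @step U S' E' D F' p' hED hDF ih =>
    obtain ⟨⟨hD, -, hinv⟩, -⟩ := hDF
    refine ⟨ih.1.trans hinv.2.1.1, fun _ hp hS' hF' P hP hPn => ?_⟩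
    have : Fact p'.Prime := ⟨hp⟩
    exact ih.2 (finite_of_le_base hinv.2.1.1) hp (hS'.to_le hinv.2.1.1) hD P hP
      (fullyNormalized_sub hS' hF' hinv.2.1 hinv.1 (hP.trans ih.1) hPn)

end Cfsg.Agent.S5153
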