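import Cfsg.Agent.Lib.FusionSystem.ComponentTransport
-- Template for statement S5154 (row 5154; see /opt/grader/pristine/manifest.json for weights).
-- Copy to Cfsg/Agent/S5154.lean and replace the sorry. The statement below is byte-identical to the frozen
-- statement Cfsg.CfsgFrozen.S5154 (Cfsg/Statements/S5154.lean; the theorem Cfsg.fus2_conjugate_of_component);
-- the grader kernel-checks Cfsg.Agent.S5154.result against that frozen type. Keep the theorem IN THIS FILE
-- (a `result` declared elsewhere and merely imported here is not credited); helpers may live anywhere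
-- under Cfsg/Agent/.
import Cfsg.Statements.S5154
-- import your own Cfsg.Agent.* helpers here

set_option autoImplicit false
open Cfsg

namespace Cfsg.Agent.S5154

/-- Let F be a saturated fusion system over a finite p-group S, C a component of F over T, and γ a map of F with source T. Then the image of C under γ — the fusion system over γ(T) whose maps are the homomorphisms induced along γ by the maps of C — is again a component of F. -/
theorem result {Ω : Type*} [Group Ω] {S : Subgroup Ω} [Finite S] (p : ℕ) [Fact p.Prime] (hS : IsPGroup p S) (F : Cfsg.FusionSystem S) (hF : F.IsSaturated p) {T : Subgroup Ω} (C : Cfsg.FusionSystem T) (hC : C.IsComponentIn F p) (γ : T →* Ω) (hγ : γ ∈ F.Hom T) (E : Cfsg.FusionSystem γ.range) (hE : C.IsFactorSystem ⊥ γ E) : E.IsComponentIn F p := by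
  obtain ⟨C', k, t, hC'⟩ := CfsgLib.Fsys.Tr.component_conj hS hC (CfsgLib.Fsys.fn_ofHom hγ)
  have hker : ∀ x : T, γ x = CfsgLib.Fsys.ofHom γ x := fun x => (CfsgLib.Fsys.ofHom_coe γ x).symm
  have hk : ∀ x : T, k (γ x) = (x : Ω) := fun x => by rw [hker]; exact t.left x x.2
  have t' := CfsgLib.Fsys.Tr.transport_of_factor (h := CfsgLib.Fsys.ofHom γ) (k := k) hE
    (fun x => (hker x).symm) hk
  have e : CfsgLib.Fsys.Tr.himg (CfsgLib.Fsys.ofHom γ) T = γ.range := t'.himg_base
  revert C'
  rw [e]
  intro C' t hC'
  rwa [← CfsgLib.Fsys.Tr.transport_unique t t']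

end Cfsg.Agent.S5154
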