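import Cfsg.Agent.Lib.FusionSystem.CentralizerNormal
-- Template for statement S5155 (row 5155; see /opt/grader/pristine/manifest.json for weights).
-- Copy to Cfsg/Agent/S5155.lean and replace the sorry. The statement below is byte-identical to the frozen
-- statement Cfsg.CfsgFrozen.S5155 (Cfsg/Statements/S5155.lean; the theorem Cfsg.fus2_centralizer_of_normal_subsystem_exists);
-- the grader kernel-checks Cfsg.Agent.S5155.result against that frozen type. Keep the theorem IN THIS FILE
-- (a `result` declared elsewhere and merely imported here is not credited); helpers may live anywhere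
-- under Cfsg/Agent/.
import Cfsg.Statements.S5155
-- import your own Cfsg.Agent.* helpers here

set_option autoImplicit false
open Cfsg

namespace Cfsg.Agent.S5155

/-- Let F be a saturated fusion system over a finite p-group S, E a normal subsystem over T, and Y the largest subgroup of C_S(T) such that E is a subsystem of the centralizer system of Y (every map of E extends to a map of F fixing Y elementwise). Then there is a normal subsystem of F over Y that is a subsystem of the centralizer system of T. -/
theorem result {Ω : Type*} [Group Ω] {S : Subgroup Ω} [Finite S] (p : ℕ) [Fact p.Prime] (hS : IsPGroup p S) (F : Cfsg.FusionSystem S) (hF : F.IsSaturated p) {T : Subgroup Ω} (E : Cfsg.FusionSystem T) (hE : E.IsNormalIn F p) (Y : Subgroup Ω) (hY : Y ≤ Cfsg.FusionSystem.centralizerIn S T) (hEY : ∀ P : Subgroup Ω, E.Hom P ⊆ F.centralizerHom Y P) (hmax : ∀ Y' : Subgroup Ω, Y' ≤ Cfsg.FusionSystem.centralizerIn S T → (∀ P : Subgroup Ω, E.Hom P ⊆ F.centralizerHom Y' P) → Y' ≤ Y) : ∃ D : Cfsg.FusionSystem Y, D.IsNormalIn F p ∧ ∀ P : Subgroup Ω, D.Hom P ⊆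 F.centralizerHom T P := by
  obtain ⟨D, hD, hDT⟩ := CfsgLib.Fsys.Red.exists_centralizer_normal hS hE
  have e : CfsgLib.Fsys.WNR.fixedSubgroup p F E = Y :=
    le_antisymm (hmax _ (CfsgLib.Fsys.WNR.fixedSubgroup_le p)
        (CfsgLib.Fsys.WNR.centralized_fixedSubgroup hS hE))
      (CfsgLib.Fsys.WNR.le_fixedSubgroup hS hE.1.2.1 hE.1.2.2 hY hEY)
  subst e
  exact ⟨D, hD, hDT⟩

end Cfsg.Agent.S5155
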