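import Cfsg.Agent.Lib.FusionSystem.TerminatingSeries
-- Template for statement S5156 (row 5156; see /opt/grader/pristine/manifest.json for weights).
-- Copy to Cfsg/Agent/S5156.lean and replace the sorry. The statement below is byte-identical to the frozen
-- statement Cfsg.CfsgFrozen.S5156 (Cfsg/Statements/S5156.lean; the theorem Cfsg.fus2_terminating_residual_series_iff_constrained_with_p_solvable_model);
-- the grader kernel-checks Cfsg.Agent.S5156.result against that frozen type. Keep the theorem IN THIS FILE
-- (a `result` declared elsewhere and merely imported here is not credited); helpers may live anywhere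
-- under Cfsg/Agent/.
import Cfsg.Statements.S5156
-- import your own Cfsg.Agent.* helpers here

set_option autoImplicit false
universe u
open Cfsg

namespace Cfsg.Agent.S5156

/-- A saturated fusion system over a finite p-group has a terminating alternating chain of p'-residual and p-residual subsystems (the chain reaches the trivial system — the notion of solvability adapted to fusion systems of p-solvable groups) if and only if it is constrained and its models are p-solvable (a model is a finite group realizing the system on a Sylow p-subgroup with self-centralizing largest normal p-subgroup; it exists and is unique up to isomorphism for constrained systems). -/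
theorem result {Ω : Type u} [Group Ω] {S : Subgroup Ω} [Finite S] (p : ℕ) [Fact p.Prime] (hS : IsPGroup p S) (F : Cfsg.FusionSystem S) (hF : F.IsSaturated p) : F.HasTerminatingResidualSeries p ↔ (F.IsConstrained p ∧ ∀ (G : Type u) [Group G] (ι : S →* G), F.IsModel p G ι → Cfsg.IsPSolvable p G) := by
  constructor
  · intro h
    obtain ⟨hc, hs⟩ := CfsgLib.Fsys.Red.constrained_of_terminating h inferInstance hS hF
    exact ⟨hc, fun G _ ι hG => CfsgLib.Fsys.Red.model_psolvable hG hs⟩
  · rintro ⟨hc, hmod⟩
    obtain ⟨G, hGgrp, ι, hG⟩ := CfsgLib.Fsys.exists_model hS hc
    haveI := hG.1
    exact CfsgLib.Fsys.Red.terminating_of_constrained _ rfl hS hc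
      (CfsgLib.Fsys.Red.solvAut_of_realized hG.2.1 (hmod G ι hG))

end Cfsg.Agent.S5156
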