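import Cfsg.Agent.Lib.FusionSystem.Inner
-- Template for statement S5158 (row 5158; see /opt/grader/pristine/manifest.json for weights).
-- Copy to Cfsg/Agent/S5158.lean and replace the sorry. The statement below is byte-identical to the frozen
-- statement Cfsg.CfsgFrozen.S5158 (Cfsg/Statements/S5158.lean; the theorem Cfsg.fus2_solvable_is_constrained);
-- the grader kernel-checks Cfsg.Agent.S5158.result against that frozen type. Keep the theorem IN THIS FILE
-- (a `result` declared elsewhere and merely imported here is not credited); helpers may live anywhere
-- under Cfsg/Agent/.
import Cfsg.Statements.S5158
-- import your own Cfsg.Agent.* helpers here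

set_option autoImplicit false
open Cfsg

namespace Cfsg.Agent.S5158

/-- A solvable saturated fusion system over a finite p-group (solvable: for every subgroup R other than S that is strongly closed in F, the factor system of F modulo R has a nontrivial subgroup normal in it) is constrained. -/
theorem result {Ω : Type*} [Group Ω] {S : Subgroup Ω} [Finite S] (p : ℕ) [Fact p.Prime] (hS : IsPGroup p S) (F : Cfsg.FusionSystem S) (hF : F.IsSaturated p) (h : F.IsSolvableSystem) : F.IsConstrained p := CfsgLib.Fsys.solvable_constrained hS hF h

end Cfsg.Agent.S5158
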