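import Cfsg.Agent.Lib.FusionSystem.Invariant
import Cfsg.Agent.Lib.FusionSystem.Group
-- Template for statement S5160 (row 5160; see /opt/grader/pristine/manifest.json for weights).
-- Copy to Cfsg/Agent/S5160.lean and replace the sorry. The statement below is byte-identical to the frozen
-- statement Cfsg.CfsgFrozen.S5160 (Cfsg/Statements/S5160.lean; the theorem Cfsg.fus2_group_fusion_simple_criterion);
-- the grader kernel-checks Cfsg.Agent.S5160.result against that frozen type. Keep the theorem IN THIS FILE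
-- (a `result` declared elsewhere and merely imported here is not credited); helpers may live anywhere
-- under Cfsg/Agent/.
import Cfsg.Statements.S5160
-- import your own Cfsg.Agent.* helpers here

set_option autoImplicit false
open Cfsg

namespace Cfsg.Agent.S5160

/-- Let G be a finite group with nontrivial Sylow p-subgroup S and F its fusion system on S. Suppose (a) no nontrivial proper subgroup of S is strongly closed in F, and (b) the automorphisms of S induced by G are generated by those induced, for R running over the fully normalized radical centric subgroups of F, by the subgroup of N_G(R) generated by its elements of p-power order. Then F is simple. -/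
theorem result {G : Type*} [Group G] [Finite G] (p : ℕ) [Fact p.Prime] (S : Sylow p G) (hS1 : (S : Subgroup G) ≠ ⊥) (ha : ∀ T : Subgroup G, (Cfsg.groupFusionSystem (S : Subgroup G)).StronglyClosed T → T = ⊥ ∨ T = (S : Subgroup G)) (hb : Cfsg.autInducedBy ⊤ (S : Subgroup G) = ⨆ (R : Subgroup G) (_ : (Cfsg.groupFusionSystem (S : Subgroup G)).IsFullyNormalized R ∧ (Cfsg.groupFusionSystem (S : Subgroup G)).IsRadical p R ∧ (Cfsg.groupFusionSystem (S : Subgroup G)).IsCentric R), Cfsg.autInducedBy (Subgroup.closure {g : G | g ∈ Subgroup.normalizer (R : Set G) ∧ ∃ k : ℕ, orderOf g = p ^ k}) (S : Subgroup G)) : (Cfsg.groupFusionSystem (S : Subgroup G)).IsSimple p := by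
  open CfsgLib.Fsys in
  have hF := group_isSaturated S
  refine ⟨hF, hS1, fun T E hE => ?_⟩
  obtain ⟨⟨hEsat, -, hinv⟩, -⟩ := hE
  refine (ha T hinv.2.1).imp id fun hT => ⟨hT, fun P => ?_⟩
  subst hT
  have hle : E ≤ Cfsg.groupFusionSystem (S : Subgroup G) := hinv.1
  have hgen : ∀ R : Subgroup G, (Cfsg.groupFusionSystem (S : Subgroup G)).IsFullyNormalized R →
      (Cfsg.groupFusionSystem (S : Subgroup G)).IsCentric R →
      Cfsg.autInducedBy (Subgroup.closure {g : G | g ∈ Subgroup.normalizer (R : Set G) ∧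
        ∃ k : ℕ, orderOf g = p ^ k}) (S : Subgroup G) ≤ E.autGroup (S : Subgroup G) := by
    intro R hR hc
    have hRS : R ≤ (S : Subgroup G) := hR.1
    obtain ⟨hA, -⟩ := fullyNormalized_good S.2 hF hR
    have key : ∀ g ∈ Subgroup.closure {g : G | g ∈ Subgroup.normalizer (R : Set G) ∧
        ∃ k : ℕ, orderOf g = p ^ k},
        ∃ hg : g ∈ Subgroup.normalizer (R : Set G), conjAut R hg ∈ E.autGroup R := by
      intro g hg
      have hle : Subgroup.closure {g : G | g ∈ Subgroup.normalizer (R : Set G) ∧
          ∃ k : ℕ, orderOf g = p ^ k} ≤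
          ((E.autGroup R).comap R.normalizerMonoidHom).map (Subgroup.subtype _) := by
        refine (Subgroup.closure_le _).2 fun x hx => ?_
        obtain ⟨hxN, k, hk⟩ := hx
        refine ⟨⟨x, hxN⟩, ?_, rfl⟩
        show conjAut R hxN ∈ E.autGroup R
        have hmemF : conjAut R hxN ∈ (Cfsg.groupFusionSystem (S : Subgroup G)).autGroup R :=
          (group_autGroup hRS).ge (conjAut_mem_autInducedBy hxN trivial)
        have hpow : conjAut R hxN ^ p ^ k = 1 := by
          rw [conjAut, ← map_pow, show (⟨x, hxN⟩ : Subgroup.normalizer (R : Set G)) ^ p ^ k = 1 from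
            Subtype.ext (by simp [← hk, pow_orderOf_eq_one]), map_one]
        have hTp : IsPGroup p (Subgroup.zpowers (conjAut R hxN)) := by
          rintro ⟨β, hβ⟩
          obtain ⟨m, rfl⟩ := Subgroup.mem_zpowers_iff.1 hβ
          refine ⟨k, Subtype.ext ?_⟩
          show ((conjAut R hxN) ^ m) ^ p ^ k = 1
          rw [← zpow_natCast, ← zpow_mul, mul_comm, zpow_mul, zpow_natCast, hpow, one_zpow]
        obtain ⟨γ, hγ, hγT⟩ := exists_conj_into S.2 hA (Subgroup.zpowers_le.2 hmemF) hTp
        have h1 := autInducedBy_le_autGroup (F := E) hRS (hγT _ (Subgroup.mem_zpowers _))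
        have h2 := Invariant.conj_mem hinv hRS (Subgroup.inv_mem _ hγ) h1
        simpa [mul_assoc] using h2
      obtain ⟨⟨x, hxN⟩, hx, rfl⟩ := hle hg
      exact ⟨hxN, hx⟩
    intro α hα
    obtain ⟨g, hg, hgα⟩ := mem_autInducedBy.1 hα
    obtain ⟨hgN, hgE⟩ := key g hg
    have hfun : Fn (Cfsg.groupFusionSystem (S : Subgroup G)) (S : Subgroup G) (fun x => g * x * g⁻¹) :=
      fn_group_conj le_rfl g fun x hx => hgα ⟨x, hx⟩ ▸ (α ⟨x, hx⟩).2
    have hres : Fn E R (fun x => g * x * g⁻¹) :=
      ((mem_autGroup_iff_fn hRS).1 hgE).congr fun x hx => (autFn_coe _ ⟨x, hx⟩).trans (conjAut_coe hgN ⟨x, hx⟩)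
    exact (mem_autGroup le_rfl).2 (mem_hom_of_fn (fn_of_restrict S.2 hF hle hEsat hc hRS hfun hres) hgα)
  refine Set.Subset.antisymm (hinv.1 P) fun φ hφ => ?_
  obtain ⟨α, hα, u, hu, he⟩ := Invariant.frattini hinv hφ.1 (fn_ofHom hφ)
  have hαE : α ∈ E.autGroup (S : Subgroup G) := by
    rw [group_autGroup le_rfl, hb] at hα
    exact (iSup₂_le fun R hR => hgen R hR.1 hR.2.2) hα
  refine mem_hom_iff.2 ((hu.comp ((mem_autGroup_iff_fn le_rfl).1 hαE) fun x hx => hu.mem hx).congr ?_)
  exact fun x hx => (he x hx).symm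

end Cfsg.Agent.S5160
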