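import Cfsg.Statements.S5163
import Cfsg.Agent.Lib.PGroup.FusionPSL

set_option autoImplicit false
open Cfsg

namespace Cfsg.Agent.S5163

open CfsgLib.PGroup

/-- For a finite field K of characteristic p and n ≥ 3, the p-fusion system of the projective special linear group PSL_n(K) on a Sylow p-subgroup is simple. -/
theorem result {K : Type*} [Field K] [Fintype K] (p : ℕ) [Fact p.Prime] [CharP K p] (n : ℕ) (hn : 3 ≤ n) (S : Sylow p (Matrix.ProjectiveSpecialLinearGroup (Fin n) K)) : (Cfsg.groupFusionSystem (S : Subgroup (Matrix.ProjectiveSpecialLinearGroup (Fin n) K))).IsSimple p := by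
  let π₀ : Matrix.SpecialLinearGroup (Fin n) K →* Matrix.ProjectiveSpecialLinearGroup (Fin n) K :=
    QuotientGroup.mk' (Subgroup.center _)
  have hπ₀ : Function.Surjective π₀ := QuotientGroup.mk'_surjective _
  obtain ⟨P, hP⟩ := FusionPSL.exists_sylow (F := K) (n := n) (p := p) hπ₀
  obtain ⟨g, hg⟩ := MulAction.exists_smul_eq (Matrix.ProjectiveSpecialLinearGroup (Fin n) K) P S
  let π := (MulAut.conj g).toMonoidHom.comp π₀
  refine FusionPSL.isSimple (π := π) hn ((MulAut.conj g).surjective.comp hπ₀) ?_ S ?_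
  · ext x
    have : π x = 1 ↔ π₀ x = 1 := MulEquiv.map_eq_one_iff (MulAut.conj g)
    rw [MonoidHom.mem_ker, this]
    exact QuotientGroup.eq_one_iff x
  · rw [← hg, ← Subgroup.map_map, ← hP]
    rfl

end Cfsg.Agent.S5163
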