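import Cfsg.Statements.S5164
import Mathlib
-- import your own Cfsg.Agent.* helpers here

set_option autoImplicit false
open Cfsg

namespace Cfsg.Agent.S5164

theorem comm_of_small {X : Type*} [Finite X] {p : ℕ} [hp : Fact p.Prime] {P : Subgroup (Equiv.Perm X)}
    (hP : IsPGroup p P) (hX : Nat.card X < p ^ 2) (a b : P) : a * b = b * a := by
  refine Subtype.ext (Equiv.ext fun x => ?_)
  let O := MulAction.orbit P x
  obtain ⟨k, hk⟩ := hP.card_orbit x
  replace hk : Nat.card O = p ^ k := hk
  have hk1 : k ≤ 1 := by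
    by_contra h
    have h1 : p ^ 2 ≤ p ^ k := Nat.pow_le_pow_right hp.out.pos (by omega)
    have h2 : Nat.card O ≤ Nat.card X := Nat.card_le_card_of_injective _ Subtype.val_injective
    omega
  have hO : Nat.card O ≤ p := hk ▸ (pow_le_pow_right₀ hp.out.one_le hk1).trans (pow_one p).le
  let f := MulAction.toPermHom P O
  have hR : IsPGroup p f.range := (hP.of_equiv Subgroup.topEquiv.symm).map f |>.of_equiv
    (MulEquiv.subgroupCongr (MonoidHom.range_eq_map f).symm)
  obtain ⟨m, hm⟩ := IsPGroup.iff_card.1 hR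
  have hm1 : m ≤ 1 := by
    by_contra h
    have hd : p ^ 2 ∣ p.factorial := by
      refine ((pow_dvd_pow p (by omega : 2 ≤ m)).trans ?_).trans (Nat.factorial_dvd_factorial hO)
      rw [← hm, ← Nat.card_perm]
      exact Subgroup.card_subgroup_dvd_card _
    rw [← Nat.mul_factorial_pred hp.out.ne_zero, pow_two] at hd
    exact absurd ((hp.out.dvd_factorial).1 (Nat.dvd_of_mul_dvd_mul_left hp.out.pos hd))
      (by have := hp.out.one_le; omega)
  have hcyc : IsCyclic f.range := by
    interval_cases m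
    · have : Subsingleton f.range := (Nat.card_eq_one_iff_unique.1 (by simpa using hm)).1
      infer_instance
    · exact isCyclic_of_prime_card (p := p) (by simpa using hm)
  have := (IsCyclic.isMulCommutative (α := f.range)).is_comm.comm ⟨f a, a, rfl⟩ ⟨f b, b, rfl⟩
  have h3 : f a * f b = f b * f a := congrArg Subtype.val this
  have h4 := congrArg (fun σ : Equiv.Perm O => ((σ ⟨x, MulAction.mem_orbit_self x⟩ : O) : X)) h3
  exact h4

section Wreath

variable (p : ℕ) [hp : Fact p.Prime]

/-- A Sylow subgroup of the symmetric group on `p²` points. -/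
def wreath : Subgroup (Equiv.Perm (ZMod p × ZMod p)) where
  carrier := {σ | ∃ (f : ZMod p → ZMod p) (c : ZMod p), ∀ x : ZMod p × ZMod p, σ x = (x.1 + f x.2, x.2 + c)}
  one_mem' := ⟨fun _ => 0, 0, fun x => by simp⟩
  mul_mem' := fun {σ τ} ⟨f, c, h⟩ ⟨g, d, k⟩ => ⟨fun j => g j + f (j + d), d + c, fun x => by
    rw [Equiv.Perm.mul_apply, k, h]
    simp [add_assoc]⟩
  inv_mem' := fun {σ} ⟨f, c, h⟩ => ⟨fun j => -f (j - c), -c, fun x => by
    rw [Equiv.Perm.inv_eq_iff_eq, h]
    simp [sub_eq_add_neg]⟩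

theorem wreath_pgroup : IsPGroup p (wreath p) := by
  have key : ∀ σ ∈ wreath p, (σ ^ p) ^ p = 1 := by
    rintro σ ⟨f, c, h⟩
    have hn : ∀ n : ℕ, ∃ g : ZMod p → ZMod p, ∀ x, (σ ^ n) x = (x.1 + g x.2, x.2 + n • c) := by
      intro n
      induction n with
      | zero => exact ⟨fun _ => 0, fun x => by simp⟩
      | succ n ih =>
        obtain ⟨g, hg⟩ := ih
        refine ⟨fun j => g j + f (j + n • c), fun x => ?_⟩
        rw [pow_succ', Equiv.Perm.mul_apply, hg, h]
        simp [add_assoc, succ_nsmul, add_mul]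
    obtain ⟨g, hg⟩ := hn p
    have hg' : ∀ x, (σ ^ p) x = (x.1 + g x.2, x.2) := fun x => by simpa using hg x
    have hm : ∀ (m : ℕ) x, ((σ ^ p) ^ m) x = (x.1 + m • g x.2, x.2) := by
      intro m
      induction m with
      | zero => simp
      | succ m ih =>
        intro x
        rw [pow_succ', Equiv.Perm.mul_apply, ih, hg']
        simp [add_assoc, succ_nsmul, add_mul]
    exact Equiv.ext fun x => by simpa using hm p x
  intro σ
  refine ⟨2, Subtype.ext ?_⟩
  rw [SubmonoidClass.coe_pow, pow_two, pow_mul]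
  exact key _ σ.2

theorem exists_noncomm : ∃ a b : wreath p, a * b ≠ b * a := by
  let a : Equiv.Perm (ZMod p × ZMod p) :=
    { toFun := fun x => (x.1 + if x.2 = 0 then 1 else 0, x.2)
      invFun := fun x => (x.1 - if x.2 = 0 then 1 else 0, x.2)
      left_inv := fun x => by simp
      right_inv := fun x => by simp }
  let b : Equiv.Perm (ZMod p × ZMod p) :=
    { toFun := fun x => (x.1, x.2 + 1)
      invFun := fun x => (x.1, x.2 - 1)
      left_inv := fun x => by simp
      right_inv := fun x => by simp }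
  refine ⟨⟨a, fun j => if j = 0 then 1 else 0, 0, fun x => by simp [a]⟩, ⟨b, fun _ => 0, 1, fun x => by simp [b]⟩, fun h => ?_⟩
  have := congrArg (fun s : wreath p => (s : Equiv.Perm (ZMod p × ZMod p)) (0, -1)) h
  simp [a, b] at this

end Wreath

theorem exists_noncomm_alt (n p : ℕ) [hp : Fact p.Prime] (hn : 6 ≤ n) (hnp : p ^ 2 ≤ n) :
    ∃ K : Subgroup (alternatingGroup (Fin n)), IsPGroup p K ∧ ∃ a b : K, a * b ≠ b * a := by
  classical
  -- a faithful even representation of the wreath product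
  obtain ⟨Φ, hinj, heven⟩ : ∃ Φ : wreath p →* Equiv.Perm (Fin n),
      Function.Injective Φ ∧ ∀ w, Equiv.Perm.sign (Φ w) = 1 := by
    by_cases h2 : p = 2
    · subst h2
      let e : Fin 2 ≃ Fin 2 := Equiv.refl _
      have hbij : Function.Bijective (Equiv.Perm.sign : Equiv.Perm (Fin 2) →* ℤˣ) := by decide
      let τ : ℤˣ →* Equiv.Perm (Fin 2) := (MulEquiv.ofBijective _ hbij).symm.toMonoidHom
      have hτ : ∀ u, Equiv.Perm.sign (τ u) = u := fun u => (MulEquiv.ofBijective _ hbij).apply_symm_apply u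
      obtain ⟨ι⟩ : Nonempty (((ZMod 2 × ZMod 2) ⊕ Fin 2) ↪ Fin n) :=
        Function.Embedding.nonempty_of_card_le (by simp; omega)
      let ψ : wreath 2 →* Equiv.Perm ((ZMod 2 × ZMod 2) ⊕ Fin 2) :=
        (Equiv.Perm.sumCongrHom _ _).comp
          ((wreath 2).subtype.prod (τ.comp (Equiv.Perm.sign.comp (wreath 2).subtype)))
      refine ⟨(Equiv.Perm.viaEmbeddingHom ι).comp ψ, (Equiv.Perm.viaEmbeddingHom_injective ι).comp ?_, fun w => ?_⟩
      · intro u v huv
        exact Subtype.ext (congrArg Prod.fst (Equiv.Perm.sumCongrHom_injective huv))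
      · show Equiv.Perm.sign (Equiv.Perm.viaEmbedding (ψ w) ι) = 1
        rw [Equiv.Perm.viaEmbedding, Equiv.Perm.sign_extendDomain]
        show Equiv.Perm.sign (Equiv.Perm.sumCongr _ _) = 1
        rw [Equiv.Perm.sign_sumCongr]
        simp only [MonoidHom.prod_apply, MonoidHom.coe_comp, Function.comp_apply, hτ, Subgroup.coe_subtype]
        exact Int.units_mul_self _
    · obtain ⟨ι⟩ : Nonempty ((ZMod p × ZMod p) ↪ Fin n) :=
        Function.Embedding.nonempty_of_card_le (by simpa [← pow_two] using hnp)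
      refine ⟨(Equiv.Perm.viaEmbeddingHom ι).comp (wreath p).subtype,
        (Equiv.Perm.viaEmbeddingHom_injective ι).comp Subtype.val_injective, fun w => ?_⟩
      obtain ⟨k, hk⟩ := wreath_pgroup p w
      have hodd : Odd (p ^ k) := (hp.out.odd_of_ne_two h2).pow
      have h := congrArg (fun v => Equiv.Perm.sign ((Equiv.Perm.viaEmbeddingHom ι).comp (wreath p).subtype v)) hk
      simp only [map_pow, map_one] at h
      rcases Int.units_eq_one_or (Equiv.Perm.sign ((Equiv.Perm.viaEmbeddingHom ι).comp (wreath p).subtype w))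
        with e | e
      · exact e
      · rw [e, hodd.neg_one_pow] at h
        exact absurd h (by decide)
  let Ψ : wreath p →* alternatingGroup (Fin n) := Φ.codRestrict _ fun w => Equiv.Perm.mem_alternatingGroup.2 (heven w)
  obtain ⟨a, b, hab⟩ := exists_noncomm p
  refine ⟨Ψ.range, fun x => ?_, ⟨Ψ a, a, rfl⟩, ⟨Ψ b, b, rfl⟩, fun h => hab (hinj ?_)⟩
  · obtain ⟨_, w, rfl⟩ := x
    obtain ⟨k, hk⟩ := wreath_pgroup p w
    exact ⟨k, Subtype.ext ((map_pow Ψ w _).symm.trans (by rw [hk, map_one]; rfl))⟩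
  · rw [map_mul, map_mul]
    exact congrArg (fun z => ((z : Ψ.range).1 : Equiv.Perm (Fin n))) h

/-- For n ≥ 6 and a prime p, a nontrivial Sylow p-subgroup of the alternating group of degree n is abelian if and only if n < p². -/
theorem result (n p : ℕ) (hn : 6 ≤ n) [Fact p.Prime] (S : Sylow p (alternatingGroup (Fin n))) (hS : (S : Subgroup (alternatingGroup (Fin n))) ≠ ⊥) : IsMulCommutative S ↔ n < p ^ 2 := by
  constructor
  · intro hS'
    by_contra hnp
    obtain ⟨K, hK, a, b, hab⟩ := exists_noncomm_alt n p hn (not_lt.1 hnp)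
    obtain ⟨W, hW⟩ := hK.exists_le_sylow
    obtain ⟨c, hc⟩ := MulAction.exists_smul_eq (alternatingGroup (Fin n)) W S
    have hmem : ∀ x : K, c * (x : alternatingGroup (Fin n)) * c⁻¹ ∈ (S : Subgroup (alternatingGroup (Fin n))) :=
      fun x => by
        rw [← hc, Sylow.coe_subgroup_smul, Subgroup.mem_smul_pointwise_iff_exists]
        exact ⟨_, hW x.2, rfl⟩
    have h := congrArg Subtype.val (hS'.is_comm.comm ⟨_, hmem a⟩ ⟨_, hmem b⟩)
    refine hab (Subtype.ext ((MulAut.conj c).injective ?_))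
    simpa only [map_mul, MulAut.conj_apply, Subgroup.coe_mul] using h
  · intro hnp
    refine IsMulCommutative.of_comm fun a b => ?_
    let f := (alternatingGroup (Fin n)).subtype
    have h := comm_of_small (P := (S : Subgroup (alternatingGroup (Fin n))).map f) (S.2.map f) (by simpa using hnp)
      ⟨_, _, a.2, rfl⟩ ⟨_, _, b.2, rfl⟩
    exact Subtype.ext ((alternatingGroup (Fin n)).subtype_injective (congrArg Subtype.val h))

end Cfsg.Agent.S5164
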