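import Cfsg.Statements.S5165
import Cfsg.Agent.Lib.Perm.AltFusionSimple
-- import your own Cfsg.Agent.* helpers here

set_option autoImplicit false
open Cfsg
open scoped Pointwise

namespace Cfsg.Agent.S5165

open CfsgLib.Perm.Monomial

/-- For n ≥ 6, a prime p with p² ≤ n, and n congruent to 0 or 1 modulo p, the p-fusion system of the alternating group of degree n on a Sylow p-subgroup is simple. -/
theorem result (n p : ℕ) (hn : 6 ≤ n) [Fact p.Prime] (hnp : p ^ 2 ≤ n) (hb : n % p ≤ 1) (S : Sylow p (alternatingGroup (Fin n))) : (Cfsg.groupFusionSystem (S : Subgroup (alternatingGroup (Fin n)))).IsSimple p := by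
  classical
  have hp := (Fact.out : p.Prime)
  have hmp : p ≤ n / p := (Nat.le_div_iff_mul_le hp.pos).2 (by rw [← sq]; exact hnp)
  have hm3 : 3 ≤ n / p := by
    rcases hp.eq_two_or_odd' with rfl | ho
    · omega
    · have := ho.pos; have h2 := hp.two_le; have : p ≠ 2 := fun e => by subst e; exact absurd ho (by decide)
      omega
  let κ := Fin (n / p / p)
  let τ := Fin (n / p % p)
  let ρ := Fin (n % p)
  haveI : Nonempty κ := Fin.pos_iff_nonempty.1 (Nat.div_pos hmp hp.pos)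
  have hι : Fintype.card (Pt p κ τ) = n / p := by
    rw [Fintype.card_sum, Fintype.card_prod, Fintype.card_fin, Fintype.card_fin, ZMod.card, mul_comm]
    exact Nat.div_add_mod _ _
  let e : Pt p (Pt p κ τ) ρ ≃ Fin n := Fintype.equivOfCardEq (by
    rw [Fintype.card_sum, Fintype.card_prod, hι, Fintype.card_fin, Fintype.card_fin, ZMod.card, mul_comm]
    exact Nat.div_add_mod _ _)
  have hτ : Fintype.card τ < p := by rw [Fintype.card_fin]; exact Nat.mod_lt _ hp.pos
  have hρ1 : Fintype.card ρ ≤ 1 := by rw [Fintype.card_fin]; exact hb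
  obtain ⟨Q₂⟩ : Nonempty (Sylow p (Equiv.Perm κ)) := inferInstance
  let π₀ : alternatingGroup (Pt p (Pt p κ τ) ρ) ≃* alternatingGroup (Fin n) :=
    ((Equiv.permCongrHom e).subgroupMap _).trans (MulEquiv.subgroupCongr (by
      ext x
      constructor
      · rintro ⟨y, hy, rfl⟩
        exact Equiv.Perm.mem_alternatingGroup.2 ((Equiv.Perm.sign_permCongr e y).trans
          (Equiv.Perm.mem_alternatingGroup.1 hy))
      · intro hx
        refine ⟨(Equiv.permCongrHom e).symm x, ?_, (Equiv.permCongrHom e).apply_symm_apply x⟩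
        exact Equiv.Perm.mem_alternatingGroup.2 ((Equiv.Perm.sign_permCongr e.symm x).trans
          (Equiv.Perm.mem_alternatingGroup.1 hx))))
  let P := (wrSylow (ρ := ρ) (lt_of_le_of_lt hρ1 hp.one_lt) (wrSylow hτ Q₂))
  obtain ⟨S₀, hS₀⟩ : ∃ S₀ : Sylow p (alternatingGroup (Pt p (Pt p κ τ) ρ)),
      (S₀ : Subgroup (alternatingGroup (Pt p (Pt p κ τ) ρ))) = (P : Subgroup _).subgroupOf _ := by
    have hp' : IsPGroup p ((P : Subgroup (Equiv.Perm (Pt p (Pt p κ τ) ρ))).subgroupOf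
        (alternatingGroup (Pt p (Pt p κ τ) ρ))) :=
      P.2.comap_of_injective _ Subtype.val_injective
    obtain ⟨T, hT⟩ := hp'.exists_le_sylow
    obtain ⟨R, hR⟩ := (T.2.map (alternatingGroup (Pt p (Pt p κ τ) ρ)).subtype).exists_le_sylow
    obtain ⟨u, hu⟩ := MulAction.exists_smul_eq (Equiv.Perm (Pt p (Pt p κ τ) ρ)) R P
    refine ⟨T, le_antisymm ?_ hT⟩
    let f : ↥(T : Subgroup (alternatingGroup (Pt p (Pt p κ τ) ρ))) →
        ((P : Subgroup (Equiv.Perm (Pt p (Pt p κ τ) ρ))).subgroupOf (alternatingGroup (Pt p (Pt p κ τ) ρ))) :=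
      fun t => ⟨⟨u * (t : Equiv.Perm (Pt p (Pt p κ τ) ρ)) * u⁻¹, by
        rw [Equiv.Perm.mem_alternatingGroup, sign_conj']
        exact Equiv.Perm.mem_alternatingGroup.1 (t : alternatingGroup (Pt p (Pt p κ τ) ρ)).2⟩, by
        rw [Subgroup.mem_subgroupOf, ← hu, Sylow.coe_subgroup_smul]
        exact ⟨_, hR ⟨t, t.2, rfl⟩, rfl⟩⟩
    have hf : Function.Injective f := fun a b h => by
      have h2 : u * (a : Equiv.Perm (Pt p (Pt p κ τ) ρ)) * u⁻¹ = u * (b : Equiv.Perm (Pt p (Pt p κ τ) ρ)) * u⁻¹ :=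
        congrArg (fun z => ((z.1 : alternatingGroup (Pt p (Pt p κ τ) ρ)) : Equiv.Perm (Pt p (Pt p κ τ) ρ))) h
      exact Subtype.ext (Subtype.ext (mul_left_cancel (mul_right_cancel h2)))
    exact (Subgroup.eq_of_le_of_card_ge hT (Nat.card_le_card_of_injective f hf)).ge
  let T₀ : Sylow p (alternatingGroup (Fin n)) := S₀.mapSurjective (f := π₀.toMonoidHom) π₀.surjective
  obtain ⟨g, hg⟩ := MulAction.exists_smul_eq (alternatingGroup (Fin n)) T₀ S
  refine CfsgLib.Perm.Monomial.isSimple (π₀.trans (MulAut.conj g)) hρ1 hτ (hι.symm ▸ hm3) Q₂ S ?_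
  rw [← hg, Sylow.coe_subgroup_smul]
  show Subgroup.map (MulAut.conj g).toMonoidHom ((S₀ : Subgroup _).map π₀.toMonoidHom) = _
  rw [hS₀, Subgroup.map_map]
  rfl

end Cfsg.Agent.S5165
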