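import Cfsg.Statements.S5167
import Cfsg.Agent.Lib.Sporadic.M12Sylow
import Cfsg.Agent.Lib.FusionSystem.ClosedByQuotient

set_option autoImplicit false
open Cfsg

namespace Cfsg.Agent.S5167

open CfsgLib.Fsys CfsgLib.Sporadic

/-- The 2-fusion system of the Mathieu group M₁₂ (as the explicit permutation group carved out of the automorphism group of the binary Golay code) on a Sylow 2-subgroup is simple: saturated, over a nontrivial 2-group, with no normal subsystem other than the trivial one and itself. -/
theorem result (S : Sylow 2 Cfsg.Spor.M12) : (Cfsg.groupFusionSystem (S : Subgroup Cfsg.Spor.M12)).IsSimple 2 := by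
  have : Fact (Nat.Prime 2) := ⟨Nat.prime_two⟩
  refine Cfsg.Agent.S5339.result 2 S.2 _ (group_isSaturated S) ?_ ?_ fun T hT => ?_
  · intro hb
    have h := S.card_eq_multiplicity
    rw [hb, Subgroup.card_bot, M12Sylow.card_M12, show (95040 : ℕ) = 2 ^ 6 * 1485 by norm_num,
      Nat.factorization_def _ Nat.prime_two, padicValNat.mul (by norm_num) (by norm_num), padicValNat.prime_pow,
      padicValNat.eq_zero_of_not_dvd (by norm_num)] at h
    norm_num at h
  · rw [group_autGroup le_rfl, autInducedBy_top]
    refine le_antisymm ?_ ?_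
    · rintro _ ⟨g, rfl⟩
      exact ⟨⟨(g : Cfsg.Spor.M12), M12Sylow.selfNorm S _ g.2⟩, by ext x; rfl⟩
    · rintro _ ⟨s, rfl⟩
      exact ⟨⟨(s : Cfsg.Spor.M12), Subgroup.le_normalizer s.2⟩, by ext x; rfl⟩
  · exact or_iff_not_imp_left.2 fun hne => le_antisymm hT.1
      (M12Sylow.closedTop S T hT.1 hne fun x hx g hg => ClosedByQuotient.closed_mem hT hx hg)

end Cfsg.Agent.S5167
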