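import Cfsg.Statements.S5170
import Cfsg.Agent.Lib.FusionSystem.ClosedByQuotient
import Cfsg.Agent.Lib.Sporadic.OctadFusion
import Cfsg.Agent.S2882

set_option autoImplicit false
open Cfsg

namespace Cfsg.Agent.S5170

open CfsgLib.SmallGroups.Golay CfsgLib.SmallGroups.GolayOctads CfsgLib.SmallGroups.M24Group
  CfsgLib.SmallGroups.Mathieu CfsgLib.SmallGroups.MathieuSets CfsgLib.Sporadic.OctadStabilizer
open CfsgLib.LocalEven CfsgLib.Sporadic
open scoped Pointwise

theorem exists_fixed (S : Sylow 2 Cfsg.M24) : ∃ o ∈ octads,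
    (S : Subgroup Cfsg.M24) ≤ (octStab o).subgroupOf Cfsg.M24 := by
  have : Fact (Nat.Prime 2) := ⟨Nat.prime_two⟩
  obtain ⟨o, ho⟩ : octads.Nonempty := Set.nonempty_of_ncard_ne_zero (by rw [ncard_octads]; norm_num)
  set H := (octStab o).subgroupOf Cfsg.M24
  have hidx : ¬ 2 ∣ H.index := by
    have h := H.card_mul_index
    rw [Nat.card_congr (Subgroup.subgroupOfEquivOfLe (show octStab o ≤ Cfsg.M24 from inf_le_left)).toEquiv,
      card_octStab ho, card_M24] at h
    omega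
  obtain ⟨q, hq⟩ := S.2.nonempty_fixed_point_of_prime_not_dvd_card (Cfsg.M24 ⧸ H) hidx
  obtain ⟨g, rfl⟩ := QuotientGroup.mk_surjective q
  refine ⟨(g : Equiv.Perm GolayPt) • o, smul_mem_weight g.2 ho, fun s hs => ⟨s.2, ?_⟩⟩
  have h := hq ⟨s, hs⟩
  change ((s * g : Cfsg.M24) : Cfsg.M24 ⧸ H) = (g : Cfsg.M24 ⧸ H) at h
  rw [QuotientGroup.eq] at h
  have h2 : ((((s * g)⁻¹ * g : Cfsg.M24)) : Equiv.Perm GolayPt) • o = o := h.2
  rw [Subgroup.coe_mul, Subgroup.coe_inv, mul_smul, inv_smul_eq_iff, Subgroup.coe_mul, mul_smul] at h2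
  exact h2.symm

/-- The 2-fusion system of the Mathieu group M₂₄ (as the explicit permutation group of the 24 points preserving the binary Golay code) on a Sylow 2-subgroup is simple: saturated, over a nontrivial 2-group, with no normal subsystem other than the trivial one and itself. -/
theorem result (S : Sylow 2 Cfsg.M24) : (Cfsg.groupFusionSystem (S : Subgroup Cfsg.M24)).IsSimple 2 := by
  obtain ⟨o, ho, hSH⟩ := exists_fixed S
  set H := (octStab o).subgroupOf Cfsg.M24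
  let e : H ≃* octStab o := Subgroup.subgroupOfEquivOfLe inf_le_left
  let f : H →* (res o).range := (res o).rangeRestrict.comp e.toMonoidHom
  have hker : ∀ x : H, x ∈ f.ker ↔ ((x : Cfsg.M24) : Equiv.Perm GolayPt) ∈ ptStab o := fun x => by
    rw [MonoidHom.mem_ker, MonoidHom.comp_apply, ← MonoidHom.mem_ker, MonoidHom.ker_rangeRestrict, ker_res,
      Subgroup.mem_subgroupOf]
    rfl
  have hsq : ∀ x : H, x ∈ f.ker → x * x = 1 := fun x hx =>
    Subtype.ext (Subtype.ext ((ptStab_octad ho).2 _ ((hker x).1 hx)))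
  have lift : ∀ {k}, k ∈ octStab o → ∃ x : H, ((x : Cfsg.M24) : Equiv.Perm GolayPt) = k := fun {k} hk =>
    ⟨⟨⟨k, hk.1⟩, hk⟩, rfl⟩
  obtain ⟨v, hv, hv1⟩ : ∃ v ∈ ptStab o, v ≠ 1 := by
    obtain ⟨v, hv⟩ := (Subgroup.ne_bot_iff_exists_ne_one (H := ptStab o)).1 fun h => by
      have := (ptStab_octad ho).1
      rw [h, Subgroup.card_bot] at this
      norm_num at this
    exact ⟨v, v.2, fun h => hv (Subtype.ext h)⟩
  obtain ⟨v', hv'⟩ := lift (ptStab_le o hv)
  refine CfsgLib.Fsys.ClosedByQuotient.isSimple S H f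
    ((res o).rangeRestrict_surjective.comp e.surjective) hSH
    (fun x => ⟨1, Subtype.ext (by rw [pow_one, pow_two]; exact hsq x x.2)⟩) ?_ ?_ ?_ ?_ ?_
    (Cfsg.Agent.S2882.result S)
  · intro h
    have : v' = 1 := Subgroup.mem_bot.1 (h ▸ (hker v').2 (hv' ▸ hv))
    exact hv1 (by rw [← hv', this]; rfl)
  · intro g hg
    refine (hker g).2 (OctadFusion.cent ho g.2 fun u hu => ?_)
    obtain ⟨u', hu'⟩ := lift (ptStab_le o hu)
    rw [← hu']
    exact congrArg (fun z : H => ((z : Cfsg.M24) : Equiv.Perm GolayPt)) (hg u' ((hker u').2 (hu' ▸ hu)))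
  · intro x hx y hy hx1 hy1
    obtain ⟨g, hg, he⟩ := OctadFusion.fused ho ((hker x).1 hx) ((hker y).1 hy)
      (fun h => hx1 (Subtype.ext (Subtype.ext h))) (fun h => hy1 (Subtype.ext (Subtype.ext h)))
    exact ⟨⟨⟨g, hg.1⟩, hg⟩, Subtype.ext (Subtype.ext he)⟩
  · obtain ⟨a, ha, h1, h2⟩ := OctadFusion.escape ho hv hv1
    obtain ⟨w, hw⟩ := lift h1
    refine ⟨v', (hker v').2 (hv' ▸ hv), w, fun h => h2 (hw ▸ (hker w).1 h), ⟨a, ha⟩, Subtype.ext ?_⟩
    show a * ((v' : Cfsg.M24) : Equiv.Perm GolayPt) * a⁻¹ = _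
    rw [hv', hw]
  · exact (AltEightSylow.closedTop_alternating (α := ↥o) (by rw [Fintype.card_coe]; exact ho.2)).congr
      (MulEquiv.subgroupCongr (range_res ho).symm)

end Cfsg.Agent.S5170
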