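import Cfsg.Statements.S5172
import Cfsg.Agent.Lib.PGroup.FusionSU

set_option autoImplicit false
open Cfsg

namespace Cfsg.Agent.S5172

/-- For a finite field K with q² elements of characteristic p and n ≥ 4, the p-fusion system of the projective special unitary group PSU_n(q) (realised over K) on a Sylow p-subgroup is simple. -/
theorem result {K : Type*} [Field K] [Fintype K] (p q : ℕ) [Fact p.Prime] [CharP K p] (hK : Fintype.card K = q ^ 2) (n : ℕ) (hn : 4 ≤ n) (S : Sylow p (Cfsg.PSU n K q)) : (Cfsg.groupFusionSystem (S : Subgroup (Cfsg.PSU n K q))).IsSimple p := by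
  obtain ⟨σ, hσ, ⟨e⟩⟩ := CfsgLib.PGroup.SUModel.exists_model (n := n) hK
  obtain ⟨D⟩ := CfsgLib.PGroup.SURoots.exists_datum hσ
  let π₀ : CfsgLib.PGroup.SUModel.SUJ σ n →* Cfsg.PSU n K q :=
    (QuotientGroup.mk' (Subgroup.center (Cfsg.SU n K q))).comp e.toMonoidHom
  have hπ₀ : Function.Surjective π₀ := (QuotientGroup.mk'_surjective _).comp e.surjective
  obtain ⟨P, hP⟩ := CfsgLib.PGroup.SteinbergSU.exists_sylow D (p := p) hπ₀
  obtain ⟨g, hg⟩ := MulAction.exists_smul_eq (Cfsg.PSU n K q) P S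
  let π := (MulAut.conj g).toMonoidHom.comp π₀
  refine CfsgLib.PGroup.FusionSU.isSimple D (π := π) hn ((MulAut.conj g).surjective.comp hπ₀) ?_ S ?_
  · ext x
    have h1 : π x = 1 ↔ π₀ x = 1 := MulEquiv.map_eq_one_iff (MulAut.conj g)
    rw [MonoidHom.mem_ker, h1]
    refine (QuotientGroup.eq_one_iff (e x)).trans ?_
    constructor
    · intro hx
      refine Subgroup.mem_center_iff.2 fun y => e.injective ?_
      rw [map_mul, map_mul]
      exact Subgroup.mem_center_iff.1 hx (e y)
    · intro hx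
      refine Subgroup.mem_center_iff.2 fun y => ?_
      obtain ⟨y, rfl⟩ := e.surjective y
      rw [← map_mul, ← map_mul, Subgroup.mem_center_iff.1 hx y]
  · rw [← hg, ← Subgroup.map_map, ← hP]
    rfl

end Cfsg.Agent.S5172
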