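import Cfsg.Statements.S5178
import Cfsg.Agent.Lib.FusionSystem.CentreCoreFree
import Cfsg.Agent.Lib.FusionSystem.GenExtraspecial
import Cfsg.Agent.Lib.LocalEven.Residual
import Cfsg.Agent.Lib.Frobenius.IndexP
import Cfsg.Agent.Lib.FusionSystem.SmallEssential
import Cfsg.Agent.Lib.PGroup.Kulakoff

set_option autoImplicit false
universe u
open Cfsg
open scoped commutatorElement

namespace Cfsg.Agent.S5178

/-- Let p be an odd prime, S a finite p-group containing an extraspecial subgroup Q of index p, and F a saturated fusion system over S whose largest subgroup normal in F is trivial. Then the centre of S equals the centre of Q. -/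
theorem result {Ω : Type u} [Group Ω] {S : Subgroup Ω} [Finite S] (p : ℕ) [Fact p.Prime] (hp : Odd p) (hS : IsPGroup p S)
    (Q : Subgroup Ω) (hQS : Q ≤ S) (hQ : Cfsg.IsExtraspecial p ↥Q) (hQi : (Q.subgroupOf S).index = p)
    (F : Cfsg.FusionSystem S) (hF : F.IsSaturated p) (hO : F.core = ⊥) :
    S ⊓ Subgroup.centralizer (S : Set Ω) = Q ⊓ Subgroup.centralizer (Q : Set Ω) := by
  classical
  have hS' := hS
  set Zs := S ⊓ Subgroup.centralizer (S : Set Ω) with hZs
  set Zq := Q ⊓ Subgroup.centralizer (Q : Set Ω) with hZq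
  haveI : Finite Q := CfsgLib.Fsys.finite_of_le_base (S := S) hQS
  have hp2 : p ≠ 2 := fun e => by subst e; exact (by decide : ¬ Odd 2) hp
  set QS := Q.subgroupOf S with hQSdef
  haveI hQn : QS.Normal := CfsgLib.Frobenius.IndexP.normal_of_index hS hQi
  have hqc : ∀ z : Q, z ∈ Subgroup.center Q ↔ (z : Ω) ∈ Zq := fun z => by
    rw [Subgroup.mem_center_iff, hZq, Subgroup.mem_inf, and_iff_right z.2, Subgroup.mem_centralizer_iff]
    exact ⟨fun h g hg => congrArg Subtype.val (h ⟨g, hg⟩), fun h g => Subtype.ext (h g g.2)⟩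
  have hqcard : Nat.card Zq = p := by
    rw [← hQ.2]
    exact Nat.card_congr
      { toFun := fun z => ⟨⟨z, z.2.1⟩, (hqc _).2 z.2⟩
        invFun := fun z => ⟨z.1, (hqc _).1 z.2⟩
        left_inv := fun z => rfl
        right_inv := fun z => rfl }
  -- the centre of `Q` is central in `S`
  have hle : Zq ≤ Zs := by
    intro z hz
    refine ⟨hQS hz.1, Subgroup.mem_centralizer_iff.2 fun s hs => ?_⟩
    have hconj : ∀ w ∈ Zq, s * w * s⁻¹ ∈ Zq := fun w hw => by
      refine ⟨hQn.conj_mem ⟨w, hQS hw.1⟩ hw.1 ⟨s, hs⟩, Subgroup.mem_centralizer_iff.2 fun g hg => ?_⟩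
      have hg' : s⁻¹ * g * s ∈ Q := by
        have h0 : s⁻¹ * g * s⁻¹⁻¹ ∈ Q := hQn.conj_mem ⟨g, hQS hg⟩ hg ⟨s⁻¹, S.inv_mem hs⟩
        rwa [inv_inv] at h0
      have := congrArg (fun v => s * v * s⁻¹) (Subgroup.mem_centralizer_iff.1 hw.2 _ hg')
      simpa [mul_assoc] using this
    let K : Subgroup S := Zq.subgroupOf S
    haveI : (⊥ : Subgroup S).Normal := inferInstance
    obtain ⟨m, hm⟩ := hS ⟨s, hs⟩
    have hKi : (⊥ : Subgroup S).relIndex K ≤ p := by
      rw [Subgroup.relIndex_bot_left, Nat.card_congr (Subgroup.subgroupOfEquivOfLe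
        (show Zq ≤ S from inf_le_left.trans hQS)).toEquiv, hqcard]
    have := CfsgLib.Fsys.SmallEssential.shift_small (p := p) hS bot_le hKi (α := MulAut.conj (⟨s, hs⟩ : S))
      (show MulAut.conj (⟨s, hs⟩ : S) ^ p ^ m = 1 by rw [← map_pow, hm, map_one])
      (fun w hw => by rw [Subgroup.mem_bot] at hw ⊢; rw [hw, map_one])
      (fun w hw => hconj w hw) (v := (⟨z, hQS hz.1⟩ : S)) hz
    rw [Subgroup.mem_bot, inv_mul_eq_one] at this
    have h' := congrArg Subtype.val this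
    simp only [MulAut.conj_apply, Subgroup.coe_mul, Subgroup.coe_inv] at h'
    exact (eq_mul_inv_iff_mul_eq.1 h').symm
  refine le_antisymm ?_ hle
  suffices hin : ∀ z ∈ Zs, z ∈ Q from fun z hz =>
    ⟨hin z hz, Subgroup.mem_centralizer_iff.2 fun g hg => Subgroup.mem_centralizer_iff.1 hz.2 g (hQS hg)⟩
  by_contra hcon
  push Not at hcon
  obtain ⟨z, hz, hzQ⟩ := hcon
  have hzc : ∀ w ∈ S, Commute z w := fun w hw => (Subgroup.mem_centralizer_iff.1 hz.2 w hw).symm
  have hdec : ∀ s : S, ∃ q : Q, ∃ i : ℤ, (s : Ω) = (q : Ω) * z ^ i := by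
    intro s
    have htop : QS ⊔ Subgroup.zpowers (⟨z, hz.1⟩ : S) = ⊤ := by
      rw [← Subgroup.index_eq_one]
      have hd : (QS ⊔ Subgroup.zpowers (⟨z, hz.1⟩ : S)).index ∣ p := hQi ▸ Subgroup.index_dvd_of_le le_sup_left
      refine ((Nat.dvd_prime (Fact.out : p.Prime)).1 hd).resolve_right fun e => hzQ ?_
      have h1 := Subgroup.relIndex_mul_index (show QS ≤ QS ⊔ Subgroup.zpowers (⟨z, hz.1⟩ : S) from le_sup_left)
      rw [e, hQi, Nat.mul_eq_right (Fact.out : p.Prime).ne_zero, Subgroup.relIndex_eq_one] at h1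
      exact h1 (Subgroup.mem_sup_right (Subgroup.mem_zpowers _))
    obtain ⟨u, hu, v, hv, rfl⟩ := Subgroup.mem_sup_of_normal_left.1 (htop ▸ Subgroup.mem_top s)
    obtain ⟨i, rfl⟩ := Subgroup.mem_zpowers_iff.1 hv
    exact ⟨⟨u, hu⟩, i, by simp⟩
  let ι : Q →* S := Subgroup.inclusion hQS
  set C := (commutator ↥Q).map ι with hCdef
  have hcommle : commutator S ≤ C := by
    rw [commutator_def, Subgroup.commutator_le]
    intro a _ b _
    obtain ⟨q, i, ha⟩ := hdec a
    obtain ⟨r, j, hb⟩ := hdec b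
    refine ⟨⁅q, r⁆, Subgroup.commutator_mem_commutator (Subgroup.mem_top _) (Subgroup.mem_top _),
      Subtype.ext ?_⟩
    show ((⁅q, r⁆ : Q) : Ω) = ((⁅a, b⁆ : S) : Ω)
    simp only [commutatorElement_def, Subgroup.coe_mul, Subgroup.coe_inv]
    rw [ha, hb]
    have c1 := fun w (hw : w ∈ S) => ((hzc w hw).zpow_left i)
    have c2 := fun w (hw : w ∈ S) => ((hzc w hw).zpow_left j)
    have hqS := hQS q.2
    have hrS := hQS r.2
    have hwS : (r : Ω) * z ^ j ∈ S := S.mul_mem hrS (S.zpow_mem hz.1 j)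
    calc (q : Ω) * r * (q : Ω)⁻¹ * (r : Ω)⁻¹
        = (q : Ω) * (r * z ^ j) * (q : Ω)⁻¹ * ((z ^ j)⁻¹ * (r : Ω)⁻¹) := by
          have h1 : z ^ j * (q : Ω)⁻¹ = (q : Ω)⁻¹ * z ^ j := (c2 _ (S.inv_mem hqS)).eq
          rw [mul_assoc (q : Ω) ((r : Ω) * z ^ j), mul_assoc (r : Ω) (z ^ j), h1]
          group
      _ = (q : Ω) * z ^ i * (r * z ^ j) * (q * z ^ i)⁻¹ * (r * z ^ j)⁻¹ := by
          have h2 : z ^ i * ((r : Ω) * z ^ j) = (r : Ω) * z ^ j * z ^ i := (c1 _ hwS).eq
          rw [mul_assoc (q : Ω) (z ^ i), h2]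
          group
  have hlecomm : C ≤ commutator S := by
    rw [hCdef, commutator_def, Subgroup.map_commutator]
    exact Subgroup.commutator_mono le_top le_top
  have hCeq : commutator S = C := le_antisymm hcommle hlecomm
  have hcardC : Nat.card C = p := by
    rw [hCdef, Subgroup.card_map_of_injective (Subgroup.inclusion_injective hQS), hQ.1.2.2, hQ.2]
  have hQcomm : commutator ↥Q = Subgroup.center Q := hQ.1.2.2
  have hCmem : ∀ w : S, (w : Ω) ∈ Zq → w ∈ C := fun w hw =>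
    ⟨⟨w, hw.1⟩, by rw [hQcomm]; exact (hqc _).2 hw, Subtype.ext rfl⟩
  have hge : frattini ↥S = commutator ↥S ∧ Nat.card ↥(commutator ↥S) = p := by
    refine ⟨le_antisymm ?_ (CfsgLib.PGroup.Kulakoff.commutator_le_frattini hS), by rw [hCeq, hcardC]⟩
    refine CfsgLib.LocalEven.Residual.frattini_le (p := p)
      (fun a b => Subgroup.commutator_mem_commutator (Subgroup.mem_top a) (Subgroup.mem_top b)) fun a => ?_
    rw [hCeq]
    obtain ⟨q, i, ha⟩ := hdec a
    refine hCmem _ ?_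
    rw [SubmonoidClass.coe_pow, ha, ((hzc q (hQS q.2)).zpow_left i).symm.mul_pow]
    refine Zq.mul_mem ?_ ?_
    · have : q ^ p ∈ Subgroup.center Q := hQ.1.2.1 ▸ CfsgLib.PGroup.Frattini.pow_mem_frattini hQ.1.1 q
      simpa using (hqc _).1 this
    · rw [← zpow_natCast, ← zpow_mul, mul_comm, zpow_mul, zpow_natCast]
      refine Zq.zpow_mem ⟨?_, ?_⟩ i
      · have := Subgroup.pow_index_mem QS (⟨z, hz.1⟩ : S)
        rw [hQi] at this
        simpa [QS, Subgroup.mem_subgroupOf] using this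
      · exact Subgroup.pow_mem _ (Subgroup.mem_centralizer_iff.2 fun g hg =>
          Subgroup.mem_centralizer_iff.1 hz.2 g (hQS hg)) p
  have hSne : S ≠ ⊥ := fun e => hzQ (by
    have := hz.1
    simp only [e] at this
    replace this : z = 1 := Subgroup.mem_bot.1 this
    rw [this]; exact Q.one_mem)
  by_cases hnE : ∃ (E : Type) (_ : Group E) (A : Type) (_ : CommGroup A), Cfsg.IsExtraspecial p E ∧
      Nat.card E = p ^ 3 ∧ Monoid.exponent E = p ∧ (∀ a : A, a ^ p = 1) ∧ Nonempty (↥S ≃* E × A)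
  swap
  · refine hSne (le_bot_iff.1 (hO ▸ CfsgLib.Fsys.le_core ?_))
    exact CfsgLib.Fsys.normal_of_genExtraspecial hS hF CfsgLib.Fsys.sc_top hge
      (fun h => absurd h hp2) (fun _ => hnE)
  obtain ⟨E, _, A, _, hE, hE3, -, -, ⟨e⟩⟩ := hnE
  haveI : Finite (E × A) := Finite.of_equiv _ e.toEquiv
  have hidx : (Subgroup.center S).index = p ^ 2 := by
    have h1 : (Subgroup.center S).map e.toMonoidHom = Subgroup.center (E × A) := by
      ext v
      rw [Subgroup.mem_map]
      exact ⟨fun ⟨u, hu, huv⟩ => huv ▸ MulEquivClass.apply_mem_center e hu,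
        fun hv => ⟨e.symm v, MulEquivClass.apply_mem_center e.symm hv, e.apply_symm_apply v⟩⟩
    rw [← Subgroup.index_map_equiv (Subgroup.center S) e]
    erw [h1]
    rw [Subgroup.center_prod, CommGroup.center_eq_top, Subgroup.index_prod, Subgroup.index_top, mul_one]
    have h2 := Subgroup.card_mul_index (Subgroup.center E)
    rw [hE.2, hE3, show p ^ 3 = p * p ^ 2 by ring] at h2
    exact Nat.eq_of_mul_eq_mul_left (Fact.out : p.Prime).pos h2
  have hna : ∃ x y : S, x * y ≠ y * x := by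
    by_contra h
    push Not at h
    have : Subgroup.center S = ⊤ := eq_top_iff.2 fun x _ => Subgroup.mem_center_iff.2 fun y => h y x
    rw [this, Subgroup.index_top] at hidx
    exact (Nat.one_lt_pow two_ne_zero (Fact.out : p.Prime).one_lt).ne hidx
  obtain ⟨c, hc⟩ := CfsgLib.Fsys.CentralIndex.setup_exists hS hF hidx hna
  refine hzQ (Subgroup.zpowers_le.2 ?_ (CfsgLib.Fsys.CentralIndex.centre_le_zpowers hc hp2 hO z
    (CfsgLib.Fsys.CentralIndex.mem_Zc.2 ⟨hz.1, fun x hx => Subgroup.mem_centralizer_iff.1 hz.2 x hx⟩)))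
  obtain ⟨x, hx, y, hy, ec⟩ := hc.isComm
  obtain ⟨w, -, hw⟩ := hcommle (Subgroup.commutator_mem_commutator (Subgroup.mem_top (⟨x, hx⟩ : S))
    (Subgroup.mem_top (⟨y, hy⟩ : S)))
  have h3 := congrArg Subtype.val hw
  rw [ec]
  have h4 : (((⁅(⟨x, hx⟩ : S), (⟨y, hy⟩ : S)⁆ : S)) : Ω) = ⁅x, y⁆ := rfl
  rw [← h4, ← h3]
  exact w.2

end Cfsg.Agent.S5178
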