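import Cfsg.Statements.S5179
import Cfsg.Agent.Lib.FusionSystem.AbelianIndexPEssential
import Cfsg.Agent.Lib.FusionSystem.Normal

set_option autoImplicit false
universe u
open Cfsg
open scoped commutatorElement

namespace Cfsg.Agent.S5179

/-- Let p be an odd prime, S a finite p-group of order at least p⁶ containing an extraspecial subgroup Q of index p, and F a saturated fusion system over S whose largest subgroup normal in F is trivial. Then no proper subgroup of Q is essential in F: an essential subgroup of F contained in Q equals Q. -/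
theorem result {Ω : Type u} [Group Ω] {S : Subgroup Ω} [Finite S] (p : ℕ) [Fact p.Prime] (hp : Odd p) (hS : IsPGroup p S)
    (Q : Subgroup Ω) (hQS : Q ≤ S) (hQ : Cfsg.IsExtraspecial p ↥Q) (hQi : (Q.subgroupOf S).index = p)
    (h6 : p ^ 6 ≤ Nat.card S)
    (F : Cfsg.FusionSystem S) (hF : F.IsSaturated p) (hO : F.core = ⊥)
    (E : Subgroup Ω) (hEQ : E ≤ Q) (hE : F.IsEssential p E) : E = Q := by
  classical
  have hpp : p.Prime := Fact.out
  haveI : Finite Q := CfsgLib.Fsys.finite_of_le_base (S := S) hQS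
  haveI : Finite E := CfsgLib.Fsys.finite_of_le_base (S := S) hE.1.1
  set Z := (Subgroup.center Q).map Q.subtype with hZdef
  have hZcard : Nat.card Z = p := by
    rw [hZdef, Subgroup.card_map_of_injective Q.subtype_injective, hQ.2]
  have hZQ : Z ≤ Q := Subgroup.map_subtype_le _
  have hZc : ∀ z ∈ Z, ∀ g ∈ Q, g * z = z * g := by
    rintro _ ⟨z, hz, rfl⟩ g hg
    exact congrArg Subtype.val (Subgroup.mem_center_iff.1 hz ⟨g, hg⟩)
  have hcomm : ∀ a ∈ Q, ∀ b ∈ Q, a * b * a⁻¹ * b⁻¹ ∈ Z := by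
    intro a ha b hb
    refine ⟨⁅(⟨a, ha⟩ : Q), (⟨b, hb⟩ : Q)⁆, ?_, rfl⟩
    rw [← hQ.1.2.2]
    exact Subgroup.commutator_mem_commutator (Subgroup.mem_top _) (Subgroup.mem_top _)
  have hZE : Z ≤ E := fun z hz => CfsgLib.Fsys.centralizer_le_of_centric hE.1
    (CfsgLib.Fsys.mem_centralizerIn.2 ⟨hQS (hZQ hz), fun g hg => hZc z hz g (hEQ hg)⟩)
  have hN : ∀ t ∈ Q, t ∈ Cfsg.FusionSystem.normalizerIn S E := fun t ht =>
    ⟨hQS ht, CfsgLib.Fsys.mem_normalizer_of_map_le fun x hx => by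
      rw [show t * x * t⁻¹ = t * x * t⁻¹ * x⁻¹ * x by group]
      exact E.mul_mem (hZE (hcomm t ht x (hEQ hx))) hx⟩
  haveI : Finite Z := CfsgLib.Fsys.finite_of_le_base (S := S) (hZQ.trans hQS)
  obtain ⟨c, hcZ, hc1⟩ : ∃ c ∈ Z, c ≠ 1 := by
    by_contra h
    push Not at h
    have : Z = ⊥ := (Subgroup.eq_bot_iff_forall Z).2 h
    rw [this, Subgroup.card_bot] at hZcard
    exact hpp.ne_one hZcard.symm
  have hgen : ∀ d ∈ Z, d ≠ 1 → ∀ v ∈ Z, ∃ i : ℤ, d ^ i = v := by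
    intro d hd hd1 v hv
    haveI : Fact (Nat.card Z).Prime := ⟨hZcard.symm ▸ hpp⟩
    have htop : Subgroup.zpowers (⟨d, hd⟩ : Z) = ⊤ :=
      (Subgroup.eq_bot_or_eq_top_of_prime_card _).resolve_left fun h =>
        hd1 (congrArg Subtype.val (Subgroup.zpowers_eq_bot.1 h))
    obtain ⟨i, hi⟩ := Subgroup.mem_zpowers_iff.1 (htop ▸ Subgroup.mem_top (⟨v, hv⟩ : Z))
    exact ⟨i, by simpa using congrArg Subtype.val hi⟩
  by_contra hne
  obtain ⟨t₀, ht₀, ht₀E⟩ := SetLike.exists_of_lt (lt_of_le_of_ne hEQ hne)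
  have hES := hE.1.1
  by_cases hab : ∀ a ∈ E, ∀ b ∈ E, a * b = b * a
  swap
  · -- the stabilizer of `1 ≤ Z(Q) ≤ E`
    push Not at hab
    obtain ⟨a, ha, b, hb, hne'⟩ := hab
    have hd : a * b * a⁻¹ * b⁻¹ ≠ 1 := fun h => hne' (by
      rwa [mul_inv_eq_one, mul_inv_eq_iff_eq_mul] at h)
    have hinvZ : ∀ α ∈ F.autGroup E, ∀ x ∈ Z, CfsgLib.Fsys.autFn α x ∈ Z := by
      intro α hα x hx
      obtain ⟨i, rfl⟩ := hgen _ (hcomm a (hEQ ha) b (hEQ hb)) hd x hx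
      rw [show (a * b * a⁻¹ * b⁻¹) ^ i = (((⟨a, ha⟩ * ⟨b, hb⟩ * ⟨a, ha⟩⁻¹ * ⟨b, hb⟩⁻¹ : E) ^ i : E) : Ω) by simp,
        CfsgLib.Fsys.autFn_coe, map_zpow, SubgroupClass.coe_zpow]
      refine Z.zpow_mem ?_ i
      simp only [map_mul, map_inv, Subgroup.coe_mul, Subgroup.coe_inv]
      exact hcomm _ (hEQ (α _).2) _ (hEQ (α _).2)
    refine ht₀E (CfsgLib.Fsys.mem_of_series hS hE.1 (CfsgLib.Fsys.essential_radical hS hE)
      (fun i => if i = 0 then ⊥ else if i = 1 then Z else E) 2 (if_pos rfl) (by simp) ?_ ?_ (hN t₀ ht₀) ?_)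
    · intro i hi
      interval_cases i <;> simp [hZE]
    · intro i hi α hα x hx
      interval_cases i
      · simp only [if_true, Subgroup.mem_bot] at hx ⊢
        subst hx
        rw [show (1 : Ω) = ((1 : E) : Ω) from rfl, CfsgLib.Fsys.autFn_coe, map_one]
      · exact hinvZ α hα x (by simpa using hx)
      · simpa using CfsgLib.Fsys.autFn_mem α (show x ∈ E by simpa using hx)
    · intro i hi x hx
      interval_cases i
      · simp only [zero_add, if_true, Subgroup.mem_bot] at hx ⊢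
        simp at hx
        rw [hZc x hx t₀ ht₀, mul_inv_cancel_right, inv_mul_cancel]
      · simp at hx ⊢
        have := hcomm x⁻¹ (Q.inv_mem (hEQ hx)) t₀ ht₀
        simpa [mul_assoc] using this
  -- `E` abelian
  have hidx5 : p ^ 5 ≤ Nat.card Q := by
    have h := (Q.subgroupOf S).card_mul_index
    rw [Nat.card_congr (Subgroup.subgroupOfEquivOfLe hQS).toEquiv, hQi] at h
    refine Nat.le_of_mul_le_mul_right ?_ hpp.pos
    rw [h, ← pow_succ]
    exact h6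
  let EQ : Subgroup Q := E.subgroupOf Q
  have hphi : ∀ w ∈ Q, ∃ K : Subgroup Q, K.index ≤ p ∧ ∀ g ∈ K, (g : Ω) * w = w * g := by
    intro w hw
    let f : Q →* Z := MonoidHom.mk' (fun g => ⟨g * w * (g : Ω)⁻¹ * w⁻¹, hcomm g g.2 w hw⟩) fun g g' => by
      refine Subtype.ext ?_
      show ((g * g' : Q) : Ω) * w * ((g * g' : Q) : Ω)⁻¹ * w⁻¹ = (g : Ω) * w * (g : Ω)⁻¹ * w⁻¹ * (g' * w * (g' : Ω)⁻¹ * w⁻¹)
      rw [Subgroup.coe_mul, mul_inv_rev]
      calc (g : Ω) * g' * w * ((g' : Ω)⁻¹ * (g : Ω)⁻¹) * w⁻¹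
          = (g : Ω) * ((g' * w * (g' : Ω)⁻¹ * w⁻¹) * w) * (g : Ω)⁻¹ * w⁻¹ := by group
        _ = (g * (g' * w * (g' : Ω)⁻¹ * w⁻¹)) * w * (g : Ω)⁻¹ * w⁻¹ := by group
        _ = (g' * w * (g' : Ω)⁻¹ * w⁻¹) * ((g : Ω) * w * (g : Ω)⁻¹ * w⁻¹) := by
          rw [hZc _ (hcomm g' g'.2 w hw) g g.2]; group
        _ = _ := (hZc _ (hcomm g' g'.2 w hw) _ (hZQ (hcomm g g.2 w hw))).symm
    refine ⟨f.ker, ?_, fun g hg => ?_⟩
    · rw [Subgroup.index_ker, ← hZcard]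
      exact Subgroup.card_le_card_group _
    · have h : (g : Ω) * w * (g : Ω)⁻¹ * w⁻¹ = 1 := congrArg Subtype.val (MonoidHom.mem_ker.1 hg)
      rwa [mul_inv_eq_one, mul_inv_eq_iff_eq_mul] at h
  have hbig : ¬ EQ.index ≤ p := by
    intro hle
    obtain ⟨K, hK, hKc⟩ := hphi t₀ ht₀
    have h1 : K ⊓ EQ ≤ Subgroup.center Q := by
      intro u hu
      refine Subgroup.mem_center_iff.2 fun g => ?_
      haveI : EQ.Normal := ⟨fun n hn g => Subgroup.mem_subgroupOf.2 (by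
        simpa using (Subgroup.mem_normalizer_iff.1 (hN g g.2).2 n).1 hn)⟩
      have htop : EQ ⊔ Subgroup.zpowers (⟨t₀, ht₀⟩ : Q) = ⊤ := by
        rw [← Subgroup.index_eq_one]
        have hlt : (EQ ⊔ Subgroup.zpowers (⟨t₀, ht₀⟩ : Q)).index < EQ.index := Subgroup.index_strictAnti
          (lt_of_le_of_ne le_sup_left fun e => ht₀E (Subgroup.mem_subgroupOf.1
            (e ▸ Subgroup.mem_sup_right (Subgroup.mem_zpowers _) : (⟨t₀, ht₀⟩ : Q) ∈ EQ)))
        obtain ⟨i, hi⟩ := hQ.1.1.index (EQ ⊔ Subgroup.zpowers (⟨t₀, ht₀⟩ : Q))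
        rcases Nat.eq_zero_or_pos i with rfl | hi0
        · rw [hi, pow_zero]
        · have := Nat.pow_le_pow_right hpp.pos hi0
          rw [pow_one, ← hi] at this
          omega
      obtain ⟨e, he, v, hv, rfl⟩ := Subgroup.mem_sup_of_normal_left.1 (htop ▸ Subgroup.mem_top g)
      obtain ⟨i, rfl⟩ := Subgroup.mem_zpowers_iff.1 hv
      have c1 : Commute e u := Subtype.ext (hab _ he _ hu.2)
      have c2 : Commute (⟨t₀, ht₀⟩ : Q) u := Subtype.ext (hKc u hu.1).symm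
      exact (c1.mul_left (c2.zpow_left i)).eq
    have h2 := Subgroup.index_inf_le (H := K) (K := EQ)
    have h3 : (Subgroup.center Q).index ≤ p * p :=
      ((Subgroup.index_antitone h1).trans h2).trans (Nat.mul_le_mul hK hle)
    have h4 := (Subgroup.center Q).card_mul_index
    rw [hQ.2] at h4
    have h5 : p ^ 5 ≤ p ^ 3 := hidx5.trans (h4 ▸ (Nat.mul_le_mul_left p h3).trans (le_of_eq (by ring)))
    have := (Nat.pow_le_pow_iff_right hpp.one_lt).1 h5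
    omega
  have hfind : ∀ w ∈ E, ∃ n ∈ Q, n ∉ E ∧ n * w = w * n := by
    intro w hw
    obtain ⟨K, hK, hKc⟩ := hphi w (hEQ hw)
    by_contra h
    push Not at h
    refine hbig ((Subgroup.index_antitone fun g hg => Subgroup.mem_subgroupOf.2 ?_).trans hK)
    by_contra hgE
    exact h g g.2 hgE (hKc g hg)
  refine CfsgLib.Fsys.extClosure_ne_of_essential hS hF (CfsgLib.Fsys.essential_lt hS hF hE) hE
    (le_antisymm CfsgLib.Fsys.extClosure_le fun α hα => ?_)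
  let cE : E := ⟨c, hZE hcZ⟩
  obtain ⟨n, hn, hnE, hnw⟩ := hfind _ (α cE).2
  obtain ⟨m, hm, hmE, hmw⟩ := hfind _ ((α⁻¹ : MulAut E) cE).2
  set τ := CfsgLib.Fsys.conjAut E (hN n hn).2 with hτ
  set σ := CfsgLib.Fsys.conjAut E (hN m hm).2 with hσ
  have hnot : ∀ g (hg : g ∈ Q), g ∉ E → CfsgLib.Fsys.conjAut E (hN g hg).2 ∉ Cfsg.Inn E :=
    fun g hg hgE h => hgE ((CfsgLib.Fsys.conjAut_mem_inn_iff (CfsgLib.Fsys.centralizer_le_of_centric hE.1)
      (hN g hg) hES).1 h)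
  have hshift : ∀ g (hg : g ∈ Q), ∀ v : E, ∃ i : ℤ, CfsgLib.Fsys.conjAut E (hN g hg).2 v = v * cE ^ i := by
    intro g hg v
    obtain ⟨i, hi⟩ := hgen c hcZ hc1 _ (hcomm (v : Ω)⁻¹ (Q.inv_mem (hEQ v.2)) g hg)
    refine ⟨i, Subtype.ext ?_⟩
    rw [CfsgLib.Fsys.conjAut_coe, Subgroup.coe_mul, SubgroupClass.coe_zpow]
    show g * v * g⁻¹ = v * c ^ i
    rw [hi]; group
  have hfix : ∀ g (hg : g ∈ Q), ∀ v : E, g * (v : Ω) = v * g → CfsgLib.Fsys.conjAut E (hN g hg).2 v = v :=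
    fun g hg v h => Subtype.ext (by rw [CfsgLib.Fsys.conjAut_coe, h, mul_inv_cancel_right])
  have hc' : ∀ g (hg : g ∈ Q), CfsgLib.Fsys.conjAut E (hN g hg).2 cE = cE := fun g hg =>
    hfix g hg cE (hZc c hcZ g hg)
  have hτw : τ (α cE) = α cE := hfix n hn _ hnw
  have hσw : (α * σ * α⁻¹) cE = cE := by
    rw [MulAut.mul_apply, MulAut.mul_apply, hσ, hfix m hm _ hmw, MulAut.apply_inv_self]
  refine CfsgLib.Fsys.AbelianIndexP.mem_extClosure_of_commute hS hF hE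
    (CfsgLib.Fsys.conjAut_mem_autInducedBy (hN n hn).2 (hQS hn)) (hnot n hn hnE)
    (CfsgLib.Fsys.conjAut_mem_autInducedBy (hN m hm).2 (hQS hm)) (hnot m hm hmE) hα ?_
  refine MulEquiv.ext fun v => ?_
  obtain ⟨i, hi⟩ := hshift n hn v
  obtain ⟨j, hj⟩ := hshift m hm ((α⁻¹ : MulAut E) v)
  have hs' : (α * σ * α⁻¹) v = v * α cE ^ j := by
    rw [MulAut.mul_apply, MulAut.mul_apply, hσ, hj, map_mul, MulAut.apply_inv_self, map_zpow]
  have hc2 : ∀ x y : E, x * y = y * x := fun x y => Subtype.ext (hab x x.2 y y.2)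
  show τ ((α * σ * α⁻¹) v) = (α * σ * α⁻¹) (τ v)
  rw [hs', map_mul, map_zpow, hτw, hi, map_mul, map_zpow, hσw, hs',
    mul_assoc, mul_assoc, hc2 (cE ^ i)]

end Cfsg.Agent.S5179
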