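import Cfsg.Statements.S5180
import Cfsg.Agent.Lib.FusionSystem.RankThree.CaseJ
import Cfsg.Agent.Lib.FusionSystem.RankThree.CaseT
import Cfsg.Agent.Lib.FusionSystem.RankThree.Transport

set_option autoImplicit false
universe u
open Cfsg Cfsg.FusionSystem CfsgLib.Fsys CfsgLib.Fsys.RankThree

namespace Cfsg.Agent.S5180

/-- Let p ≥ 5 be a prime, S a finite p-group of sectional p-rank exactly 3, and F a saturated fusion system over S. Then every essential subgroup E of F that needs three generators (the Frattini quotient E/Φ(E) has order p³) is normal in S. -/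
theorem result {Ω : Type u} [Group Ω] {S : Subgroup Ω} [Finite S] (p : ℕ) [Fact p.Prime] (hp : 5 ≤ p) (hS : IsPGroup p S) (hsr : Cfsg.SectionalPRankLE p 3 ↥S ∧ ¬ Cfsg.SectionalPRankLE p 2 ↥S)
    (F : Cfsg.FusionSystem S) (hF : F.IsSaturated p) (E : Subgroup Ω) (hE : F.IsEssential p E)
    (hrk : (frattini ↥E).index = p ^ 3) : S ≤ Subgroup.normalizer (E : Set Ω) := by
  have h : Hyp p F E := ⟨hp, hS, rank3_of_sectional hsr.1, hF, hE, hrk⟩
  by_contra hne
  have hlt : normalizerIn S E < S := lt_of_le_of_ne normalizerIn_le fun e => hne fun s hs => (e.ge hs).2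
  obtain ⟨E', h', hcard, hfn⟩ := exists_good_conj h
  have hlt' : normalizerIn S E' < S := lt_of_le_of_ne normalizerIn_le fun e => hlt.ne
    (Subgroup.eq_of_le_of_card_ge normalizerIn_le (by rw [← hcard, e]))
  rcases dichotomy h' with hT | hJ
  · exact not_caseT h' hlt' hfn hT
  · exact not_caseJ h' hlt' hJ

end Cfsg.Agent.S5180
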