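import Cfsg.Statements.S5182
import Cfsg.Agent.S5180
import Cfsg.Agent.Lib.FusionSystem.RankThree.TwoGen
import Cfsg.Agent.Lib.FusionSystem.RankThree.ThreeGen

set_option autoImplicit false
universe u
open Cfsg Cfsg.FusionSystem CfsgLib.Fsys CfsgLib.Fsys.RankThree

namespace Cfsg.Agent.S5182

/-- Let p ≥ 5 be a prime, S a finite p-group of sectional p-rank exactly 3, and F a saturated fusion system over S whose largest subgroup normal in F is trivial. Then F has an essential subgroup that is either elementary abelian of order p² or extraspecial of order p³ and exponent p. -/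
theorem result {Ω : Type u} [Group Ω] {S : Subgroup Ω} [Finite S] (p : ℕ) [Fact p.Prime] (hp : 5 ≤ p) (hS : IsPGroup p S) (hsr : Cfsg.SectionalPRankLE p 3 ↥S ∧ ¬ Cfsg.SectionalPRankLE p 2 ↥S)
    (F : Cfsg.FusionSystem S) (hF : F.IsSaturated p) (hO : F.core = ⊥) :
    ∃ E : Subgroup Ω, (F.IsEssential p E ∧ ((Cfsg.IsElementaryAbelian p E ∧ Nat.card E = p ^ 2) ∨
        (Cfsg.IsExtraspecial p ↥E ∧ Nat.card E = p ^ 3 ∧ ∀ x ∈ E, x ^ p = 1))) := by
  by_contra hno
  push Not at hno
  have hr := rank3_of_sectional (G := S) hsr.1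
  have hnp : ∀ E, F.IsEssential p E → ¬ ((IsElementaryAbelian p E ∧ Nat.card E = p ^ 2) ∨
      (IsExtraspecial p ↥E ∧ Nat.card E = p ^ 3 ∧ ∀ x ∈ E, x ^ p = 1)) := by
    rintro E hE (⟨h1, h2⟩ | ⟨h1, h2, h3⟩)
    · exact (hno E hE).1 h1 h2
    · obtain ⟨x, hx, hx1⟩ := (hno E hE).2 h1 h2
      exact hx1 (h3 x hx)
  have hindex : ∀ E, F.IsEssential p E → (frattini ↥E).index = p ^ 2 ∨ (frattini ↥E).index = p ^ 3 := by
    intro E hE
    haveI := finite_of_le_base hE.1.1
    have hEp : IsPGroup p E := hS.to_le hE.1.1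
    have hE3 : Rank3 p E := hr.of_injective (Subgroup.inclusion hE.1.1) (Subgroup.inclusion_injective _)
    have h1 := hE3 ⊤ (frattini ↥E) le_top
      (fun a _ b _ => CfsgLib.PGroup.Frattini.commutatorElement_mem_frattini hEp a b)
      (fun a _ => CfsgLib.PGroup.Frattini.pow_mem_frattini hEp a)
    rw [Subgroup.card_top, ← Subgroup.card_mul_index (frattini ↥E), mul_comm] at h1
    have h2 := Nat.le_of_mul_le_mul_right h1 Nat.card_pos
    have h3 := SmallEssential.frattini_index hS hF hE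
    obtain ⟨j, hj⟩ := hEp.index (frattini ↥E)
    rw [hj] at h2 h3 ⊢
    have := (Nat.pow_le_pow_iff_right (Fact.out : p.Prime).one_lt).1 h2
    have := (Nat.pow_le_pow_iff_right (Fact.out : p.Prime).one_lt).1 h3
    obtain rfl | rfl : j = 2 ∨ j = 3 := by omega
    exacts [Or.inl rfl, Or.inr rfl]
  have hNH : ∀ E, F.IsEssential p E → (frattini ↥E).index = p ^ 3 → NHyp p F E := fun E hE h3 =>
    ⟨⟨hp, hS, hr, hF, hE, h3⟩, Cfsg.Agent.S5180.result p hp hS hsr F hF E hE h3⟩
  have hfin : ∀ U : Subgroup Ω, U ≠ ⊥ → F.IsNormal U → False := fun U hU hn =>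
    hU (le_bot_iff.1 (hO ▸ le_core hn))
  by_cases htwo : ∃ E, F.IsEssential p E ∧ (frattini ↥E).index = p ^ 2
  · obtain ⟨E, hE, h2⟩ := htwo
    obtain ⟨U, hU, hn⟩ := (Two.Pre.of_not_pearl hp hS hr hF hE h2 (hnp E hE)).core_ne_bot
      (fun M hM h2 => Two.Pre.of_not_pearl hp hS hr hF hM h2 (hnp M hM))
      fun M hM hne => by
        have h3 := (hindex M hM).resolve_left hne
        have k := hNH M hM h3
        exact ⟨k.normal, k.card_S.symm, h3⟩
    exact hfin U hU hn
  · push Not at htwo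
    have hSne : S ≠ ⊥ := by
      intro hb
      refine hsr.2 fun H N _ A _ _ => ?_
      haveI : Subsingleton S := hb ▸ inferInstanceAs (Subsingleton (⊥ : Subgroup Ω))
      haveI : Subsingleton (H ⧸ N) := ⟨fun a b => QuotientGroup.induction_on a fun x =>
        QuotientGroup.induction_on b fun y => congrArg _ (Subsingleton.elim x y)⟩
      rw [Nat.card_of_subsingleton (1 : A)]
      exact Nat.one_le_pow _ _ (Fact.out : p.Prime).pos
    obtain ⟨U, hU, hn⟩ := three_normal hS hF hSne
      fun E hE => hNH E hE ((hindex E hE).resolve_left (htwo E hE))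
    exact hfin U hU hn

end Cfsg.Agent.S5182
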