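import Cfsg.Statements.S5186
import Cfsg.Agent.Lib.FusionSystem.SmallEssential
import Cfsg.Agent.Lib.FusionSystem.PearlMaxClass
import Cfsg.Agent.Lib.LocalEvenB.OrderPCubed
import Cfsg.Agent.S0106

set_option autoImplicit false
universe u
open Cfsg

namespace Cfsg.Agent.S5186

/-- Let F be a saturated fusion system over a finite p-group S and H an essential subgroup of order p³. Then H is elementary abelian, or p is odd and H is extraspecial of exponent p, or p = 2 and H is the quaternion group of order 8. -/
theorem result {Ω : Type u} [Group Ω] {S : Subgroup Ω} [Finite S] (p : ℕ) [Fact p.Prime] (hS : IsPGroup p S)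
    (F : Cfsg.FusionSystem S) (hF : F.IsSaturated p) (H : Subgroup Ω) (hH : F.IsEssential p H) (hcard : Nat.card H = p ^ 3) :
    Cfsg.IsElementaryAbelian p H ∨ (Odd p ∧ Cfsg.IsExtraspecial p ↥H ∧ ∀ x ∈ H, x ^ p = 1) ∨
      (p = 2 ∧ Nonempty (↥H ≃* QuaternionGroup 2)) := by
  have hp : p.Prime := Fact.out
  haveI : Finite H := Finite.of_injective (Subgroup.inclusion hH.1.1) (Subgroup.inclusion_injective _)
  obtain ⟨j, hj⟩ := (hS.to_le hH.1.1).index (frattini ↥H)
  by_cases hab : ∀ a b : H, a * b = b * a
  · left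
    refine ⟨⟨⟨hab⟩⟩, ?_⟩
    by_cases hrk : (frattini ↥H).index ≤ p ^ 2
    · exfalso
      obtain ⟨k, a, b, hk1, hexp, hgen, hind⟩ :=
        CfsgLib.Fsys.SmallEssential.exists_basis hS hF hH hab hrk
      haveI : NeZero (p ^ k) := ⟨(pow_pos hp.pos k).ne'⟩
      letI : CommGroup H := { (inferInstance : Group H) with mul_comm := hab }
      let f : ZMod (p ^ k) × ZMod (p ^ k) → H := fun x => a ^ (x.1.val : ℤ) * b ^ (x.2.val : ℤ)
      have hred : ∀ (u : H) (i : ℤ), u ^ (((i : ZMod (p ^ k)).val : ℕ) : ℤ) = u ^ i := fun u i => by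
        rw [zpow_eq_zpow_iff_modEq, ZMod.val_intCast]
        refine ((Int.mod_modEq i _).of_dvd ?_)
        exact_mod_cast hexp ▸ Monoid.order_dvd_exponent u
      have hbij : Function.Bijective f := by
        refine ⟨fun x y hxy => ?_, fun v => ?_⟩
        · obtain ⟨hi, hj⟩ := hind ((x.1.val : ℤ) - y.1.val) ((x.2.val : ℤ) - y.2.val) (by
            rw [zpow_sub, zpow_sub, mul_mul_mul_comm, ← mul_inv]
            exact mul_inv_eq_one.2 hxy)
          refine Prod.ext ?_ ?_
          · have := (ZMod.intCast_zmod_eq_zero_iff_dvd _ _).2 hi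
            push_cast at this
            rwa [ZMod.natCast_zmod_val, ZMod.natCast_zmod_val, sub_eq_zero] at this
          · have := (ZMod.intCast_zmod_eq_zero_iff_dvd _ _).2 hj
            push_cast at this
            rwa [ZMod.natCast_zmod_val, ZMod.natCast_zmod_val, sub_eq_zero] at this
        · obtain ⟨i, j, rfl⟩ := hgen v
          exact ⟨((i : ZMod (p ^ k)), (j : ZMod (p ^ k))), by simp only [f]; rw [hred, hred]⟩
      have hc := Nat.card_congr (Equiv.ofBijective f hbij)
      rw [hcard, Nat.card_prod, Nat.card_zmod, ← pow_add] at hc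
      have := Nat.pow_right_injective hp.two_le hc
      omega
    · have hj3 : j = 3 := by
        have hd : p ^ j ∣ p ^ 3 := hj ▸ hcard ▸ Subgroup.index_dvd_card _
        have h1 := (Nat.pow_dvd_pow_iff_le_right hp.one_lt).1 hd
        rw [hj, Nat.pow_le_pow_iff_right hp.one_lt] at hrk
        omega
      have hmul := (frattini ↥H).card_mul_index
      rw [hj, hj3, hcard, Nat.mul_eq_right (pow_pos hp.pos 3).ne', Subgroup.card_eq_one] at hmul
      intro v hv
      have h := CfsgLib.PGroup.Frattini.pow_mem_frattini (p := p) (hS.to_le hH.1.1) ⟨v, hv⟩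
      rw [hmul, Subgroup.mem_bot] at h
      exact congrArg Subtype.val h
  · right
    have hna : ∃ a b : H, a * b ≠ b * a := by simpa only [not_forall] using hab
    have hna' : ¬ IsMulCommutative H := fun h => hab fun a b => h.1.1 a b
    have hex := CfsgLib.LocalEvenB.OrderPCubed.isExtraspecial (p := p) hcard hna
    have hq := CfsgLib.LocalEvenB.OrderPCubed.card_quot (p := p) hcard hna
    have hΦZ : frattini ↥H = Subgroup.center H := hex.1.2.1
    have hrk : (frattini ↥H).index ≤ p ^ 2 := by rw [hΦZ, Subgroup.index_eq_card, hq]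
    rcases hp.eq_two_or_odd' with h2 | hodd
    · right
      refine ⟨h2, ?_⟩
      subst h2
      obtain ⟨z, hz, hzu⟩ := (Nat.card_eq_two_iff' (⟨1, Subgroup.one_mem _⟩ : Subgroup.center H)).1 hex.2
      have hcen : ∀ w ∈ Subgroup.center H, w = 1 ∨ w = (z : H) := fun w hw => by
        by_cases h1 : w = 1
        · exact Or.inl h1
        · exact Or.inr (congrArg Subtype.val (hzu ⟨w, hw⟩ fun e => h1 (congrArg Subtype.val e)))
      have hz1 : (z : H) ≠ 1 := fun e => hz (Subtype.ext e)
      have hzz : (z : H) * z = 1 := by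
        rcases hcen _ (Subgroup.mul_mem _ z.2 z.2) with h | h
        · exact h
        · exact absurd (mul_eq_left.1 h) hz1
      have hsqZ : ∀ w : H, w * w ∈ Subgroup.center H := fun w => by
        rw [← pow_two]; exact CfsgLib.LocalEvenB.OrderPCubed.quot_pow hcard hna w
      by_cases hq8 : ∀ w : H, w = 1 ∨ w = (z : H) ∨ w * w = (z : H)
      · obtain ⟨e⟩ := Cfsg.Agent.S0106.equiv_q8 (⊤ : Subgroup H) (by rw [Subgroup.card_top, hcard]; norm_num)
          (z : H) hz1 (fun w _ => hq8 w) hzz
        exact ⟨Subgroup.topEquiv.symm.trans e⟩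
      exfalso
      push Not at hq8
      obtain ⟨t, ht1, htz, htt⟩ := hq8
      have ht : t * t = 1 := (hcen _ (hsqZ t)).resolve_right htt
      obtain ⟨s, hs⟩ : ∃ s : H, s * s ≠ 1 := by
        by_contra h
        push Not at h
        exact hab fun a b => by
          have h3 := h (a * b)
          rw [mul_eq_one_iff_eq_inv, mul_inv_rev, inv_eq_of_mul_eq_one_right (h a),
            inv_eq_of_mul_eq_one_right (h b)] at h3
          exact h3
      have hs4 : orderOf s = 4 := by
        have h4 : s ^ (2 ^ (1 + 1)) = 1 := by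
          rcases hcen _ (hsqZ s) with h | h
          · exact absurd h hs
          · rw [show 2 ^ (1 + 1) = 2 * 2 by norm_num, pow_mul, pow_two, pow_two, h, hzz]
        have h2' : ¬ s ^ (2 ^ 1) = 1 := by rwa [pow_one, pow_two]
        rw [orderOf_eq_prime_pow h2' h4]
        norm_num
      set L := Subgroup.zpowers s with hL
      have hLcard : Nat.card L = 4 := by rw [hL, Nat.card_zpowers, hs4]
      have hidx : L.index = 2 := by
        have h := L.card_mul_index
        rw [hLcard, hcard] at h
        norm_num at h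
        omega
      have hLsq : ∀ w ∈ L, w * w = 1 → w ∈ Subgroup.center H := fun w hw hw2 => by
        obtain ⟨i, rfl⟩ := Subgroup.mem_zpowers_iff.1 hw
        rw [← zpow_add, ← two_mul, ← orderOf_dvd_iff_zpow_eq_one, hs4] at hw2
        obtain ⟨q, rfl⟩ : (2 : ℤ) ∣ i := by omega
        rw [zpow_mul, show (2 : ℤ) = ((2 : ℕ) : ℤ) from rfl, zpow_natCast, pow_two]
        exact Subgroup.zpow_mem _ (hsqZ s) q
      have htL : t ∉ L := fun h => (hcen t (hLsq t h ht)).elim ht1 htz
      have htinv : t⁻¹ = t := inv_eq_of_mul_eq_one_right ht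
      haveI : L.Normal := Subgroup.normal_of_index_eq_two hidx
      have hdec : ∀ w : H, w ∉ L → ∃ i : ℤ, w = s ^ i * t := fun w hw => by
        have : w * t ∈ L := (Subgroup.mul_mem_iff_of_index_two hidx).2 (iff_of_false hw htL)
        obtain ⟨i, hi⟩ := Subgroup.mem_zpowers_iff.1 this
        exact ⟨i, by rw [hi, mul_assoc, ht, mul_one]⟩
      obtain ⟨i, hi⟩ := Subgroup.mem_zpowers_iff.1
        (Subgroup.Normal.conj_mem (inferInstance : L.Normal) s (Subgroup.mem_zpowers s) t)
      have hdiv : (4 : ℤ) ∣ i + 1 := by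
        have e2 : s ^ (2 * i) ≠ 1 := by
          rw [two_mul, zpow_add, hi, show t * s * t⁻¹ * (t * s * t⁻¹) = t * (s * s) * t⁻¹ by group]
          exact fun e => hs (conj_eq_one_iff.1 e)
        rw [Ne, ← orderOf_dvd_iff_zpow_eq_one, hs4] at e2
        by_contra hne
        have h1 : (4 : ℤ) ∣ i - 1 := by omega
        have hts : t * s * t⁻¹ = s := by
          rw [← hi, show i = (i - 1) + 1 by ring, zpow_add, zpow_one,
            (orderOf_dvd_iff_zpow_eq_one.1 (by rw [hs4]; exact h1)), one_mul]
        have hc : Commute t s := by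
          have := mul_inv_eq_iff_eq_mul.1 hts
          exact this
        refine hab fun u v => ?_
        have key : ∀ w : H, Commute t w ∧ Commute s w := fun w => by
          by_cases hw : w ∈ L
          · obtain ⟨m, rfl⟩ := Subgroup.mem_zpowers_iff.1 hw
            exact ⟨hc.zpow_right m, (Commute.refl s).zpow_right m⟩
          · obtain ⟨m, rfl⟩ := hdec w hw
            exact ⟨(hc.zpow_right m).mul_right (Commute.refl t),
              ((Commute.refl s).zpow_right m).mul_right hc.symm⟩
        by_cases hu : u ∈ L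
        · obtain ⟨m, rfl⟩ := Subgroup.mem_zpowers_iff.1 hu
          exact ((key v).2.zpow_left m).eq
        · obtain ⟨m, rfl⟩ := hdec u hu
          exact (((key v).2.zpow_left m).mul_left (key v).1).eq
      have htst : t * s * t⁻¹ = s⁻¹ := by
        rw [← hi, eq_inv_iff_mul_eq_one, ← zpow_add_one, ← orderOf_dvd_iff_zpow_eq_one, hs4]
        exact hdiv
      have hout : ∀ w : H, w ∉ L → w * w = 1 := fun w hw => by
        obtain ⟨m, rfl⟩ := hdec w hw
        have e := map_zpow (MulAut.conj t) s m
        simp only [MulAut.conj_apply, htst, inv_zpow] at e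
        rw [show s ^ m * t * (s ^ m * t) = s ^ m * (t * s ^ m * t) by group,
          show t * s ^ m * t = t * s ^ m * t⁻¹ by rw [htinv], e, mul_inv_cancel]
      refine CfsgLib.Fsys.SmallEssential.false_of_line hS hF hH hrk L (fun α _ v hv => ?_)
        (fun e => htL (e ▸ Subgroup.mem_top t)) fun hle => hs ?_
      · obtain ⟨m, rfl⟩ := Subgroup.mem_zpowers_iff.1 hv
        rw [map_zpow]
        refine L.zpow_mem ?_ m
        by_contra h
        exact hs (α.injective (by rw [map_mul, map_one]; exact hout _ h))
      · have hsZ : s ∈ Subgroup.center H := hΦZ ▸ hle (Subgroup.mem_zpowers s)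
        rcases hcen s hsZ with h | h
        · rw [h, one_mul]
        · rw [h, hzz]
    · left
      refine ⟨hodd, hex, ?_⟩
      have hp2 : p ≠ 2 := fun e => by subst e; exact (by decide : ¬ Odd 2) hodd
      obtain ⟨hpowZ, hpowmul⟩ := CfsgLib.Fsys.pow_mul_of_cube hp2 hcard hna'
      let f : H →* H := MonoidHom.mk' (fun u => u ^ p) hpowmul
      by_contra hcon
      push Not at hcon
      obtain ⟨x, hx, hxp⟩ := hcon
      refine CfsgLib.Fsys.SmallEssential.false_of_line hS hF hH hrk f.ker (fun α _ v hv => ?_)
        (fun e => hxp (congrArg Subtype.val (show f ⟨x, hx⟩ = 1 from MonoidHom.mem_ker.1 (e ▸ Subgroup.mem_top _))))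
        fun hle => ?_
      · rw [MonoidHom.mem_ker] at hv ⊢
        show α v ^ p = 1
        rw [← map_pow, show v ^ p = 1 from hv, map_one]
      · have h1 : Nat.card f.range ≤ p := by
          rw [← hex.2]
          exact Subgroup.card_le_of_le (by rintro _ ⟨u, rfl⟩; exact hpowZ u)
        have h2 : Nat.card f.ker ≤ p := by
          rw [← hex.2, ← hΦZ]; exact Subgroup.card_le_of_le hle
        have h3 := f.ker.card_mul_index
        rw [Subgroup.index_ker, hcard] at h3
        have h4 := Nat.mul_le_mul h2 h1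
        rw [h3, ← pow_two, Nat.pow_le_pow_iff_right hp.one_lt] at h4
        omega

end Cfsg.Agent.S5186
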