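import Cfsg.Statements.S5187
import Cfsg.Agent.Lib.FusionSystem.SmallEssential

set_option autoImplicit false
universe u
open Cfsg

namespace Cfsg.Agent.S5187

/-- Let F be a saturated fusion system over a finite p-group S and H an abelian essential subgroup that can be generated by two elements (its Frattini quotient has order at most p²). Then H is elementary abelian of order p², or p ≤ 3 and H is homocyclic of rank two, that is isomorphic to C_{pᵏ} × C_{pᵏ} for some k. -/
theorem result {Ω : Type u} [Group Ω] {S : Subgroup Ω} [Finite S] (p : ℕ) [Fact p.Prime] (hS : IsPGroup p S)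
    (F : Cfsg.FusionSystem S) (hF : F.IsSaturated p) (H : Subgroup Ω) (hH : F.IsEssential p H) (hab : IsMulCommutative ↥H) (hrk : (frattini ↥H).index ≤ p ^ 2) :
    (Cfsg.IsElementaryAbelian p H ∧ Nat.card H = p ^ 2) ∨
      (p ≤ 3 ∧ ∃ k : ℕ, Nonempty (↥H ≃* Multiplicative (ZMod (p ^ k) × ZMod (p ^ k)))) := by
  haveI : Finite H := Finite.of_injective (Subgroup.inclusion hH.1.1) (Subgroup.inclusion_injective _)
  have hab' : ∀ a b : H, a * b = b * a := fun a b => hab.1.1 a b
  obtain ⟨k, a, b, hk1, hexp, hgen, hind⟩ :=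
    CfsgLib.Fsys.SmallEssential.exists_basis hS hF hH hab' hrk
  letI : CommGroup H := { (inferInstance : Group H) with mul_comm := hab' }
  haveI : NeZero (p ^ k) := ⟨(pow_pos (Fact.out (p := p.Prime)).pos k).ne'⟩
  have hann : ∀ u : H, zmultiplesHom (Additive H) (Additive.ofMul u) ((p ^ k : ℕ) : ℤ) = 0 := fun u => by
    simp only [zmultiplesHom_apply, natCast_zsmul]
    rw [← ofMul_pow, ← hexp, Monoid.pow_exponent_eq_one]
    rfl
  let f : ZMod (p ^ k) × ZMod (p ^ k) →+ Additive H :=
    AddMonoidHom.coprod (ZMod.lift _ ⟨_, hann a⟩) (ZMod.lift _ ⟨_, hann b⟩)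
  have hf : ∀ i j : ℤ, f ((i : ZMod (p ^ k)), (j : ZMod (p ^ k))) = Additive.ofMul (a ^ i * b ^ j) := fun i j => by
    simp [f, ofMul_mul, ofMul_zpow]
  have hbij : Function.Bijective f := by
    refine ⟨(injective_iff_map_eq_zero f).2 ?_, fun v => ?_⟩
    · rintro ⟨x, y⟩ hxy
      obtain ⟨i, rfl⟩ := ZMod.intCast_surjective x
      obtain ⟨j, rfl⟩ := ZMod.intCast_surjective y
      rw [hf] at hxy
      obtain ⟨hi, hj⟩ := hind i j (Additive.ofMul.injective hxy)
      exact Prod.ext ((ZMod.intCast_zmod_eq_zero_iff_dvd _ _).2 hi) ((ZMod.intCast_zmod_eq_zero_iff_dvd _ _).2 hj)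
    · obtain ⟨i, j, hv⟩ := hgen v.toMul
      exact ⟨((i : ZMod (p ^ k)), (j : ZMod (p ^ k))), by rw [hf, ← hv]; rfl⟩
  by_cases h5 : 5 ≤ p
  · left
    have he := CfsgLib.Fsys.SmallEssential.exponent_eq_prime hS hF hH hab' hrk h5
    refine ⟨⟨hab, fun v hv => ?_⟩, ?_⟩
    · have := congrArg Subtype.val (Monoid.pow_exponent_eq_one (⟨v, hv⟩ : H))
      rwa [he] at this
    · have hk : p ^ k = p ^ 1 := by rw [pow_one, ← hexp, he]
      have hc : Nat.card (ZMod (p ^ k) × ZMod (p ^ k)) = Nat.card H :=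
        Nat.card_congr ((Equiv.ofBijective f hbij).trans Additive.toMul)
      rw [← hc, Nat.card_prod, Nat.card_zmod, hk, pow_one, sq]
  · right
    refine ⟨?_, k, ⟨(AddEquiv.toMultiplicativeLeft (AddEquiv.ofBijective f hbij)).symm⟩⟩
    have h2 := (Fact.out (p := p.Prime)).two_le
    have h4 : p ≠ 4 := fun e => by have := (Fact.out (p := p.Prime)); subst e; norm_num at this
    omega

end Cfsg.Agent.S5187
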