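import Cfsg.Statements.S5188
import Cfsg.Agent.S5187
import Cfsg.Agent.S0106
import Cfsg.Agent.Lib.FusionSystem.GenExtraspecial
import Cfsg.Agent.Lib.FusionSystem.SmallEssential
import Cfsg.Agent.Lib.FusionSystem.CentralIndex
import Cfsg.Agent.Lib.LocalEvenB.OrderPCubed
import Cfsg.Agent.Lib.LocalEven.Residual
import Cfsg.Agent.Lib.PGroup.Kulakoff
import Cfsg.Agent.Lib.Frobenius.IndexP

set_option autoImplicit false
universe u
open Cfsg

namespace Cfsg.Agent.S5188

open Cfsg.FusionSystem CfsgLib.Fsys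
open scoped commutatorElement

section Series

variable {Ω : Type*} [Group Ω] {S : Subgroup Ω} [Finite S] {F : Cfsg.FusionSystem S} {H : Subgroup Ω}
  {p : ℕ} [hp : Fact p.Prime]

/-- An essential subgroup has no invariant series with steps of order at most `p`. -/
theorem false_of_series [Finite H] (hS : IsPGroup p S) (hF : F.IsSaturated p) (hH : F.IsEssential p H) {n : ℕ}
    (A : ℕ → Subgroup H) (h0 : A 0 = ⊥) (hn : A n = ⊤)
    (hinv : ∀ i ≤ n, ∀ α ∈ F.autGroup H, ∀ v ∈ A i, α v ∈ A i)
    (hle : ∀ i < n, A i ≤ A (i + 1)) (hidx : ∀ i < n, (A i).relIndex (A (i + 1)) ≤ p) : False := by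
  obtain ⟨t, ht, htH⟩ := SetLike.exists_of_lt (lt_normalizerIn hS (essential_lt hS hF hH))
  obtain ⟨k, hk⟩ := SmallEssential.conjAut_pow hS hH ht
  have hA := autInducedBy_le_autGroup (F := F) hH.1.1 (conjAut_mem_autInducedBy ht.2 ht.1)
  refine htH (mem_of_series hS hH.1 (essential_radical hS hH) (fun i => (A i).map H.subtype) n
    (by simp [h0]) (by simp only [hn, ← MonoidHom.range_eq_map, Subgroup.range_subtype])
    (fun i _ => Subgroup.map_subtype_le _) ?_ ht ?_)
  · rintro i hi α hα _ ⟨v, hv, rfl⟩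
    exact ⟨α v, hinv i hi α hα v hv, (autFn_coe α v).symm⟩
  · rintro i hi _ ⟨v, hv, rfl⟩
    haveI : (A i).Normal := ⟨fun w hw g => hinv i hi.le _
      (inn_le_autGroup hH.1.1 (⟨g, rfl⟩ : MulAut.conj g ∈ Inn H)) w hw⟩
    refine ⟨v⁻¹ * conjAut H ht.2 v, SmallEssential.shift_small (hS.to_le hH.1.1) (hle i hi) (hidx i hi) hk
      (hinv i hi.le _ hA) (hinv (i + 1) hi _ hA) hv, ?_⟩
    simp [conjAut_coe]

end Series

section Abstract

variable {G : Type*} [Group G] [Finite G] {p : ℕ} [hp : Fact p.Prime]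

theorem step_le {K L : Subgroup G} (hKL : K ≤ L) {a : ℕ} (hK : Nat.card K = p ^ a)
    (hL : Nat.card L = p ^ (a + 1)) : K.relIndex L ≤ p := by
  have h := (K.subgroupOf L).card_mul_index
  rw [Nat.card_congr (Subgroup.subgroupOfEquivOfLe hKL).toEquiv, hK, hL, pow_succ] at h
  exact (Nat.eq_of_mul_eq_mul_left (pow_pos hp.out.pos a) h).le

/-- The centralizer of an element with central commutators has index at most the order of the commutators. -/
theorem exists_comm_ker (d : G) (T : Subgroup G) (hT : T ≤ Subgroup.center G)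
    (h : ∀ g : G, g * d * g⁻¹ * d⁻¹ ∈ T) :
    ∃ K : Subgroup G, K.index ≤ Nat.card T ∧ ∀ g : G, g ∈ K ↔ g * d = d * g := by
  have hc : ∀ t ∈ T, ∀ g : G, g * t = t * g := fun t ht => Subgroup.mem_center_iff.1 (hT ht)
  let f : G →* T := MonoidHom.mk' (fun g => ⟨g * d * g⁻¹ * d⁻¹, h g⟩) fun g g' => by
    refine Subtype.ext ?_
    show (g * g') * d * (g * g')⁻¹ * d⁻¹ = g * d * g⁻¹ * d⁻¹ * (g' * d * g'⁻¹ * d⁻¹)
    calc (g * g') * d * (g * g')⁻¹ * d⁻¹
        = (g * (g' * d * g'⁻¹ * d⁻¹)) * d * g⁻¹ * d⁻¹ := by group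
      _ = (g' * d * g'⁻¹ * d⁻¹) * (g * d * g⁻¹ * d⁻¹) := by rw [hc _ (h g') g]; group
      _ = _ := (hc _ (h g') _).symm
  refine ⟨f.ker, ?_, fun g => ?_⟩
  · rw [Subgroup.index_ker]
    exact Subgroup.card_le_card_group _
  · rw [MonoidHom.mem_ker, Subtype.ext_iff]
    show g * d * g⁻¹ * d⁻¹ = 1 ↔ _
    rw [mul_inv_eq_one, mul_inv_eq_iff_eq_mul]

/-- A nonabelian group of order `p⁴` with abelian central quotient has centre of order `p²`. -/
theorem center_ne_prime (hc : Nat.card G = p ^ 4) (hna : ∃ a b : G, a * b ≠ b * a)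
    (hq : ∀ a b : G, a * b * a⁻¹ * b⁻¹ ∈ Subgroup.center G) : Nat.card (Subgroup.center G) ≠ p := by
  intro hZ
  obtain ⟨a, b, hab⟩ := hna
  set Z := Subgroup.center G
  obtain ⟨Ka, hKa, hKam⟩ := exists_comm_ker a Z le_rfl (fun g => hq g a)
  have hcardK : ∀ K : Subgroup G, K.index ≤ p → p ^ 3 ≤ Nat.card K := fun K hK => by
    have h := K.card_mul_index
    rw [hc] at h
    by_contra hlt
    have h2 : Nat.card K * K.index < p ^ 3 * p :=
      Nat.mul_lt_mul_of_lt_of_le (not_le.1 hlt) hK hp.out.pos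
    rw [h, ← pow_succ] at h2
    exact lt_irrefl _ h2
  have haZ : a ∉ Z := fun h => hab (Subgroup.mem_center_iff.1 h b).symm
  have hKa3 := hcardK Ka (hZ ▸ hKa)
  obtain ⟨y, hyK, hyA⟩ : ∃ y ∈ Ka, y ∉ Z ⊔ Subgroup.zpowers a := by
    by_contra h
    push Not at h
    have h1 : Nat.card Ka ≤ Nat.card (Z ⊔ Subgroup.zpowers a : Subgroup G) := Subgroup.card_le_of_le h
    have h2 : Nat.card (Z ⊔ Subgroup.zpowers a : Subgroup G) ≤ p * p := by
      have hm := (Z.subgroupOf (Z ⊔ Subgroup.zpowers a)).card_mul_index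
      rw [Nat.card_congr (Subgroup.subgroupOfEquivOfLe (le_sup_left : Z ≤ Z ⊔ Subgroup.zpowers a)).toEquiv,
        hZ] at hm
      rw [← hm]
      refine Nat.mul_le_mul_left p ?_
      show Z.relIndex (Z ⊔ Subgroup.zpowers a) ≤ p
      rw [Subgroup.relIndex_sup_left, ← QuotientGroup.ker_mk' Z, Subgroup.relIndex_ker,
        MonoidHom.map_zpowers, Nat.card_zpowers]
      refine Nat.le_of_dvd hp.out.pos (orderOf_dvd_of_pow_eq_one ?_)
      rw [← map_pow]
      refine (QuotientGroup.eq_one_iff _).2 (Subgroup.mem_center_iff.2 fun g => ?_)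
      -- `⁅g, a⁆` has order dividing `p`
      have hg : ∀ m : ℕ, g * a ^ m * g⁻¹ = a ^ m * (g * a * g⁻¹ * a⁻¹) ^ m := by
        intro m
        have hcm : Commute a (g * a * g⁻¹ * a⁻¹) := Subgroup.mem_center_iff.1 (hq g a) a
        rw [← conj_pow, ← hcm.mul_pow, hcm.eq]
        group
      have h1 := hg p
      have hp1 : (g * a * g⁻¹ * a⁻¹) ^ p = 1 := by
        have := pow_card_eq_one' (G := Z) (x := ⟨_, hq g a⟩)
        rw [hZ] at this
        exact congrArg Subtype.val this
      rw [hp1, mul_one, mul_inv_eq_iff_eq_mul] at h1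
      exact h1
    have h3 : p ^ 3 ≤ p ^ 2 := by rw [pow_two]; exact hKa3.trans (h1.trans h2)
    exact absurd ((Nat.pow_le_pow_iff_right hp.out.one_lt).1 h3) (by omega)
  obtain ⟨Ky, hKy, hKym⟩ := exists_comm_ker y Z le_rfl (fun g => hq g y)
  have hint : Ka ⊓ Ky ≤ Ka := inf_le_left
  -- the intersection of the two centralizers is abelian
  set M := Z ⊔ Subgroup.zpowers a ⊔ Subgroup.zpowers y with hM
  have hMKa : M ≤ Ka ⊓ Ky := by
    refine sup_le (sup_le (fun z hz => ⟨(hKam z).2 (Subgroup.mem_center_iff.1 hz a).symm,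
      (hKym z).2 (Subgroup.mem_center_iff.1 hz y).symm⟩) ?_) ?_
    · exact Subgroup.zpowers_le.2 ⟨(hKam a).2 rfl, (hKym a).2 ((hKam y).1 hyK).symm⟩
    · exact Subgroup.zpowers_le.2 ⟨hyK, (hKym y).2 rfl⟩
  have hM3 : p ^ 3 ≤ Nat.card M := by
    have hP : IsPGroup p G := IsPGroup.of_card hc
    obtain ⟨i, hi⟩ := IsPGroup.iff_card.1 (hP.to_subgroup (Z ⊔ Subgroup.zpowers a))
    obtain ⟨j, hj⟩ := IsPGroup.iff_card.1 (hP.to_subgroup M)
    have l1 : Nat.card Z < Nat.card (Z ⊔ Subgroup.zpowers a : Subgroup G) := by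
      refine lt_of_le_of_ne (Subgroup.card_le_of_le le_sup_left) fun e => haZ ?_
      rw [Subgroup.eq_of_le_of_card_ge (le_sup_left : Z ≤ Z ⊔ Subgroup.zpowers a) e.ge]
      exact Subgroup.mem_sup_right (Subgroup.mem_zpowers a)
    have l2 : Nat.card (Z ⊔ Subgroup.zpowers a : Subgroup G) < Nat.card M := by
      refine lt_of_le_of_ne (Subgroup.card_le_of_le le_sup_left) fun e => hyA ?_
      rw [Subgroup.eq_of_le_of_card_ge (le_sup_left : Z ⊔ Subgroup.zpowers a ≤ M) e.ge]
      exact Subgroup.mem_sup_right (Subgroup.mem_zpowers y)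
    rw [hi] at l1 l2
    rw [hj] at l2 ⊢
    rw [hZ] at l1
    have i2 := (Nat.pow_lt_pow_iff_right hp.out.one_lt).1 (show p ^ 1 < p ^ i by rwa [pow_one])
    have j2 := (Nat.pow_lt_pow_iff_right hp.out.one_lt).1 l2
    exact Nat.pow_le_pow_right hp.out.pos (by omega)
  have hMab : ∀ u ∈ M, ∀ v ∈ M, u * v = v * u := by
    intro u hu v hv
    have hv' := hMKa hv
    have : M ≤ Subgroup.centralizer {v} := by
      refine sup_le (sup_le (fun z hz => Subgroup.mem_centralizer_singleton_iff.2 ?_) ?_) ?_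
      · exact ((Subgroup.mem_center_iff.1 hz v)).symm
      · exact Subgroup.zpowers_le.2 (Subgroup.mem_centralizer_singleton_iff.2 ((hKam v).1 hv'.1).symm)
      · exact Subgroup.zpowers_le.2 (Subgroup.mem_centralizer_singleton_iff.2 ((hKym v).1 hv'.2).symm)
    exact Subgroup.mem_centralizer_singleton_iff.1 (this hu)
  obtain ⟨t, ht⟩ : ∃ t, t ∉ M := by
    by_contra h
    push Not at h
    exact hab (hMab a (h a) b (h b))
  obtain ⟨Kt, hKt, hKtm⟩ := exists_comm_ker t Z le_rfl (fun g => hq g t)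
  have hMn : M.Normal := ⟨fun m hm g => by
    rw [show g * m * g⁻¹ = g * m * g⁻¹ * m⁻¹ * m by group]
    exact M.mul_mem (Subgroup.mem_sup_left (Subgroup.mem_sup_left (hq g m))) hm⟩
  have hMi : M.index ≤ p := by
    have h := M.card_mul_index
    rw [hc] at h
    refine Nat.le_of_mul_le_mul_left ?_ (pow_pos hp.out.pos 3)
    rw [← pow_succ, ← h]
    exact Nat.mul_le_mul_right _ hM3
  have htop : M ⊔ Subgroup.zpowers t = ⊤ := by
    rw [← Subgroup.index_eq_one]
    have hlt : (M ⊔ Subgroup.zpowers t).index < M.index := Subgroup.index_strictAnti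
      (lt_of_le_of_ne le_sup_left fun e => ht (e ▸ Subgroup.mem_sup_right (Subgroup.mem_zpowers t)))
    obtain ⟨i, hi⟩ := (IsPGroup.of_card hc).index (M ⊔ Subgroup.zpowers t)
    rcases Nat.eq_zero_or_pos i with rfl | hi0
    · rw [hi, pow_zero]
    · have := Nat.pow_le_pow_right hp.out.pos hi0
      rw [pow_one, ← hi] at this
      omega
  have hZbig : M ⊓ Kt ≤ Z := by
    intro u hu
    refine Subgroup.mem_center_iff.2 fun g => ?_
    obtain ⟨m, hm, v, hv, rfl⟩ := Subgroup.mem_sup_of_normal_left.1 (htop ▸ Subgroup.mem_top g)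
    obtain ⟨i, rfl⟩ := Subgroup.mem_zpowers_iff.1 hv
    have c1 : Commute m u := hMab m hm u hu.1
    have c2 : Commute t u := ((hKtm u).1 hu.2).symm
    exact (c1.mul_left (c2.zpow_left i)).eq
  have h1 := (Subgroup.index_antitone hZbig).trans (Subgroup.index_inf_le (H := M) (K := Kt))
  have h2 := Z.card_mul_index
  rw [hZ, hc] at h2
  have h3 : p ^ 4 ≤ p ^ 3 := by
    rw [← h2]
    calc p * Z.index ≤ p * (p * p) := Nat.mul_le_mul_left p (h1.trans (Nat.mul_le_mul hMi (hZ ▸ hKt)))
      _ = p ^ 3 := by ring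
  exact absurd ((Nat.pow_le_pow_iff_right hp.out.one_lt).1 h3) (by omega)

theorem frattini_exists_maximal {w : G} (hw : w ∉ frattini G) : ∃ M : Subgroup G, IsCoatom M ∧ w ∉ M := by
  by_contra h
  push Not at h
  refine hw ?_
  rw [frattini, Order.radical, Subgroup.mem_iInf]
  intro M
  rw [Subgroup.mem_iInf]
  exact fun hM => h M hM

/-- An abelian group of order `p⁴` with Frattini subgroup of order `p`. -/
theorem abelian_iso {G : Type*} [CommGroup G] [Finite G] (hG : Nat.card G = p ^ 4)
    (hΦ : Nat.card (frattini G) = p) :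
    Nonempty (G ≃* Multiplicative (ZMod (p ^ 2) × ZMod p × ZMod p)) := by
  have hP : IsPGroup p G := IsPGroup.of_card hG
  have hpow : ∀ v : G, v ^ p ∈ frattini G := CfsgLib.PGroup.Frattini.pow_mem_frattini hP
  have hp2 : ∀ v : G, v ^ (p ^ 2) = 1 := fun v => by
    have := pow_card_eq_one' (G := frattini G) (x := ⟨_, hpow v⟩)
    rw [hΦ] at this
    rw [pow_two, pow_mul]
    exact congrArg Subtype.val this
  obtain ⟨x, hx⟩ : ∃ x : G, x ^ p ≠ 1 := by
    by_contra h
    push Not at h
    have hle : frattini G ≤ ⊥ := CfsgLib.LocalEven.Residual.frattini_le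
      (fun a b => by rw [commutatorElement_eq_one_iff_mul_comm.2 (mul_comm a b)]; exact one_mem _)
      fun v => by rw [h v]; exact one_mem _
    rw [le_bot_iff.1 hle, Subgroup.card_bot] at hΦ
    exact hp.out.ne_one hΦ.symm
  let W : Subgroup G := (powMonoidHom p : G →* G).ker
  have hWm : ∀ v : G, v ∈ W ↔ v ^ p = 1 := fun v => MonoidHom.mem_ker
  have hgenΦ : frattini G = Subgroup.zpowers (x ^ p) := by
    refine (Subgroup.eq_of_le_of_card_ge (Subgroup.zpowers_le.2 (hpow x)) ?_).symm
    rw [hΦ, Nat.card_zpowers, orderOf_eq_prime (by rw [← pow_mul, ← pow_two, hp2]) hx]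
  have hWcard : p ^ 3 ≤ Nat.card W := by
    have h := W.card_mul_index
    have hle : W.index ≤ p := by
      show (powMonoidHom p : G →* G).ker.index ≤ p
      rw [Subgroup.index_ker]
      refine (Subgroup.card_le_of_le (K := frattini G) ?_).trans hΦ.le
      rintro _ ⟨u, rfl⟩
      exact hpow u
    rw [hG] at h
    refine Nat.le_of_mul_le_mul_right ?_ hp.out.pos
    rw [← pow_succ, ← h]
    exact Nat.mul_le_mul_left _ hle
  have hpick : ∀ M : Subgroup G, Nat.card M < p ^ 3 → ∃ w ∈ W, w ∉ M := fun M hM => by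
    by_contra h
    push Not at h
    exact absurd (hWcard.trans (Subgroup.card_le_of_le h)) (not_le.2 hM)
  have hz1 : Nat.card (Subgroup.zpowers (x ^ p)) = p := hgenΦ ▸ hΦ
  have h13 : p < p ^ 3 := by
    conv_lhs => rw [← pow_one p]
    exact Nat.pow_lt_pow_right hp.out.one_lt (by omega)
  obtain ⟨w₁, hw₁, hw₁n⟩ := hpick _ (hz1.trans_lt h13)
  have hcard2 : Nat.card (Subgroup.zpowers (x ^ p) ⊔ Subgroup.zpowers w₁ : Subgroup G) < p ^ 3 := by
    have h := ((Subgroup.zpowers (x ^ p)).subgroupOf (Subgroup.zpowers (x ^ p) ⊔ Subgroup.zpowers w₁)).card_mul_index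
    rw [Nat.card_congr (Subgroup.subgroupOfEquivOfLe (le_sup_left : Subgroup.zpowers (x ^ p) ≤ _)).toEquiv, hz1] at h
    rw [← h]
    have hle : ((Subgroup.zpowers (x ^ p)).subgroupOf (Subgroup.zpowers (x ^ p) ⊔ Subgroup.zpowers w₁)).index ≤ p := by
      show (Subgroup.zpowers (x ^ p)).relIndex _ ≤ p
      rw [Subgroup.relIndex_sup_left, ← QuotientGroup.ker_mk' (Subgroup.zpowers (x ^ p)), Subgroup.relIndex_ker,
        MonoidHom.map_zpowers, Nat.card_zpowers]
      refine Nat.le_of_dvd hp.out.pos (orderOf_dvd_of_pow_eq_one ?_)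
      rw [← map_pow, (hWm w₁).1 hw₁, map_one]
    calc _ ≤ p * p := Nat.mul_le_mul_left p hle
      _ < p ^ 3 := by rw [← pow_two]; exact Nat.pow_lt_pow_right hp.out.one_lt (by omega)
  obtain ⟨w₂, hw₂, hw₂n⟩ := hpick _ hcard2
  set R := Subgroup.zpowers (x ^ p) ⊔ Subgroup.zpowers w₁ ⊔ Subgroup.zpowers w₂ with hR
  have hRW : R ≤ W := sup_le (sup_le (Subgroup.zpowers_le.2 ((hWm _).2 (by rw [← pow_mul, ← pow_two, hp2])))
    (Subgroup.zpowers_le.2 hw₁)) (Subgroup.zpowers_le.2 hw₂)
  have hWR : W ≤ R := by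
    have hWlt : Nat.card W ≤ p ^ 3 := by
      have h := W.card_mul_index
      rw [hG] at h
      obtain ⟨j, hj⟩ := IsPGroup.iff_card.1 (hP.to_subgroup W)
      rw [hj] at h ⊢
      refine Nat.pow_le_pow_right hp.out.pos ?_
      by_contra hj4
      have hne : W ≠ ⊤ := fun e => hx ((hWm x).1 (e ▸ Subgroup.mem_top x))
      obtain ⟨i, hi⟩ := hP.index W
      rw [hi, ← pow_add] at h
      have hji := Nat.pow_right_injective hp.out.two_le h
      exact hne (Subgroup.index_eq_one.1 (by rw [hi, show i = 0 by omega, pow_zero]))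
    obtain ⟨i, hi⟩ := IsPGroup.iff_card.1 (hP.to_subgroup (Subgroup.zpowers (x ^ p) ⊔ Subgroup.zpowers w₁))
    obtain ⟨j, hj⟩ := IsPGroup.iff_card.1 (hP.to_subgroup R)
    have l1 : Nat.card (Subgroup.zpowers (x ^ p)) < Nat.card (Subgroup.zpowers (x ^ p) ⊔ Subgroup.zpowers w₁ : Subgroup G) := by
      refine lt_of_le_of_ne (Subgroup.card_le_of_le le_sup_left) fun e => hw₁n ?_
      rw [Subgroup.eq_of_le_of_card_ge
        (le_sup_left : Subgroup.zpowers (x ^ p) ≤ Subgroup.zpowers (x ^ p) ⊔ Subgroup.zpowers w₁) e.ge]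
      exact Subgroup.mem_sup_right (Subgroup.mem_zpowers w₁)
    have l2 : Nat.card (Subgroup.zpowers (x ^ p) ⊔ Subgroup.zpowers w₁ : Subgroup G) < Nat.card R := by
      refine lt_of_le_of_ne (Subgroup.card_le_of_le le_sup_left) fun e => hw₂n ?_
      rw [Subgroup.eq_of_le_of_card_ge (le_sup_left : _ ≤ R) e.ge]
      exact Subgroup.mem_sup_right (Subgroup.mem_zpowers w₂)
    rw [hi, hz1] at l1
    rw [hi, hj] at l2
    have i2 := (Nat.pow_lt_pow_iff_right hp.out.one_lt).1 (show p ^ 1 < p ^ i by rwa [pow_one])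
    have j2 := (Nat.pow_lt_pow_iff_right hp.out.one_lt).1 l2
    exact (Subgroup.eq_of_le_of_card_ge hRW (hWlt.trans (hj ▸ Nat.pow_le_pow_right hp.out.pos (by omega)))).ge
  haveI : NeZero (p ^ 2) := ⟨(pow_pos hp.out.pos 2).ne'⟩
  let g : ∀ (n : ℕ) (u : G), u ^ n = 1 → (ZMod n →+ Additive G) := fun n u hu =>
    ZMod.lift n ⟨zmultiplesHom (Additive G) (Additive.ofMul u), by
      simp only [zmultiplesHom_apply, natCast_zsmul]
      rw [← ofMul_pow, hu]; rfl⟩
  have hg : ∀ (n : ℕ) (u : G) (hu : u ^ n = 1), g n u hu 1 = Additive.ofMul u := fun n u hu => by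
    simp only [g]
    rw [show (1 : ZMod n) = ((1 : ℤ) : ZMod n) from Int.cast_one.symm, ZMod.lift_coe]
    simp
  let f : ZMod (p ^ 2) × ZMod p × ZMod p →+ Additive G :=
    AddMonoidHom.coprod (g _ x (hp2 x)) (AddMonoidHom.coprod (g p w₁ ((hWm _).1 hw₁)) (g p w₂ ((hWm _).1 hw₂)))
  have hsurj : Function.Surjective f := by
    rw [← AddMonoidHom.range_eq_top, eq_top_iff]
    let Rg : Subgroup G := AddSubgroup.toSubgroup' f.range
    have hmem : ∀ u : G, u ∈ Rg ↔ Additive.ofMul u ∈ f.range := fun u => Iff.rfl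
    have h1 : x ∈ Rg := (hmem x).2 ⟨(1, 0, 0), by simp [f, hg]⟩
    have h2 : w₁ ∈ Rg := (hmem w₁).2 ⟨(0, 1, 0), by simp [f, hg]⟩
    have h3 : w₂ ∈ Rg := (hmem w₂).2 ⟨(0, 0, 1), by simp [f, hg]⟩
    have hW' : W ≤ Rg := hWR.trans (sup_le (sup_le (Subgroup.zpowers_le.2 (Rg.pow_mem h1 p))
      (Subgroup.zpowers_le.2 h2)) (Subgroup.zpowers_le.2 h3))
    intro v _
    have hv : v.toMul ∈ Rg := by
      obtain ⟨k, hk⟩ := Subgroup.mem_zpowers_iff.1 (hgenΦ.le (hpow v.toMul))
      have h4 : v.toMul * (x ^ k)⁻¹ ∈ W := (hWm _).2 (by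
        rw [mul_pow, inv_pow, ← zpow_natCast (x ^ k), ← zpow_mul, mul_comm k, zpow_mul, zpow_natCast x, hk,
          mul_inv_cancel])
      have := Rg.mul_mem (hW' h4) (Rg.zpow_mem h1 k)
      rwa [inv_mul_cancel_right] at this
    exact (hmem _).1 hv
  have hc : Nat.card (ZMod (p ^ 2) × ZMod p × ZMod p) = Nat.card (Additive G) := by
    rw [Nat.card_prod, Nat.card_prod, Nat.card_zmod, Nat.card_zmod]
    show p ^ 2 * (p * p) = Nat.card G
    rw [hG]; ring
  have hbij : Function.Bijective f := (Nat.bijective_iff_surjective_and_card f).2 ⟨hsurj, hc⟩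
  exact ⟨(AddEquiv.toMultiplicativeLeft (AddEquiv.ofBijective f hbij)).symm⟩

end Abstract

/-- Let F be a saturated fusion system over a finite p-group S and H an essential subgroup of order p⁴. Then H is isomorphic to one of: C_p⁴ or C_{p²} × C_p × C_p (any p); C_{p²} × C_{p²} with p ∈ {2, 3}; p^{1+2}_+ × C_p with p odd (the direct product of an extraspecial group of order p³ and exponent p with a group of order p); Q₈ × C₂ (p = 2); or the non-abelian group of order p⁴ of exponent p² whose centre is cyclic of order p² (the central product of an extraspecial group of order p³ with a cyclic group of order p²; for p = 2 this is D₈ ∘ C₄). -/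
theorem result {Ω : Type u} [Group Ω] {S : Subgroup Ω} [Finite S] (p : ℕ) [Fact p.Prime] (hS : IsPGroup p S)
    (F : Cfsg.FusionSystem S) (hF : F.IsSaturated p) (H : Subgroup Ω) (hH : F.IsEssential p H) (hcard : Nat.card H = p ^ 4) :
    Cfsg.IsElementaryAbelian p H ∨
      Nonempty (↥H ≃* Multiplicative (ZMod (p ^ 2) × ZMod p × ZMod p)) ∨
      ((p = 2 ∨ p = 3) ∧ Nonempty (↥H ≃* Multiplicative (ZMod (p ^ 2) × ZMod (p ^ 2)))) ∨
      (Odd p ∧ ∃ (E : Type) (_ : Group E) (_ : Finite E), Cfsg.IsExtraspecial p E ∧ Nat.card E = p ^ 3 ∧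
        (∀ x : E, x ^ p = 1) ∧ Nonempty (↥H ≃* E × Multiplicative (ZMod p))) ∨
      (p = 2 ∧ Nonempty (↥H ≃* QuaternionGroup 2 × Multiplicative (ZMod 2))) ∨
      (¬ IsMulCommutative ↥H ∧ (∀ x ∈ H, x ^ (p ^ 2) = 1) ∧ IsCyclic ↥(Subgroup.center ↥H) ∧
        Nat.card (Subgroup.center ↥H) = p ^ 2) := by
  classical
  have hp : p.Prime := Fact.out
  haveI : Finite H := Finite.of_injective (Subgroup.inclusion hH.1.1) (Subgroup.inclusion_injective _)
  have hHp : IsPGroup p H := hS.to_le hH.1.1
  set Φ := frattini ↥H with hΦdef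
  obtain ⟨j, hj⟩ := IsPGroup.iff_card.1 (hHp.to_subgroup Φ)
  by_cases hab : ∀ a b : H, a * b = b * a
  · have hab' : IsMulCommutative H := ⟨⟨hab⟩⟩
    by_cases hrk : Φ.index ≤ p ^ 2
    · refine Or.inr (Or.inr (Or.inl ?_))
      rcases Cfsg.Agent.S5187.result p hS F hF H hH hab' hrk with ⟨-, h⟩ | ⟨h3, k, ⟨e⟩⟩
      · rw [hcard] at h
        exact absurd (Nat.pow_right_injective hp.two_le h) (by omega)
      · refine ⟨by have := hp.two_le; omega, ?_⟩
        haveI : NeZero (p ^ k) := ⟨(pow_pos hp.pos k).ne'⟩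
        have hc := Nat.card_congr e.toEquiv
        rw [hcard, Nat.card_congr Multiplicative.toAdd, Nat.card_prod, Nat.card_zmod, ← pow_add] at hc
        have := Nat.pow_right_injective hp.two_le hc
        rw [show k = 2 by omega] at e
        exact ⟨e⟩
    · have hmul := Φ.card_mul_index
      rw [hj, hcard] at hmul
      obtain ⟨i, hi⟩ := hHp.index Φ
      rw [hi, ← pow_add] at hmul
      have hsum := Nat.pow_right_injective hp.two_le hmul
      rw [hi, Nat.pow_le_pow_iff_right hp.one_lt] at hrk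
      rcases (show j = 0 ∨ j = 1 by omega) with rfl | rfl
      · refine Or.inl ⟨hab', fun v hv => ?_⟩
        have h := CfsgLib.PGroup.Frattini.pow_mem_frattini (p := p) hHp ⟨v, hv⟩
        rw [pow_zero, Subgroup.card_eq_one] at hj
        rw [← hΦdef, hj, Subgroup.mem_bot] at h
        exact congrArg Subtype.val h
      · letI : CommGroup H := { (inferInstance : Group H) with mul_comm := hab }
        exact Or.inr (Or.inl (abelian_iso hcard (by rw [← pow_one p]; exact hj)))
  -- nonabelian
  have hna : ∃ a b : H, a * b ≠ b * a := by simpa only [not_forall] using hab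
  set Z := Subgroup.center H with hZdef
  obtain ⟨z, hz⟩ := IsPGroup.iff_card.1 (hHp.to_subgroup Z)
  have hinvZ : ∀ α : MulAut H, ∀ v ∈ Z, α v ∈ Z := fun α v hv => MulEquivClass.apply_mem_center α hv
  have hZi : ∀ i, Z.index = p ^ i → i ≥ 2 := by
    intro i hi
    by_contra hlt
    obtain ⟨a, b, hne⟩ := hna
    rcases (show i = 0 ∨ i = 1 by omega) with rfl | rfl
    · have ht : Z = ⊤ := Subgroup.index_eq_one.1 (by rw [hi, pow_zero])
      exact hne (Subgroup.mem_center_iff.1 (show b ∈ Z by rw [ht]; exact Subgroup.mem_top b) a)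
    · haveI : IsCyclic (H ⧸ Z) := isCyclic_of_prime_card (p := p) (by rw [← Subgroup.index_eq_card, hi, pow_one])
      exact hne (commutative_of_cyclic_center_quotient (QuotientGroup.mk' Z) (by rw [QuotientGroup.ker_mk']) a b)
  obtain ⟨zi, hzi⟩ := hHp.index Z
  have hz4 : z + zi = 4 := Nat.pow_right_injective hp.two_le (by
    show p ^ (z + zi) = p ^ 4
    rw [pow_add, ← hz, ← hzi, Subgroup.card_mul_index, hcard])
  have hzi2 := hZi zi hzi
  have hz0 : z ≠ 0 := fun e => by
    haveI : Nontrivial H := Finite.one_lt_card_iff_nontrivial.1 (hcard ▸ Nat.one_lt_pow (by omega) hp.one_lt)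
    haveI := hHp.center_nontrivial
    have h1 := Finite.one_lt_card (α := Subgroup.center H)
    rw [← hZdef, hz, e, pow_zero] at h1
    omega
  rcases (show z = 1 ∨ z = 2 by omega) with rfl | rfl
  · -- centre of order `p`: maximal class
    exfalso
    rw [pow_one] at hz
    by_cases hq : ∀ a b : H, a * b * a⁻¹ * b⁻¹ ∈ Z
    · exact center_ne_prime hcard hna hq hz
    haveI : Nontrivial (H ⧸ Z) := QuotientGroup.nontrivial_iff.2 (fun e => by
      push Not at hq
      obtain ⟨a, b, hne⟩ := hq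
      exact hne (e ▸ Subgroup.mem_top _))
    have hq3 : Nat.card (H ⧸ Z) = p ^ 3 := by rw [← Subgroup.index_eq_card, hzi, show zi = 3 by omega]
    have hnq : ∃ a b : H ⧸ Z, a * b ≠ b * a := by
      by_contra h
      push Not at h
      refine hq fun a b => (QuotientGroup.eq_one_iff _).1 ?_
      simp only [QuotientGroup.mk_mul, QuotientGroup.mk_inv]
      rw [h (a : H ⧸ Z)]
      group
    have hcq := CfsgLib.LocalEvenB.OrderPCubed.card_center hq3 hnq
    set D := (Subgroup.center (H ⧸ Z)).comap (QuotientGroup.mk' Z) with hDdef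
    have hDm : ∀ v, v ∈ D ↔ ∀ g : H, g * v * g⁻¹ * v⁻¹ ∈ Z := fun v => by
      rw [hDdef, Subgroup.mem_comap, Subgroup.mem_center_iff]
      refine ⟨fun h g => (QuotientGroup.eq_one_iff _).1 ?_, fun h q => ?_⟩
      · simp only [QuotientGroup.mk_mul, QuotientGroup.mk_inv]
        have := h (g : H ⧸ Z)
        rw [QuotientGroup.mk'_apply] at this
        rw [this]
        group
      · obtain ⟨g, rfl⟩ := QuotientGroup.mk_surjective q
        have := (QuotientGroup.eq_one_iff _).2 (h g)
        simp only [QuotientGroup.mk_mul, QuotientGroup.mk_inv] at this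
        rw [mul_inv_eq_one, mul_inv_eq_iff_eq_mul] at this
        exact this
    have hZD : Z ≤ D := fun v hv => (hDm v).2 fun g => by
      rw [Subgroup.mem_center_iff.1 hv g, mul_inv_cancel_right, mul_inv_cancel]; exact Z.one_mem
    have hDcard : Nat.card D = p ^ 2 := by
      have h1 : Z.relIndex D = p := by
        conv_lhs => rw [← QuotientGroup.ker_mk' Z, hDdef]
        rw [Subgroup.relIndex_ker, Subgroup.map_comap_eq_self_of_surjective (QuotientGroup.mk'_surjective Z), hcq]
      have h2 := (Z.subgroupOf D).card_mul_index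
      rw [Nat.card_congr (Subgroup.subgroupOfEquivOfLe hZD).toEquiv, hz, show (Z.subgroupOf D).index = p from h1] at h2
      rw [← h2, pow_two]
    obtain ⟨d, hd, hdZ⟩ : ∃ d ∈ D, d ∉ Z := by
      by_contra h
      push Not at h
      have := Subgroup.card_le_of_le h
      rw [hDcard, hz] at this
      have := hp.two_le
      nlinarith
    obtain ⟨K, hK, hKm⟩ := exists_comm_ker d Z le_rfl ((hDm d).1 hd)
    have hKtop : K ≠ ⊤ := fun e => hdZ (Subgroup.mem_center_iff.2 fun g => (hKm g).1 (e ▸ Subgroup.mem_top g))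
    have hKcard : Nat.card K = p ^ 3 := by
      obtain ⟨i, hi⟩ := hHp.index K
      have h := K.card_mul_index
      rw [hz] at hK
      have hi1 : i = 1 := by
        have hi0 : i ≠ 0 := fun e => hKtop (Subgroup.index_eq_one.1 (by rw [hi, e, pow_zero]))
        have h' : p ^ i ≤ p ^ 1 := by rw [pow_one, ← hi]; exact hK
        have := (Nat.pow_le_pow_iff_right hp.one_lt).1 h'
        omega
      rw [hi, hi1, pow_one, hcard, pow_succ] at h
      exact Nat.eq_of_mul_eq_mul_right hp.pos h
    haveI : IsMulCommutative D := IsPGroup.isMulCommutative_of_card_eq_prime_sq hDcard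
    have hDab : ∀ u ∈ D, ∀ v ∈ D, u * v = v * u := fun u hu v hv =>
      congrArg Subtype.val ((IsPGroup.isMulCommutative_of_card_eq_prime_sq hDcard).1.1 ⟨u, hu⟩ ⟨v, hv⟩)
    have hDK : D ≤ K := fun v hv => (hKm v).2 (hDab v hv d hd)
    have hKC : K = Subgroup.centralizer (D : Set H) := by
      refine le_antisymm (fun g hg => Subgroup.mem_centralizer_iff.2 fun v hv => ?_)
        fun g hg => (hKm g).2 (Subgroup.mem_centralizer_iff.1 hg d hd).symm
      have hgen : D ≤ Z ⊔ Subgroup.zpowers d := by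
        refine (Subgroup.eq_of_le_of_card_ge (sup_le hZD (Subgroup.zpowers_le.2 hd)) ?_).ge
        rw [hDcard]
        obtain ⟨i, hi⟩ := IsPGroup.iff_card.1 (hHp.to_subgroup (Z ⊔ Subgroup.zpowers d))
        rw [hi]
        refine Nat.pow_le_pow_right hp.pos ?_
        by_contra hlt
        refine hdZ ?_
        rw [Subgroup.eq_of_le_of_card_ge (le_sup_left : Z ≤ Z ⊔ Subgroup.zpowers d)
          (by rw [hi, hz]; calc p ^ i ≤ p ^ 1 := Nat.pow_le_pow_right hp.pos (by omega)
                                _ = p := pow_one p)]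
        exact Subgroup.mem_sup_right (Subgroup.mem_zpowers d)
      have hle : Z ⊔ Subgroup.zpowers d ≤ Subgroup.centralizer {g} := sup_le
        (fun z hz => Subgroup.mem_centralizer_singleton_iff.2 (Subgroup.mem_center_iff.1 hz g).symm)
        (Subgroup.zpowers_le.2 (Subgroup.mem_centralizer_singleton_iff.2 ((hKm g).1 hg).symm))
      exact Subgroup.mem_centralizer_singleton_iff.1 (hle (hgen hv))
    have hinvD : ∀ α : MulAut H, ∀ v ∈ D, α v ∈ D := fun α v hv => (hDm _).2 fun g => by
      have := hinvZ α _ ((hDm v).1 hv (α⁻¹ g))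
      simpa [map_mul, map_inv] using this
    have hinvK : ∀ α : MulAut H, ∀ v ∈ K, α v ∈ K := fun α v hv => by
      rw [hKC] at hv ⊢
      refine Subgroup.mem_centralizer_iff.2 fun u hu => ?_
      have := congrArg α (Subgroup.mem_centralizer_iff.1 hv (α⁻¹ u) (hinvD α⁻¹ u hu))
      simpa [map_mul] using this
    refine false_of_series hS hF hH (n := 4)
      (fun i => if i = 0 then ⊥ else if i = 1 then Z else if i = 2 then D else if i = 3 then K else ⊤)
      (if_pos rfl) (by norm_num) ?_ ?_ ?_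
    · intro i hi α _ v hv
      interval_cases i
      · simp at hv ⊢; exact hv
      · simpa using hinvZ α v (by simpa using hv)
      · simpa using hinvD α v (by simpa using hv)
      · simpa using hinvK α v (by simpa using hv)
      · simp
    · intro i hi
      interval_cases i <;> simp [hZD, hDK]
    · intro i hi
      interval_cases i
      · simp [hz]
      · simp only [one_ne_zero, if_false, if_true, OfNat.ofNat_ne_zero, OfNat.ofNat_ne_one]
        exact step_le hZD (a := 1) (by rw [hz, pow_one]) hDcard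
      · norm_num
        exact step_le hDK (a := 2) hDcard hKcard
      · norm_num
        obtain ⟨l, hl⟩ := hHp.index K
        have h := K.card_mul_index
        rw [hKcard, hcard, pow_succ] at h
        exact (Nat.eq_of_mul_eq_mul_left (pow_pos hp.pos 3) h).le
  -- centre of order `p²`
  have hidx : Z.index = p ^ 2 := by rw [hzi, show zi = 2 by omega]
  obtain ⟨a₀, b₀, hab₀⟩ := hna
  have hcc := CfsgLib.Fsys.CentralIndex.comm_mem_center hidx
  have hpowZ := CfsgLib.Fsys.CentralIndex.pow_mem_center hidx ⟨a₀, b₀, hab₀⟩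
  set C := Subgroup.zpowers ⁅a₀, b₀⁆ with hCdef
  have hCZ : C ≤ Z := Subgroup.zpowers_le.2 (hcc a₀ b₀)
  have hcomm : ∀ g h : H, ⁅g, h⁆ ∈ C := CfsgLib.Fsys.CentralIndex.comm_mem_zpowers hidx hab₀
  have hCcard : Nat.card C = p := by
    rw [hCdef, Nat.card_zpowers, orderOf_eq_prime (CfsgLib.Fsys.CentralIndex.comm_pow_p hidx ⟨a₀, b₀, hab₀⟩ a₀ b₀)
      fun e => hab₀ (commutatorElement_eq_one_iff_mul_comm.1 e)]
  have hCcomm : C = commutator H := le_antisymm
    (Subgroup.zpowers_le.2 (Subgroup.commutator_mem_commutator (Subgroup.mem_top _) (Subgroup.mem_top _)))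
    (by rw [commutator_def, Subgroup.commutator_le]; exact fun g _ h _ => hcomm g h)
  have hCinv : ∀ α : MulAut H, ∀ v ∈ C, α v ∈ C := fun α v hv => by
    obtain ⟨i, rfl⟩ := Subgroup.mem_zpowers_iff.1 hv
    rw [map_zpow, map_commutatorElement]
    exact C.zpow_mem (hcomm _ _) i
  haveI hCn : C.Normal := ⟨fun v hv g => by
    rw [Subgroup.mem_center_iff.1 (hCZ hv) g, mul_inv_cancel_right]; exact hv⟩
  have hΦC : C ≤ Φ := hCcomm ▸ CfsgLib.PGroup.Kulakoff.commutator_le_frattini hHp
  have hΦZ : Φ ≤ Z := CfsgLib.LocalEven.Residual.frattini_le (fun a b => hcc a b) hpowZ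
  have hLcard : ∀ (L : Subgroup H), L.index ≤ p → L ≠ ⊤ → Nat.card L = p ^ 3 := by
    intro L hL hne
    obtain ⟨i, hi⟩ := hHp.index L
    have hi0 : i ≠ 0 := fun e => hne (Subgroup.index_eq_one.1 (by rw [hi, e, pow_zero]))
    rw [hi, ← pow_one p, ← pow_mul, Nat.pow_le_pow_iff_right hp.one_lt] at hL
    have h := L.card_mul_index
    rw [hi, show i = 1 by omega, pow_one, hcard, pow_succ] at h
    exact Nat.eq_of_mul_eq_mul_right hp.pos h
  have hseries : ∀ L : Subgroup H, (∀ α : MulAut H, ∀ v ∈ L, α v ∈ L) → Z ≤ L → L.index ≤ p → L ≠ ⊤ → False := by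
    intro L hinvL hZL hL hne
    have hL3 := hLcard L hL hne
    refine false_of_series hS hF hH (n := 4)
      (fun i => if i = 0 then ⊥ else if i = 1 then C else if i = 2 then Z else if i = 3 then L else ⊤)
      (if_pos rfl) (by norm_num) ?_ ?_ ?_
    · intro i hi α _ v hv
      interval_cases i
      · simp at hv ⊢; exact hv
      · simpa using hCinv α v (by simpa using hv)
      · simpa using hinvZ α v (by simpa using hv)
      · simpa using hinvL α v (by simpa using hv)
      · simp
    · intro i hi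
      interval_cases i <;> simp [hCZ, hZL]
    · intro i hi
      interval_cases i
      · simp [hCcard]
      · norm_num
        exact step_le hCZ (a := 1) (by rw [hCcard, pow_one]) hz
      · norm_num
        exact step_le hZL (a := 2) hz hL3
      · norm_num
        exact hL
  -- the power map modulo commutators
  let π := QuotientGroup.mk' C
  have hπ : ∀ g h : H, Commute (π g) (π h) := fun g h => by
    rw [Commute, SemiconjBy, ← commutatorElement_eq_one_iff_mul_comm, ← map_commutatorElement]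
    exact (QuotientGroup.eq_one_iff _).2 (hcomm g h)
  let L₁ : Subgroup H :=
    { carrier := {g | π g ^ p = 1}
      one_mem' := by simp
      mul_mem' := fun {g h} hg hh => by
        show π (g * h) ^ p = 1
        rw [map_mul, (hπ g h).mul_pow, hg, hh, one_mul]
      inv_mem' := fun {g} hg => by
        show π g⁻¹ ^ p = 1
        rw [map_inv, inv_pow, hg, inv_one] }
  have hL₁m : ∀ g, g ∈ L₁ ↔ g ^ p ∈ C := fun g => by
    show π g ^ p = 1 ↔ _
    rw [← map_pow]
    exact QuotientGroup.eq_one_iff _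
  have hΦcard : Φ = C := by
    by_contra hne
    have hΦ2 : Φ = Z := by
      refine Subgroup.eq_of_le_of_card_ge hΦZ ?_
      rw [hz, hj]
      refine Nat.pow_le_pow_right hp.pos ?_
      by_contra hlt
      refine hne (Subgroup.eq_of_le_of_card_ge hΦC ?_).symm
      rw [hCcard, hj]
      calc p ^ j ≤ p ^ 1 := Nat.pow_le_pow_right hp.pos (by omega)
        _ = p := pow_one p
    have hL₁top : L₁ ≠ ⊤ := fun e => hne (le_antisymm
      (CfsgLib.LocalEven.Residual.frattini_le hcomm fun g => (hL₁m g).1 (e ▸ Subgroup.mem_top g)) hΦC)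
    have hidx₁ : L₁.index ≤ p := by
      let f : H →* H ⧸ C := MonoidHom.mk' (fun g => π g ^ p) fun g h => by rw [map_mul, (hπ g h).mul_pow]
      have hker : L₁ = f.ker := rfl
      rw [hker, Subgroup.index_ker]
      have hle : f.range ≤ Z.map π := by
        rintro _ ⟨g, rfl⟩
        exact ⟨g ^ p, hpowZ g, map_pow π g p⟩
      refine (Subgroup.card_le_of_le hle).trans ?_
      rw [← Subgroup.relIndex_ker, QuotientGroup.ker_mk']
      exact step_le hCZ (a := 1) (by rw [hCcard, pow_one]) hz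
    refine hseries L₁ (fun α v hv => ?_) (fun v hv => ?_) hidx₁ hL₁top
    · rw [hL₁m] at hv ⊢
      rw [← map_pow]; exact hCinv α _ hv
    · -- the centre: `z ^ p` for `z ∈ Φ = ⟨commutators, powers⟩`
      rw [← hΦ2] at hv
      have hle : Φ ≤ L₁ := by
        refine CfsgLib.LocalEven.Residual.frattini_le (p := p) (fun a b => ?_) fun g => ?_
        · refine (hL₁m _).2 (C.pow_mem (hcomm a b) p)
        · refine (hL₁m _).2 ?_
          by_contra hgp
          -- `g ^ p ^ 2` outside `C` would make `Z` cyclic of order exceeding `p²`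
          have h1 : Nat.card (Subgroup.zpowers (g ^ p)) ≤ p ^ 2 := hz ▸ Subgroup.card_le_of_le (Subgroup.zpowers_le.2 (hpowZ g))
          have hgen : Subgroup.zpowers (g ^ p) = Z := by
            refine Subgroup.eq_of_le_of_card_ge (Subgroup.zpowers_le.2 (hpowZ g)) ?_
            rw [hz, Nat.card_zpowers]
            obtain ⟨k, hk⟩ := (IsPGroup.iff_orderOf.1 hHp) (g ^ p)
            rw [hk]
            refine Nat.pow_le_pow_right hp.pos ?_
            by_contra hlt
            refine hgp ?_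
            have hone : (g ^ p) ^ p = 1 := orderOf_dvd_iff_pow_eq_one.1
              (hk ▸ (pow_dvd_pow p (show k ≤ 1 by omega)).trans (pow_one p).dvd)
            rw [hone]
            exact C.one_mem
          obtain ⟨i, hi⟩ := Subgroup.mem_zpowers_iff.1 (hgen.ge (hpowZ (g ^ p)))
          have hlast : orderOf (g ^ p) ≤ p := by
            have hmap : ((g ^ p) ^ p) ∈ C := by
              by_contra hh
              have hzero : Subgroup.zpowers (g ^ p) = Z := hgen
              have hCle : C ≤ Subgroup.zpowers (g ^ p) := hzero ▸ hCZ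
              obtain ⟨e, he⟩ := Subgroup.mem_zpowers_iff.1 (hCle (Subgroup.mem_zpowers ⁅a₀, b₀⁆))
              have hcp : ((g ^ p) ^ e) ^ p = 1 := by
                rw [he]; exact CfsgLib.Fsys.CentralIndex.comm_pow_p hidx ⟨a₀, b₀, hab₀⟩ a₀ b₀
              rw [← zpow_natCast, ← zpow_mul, ← orderOf_dvd_iff_zpow_eq_one] at hcp
              obtain ⟨k, hk⟩ := (IsPGroup.iff_orderOf.1 hHp) (g ^ p)
              have hk2 : k ≤ 2 := (Nat.pow_le_pow_iff_right hp.one_lt).1 (by rw [← hk, ← Nat.card_zpowers]; exact h1)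
              have hone : ((g ^ p) ^ p) ^ p = 1 := by
                rw [← pow_mul, ← pow_two]
                exact orderOf_dvd_iff_pow_eq_one.1 (hk ▸ pow_dvd_pow p hk2)
              have hCsub : Subgroup.zpowers ((g ^ p) ^ p) = C := by
                have hpe : (p : ℤ) ∣ e := by
                  rcases Nat.lt_or_ge k 2 with hk1 | hk1
                  · exfalso
                    refine hh ?_
                    rw [show (g ^ p) ^ p = 1 from orderOf_dvd_iff_pow_eq_one.1
                      (hk ▸ (pow_dvd_pow p (show k ≤ 1 by omega)).trans (pow_one p).dvd)]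
                    exact C.one_mem
                  · rw [hk, show k = 2 by omega, Nat.cast_pow, pow_two] at hcp
                    exact (mul_dvd_mul_iff_right (by exact_mod_cast hp.ne_zero)).1 hcp
                obtain ⟨e', rfl⟩ := hpe
                rw [zpow_mul, zpow_natCast] at he
                refine (Subgroup.eq_of_le_of_card_ge ?_ ?_).symm
                · rw [hCdef, Subgroup.zpowers_le]
                  exact Subgroup.mem_zpowers_iff.2 ⟨e', he⟩
                · rw [hCcard, Nat.card_zpowers]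
                  exact Nat.le_of_dvd hp.pos (orderOf_dvd_of_pow_eq_one hone)
              exact hh (hCsub ▸ Subgroup.mem_zpowers _)
            exact absurd hmap hgp
          exact hgp (by
            rw [show (g ^ p) ^ p = 1 from orderOf_dvd_iff_pow_eq_one.1 (by
              obtain ⟨k, hk⟩ := (IsPGroup.iff_orderOf.1 hHp) (g ^ p)
              rw [hk] at hlast ⊢
              have := (Nat.pow_le_pow_iff_right hp.one_lt).1 (hlast.trans (pow_one p).ge)
              exact (pow_dvd_pow p this).trans (pow_one p).dvd)]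
            exact C.one_mem)
      exact hle hv
  have hΦp : Nat.card Φ = p := by rw [hΦcard, hCcard]
  refine Or.inr (Or.inr (Or.inr ?_))
  by_cases hcyc : IsCyclic Z
  · refine Or.inr (Or.inr ⟨fun h => hab fun a b => h.1.1 a b, fun x hx => ?_, hcyc, hz⟩)
    have h := pow_card_eq_one' (G := Φ) (x := ⟨_, CfsgLib.PGroup.Frattini.pow_mem_frattini (p := p) hHp ⟨x, hx⟩⟩)
    rw [hΦp] at h
    have h' := congrArg Subtype.val (congrArg Subtype.val h)
    simpa [← pow_mul, ← pow_two] using h'
  have hZexp : ∀ v ∈ Z, v ^ p = 1 := by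
    intro v hv
    by_contra hne
    refine hcyc (isCyclic_of_orderOf_eq_card (⟨v, hv⟩ : Z) ?_)
    obtain ⟨k, hk2, hk⟩ := (Nat.dvd_prime_pow hp).1 (hz ▸ orderOf_dvd_natCard (⟨v, hv⟩ : Z))
    rw [hz, hk]
    congr 1
    by_contra hk'
    exact hne (congrArg Subtype.val (orderOf_dvd_iff_pow_eq_one.1
      (hk ▸ (pow_dvd_pow p (show k ≤ 1 by omega)).trans (pow_one p).dvd) : (⟨v, hv⟩ : Z) ^ p = 1))
  obtain ⟨w, hwZ, hwΦ⟩ : ∃ w ∈ Z, w ∉ Φ := by
    by_contra h
    push Not at h
    have := Subgroup.card_le_of_le h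
    rw [hz, hΦp] at this
    have := hp.two_le
    nlinarith
  obtain ⟨E, hEco, hwE⟩ := frattini_exists_maximal hwΦ
  have hEi : E.index = p := CfsgLib.PGroup.Frattini.index_of_isCoatom hHp hEco
  haveI hEn : E.Normal := CfsgLib.Frobenius.IndexP.normal_of_index hHp hEi
  have hE3 : Nat.card E = p ^ 3 := hLcard E hEi.le hEco.1
  have hworder : orderOf w = p := orderOf_eq_prime (hZexp w hwZ) fun e => hwE (e ▸ E.one_mem)
  let fw : Multiplicative (ZMod p) →* H :=
    AddMonoidHom.toMultiplicativeLeft (ZMod.lift p ⟨zmultiplesHom (Additive H) (Additive.ofMul w), by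
      simp only [zmultiplesHom_apply, natCast_zsmul]
      rw [← ofMul_pow, hZexp w hwZ]; rfl⟩)
  have hfw : ∀ i : ℤ, fw (Multiplicative.ofAdd (i : ZMod p)) = w ^ i := fun i => by
    show Additive.toMul (ZMod.lift p _ (i : ZMod p)) = _
    rw [ZMod.lift_coe]
    rfl
  have hfwc : ∀ (e : H) (u : Multiplicative (ZMod p)), Commute e (fw u) := fun e u => by
    obtain ⟨i, hi⟩ := ZMod.intCast_surjective u.toAdd
    rw [show u = Multiplicative.ofAdd (i : ZMod p) by rw [hi]; rfl, hfw]
    exact (show Commute e w from Subgroup.mem_center_iff.1 hwZ e).zpow_right i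
  let φ : E × Multiplicative (ZMod p) →* H := MonoidHom.mk' (fun x => (x.1 : H) * fw x.2) fun x y => by
    show ((x.1 * y.1 : E) : H) * fw (x.2 * y.2) = _
    rw [Subgroup.coe_mul, map_mul, mul_assoc, ← mul_assoc (y.1 : H), (hfwc y.1 x.2).eq]
    group
  have hφ : Function.Bijective φ := by
    haveI : Finite (Multiplicative (ZMod p)) := Finite.of_equiv _ Multiplicative.ofAdd
    refine (Nat.bijective_iff_surjective_and_card φ).2 ⟨?_, ?_⟩
    · intro v
      have htop : E ⊔ Subgroup.zpowers w = ⊤ :=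
        hEco.2 _ (lt_of_le_of_ne le_sup_left fun e => hwE (e ▸ Subgroup.mem_sup_right (Subgroup.mem_zpowers w)))
      obtain ⟨e, he, u, hu, rfl⟩ := Subgroup.mem_sup_of_normal_left.1 (htop ▸ Subgroup.mem_top v)
      obtain ⟨i, rfl⟩ := Subgroup.mem_zpowers_iff.1 hu
      exact ⟨(⟨e, he⟩, Multiplicative.ofAdd (i : ZMod p)), by show e * fw _ = _; rw [hfw]⟩
    · rw [Nat.card_prod, hE3, Nat.card_congr Multiplicative.toAdd, Nat.card_zmod, hcard]
      ring
  let eH : H ≃* E × Multiplicative (ZMod p) := (MulEquiv.ofBijective φ hφ).symm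
  have hEna : ∃ a b : E, a * b ≠ b * a := by
    by_contra h
    push Not at h
    refine hab fun a b => eH.injective ?_
    rw [map_mul, map_mul]
    exact Prod.ext (h _ _) (mul_comm _ _)
  have hex := CfsgLib.LocalEvenB.OrderPCubed.isExtraspecial hE3 hEna
  rcases hp.eq_two_or_odd' with h2 | hodd
  · -- `p = 2`
    subst h2
    refine Or.inr (Or.inl ⟨rfl, ?_⟩)
    have hcz : orderOf ⁅a₀, b₀⁆ = 2 := by rw [← Nat.card_zpowers]; exact hCcard
    have hzz : ⁅a₀, b₀⁆ * ⁅a₀, b₀⁆ = 1 := by rw [← pow_two, ← hcz, pow_orderOf_eq_one]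
    have hCcases : ∀ v ∈ C, v = 1 ∨ v = ⁅a₀, b₀⁆ := by
      intro v hv
      obtain ⟨i, rfl⟩ := Subgroup.mem_zpowers_iff.1 hv
      rcases Int.even_or_odd i with ⟨k, rfl⟩ | ⟨k, rfl⟩
      · exact Or.inl (by rw [← two_mul, zpow_mul, zpow_two, hzz, one_zpow])
      · exact Or.inr (by rw [zpow_add, zpow_mul, zpow_two, hzz, one_zpow, one_mul, zpow_one])
    have hsqC : ∀ g : H, g * g ∈ C := fun g => by
      rw [← pow_two, ← hΦcard]; exact CfsgLib.PGroup.Frattini.pow_mem_frattini hHp g
    by_cases hall : ∀ g : H, g ∈ Z ∨ g * g = ⁅a₀, b₀⁆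
    · have hq8 : ∀ x : H, x ∈ E → x = 1 ∨ x = ⁅a₀, b₀⁆ ∨ x * x = ⁅a₀, b₀⁆ := by
        intro x hx
        rcases hall x with hxZ | h
        · have hx' : x ∈ C := by
            have hEZ : E ⊓ Z = C := by
              refine (Subgroup.eq_of_le_of_card_ge (le_inf (hΦcard ▸ frattini_le_coatom hEco) hCZ) ?_).symm
              rw [hCcard]
              by_contra hlt
              have hle : Nat.card (E ⊓ Z : Subgroup H) ∣ 2 ^ 2 := hz ▸ Subgroup.card_dvd_of_le inf_le_right
              obtain ⟨k, hk, hk'⟩ := (Nat.dvd_prime_pow Nat.prime_two).1 hle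
              have hk2 : k = 2 := by
                rw [hk'] at hlt
                by_contra hne
                have : 2 ^ k ≤ 2 ^ 1 := Nat.pow_le_pow_right two_pos (by omega)
                omega
              have h1 : E ⊓ Z = Z := Subgroup.eq_of_le_of_card_ge inf_le_right (by rw [hz, hk', hk2])
              exact hwE (h1.ge hwZ).1
            exact hEZ.le ⟨hx, hxZ⟩
          rcases hCcases x hx' with h | h
          · exact Or.inl h
          · exact Or.inr (Or.inl h)
        · exact Or.inr (Or.inr h)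
      obtain ⟨e⟩ := Cfsg.Agent.S0106.equiv_q8 E (by rw [hE3]; norm_num) ⁅a₀, b₀⁆
        (fun e => hab₀ (commutatorElement_eq_one_iff_mul_comm.1 e)) hq8 hzz
      exact ⟨eH.trans (MulEquiv.prodCongr e (MulEquiv.refl _))⟩
    exfalso
    push Not at hall
    obtain ⟨t, htZ, htt⟩ := hall
    have ht : t * t = 1 := (hCcases _ (hsqC t)).resolve_right htt
    obtain ⟨s, hs⟩ : ∃ s : H, s * s ≠ 1 := by
      by_contra h
      push Not at h
      refine hab fun a b => ?_
      have h3 := h (a * b)
      rwa [mul_eq_one_iff_eq_inv, mul_inv_rev, inv_eq_of_mul_eq_one_right (h a),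
        inv_eq_of_mul_eq_one_right (h b)] at h3
    have hss : s * s = ⁅a₀, b₀⁆ := (hCcases _ (hsqC s)).resolve_left hs
    have hsZ : s ∉ Z := fun h => hs (by rw [← pow_two]; exact hZexp s h)
    let L : Subgroup H := Z ⊔ Subgroup.zpowers s
    have hZsq : ∀ u ∈ Z, ∀ v : H, (u * v) * (u * v) = v * v := fun u hu v => by
      rw [mul_assoc, ← mul_assoc v, Subgroup.mem_center_iff.1 hu v, mul_assoc, ← mul_assoc, ← pow_two, hZexp u hu,
        one_mul]
    have hdecL : ∀ v ∈ L, v ∈ Z ∨ ∃ u ∈ Z, v = u * s := by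
      intro v hv
      obtain ⟨u, hu, q, hq, rfl⟩ := Subgroup.mem_sup_of_normal_left.1 hv
      obtain ⟨i, rfl⟩ := Subgroup.mem_zpowers_iff.1 hq
      have hsc : s * s ∈ Z := hCZ (hsqC s)
      rcases Int.even_or_odd i with ⟨k, rfl⟩ | ⟨k, rfl⟩
      · exact Or.inl (Z.mul_mem hu (by rw [← two_mul, zpow_mul, zpow_two]; exact Z.zpow_mem hsc k))
      · refine Or.inr ⟨u * (s * s) ^ k, Z.mul_mem hu (Z.zpow_mem hsc k), ?_⟩
        rw [zpow_add, zpow_mul, zpow_two, zpow_one, mul_assoc]
    have htL : t ∉ L := fun h => by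
      rcases hdecL t h with h | ⟨u, hu, rfl⟩
      · exact htZ h
      · rw [hZsq u hu, hss] at htt
        exact htt rfl
    have hLidx : L.index ≤ 2 := by
      have hlt : L.index < Z.index := Subgroup.index_strictAnti
        (lt_of_le_of_ne le_sup_left fun e => hsZ (e.ge (Subgroup.mem_sup_right (Subgroup.mem_zpowers s))))
      obtain ⟨i, hi⟩ := hHp.index L
      rw [hi, hidx, Nat.pow_lt_pow_iff_right Nat.one_lt_two] at hlt
      rw [hi]
      calc 2 ^ i ≤ 2 ^ 1 := Nat.pow_le_pow_right two_pos (by omega)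
        _ = 2 := pow_one 2
    have hL2 : L.index = 2 := by
      obtain ⟨i, hi⟩ := hHp.index L
      have hi0 : i ≠ 0 := fun e => htL ((Subgroup.index_eq_one.1 (by rw [hi, e, pow_zero]) : L = ⊤) ▸ Subgroup.mem_top t)
      rw [hi] at hLidx ⊢
      have : i ≤ 1 := (Nat.pow_le_pow_iff_right Nat.one_lt_two).1 (by rwa [pow_one])
      rw [show i = 1 by omega, pow_one]
    have hout : ∀ g, g ∉ L → g * g = 1 := by
      intro g hg
      have hgt : g * t ∈ L := (Subgroup.mul_mem_iff_of_index_two hL2).2 (iff_of_false hg htL)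
      have htinv : t⁻¹ = t := inv_eq_of_mul_eq_one_right ht
      have hg' : g = g * t * t := by rw [mul_assoc, ht, mul_one]
      rcases hdecL _ hgt with h | ⟨u, hu, h⟩
      · rw [hg', hZsq _ h, ht]
      · rw [hg', h, mul_assoc u s t, hZsq u hu]
        have hne : ⁅t, s⁆ ≠ 1 := by
          intro e
          refine hsZ (Subgroup.mem_center_iff.2 fun v => ?_)
          have htop : L ⊔ Subgroup.zpowers t = ⊤ := by
            rw [← Subgroup.index_eq_one]
            have hlt : (L ⊔ Subgroup.zpowers t).index < L.index := Subgroup.index_strictAnti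
              (lt_of_le_of_ne le_sup_left fun e => htL (e.ge (Subgroup.mem_sup_right (Subgroup.mem_zpowers t))))
            have := Subgroup.index_ne_zero_of_finite (H := L ⊔ Subgroup.zpowers t)
            omega
          haveI : L.Normal := Subgroup.normal_of_index_eq_two hL2
          obtain ⟨l, hl, r, hr, rfl⟩ := Subgroup.mem_sup_of_normal_left.1 (htop ▸ Subgroup.mem_top v)
          obtain ⟨i, rfl⟩ := Subgroup.mem_zpowers_iff.1 hr
          have hts : Commute t s := commutatorElement_eq_one_iff_mul_comm.1 e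
          have hls : Commute l s := by
            rcases hdecL l hl with h | ⟨u', hu', rfl⟩
            · exact (Subgroup.mem_center_iff.1 h s).symm
            · exact (show Commute u' s from (Subgroup.mem_center_iff.1 hu' s).symm).mul_left (Commute.refl s)
          exact (hls.mul_left (hts.zpow_left i)).eq
        have hts : t * s = ⁅a₀, b₀⁆ * (s * t) := by
          have := (hCcases _ (hcomm t s)).resolve_left hne
          rw [commutatorElement_def] at this
          rw [← this]; group
        calc s * t * (s * t) = s * (t * s) * t := by group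
          _ = (s * ⁅a₀, b₀⁆) * (s * t) * t := by rw [hts]; group
          _ = ⁅a₀, b₀⁆ * (s * s) * (t * t) := by rw [Subgroup.mem_center_iff.1 (hCZ (Subgroup.mem_zpowers _)) s]; group
          _ = 1 := by rw [hss, hzz, ht, one_mul]
    refine hseries L (fun α v hv => ?_) le_sup_left hLidx (fun e => htL (e ▸ Subgroup.mem_top t))
    have hαs : α s ∈ L := by
      by_contra h
      exact hs (α.injective (by rw [map_mul, map_one]; exact hout _ h))
    have : L ≤ L.comap α.toMonoidHom :=
      sup_le (fun u hu => Subgroup.mem_sup_left (hinvZ α u hu)) (Subgroup.zpowers_le.2 hαs)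
    exact this hv
  · -- `p` odd: exponent `p`
    refine Or.inl ⟨hodd, ?_⟩
    have hp2 : p ≠ 2 := fun e => by subst e; exact (by decide : ¬ Odd 2) hodd
    have hmulpow : ∀ x y : H, (x * y) ^ p = x ^ p * y ^ p := by
      intro x y
      rw [CfsgLib.Fsys.CentralIndex.mul_pow_class_two (fun g => Subgroup.mem_center_iff.1 (hcc y x) g) p]
      obtain ⟨k, hk⟩ := hp.dvd_choose_self two_ne_zero (lt_of_le_of_ne hp.two_le (Ne.symm hp2))
      rw [hk, pow_mul, CfsgLib.Fsys.CentralIndex.comm_pow_p hidx ⟨a₀, b₀, hab₀⟩, one_pow, mul_one]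
    have hexpH : ∀ v : H, v ^ p = 1 := by
      by_contra hne
      push Not at hne
      obtain ⟨v, hv⟩ := hne
      let f : H →* H := MonoidHom.mk' (fun u => u ^ p) hmulpow
      refine hseries f.ker (fun α u hu => ?_) (fun u hu => MonoidHom.mem_ker.2 (hZexp u hu)) ?_
        fun e => hv (MonoidHom.mem_ker.1 (e ▸ Subgroup.mem_top v : v ∈ f.ker))
      · rw [MonoidHom.mem_ker] at hu ⊢
        show α u ^ p = 1
        rw [← map_pow, show u ^ p = 1 from hu, map_one]
      · rw [Subgroup.index_ker, ← hΦp]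
        exact Subgroup.card_le_of_le (by rintro _ ⟨u, rfl⟩; exact CfsgLib.PGroup.Frattini.pow_mem_frattini hHp u)
    let eE : E ≃ GenES.Carrier (p ^ 3) := (Finite.equivFin E).trans (finCongr hE3)
    letI : Group (GenES.Carrier (p ^ 3)) := eE.symm.group
    let mE : E ≃* GenES.Carrier (p ^ 3) := (eE.symm.mulEquiv).symm
    refine ⟨GenES.Carrier (p ^ 3), inferInstance, inferInstance, ?_, GenES.card_carrier _, fun x => ?_,
      ⟨eH.trans (MulEquiv.prodCongr mE (MulEquiv.refl _))⟩⟩
    · exact CfsgLib.LocalEvenB.OrderPCubed.isExtraspecial (GenES.card_carrier _) (by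
        obtain ⟨a, b, h⟩ := hEna
        exact ⟨mE a, mE b, fun e => h (mE.injective (by rw [map_mul, map_mul]; exact e))⟩)
    · obtain ⟨y, rfl⟩ := mE.surjective x
      rw [← map_pow, show y ^ p = 1 from Subtype.ext (hexpH y), map_one]

end Cfsg.Agent.S5188
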