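import Cfsg.Agent.Lib.FusionSystem.BisetTransfer
import Cfsg.Agent.Lib.FusionSystem.FactorSaturated
import Cfsg.Agent.Lib.FusionSystem.Generation
-- Template for statement S5192 (row 5192; see /opt/grader/pristine/manifest.json for weights).
-- Copy to Cfsg/Agent/S5192.lean and replace the sorry. The statement below is byte-identical to the frozen
-- statement Cfsg.CfsgFrozen.S5192 (Cfsg/Statements/S5192.lean; the theorem Cfsg.fus3_involution_outside_index_two_not_in_hyperfocal);
-- the grader kernel-checks Cfsg.Agent.S5192.result against that frozen type. Keep the theorem IN THIS FILE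
-- (a `result` declared elsewhere and merely imported here is not credited); helpers may live anywhere
-- under Cfsg/Agent/.
import Cfsg.Statements.S5192
-- import your own Cfsg.Agent.* helpers here

set_option autoImplicit false
open Cfsg

namespace Cfsg.Agent.S5192

/-- A Thompson-type transfer for saturated fusion systems. Let F be a saturated fusion system on a finite 2-group S, T a subgroup of S of index 2, and i an involution of S such that every fully normalized F-conjugate of i lies in S but outside T. Then i does not lie in the hyperfocal subgroup of F (the Sylow group of the 2-residual subsystem). -/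
theorem result {Ω : Type*} [Group Ω] [Finite Ω] {S : Subgroup Ω}
    (hS : IsPGroup 2 ↥S) (F : Cfsg.FusionSystem S) (hF : F.IsSaturated 2)
    (T : Subgroup Ω) (hTS : T ≤ S) (hT : T.relIndex S = 2)
    (i : Ω) (hi : i ∈ S) (hi2 : orderOf i = 2)
    (h : ∀ j : Ω, F.IsConjElt i j → F.IsFullyNormalized (Subgroup.zpowers j) → j ∉ T) :
    i ∉ F.hyperfocalSubgroup 2 := by
  classical
  intro hihyp
  -- a fully normalized conjugate of `i`
  have hzi : Subgroup.zpowers i ≤ S := Subgroup.zpowers_le.2 hi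
  obtain ⟨R, hR, hRn⟩ := CfsgLib.Fsys.exists_fullyNormalized (F := F) hzi
  obtain ⟨f, hf, hfR⟩ := CfsgLib.Fsys.isConj_iff.1 hR
  set j := f i with hj
  have hjS : j ∈ S := hf.mem (Subgroup.mem_zpowers i)
  have hij : F.IsConjElt i j := by
    obtain ⟨φ, hφ, hφf⟩ := id hf
    exact ⟨φ, hφ, hφf _⟩
  have hi1 : i ^ 2 = 1 := hi2 ▸ pow_orderOf_eq_one i
  have hine : i ≠ 1 := fun e => by rw [e, orderOf_one] at hi2; omega
  have hj2 : j * j = 1 := by
    rw [hj, ← hf.map_mul (Subgroup.mem_zpowers i) (Subgroup.mem_zpowers i), ← pow_two, hi1, hf.map_one]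
  have hj1 : j ≠ 1 := fun e => hine ((hf.eq_one_iff (Subgroup.mem_zpowers i)).1 e)
  have hRj : R = Subgroup.zpowers j := by
    rw [← hfR]
    refine le_antisymm (CfsgLib.Fsys.img_le fun x hx => ?_)
      (Subgroup.zpowers_le.2 (CfsgLib.Fsys.mem_img_of_mem (Subgroup.mem_zpowers i)))
    obtain ⟨k, rfl⟩ := Subgroup.mem_zpowers_iff.1 hx
    rcases Int.emod_two_eq_zero_or_one k with hk | hk
    · obtain ⟨l, rfl⟩ : (2 : ℤ) ∣ k := Int.dvd_of_emod_eq_zero hk
      rw [zpow_mul, zpow_two, ← pow_two, hi1, one_zpow, hf.map_one]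
      exact Subgroup.one_mem _
    · obtain ⟨l, rfl⟩ : ∃ l, k = 2 * l + 1 := ⟨k / 2, by omega⟩
      rw [zpow_add, zpow_mul, zpow_two, ← pow_two, hi1, one_zpow, one_mul, zpow_one]
      exact Subgroup.mem_zpowers j
  -- centralizers of elements of order two
  have hnc : ∀ t ∈ S, t * t = 1 → ∀ z, z ∈ Cfsg.FusionSystem.normalizerIn S (Subgroup.zpowers t) ↔
      z ∈ S ∧ z * t = t * z := by
    intro t ht ht2 z
    refine ⟨fun hz => ⟨hz.1, ?_⟩, fun hz => ⟨hz.1, ?_⟩⟩
    · obtain ⟨k, hk⟩ := Subgroup.mem_zpowers_iff.1 ((Subgroup.mem_normalizer_iff.1 hz.2 t).1 (Subgroup.mem_zpowers t))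
      rcases Int.emod_two_eq_zero_or_one k with hk2 | hk2
      · obtain ⟨l, rfl⟩ : (2 : ℤ) ∣ k := Int.dvd_of_emod_eq_zero hk2
        rw [zpow_mul, zpow_two, ht2, one_zpow] at hk
        have : t = 1 := by
          have h' : z * t = z := by
            have := hk.symm
            rwa [mul_inv_eq_one] at this
          simpa using h'
        rw [this, one_mul, mul_one]
      · obtain ⟨l, rfl⟩ : ∃ l, k = 2 * l + 1 := ⟨k / 2, by omega⟩
        rw [zpow_add, zpow_mul, zpow_two, ht2, one_zpow, one_mul, zpow_one] at hk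
        exact (eq_mul_inv_iff_mul_eq.1 hk).symm
    · refine Subgroup.mem_normalizer_iff.2 fun x => ?_
      have hcomm : ∀ k : ℤ, z * t ^ k * z⁻¹ = t ^ k := fun k => by
        rw [(Commute.zpow_right (hz.2 : Commute z t) k).eq, mul_inv_cancel_right]
      refine ⟨fun hx => ?_, fun hx => ?_⟩
      · obtain ⟨k, rfl⟩ := Subgroup.mem_zpowers_iff.1 hx
        rw [hcomm]
        exact zpow_mem (Subgroup.mem_zpowers t) k
      · obtain ⟨k, hk⟩ := Subgroup.mem_zpowers_iff.1 hx
        have e : x = t ^ k := by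
          have h2 := hcomm k
          have h3 : z * x * z⁻¹ = z * t ^ k * z⁻¹ := by rw [h2, hk]
          simpa using h3
        rw [e]
        exact zpow_mem (Subgroup.mem_zpowers t) k
  -- the homomorphism
  let T' : Subgroup S := T.subgroupOf S
  have hidx : T'.index = 2 := hT
  have : T'.Normal := Subgroup.normal_of_index_eq_two hidx
  have hA2 : Nat.card (S ⧸ T') = 2 := hidx
  let _ : CommGroup (S ⧸ T') :=
    { (inferInstance : Group (S ⧸ T')) with
      mul_comm := by
        have := isCyclic_of_prime_card (p := 2) hA2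
        exact fun a b => (IsCyclic.commGroup (α := S ⧸ T')).mul_comm a b }
  let lam : S →* S ⧸ T' := QuotientGroup.mk' T'
  obtain ⟨X, _, _, m, hm, hcard, htw, hstab⟩ := CfsgLib.Fsys.CharBiset.exists_biset hS hF
  let Rr : Subgroup (S × S) := (⊥ : Subgroup S).prod ⊤
  have hfree : ∀ (x : X) (t : S), ((1 : S), t) • x = x → t = 1 := by
    intro x t h
    obtain ⟨g, hg, he⟩ := CfsgLib.Fsys.CharBiset.tw_witness (htw x)
    obtain ⟨h2, h1⟩ := (he ((1 : S), t)).1 h
    exact Subtype.ext ((hg.eq_one_iff h2).1 h1.symm)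
  obtain ⟨ℓ, hℓ'⟩ := CfsgLib.Fsys.CharBiset.exists_char_equivariant (X := X)
    ((lam.comp ((MonoidHom.snd S S).comp Rr.subtype))⁻¹ : Rr →* S ⧸ T') fun x h hx => by
    have e1 : h.1 = ((1 : S), h.1.2) := Prod.ext h.2.1 rfl
    have e2 : h.1.2 = 1 := hfree x h.1.2 (by rw [← e1]; exact hx)
    show (lam h.1.2)⁻¹ = 1
    rw [e2, map_one, inv_one]
  have hℓ : ∀ (t : S) (x : X), ℓ (((1 : S), t) • x) = (lam t)⁻¹ * ℓ x := fun t x =>
    hℓ' ⟨((1 : S), t), rfl, trivial⟩ x
  obtain ⟨tr, hst, -, -, hform⟩ := CfsgLib.Fsys.CharBiset.exists_transfer_of hcard htw hstab lam ℓ hℓ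
  -- the transfer kills the hyperfocal subgroup
  have hji : tr ⟨j, hjS⟩ = tr ⟨i, hi⟩ := hst _ f hf ⟨i, hi⟩ (Subgroup.mem_zpowers i)
  have hker : F.hyperfocalSubgroup 2 ≤ tr.ker.map S.subtype := by
    refine le_trans (le_sup_left.trans (CfsgLib.Fsys.focal_eq_hyperfocal_sup hS hF).ge) ?_
    refine (Subgroup.closure_le _).2 ?_
    rintro _ ⟨P, φ, y, hφ, rfl⟩
    have hf' := CfsgLib.Fsys.fn_ofHom hφ
    refine ⟨(⟨(y : Ω), hf'.le y.2⟩ : S)⁻¹ * ⟨_, hf'.mem y.2⟩, ?_, ?_⟩
    · show tr _ = 1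
      rw [map_mul, map_inv, hst P _ hf' ⟨(y : Ω), hf'.le y.2⟩ y.2, inv_mul_cancel]
    · show (y : Ω)⁻¹ * CfsgLib.Fsys.ofHom φ y = _
      rw [CfsgLib.Fsys.ofHom_coe]
  have htr1 : tr ⟨j, hjS⟩ = 1 := by
    obtain ⟨v, hv, hvi⟩ := hker hihyp
    rw [hji, ← show v = ⟨i, hi⟩ from Subtype.ext hvi]
    exact hv
  -- the action on the orbits
  let O := Quotient (MulAction.orbitRel Rr X)
  have := Fintype.ofFinite O
  have hcomm : ∀ (s t : S) (x : X),
      ((s, (1 : S)) • ((1 : S), t) • x : X) = ((1 : S), t) • (s, (1 : S)) • x := fun s t x => by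
    rw [← mul_smul, ← mul_smul]
    simp
  have horb : ∀ {x y : X}, MulAction.orbitRel Rr X x y → ∃ t : S, ((1 : S), t) • y = x := by
    intro x y h
    obtain ⟨r, e⟩ := MulAction.mem_orbit_iff.1 h
    have e1 : r.1 = ((1 : S), r.1.2) := Prod.ext r.2.1 rfl
    exact ⟨r.1.2, by rw [← e1]; exact e⟩
  let actO : MulAction S O :=
    { smul := fun s => Quotient.map' (fun x => (s, (1 : S)) • x) fun x y h => by
        obtain ⟨t, rfl⟩ := horb h
        exact ⟨⟨((1 : S), t), rfl, trivial⟩, (hcomm s t y).symm⟩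
      one_smul := fun o => by
        induction o using Quotient.inductionOn with
        | h x =>
          show Quotient.mk (MulAction.orbitRel Rr X) (((1 : S), (1 : S)) • x) = _
          rw [← Prod.one_eq_mk, one_smul]
      mul_smul := fun a b o => by
        induction o using Quotient.inductionOn with
        | h x =>
          show Quotient.mk (MulAction.orbitRel Rr X) ((a * b, (1 : S)) • x) = Quotient.mk _ ((a, (1 : S)) • (b, (1 : S)) • x)
          rw [← mul_smul, Prod.mk_mul_mk, mul_one] }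
  let _ := actO
  have hsmk : ∀ (s : S) (x : X),
      s • (Quotient.mk (MulAction.orbitRel Rr X) x : O) = Quotient.mk _ ((s, (1 : S)) • x) := fun _ _ => rfl
  set J : S := ⟨j, hjS⟩ with hJ
  have hJJ : J * J = 1 := Subtype.ext hj2
  let D : O → S ⧸ T' := fun o => ℓ ((J, (1 : S)) • o.out) * (ℓ o.out)⁻¹
  have hD : ∀ x : X, D (Quotient.mk _ x) = ℓ ((J, (1 : S)) • x) * (ℓ x)⁻¹ := fun x => by
    obtain ⟨t, ht⟩ := horb (Quotient.mk_out (s := MulAction.orbitRel Rr X) x)
    show ℓ (_ • (Quotient.mk (MulAction.orbitRel Rr X) x).out) * (ℓ (Quotient.mk (MulAction.orbitRel Rr X) x).out)⁻¹ = _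
    rw [← ht, hcomm, hℓ, hℓ]
    exact Additive.ofMul.injective (by simp [ofMul_mul, ofMul_inv]; abel)
  have hpair : ∀ o : O, D o * D (J • o) = 1 := fun o => by
    induction o using Quotient.inductionOn with
    | h x =>
      rw [hsmk, hD, hD, ← mul_smul, Prod.mk_mul_mk, hJJ, mul_one, ← Prod.one_eq_mk, one_smul]
      exact Additive.ofMul.injective (by simp [ofMul_mul, ofMul_inv])
  -- fixed orbits
  have hfixed : ∀ o : O, J • o = o → ∀ z : S, z • o = o →
      ∃ t v : S, (J, t) • o.out = o.out ∧ (z, v) • o.out = o.out ∧ D o = lam t := by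
    intro o ho z hz
    have key : ∀ s : S, s • o = o → ∃ t : S, (s, t) • o.out = o.out := fun s hs => by
      have h1 : Quotient.mk (MulAction.orbitRel Rr X) ((s, (1 : S)) • o.out) = Quotient.mk _ o.out := by
        rw [← hsmk, Quotient.out_eq, hs]
      obtain ⟨u, hu⟩ := horb (Quotient.exact h1)
      refine ⟨u⁻¹, ?_⟩
      have h2 : ((1 : S), u⁻¹) • (s, (1 : S)) • o.out = o.out := by
        rw [← hu, ← mul_smul, Prod.mk_mul_mk, one_mul, inv_mul_cancel, ← Prod.one_eq_mk, one_smul]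
      rwa [← mul_smul, Prod.mk_mul_mk, one_mul, mul_one] at h2
    obtain ⟨t, ht⟩ := key J ho
    obtain ⟨v, hv⟩ := key z hz
    refine ⟨t, v, ht, hv, ?_⟩
    have e : (J, (1 : S)) • o.out = ((1 : S), t⁻¹) • o.out := by
      conv_rhs => rw [← ht]
      rw [← mul_smul, Prod.mk_mul_mk, one_mul, inv_mul_cancel]
    show ℓ _ * _ = _
    rw [e, hℓ, map_inv, inv_inv, mul_inv_cancel_right]
  -- no orbit with trivial value is fixed by the centralizer
  let Cz : Subgroup S := (Cfsg.FusionSystem.normalizerIn S (Subgroup.zpowers j)).subgroupOf S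
  have hCz : ∀ z ∈ Cz, z * J = J * z := fun z hz => Subtype.ext ((hnc j hjS hj2 z).1 hz).2
  let W : Set O := {o | J • o = o ∧ D o = 1}
  let Fx : Set O := {o | J • o = o}
  have hnofix : ∀ o ∈ W, ∃ z ∈ Cz, z • o ≠ o := by
    intro o ho
    by_contra hcon
    push Not at hcon
    obtain ⟨g, hg, he⟩ := CfsgLib.Fsys.CharBiset.tw_witness (htw o.out)
    obtain ⟨t, -, ht, -, hDt⟩ := hfixed o ho.1 1 (one_smul _ o)
    obtain ⟨ht2, ht1⟩ := (he (J, t)).1 ht
    have hgt : g (t : Ω) = j := ht1.symm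
    have htt : (t : Ω) * t = 1 := by
      refine (hg.eq_one_iff (Subgroup.mul_mem _ ht2 ht2)).1 ?_
      rw [hg.map_mul ht2 ht2, hgt, hj2]
    have hv : ∀ z : Cz, ∃ v : Cfsg.FusionSystem.normalizerIn S (Subgroup.zpowers (t : Ω)),
        (v : Ω) ∈ CfsgLib.Fsys.CharBiset.dom (MulAction.stabilizer (S × S) o.out) ∧ g v = ((z : S) : Ω) := by
      intro z
      obtain ⟨t', v, ht', hv, -⟩ := hfixed o ho.1 (z : S) (hcon z z.2)
      obtain ⟨hv2, hv1⟩ := (he ((z : S), v)).1 hv
      refine ⟨⟨(v : Ω), (hnc t t.2 htt v).2 ⟨v.2, ?_⟩⟩, hv2, hv1.symm⟩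
      refine hg.inj (Subgroup.mul_mem _ hv2 ht2) (Subgroup.mul_mem _ ht2 hv2) ?_
      rw [hg.map_mul hv2 ht2, hg.map_mul ht2 hv2, hgt, ← hv1]
      exact congrArg Subtype.val (hCz z z.2)
    choose v hv2 hv1 using hv
    have hinj : Function.Injective v := fun a b e => Subtype.ext (Subtype.ext (by
      rw [← hv1 a, ← hv1 b, e]))
    have hcj : Nat.card Cz = Nat.card (Cfsg.FusionSystem.normalizerIn S (Subgroup.zpowers j)) :=
      Nat.card_congr (Subgroup.subgroupOfEquivOfLe CfsgLib.Fsys.normalizerIn_le).toEquiv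
    have : Finite (Cfsg.FusionSystem.normalizerIn S (Subgroup.zpowers (t : Ω))) := inferInstance
    have hle := Nat.card_le_card_of_injective v hinj
    rw [hcj] at hle
    -- `⟨t⟩` is conjugate to `⟨j⟩`
    have htdom := Subgroup.zpowers_le.2 ht2
    have himg : CfsgLib.Fsys.img g (Subgroup.zpowers (t : Ω)) = Subgroup.zpowers j := by
      refine le_antisymm (CfsgLib.Fsys.img_le fun x hx => ?_)
        (Subgroup.zpowers_le.2 (hgt ▸ CfsgLib.Fsys.mem_img_of_mem (Subgroup.mem_zpowers _)))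
      obtain ⟨k, rfl⟩ := Subgroup.mem_zpowers_iff.1 hx
      rcases Int.emod_two_eq_zero_or_one k with hk | hk
      · obtain ⟨l, rfl⟩ : (2 : ℤ) ∣ k := Int.dvd_of_emod_eq_zero hk
        rw [zpow_mul, zpow_two, htt, one_zpow, hg.map_one]
        exact Subgroup.one_mem _
      · obtain ⟨l, rfl⟩ : ∃ l, k = 2 * l + 1 := ⟨k / 2, by omega⟩
        rw [zpow_add, zpow_mul, zpow_two, htt, one_zpow, one_mul, zpow_one, hgt]
        exact Subgroup.mem_zpowers j
    have hct : F.IsConj (Subgroup.zpowers (t : Ω)) (Subgroup.zpowers j) :=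
      CfsgLib.Fsys.isConj_iff.2 ⟨g, hg.mono htdom, himg⟩
    have htn : F.IsFullyNormalized (Subgroup.zpowers (t : Ω)) := by
      refine ⟨Subgroup.zpowers_le.2 t.2, fun Q hQ => ?_⟩
      refine le_trans ((hRj ▸ hRn).2 Q ?_) hle
      exact CfsgLib.Fsys.isConj_trans (CfsgLib.Fsys.isConj_symm hct) hQ
    have hit : F.IsConjElt i (t : Ω) := by
      obtain ⟨g', hg', hg'g, -⟩ := (hg.mono htdom).exists_inv
      rw [himg] at hg'
      have hm : ∀ x ∈ Subgroup.zpowers i, f x ∈ Subgroup.zpowers j := fun x hx => by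
        rw [← hRj, ← hfR]
        exact CfsgLib.Fsys.mem_img_of_mem hx
      obtain ⟨φ, hφ, hφf⟩ := hf.comp hg' hm
      refine ⟨φ, hφ, ?_⟩
      rw [hφf]
      show g' (f i) = t
      rw [← hj, ← hgt, hg'g _ (Subgroup.mem_zpowers _)]
    exact h _ hit htn ((QuotientGroup.eq_one_iff t).1 (hDt.symm.trans ho.2))
  -- parities
  have hCz2 : IsPGroup 2 Cz := hS.to_subgroup _
  have hWinv : ∀ z ∈ Cz, ∀ o ∈ W, z • o ∈ W := by
    intro z hz o ho
    refine ⟨?_, ?_⟩
    · rw [← mul_smul, ← hCz z hz, mul_smul, ho.1]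
    · obtain ⟨x, rfl⟩ := Quotient.mk_surjective o
      rw [hsmk, hD]
      obtain ⟨t, ht⟩ := horb (Quotient.exact ((hsmk J x).symm.trans ho.1))
      have h1 := ho.2
      rw [hD, ← ht, hℓ, mul_inv_cancel_right, inv_eq_one] at h1
      rw [← mul_smul, Prod.mk_mul_mk, mul_one, ← hCz z hz, show ((z * J, (1 : S)) : S × S) =
        (z, (1 : S)) * (J, (1 : S)) by simp, mul_smul, ← ht, hcomm, hℓ, h1, inv_one, one_mul, mul_inv_cancel]
  let actW : MulAction Cz W :=
    { smul := fun z o => ⟨(z : S) • o.1, hWinv z z.2 o.1 o.2⟩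
      one_smul := fun o => Subtype.ext (one_smul S o.1)
      mul_smul := fun a b o => Subtype.ext (mul_smul (a : S) (b : S) o.1) }
  have hWeven : Nat.card W ≡ 0 [MOD 2] := by
    let _ := actW
    refine (hCz2.card_modEq_card_fixedPoints W).trans (le_of_eq ?_ |>.antisymm (Nat.zero_le _) |>.symm ▸ Nat.ModEq.refl _)
    refine Nat.card_eq_zero.2 (Or.inl ⟨fun ⟨o, ho⟩ => ?_⟩)
    obtain ⟨z, hz, hne⟩ := hnofix o.1 o.2
    exact hne (congrArg Subtype.val (ho ⟨z, hz⟩))
  have hcardO : Nat.card O = m := by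
    have hb : Function.Bijective (fun z : O × S => ((1 : S), z.2) • z.1.out) := by
      refine ⟨fun ⟨o, t⟩ ⟨o', t'⟩ h => ?_, fun x => ?_⟩
      · change ((1 : S), t) • o.out = ((1 : S), t') • o'.out at h
        obtain rfl : o = o' := by
          rw [← Quotient.out_eq o, ← Quotient.out_eq o']
          refine Quotient.sound ⟨⟨((1 : S), t⁻¹ * t'), rfl, trivial⟩, ?_⟩
          show ((1 : S), t⁻¹ * t') • o'.out = o.out
          rw [show ((1 : S), t⁻¹ * t') = ((1 : S), t)⁻¹ * ((1 : S), t') by simp, mul_smul, ← h, inv_smul_smul]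
        refine Prod.ext rfl (inv_mul_eq_one.1 (hfree o.out _ (show ((1 : S), t'⁻¹ * t) • o.out = o.out from ?_))).symm
        rw [show ((1 : S), t'⁻¹ * t) = ((1 : S), t')⁻¹ * ((1 : S), t) by simp, mul_smul, h, inv_smul_smul]
      · obtain ⟨t, ht⟩ := horb ((MulAction.orbitRel Rr X).symm (Quotient.mk_out (s := MulAction.orbitRel Rr X) x))
        exact ⟨(_, t), ht⟩
    have h' := Nat.card_eq_of_bijective _ hb
    rw [Nat.card_prod, hcard, mul_comm] at h'
    exact Nat.eq_of_mul_eq_mul_left Nat.card_pos h'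
  have hFx : Nat.card Fx ≡ m [MOD 2] := by
    have h2 : IsPGroup 2 (Subgroup.zpowers J) := hS.to_subgroup _
    have e : MulAction.fixedPoints (Subgroup.zpowers J) O = Fx := by
      ext o
      refine ⟨fun ho => ho ⟨J, Subgroup.mem_zpowers J⟩, fun ho z => ?_⟩
      have hle : Subgroup.zpowers J ≤ MulAction.stabilizer S o := Subgroup.zpowers_le.2 ho
      exact hle z.2
    have := (h2.card_modEq_card_fixedPoints O).symm
    rwa [e, hcardO] at this
  -- conclude
  obtain ⟨a, ha⟩ : ∃ a : S ⧸ T', a ≠ 1 := by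
    have : Nontrivial (S ⧸ T') := Finite.one_lt_card_iff_nontrivial.1 (by omega)
    exact exists_ne 1
  have huniq : ∀ b : S ⧸ T', b ≠ 1 → b = a := fun b hb => by
    obtain ⟨c, d, hcd, hall⟩ := Nat.card_eq_two_iff.1 hA2
    have h1 : (1 : S ⧸ T') ∈ ({c, d} : Set (S ⧸ T')) := hall ▸ Set.mem_univ _
    have h2 : b ∈ ({c, d} : Set (S ⧸ T')) := hall ▸ Set.mem_univ _
    have h3 : a ∈ ({c, d} : Set (S ⧸ T')) := hall ▸ Set.mem_univ _
    simp only [Set.mem_insert_iff, Set.mem_singleton_iff] at h1 h2 h3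
    grind
  have htrJ : tr J = ∏ o ∈ Finset.univ.filter (fun o : O => J • o = o ∧ D o ≠ 1), a := by
    rw [hform, finprod_eq_prod_of_fintype, ← Finset.prod_filter_mul_prod_filter_not Finset.univ (fun o : O => J • o = o)]
    have hne : ∏ o ∈ Finset.univ.filter (fun o : O => ¬ J • o = o), D o = 1 := by
      refine Finset.prod_involution (fun o _ => J • o) (fun o _ => hpair o) (fun o ho _ => (Finset.mem_filter.1 ho).2)
        (fun o ho => ?_) fun o _ => ?_
      · refine Finset.mem_filter.2 ⟨Finset.mem_univ _, fun e => (Finset.mem_filter.1 ho).2 ?_⟩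
        rw [← mul_smul, hJJ, one_smul] at e
        exact e.symm
      · rw [← mul_smul, hJJ, one_smul]
    show (∏ o ∈ _, D o) * ∏ o ∈ _, D o = _
    rw [hne, mul_one, ← Finset.prod_filter_mul_prod_filter_not (Finset.univ.filter (fun o : O => J • o = o)) (fun o => D o = 1),
      Finset.prod_eq_one (fun o ho => (Finset.mem_filter.1 ho).2), one_mul, Finset.filter_filter]
    exact Finset.prod_congr rfl fun o ho => huniq _ (Finset.mem_filter.1 ho).2.2
  rw [htr1, Finset.prod_const] at htrJ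
  have hodd : (Finset.univ.filter (fun o : O => J • o = o ∧ D o ≠ 1)).card % 2 = 1 := by
    have hsplit := Finset.card_filter_add_card_filter_not (s := Finset.univ.filter (fun o : O => J • o = o))
      (fun o => D o = 1)
    rw [Finset.filter_filter, Finset.filter_filter] at hsplit
    have eW : Nat.card W = (Finset.univ.filter (fun o : O => J • o = o ∧ D o = 1)).card := by
      rw [Nat.card_eq_fintype_card]
      exact Fintype.card_subtype (fun o : O => J • o = o ∧ D o = 1)
    have eF : Nat.card Fx = (Finset.univ.filter (fun o : O => J • o = o)).card := by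
      rw [Nat.card_eq_fintype_card]
      exact Fintype.card_subtype (fun o : O => J • o = o)
    have h1 : m % 2 = 1 := Nat.mod_two_ne_zero.1 fun e => hm (Nat.dvd_of_mod_eq_zero e)
    unfold Nat.ModEq at hFx hWeven
    rw [eW] at hWeven
    rw [eF] at hFx
    simp only [ne_eq] at *
    omega
  have ha2 : a ^ 2 = 1 := by
    have := pow_card_eq_one' (x := a)
    rwa [hA2] at this
  rw [← Nat.div_add_mod (Finset.univ.filter (fun o : O => J • o = o ∧ D o ≠ 1)).card 2, hodd, pow_add, pow_mul,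
    ha2, one_pow, one_mul, pow_one] at htrJ
  exact ha htrJ.symm

end Cfsg.Agent.S5192
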