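import Cfsg.Agent.Lib.FusionSystem.ThompsonCriterion
-- Template for statement S5194 (row 5194; see /opt/grader/pristine/manifest.json for weights).
-- Copy to Cfsg/Agent/S5194.lean and replace the sorry. The statement below is byte-identical to the frozen
-- statement Cfsg.CfsgFrozen.S5194 (Cfsg/Statements/S5194.lean; the theorem Cfsg.fus3_inner_of_center_centralizer_and_thompson_normalizer_inner);
-- the grader kernel-checks Cfsg.Agent.S5194.result against that frozen type. Keep the theorem IN THIS FILE
-- (a `result` declared elsewhere and merely imported here is not credited); helpers may live anywhere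
-- under Cfsg/Agent/.
import Cfsg.Statements.S5194
-- import your own Cfsg.Agent.* helpers here

set_option autoImplicit false
open Cfsg

namespace Cfsg.Agent.S5194

/-- Thompson's normal p-complement Theorem for fusion systems. Let F be a saturated fusion system over a finite p-group S such that p is odd or F is S₄-free (the symmetric group of degree 4 is not involved in any model of the normalizer system of a fully normalized F-centric subgroup), and let J(S) be the subgroup generated by the abelian subgroups of S of largest order. If the centralizer fusion system of Z(S) in F is the inner fusion system of C_S(Z(S)) = S and the normalizer fusion system of J(S) in F is the inner fusion system of N_S(J(S)) = S, then F is the inner fusion system of S. -/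
theorem result {Ω : Type*} [Group Ω] {S : Subgroup Ω} [Finite S] (p : ℕ) [Fact p.Prime] (hS : IsPGroup p S) (F : Cfsg.FusionSystem S) (hF : F.IsSaturated p) (hp : p ≠ 2 ∨ F.IsSectionFree p (Equiv.Perm (Fin 4))) (hC : ∀ C : Cfsg.FusionSystem (Cfsg.FusionSystem.centralizerIn S (S ⊓ Subgroup.centralizer (S : Set Ω))), F.IsCentralizerSystem (S ⊓ Subgroup.centralizer (S : Set Ω)) C → ∀ P : Subgroup Ω, C.Hom P = (Cfsg.innerFusionSystem (Cfsg.FusionSystem.centralizerIn S (S ⊓ Subgroup.centralizer (S : Set Ω)))).Hom P) (hN : ∀ N : Cfsg.FusionSystem (Cfsg.FusionSystem.normalizerIn S (Cfsg.thompsonSubgroupAOf S)), F.IsNormalizerSystem (Cfsg.thompsonSubgroupAOf S) N → ∀ P : Subgroup Ω, N.Hom P = (Cfsg.innerFusionSystem (Cfsg.FusionSystem.normalizerIn S (Cfsg.thompsonSubgroupAOf S))).Hom P) : ∀ P : Subgroup Ω, F.Hom P = (Cfsg.innerFusionSystem S).Hom P := CfsgLib.Fsys.hom_eq_inner_of_pAut hS hF (CfsgLib.Fsys.pAut_of_thompson hS hF hp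
    (fun hf hle hfix => CfsgLib.Fsys.conj_of_centralizer_inner hC hf hle hfix)
    (fun hf hle hi => CfsgLib.Fsys.conj_of_normalizer_inner (Subgroup.map_subtype_le _)
      (CfsgLib.Fsys.normalizerIn_wOf (W := fun Q _ => CfsgLib.Fsys.jA Q) CfsgLib.Fsys.jA_map hS) hN hf hle hi))

end Cfsg.Agent.S5194
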