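import Cfsg.Agent.Lib.FusionSystem.CharCriterion
-- Template for statement S5195 (row 5195; see /opt/grader/pristine/manifest.json for weights).
-- Copy to Cfsg/Agent/S5195.lean and replace the sorry. The statement below is byte-identical to the frozen
-- statement Cfsg.CfsgFrozen.S5195 (Cfsg/Statements/S5195.lean; the theorem Cfsg.fus3_inner_of_characteristic_automizers_p_groups);
-- the grader kernel-checks Cfsg.Agent.S5195.result against that frozen type. Keep the theorem IN THIS FILE
-- (a `result` declared elsewhere and merely imported here is not credited); helpers may live anywhere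
-- under Cfsg/Agent/.
import Cfsg.Statements.S5195
-- import your own Cfsg.Agent.* helpers here

set_option autoImplicit false
open Cfsg

namespace Cfsg.Agent.S5195

/-- A strengthened Frobenius normal p-complement criterion for fusion systems. Let F be a saturated fusion system over a finite p-group S such that p is odd or F is S₄-free (the symmetric group of degree 4 is not involved in any model of the normalizer system of a fully normalized F-centric subgroup). If Aut_F(Q) is a p-group for every nontrivial characteristic subgroup Q of S, then F is the inner fusion system of S. -/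
theorem result {Ω : Type*} [Group Ω] {S : Subgroup Ω} [Finite S] (p : ℕ) [Fact p.Prime] (hS : IsPGroup p S) (F : Cfsg.FusionSystem S) (hF : F.IsSaturated p) (hp : p ≠ 2 ∨ F.IsSectionFree p (Equiv.Perm (Fin 4))) (h : ∀ Q : Subgroup Ω, Q ≤ S → Q ≠ ⊥ → (Q.subgroupOf S).Characteristic → IsPGroup p (F.autGroup Q)) : ∀ P : Subgroup Ω, F.Hom P = (Cfsg.innerFusionSystem S).Hom P := CfsgLib.Fsys.hom_eq_inner_of_pAut hS hF (CfsgLib.Fsys.pAut_of_charPAut hS hF (CfsgLib.Fsys.sFour_of_sectionFree hS hF hp) h)

end Cfsg.Agent.S5195
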