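import Cfsg.Agent.Lib.FusionSystem.CenterFunctor
-- Template for statement S5196 (row 5196; see /opt/grader/pristine/manifest.json for weights).
-- Copy to Cfsg/Agent/S5196.lean and replace the sorry. The statement below is byte-identical to the frozen
-- statement Cfsg.CfsgFrozen.S5196 (Cfsg/Statements/S5196.lean; the theorem Cfsg.fus3_functor_with_local_center_condition_controls_weak_closure);
-- the grader kernel-checks Cfsg.Agent.S5196.result against that frozen type. Keep the theorem IN THIS FILE
-- (a `result` declared elsewhere and merely imported here is not credited); helpers may live anywhere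
-- under Cfsg/Agent/.
import Cfsg.Statements.S5196
-- import your own Cfsg.Agent.* helpers here

set_option autoImplicit false
universe u
open Cfsg

namespace Cfsg.Agent.S5196

/-- Let p be an odd prime and W a positive characteristic p-functor: W assigns to every finite p-group Q (in a fixed universe) a subgroup W(Q), nontrivial when Q is, carried to W(R) by every isomorphism Q ≅ R; assume also Z(Q) ≤ W(Q) for every finite p-group Q. Suppose W satisfies the local condition: for every finite group G with Sylow p-subgroup P, O_p(G) ∩ Z(G) = O_p(G) ∩ Z(N_G(W(P))). Then W controls weak closure of elements in every saturated fusion system F over a finite p-group S: the centre of the normalizer fusion system of W(S) in F equals the centre of F. (For p = 2 no functor satisfies the local condition, so p is taken odd.) -/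
theorem result {p : ℕ} [Fact p.Prime] (hp : p ≠ 2) (W : ∀ (Q : Type u) [Group Q], Subgroup Q) (hW1 : ∀ (Q : Type u) [Group Q] [Finite Q], IsPGroup p Q → Nontrivial Q → W Q ≠ ⊥) (hW2 : ∀ (Q R : Type u) [Group Q] [Group R] [Finite Q], IsPGroup p Q → ∀ φ : Q ≃* R, (W Q).map φ.toMonoidHom = W R) (hWZ : ∀ (Q : Type u) [Group Q] [Finite Q], IsPGroup p Q → Subgroup.center Q ≤ W Q) (hC : ∀ (G : Type u) [Group G] [Finite G] (P : Sylow p G), Cfsg.pCore p G ⊓ Subgroup.center G = Cfsg.pCore p G ⊓ (Subgroup.center ↥(Subgroup.normalizer (((W ↥(P : Subgroup G)).map (P : Subgroup G).subtype : Subgroup G) : Set G))).map (Subgroup.normalizer (((W ↥(P : Subgroup G)).map (P : Subgroup G).subtype : Subgroup G) : Set G)).subtype) {Ω : Type u} [Group Ω] {S : Subgroup Ω} [Finite S] (hS : IsPGroup p S) (F : Cfsg.FusionSystem S) (hF : F.IsSaturated p) (N : Cfsg.FusionSystem (Cfsg.FusionSystem.normalizerIn S ((W ↥S).map S.subtype))) (hN : F.IsNormalizerSystem ((W ↥S).map S.subtype) N) : N.center = F.center := by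
  open CfsgLib.Fsys in
  have hn : Cfsg.FusionSystem.normalizerIn S (wOf W S) = S := by
    refine inf_eq_left.2 fun s hs => ?_
    have := finite_of_le_base (wOf_le (W := W) S)
    refine mem_normalizer_of_map_le fun x hx => ?_
    have hf := fn_conj (F := F) (le_refl S) hs
    have h := map_wOf hW2 hS hf
    rw [hf.img_eq_self fun x hx => hf.mem hx] at h
    exact h.le (mem_img_of_mem hx)
  refine le_antisymm ?_ (center_le_normalizer_center (wOf_le S) hn N hN)
  have hfin := finite_of_le_base (S := S) (CfsgLib.Fsys.normalizerIn_le : Cfsg.FusionSystem.normalizerIn S (wOf W S) ≤ S)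
  have hzc : N.center ≤ zPow p 0 S := by
    intro z hz
    have h := @center_le_center Ω _ _ hfin N z hz
    refine Subgroup.subset_closure ⟨z, ⟨h.1.1, Subgroup.mem_centralizer_iff.2 fun s hs =>
      Subgroup.mem_centralizer_iff.1 h.2 s (hn.ge hs)⟩, by simp⟩
  refine le_trans (le_inf hzc le_rfl) (zPow_inf_center_le 0 hW1 hW2 ?_ hS hF rfl N hN)
  intro L _ _ T hc z hz hNz
  have hzT := zPow_le 0 _ hz
  have hOT : Cfsg.pCore p L ≤ (T : Subgroup L) :=
    haveI := CfsgLib.LocalEven.SylowIn.pCore_normal L p
    (CfsgLib.LocalEven.SylowIn.isPGroup_pCore L p).le_sylow_of_normal T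
  have hzO : z ∈ Cfsg.pCore p L := hc (Subgroup.centralizer_le hOT hzT.2)
  have hzN : z ∈ Subgroup.normalizer (wOf W (T : Subgroup L) : Set L) := by
    refine mem_normalizer_iff'.2 ⟨fun y hy => ?_, fun y hy => ?_⟩
    · rwa [← Subgroup.mem_centralizer_iff.1 hzT.2 y (wOf_le _ hy), mul_inv_cancel_right]
    · rwa [mul_assoc, Subgroup.mem_centralizer_iff.1 hzT.2 y (wOf_le _ hy), inv_mul_cancel_left]
  exact ((hC L T).ge ⟨hzO, ⟨⟨z, hzN⟩, Subgroup.mem_center_iff.2 fun g =>
    Subtype.ext (Subgroup.mem_centralizer_singleton_iff.1 (hNz g.2)), rfl⟩⟩).2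

end Cfsg.Agent.S5196
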