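import Cfsg.Agent.Lib.FusionSystem.ControlTransfer
-- Template for statement S5197 (row 5197; see /opt/grader/pristine/manifest.json for weights).
-- Copy to Cfsg/Agent/S5197.lean and replace the sorry. The statement below is byte-identical to the frozen
-- statement Cfsg.CfsgFrozen.S5197 (Cfsg/Statements/S5197.lean; the theorem Cfsg.fus3_functor_with_local_focal_condition_controls_transfer);
-- the grader kernel-checks Cfsg.Agent.S5197.result against that frozen type. Keep the theorem IN THIS FILE
-- (a `result` declared elsewhere and merely imported here is not credited); helpers may live anywhere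
-- under Cfsg/Agent/.
import Cfsg.Statements.S5197
-- import your own Cfsg.Agent.* helpers here

set_option autoImplicit false
universe u
open Cfsg CfsgLib.Fsys

namespace Cfsg.Agent.S5197

/-- Let p be a prime and W a positive characteristic p-functor: W assigns to every finite p-group Q (in a fixed universe) a subgroup W(Q), nontrivial when Q is, carried to W(R) by every isomorphism Q ≅ R. Suppose W satisfies the local condition: for every finite group G with Sylow p-subgroup P such that C_G(O_p(G)) ≤ O_p(G), one has O_p(G) ∩ [G, G] = O_p(G) ∩ [N, N] for N = N_G(W(P)). Then W controls transfer in every saturated fusion system F over a finite p-group S: the focal subgroup of F equals the focal subgroup of the normalizer fusion system of W(S) in F. -/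
theorem result {p : ℕ} [Fact p.Prime] (W : ∀ (Q : Type u) [Group Q], Subgroup Q) (hW1 : ∀ (Q : Type u) [Group Q] [Finite Q], IsPGroup p Q → Nontrivial Q → W Q ≠ ⊥) (hW2 : ∀ (Q R : Type u) [Group Q] [Group R] [Finite Q], IsPGroup p Q → ∀ φ : Q ≃* R, (W Q).map φ.toMonoidHom = W R) (hT : ∀ (G : Type u) [Group G] [Finite G] (P : Sylow p G), Subgroup.centralizer ((Cfsg.pCore p G : Subgroup G) : Set G) ≤ Cfsg.pCore p G → Cfsg.pCore p G ⊓ commutator G = Cfsg.pCore p G ⊓ (commutator ↥(Subgroup.normalizer (((W ↥(P : Subgroup G)).map (P : Subgroup G).subtype : Subgroup G) : Set G))).map (Subgroup.normalizer (((W ↥(P : Subgroup G)).map (P : Subgroup G).subtype : Subgroup G) : Set G)).subtype) {Ω : Type u} [Group Ω] {S : Subgroup Ω} [Finite S] (hS : IsPGroup p S) (F : Cfsg.FusionSystem S) (hF : F.IsSaturated p) (N : Cfsg.FusionSystem (Cfsg.FusionSystem.normalizerIn S ((W ↥S).map S.subtype))) (hN : F.IsNormalizerSystem ((W ↥S).map S.subtype) N) : N.focalSubgroup = F.focalSubgroup := by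
  change Cfsg.FusionSystem (Cfsg.FusionSystem.normalizerIn S (wOf W S)) at N
  refine le_antisymm (Subgroup.closure_mono fun _ ⟨P, φ, x, hφ, e⟩ => ⟨P, φ, x, normalizerSystem_sub hN P hφ, e⟩) ?_
  refine le_trans (focal_le_moves hW1 hW2 hT hS hF) ((Subgroup.closure_le _).2 ?_)
  rintro _ ⟨M, f, x, hf, hVM, hMN, hi, hx, rfl⟩
  haveI : Finite S := inferInstance
  have hm : ∀ y ∈ M, f y ∈ Cfsg.FusionSystem.normalizerIn S (wOf W S) := fun y hy => by
    have hVS : wOf W S ≤ S := wOf_le S
    haveI := finite_of_le_base hVS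
    refine ⟨hf.mem hy, mem_normalizer_of_map_le fun z hz => ?_⟩
    obtain ⟨w, hw, rfl⟩ := (hf.mono hVM).mem_img.1 (hi.ge hz)
    rw [← hf.map_conj hy (hVM hw)]
    exact hi.le (mem_img_of_mem ((Subgroup.mem_normalizer_iff.1 (hMN hy).2 w).1 hw))
  obtain ⟨φ, hφ, hφf⟩ : Fn N M f := (fn_normalizerSystem hN).2 ⟨hMN, hm, f,
    (sup_eq_left.2 hVM).symm ▸ hf, fun y _ => rfl, hi⟩
  exact Subgroup.subset_closure ⟨M, φ, ⟨x, hx⟩, hφ, by rw [hφf]⟩

end Cfsg.Agent.S5197
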