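import Cfsg.Statements.S5200
import Cfsg.Agent.Lib.FusionSystem.NormalSmallCentralizer
-- import your own Cfsg.Agent.* helpers here

set_option autoImplicit false
open Cfsg

namespace Cfsg.Agent.S5200

/-- Let F be a saturated fusion system over a finite p-group S and E a normal subsystem of F over T whose centralizer in S lies in T: every subgroup Y of C_S(T) such that E is contained in the centralizer fusion system of Y in F satisfies Y ≤ T. Then T·C_S(T)/T is abelian (the commutator subgroup of T·C_S(T) lies in T), and if p is odd then C_S(T) ≤ T. -/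
theorem result {Ω : Type*} [Group Ω] {S : Subgroup Ω} [Finite S] (p : ℕ) [Fact p.Prime] (hS : IsPGroup p S) (F : Cfsg.FusionSystem S) (hF : F.IsSaturated p) {T : Subgroup Ω} (E : Cfsg.FusionSystem T) (hE : E.IsNormalIn F p) (hCE : ∀ Y : Subgroup Ω, Y ≤ Cfsg.FusionSystem.centralizerIn S T → (∀ C : Cfsg.FusionSystem (Cfsg.FusionSystem.centralizerIn S Y), F.IsCentralizerSystem Y C → E.IsSubsystemOf C) → Y ≤ T) : ⁅T ⊔ Cfsg.FusionSystem.centralizerIn S T, T ⊔ Cfsg.FusionSystem.centralizerIn S T⁆ ≤ T ∧ (p ≠ 2 → Cfsg.FusionSystem.centralizerIn S T ≤ T) := by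
  have hbase := fun (X : Subgroup Ω) hX h =>
    CfsgLib.Fsys.NormalCent.le_base_of_centralized (F := F) (E := E) (X := X) hCE hX h
  have hfix : CfsgLib.Fsys.WNR.fixedSubgroup p F E ≤ T :=
    hbase _ (CfsgLib.Fsys.WNR.fixedSubgroup_le p) (CfsgLib.Fsys.WNR.centralized_fixedSubgroup hS hE)
  refine ⟨Subgroup.commutator_le.2 fun a ha b hb => ?_, fun hp x hx => ?_⟩
  · have hc : ∀ t ∈ T, ∀ c ∈ Cfsg.FusionSystem.centralizerIn S T, Commute t c := fun t ht c hc =>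
      (CfsgLib.Fsys.mem_centralizerIn.1 hc).2 t ht
    obtain ⟨t₁, ht₁, c₁, hc₁, rfl⟩ := CfsgLib.Fsys.WNR.mem_sup_of_commute (fun t ht c hc' => hc t ht c hc') ha
    obtain ⟨t₂, ht₂, c₂, hc₂, rfl⟩ := CfsgLib.Fsys.WNR.mem_sup_of_commute (fun t ht c hc' => hc t ht c hc') hb
    have h1 := hfix (CfsgLib.Fsys.NormalCent.commutator_mem_fixed (E := E) (F := F) (p := p) hc₁ hc₂)
    have e1 : t₁ * c₁ * (t₂ * c₂) = t₁ * t₂ * (c₁ * c₂) := (hc _ ht₂ _ hc₁).symm.mul_mul_mul_comm _ _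
    have e2 : t₂ * c₂ * (t₁ * c₁) = t₂ * t₁ * (c₂ * c₁) := (hc _ ht₁ _ hc₂).symm.mul_mul_mul_comm _ _
    have e : t₁ * c₁ * (t₂ * c₂) * (t₁ * c₁)⁻¹ * (t₂ * c₂)⁻¹ = t₁ * t₂ * (c₁ * c₂ * (c₂ * c₁)⁻¹) * (t₂ * t₁)⁻¹ := by
      rw [mul_assoc _ (t₁ * c₁)⁻¹, ← mul_inv_rev (t₂ * c₂), e1, e2]
      group
    rw [commutatorElement_def, e]
    exact T.mul_mem (T.mul_mem (T.mul_mem ht₁ ht₂) h1) (T.inv_mem (T.mul_mem ht₂ ht₁))
  · obtain ⟨t, ht, hxt, hc⟩ := CfsgLib.Fsys.NormalCent.exists_centralized hS hp hE hx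
    have h := T.mul_mem (hbase _ (Subgroup.zpowers_le.2 hxt) hc (Subgroup.mem_zpowers (x * t))) (T.inv_mem ht)
    rwa [mul_inv_cancel_right] at h

end Cfsg.Agent.S5200
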