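import Cfsg.Agent.Lib.FusionSystem.ReductionCentralizer
-- Template for statement S5201 (row 5201; see /opt/grader/pristine/manifest.json for weights).
-- Copy to Cfsg/Agent/S5201.lean and replace the sorry. The statement below is byte-identical to the frozen
-- statement Cfsg.CfsgFrozen.S5201 (Cfsg/Statements/S5201.lean; the theorem Cfsg.fus3_residual_limit_eq_of_normal_with_p_solvable_automizer_quotient);
-- the grader kernel-checks Cfsg.Agent.S5201.result against that frozen type. Keep the theorem IN THIS FILE
-- (a `result` declared elsewhere and merely imported here is not credited); helpers may live anywhere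
-- under Cfsg/Agent/.
import Cfsg.Statements.S5201
-- import your own Cfsg.Agent.* helpers here

set_option autoImplicit false
open Cfsg

namespace Cfsg.Agent.S5201

/-- A reduction to normal subsystems. Let F be a saturated fusion system over a finite p-group S and E a normal subsystem of F over T whose centralizer in S lies in T (every subgroup Y of C_S(T) with E contained in the centralizer fusion system of Y in F satisfies Y ≤ T), and suppose Aut_F(T)/Aut_E(T) is p-solvable. Then F and E have the same residual limit: if F∞ is the residual limit of F (reached by alternately passing to the p-residual and the p'-residual subsystem until nothing changes) and E∞ that of E, then F∞ and E∞ have the same maps. -/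
theorem result {Ω : Type*} [Group Ω] {S : Subgroup Ω} [Finite S] (p : ℕ) [Fact p.Prime] (hS : IsPGroup p S) (F : Cfsg.FusionSystem S) (hF : F.IsSaturated p) {T : Subgroup Ω} (E : Cfsg.FusionSystem T) (hE : E.IsNormalIn F p) (hCE : ∀ Y : Subgroup Ω, Y ≤ Cfsg.FusionSystem.centralizerIn S T → (∀ C : Cfsg.FusionSystem (Cfsg.FusionSystem.centralizerIn S Y), F.IsCentralizerSystem Y C → E.IsSubsystemOf C) → Y ≤ T) [hn : ((E.autGroup T).subgroupOf (F.autGroup T)).Normal] (hsolv : Cfsg.IsPSolvable p (↥(F.autGroup T) ⧸ (E.autGroup T).subgroupOf (F.autGroup T))) {U V : Subgroup Ω} (Finf : Cfsg.FusionSystem U) (hFinf : Finf.IsResidualLimitOf F p) (Einf : Cfsg.FusionSystem V) (hEinf : Einf.IsResidualLimitOf E p) : ∀ P : Subgroup Ω, Finf.Hom P = Einf.Hom P := by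
  obtain ⟨F₀, hn₀, hsub, haut, hlim⟩ := CfsgLib.Fsys.Red.exists_reduced hS hE.1 hsolv
  haveI := CfsgLib.Fsys.finite_of_le_base hn₀.1.2.2.2.1.1
  have hp := hS.to_le hn₀.1.2.2.2.1.1
  have hfix : CfsgLib.Fsys.WNR.fixedSubgroup p F E ≤ T :=
    hCE _ (CfsgLib.Fsys.WNR.fixedSubgroup_le p) fun C hC => CfsgLib.Fsys.Red.centralized_of_le hE.1.2.2.1
      (CfsgLib.Fsys.WNR.centralized_fixedSubgroup hS hE) hC
  obtain ⟨W, L, hL, -⟩ := CfsgLib.Fsys.Red.exists_residualLimit hp hn₀.1.1
  intro P
  rw [hlim hFinf hL P, CfsgLib.Fsys.residualLimit_eq_of_pPowerIndex hp hn₀.1.1 hE.1.1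
    (CfsgLib.Fsys.Red.pPowerIndex_reduced hS hE hfix hn₀.1.1 hn₀.1.2.2.1 hsub haut) hL hEinf P]

end Cfsg.Agent.S5201
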