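import Cfsg.Agent.Lib.FusionSystem.ReductionChain
-- Template for statement S5202 (row 5202; see /opt/grader/pristine/manifest.json for weights).
-- Copy to Cfsg/Agent/S5202.lean and replace the sorry. The statement below is byte-identical to the frozen
-- statement Cfsg.CfsgFrozen.S5202 (Cfsg/Statements/S5202.lean; the theorem Cfsg.fus3_normal_envelope_with_p_solvable_automizer_quotient);
-- the grader kernel-checks Cfsg.Agent.S5202.result against that frozen type. Keep the theorem IN THIS FILE
-- (a `result` declared elsewhere and merely imported here is not credited); helpers may live anywhere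
-- under Cfsg/Agent/.
import Cfsg.Statements.S5202
-- import your own Cfsg.Agent.* helpers here

set_option autoImplicit false
open Cfsg

namespace Cfsg.Agent.S5202

/-- Let F be a saturated fusion system over a finite p-group S and E a normal subsystem of F over T such that Aut_F(T)/Aut_E(T) is p-solvable. Then there is a normal subsystem F₀ of F over T·C_S(T) containing E, with Aut_{F₀}(T) = Aut_E(T), containing every residual limit of F, and whose residual limits have the same maps as those of F. -/
theorem result {Ω : Type*} [Group Ω] {S : Subgroup Ω} [Finite S] (p : ℕ) [Fact p.Prime] (hS : IsPGroup p S) (F : Cfsg.FusionSystem S) (hF : F.IsSaturated p) {T : Subgroup Ω} (E : Cfsg.FusionSystem T) (hE : E.IsNormalIn F p) [hn : ((E.autGroup T).subgroupOf (F.autGroup T)).Normal] (hsolv : Cfsg.IsPSolvable p (↥(F.autGroup T) ⧸ (E.autGroup T).subgroupOf (F.autGroup T))) : ∃ F₀ : Cfsg.FusionSystem (T ⊔ Cfsg.FusionSystem.centralizerIn S T), F₀.IsNormalIn F p ∧ E.IsSubsystemOf F₀ ∧ F₀.autGroup T = E.autGroup T ∧ ∀ {U : Subgroup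 Ω} (Finf : Cfsg.FusionSystem U), Finf.IsResidualLimitOf F p → Finf.IsSubsystemOf F₀ ∧ ∀ {V : Subgroup Ω} (L : Cfsg.FusionSystem V), L.IsResidualLimitOf F₀ p → ∀ P : Subgroup Ω, L.Hom P = Finf.Hom P := by
  obtain ⟨F₀, hn₀, hsub, haut, hlim⟩ := CfsgLib.Fsys.Red.exists_reduced hS hE.1 hsolv
  refine ⟨F₀, hn₀, hsub, haut, fun {U} Finf hFinf => ⟨?_, fun {V} L hL P => (hlim hFinf hL P).symm⟩⟩
  haveI := CfsgLib.Fsys.finite_of_le_base hn₀.1.2.2.2.1.1
  have hp := hS.to_le hn₀.1.2.2.2.1.1
  obtain ⟨V, L, hL, hLs⟩ := CfsgLib.Fsys.Red.exists_residualLimit hp hn₀.1.1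
  exact fun P φ h => hLs P (hlim hFinf hL P ▸ h)

end Cfsg.Agent.S5202
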