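import Cfsg.Agent.Lib.FusionSystem.SectionFreeGroup
-- Template for statement S5206 (row 5206; see /opt/grader/pristine/manifest.json for weights).
-- Copy to Cfsg/Agent/S5206.lean and replace the sorry. The statement below is byte-identical to the frozen
-- statement Cfsg.CfsgFrozen.S5206 (Cfsg/Statements/S5206.lean; the theorem Cfsg.fus3_group_fusion_qd_free_iff_group_qd_free);
-- the grader kernel-checks Cfsg.Agent.S5206.result against that frozen type. Keep the theorem IN THIS FILE
-- (a `result` declared elsewhere and merely imported here is not credited); helpers may live anywhere
-- under Cfsg/Agent/.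
import Cfsg.Statements.S5206
-- import your own Cfsg.Agent.* helpers here

set_option autoImplicit false
universe u
open Cfsg

namespace Cfsg.Agent.S5206

/-- Let p be an odd prime, G a finite group and P a Sylow p-subgroup of G. Then the fusion system of G on P is Qd(p)-free (Qd(p), the natural semidirect product of an elementary abelian group of order p² by SL₂(p), is not involved in any model of the normalizer system of a fully normalized centric subgroup) if and only if Qd(p) is not involved in G. -/
theorem result {G : Type u} [Group G] [Finite G] {p : ℕ} [Fact p.Prime] (hp : p ≠ 2) (P : Sylow p G) : (Cfsg.groupFusionSystem (P : Subgroup G)).IsSectionFree p ↥(Cfsg.qd p) ↔ ¬ Cfsg.Involves ↥(Cfsg.qd p) G := CfsgLib.Fsys.group_sectionFree_iff P hp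

end Cfsg.Agent.S5206
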