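import Cfsg.Statements.S5213
import Cfsg.Agent.Lib.FusionSystem.RankTwoTwo

set_option autoImplicit false
open Cfsg

namespace Cfsg.Agent.S5213

/-- Let S be a finite 2-group of 2-rank 2 (it has an elementary abelian subgroup of order 4 and none of order 8) and F a saturated fusion system over S with trivial centre. Then S is dihedral, semidihedral, wreathed, homocyclic abelian (a direct product of cyclic groups of one common order), or isomorphic to a Sylow 2-subgroup of the projective special unitary group PSU₃(4) (realised over the field with 16 elements). -/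
theorem result {Ω : Type*} [Group Ω] {S : Subgroup Ω} [Finite S] (hS : IsPGroup 2 S) (F : Cfsg.FusionSystem S) (hF : F.IsSaturated 2) (hr : Cfsg.PRankAtLeast 2 2 ↥S ∧ ¬ Cfsg.PRankAtLeast 2 3 ↥S) (hZ : F.center = ⊥) {K : Type*} [Field K] [Fintype K] (hK : Fintype.card K = 16) : (∃ m : ℕ, Nonempty (↥S ≃* DihedralGroup m)) ∨ Cfsg.IsQuasiDihedral ↥S ∨ Cfsg.IsWreathed ↥S ∨ (∃ n k : ℕ, Nonempty (↥S ≃* Multiplicative (Fin k → ZMod (2 ^ n)))) ∨ ∃ T : Sylow 2 (Cfsg.PSU 3 K 4), Nonempty (↥S ≃* ↥(T : Subgroup (Cfsg.PSU 3 K 4))) := by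
  haveI : Fact (Nat.Prime 2) := ⟨Nat.prime_two⟩
  obtain ⟨⟨A, hAc, hA2, hA⟩, h3⟩ := hr
  have h1 : ¬ Cfsg.PRankLE 2 1 ↥S := fun h => by
    have := h A hAc hA2
    norm_num at hA this
    omega
  have h2 : Cfsg.PRankLE 2 2 ↥S := fun B hBc hB2 => by
    obtain ⟨j, hj⟩ := (hS.to_subgroup B).exists_card_eq
    by_contra hgt
    refine h3 ⟨B, hBc, hB2, ?_⟩
    rw [hj] at hgt ⊢
    refine Nat.pow_le_pow_right two_pos ?_
    by_contra hlt
    exact hgt (Nat.pow_le_pow_right two_pos (by omega))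
  let P : Sylow 2 (Cfsg.PSU 3 K 4) := Classical.choice inferInstance
  rcases CfsgLib.Fsys.RankTwoTwo.main hS hF hZ h2 h1 hK P with h | h | h | h | h
  exacts [Or.inl h, Or.inr (Or.inl h), Or.inr (Or.inr (Or.inl h)), Or.inr (Or.inr (Or.inr (Or.inl h))),
    Or.inr (Or.inr (Or.inr (Or.inr ⟨P, h⟩)))]

end Cfsg.Agent.S5213
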