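import Cfsg.Statements.S5214
import Cfsg.Agent.Lib.RankOne.SuzukiTwoOrder
import Cfsg.Agent.Lib.FusionSystem.SmallElements
-- import your own Cfsg.Agent.* helpers here

set_option autoImplicit false
open Cfsg

namespace Cfsg.Agent.S5214

section Helpers

/-- The automorphisms fixing the elements of square one and moving each element by such an element. -/
def stabilizer {G : Type*} [Group G] (hc : ∀ x y : G, x * x = 1 → x * y = y * x) :
    Subgroup (MulAut G) where
  carrier := {a | (∀ x : G, x * x = 1 → a x = x) ∧ ∀ x : G, x⁻¹ * a x * (x⁻¹ * a x) = 1}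
  one_mem' := ⟨fun _ _ => rfl, fun x => by simp⟩
  mul_mem' := fun {a b} ha hb => ⟨fun x hx => by rw [MulAut.mul_apply, hb.1 x hx, ha.1 x hx],
    fun x => by
      have e : a (b x) = a x * (x⁻¹ * b x) := by
        rw [← ha.1 _ (hb.2 x), ← map_mul, mul_inv_cancel_left]
      rw [MulAut.mul_apply, e]
      generalize hu : x⁻¹ * b x = u
      have hu2 : u * u = 1 := hu ▸ hb.2 x
      calc x⁻¹ * (a x * u) * (x⁻¹ * (a x * u)) = (x⁻¹ * a x) * (u * (x⁻¹ * a x)) * u := by group
        _ = (x⁻¹ * a x) * (x⁻¹ * a x) * (u * u) := by rw [hc u _ hu2]; group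
        _ = 1 := by rw [ha.2 x, hu2, one_mul]⟩
  inv_mem' := fun {a} ha => by
    have h1 : ∀ x : G, x * x = 1 → a⁻¹ x = x := fun x hx => a.injective (by
      rw [MulAut.apply_inv_self, ha.1 x hx])
    refine ⟨h1, fun x => ?_⟩
    have h := ha.2 (a⁻¹ x)
    rw [MulAut.apply_inv_self] at h
    calc x⁻¹ * a⁻¹ x * (x⁻¹ * a⁻¹ x) = ((a⁻¹ x)⁻¹ * x * ((a⁻¹ x)⁻¹ * x))⁻¹ := by group
      _ = 1 := by rw [h, inv_one]

end Helpers

/-- Let S be a Suzuki 2-group (a finite nonabelian 2-group with more than one involution admitting a cyclic group of automorphisms permuting its involutions regularly). Then S is normal in every saturated fusion system over S (such a group is resistant). -/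
theorem result {Ω : Type*} [Group Ω] {S : Subgroup Ω} [Finite S] (hS : IsPGroup 2 S) (F : Cfsg.FusionSystem S) (hF : F.IsSaturated 2) (hsz : Cfsg.IsSuzukiTwoGroup ↥S) : F.IsNormal S := by
  haveI : Fact (Nat.Prime 2) := ⟨Nat.prime_two⟩
  obtain ⟨-, -, hna, htwo, K, hK, htr⟩ := hsz
  letI : CommGroup K := IsCyclic.commGroup
  have hA : CfsgLib.RankOne.SuzukiTwo.Trans (K.subtype : K →* MulAut S) := fun x y hx hx2 hy hy2 =>
    (htr x y hx hx2 hy hy2).exists
  have hsq := fun x => CfsgLib.RankOne.SuzukiTwoExp.sq_mem_center hS hA hna htwo x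
  have hZ : ∀ {x : S}, x ∈ Subgroup.center S ↔ x * x = 1 := fun {x} =>
    CfsgLib.RankOne.SuzukiTwoExp.mem_center_iff' hS hA hna
  refine CfsgLib.Fsys.normal_top_of_no_essential hS hF fun P hess => ?_
  have hPS := hess.1.1
  haveI : Finite P := Finite.of_injective _ (Subgroup.inclusion_injective hPS)
  have hinv : ∀ {x : P} {g : Ω}, g ∈ S → x * x = 1 → (x : Ω) * g = g * x := fun {x g} hg hx => by
    have h := Subgroup.mem_center_iff.mp ((hZ (x := ⟨(x : Ω), hPS x.2⟩)).mpr
      (Subtype.ext (congrArg (fun y : P => (y : Ω)) hx))) ⟨g, hg⟩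
    exact (congrArg Subtype.val h).symm
  have hc : ∀ x y : P, x * x = 1 → x * y = y * x := fun x y hx => Subtype.ext (hinv (hPS y.2) hx)
  refine CfsgLib.Fsys.not_essential_of_stabilizer hS hF hess (stabilizer hc) ?_ ?_ ?_
  · intro b _ a _ ha
    refine ⟨fun x hx => ?_, fun x => ?_⟩
    · simp only [MulAut.mul_apply]
      rw [ha.1 _ (by rw [← map_mul, hx, map_one]), MulAut.apply_inv_self]
    · simp only [MulAut.mul_apply]
      have h := ha.2 (b⁻¹ x)
      have := congrArg b h
      simpa only [map_mul, map_inv, map_one, MulAut.apply_inv_self] using this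
  · refine (Subgroup.closure_le _).mpr ?_
    rintro a ⟨g, hg, hga⟩
    refine ⟨fun x hx => Subtype.ext ?_, fun x => Subtype.ext ?_⟩
    · rw [hga, ← hinv hg hx, mul_inv_cancel_right]
    · simp only [Subgroup.coe_mul, InvMemClass.coe_inv, hga, Subgroup.coe_one]
      have hcz : ((⟨(x : Ω), hPS x.2⟩ : S)⁻¹ * ⟨g, hg⟩ * ⟨(x : Ω), hPS x.2⟩ * ⟨g, hg⟩⁻¹) ∈
          Subgroup.center S := by
        generalize (⟨(x : Ω), hPS x.2⟩ : S) = u
        generalize (⟨g, hg⟩ : S) = v
        rw [show u⁻¹ * v * u * v⁻¹ = u⁻¹ * u⁻¹ * (u * v * (u * v)) * (v⁻¹ * v⁻¹) by group]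
        exact mul_mem (mul_mem (hsq _) (hsq _)) (hsq _)
      have h := congrArg Subtype.val (hZ.mp hcz)
      simpa [mul_assoc] using h
  · intro a _ ha hcop
    refine MulEquiv.ext fun x => ?_
    exact CfsgLib.Fsys.fixed_of_fixed_shift (hS.to_le hPS) hcop (ha.1 _ (ha.2 x))

end Cfsg.Agent.S5214
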