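import Cfsg.Statements.S5248
import Cfsg.Agent.Lib.FusionSystem.MaxClassRealize.WrMain

set_option autoImplicit false
open Cfsg

namespace Cfsg.Agent.S5248

open CfsgLib.Fsys.MaxClassRealize in

/-- Let S be a finite 2-group that is dihedral of order at least 8, generalized quaternion of order at least 8, semidihedral, or wreathed, and let F be a saturated fusion system over S. Then F has at most two F-conjugacy classes of F-essential subgroups (among any three essential subgroups two are joined by a map of F), and F is realizable: it is the fusion system of a finite group on a Sylow 2-subgroup. -/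
theorem result {Ω : Type*} [Group Ω] {S : Subgroup Ω} [Finite S] (hS : IsPGroup 2 S) (F : Cfsg.FusionSystem S) (hF : F.IsSaturated 2) (hshape : ((∃ m : ℕ, 4 ≤ m ∧ Nonempty (↥S ≃* DihedralGroup m)) ∨ (∃ m : ℕ, 2 ≤ m ∧ Nonempty (↥S ≃* QuaternionGroup m)) ∨ Cfsg.IsQuasiDihedral ↥S ∨ Cfsg.IsWreathed ↥S)) : (∀ E₁ E₂ E₃ : Subgroup Ω, F.IsEssential 2 E₁ → F.IsEssential 2 E₂ → F.IsEssential 2 E₃ → (∃ φ ∈ F.Hom E₁, φ.range = E₂) ∨ (∃ φ ∈ F.Hom E₁, φ.range = E₃) ∨ (∃ φ ∈ F.Hom E₂, φ.range = E₃)) ∧ F.IsRealizable 2 := by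
  have hpow : ∀ {T : Type} [Group T], (S ≃* T) → ∃ k, Nat.card T = 2 ^ k := fun f => by
    haveI : Fact (Nat.Prime 2) := ⟨Nat.prime_two⟩
    obtain ⟨k, hk⟩ := IsPGroup.iff_card.1 hS
    exact ⟨k, by rw [← Nat.card_congr f.toEquiv, hk]⟩
  rcases hshape with ⟨m, hm, ⟨f⟩⟩ | ⟨m, hm, ⟨f⟩⟩ | hq | hw
  · obtain ⟨k, hk⟩ := hpow f
    rw [DihedralGroup.nat_card] at hk
    obtain ⟨e, rfl⟩ : ∃ e, k = e + 3 := ⟨k - 3, by
      rcases Nat.lt_or_ge k 3 with h | h
      · interval_cases k <;> omega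
      · omega⟩
    obtain rfl : m = 4 * 2 ^ e := by rw [pow_add] at hk; omega
    have h := (mcGen_dihedral (K := 2 ^ e) ⟨e, rfl⟩).map_equiv f.symm
    obtain ⟨hb, h1⟩ := dihedral_models (K := 2 ^ e) ⟨e, rfl⟩
    exact mc_main hS hF h fun p0 p1 _ _ hp => models_of_pair hb h1 p0 p1 hp
  · obtain ⟨k, hk⟩ := hpow f
    haveI : NeZero m := ⟨by omega⟩
    rw [Nat.card_eq_fintype_card, QuaternionGroup.card] at hk
    obtain ⟨e, rfl⟩ : ∃ e, k = e + 3 := ⟨k - 3, by
      rcases Nat.lt_or_ge k 3 with h | h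
      · interval_cases k <;> omega
      · omega⟩
    obtain rfl : m = 2 * 2 ^ e := by rw [pow_add] at hk; omega
    have h := (mcGen_quaternion (K := 2 ^ e) ⟨e, rfl⟩).map_equiv f.symm
    refine mc_main hS hF h fun p0 p1 o0 o1 hp => ?_
    by_cases hK : 2 ≤ 2 ^ e
    · obtain ⟨hb, h1⟩ := quaternion_models ⟨e, rfl⟩ hK
      exact models_of_pair hb h1 p0 p1 hp
    · exfalso
      rcases hp with k0 | k1
      · exact (o0 k0).elim hK fun h2 => by omega
      · exact (o1 k1).elim hK fun h2 => by omega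
  · obtain ⟨n, hn, hc, -⟩ := id hq
    obtain ⟨i, rfl⟩ : ∃ i, n = i + 3 := ⟨n - 3, by omega⟩
    obtain ⟨x, y, h⟩ := qd_mcGen hq (K := 2 ^ (i + 1)) (by rw [hc]; ring)
    refine mc_main hS hF h fun p0 p1 _ _ hp => ?_
    obtain ⟨hq', hb⟩ := sd_q_and_both (e := i + 1) (by omega)
    by_cases h0 : p0 <;> by_cases h1 : p1
    · exact hb.mono fun a b k => ⟨iff_of_true k.1 h0, iff_of_true k.2 h1⟩
    · exact (sd_four i).mono fun a b k => ⟨iff_of_true k.1 h0, iff_of_false k.2 h1⟩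
    · exact hq'.mono fun a b k => ⟨iff_of_false k.1 h0, iff_of_true k.2 h1⟩
    · exact absurd hp (not_or.2 ⟨h0, h1⟩)
  · exact Wr.wr_main hS hF hw

end Cfsg.Agent.S5248
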