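import Cfsg.Statements.S5215
import Cfsg.Agent.Lib.FusionSystem.RankTwoSimple
import Cfsg.Agent.Lib.FusionSystem.RankTwoSimpleGroups
import Cfsg.Agent.S5216

set_option autoImplicit false
open Cfsg

namespace Cfsg.Agent.S5215

open CfsgLib.Fsys CfsgLib.Fsys.MaxClassRealize in
/-- Let S be a finite 2-group of 2-rank 2 (an elementary abelian subgroup of order 4, none of order 8) and F a simple saturated fusion system over S. Then S is dihedral, semidihedral or wreathed, and F is the fusion system of the projective special linear group PSL₂(q) for some odd prime power q ≡ ±1 (mod 8) or of PSL₃(q) for some odd prime power q: it is realized by an injective homomorphism of S into that group whose image is a Sylow 2-subgroup. -/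
theorem result {Ω : Type*} [Group Ω] {S : Subgroup Ω} [Finite S] (hS : IsPGroup 2 S) (F : Cfsg.FusionSystem S) (hF : F.IsSaturated 2) (hr : Cfsg.PRankAtLeast 2 2 ↥S ∧ ¬ Cfsg.PRankAtLeast 2 3 ↥S) (hsimple : F.IsSimple 2) : ((∃ m : ℕ, Nonempty (↥S ≃* DihedralGroup m)) ∨ Cfsg.IsQuasiDihedral ↥S ∨ Cfsg.IsWreathed ↥S) ∧ ∃ (K : Type) (_ : Field K) (_ : Fintype K) (q : ℕ), Fintype.card K = q ∧ Odd q ∧ (((q % 8 = 1 ∨ q % 8 = 7) ∧ ∃ ι : ↥S →* Matrix.ProjectiveSpecialLinearGroup (Fin 2) K, F.IsRealizedBy ι ∧ ∃ T : Sylow 2 (Matrix.ProjectiveSpecialLinearGroup (Fin 2) K), (T : Subgroup (Matrix.ProjectiveSpecialLinearGroup (Fin 2) K)) = ι.range) ∨ (∃ ι : ↥S →* Matrix.ProjectiveSpecialLinearGroup (Fin 3) K, F.IsRealizedBy ι ∧ ∃ T : Sylow 2 (Matrix.ProjectiveSpecialLinearGroup (Fin 3) K), (T : Subgroup (Matrix.ProjectiveSpecialLinearGroup (Fin 3) K)) = ι.range)) := by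
  haveI : Fact (Nat.Prime 2) := ⟨Nat.prime_two⟩
  obtain ⟨hr1, hr3⟩ := id hr
  obtain ⟨A, hAc, hA2, hA⟩ := id hr1
  have h1 : ¬ Cfsg.PRankLE 2 1 ↥S := fun h => by
    have := h A hAc hA2
    norm_num at hA this
    omega
  have h2 : Cfsg.PRankLE 2 2 ↥S := fun B hBc hB2 => by
    obtain ⟨j, hj⟩ := (hS.to_subgroup B).exists_card_eq
    by_contra hgt
    refine hr3 ⟨B, hBc, hB2, ?_⟩
    rw [hj] at hgt ⊢
    refine Nat.pow_le_pow_right two_pos ?_
    by_contra hlt
    exact hgt (Nat.pow_le_pow_right two_pos (by omega))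
  have h4 : 4 ≤ Nat.card S := le_trans (by simpa using hA) (Subgroup.card_le_card_group A)
  have hne : Nat.card S ≠ 2 := by omega
  have hZ : F.center = ⊥ := RankTwoSimple.center_bot hS hsimple hne
  have hnab : ¬ ∀ a b : S, a * b = b * a := fun hc => hne
    ((simple_iff_of_abelian hS hsimple.1 fun x hx y hy =>
      congrArg Subtype.val (hc ⟨x, hx⟩ ⟨y, hy⟩)).1 hsimple).1
  obtain ⟨G₀, _, _, ι₀, hι₀, ⟨T₀, hT₀⟩, hG₀⟩ :=
    RankTwoSimple.exists_simple_group hS hsimple h4 (S5216.result hS F hF hr hZ)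
  have hcard : Nat.card (GaloisField 2 4) = 16 := by
    rw [GaloisField.card 2 4 (by norm_num)]; norm_num
  haveI : Fintype (GaloisField 2 4) := Fintype.ofFinite _
  rw [Nat.card_eq_fintype_card] at hcard
  let P : Sylow 2 (Cfsg.PSU 3 (GaloisField 2 4) 4) := Classical.choice inferInstance
  rcases RankTwoTwo.main hS hF hZ h2 h1 hcard P with ⟨m, ⟨f⟩⟩ | hq | hw | ⟨n, k, ⟨f⟩⟩ | ⟨⟨f⟩⟩
  · refine ⟨Or.inl ⟨m, ⟨f⟩⟩, ?_⟩
    obtain ⟨j, hj⟩ := hS.exists_card_eq
    have hSm : Nat.card S = 2 * m := by rw [Nat.card_congr f.toEquiv, DihedralGroup.nat_card]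
    obtain ⟨e, rfl⟩ : ∃ e, j = e + 3 := ⟨j - 3, by
      rcases Nat.lt_or_ge j 3 with h | h
      · exfalso
        have hj' : j = 2 := by interval_cases j <;> omega
        refine hnab fun a b => ?_
        haveI := IsPGroup.isMulCommutative_of_card_eq_prime_sq (p := 2) (hj.trans (by rw [hj']))
        exact mul_comm' a b
      · omega⟩
    obtain rfl : m = 4 * 2 ^ e := by rw [hj, pow_add] at hSm; omega
    obtain ⟨K, iK, iK', hq8, hodd, hG, T, ⟨f'⟩⟩ := RankTwoSimpleGroups.exists_psl2 e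
    let ι : ↥S →* Matrix.ProjectiveSpecialLinearGroup (Fin 2) K :=
      (T : Subgroup (Matrix.ProjectiveSpecialLinearGroup (Fin 2) K)).subtype.comp (f.trans f'.symm).toMonoidHom
    have hT : (T : Subgroup (Matrix.ProjectiveSpecialLinearGroup (Fin 2) K)) = ι.range := by
      rw [MonoidHom.range_comp, MonoidHom.range_eq_top.2 (f.trans f'.symm).surjective, ← MonoidHom.range_eq_map,
        Subgroup.range_subtype]
    exact ⟨K, iK, iK', _, rfl, hodd, Or.inl ⟨Or.inl hq8, ι,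
      RankTwoSimple.mc_realized hS hF ((mcGen_dihedral (K := 2 ^ e) ⟨e, rfl⟩).map_equiv f.symm)
        (Or.inr ⟨dvd_zero _, dvd_zero _⟩) hι₀ hT₀ hG₀ ι
        ((Subgroup.subtype_injective _).comp (f.trans f'.symm).injective) T hT hG, T, hT⟩⟩
  · refine ⟨Or.inr (Or.inl hq), ?_⟩
    obtain ⟨n, hn, hc, -⟩ := id hq
    obtain ⟨i, rfl⟩ : ∃ i, n = i + 3 := ⟨n - 3, by omega⟩
    obtain ⟨x, y, h⟩ := qd_mcGen hq (K := 2 ^ (i + 1)) (by rw [hc]; ring)
    obtain ⟨K, iK, iK', hodd, hG, T, hTc, hTq⟩ := RankTwoSimpleGroups.exists_psl3_qd (e := i + 1) (by omega)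
    obtain ⟨x', y', h'⟩ := qd_mcGen hTq hTc
    obtain ⟨f, -⟩ := h.exists_iso h'
    let ι : ↥S →* Matrix.ProjectiveSpecialLinearGroup (Fin 3) K :=
      (T : Subgroup (Matrix.ProjectiveSpecialLinearGroup (Fin 3) K)).subtype.comp f.toMonoidHom
    have hT : (T : Subgroup (Matrix.ProjectiveSpecialLinearGroup (Fin 3) K)) = ι.range := by
      rw [MonoidHom.range_comp, MonoidHom.range_eq_top.2 f.surjective, ← MonoidHom.range_eq_map,
        Subgroup.range_subtype]
    exact ⟨K, iK, iK', _, rfl, hodd, Or.inr ⟨ι,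
      RankTwoSimple.mc_realized hS hF h (Or.inl (Nat.le_self_pow (Nat.succ_ne_zero i) 2)) hι₀ hT₀ hG₀ ι
        ((Subgroup.subtype_injective _).comp f.injective) T hT hG, T, hT⟩⟩
  · refine ⟨Or.inr (Or.inr hw), ?_⟩
    obtain ⟨N, x, y, z, h, -⟩ := CfsgLib.Involution.Wreathed.exists_gen hw
    obtain ⟨i, rfl⟩ := h.kpow
    obtain ⟨K, iK, iK', hodd, hG, T, hTc, hTw⟩ := RankTwoSimpleGroups.exists_psl3_wr i
    obtain ⟨N', x', y', z', h', -⟩ := CfsgLib.Involution.Wreathed.exists_gen hTw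
    obtain rfl : N' = 2 ^ i := by
      have := hTc.symm.trans h'.card
      exact (Nat.pow_left_injective two_ne_zero (Nat.eq_of_mul_eq_mul_left (by norm_num) this)).symm
    obtain ⟨f, -⟩ := Wr.exists_iso h h'
    let ι : ↥S →* Matrix.ProjectiveSpecialLinearGroup (Fin 3) K :=
      (T : Subgroup (Matrix.ProjectiveSpecialLinearGroup (Fin 3) K)).subtype.comp f.toMonoidHom
    have hT : (T : Subgroup (Matrix.ProjectiveSpecialLinearGroup (Fin 3) K)) = ι.range := by
      rw [MonoidHom.range_comp, MonoidHom.range_eq_top.2 f.surjective, ← MonoidHom.range_eq_map,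
        Subgroup.range_subtype]
    obtain ⟨ι', hι', hT'⟩ := RankTwoSimple.wr_realized hS hF hw h hι₀ hT₀ hG₀ ι
      ((Subgroup.subtype_injective _).comp f.injective) T hT hG
    exact ⟨K, iK, iK', _, rfl, hodd, Or.inr ⟨ι', hι', T, hT'⟩⟩
  · exact absurd (fun a b => f.injective (by rw [map_mul, map_mul, mul_comm])) hnab
  · exact absurd (S5214.result hS F hF (S5216.suzuki_congr f.symm (S1141.result (n := 2) le_rfl
      (by rw [hcard]; norm_num) P).2.2)) (RankTwoSimple.not_normal_base hS hsimple hne)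

end Cfsg.Agent.S5215
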