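import Cfsg.Agent.Lib.FusionSystem.Agemo
-- Template for statement S5219 (row 5219; see /opt/grader/pristine/manifest.json for weights).
-- Copy to Cfsg/Agent/S5219.lean and replace the sorry. The statement below is byte-identical to the frozen
-- statement Cfsg.CfsgFrozen.S5219 (Cfsg/Statements/S5219.lean; the theorem Cfsg.fus3_exponent_bound_core_free_small_class);
-- the grader kernel-checks Cfsg.Agent.S5219.result against that frozen type. Keep the theorem IN THIS FILE
-- (a `result` declared elsewhere and merely imported here is not credited); helpers may live anywhere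
-- under Cfsg/Agent/.
import Cfsg.Statements.S5219
-- import your own Cfsg.Agent.* helpers here

set_option autoImplicit false
open Cfsg

namespace Cfsg.Agent.S5219

/-- Let p be a prime, n a natural number, S a nontrivial finite p-group of nilpotence class at most n(p−1)+1, and F a saturated fusion system over S with no nontrivial normal subgroup (O_p(F) = 1). Then S has exponent dividing p^(n²(p−1)+n). -/
theorem result {Ω : Type*} [Group Ω] {S : Subgroup Ω} [Finite S] (p : ℕ) [Fact p.Prime] (hS : IsPGroup p S) (F : Cfsg.FusionSystem S) (hF : F.IsSaturated p) (n : ℕ) (hS1 : S ≠ ⊥) (hcl : Subgroup.lowerCentralSeries S (n * (p - 1) + 1) = ⊥) (hcore : F.core = ⊥) : Monoid.exponent ↥S ∣ p ^ (n ^ 2 * (p - 1) + n) := by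
  have hW := CfsgLib.Fsys.agemo_center_normal hS hF n hcl
  have hbot : Cfsg.powerClosure p n (S ⊓ Subgroup.centralizer (S : Set Ω)) = ⊥ :=
    le_bot_iff.1 (hcore ▸ CfsgLib.Fsys.le_core hW)
  have hz : ∀ z : S, z ∈ Subgroup.center S → z ^ p ^ n = 1 := fun z hz => Subtype.ext <| by
    rw [Subgroup.coe_pow, Subgroup.coe_one, ← Subgroup.mem_bot, ← hbot]
    exact Subgroup.subset_closure ⟨(z : Ω), ⟨z.2, Subgroup.mem_centralizer_iff.2 fun y hy =>
      congrArg Subtype.val (Subgroup.mem_center_iff.1 hz ⟨y, hy⟩)⟩, rfl⟩
  have htop : (⊤ : Subgroup S).lowerCentralSeries (n * (p - 1) + 1) = ⊥ := by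
    apply Subgroup.map_injective S.subtype_injective
    rw [Subgroup.map_lowerCentralSeries, ← MonoidHom.range_eq_map, Subgroup.range_subtype, hcl, Subgroup.map_bot]
  refine Monoid.exponent_dvd_of_forall_pow_eq_one fun x => ?_
  have h := CfsgLib.Fsys.pow_eq_one_of_center_exponent _ S htop hz x
  rwa [show n * (n * (p - 1) + 1) = n ^ 2 * (p - 1) + n by ring] at h

end Cfsg.Agent.S5219
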