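import Cfsg.Agent.Lib.FusionSystem.ThompsonFactor
-- Template for statement S5220 (row 5220; see /opt/grader/pristine/manifest.json for weights).
-- Copy to Cfsg/Agent/S5220.lean and replace the sorry. The statement below is byte-identical to the frozen
-- statement Cfsg.CfsgFrozen.S5220 (Cfsg/Statements/S5220.lean; the theorem Cfsg.fus3_generated_by_agemo_center_centralizer_and_thompson_normalizer);
-- the grader kernel-checks Cfsg.Agent.S5220.result against that frozen type. Keep the theorem IN THIS FILE
-- (a `result` declared elsewhere and merely imported here is not credited); helpers may live anywhere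
-- under Cfsg/Agent/.
import Cfsg.Statements.S5220
-- import your own Cfsg.Agent.* helpers here

set_option autoImplicit false
open Cfsg

namespace Cfsg.Agent.S5220

/-- Let F be a saturated fusion system over a nontrivial finite p-group S, let J(S) be the subgroup generated by the abelian subgroups of S of largest order, and let V be the subgroup generated by the p-th powers of the elements of Z(S). Then F is generated by the centralizer fusion system of V and the normalizer fusion system of J(S): every fusion system over S containing the maps of both contains every map of F. -/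
theorem result {Ω : Type*} [Group Ω] {S : Subgroup Ω} [Finite S] (p : ℕ) [Fact p.Prime] (hS : IsPGroup p S) (F : Cfsg.FusionSystem S) (hF : F.IsSaturated p) (hS1 : S ≠ ⊥) (C : Cfsg.FusionSystem (Cfsg.FusionSystem.centralizerIn S (Cfsg.powerClosure p 1 (S ⊓ Subgroup.centralizer (S : Set Ω))))) (hC : F.IsCentralizerSystem (Cfsg.powerClosure p 1 (S ⊓ Subgroup.centralizer (S : Set Ω))) C) (N : Cfsg.FusionSystem (Cfsg.FusionSystem.normalizerIn S (Cfsg.thompsonSubgroupAOf S))) (hN : F.IsNormalizerSystem (Cfsg.thompsonSubgroupAOf S) N) (E : Cfsg.FusionSystem S) (hCE : C.IsSubsystemOf E) (hNE : N.IsSubsystemOf E) : F.IsSubsystemOf E := by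
  open CfsgLib.Fsys in
  have hcen : ∀ s ∈ S, s ∈ Cfsg.FusionSystem.centralizerIn S (zPow p 1 S) := fun s hs =>
    mem_centralizerIn.2 ⟨hs, fun z hz => (Subgroup.mem_centralizer_iff.1 (zPow_le 1 S hz).2 s hs).symm⟩
  have hn : ∀ s ∈ S, s ∈ Cfsg.FusionSystem.normalizerIn S (Cfsg.thompsonSubgroupAOf S) := fun s hs => by
    refine ⟨hs, ?_⟩
    have hfin := finite_of_le_base (wOf_le (W := fun Q _ => jA Q) S)
    refine mem_normalizer_of_map_le (P := wOf (fun Q _ => jA Q) S) fun x hx => ?_
    have hf := fn_conj (F := F) (le_refl S) hs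
    have h := map_wOf (W := fun Q _ => jA Q) (jA_map (p := p)) hS hf
    rw [hf.img_eq_self fun x hx => hf.mem hx] at h
    exact h.le (mem_img_of_mem hx)
  refine le_of_thompson hS hF E (fun P f hf hZP hz => ?_) (fun P f hf hJP hi => ?_)
  · obtain ⟨φ, hφ, hφf⟩ := id hf
    refine Fn.of_subsystem hCE ⟨φ, (hC P).symm ▸ ⟨hφ, fun x hx => hcen x (hf.le hx), fun x => hcen _ ((F.le_of_mem hφ).2 x),
      φ.comp (Subgroup.inclusion (sup_le le_rfl hZP)), ?_, fun x => rfl, fun x => ?_⟩, hφf⟩
    · exact mem_hom_of_fn (hf.mono (sup_le le_rfl hZP)) fun x => hφf ⟨x, _⟩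
    · exact (hφf ⟨x, hZP x.2⟩).trans (hz x x.2)
  · refine Fn.of_subsystem hNE ((fn_normalizerSystem hN).2 ⟨fun x hx => hn x (hf.le hx), fun x hx => hn _ (hf.mem hx),
      f, by rwa [sup_eq_left.2 hJP], fun x _ => rfl, hi⟩)

end Cfsg.Agent.S5220
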