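import Cfsg.Agent.Lib.FusionSystem.CharCriterion
-- Template for statement S5221 (row 5221; see /opt/grader/pristine/manifest.json for weights).
-- Copy to Cfsg/Agent/S5221.lean and replace the sorry. The statement below is byte-identical to the frozen
-- statement Cfsg.CfsgFrozen.S5221 (Cfsg/Statements/S5221.lean; the theorem Cfsg.fus3_sparse_system_constrained);
-- the grader kernel-checks Cfsg.Agent.S5221.result against that frozen type. Keep the theorem IN THIS FILE
-- (a `result` declared elsewhere and merely imported here is not credited); helpers may live anywhere
-- under Cfsg/Agent/.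
import Cfsg.Statements.S5221
-- import your own Cfsg.Agent.* helpers here

set_option autoImplicit false
open Cfsg

namespace Cfsg.Agent.S5221

/-- Let F be a sparse fusion system over a finite p-group S: a saturated fusion system, not the inner fusion system of S, whose only saturated fusion systems over S contained in it are F itself and the inner one. If p is odd, or F is S₄-free (the symmetric group of degree 4 is not involved in any model of the normalizer system of a fully normalized F-centric subgroup), then F is constrained. -/
theorem result {Ω : Type*} [Group Ω] {S : Subgroup Ω} [Finite S] (p : ℕ) [Fact p.Prime] (hS : IsPGroup p S) (F : Cfsg.FusionSystem S) (hF : F.IsSaturated p) (hsp : ¬ (∀ P : Subgroup Ω, F.Hom P = (Cfsg.innerFusionSystem S).Hom P) ∧ ∀ E : Cfsg.FusionSystem S, E.IsSaturated p → E.IsSubsystemOf F → (∀ P : Subgroup Ω, E.Hom P = F.Hom P) ∨ (∀ P : Subgroup Ω, E.Hom P = (Cfsg.innerFusionSystem S).Hom P)) (hp : p ≠ 2 ∨ F.IsSectionFree p (Equiv.Perm (Fin 4))) : F.IsConstrained p := by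
  open CfsgLib.Fsys in
  exact constrained_of_minimal' hS hF (sFour_of_sectionFree hS hF hp) (fun E hle hnle hEs => by
    rcases hsp.2 E hEs hle with h | h
    · exact absurd (fun P => (h P).ge) hnle
    · exact pAut_of_le_inner hS fun P => (h P).le) (not_pAut_of_ne hS hF hsp.1)

end Cfsg.Agent.S5221
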