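import Cfsg.Agent.Lib.FusionSystem.InnerFrattini
import Cfsg.Agent.Lib.FusionSystem.Subsystems
-- Template for statement S5222 (row 5222; see /opt/grader/pristine/manifest.json for weights).
-- Copy to Cfsg/Agent/S5222.lean and replace the sorry. The statement below is byte-identical to the frozen
-- statement Cfsg.CfsgFrozen.S5222 (Cfsg/Statements/S5222.lean; the theorem Cfsg.fus3_sylow_normalizer_inner_controls_between_derived_and_frattini);
-- the grader kernel-checks Cfsg.Agent.S5222.result against that frozen type. Keep the theorem IN THIS FILE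
-- (a `result` declared elsewhere and merely imported here is not credited); helpers may live anywhere
-- under Cfsg/Agent/.
import Cfsg.Statements.S5222
-- import your own Cfsg.Agent.* helpers here

set_option autoImplicit false
open Cfsg

namespace Cfsg.Agent.S5222

/-- Let F be a saturated fusion system over a finite p-group S whose normalizer fusion system of S is the inner fusion system of S (Aut_F(S) is a p-group). Then for every subgroup Q of S with [S, S] ≤ Q ≤ Φ(S), the normalizer fusion system of Q in F is the inner fusion system of N_S(Q) = S. -/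
theorem result {Ω : Type*} [Group Ω] {S : Subgroup Ω} [Finite S] (p : ℕ) [Fact p.Prime] (hS : IsPGroup p S) (F : Cfsg.FusionSystem S) (hF : F.IsSaturated p) (hN : ∀ N : Cfsg.FusionSystem (Cfsg.FusionSystem.normalizerIn S S), F.IsNormalizerSystem S N → ∀ P : Subgroup Ω, N.Hom P = (Cfsg.innerFusionSystem (Cfsg.FusionSystem.normalizerIn S S)).Hom P) (Q : Subgroup Ω) (h1 : (commutator ↥S).map S.subtype ≤ Q) (h2 : Q ≤ (frattini ↥S).map S.subtype) : ∀ N : Cfsg.FusionSystem (Cfsg.FusionSystem.normalizerIn S Q), F.IsNormalizerSystem Q N → ∀ P : Subgroup Ω, N.Hom P = (Cfsg.innerFusionSystem (Cfsg.FusionSystem.normalizerIn S Q)).Hom P := by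
  classical
  intro N hN' P
  have hQS : Q ≤ S := fun x hx => by obtain ⟨y, -, rfl⟩ := h2 hx; exact y.2
  have hnorm : S ≤ Subgroup.normalizer (Q : Set Ω) := by
    intro s hs
    refine Subgroup.mem_normalizer_iff.2 fun x => ?_
    have key : ∀ u ∈ S, ∀ y ∈ Q, u * y * u⁻¹ ∈ Q := fun u hu y hy => by
      have h := Q.mul_mem (h1 ⟨_, Subgroup.commutator_mem_commutator (Subgroup.mem_top ⟨u, hu⟩)
        (Subgroup.mem_top ⟨y, hQS hy⟩), rfl⟩) hy
      simpa [commutatorElement_def, mul_assoc] using h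
    exact ⟨key s hs x, fun hx => by simpa [mul_assoc] using key s⁻¹ (S.inv_mem hs) _ hx⟩
  have hT : Cfsg.FusionSystem.normalizerIn S Q = S := inf_eq_left.2 hnorm
  have hQF : F.IsFullyNormalized Q := by
    refine ⟨hQS, fun R _ => ?_⟩
    rw [hT]
    exact Nat.card_le_card_of_injective (fun x => (⟨(x : Ω), x.2.1⟩ : S))
      fun a b e => Subtype.ext (congrArg (Subtype.val : S → Ω) e)
  have hsat : N.IsSaturated p := CfsgLib.Fsys.normalizerSystem_saturated hS hF hQF hN'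
  have : Finite (Cfsg.FusionSystem.normalizerIn S Q) := hT.symm ▸ ‹Finite S›
  have hfn : ∀ {R : Subgroup Ω} {f : Ω → Ω}, CfsgLib.Fsys.Fn N R f →
      ∃ g, CfsgLib.Fsys.Fn F (R ⊔ Q) g ∧ (∀ x ∈ R, g x = f x) ∧ CfsgLib.Fsys.img g Q = Q := by
    rintro R f ⟨φ, hφ, hf⟩
    rw [hN' R] at hφ
    obtain ⟨-, -, -, ψ, hψ, he, hi⟩ := hφ
    refine ⟨_, CfsgLib.Fsys.fn_ofHom hψ, fun x hx => ?_, ?_⟩
    · rw [CfsgLib.Fsys.ofHom_apply ψ (Subgroup.mem_sup_left hx), ← hf ⟨x, hx⟩]
      exact he ⟨x, hx⟩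
    · rw [← CfsgLib.Fsys.map_subgroupOf_eq_img (fun x => (CfsgLib.Fsys.ofHom_coe ψ x).symm) le_sup_right]
      exact hi
  have hQN : N.IsNormal Q := by
    refine CfsgLib.Fsys.normal_iff_fn.2 ⟨hT.symm ▸ hQS, fun R f hf => ?_⟩
    obtain ⟨g, hg, he, hi⟩ := hfn hf
    refine ⟨g, ?_, he, hi⟩
    obtain ⟨φ, hφ, hφg⟩ := id hg
    refine ⟨φ, ?_, hφg⟩
    rw [hN' (R ⊔ Q)]
    refine CfsgLib.Fsys.normalizerHom_iff.2 ⟨?_, fun x hx => ?_, g, ?_, fun x hx => ?_, ?_⟩
    · rw [CfsgLib.Fsys.kN_top, hT]; exact hg.le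
    · rw [CfsgLib.Fsys.kN_top, hT]; exact (CfsgLib.Fsys.fn_ofHom hφ).mem hx
    · rwa [sup_eq_left.2 le_sup_right]
    · rw [CfsgLib.Fsys.ofHom_apply φ hx, hφg]
    · exact (CfsgLib.Fsys.ind_top_iff hg le_sup_right).2 hi
  have h1' : (commutator (Cfsg.FusionSystem.normalizerIn S Q)).map
      (Cfsg.FusionSystem.normalizerIn S Q).subtype ≤ Q := by rw [hT]; exact h1
  have h2' : Q ≤ (frattini (Cfsg.FusionSystem.normalizerIn S Q)).map
      (Cfsg.FusionSystem.normalizerIn S Q).subtype := by rw [hT]; exact h2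
  have hAut : ∀ g, CfsgLib.Fsys.Fn N (Cfsg.FusionSystem.normalizerIn S Q) g →
      ∃ s ∈ Cfsg.FusionSystem.normalizerIn S Q, ∀ x ∈ Cfsg.FusionSystem.normalizerIn S Q,
        g x = s * x * s⁻¹ := by
    intro g hg
    obtain ⟨g', hg', he, -⟩ := hfn hg
    rw [hT, sup_eq_left.2 hQS] at hg'
    rw [hT] at he ⊢
    obtain ⟨E, hE⟩ := CfsgLib.Fsys.exists_normalizerSystem F (le_refl S)
    obtain ⟨φ, hφ, hφg⟩ := id hg'
    have hmem : φ ∈ F.normalizerHom S S := by
      have hn : ∀ x ∈ S, x ∈ Cfsg.FusionSystem.normalizerIn S S := fun x hx => ⟨hx, Subgroup.le_normalizer hx⟩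
      refine CfsgLib.Fsys.normalizerHom_iff.2 ⟨?_, fun x hx => ?_, g', ?_, fun x hx => ?_, ?_⟩
      · rw [CfsgLib.Fsys.kN_top]; exact hn
      · rw [CfsgLib.Fsys.kN_top]; exact hn _ ((CfsgLib.Fsys.fn_ofHom hφ).mem hx)
      · rwa [sup_idem]
      · rw [CfsgLib.Fsys.ofHom_apply φ hx, hφg]
      · exact (CfsgLib.Fsys.ind_top_iff hg' le_rfl).2 (hg'.img_eq_self fun x hx => hg'.mem hx)
    rw [← hE S, hN E hE] at hmem
    obtain ⟨-, s, hs, hc⟩ := hmem
    exact ⟨s, hs.1, fun x hx => by rw [← he x hx, ← hφg ⟨x, hx⟩]; exact hc ⟨x, hx⟩⟩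
  refine Set.Subset.antisymm (fun φ hφ => CfsgLib.Fsys.inner_of_normal_le_frattini
    (hS.to_le (le_of_eq hT)) hsat hQN h1' h2' hAut hφ) ?_
  rintro φ ⟨hP, g, hg, hφ⟩
  rw [show φ = Cfsg.conjHom P g from MonoidHom.ext hφ]
  exact N.conj_mem hP hg

end Cfsg.Agent.S5222
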