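import Cfsg.Agent.Lib.FusionSystem.TateFocal
-- Template for statement S5224 (row 5224; see /opt/grader/pristine/manifest.json for weights).
-- Copy to Cfsg/Agent/S5224.lean and replace the sorry. The statement below is byte-identical to the frozen
-- statement Cfsg.CfsgFrozen.S5224 (Cfsg/Statements/S5224.lean; the theorem Cfsg.fus3_tate_control_of_transfer_equivalences);
-- the grader kernel-checks Cfsg.Agent.S5224.result against that frozen type. Keep the theorem IN THIS FILE
-- (a `result` declared elsewhere and merely imported here is not credited); helpers may live anywhere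
-- under Cfsg/Agent/.
import Cfsg.Statements.S5224
-- import your own Cfsg.Agent.* helpers here

set_option autoImplicit false
open Cfsg

namespace Cfsg.Agent.S5224

/-- Tate's Theorem for fusion systems. Let F be a saturated fusion system over a finite p-group S and H a saturated fusion system over S contained in F. Then the following are equivalent: the elementary focal subgroups Φ(S)·foc agree for F and H; the focal subgroups of F and H agree; the hyperfocal subgroups of F and H agree. -/
theorem result {Ω : Type*} [Group Ω] {S : Subgroup Ω} [Finite S] (p : ℕ) [Fact p.Prime] (hS : IsPGroup p S) (F : Cfsg.FusionSystem S) (hF : F.IsSaturated p) (H : Cfsg.FusionSystem S) (hH : H.IsSaturated p) (hHF : H.IsSubsystemOf F) : (((frattini ↥S).map S.subtype ⊔ F.focalSubgroup) = ((frattini ↥S).map S.subtype ⊔ H.focalSubgroup) ↔ F.focalSubgroup = H.focalSubgroup) ∧ (F.focalSubgroup = H.focalSubgroup ↔ F.hyperfocalSubgroup p = H.hyperfocalSubgroup p) := by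
  have hle := CfsgLib.Fsys.focal_mono hHF
  refine ⟨⟨fun h => CfsgLib.Fsys.focal_eq_of_frattini_sup hS hF hHF (le_sup_right.trans h.le),
    fun h => by rw [h]⟩, ⟨fun h => CfsgLib.Fsys.hyperfocal_eq_of_focal_eq hS hF hH hHF h, fun h => ?_⟩⟩
  rw [CfsgLib.Fsys.focal_eq_hyperfocal_sup hS hF, CfsgLib.Fsys.focal_eq_hyperfocal_sup hS hH, h]

end Cfsg.Agent.S5224
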