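import Cfsg.Statements.S5225
import Cfsg.Agent.Lib.FusionSystem.BisetTransfer
import Cfsg.Agent.Lib.FusionSystem.TateFocal
import Cfsg.Agent.Lib.FusionSystem.LocalModels
import Cfsg.Agent.Lib.KGroups.Wreath

set_option autoImplicit false
open Cfsg

namespace Cfsg.Agent.S5225

open CfsgLib.Fsys CfsgLib.Fsys.CharBiset CfsgLib.Fsys.Park


/-- Yoshida's Theorem for fusion systems. Let F be a saturated fusion system over a finite p-group S and N the normalizer fusion system of S in F. If the focal subgroups of F and N differ (N does not control transfer in F), then S has a quotient isomorphic to the wreath product C_p ≀ C_p (realised as a Sylow p-subgroup of the symmetric group of degree p²). -/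
theorem result {Ω : Type*} [Group Ω] {S : Subgroup Ω} [Finite S] (p : ℕ) [Fact p.Prime] (hS : IsPGroup p S) (F : Cfsg.FusionSystem S) (hF : F.IsSaturated p) (N : Cfsg.FusionSystem (Cfsg.FusionSystem.normalizerIn S S)) (hN : F.IsNormalizerSystem S N) (hne : N.focalSubgroup ≠ F.focalSubgroup) : ∃ (W : Sylow p (Equiv.Perm (Fin (p ^ 2)))) (f : ↥S →* ↥(W : Subgroup (Equiv.Perm (Fin (p ^ 2))))), Function.Surjective f := by
  classical
  by_contra hno
  have hT : FusionSystem.normalizerIn S S = S := inf_eq_left.2 Subgroup.le_normalizer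
  haveI : Finite ↥(FusionSystem.normalizerIn S S) := finite_of_le_base normalizerIn_le
  have hcomm : ⁅S, S⁆ ≤ N.focalSubgroup := by
    have h := commutator_le_focal (F := N)
    calc ⁅S, S⁆ = ⁅FusionSystem.normalizerIn S S, FusionSystem.normalizerIn S S⁆ := by rw [hT]
      _ ≤ _ := h
  set D : Subgroup ↥S := N.focalSubgroup.subgroupOf S with hD
  have hcD : commutator ↥S ≤ D := fun x hx => hcomm (by
    rw [← Subgroup.map_subtype_commutator]
    exact ⟨x, hx, rfl⟩)
  haveI hDn : D.Normal := ⟨fun d hd g => by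
    have h := D.mul_mem (hcD (Subgroup.commutator_mem_commutator (Subgroup.mem_top g) (Subgroup.mem_top d))) hd
    simpa [commutatorElement_def, mul_assoc] using h⟩
  letI : CommGroup (↥S ⧸ D) :=
    { (inferInstance : Group (↥S ⧸ D)) with
      mul_comm := fun a b => by
        obtain ⟨a, rfl⟩ := QuotientGroup.mk_surjective a
        obtain ⟨b, rfl⟩ := QuotientGroup.mk_surjective b
        refine QuotientGroup.eq.2 ?_
        have h := hcD (Subgroup.commutator_mem_commutator (Subgroup.mem_top b⁻¹) (Subgroup.mem_top a⁻¹))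
        simpa [commutatorElement_def, mul_assoc] using h }
  let lam : ↥S →* ↥S ⧸ D := QuotientGroup.mk' D
  obtain ⟨E, hE⟩ : ∃ E, Nat.card (↥S ⧸ D) = p ^ E := (hS.to_quotient D).exists_card_eq
  have hlamE : ∀ s, lam s ^ p ^ E = 1 := fun s => by rw [← hE, pow_card_eq_one']
  -- stable under the automorphisms of `S`
  have haut : ∀ (f : Ω → Ω) (hf : Fn F S f) (s : ↥S), lam ⟨f s, hf.mem s.2⟩ = lam s := by
    intro f hf s
    obtain ⟨φ, hφ, hφf⟩ : Fn N S f := (fn_normalizerSystem hN).2 ⟨hT.ge, fun x hx => hT.ge (hf.mem hx), f,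
      by rwa [sup_idem], fun y _ => rfl, hf.img_eq_self fun x hx => hf.mem hx⟩
    refine (QuotientGroup.eq.2 ?_).symm
    exact Subgroup.subset_closure ⟨S, φ, s, hφ, by rw [hφf]; rfl⟩
  have haut' : ∀ {j : ℕ} (f : Ω → Ω) (hf : Fn F S f) (s : ↥S),
      (lam ^ j) ⟨f s, hf.mem s.2⟩ = (lam ^ j) s := fun f hf s => by
    rw [MonoidHom.pow_apply, MonoidHom.pow_apply, haut f hf s]
  -- `Def μ`: a conjugate pair with different values
  let Def : (↥S →* ↥S ⧸ D) → Prop := fun μ =>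
    ∃ (Q : Subgroup Ω) (f : Ω → Ω) (hf : Fn F Q f) (t : ↥S) (ht : (t : Ω) ∈ Q), μ ⟨f t, hf.mem ht⟩ ≠ μ t
  have hd0 : Def lam := by
    by_contra hnd
    refine hne (le_antisymm ((Subgroup.closure_le _).2 ?_) ((Subgroup.closure_le _).2 ?_))
    · rintro _ ⟨P, φ, x, hφ, rfl⟩
      exact Subgroup.subset_closure ⟨P, φ, x, normalizerSystem_sub hN P hφ, rfl⟩
    · rintro _ ⟨P, φ, x, hφ, rfl⟩
      have hf := fn_ofHom hφ
      by_contra hbad
      refine hnd ⟨P, ofHom φ, hf, ⟨x, hf.le x.2⟩, x.2, fun h => hbad ?_⟩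
      have h' := QuotientGroup.eq.1 h.symm
      rw [hD, Subgroup.mem_subgroupOf] at h'
      simpa [ofHom_coe] using h'
  obtain ⟨k0, hk0, hk1⟩ : ∃ k, Def (lam ^ p ^ k) ∧ ¬ Def (lam ^ p ^ (k + 1)) := by
    by_contra hall
    push Not at hall
    have hk : ∀ k, Def (lam ^ p ^ k) := fun k => by
      induction k with
      | zero => rwa [pow_zero, pow_one]
      | succ k ih => exact hall k ih
    obtain ⟨Q, f, hf, t, ht, hne'⟩ := hk E
    exact hne' (by rw [MonoidHom.pow_apply, MonoidHom.pow_apply, hlamE, hlamE])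
  set μ := lam ^ p ^ k0 with hμ
  have hstab_p : ∀ (Q : Subgroup Ω) (f : Ω → Ω) (hf : Fn F Q f) (t : ↥S) (ht : (t : Ω) ∈ Q),
      μ ⟨f t, hf.mem ht⟩ ^ p = μ t ^ p := by
    intro Q f hf t ht
    by_contra hne'
    refine hk1 ⟨Q, f, hf, t, ht, fun h => hne' ?_⟩
    rw [hμ, MonoidHom.pow_apply, MonoidHom.pow_apply, ← pow_mul, ← pow_mul, ← pow_succ]
    rwa [MonoidHom.pow_apply, MonoidHom.pow_apply] at h
  -- the least order of a defect
  let Pd : ℕ → Prop := fun d => ∃ (Q : Subgroup Ω) (f : Ω → Ω) (hf : Fn F Q f) (t : ↥S) (ht : (t : Ω) ∈ Q),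
    μ ⟨f t, hf.mem ht⟩ ≠ μ t ∧ orderOf t = d
  have hPd : ∃ d, Pd d := by
    obtain ⟨Q, f, hf, t, ht, h⟩ := hk0
    exact ⟨_, Q, f, hf, t, ht, h, rfl⟩
  obtain ⟨Q, f, hf, t, ht, hdef, hdt⟩ := Nat.find_spec hPd
  have hord : ∀ (Q : Subgroup Ω) (f : Ω → Ω) (hf : Fn F Q f) (t : ↥S) (ht : (t : Ω) ∈ Q),
      orderOf (⟨f t, hf.mem ht⟩ : ↥S) = orderOf t := by
    intro Q f hf t ht
    obtain ⟨φ, -, hφf⟩ := id hf
    rw [← Subgroup.orderOf_coe, ← Subgroup.orderOf_coe t]
    show orderOf (f (t : Ω)) = _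
    rw [← hφf ⟨t, ht⟩]
    refine (orderOf_injective φ (fun a b hab => ?_) _).trans (Subgroup.orderOf_mk ..)
    rw [hφf, hφf] at hab
    exact Subtype.ext (hf.inj a.2 b.2 hab)
  -- the transfer
  obtain ⟨X, _, _, m, hm, hcard, htw, hstab⟩ := exists_biset hS hF
  let R : Subgroup (↥S × ↥S) := (⊥ : Subgroup ↥S).prod ⊤
  let χ : R →* ↥S ⧸ D := (μ.comp ((MonoidHom.snd ↥S ↥S).comp R.subtype))⁻¹
  have hfree : ∀ (x : X) (t : ↥S), ((1 : ↥S), t) • x = x → t = 1 := by
    intro x t h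
    obtain ⟨f, hf, he⟩ := tw_witness (htw x)
    obtain ⟨h2, h1⟩ := (he ((1 : ↥S), t)).1 h
    exact Subtype.ext ((hf.eq_one_iff h2).1 h1.symm)
  obtain ⟨ℓ, hℓ'⟩ := exists_char_equivariant (X := X) χ fun x h hx => by
    have e1 : h.1 = ((1 : ↥S), h.1.2) := Prod.ext h.2.1 rfl
    have e2 : h.1.2 = 1 := hfree x h.1.2 (by rw [← e1]; exact hx)
    show (μ h.1.2)⁻¹ = 1
    rw [e2]
    rw [map_one, inv_one]
  have hℓ : ∀ (t : ↥S) (x : X), ℓ (((1 : ↥S), t) • x) = (μ t)⁻¹ * ℓ x := fun t x =>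
    hℓ' ⟨((1 : ↥S), t), rfl, trivial⟩ x
  obtain ⟨tr, htr1, -, -, htr4⟩ := exists_transfer_of hcard htw hstab μ ℓ hℓ
  let O := Quotient (MulAction.orbitRel R X)
  letI : Fintype O := Fintype.ofFinite O
  have hcm : ∀ (s t : ↥S) (x : X),
      ((s, (1 : ↥S)) • ((1 : ↥S), t) • x : X) = ((1 : ↥S), t) • (s, (1 : ↥S)) • x := fun s t x => by
    rw [← mul_smul, ← mul_smul]
    simp
  have horb : ∀ {x y : X}, MulAction.orbitRel R X x y → ∃ t : ↥S, ((1 : ↥S), t) • y = x := by
    intro x y h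
    obtain ⟨r, e⟩ := MulAction.mem_orbit_iff.1 h
    have e1 : r.1 = ((1 : ↥S), r.1.2) := Prod.ext r.2.1 rfl
    exact ⟨r.1.2, by rw [← e1]; exact e⟩
  letI act : MulAction ↥S O :=
    { smul := fun s => Quotient.map' (fun x => (s, (1 : ↥S)) • x) fun x y h => by
        obtain ⟨t, rfl⟩ := horb h
        exact ⟨⟨((1 : ↥S), t), rfl, trivial⟩, (hcm s t y).symm⟩
      one_smul := fun o => by
        induction o using Quotient.inductionOn with
        | h x => exact congrArg (Quotient.mk _) (one_smul (↥S × ↥S) x)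
      mul_smul := fun a b o => by
        induction o using Quotient.inductionOn with
        | h x =>
          refine congrArg (Quotient.mk _) ?_
          show ((a * b, (1 : ↥S)) : ↥S × ↥S) • x = (a, (1 : ↥S)) • (b, (1 : ↥S)) • x
          rw [← mul_smul, Prod.mk_mul_mk, one_mul] }
  have hsmk : ∀ (s : ↥S) (x : X),
      s • (Quotient.mk (MulAction.orbitRel R X) x : O) = Quotient.mk _ ((s, (1 : ↥S)) • x) := fun _ _ => rfl
  let e : ↥S → O → ↥S ⧸ D := fun s o => ℓ ((s, (1 : ↥S)) • o.out) * (ℓ o.out)⁻¹ * (μ s)⁻¹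
  have he : ∀ (s : ↥S) (x : X), e s (Quotient.mk _ x) = ℓ ((s, (1 : ↥S)) • x) * (ℓ x)⁻¹ * (μ s)⁻¹ := by
    intro s x
    obtain ⟨t, ht⟩ := horb (Quotient.mk_out (s := MulAction.orbitRel R X) x)
    show ℓ (_ • (Quotient.mk (MulAction.orbitRel R X) x).out) * (ℓ (Quotient.mk (MulAction.orbitRel R X) x).out)⁻¹ * _ = _
    rw [← ht, hcm, hℓ, hℓ]
    exact Additive.ofMul.injective (by simp [ofMul_mul, ofMul_inv]; abel)
  have hc : ∀ a b o, e (a * b) o = e a (b • o) * e b o := by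
    intro a b o
    induction o using Quotient.inductionOn with
    | h x =>
      rw [hsmk, he, he, he, ← mul_smul, Prod.mk_mul_mk, one_mul, map_mul]
      exact Additive.ofMul.injective (by simp [ofMul_mul, ofMul_inv]; abel)
  have hstabfn : ∀ (s : ↥S) (o : O), s • o = o → ∃ (Q : Subgroup Ω) (f : Ω → Ω) (hf : Fn F Q f) (r : ↥S)
      (hr : (r : Ω) ∈ Q), (⟨f r, hf.mem hr⟩ : ↥S) = s ∧ e s o = μ r * (μ s)⁻¹ ∧
        ((∀ g : ↥S, g • o = o) → Q = S) := by
    intro s o
    induction o using Quotient.inductionOn with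
    | h x =>
      intro hs
      obtain ⟨t, ht⟩ := horb (Quotient.exact (hs : (Quotient.mk _ ((s, (1 : ↥S)) • x) : O) = Quotient.mk _ x))
      change ((1 : ↥S), t) • x = (s, (1 : ↥S)) • x at ht
      obtain ⟨f, hf, hef⟩ := tw_witness (htw x)
      have hst : (s, t⁻¹) ∈ MulAction.stabilizer (↥S × ↥S) x := by
        show (s, t⁻¹) • x = x
        rw [show (s, t⁻¹) = ((1 : ↥S), t)⁻¹ * (s, (1 : ↥S)) by simp, mul_smul, ← ht, inv_smul_smul]
      obtain ⟨h2, h1⟩ := (hef _).1 hst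
      refine ⟨_, f, hf, t⁻¹, h2, Subtype.ext h1.symm, ?_, fun hall => ?_⟩
      · rw [he, ← ht, hℓ, mul_inv_cancel_right, map_inv]
      · haveI := finite_of_le_base (dom_le (MulAction.stabilizer (↥S × ↥S) x))
        refine Subgroup.eq_of_le_of_card_ge (dom_le _) ?_
        rw [card_dom (htw x)]
        refine Nat.card_le_card_of_surjective (fun a : MulAction.stabilizer (↥S × ↥S) x => a.1.1) fun g => ?_
        obtain ⟨t', ht'⟩ := horb (Quotient.exact (hall g : (Quotient.mk _ ((g, (1 : ↥S)) • x) : O) = Quotient.mk _ x))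
        change ((1 : ↥S), t') • x = (g, (1 : ↥S)) • x at ht'
        refine ⟨⟨(g, t'⁻¹), ?_⟩, rfl⟩
        show (g, t'⁻¹) • x = x
        rw [show (g, t'⁻¹) = ((1 : ↥S), t')⁻¹ * (g, (1 : ↥S)) by simp, mul_smul, ← ht', inv_smul_smul]
  have hcardO : Nat.card O = m := by
    have hb : Function.Bijective (fun z : O × ↥S => ((1 : ↥S), z.2) • z.1.out) := by
      refine ⟨fun ⟨o, t⟩ ⟨o', t'⟩ h => ?_, fun x => ?_⟩
      · change ((1 : ↥S), t) • o.out = ((1 : ↥S), t') • o'.out at h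
        obtain rfl : o = o' := by
          rw [← Quotient.out_eq o, ← Quotient.out_eq o']
          refine Quotient.sound ⟨⟨((1 : ↥S), t⁻¹ * t'), rfl, trivial⟩, ?_⟩
          show ((1 : ↥S), t⁻¹ * t') • o'.out = o.out
          rw [show ((1 : ↥S), t⁻¹ * t') = ((1 : ↥S), t)⁻¹ * ((1 : ↥S), t') by simp, mul_smul, ← h, inv_smul_smul]
        refine Prod.ext rfl (inv_mul_eq_one.1 (hfree o.out _ (show ((1 : ↥S), t'⁻¹ * t) • o.out = o.out from ?_))).symm
        rw [show ((1 : ↥S), t'⁻¹ * t) = ((1 : ↥S), t')⁻¹ * ((1 : ↥S), t) by simp, mul_smul, h, inv_smul_smul]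
      · obtain ⟨t, ht⟩ := horb ((MulAction.orbitRel R X).symm (Quotient.mk_out (s := MulAction.orbitRel R X) x))
        exact ⟨(_, t), ht⟩
    have h := Nat.card_eq_of_bijective _ hb
    rw [Nat.card_prod, hcard, mul_comm] at h
    exact Nat.eq_of_mul_eq_mul_left Nat.card_pos h
  have htrval : ∀ s : ↥S, orderOf s = Nat.find hPd → tr s = μ s ^ m := by
    intro s hs
    by_contra hne'
    refine hno (CfsgLib.KGroups.Wreath.cocycle_product hS e hc s ?_ ?_ ?_ fun hone => hne' ?_)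
    · intro r o hro
      obtain ⟨Q, f, hf, r', hr', rfl, he', -⟩ := hstabfn r o hro
      rw [he', mul_pow, inv_pow, hstab_p Q f hf r' hr', mul_inv_cancel]
    · intro r o hro hlt
      obtain ⟨Q, f, hf, r', hr', rfl, he', -⟩ := hstabfn r o hro
      rw [he']
      by_contra hbad
      refine Nat.find_min hPd (hs ▸ hlt) ⟨Q, f, hf, r', hr', fun h => hbad ?_, (hord Q f hf r' hr').symm⟩
      rw [h, mul_inv_cancel]
    · intro o ho
      obtain ⟨Q, f, hf, r', hr', hre, he', hQ⟩ := hstabfn s o (ho s)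
      subst hre
      obtain rfl := hQ ho
      rw [he', haut' f hf r', mul_inv_cancel]
    · rw [htr4 s, finprod_eq_prod_of_fintype, ← hcardO, Nat.card_eq_fintype_card, ← Finset.card_univ]
      have h : ∏ o : O, e s o = (∏ o : O, ℓ ((s, (1 : ↥S)) • o.out) * (ℓ o.out)⁻¹) * ((μ s)⁻¹) ^ (Finset.univ : Finset O).card := by
        rw [← Finset.prod_const, ← Finset.prod_mul_distrib]
      rw [hone, inv_pow] at h
      exact mul_inv_eq_one.1 h.symm
  have e1 := htrval t hdt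
  have e2 := htrval ⟨f t, hf.mem ht⟩ ((hord Q f hf t ht).trans hdt)
  rw [htr1 Q f hf t ht, e1] at e2
  exact hdef (CfsgLib.LocalEven.Yoshida.pow_inj (p := p) (k := E) (l := E) hm
    (by rw [hμ, MonoidHom.pow_apply, ← pow_mul, mul_comm, pow_mul, hlamE, one_pow])
    (by rw [hμ, MonoidHom.pow_apply, ← pow_mul, mul_comm, pow_mul, hlamE, one_pow]) e2.symm)

end Cfsg.Agent.S5225
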