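import Cfsg.Agent.Lib.FusionSystem.Normal
-- Template for statement S5226 (row 5226; see /opt/grader/pristine/manifest.json for weights).
-- Copy to Cfsg/Agent/S5226.lean and replace the sorry. The statement below is byte-identical to the frozen
-- statement Cfsg.CfsgFrozen.S5226 (Cfsg/Statements/S5226.lean; the theorem Cfsg.fus3_normal_iff_strongly_closed_with_weakly_closed_central_series);
-- the grader kernel-checks Cfsg.Agent.S5226.result against that frozen type. Keep the theorem IN THIS FILE
-- (a `result` declared elsewhere and merely imported here is not credited); helpers may live anywhere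
-- under Cfsg/Agent/.
import Cfsg.Statements.S5226
-- import your own Cfsg.Agent.* helpers here

set_option autoImplicit false
open Cfsg
open scoped commutatorElement

namespace Cfsg.Agent.S5226

/-- Let F be a saturated fusion system over a finite p-group S and Q a subgroup of S. Then Q is normal in F (F equals the normalizer system of Q) if and only if Q is strongly closed in F and admits a central series 1 = Q₀ ≤ Q₁ ≤ ⋯ ≤ Qₙ = Q ([Qᵢ₊₁, Q] ≤ Qᵢ) all of whose proper terms are weakly closed in F. -/
theorem result {Ω : Type*} [Group Ω] {S : Subgroup Ω} [Finite S] (p : ℕ) [Fact p.Prime] (hS : IsPGroup p S) (F : Cfsg.FusionSystem S) (hF : F.IsSaturated p) (Q : Subgroup Ω) : F.IsNormal Q ↔ F.StronglyClosed Q ∧ ∃ (n : ℕ) (C : Fin (n + 1) → Subgroup Ω), C 0 = ⊥ ∧ C (Fin.last n) = Q ∧ Monotone C ∧ (∀ i : Fin n, ⁅C i.succ, Q⁆ ≤ C i.castSucc) ∧ ∀ i : Fin n, F.WeaklyClosed (C i.castSucc) := by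
  open CfsgLib.Fsys in
  constructor
  · intro h
    obtain ⟨C, n, h0, hn, hmono, hsc, hcomm⟩ := normal_series hS h
    refine ⟨normal_stronglyClosed h, n, fun i => C i, h0, hn, fun a b hab => hmono hab,
      fun i => ?_, fun i => weaklyClosed_of_stronglyClosed (hsc _ i.2.le)⟩
    rw [Subgroup.commutator_comm]
    exact hcomm i i.2
  · rintro ⟨hQ, n, C', h0, hn, hmono, hcomm, hwc⟩
    let C : ℕ → Subgroup Ω := fun i => C' ⟨min i n, Nat.lt_succ_of_le (min_le_right i n)⟩
    have hC0 : C 0 = ⊥ := by
      show C' _ = ⊥
      rw [show (⟨min 0 n, _⟩ : Fin (n + 1)) = 0 from Fin.ext (Nat.zero_min n), h0]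
    have hCn : C n = Q := by
      show C' _ = Q
      rw [show (⟨min n n, _⟩ : Fin (n + 1)) = Fin.last n from Fin.ext (min_self n), hn]
    have hCQ : ∀ i, C i ≤ Q := fun i => hn ▸ hmono (Fin.le_last _)
    have hCm : Monotone C := fun a b hab => hmono (Fin.mk_le_mk.2 (min_le_min_right n hab))
    have hcomm' : ∀ i < n, ⁅C (i + 1), Q⁆ ≤ C i := fun i hi => by
      convert hcomm ⟨i, hi⟩ using 3
      all_goals first | (show min i n = i; omega) | (refine Fin.ext ?_; simp; omega)
    have hw : ∀ i ≤ n, F.WeaklyClosed (C i) := fun i hi => by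
      rcases eq_or_lt_of_le hi with rfl | hlt
      · rw [hCn]; exact weaklyClosed_of_stronglyClosed hQ
      · convert hwc ⟨i, hlt⟩ using 2
        exact Fin.ext (min_eq_left hi)
    have hnorm : ∀ i ≤ n, S ≤ Subgroup.normalizer (C i : Set Ω) := fun i hi s hs => by
      have := finite_of_le_base ((hCQ i).trans hQ.1)
      exact mem_normalizer_of_map_le fun x hx =>
        (weaklyClosed_img (hw i hi) ((hCQ i).trans hQ.1) (fn_conj le_rfl hs)).le (mem_img_of_mem hx)
    refine normal_of_stronglyClosed_of_le hS hF hQ fun P hc hr => ?_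
    suffices h : ∀ i ≤ n, C i ≤ P from hCn ▸ h n le_rfl
    intro i
    induction i with
    | zero => exact fun _ => hC0 ▸ bot_le
    | succ i ih =>
      intro hi
      have hiP := ih (Nat.le_of_succ_le hi)
      refine le_of_forall_normalizer hS hc.1 ((hCQ _).trans hQ.1) (hc.1.trans (hnorm _ hi)) fun t ht htN => ?_
      refine mem_of_series hS hc hr (fun j => if j ≤ i then C j else if j = i + 1 then P ⊓ Q else P)
        (i + 2) ?_ ?_ ?_ ?_ ⟨(hCQ _).trans hQ.1 ht, htN⟩ ?_
      · simp [hC0]
      · simp
      · intro j _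
        split_ifs with h1 h2
        · exact (hCm h1).trans hiP
        · exact inf_le_left
        · exact le_rfl
      · intro j _ α hα x hx
        have hf := (mem_autGroup_iff_fn hc.1).1 hα
        split_ifs at hx ⊢ with h1 h2
        · exact (weaklyClosed_img (hw j (h1.trans (Nat.le_of_succ_le hi))) ((hCm h1).trans hiP) hf).le
            (mem_img_of_mem hx)
        · exact ⟨autFn_mem α hx.1, (stronglyClosed_iff_fn.1 hQ).2 _ _ hf x hx.1 hx.2⟩
        · exact autFn_mem α hx
      · intro j hj x hx
        rcases Nat.lt_or_ge j (i + 1) with hji | hji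
        · have hji' : j ≤ i := Nat.lt_succ_iff.1 hji
          simp only [hji', if_true]
          have hjn : j < n := hji.trans_le hi
          have key : ∀ y ∈ C (j + 1), ⁅y, t⁆ ∈ C j → x = y → x⁻¹ * (t * x * t⁻¹) ∈ C j := by
            rintro y hy h1 rfl
            have := (mem_normalizer_iff'.1 (hnorm j hjn.le ((hCQ _).trans hQ.1 hy))).2 _ ((C j).inv_mem h1)
            simpa [commutatorElement_def, mul_assoc] using this
          rcases eq_or_lt_of_le hji' with rfl | hlt
          · simp only [Nat.not_succ_le_self, if_false, if_true] at hx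
            have h1 : ⁅t, x⁆ ∈ C j := hcomm' j hjn (Subgroup.commutator_mem_commutator ht hx.2)
            have := (mem_normalizer_iff'.1 (hnorm j hjn.le (hQ.1 hx.2))).2 _ h1
            simpa [commutatorElement_def, mul_assoc] using this
          · rw [if_pos (Nat.succ_le_of_lt hlt)] at hx
            exact key x hx (hcomm' j hjn (Subgroup.commutator_mem_commutator hx (hCQ _ ht))) rfl
        · obtain rfl : j = i + 1 := by omega
          simp only [Nat.not_succ_le_self, if_false, if_true]
          have hxP : x ∈ P := by simpa [show ¬ i + 1 + 1 ≤ i by omega] using hx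
          refine ⟨P.mul_mem (P.inv_mem hxP) ((mem_normalizer_iff'.1 htN).1 x hxP), ?_⟩
          have h1 := sc_conj hQ (S.inv_mem (hc.1 hxP)) (hCQ _ ht)
          simpa [mul_assoc] using Q.mul_mem h1 (Q.inv_mem (hCQ _ ht))

end Cfsg.Agent.S5226
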