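import Cfsg.Statements.S5239
import Mathlib
import Cfsg.Agent.Lib.FusionSystem.PearlThree
-- import your own Cfsg.Agent.* helpers here

set_option autoImplicit false
open Cfsg

namespace Cfsg.Agent.S5239

/-- Let F be a saturated fusion system over a finite 3-group S having a pearl: an F-essential subgroup E that is elementary abelian of order 9 or nonabelian of order 27. Then either S is extraspecial of order 27 and exponent 3, or S has order at least 81 and every subgroup of S can be generated by at most two elements, or S is isomorphic to the wreath product C₃ ≀ C₃ (a Sylow 3-subgroup of the symmetric group of degree 9). -/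
theorem result {Ω : Type*} [Group Ω] {S : Subgroup Ω} [Finite S] (hS : IsPGroup 3 S) (F : Cfsg.FusionSystem S) (hF : F.IsSaturated 3) [Fact (Nat.Prime 3)] (E : Subgroup Ω) (hE : F.IsEssential 3 E) (hpearl : (Nat.card E = 9 ∧ ∀ x ∈ E, x ^ 3 = 1 ∧ IsMulCommutative ↥E) ∨ (Nat.card E = 27 ∧ ¬ IsMulCommutative ↥E)) : (Cfsg.IsExtraspecial 3 ↥S ∧ Nat.card S = 27 ∧ Monoid.exponent ↥S = 3) ∨ (81 ≤ Nat.card S ∧ ∀ H : Subgroup Ω, H ≤ S → ∃ T : Finset Ω, T.card ≤ 2 ∧ Subgroup.closure (T : Set Ω) = H) ∨ (∃ W : Sylow 3 (Equiv.Perm (Fin 9)), Nonempty (↥S ≃* ↥(W : Subgroup (Equiv.Perm (Fin 9))))) := by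
  classical
  obtain ⟨n, hn⟩ := IsPGroup.iff_card.mp hS
  have hpearl' : (Nat.card E = 3 ^ 2 ∧ ∀ x ∈ E, x ^ 3 = 1 ∧ IsMulCommutative ↥E) ∨
      (Nat.card E = 3 ^ 3 ∧ ¬ IsMulCommutative ↥E) := by norm_num; exact hpearl
  obtain ⟨x, hx, hx1, hC⟩ := CfsgLib.Fsys.pearl_element hS hF (by norm_num) hE hpearl'
  have h2 := CfsgLib.PGroup.SmallCentralizer.two_le_of_centralizer hn hC
  have hlt := CfsgLib.Fsys.essential_lt hS hF hE
  have hpos : Nat.card E < 3 ^ n := hn ▸ lt_of_le_of_ne (Subgroup.card_le_of_le hlt.le)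
    fun e => hlt.ne (Subgroup.eq_of_le_of_card_ge hlt.le e.ge)
  rcases Nat.lt_or_ge n 4 with h4 | h4
  · left
    rcases hpearl' with ⟨h9, -⟩ | ⟨h27, -⟩
    · have hn3 : n = 3 := by
        rw [h9] at hpos
        have := (Nat.pow_lt_pow_iff_right (by norm_num : 1 < 3)).mp hpos
        omega
      subst hn3
      have hna : ¬ IsMulCommutative ↥S := fun h => by
        have htop : Subgroup.centralizer ({x} : Set ↥S) = ⊤ := eq_top_iff.mpr fun u _ =>
          Subgroup.mem_centralizer_singleton_iff.mpr (h.1.1 u x)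
        rw [htop, Subgroup.card_top, hn] at hC
        norm_num at hC
      have hna' : ∃ u v : ↥S, u * v ≠ v * u := by
        by_contra hc
        push Not at hc
        exact hna ⟨⟨hc⟩⟩
      exact ⟨CfsgLib.LocalEvenB.OrderPCubed.isExtraspecial hn hna', by rw [hn]; norm_num,
        CfsgLib.Fsys.exponent_of_pearl_card_27 hS hF hE h9 hn hna⟩
    · exfalso
      rw [h27] at hpos
      have := (Nat.pow_lt_pow_iff_right (by norm_num : 1 < 3)).mp hpos
      omega
  · rcases CfsgLib.PGroup.SmallCentralizer.two_gen_three hn hC hx hx1 h4 with h | ⟨hn4, hM, hexp⟩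
    · refine Or.inr (Or.inl ⟨?_, fun H hH => ?_⟩)
      · rw [hn]
        exact le_trans (by norm_num) (Nat.pow_le_pow_right (by norm_num : 0 < 3) h4)
      · obtain ⟨T, hT, hTH⟩ := h (H.subgroupOf S)
        refine ⟨T.image S.subtype, Finset.card_image_le.trans hT, ?_⟩
        rw [Finset.coe_image, ← MonoidHom.map_closure, hTH, Subgroup.subgroupOf_map_subtype, inf_eq_left.mpr hH]
    · exact Or.inr (Or.inr (CfsgLib.PGroup.SmallCentralizer.equiv_sylow_perm_nine hn hC hx hx1 h4 hn4 hM hexp))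

end Cfsg.Agent.S5239
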