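import Cfsg.Agent.Lib.FusionSystem.CharacterNormal
-- Template for statement S5243 (row 5243; see /opt/grader/pristine/manifest.json for weights).
-- Copy to Cfsg/Agent/S5243.lean and replace the sorry. The statement below is byte-identical to the frozen
-- statement Cfsg.CfsgFrozen.S5243 (Cfsg/Statements/S5243.lean; the theorem Cfsg.fus3_prime_to_p_character_on_strongly_closed_automizer_gives_normal_subsystem);
-- the grader kernel-checks Cfsg.Agent.S5243.result against that frozen type. Keep the theorem IN THIS FILE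
-- (a `result` declared elsewhere and merely imported here is not credited); helpers may live anywhere
-- under Cfsg/Agent/.
import Cfsg.Statements.S5243
-- import your own Cfsg.Agent.* helpers here

set_option autoImplicit false
open Cfsg CfsgLib.Fsys CfsgLib.Fsys.WNR

namespace Cfsg.Agent.S5243

/-- Let F be a saturated fusion system over a finite p-group S, E a normal subsystem of F over T ≤ S, and χ a surjective homomorphism from Aut_F(T) onto a nontrivial finite group Δ of order prime to p whose kernel contains Aut_E(T). Then there is a proper normal subsystem F₀ of F over S containing E such that Aut_{F₀}(S) consists of those α ∈ Aut_F(S) whose restriction to T is an element of Aut_F(T) in the kernel of χ; moreover every p'-residual subsystem O^{p'}(F) of F is contained in F₀. -/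
theorem result {Ω : Type*} [Group Ω] {S : Subgroup Ω} [Finite S] (p : ℕ) [Fact p.Prime] (hS : IsPGroup p S) (F : Cfsg.FusionSystem S) (hF : F.IsSaturated p) {T : Subgroup Ω} (hTS : T ≤ S) (E : Cfsg.FusionSystem T) (hE : E.IsNormalIn F p) {Δ : Type*} [Group Δ] [Finite Δ] [Nontrivial Δ] (hΔ : (Nat.card Δ).Coprime p) (χ : ↥(F.autGroup T) →* Δ) (hχ : Function.Surjective χ) (hker : (E.autGroup T).subgroupOf (F.autGroup T) ≤ χ.ker) : ∃ F₀ : Cfsg.FusionSystem S, F₀.IsNormalIn F p ∧ ¬ (∀ P : Subgroup Ω, F₀.Hom P = F.Hom P) ∧ E.IsSubsystemOf F₀ ∧ (∀ α : MulAut ↥S, α ∈ F₀.autGroup S ↔ α ∈ F.autGroup S ∧ ∃ β : ↥(F.autGroup T), χ β = 1 ∧ ∀ t : ↥T, (((β : MulAut ↥T) t : ↥T) : Ω) = ((α ⟨(t : Ω), hTS t.2⟩ : ↥S) : Ω)) ∧ ∀ R : Cfsg.FusionSystem S, F.IsPPrimeResidual p R → R.IsSubsystemOf F₀ := by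
  classical
  obtain ⟨hw, -⟩ := hE
  let K : Subgroup (MulAut T) := χ.ker.map (F.autGroup T).subtype
  have hK : IsCharKernel F E p K := by
    refine ⟨Subgroup.map_subtype_le _, ?_, fun a ha => ⟨⟨a, autGroup_mono' hw.2.2.1 T ha⟩, hker ha, rfl⟩, ?_⟩
    · rintro α hα _ ⟨k, hk, rfl⟩
      exact ⟨⟨α, hα⟩ * k * ⟨α, hα⟩⁻¹, χ.normal_ker.conj_mem k hk _, rfl⟩
    · rintro α hα k ⟨y, hy, hye⟩
      refine ⟨⟨α, hα⟩, ?_, rfl⟩
      have hy' : y = (⟨α, hα⟩ : F.autGroup T) ^ p ^ k := Subtype.ext hye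
      have h1 : χ ⟨α, hα⟩ ^ p ^ k = 1 := by rw [← map_pow, ← hy']; exact hy
      have h2 : Nat.Coprime (Nat.card Δ) (p ^ k) := Nat.Coprime.pow_right k hΔ
      exact orderOf_eq_one_iff.1
        (Nat.eq_one_of_dvd_coprimes h2 (orderOf_dvd_natCard _) (orderOf_dvd_of_pow_eq_one h1))
  have hiff : ∀ α : MulAut ↥S, α ∈ (characterSystem p F E hTS K).autGroup S ↔ α ∈ F.autGroup S ∧
      ∃ β : ↥(F.autGroup T), χ β = 1 ∧
        ∀ t : ↥T, (((β : MulAut ↥T) t : ↥T) : Ω) = ((α ⟨(t : Ω), hTS t.2⟩ : ↥S) : Ω) := by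
    intro α
    rw [autGroup_characterSystem hS hw hK, mem_liftKernel]
    refine and_congr_right fun _ => ⟨?_, ?_⟩
    · rintro ⟨_, ⟨β, hβ, rfl⟩, h⟩
      refine ⟨β, hβ, fun t => ?_⟩
      rw [← autFn_coe, ← autFn_coe α ⟨(t : Ω), hTS t.2⟩]
      exact h t t.2
    · rintro ⟨β, hβ, h⟩
      refine ⟨(β : MulAut T), ⟨β, hβ, rfl⟩, fun t ht => ?_⟩
      rw [autFn_coe (β : MulAut T) ⟨t, ht⟩, autFn_coe α ⟨t, hTS ht⟩]
      exact h ⟨t, ht⟩
  refine ⟨characterSystem p F E hTS K, characterSystem_normal hS hw hK, fun heq => ?_,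
    le_characterSystem hS hw hK, hiff, fun R hR => hR.2.2 _ (characterSystem_saturated hS hw hK)
      (characterSystem_primeToP hS hw hK)⟩
  obtain ⟨δ, hδ⟩ := exists_ne (1 : Δ)
  obtain ⟨γ, rfl⟩ := hχ δ
  have hγK : (γ : MulAut T) ∉ K := by
    rintro ⟨y, hy, hye⟩
    exact hδ (Subtype.ext hye ▸ hy)
  obtain ⟨α, hα, hαn⟩ := exists_not_mem_lift (hTS := hTS) hS hw hK γ.2 hγK
  apply hαn
  rw [← autGroup_characterSystem hS hw hK]
  refine (mem_autGroup le_rfl).2 ?_
  rw [heq S]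
  exact (mem_autGroup le_rfl).1 hα

end Cfsg.Agent.S5243
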