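import Cfsg.Statements.S5244
import Cfsg.Agent.Lib.FusionSystem.AbelianIndexPCentre

set_option autoImplicit false
open Cfsg

namespace Cfsg.Agent.S5244

open Cfsg.FusionSystem CfsgLib.Fsys CfsgLib.Fsys.CentralIndex CfsgLib.Fsys.AbelianIndexP
open scoped commutatorElement

/-- Let p be an odd prime, S a finite nonabelian p-group with a unique abelian subgroup A of index p, and F a saturated fusion system over S with no nontrivial normal subgroup (O_p(F) = 1) in which A is not F-essential. Then some subgroup Z(S)⟨x⟩ with x ∈ S outside A is F-essential, the centre Z(S) is contained in the commutator subgroup of S, and S has maximal nilpotency class (if S has order pⁿ with n ≥ 3, the term of index n − 2 of its lower central series, counting S itself as the term of index 0, is nontrivial). -/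
theorem result {Ω : Type*} [Group Ω] {S : Subgroup Ω} [Finite S] (p : ℕ) [Fact p.Prime] (hS : IsPGroup p S) (F : Cfsg.FusionSystem S) (hF : F.IsSaturated p) (hp : p ≠ 2) (hna : ¬ IsMulCommutative ↥S) (A : Subgroup Ω) (hA : A ≤ S ∧ IsMulCommutative ↥A ∧ (A.subgroupOf S).index = p) (huniq : ∀ B : Subgroup Ω, B ≤ S → IsMulCommutative ↥B → (B.subgroupOf S).index = p → B = A) (hcore : F.core = ⊥) (hAe : ¬ F.IsEssential p A) : (∃ x ∈ S, x ∉ A ∧ F.IsEssential p ((S ⊓ Subgroup.centralizer (S : Set Ω)) ⊔ Subgroup.zpowers x)) ∧ (S ⊓ Subgroup.centralizer (S : Set Ω)) ≤ (commutator ↥S).map S.subtype ∧ ∀ n : ℕ, Nat.card S = p ^ n → 3 ≤ n → Subgroup.lowerCentralSeries S (n - 2) ≠ ⊥ := by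
  have h := setup_of_hyps hS hF hna hA huniq
  obtain ⟨P, x, e, d, g, hZe⟩ := centre_of_core_bot h hp hcore hAe
  have hxS := d.hxS
  have hxA := d.notMem
  have hPeq : P = (S ⊓ Subgroup.centralizer (S : Set Ω)) ⊔ Subgroup.zpowers x := by
    refine le_antisymm (fun v hv => ?_) (sup_le (Zc_le_essential d.ess) (Subgroup.zpowers_le.2 d.mem))
    obtain ⟨b, hb, hbP, j, rfl⟩ := decomp_in h d.ess d.mem hxA hv
    exact Subgroup.mul_mem _ (Subgroup.mem_sup_left (d.inter b hbP hb))
      (Subgroup.mem_sup_right (Subgroup.zpow_mem _ (Subgroup.mem_zpowers x) j))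
  have hder : e ∈ (commutator ↥S).map S.subtype := (mem_derived_iff h hxS hxA).2 g.rep
  refine ⟨⟨x, hxS, hxA, hPeq ▸ d.ess⟩, fun z hz => Subgroup.zpowers_le.2 hder (hZe z hz), fun n hn hn3 hbot => ?_⟩
  have hlcs : S.lowerCentralSeries (n - 3) ≤ Zc S := by
    intro u hu
    have huS : u ∈ S := by
      have := S.lowerCentralSeries_antitone (Nat.zero_le (n - 3)) hu
      rwa [Subgroup.lowerCentralSeries_zero] at this
    refine mem_Zc.2 ⟨huS, fun s hs => ?_⟩
    have h1 : ⁅s, u⁆ ∈ S.lowerCentralSeries (n - 3 + 1) := comm_mem_lcs h hs hu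
    rw [show n - 3 + 1 = n - 2 by omega, hbot, Subgroup.mem_bot, commutatorElement_eq_one_iff_mul_comm] at h1
    exact h1
  haveI := finite_A h
  have htop := ker_eq_top_of_lcs h hxS hxA hlcs
  have hcA := card_ker_le h hxS (g.relIndex_eq hxA).le (n - 3)
  have hZ : ker h hxS 1 = (Subgroup.zpowers e).subgroupOf A := by
    ext a
    rw [mem_ker_one h hxS hxA, Subgroup.mem_subgroupOf]
    exact ⟨hZe _, fun ha => Subgroup.zpowers_le.2 g.mem ha⟩
  rw [htop, Subgroup.card_top, hZ,
    Nat.card_congr (Subgroup.subgroupOfEquivOfLe ((Subgroup.zpowers_le.2 g.mem).trans h.Zc_le)).toEquiv,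
    Nat.card_zpowers, orderOf_eq_prime g.pow g.ne] at hcA
  have h2 := Subgroup.card_mul_index (A.subgroupOf S)
  rw [show (A.subgroupOf S).index = p from h.idx,
    Nat.card_congr (Subgroup.subgroupOfEquivOfLe h.le).toEquiv, hn] at h2
  obtain ⟨i, rfl⟩ : ∃ i, n = i + 3 := ⟨n - 3, by omega⟩
  rw [Nat.add_sub_cancel] at hcA
  have hpp := (Fact.out : p.Prime).one_lt
  have h4 : Nat.card ↥A * p ≤ p * p ^ i * p := Nat.mul_le_mul_right _ hcA
  rw [h2, show p * p ^ i * p = p ^ (i + 2) by ring] at h4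
  exact absurd ((Nat.pow_le_pow_iff_right hpp).1 h4) (by omega)

end Cfsg.Agent.S5244
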