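import Cfsg.Agent.Lib.FusionSystem.ZJSolvable
import Cfsg.Agent.Lib.FusionSystem.SectionFreeGroup
-- Template for statement S5249 (row 5249; see /opt/grader/pristine/manifest.json for weights).
-- Copy to Cfsg/Agent/S5249.lean and replace the sorry. The statement below is byte-identical to the frozen
-- statement Cfsg.CfsgFrozen.S5249 (Cfsg/Statements/S5249.lean; the theorem Cfsg.fus3_group_fusion_of_qd_free_group_solvable);
-- the grader kernel-checks Cfsg.Agent.S5249.result against that frozen type. Keep the theorem IN THIS FILE
-- (a `result` declared elsewhere and merely imported here is not credited); helpers may live anywhere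
-- under Cfsg/Agent/.
import Cfsg.Statements.S5249
-- import your own Cfsg.Agent.* helpers here

set_option autoImplicit false
open Cfsg

namespace Cfsg.Agent.S5249

/-- Let p be an odd prime, G a finite group in which Qd(p) (the natural semidirect product of an elementary abelian group of order p² by SL₂(p)) is not involved, and P a Sylow p-subgroup of G. Then the fusion system of G on P is a solvable fusion system. -/
theorem result {G : Type*} [Group G] [Finite G] {p : ℕ} [Fact p.Prime] (hp : p ≠ 2) (hqd : ¬ Cfsg.Involves ↥(Cfsg.qd p) G) (P : Sylow p G) : (Cfsg.groupFusionSystem (P : Subgroup G)).IsSolvableSystem := CfsgLib.Fsys.solvable_of_qdFree hp P.2 _ (CfsgLib.Fsys.group_isSaturated P)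
    ((CfsgLib.Fsys.group_sectionFree_iff P hp).2 hqd)

end Cfsg.Agent.S5249
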