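import Cfsg.Statements.S5252
import Cfsg.Agent.Lib.FusionSystem.ControlTransfer
import Cfsg.Agent.Lib.FusionSystem.ZJCriterion
import Cfsg.Agent.Lib.KGroups.Functor.KInfControl
import Cfsg.Agent.Lib.KGroups.Functor.IndexP
import Cfsg.Agent.Lib.KGroups.KInfinity

set_option autoImplicit false
open Cfsg

namespace Cfsg.Agent.S5252

/-- Let p ≥ 5 be a prime and F a saturated fusion system over a nontrivial finite p-group S such that Aut_F(S) is a p-group. Then the focal subgroup of F is a proper subgroup of S. -/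
theorem result {Ω : Type*} [Group Ω] {S : Subgroup Ω} [Finite S] (p : ℕ) [Fact p.Prime] (hS : IsPGroup p S) (F : Cfsg.FusionSystem S) (hF : F.IsSaturated p) (hp : 5 ≤ p) (hS1 : S ≠ ⊥) (haut : IsPGroup p ↥(F.autGroup S)) : F.focalSubgroup < S := by
  open CfsgLib.Fsys CfsgLib.KGroups in
  exact (by
  classical
  have hW := Functor.isCharPFunctor_kInfLower.{_} p
  have hctl : ∀ (X : Type _) [Group X] [Finite X],
      Cfsg.ControlsTransferIn p (Cfsg.inducedFunctor (G := X) fun Q _ => Cfsg.kInfLower Q) ⊤ := fun X _ _ =>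
    Functor.controlsTransfer_kInf_top hp hW (Functor.isKInf_lower)
  set W : Subgroup Ω := wOf (fun Q _ => Cfsg.kInfLower Q) S with hWdef
  have hfoc : F.focalSubgroup ≤ moves F W := focal_le_moves (W := fun Q _ => Cfsg.kInfLower Q) hW.1 hW.2
    (fun G _ _ P hc => by
      have h := Functor.transfer_at P hW (hctl G)
      rw [Subgroup.map_subtype_commutator]
      haveI := CfsgLib.LocalEven.SylowIn.pCore_normal G p
      have hle := (CfsgLib.LocalEven.SylowIn.isPGroup_pCore G p).le_sylow_of_normal P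
      rw [← inf_eq_left.mpr hle, inf_assoc, h, ← inf_assoc]
      rfl) hS hF
  refine lt_of_le_of_ne (hfoc.trans moves_le) fun he => ?_
  have hSm : S ≤ moves F W := he.ge.trans hfoc
  have hWS : W ≤ S := wOf_le S
  have hn : FusionSystem.normalizerIn S W = S := normalizerIn_wOf hW.2 hS
  haveI := finite_of_le_base (normalizerIn_le : FusionSystem.normalizerIn S W ≤ S)
  obtain ⟨N, hN⟩ := exists_normalizerSystem F hWS
  have hfn : F.IsFullyNormalized W :=
    ⟨hWS, fun Q _ => (Subgroup.card_le_of_le inf_le_left).trans (le_of_eq (by rw [hn]))⟩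
  have hNW : N.IsNormal W := normalizerSystem_normal hN hWS
  have hcen : ∀ c ∈ S, c ∈ Subgroup.centralizer (W : Set Ω) → c ∈ W := fun c hc hcW =>
    ⟨⟨c, hc⟩, KInfinity.centralizer_kInfLower_le hS (Subgroup.mem_centralizer_iff.mpr fun w hw =>
      Subtype.ext (Subgroup.mem_centralizer_iff.mp hcW (w : Ω) ⟨w, hw, rfl⟩)), rfl⟩
  have hcons : N.IsConstrained p := by
    refine ⟨normalizerSystem_saturated hS hF hfn hN, W, hNW, le_normalizerIn hWS, fun R hR => ?_⟩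
    obtain ⟨f, hf, hi⟩ := isConj_iff.1 hR
    obtain ⟨g, hg, hge, hgi⟩ := (normal_iff_fn.1 hNW).2 W f hf
    have hRW : R = W := by
      rw [← hi, ← img_congr (fun x hx => hge x hx)]
      exact hgi
    intro c hc
    rw [hRW] at hc ⊢
    exact hcen c (hn.le (mem_centralizerIn.1 hc).1) (mem_centralizerIn.1 hc).2
  obtain ⟨L, _, ι, hfin, ⟨hinj, hreal⟩, ⟨P, hP⟩, -⟩ := exists_model (hS.to_le hn.le) hcons
  haveI : Finite L := hfin
  let D : Subgroup Ω := ((commutator L).comap ι).map (FusionSystem.normalizerIn S W).subtype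
  have hSD : S ≤ D := by
    refine hSm.trans ((Subgroup.closure_le _).2 ?_)
    rintro _ ⟨M, f, x, hf, hVM, hMN, hi, hx, rfl⟩
    have hm : ∀ y ∈ M, f y ∈ FusionSystem.normalizerIn S W := fun y hy => hn.ge (hf.mem hy)
    obtain ⟨φ, hφ, hφf⟩ : Fn N M f := (fn_normalizerSystem hN).2
      ⟨hMN, hm, f, (sup_eq_left.2 hVM).symm ▸ hf, fun y _ => rfl, hi⟩
    obtain ⟨g, hg⟩ := (hreal M hMN φ (fun y => (hφf y).symm ▸ hm y y.2)).1 hφ
    refine ⟨⟨x, hMN hx⟩⁻¹ * ⟨f x, hm x hx⟩, ?_, rfl⟩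
    have he : ι ⟨f x, hm x hx⟩ = g * ι ⟨x, hMN hx⟩ * g⁻¹ := by
      rw [← hg ⟨x, hx⟩]
      exact congrArg ι (Subtype.ext (hφf ⟨x, hx⟩).symm)
    rw [SetLike.mem_coe, Subgroup.mem_comap, map_mul, map_inv, he, commutator_def]
    have h := Subgroup.commutator_mem_commutator (Subgroup.mem_top (ι ⟨x, hMN hx⟩)⁻¹) (Subgroup.mem_top g)
    rwa [commutatorElement_def, inv_inv, show (ι ⟨x, hMN hx⟩)⁻¹ * g * ι ⟨x, hMN hx⟩ * g⁻¹ =
      (ι ⟨x, hMN hx⟩)⁻¹ * (g * ι ⟨x, hMN hx⟩ * g⁻¹) by group] at h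
  refine Functor.exists_index_p_sec hW (fun X _ _ _ => hctl X) _ L rfl (Functor.sec_self L) P ?_ ?_ ?_
  · intro hb
    obtain ⟨s, hs, hs1⟩ := (Subgroup.ne_bot_iff_exists_ne_one.1 hS1 |> fun ⟨a, ha⟩ => (⟨a.1, a.2, fun e => ha (Subtype.ext e)⟩ : ∃ s : Ω, s ∈ S ∧ s ≠ 1))
    have h1 : ι ⟨s, hn.ge hs⟩ ∈ (P : Subgroup L) := hP.ge ⟨_, rfl⟩
    rw [hb, Subgroup.mem_bot, ← map_one ι] at h1
    exact hs1 (congrArg Subtype.val (hinj h1))
  · intro g hg hgp
    -- `g` induces an automorphism of `S`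
    have key : ∀ s : ↥S, ∃ t : ↥S, ι ⟨t, hn.ge t.2⟩ = g * ι ⟨s, hn.ge s.2⟩ * g⁻¹ := by
      intro s
      obtain ⟨t, ht⟩ := hP.le ((Subgroup.mem_normalizer_iff.1 hg _).1 (hP.ge ⟨⟨s, hn.ge s.2⟩, rfl⟩))
      exact ⟨⟨t, hn.le t.2⟩, ht⟩
    choose τ hτ using key
    let φ : ↥S →* Ω := MonoidHom.mk' (fun s => (τ s : Ω)) fun a b => by
      have h : ι ⟨τ (a * b), hn.ge (τ (a * b)).2⟩ = ι (⟨τ a, hn.ge (τ a).2⟩ * ⟨τ b, hn.ge (τ b).2⟩) := by
        rw [hτ, map_mul, hτ, hτ]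
        rw [show (⟨((a * b : ↥S) : Ω), hn.ge (a * b).2⟩ : ↥(FusionSystem.normalizerIn S W)) =
          ⟨a, hn.ge a.2⟩ * ⟨b, hn.ge b.2⟩ from rfl, map_mul]
        group
      exact congrArg Subtype.val (hinj h)
    have hφN : φ ∈ N.Hom S := (hreal S hn.ge φ (fun s => hn.ge (τ s).2)).2 ⟨g, fun s => hτ s⟩
    have hfF : Fn F S (ofHom φ) := fn_ofHom (normalizerSystem_sub hN S hφN)
    obtain ⟨α, hα, hαe⟩ := exists_aut_of_fn hfF (hfF.img_eq_self fun x hx => hfF.mem hx)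
    have hατ : ∀ s : ↥S, α s = τ s := fun s => Subtype.ext ((hαe s).trans (ofHom_coe φ s))
    have hpow : ∀ (n : ℕ) (s : ↥S), ι ⟨(α ^ n) s, hn.ge ((α ^ n) s).2⟩ = g ^ n * ι ⟨s, hn.ge s.2⟩ * (g ^ n)⁻¹ := by
      intro n
      induction n with
      | zero => intro s; simp
      | succ n ih =>
        intro s
        have e : (⟨((α ^ (n + 1)) s : ↥S), hn.ge ((α ^ (n + 1)) s).2⟩ : ↥(FusionSystem.normalizerIn S W)) =
            ⟨(τ ((α ^ n) s) : ↥S), hn.ge (τ ((α ^ n) s)).2⟩ :=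
          Subtype.ext (congrArg Subtype.val (by rw [pow_succ' α, MulAut.mul_apply, hατ]))
        rw [e, hτ, ih, pow_succ']
        group
    have hα1 : α ^ orderOf g = 1 := MulEquiv.ext fun s => by
      have h := hpow (orderOf g) s
      rw [pow_orderOf_eq_one, one_mul, inv_one, mul_one] at h
      exact Subtype.ext (congrArg Subtype.val (hinj h) : _)
    have hαid : α = 1 := by
      obtain ⟨k, hk⟩ := haut ⟨α, hα⟩
      have h1 : α ^ p ^ k = 1 := congrArg Subtype.val hk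
      exact orderOf_eq_one_iff.1 (Nat.eq_one_of_dvd_coprimes (hgp.pow_right k)
        (orderOf_dvd_of_pow_eq_one hα1) (orderOf_dvd_of_pow_eq_one h1))
    refine Subgroup.mem_centralizer_iff.2 fun y hy => ?_
    obtain ⟨s, rfl⟩ := hP.le hy
    have h := hpow 1 ⟨s, hn.le s.2⟩
    rw [hαid, one_pow, pow_one] at h
    exact eq_mul_inv_iff_mul_eq.1 h
  · intro y hy
    obtain ⟨s, rfl⟩ := hP.le hy
    obtain ⟨t, ht, hte⟩ := hSD (hn.le s.2)
    rw [← commutator_def, show s = t from Subtype.ext hte.symm]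
    exact ht)

end Cfsg.Agent.S5252
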