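import Cfsg.Statements.S5254
import Cfsg.Agent.Lib.FusionSystem.AbelianIndexPEssential

set_option autoImplicit false
open Cfsg

namespace Cfsg.Agent.S5254

open Cfsg.FusionSystem CfsgLib.Fsys CfsgLib.Fsys.CentralIndex CfsgLib.Fsys.AbelianIndexP
open scoped commutatorElement

/-- Let p be an odd prime, S a finite nonabelian p-group with a unique abelian subgroup A of index p, and F a saturated fusion system over S. Then every F-essential subgroup P is A, or Z(S)⟨x⟩ for some x ∈ S outside A, or (when the second centre Z₂(S) lies in A) Z₂(S)⟨x⟩ for some x ∈ S outside A; and P has index p in its normalizer in S. -/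
theorem result {Ω : Type*} [Group Ω] {S : Subgroup Ω} [Finite S] (p : ℕ) [Fact p.Prime] (hS : IsPGroup p S) (F : Cfsg.FusionSystem S) (hF : F.IsSaturated p) (hp : p ≠ 2) (hna : ¬ IsMulCommutative ↥S) (A : Subgroup Ω) (hA : A ≤ S ∧ IsMulCommutative ↥A ∧ (A.subgroupOf S).index = p) (huniq : ∀ B : Subgroup Ω, B ≤ S → IsMulCommutative ↥B → (B.subgroupOf S).index = p → B = A) (P : Subgroup Ω) (hP : F.IsEssential p P) : (P = A ∨ (∃ x ∈ S, x ∉ A ∧ P = (S ⊓ Subgroup.centralizer (S : Set Ω)) ⊔ Subgroup.zpowers x) ∨ (((upperCentralSeries ↥S 2).map S.subtype) ≤ A ∧ ∃ x ∈ S, x ∉ A ∧ P = ((upperCentralSeries ↥S 2).map S.subtype) ⊔ Subgroup.zpowers x)) ∧ (P.subgroupOf (S ⊓ Subgroup.normalizer (P : Set Ω))).index = p := by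
  have h := setup_of_hyps hS hF hna hA huniq
  by_cases hPA : P = A
  · refine ⟨Or.inl hPA, ?_⟩
    subst hPA
    have hN : S ⊓ Subgroup.normalizer (P : Set Ω) = S := by
      haveI := finite_A h
      exact inf_eq_left.2 fun s hs => mem_normalizer_of_map_le fun a ha => h.conj_mem hs ha
    rw [hN]
    exact h.idx
  obtain ⟨x, hx, hxA⟩ := exists_mem_diff h hP hPA
  have hxS := hP.1.1 hx
  refine ⟨Or.inr ?_, index_normalizer h hP hx hxA⟩
  have hZ2 := secondCentre_le h hP hx hxA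
  rcases (essential_data h hP hx hxA).2 with ⟨hab, -⟩ | hsub
  · refine Or.inl ⟨x, hxS, hxA, le_antisymm (fun v hv => ?_)
      (sup_le (Zc_le_essential hP) (Subgroup.zpowers_le.2 hx))⟩
    obtain ⟨b, hb, hbP, j, rfl⟩ := decomp_in h hP hx hxA hv
    exact Subgroup.mul_mem _ (Subgroup.mem_sup_left (hab b hbP hb))
      (Subgroup.mem_sup_right (Subgroup.zpow_mem _ (Subgroup.mem_zpowers x) j))
  · have hiff : ∀ a : A, (a : Ω) ∈ (Subgroup.upperCentralSeries ↥S 2).map S.subtype ↔ (a : Ω) ∈ P := fun a => by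
      rw [mem_secondCentre, h.comm_mem_Zc_iff hxS a.2 hxA, ← mem_ker_two h hxS hxA, ← hsub,
        Subgroup.mem_subgroupOf]
      exact ⟨fun ha => ha.2, fun ha => ⟨h.le a.2, ha⟩⟩
    refine Or.inr ⟨hZ2, x, hxS, hxA, le_antisymm (fun v hv => ?_)
      (sup_le (fun y hy => (hiff ⟨y, hZ2 hy⟩).1 hy) (Subgroup.zpowers_le.2 hx))⟩
    obtain ⟨b, hb, hbP, j, rfl⟩ := decomp_in h hP hx hxA hv
    exact Subgroup.mul_mem _ (Subgroup.mem_sup_left ((hiff ⟨b, hb⟩).2 hbP))
      (Subgroup.mem_sup_right (Subgroup.zpow_mem _ (Subgroup.mem_zpowers x) j))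

end Cfsg.Agent.S5254
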