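import Cfsg.Agent.Lib.FusionSystem.Factor
-- Template for statement S5255 (row 5255; see /opt/grader/pristine/manifest.json for weights).
-- Copy to Cfsg/Agent/S5255.lean and replace the sorry. The statement below is byte-identical to the frozen
-- statement Cfsg.CfsgFrozen.S5255 (Cfsg/Statements/S5255.lean; the theorem Cfsg.fus3_strongly_closed_times_centralizer_strongly_closed);
-- the grader kernel-checks Cfsg.Agent.S5255.result against that frozen type. Keep the theorem IN THIS FILE
-- (a `result` declared elsewhere and merely imported here is not credited); helpers may live anywhere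
-- under Cfsg/Agent/.
import Cfsg.Statements.S5255
-- import your own Cfsg.Agent.* helpers here

set_option autoImplicit false
open Cfsg

namespace Cfsg.Agent.S5255

/-- Let F be a saturated fusion system over a finite p-group S and T a subgroup of S strongly closed in F. Then T·C_S(T) is strongly closed in F. -/
theorem result {Ω : Type*} [Group Ω] {S : Subgroup Ω} [Finite S] (p : ℕ) [Fact p.Prime] (hS : IsPGroup p S) (F : Cfsg.FusionSystem S) (hF : F.IsSaturated p) (T : Subgroup Ω) (hT : F.StronglyClosed T) : F.StronglyClosed (T ⊔ Cfsg.FusionSystem.centralizerIn S T) := CfsgLib.Fsys.stronglyClosed_sup_centralizer hS hF hT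

end Cfsg.Agent.S5255
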