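import Cfsg.Statements.S5257
import Cfsg.Agent.Lib.FusionSystem.AbelianIndexPEssential

set_option autoImplicit false
open Cfsg

namespace Cfsg.Agent.S5257

open Cfsg.FusionSystem CfsgLib.Fsys CfsgLib.Fsys.CentralIndex CfsgLib.Fsys.AbelianIndexP
open scoped commutatorElement

/-- Let p be an odd prime, S a finite nonabelian p-group with a unique abelian subgroup A of index p, and F a saturated fusion system over S having an F-essential subgroup other than A. Then the second centre Z₂(S) lies in A; Z(S) ∩ [S, S] has order p; Z(S)[S, S] has index p in A; Z(S) has index p in Z₂(S); and S/Z(S) has maximal nilpotency class (if S/Z(S) has order pᵐ with m ≥ 3 then the term of index m − 2 of the lower central series of S, counting S as index 0, is not contained in Z(S)). -/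
theorem result {Ω : Type*} [Group Ω] {S : Subgroup Ω} [Finite S] (p : ℕ) [Fact p.Prime] (hS : IsPGroup p S) (F : Cfsg.FusionSystem S) (hF : F.IsSaturated p) (hp : p ≠ 2) (hna : ¬ IsMulCommutative ↥S) (A : Subgroup Ω) (hA : A ≤ S ∧ IsMulCommutative ↥A ∧ (A.subgroupOf S).index = p) (huniq : ∀ B : Subgroup Ω, B ≤ S → IsMulCommutative ↥B → (B.subgroupOf S).index = p → B = A) (P : Subgroup Ω) (hP : F.IsEssential p P) (hPA : P ≠ A) : ((upperCentralSeries ↥S 2).map S.subtype) ≤ A ∧ Nat.card ↥((S ⊓ Subgroup.centralizer (S : Set Ω)) ⊓ ((commutator ↥S).map S.subtype)) = p ∧ (((S ⊓ Subgroup.centralizer (S : Set Ω)) ⊔ ((commutator ↥S).map S.subtype)).subgroupOf A).index = p ∧ (((S ⊓ Subgroup.centralizer (S : Set Ω))).subgroupOf ((upperCentralSeries ↥S 2).map S.subtype)).index = p ∧ ∀ m : ℕ, ((S ⊓ Subgroup.centralizer (S : Set Ω)).subgroupOf S).index = p ^ m → 3 ≤ m → ¬ Subgroup.lowerCentralSeries S (m - 2) ≤ (S ⊓ Subgroup.centralizer (S : Set Ω)) := by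
  have h := setup_of_hyps hS hF hna hA huniq
  obtain ⟨x, hx, hxA⟩ := exists_mem_diff h hP hPA
  have hxS := hP.1.1 hx
  haveI := finite_A h
  obtain ⟨⟨e, g⟩, -⟩ := essential_data h hP hx hxA
  have hZ2 := secondCentre_le h hP hx hxA
  have hcard1 : Nat.card (ker h hxS 2) = p * Nat.card (ker h hxS 1) := by
    rw [← Subgroup.relIndex_bot_left (H := ker h hxS 2),
      ← Subgroup.relIndex_mul_relIndex ⊥ (ker h hxS 1) _ bot_le (ker_mono h hxS 1), g.relIndex_eq hxA,
      Subgroup.relIndex_bot_left, mul_comm]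
  have hk1 : (S ⊓ Subgroup.centralizer (S : Set Ω)).subgroupOf A = ker h hxS 1 := by
    ext a; rw [Subgroup.mem_subgroupOf, mem_ker_one h hxS hxA]; rfl
  have hd : ((commutator ↥S).map S.subtype).subgroupOf A = (phi h hxS).range := by
    ext a
    rw [Subgroup.mem_subgroupOf, mem_derived_iff h hxS hxA, MonoidHom.mem_range]
    exact exists_congr fun b => Subtype.ext_iff.symm
  have hint : Nat.card ↥((S ⊓ Subgroup.centralizer (S : Set Ω)) ⊓ (commutator ↥S).map S.subtype) = p := by
    rw [g.derived_inf hxA, Nat.card_zpowers]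
    exact orderOf_eq_prime g.pow g.ne
  refine ⟨hZ2, hint, ?_, ?_, fun m hm hm3 hle => ?_⟩
  · -- the index of the product with the derived subgroup
    set Z := S ⊓ Subgroup.centralizer (S : Set Ω) with hZdef
    have hdA : (commutator ↥S).map S.subtype ≤ A := fun c hc => by
      obtain ⟨a, rfl⟩ := (mem_derived_iff h hxS hxA).1 hc
      exact (phi h hxS a).2
    rw [Subgroup.subgroupOf_sup (show Z ≤ A from h.Zc_le) hdA, hk1, hd]
    haveI : (phi h hxS).range.Normal := ⟨fun a ha b => by
      rwa [show b * a * b⁻¹ = a from Subtype.ext (by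
        show (b : Ω) * a * (b : Ω)⁻¹ = a
        rw [h.comm _ b.2 _ a.2, mul_inv_cancel_right])]⟩
    set K := ker h hxS 1 with hKdef
    set R := (phi h hxS).range with hRdef
    have hker : (phi h hxS).ker = K := rfl
    have h1 : Nat.card R * R.index = Nat.card A := Subgroup.card_mul_index R
    have h2 : Nat.card K * Nat.card R = Nat.card A := by
      rw [← Subgroup.card_mul_index K, ← hker, Subgroup.index_ker]
    have hRi : R.index = Nat.card K := by
      rw [← h2, mul_comm (Nat.card K)] at h1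
      exact Nat.eq_of_mul_eq_mul_left Nat.card_pos h1
    have h3 : R.relIndex (K ⊔ R) * (K ⊔ R).index = R.index := Subgroup.relIndex_mul_index le_sup_right
    have h4 : R.relIndex (K ⊔ R) = R.relIndex K := by
      rw [Subgroup.relIndex_sup_right]
    have h5 : Nat.card ↥(R ⊓ K : Subgroup A) * R.relIndex K = Nat.card K := by
      rw [← Subgroup.inf_relIndex_right, ← Subgroup.relIndex_bot_left (H := R ⊓ K),
        Subgroup.relIndex_mul_relIndex ⊥ (R ⊓ K) K bot_le inf_le_right, Subgroup.relIndex_bot_left]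
    have h6 : Nat.card ↥(R ⊓ K : Subgroup A) = p := by
      rw [← Subgroup.card_subtype A (R ⊓ K), ← hint]
      congr 1
      have : R ⊓ K = ((S ⊓ Subgroup.centralizer (S : Set Ω)) ⊓ (commutator ↥S).map S.subtype).subgroupOf A := by
        rw [← hd, ← hk1]
        ext a
        exact and_comm
      rw [this, Subgroup.map_subgroupOf_eq_of_le (inf_le_left.trans (show (S ⊓ Subgroup.centralizer (S : Set Ω)) ≤ A from h.Zc_le))]
    rw [hRi, h4, ← h5, h6, mul_comm] at h3
    exact Nat.eq_of_mul_eq_mul_right (Nat.pos_of_ne_zero Subgroup.index_ne_zero_of_finite) h3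
  · have hk2 : (((Subgroup.upperCentralSeries ↥S 2).map S.subtype)).subgroupOf A = ker h hxS 2 := by
      ext a
      rw [Subgroup.mem_subgroupOf, mem_secondCentre, h.comm_mem_Zc_iff hxS a.2 hxA, mem_ker_two h hxS hxA]
      exact and_iff_right (h.le a.2)
    have := g.relIndex_eq hxA
    rw [← hk1, ← hk2, Subgroup.relIndex_subgroupOf hZ2] at this
    exact this
  · have htop := ker_eq_top_of_lcs h hxS hxA hle
    have hcA := card_ker_le h hxS (g.relIndex_eq hxA).le (m - 2)
    rw [htop, Subgroup.card_top, ← hk1, Nat.card_congr (Subgroup.subgroupOfEquivOfLe (show (S ⊓ Subgroup.centralizer (S : Set Ω)) ≤ A from h.Zc_le)).toEquiv] at hcA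
    have h1 := Subgroup.card_mul_index ((S ⊓ Subgroup.centralizer (S : Set Ω)).subgroupOf S)
    rw [hm, Nat.card_congr (Subgroup.subgroupOfEquivOfLe inf_le_left).toEquiv] at h1
    have h2 := Subgroup.card_mul_index (A.subgroupOf S)
    rw [show (A.subgroupOf S).index = p from h.idx,
      Nat.card_congr (Subgroup.subgroupOfEquivOfLe h.le).toEquiv, ← h1] at h2
    obtain ⟨i, rfl⟩ : ∃ i, m = i + 2 := ⟨m - 2, by omega⟩
    rw [Nat.add_sub_cancel] at hcA
    have hpp := (Fact.out : p.Prime).one_lt
    have hZpos : 0 < Nat.card ↥(S ⊓ Subgroup.centralizer (S : Set Ω)) := by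
      haveI := finite_of_le_base (S := S) (P := S ⊓ Subgroup.centralizer (S : Set Ω)) inf_le_left
      exact Nat.card_pos
    have h4 : Nat.card ↥A * p ≤ Nat.card ↥(S ⊓ Subgroup.centralizer (S : Set Ω)) * p ^ i * p :=
      Nat.mul_le_mul_right _ hcA
    rw [h2, pow_add, ← mul_assoc, pow_two, ← mul_assoc] at h4
    have h5 : 0 < Nat.card ↥(S ⊓ Subgroup.centralizer (S : Set Ω)) * p ^ i * p :=
      Nat.mul_pos (Nat.mul_pos hZpos (Nat.pow_pos (by omega))) (by omega)
    exact absurd (Nat.le_of_mul_le_mul_left (h4.trans_eq (mul_one _).symm) h5) (by omega)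

end Cfsg.Agent.S5257
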