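import Cfsg.Statements.S5265
import Cfsg.Agent.Lib.FusionSystem.CentralIndex
import Cfsg.Agent.Lib.LocalEvenB.OrderPCubed
import Cfsg.Agent.Lib.TwoGroups.CyclicMax

set_option autoImplicit false
open Cfsg Cfsg.FusionSystem CfsgLib.Fsys CfsgLib.Fsys.CentralIndex
open scoped commutatorElement

namespace Cfsg.Agent.S5265

section Helpers

variable {Ω : Type*} [Group Ω] {S : Subgroup Ω} [Finite S] {p : ℕ} [hp : Fact p.Prime]
  {F : FusionSystem S} {c : Ω}

theorem map_Zc (h : Setup p F c) {g : Ω → Ω} (hg : Fn F S g) {z : Ω} (hz : z ∈ Zc S) : g z ∈ Zc S := by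
  refine mem_Zc.2 ⟨hg.mem (mem_Zc.1 hz).1, fun x hx => ?_⟩
  rw [← hg.img_eq_self fun x hx => hg.mem hx] at hx
  obtain ⟨x', hx', rfl⟩ := hg.mem_img.1 hx
  rw [← hg.map_mul hx' (mem_Zc.1 hz).1, ← hg.map_mul (mem_Zc.1 hz).1 hx', (mem_Zc.1 hz).2 x' hx']

theorem mem_Zc_of_map (h : Setup p F c) {g : Ω → Ω} (hg : Fn F S g) {z : Ω} (hzS : z ∈ S)
    (hz : g z ∈ Zc S) : z ∈ Zc S := by
  refine mem_Zc.2 ⟨hzS, fun x hx => hg.inj (S.mul_mem hx hzS) (S.mul_mem hzS hx) ?_⟩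
  rw [hg.map_mul hx hzS, hg.map_mul hzS hx]
  exact (mem_Zc.1 hz).2 _ (hg.mem hx)

theorem aut_of_fn {g : Ω → Ω} (hg : Fn F S g) :
    ∃ α ∈ F.autGroup S, ∀ x : S, ((α x : S) : Ω) = g x :=
  exists_aut_of_fn hg (hg.img_eq_self fun _ hx => hg.mem hx)

theorem exists_pow_inn (h : Setup p F c) :
    ∃ m : ℕ, ¬ p ∣ m ∧ ∀ α ∈ F.autGroup S, α ^ m ∈ Inn S := by
  obtain ⟨-, R, hR⟩ := fullyAutomized_top (F := F) h.hF
  rw [autInducedBy_self] at hR
  haveI : ((Inn S).subgroupOf (F.autGroup S)).Normal := inn_normal_aut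
  refine ⟨((Inn S).subgroupOf (F.autGroup S)).index, ?_, fun α hα => ?_⟩
  · rw [← hR]; exact R.not_dvd_index
  · simpa [Subgroup.mem_subgroupOf] using
      Subgroup.pow_index_mem ((Inn S).subgroupOf (F.autGroup S)) (⟨α, hα⟩ : F.autGroup S)

theorem inn_fix_Zc {γ : MulAut S} (hγ : γ ∈ Inn S) {z : S} (hz : (z : Ω) ∈ Zc S) : γ z = z := by
  obtain ⟨s, rfl⟩ := hγ
  refine Subtype.ext ?_
  show (s : Ω) * z * (s : Ω)⁻¹ = z
  rw [(mem_Zc.1 hz).2 s s.2, mul_inv_cancel_right]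

/-- Two automorphisms inverting `c` and trivial on `Z(S)` modulo `c` agree on `Z(S)`. -/
theorem agree_on_Zc (h : Setup p F c) {g₁ g₂ : Ω → Ω} (h₁ : Fn F S g₁) (h₂ : Fn F S g₂)
    (c₁ : g₁ c = c⁻¹) (c₂ : g₂ c = c⁻¹) (m₁ : ∀ z ∈ Zc S, z⁻¹ * g₁ z ∈ Subgroup.zpowers c)
    (m₂ : ∀ z ∈ Zc S, z⁻¹ * g₂ z ∈ Subgroup.zpowers c) {z : Ω} (hz : z ∈ Zc S) : g₁ z = g₂ z := by
  obtain ⟨α₁, hα₁, e₁⟩ := aut_of_fn h₁
  obtain ⟨α₂, hα₂, e₂⟩ := aut_of_fn h₂
  have hcS : c ∈ S := (mem_Zc.1 h.c_mem).1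
  let cS : S := ⟨c, hcS⟩
  let zS : S := ⟨z, (mem_Zc.1 hz).1⟩
  obtain ⟨i, hi⟩ := Subgroup.mem_zpowers_iff.1 (m₁ z hz)
  obtain ⟨j, hj⟩ := Subgroup.mem_zpowers_iff.1 (m₂ z hz)
  have a₁c : α₁ cS = cS⁻¹ := Subtype.ext ((e₁ cS).trans c₁)
  have a₂c : α₂ cS = cS⁻¹ := Subtype.ext ((e₂ cS).trans c₂)
  have a₁z : α₁ zS = zS * cS ^ i := Subtype.ext (by
    rw [e₁]; simp only [Subgroup.coe_mul, SubgroupClass.coe_zpow, cS, zS, hi, mul_inv_cancel_left])
  have a₂z : α₂ zS = zS * cS ^ j := Subtype.ext (by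
    rw [e₂]; simp only [Subgroup.coe_mul, SubgroupClass.coe_zpow, cS, zS, hj, mul_inv_cancel_left])
  set δ : MulAut S := α₁⁻¹ * α₂ with hδ
  have hδA : δ ∈ F.autGroup S := (F.autGroup S).mul_mem ((F.autGroup S).inv_mem hα₁) hα₂
  have hδc : δ cS = cS := α₁.injective (by
    rw [hδ, MulAut.mul_apply, MulAut.apply_inv_self, a₂c, a₁c])
  have hδz : δ zS = zS * cS ^ (i - j) := α₁.injective (by
    rw [hδ, MulAut.mul_apply, MulAut.apply_inv_self, a₂z, map_mul, map_zpow, a₁z, a₁c, inv_zpow',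
      mul_assoc, ← zpow_add, show i + -(i - j) = j by ring])
  obtain ⟨m, hm, hmI⟩ := exists_pow_inn h
  have h0 := shift_zpow hδz (by rw [map_zpow, hδc]) (m : ℤ)
  rw [zpow_natCast, inn_fix_Zc (hmI δ hδA) hz] at h0
  have h1 : (cS ^ (i - j)) ^ m = 1 := by
    rw [zpow_natCast] at h0
    exact (mul_eq_left.1 h0.symm)
  have h2 : (cS ^ (i - j)) ^ p = 1 := by
    rw [← zpow_natCast, ← zpow_mul, mul_comm, zpow_mul, zpow_natCast,
      show cS ^ p = 1 from Subtype.ext (by simpa [cS] using h.c_pow), one_zpow]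
  have h3 : cS ^ (i - j) = 1 := by
    have := (pow_gcd_eq_one (a := cS ^ (i - j))).2 ⟨h1, h2⟩
    rwa [Nat.Coprime.gcd_eq_one ((hp.out.coprime_iff_not_dvd.2 hm).symm), pow_one] at this
  have h4 : cS ^ i = cS ^ j := by
    rw [zpow_sub] at h3
    exact mul_inv_eq_one.1 h3
  have h5 : α₁ zS = α₂ zS := by rw [a₁z, a₂z, h4]
  have := congrArg Subtype.val h5
  rwa [e₁, e₂] at this

theorem mem_iff_commute (h : Setup p F c) {P W : Subgroup Ω} {d : Ω} (fr : Frame S c p P W d) {v : Ω} :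
    v ∈ P ↔ v ∈ S ∧ v * d = d * v := by
  refine ⟨fun hv => ⟨fr.lt.le hv, fr.comm v hv d fr.d_mem⟩, fun ⟨hvS, hvd⟩ => ?_⟩
  have hdS := fr.lt.le fr.d_mem
  obtain ⟨s, hs, hsd⟩ : ∃ s ∈ S, s * d ≠ d * s := by
    by_contra hall
    push Not at hall
    exact fr.d_notMem (mem_Zc.2 ⟨hdS, hall⟩)
  obtain ⟨z, hz, i, j, rfl⟩ := h.decomp' hdS hs (Ne.symm hsd) hvS
  have hj : (p : ℤ) ∣ j := by
    by_contra hj
    refine hsd (h.commute_of_zpow hs hdS hj ?_).eq
    have h1 : Commute (z * d ^ i) d :=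
      Commute.mul_left ((mem_Zc.1 hz).2 d hdS).symm ((Commute.refl d).zpow_left i)
    have h2 : s ^ j = (z * d ^ i)⁻¹ * (z * d ^ i * s ^ j) := by group
    rw [h2]
    exact h1.inv_left.mul_left hvd
  exact P.mul_mem (P.mul_mem (fr.Z_le hz) (P.zpow_mem fr.d_mem i)) (fr.Z_le (h.zpow_mem_Zc hs hj))

end Helpers

section Two

variable {Ω : Type*} [Group Ω] {S : Subgroup Ω} [Finite S] {F : FusionSystem S} {c : Ω}

theorem zpow_two_cases {G : Type*} [Group G] {x : G} (hx : x ^ 2 = 1) (i : ℤ) :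
    (Even i ∧ x ^ i = 1) ∨ (Odd i ∧ x ^ i = x) := by
  rcases Int.even_or_odd i with hi | hi
  · obtain ⟨k, rfl⟩ := hi
    exact Or.inl ⟨⟨k, rfl⟩, by rw [← two_mul, zpow_mul, zpow_two, ← pow_two, hx, one_zpow]⟩
  · obtain ⟨k, rfl⟩ := hi
    exact Or.inr ⟨⟨k, rfl⟩, by rw [zpow_add, zpow_mul, zpow_two, ← pow_two, hx, one_zpow, one_mul, zpow_one]⟩

theorem mem_c_cases [Fact (Nat.Prime 2)] (h : Setup 2 F c) {e : Ω} (he : e ∈ Subgroup.zpowers c) :
    e = 1 ∨ e = c := by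
  obtain ⟨i, rfl⟩ := Subgroup.mem_zpowers_iff.1 he
  rcases zpow_two_cases h.c_pow i with ⟨-, e⟩ | ⟨-, e⟩ <;> simp [e]

theorem comm_eq_c [Fact (Nat.Prime 2)] (h : Setup 2 F c) {x y : Ω} (hx : x ∈ S) (hy : y ∈ S)
    (hne : x * y ≠ y * x) : ⁅x, y⁆ = c :=
  (mem_c_cases h (h.comm_mem hx hy)).resolve_left fun e => hne (commutatorElement_eq_one_iff_mul_comm.1 e)

theorem frame_not_commute [Fact (Nat.Prime 2)] (h : Setup 2 F c) {P₁ W₁ P₂ W₂ : Subgroup Ω} {d₁ d₂ : Ω}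
    (f₁ : Frame S c 2 P₁ W₁ d₁) (f₂ : Frame S c 2 P₂ W₂ d₂) (hne : P₁ ≠ P₂) : d₁ * d₂ ≠ d₂ * d₁ := by
  intro e
  have h1 : d₂ ∈ P₁ := (mem_iff_commute h f₁).2 ⟨f₂.lt.le f₂.d_mem, e.symm⟩
  have h2 : d₁ ∈ P₂ := (mem_iff_commute h f₂).2 ⟨f₁.lt.le f₁.d_mem, e⟩
  refine hne (le_antisymm (fun v hv => (mem_iff_commute h f₂).2 ⟨f₁.lt.le hv, f₁.comm v hv d₂ h1⟩)
    fun v hv => (mem_iff_commute h f₁).2 ⟨f₂.lt.le hv, f₂.comm v hv d₁ h2⟩)

theorem at_most_two [Fact (Nat.Prime 2)] (h : Setup 2 F c) {P₁ W₁ P₂ W₂ P₃ W₃ : Subgroup Ω} {d₁ d₂ d₃ : Ω}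
    (f₁ : Frame S c 2 P₁ W₁ d₁) (f₂ : Frame S c 2 P₂ W₂ d₂) (f₃ : Frame S c 2 P₃ W₃ d₃)
    (h12 : P₁ ≠ P₂) : P₃ = P₁ ∨ P₃ = P₂ := by
  by_contra hcon
  push Not at hcon
  obtain ⟨h31, h32⟩ := hcon
  have hS₁ := f₁.lt.le f₁.d_mem
  have hS₂ := f₂.lt.le f₂.d_mem
  have hS₃ := f₃.lt.le f₃.d_mem
  have hne := frame_not_commute h f₁ f₂ h12
  obtain ⟨z, hz, i, j, e⟩ := h.decomp' hS₁ hS₂ hne hS₃
  have hzc : ∀ q ∈ S, q * z = z * q := (mem_Zc.1 hz).2
  rcases zpow_two_cases f₁.d_pow i with ⟨-, hi⟩ | ⟨-, hi⟩ <;>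
    rcases zpow_two_cases f₂.d_pow j with ⟨-, hj⟩ | ⟨-, hj⟩ <;> rw [hi, hj] at e <;>
    (try simp only [mul_one] at e)
  · exact f₃.d_notMem (e ▸ hz)
  · exact frame_not_commute h f₃ f₂ h32 (by rw [e, mul_assoc, ← mul_assoc d₂, hzc d₂ hS₂, mul_assoc])
  · exact frame_not_commute h f₃ f₁ h31 (by rw [e, mul_assoc, ← mul_assoc d₁, hzc d₁ hS₁, mul_assoc])
  · have hv : d₁ * d₂ ∈ P₃ := by
      have : d₁ * d₂ = z⁻¹ * d₃ := by rw [e]; group
      rw [this]
      exact P₃.mul_mem (P₃.inv_mem (f₃.Z_le hz)) f₃.d_mem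
    obtain ⟨k, l, w, hw, ev⟩ := f₃.dec _ hv
    have hsq : (d₁ * d₂) ^ 2 = c := by
      rw [← comm_eq_c h hS₁ hS₂ hne, commutatorElement_def]
      have i1 : d₁⁻¹ = d₁ := inv_eq_of_mul_eq_one_left (by rw [← pow_two]; exact f₁.d_pow)
      have i2 : d₂⁻¹ = d₂ := inv_eq_of_mul_eq_one_left (by rw [← pow_two]; exact f₂.d_pow)
      rw [i1, i2, pow_two, mul_assoc (d₁ * d₂)]
    apply f₃.c_notMem
    rw [← hsq, ev]
    have hcP : c ∈ P₃ := f₃.Z_le h.c_mem
    have hwP : w ∈ P₃ := f₃.Z_le (f₃.W_le hw)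
    have e1 : Commute (c ^ k) (d₃ ^ l) := f₃.comm _ (P₃.zpow_mem hcP k) _ (P₃.zpow_mem f₃.d_mem l)
    have e2 : Commute (c ^ k * d₃ ^ l) w :=
      f₃.comm _ (P₃.mul_mem (P₃.zpow_mem hcP k) (P₃.zpow_mem f₃.d_mem l)) _ hwP
    have e3 : ∀ (x : Ω) (n : ℤ), x ^ 2 = 1 → (x ^ n) ^ 2 = 1 := fun x n hx => by
      rcases zpow_two_cases hx n with ⟨-, hn⟩ | ⟨-, hn⟩ <;> simp [hn, hx]
    rw [e2.mul_pow, e1.mul_pow, e3 c k h.c_pow, e3 d₃ l f₃.d_pow, one_mul, one_mul]
    exact W₃.pow_mem hw 2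

theorem frame_map [Fact (Nat.Prime 2)] (h : Setup 2 F c) {P W : Subgroup Ω} {d : Ω} (fr : Frame S c 2 P W d)
    {g : Ω → Ω} (hg : Fn F S g) : Frame S c 2 (img g P) (img g W) (g d) := by
  have hcS := (mem_Zc.1 h.c_mem).1
  have hgc : g c = c := by
    refine (mem_c_cases h (h.map_c hg (Subgroup.mem_zpowers c))).resolve_left fun e => h.c_ne ?_
    exact (hg.eq_one_iff hcS).1 e
  have hgP := hg.mono fr.lt.le
  have hWS : W ≤ S := fr.W_le.trans (fun z hz => (mem_Zc.1 hz).1)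
  have hgW := hg.mono hWS
  refine ⟨lt_of_le_of_ne hgP.img_le_base fun e => fr.lt.ne ?_, fun z hz => ?_, ?_, mem_img_of_mem fr.d_mem,
    fun hd => fr.d_notMem (mem_Zc_of_map h hg (fr.lt.le fr.d_mem) hd), ?_,
    img_le fun w hw => map_Zc h hg (fr.W_le hw), ?_, ?_⟩
  · exact eq_of_le_of_card le_rfl fr.lt.le (by rw [← hgP.card_img, e])
  · have hzS := (mem_Zc.1 hz).1
    rw [← hg.img_eq_self fun x hx => hg.mem hx] at hzS
    obtain ⟨x, hx, rfl⟩ := hg.mem_img.1 hzS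
    exact mem_img_of_mem (fr.Z_le (mem_Zc_of_map h hg hx hz))
  · intro u hu v hv
    obtain ⟨a, ha, rfl⟩ := hgP.mem_img.1 hu
    obtain ⟨b, hb, rfl⟩ := hgP.mem_img.1 hv
    rw [← hgP.map_mul ha hb, ← hgP.map_mul hb ha, fr.comm a ha b hb]
  · rw [pow_two, ← hgP.map_mul fr.d_mem fr.d_mem, ← pow_two, fr.d_pow, hgP.map_one]
  · intro hc
    obtain ⟨w, hw, e⟩ := hgW.mem_img.1 hc
    exact fr.c_notMem (hg.inj (hWS hw) hcS (e.trans hgc.symm) ▸ hw)
  · intro v hv
    obtain ⟨u, hu, rfl⟩ := hgP.mem_img.1 hv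
    obtain ⟨i, j, w, hw, rfl⟩ := fr.dec u hu
    obtain ⟨φ, -, hφ⟩ := id hgP
    refine ⟨i, j, g w, mem_img_of_mem hw, ?_⟩
    have hcP : c ∈ P := fr.Z_le h.c_mem
    have hu' : c ^ i * d ^ j * w =
        (((⟨c, hcP⟩ : P) ^ i * ⟨d, fr.d_mem⟩ ^ j * ⟨w, fr.Z_le (fr.W_le hw)⟩ : P) : Ω) := by simp
    rw [hu', ← hφ, map_mul, map_mul, map_zpow, map_zpow, hφ, hφ, hφ]
    show g c ^ i * g d ^ j * g w = _
    rw [hgc]

theorem map_frame_le [Fact (Nat.Prime 2)] (h : Setup 2 F c) {P W : Subgroup Ω} {d : Ω} (fr : Frame S c 2 P W d)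
    (hPn : S ≤ Subgroup.normalizer (P : Set Ω)) {g : Ω → Ω} (hg : Fn F S g) : img g P = P := by
  obtain ⟨α, hα, hαg⟩ := aut_of_fn hg
  let T : Subgroup (MulAut S) :=
    { carrier := {β | ∀ v : S, ((β v : S) : Ω) ∈ P ↔ (v : Ω) ∈ P}
      mul_mem' := fun {β γ} hβ hγ v => (hβ (γ v)).trans (hγ v)
      one_mem' := fun _ => Iff.rfl
      inv_mem' := fun {β} hβ v => by
        have := hβ (β⁻¹ v); rw [MulAut.apply_inv_self] at this; exact this.symm }
  have h2 : α * α ∈ T := by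
    intro v
    have hgg : Fn F S (g ∘ g) := hg.comp hg fun x hx => hg.mem hx
    have heq : img (g ∘ g) P = P := by
      by_cases h1 : img g P = P
      · rw [(hg.mono fr.lt.le).img_comp, h1, h1]
      · rcases at_most_two h (frame_map h fr hg) fr (frame_map h fr hgg) h1 with h3 | h3
        · exfalso
          rw [(hg.mono fr.lt.le).img_comp] at h3
          obtain ⟨k, hk, hkg, -⟩ := hg.exists_inv
          refine h1 (le_antisymm (img_le fun x hx => ?_) (fun x hx => ?_))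
          · have : g (g x) ∈ img g P := h3 ▸ mem_img_of_mem (mem_img_of_mem hx)
            exact (hg.map_mem_iff fr.lt.le (hg.mem (fr.lt.le hx))).1 this
          · have h4 : g x ∈ img g (img g P) := h3.symm ▸ mem_img_of_mem hx
            exact (hg.map_mem_iff (hg.mono fr.lt.le).img_le_base (fr.lt.le hx)).1 h4
        · exact h3
    show ((α (α v) : S) : Ω) ∈ P ↔ _
    rw [hαg, hαg]
    constructor
    · intro hm
      rw [← heq] at hm
      exact (hgg.map_mem_iff fr.lt.le v.2).1 hm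
    · intro hv
      exact heq ▸ mem_img_of_mem (f := g ∘ g) hv
  obtain ⟨m, hm, hmI⟩ := exists_pow_inn h
  have h3 : α ^ m ∈ T := by
    obtain ⟨s, hs⟩ := hmI α hα
    intro v
    rw [← hs]
    exact (Subgroup.mem_normalizer_iff.1 (hPn s.2) v).symm
  have hαT : α ∈ T := by
    have e : α = (α * α) ^ (-((m / 2 : ℕ) : ℤ)) * α ^ m := by
      rw [show (α * α) = α ^ (2 : ℤ) from (zpow_two α).symm, ← zpow_mul, ← zpow_natCast α m, ← zpow_add]
      conv_lhs => rw [← zpow_one α]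
      congr 1
      have h5 : m % 2 = 1 := by omega
      omega
    rw [e]
    exact T.mul_mem (T.zpow_mem h2 _) h3
  refine (hg.mono fr.lt.le).img_eq_self fun x hx => ?_
  have := (hαT ⟨x, fr.lt.le hx⟩).2 hx
  rwa [hαg] at this

end Two

/-- Let p be a prime, S a nontrivial finite p-group whose centre has index at most p², and F a saturated fusion system over S with no nontrivial normal subgroup and with hyperfocal subgroup equal to S. Then S is extraspecial of order p³; for odd p it has exponent p, and for p = 2 it is dihedral of order 8. -/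
theorem result {Ω : Type*} [Group Ω] {S : Subgroup Ω} [Finite S] (p : ℕ) [Fact p.Prime] (hS : IsPGroup p ↥S) (F : Cfsg.FusionSystem S) (hF : F.IsSaturated p) (hS1 : S ≠ ⊥) (hcore : F.core = ⊥) (hhyp : F.hyperfocalSubgroup p = S) (hZ : (Subgroup.center ↥S).index ≤ p ^ 2) : Cfsg.IsExtraspecial p ↥S ∧ Nat.card S = p ^ 3 ∧ (p ≠ 2 → Monoid.exponent ↥S = p) ∧ (p = 2 → Nonempty (↥S ≃* DihedralGroup 4)) := by
  classical
  haveI : Nontrivial S := (Subgroup.nontrivial_iff_ne_bot _).2 hS1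
  have hnormal : ∀ Q : Subgroup Ω, F.IsNormal Q → Q = ⊥ := fun Q hQ => le_bot_iff.1 (hcore ▸ le_core hQ)
  obtain ⟨P₀, hP₀⟩ : ∃ P, F.IsEssential p P := by
    by_contra hno
    push Not at hno
    exact hS1 (hnormal S (normal_top_of_no_essential hS hF hno))
  have hna : ∃ x y : S, x * y ≠ y * x := by
    by_contra hall
    push Not at hall
    exact (essential_lt hS hF hP₀).not_ge fun s hs => centralizer_le_of_centric hP₀.1
      (mem_centralizerIn.2 ⟨hs, fun u hu => congrArg Subtype.val (hall ⟨u, hP₀.1.1 hu⟩ ⟨s, hs⟩)⟩)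
  have hidx : (Subgroup.center ↥S).index = p ^ 2 := by
    obtain ⟨n, hn⟩ := hS.index (Subgroup.center ↥S)
    obtain ⟨x, y, hxy⟩ := hna
    have hnc : ¬ IsCyclic (↥S ⧸ Subgroup.center ↥S) := fun hc => hxy
      (commutative_of_cyclic_center_quotient (QuotientGroup.mk' (Subgroup.center ↥S)) (by rw [QuotientGroup.ker_mk']) x y)
    have hn2 : n ≤ 2 := (Nat.pow_le_pow_iff_right (Fact.out : p.Prime).one_lt).1 (hn ▸ hZ)
    rw [Subgroup.index_eq_card] at hn ⊢
    rcases (show n = 0 ∨ n = 1 ∨ n = 2 by omega) with rfl | rfl | rfl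
    · haveI : Subsingleton (↥S ⧸ Subgroup.center ↥S) := (Nat.card_eq_one_iff_unique.mp (by simpa using hn)).1
      exact absurd isCyclic_of_subsingleton hnc
    · exact absurd (isCyclic_of_prime_card (by simpa using hn)) hnc
    · exact hn
  obtain ⟨c, h⟩ := setup_exists hS hF hidx hna
  have hcS : c ∈ S := (mem_Zc.1 h.c_mem).1
  choose W d fr hinv hagree hmod htau using fun P (hP : F.IsEssential p P) => structure_of_essential h hP
  -- central elements whose images lie in every `W` are trivial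
  let W₀ : Subgroup Ω :=
    { carrier := {z | z ∈ Zc S ∧ ∀ (g : Ω → Ω), Fn F S g → ∀ P hP, g z ∈ W P hP}
      mul_mem' := fun {a b} ha hb => ⟨(Zc S).mul_mem ha.1 hb.1, fun g hg P hP => by
        rw [hg.map_mul (mem_Zc.1 ha.1).1 (mem_Zc.1 hb.1).1]
        exact (W P hP).mul_mem (ha.2 g hg P hP) (hb.2 g hg P hP)⟩
      one_mem' := ⟨(Zc S).one_mem, fun g hg P hP => by rw [hg.map_one]; exact (W P hP).one_mem⟩
      inv_mem' := fun {a} ha => ⟨(Zc S).inv_mem ha.1, fun g hg P hP => by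
        rw [hg.map_inv (mem_Zc.1 ha.1).1]
        exact (W P hP).inv_mem (ha.2 g hg P hP)⟩ }
  have hW₀ : W₀ = ⊥ := by
    refine hnormal _ (normal_of_generators hS hF (fun z hz => (mem_Zc.1 hz.1).1) (fun s hs => ?_) ?_)
    · refine Subgroup.centralizer_le_normalizer _ (Subgroup.mem_centralizer_iff.2 fun z hz => ?_)
      exact ((mem_Zc.1 hz.1).2 s hs).symm
    · intro P hP
      have key : ∀ (g : Ω → Ω), Fn F S g → ∀ z ∈ W₀, g z ∈ W₀ := fun g hg z hz =>
        ⟨map_Zc h hg hz.1, fun g' hg' P' hP' => hz.2 (g' ∘ g) (hg.comp hg' fun x hx => hg.mem hx) P' hP'⟩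
      rcases hP with rfl | hP
      · exact ⟨fun z hz => (mem_Zc.1 hz.1).1, fun α hα z hz =>
          key _ ((mem_autGroup_iff_fn le_rfl).1 hα) z hz⟩
      · refine ⟨fun z hz => Z_le h hP hz.1, fun β hβ z hz => ?_⟩
        obtain ⟨g, hg, hgw⟩ := hagree P hP β hβ
        have hzW : z ∈ W P hP := by simpa using hz.2 id (fn_id le_rfl) P hP
        rw [hgw z hzW]
        exact key g hg z hz
  have htriv : ∀ z ∈ Zc S, (∀ (g : Ω → Ω), Fn F S g → ∀ P hP, g z ∈ W P hP) → z = 1 := fun z hz hall =>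
    Subgroup.mem_bot.1 (hW₀ ▸ (show z ∈ W₀ from ⟨hz, hall⟩))
  have hdec : ∀ P hP, ∀ z ∈ Zc S, ∃ i : ℤ, ∃ w ∈ W P hP, z = c ^ i * w := by
    intro P hP z hz
    obtain ⟨i, j, w, hw, e⟩ := (fr P hP).dec z (Z_le h hP hz)
    refine ⟨i, w, hw, ?_⟩
    have hj : d P hP ^ j ∈ Zc S := by
      have : d P hP ^ j = (c ^ i)⁻¹ * z * w⁻¹ := by rw [e]; group
      rw [this]
      exact (Zc S).mul_mem ((Zc S).mul_mem ((Zc S).inv_mem ((Zc S).zpow_mem h.c_mem i)) hz)
        ((Zc S).inv_mem ((fr P hP).W_le hw))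
    have hd1 : d P hP ^ j = 1 := by
      by_contra hne
      obtain ⟨k, hk⟩ := exists_zpow_eq (fr P hP).d_pow (Subgroup.mem_zpowers_iff.2 ⟨j, rfl⟩) hne
        (Subgroup.mem_zpowers (d P hP))
      exact (fr P hP).d_notMem (hk ▸ (Zc S).zpow_mem hj k)
    rw [e, hd1, mul_one]
  -- the centre is generated by `c`
  have hZc : ∀ z ∈ Zc S, z ∈ Subgroup.zpowers c := by
    rcases eq_or_ne p 2 with hp2 | hp2
    · subst hp2
      haveI : Fact (Nat.Prime 2) := ⟨Nat.prime_two⟩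
      have hfix : ∀ P hP, ∀ (g : Ω → Ω), Fn F S g → img g P = P := fun P hP g hg =>
        map_frame_le h (fr P hP) (S_le_normalizer h hP) hg
      have hgW : ∀ P hP, ∀ (g : Ω → Ω), Fn F S g → ∀ w ∈ W P hP, g w ∈ W P hP := by
        intro P hP g hg w hw
        obtain ⟨β, hβ, hβg⟩ := exists_aut_of_fn (hg.mono hP.1.1) (hfix P hP g hg)
        have hwP : w ∈ P := (fr P hP).Z_le ((fr P hP).W_le hw)
        have := hinv P hP β hβ w hw
        rwa [show autFn β w = g w from (autFn_coe β ⟨w, hwP⟩).trans (hβg ⟨w, hwP⟩)] at this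
      have hint : ∀ z ∈ Zc S, (∀ P hP, z ∈ W P hP) → z = 1 := fun z hz hall =>
        htriv z hz fun g hg P hP => hgW P hP g hg z (hall P hP)
      obtain ⟨P₂, hP₂, h02⟩ : ∃ P, F.IsEssential 2 P ∧ P₀ ≠ P := by
        by_contra hone
        push Not at hone
        have hN : F.IsNormal P₀ := by
          refine normal_of_generators hS hF hP₀.1.1 (S_le_normalizer h hP₀) fun P hP => ?_
          rcases hP with rfl | hP
          · refine ⟨hP₀.1.1, fun α hα x hx => ?_⟩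
            have := hfix P₀ hP₀ _ ((mem_autGroup_iff_fn le_rfl).1 hα)
            exact this ▸ mem_img_of_mem hx
          · obtain rfl := hone P hP
            exact ⟨le_rfl, fun α _ x hx => autFn_mem α hx⟩
        exact (fr P₀ hP₀).d_notMem (by
          have h0 : d P₀ hP₀ ∈ (⊥ : Subgroup Ω) := hnormal P₀ hN ▸ (fr P₀ hP₀).d_mem
          rw [Subgroup.mem_bot.1 h0]; exact (Zc S).one_mem)
      have hall2 : ∀ P, F.IsEssential 2 P → P = P₀ ∨ P = P₂ := fun P hP =>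
        at_most_two h (fr P₀ hP₀) (fr P₂ hP₂) (fr P hP) h02
      have hboth : ∀ z, z ∈ W P₀ hP₀ → z ∈ W P₂ hP₂ → z = 1 := fun z h1 h2 =>
        hint z ((fr P₀ hP₀).W_le h1) fun P hP => by
          rcases hall2 P hP with rfl | rfl
          · exact h1
          · exact h2
      have hw2 : ∀ w ∈ W P₀ hP₀, w = 1 ∨ c⁻¹ * w ∈ W P₂ hP₂ := by
        intro w hw
        obtain ⟨i, w', hw', e⟩ := hdec P₂ hP₂ w ((fr P₀ hP₀).W_le hw)
        rcases zpow_two_cases h.c_pow i with ⟨-, hi⟩ | ⟨-, hi⟩ <;> rw [hi] at e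
        · rw [one_mul] at e
          exact Or.inl (hboth w hw (e ▸ hw'))
        · exact Or.inr (by rw [e, inv_mul_cancel_left]; exact hw')
      have hw_eq : ∀ w ∈ W P₀ hP₀, ∀ w' ∈ W P₀ hP₀, w ≠ 1 → w' ≠ 1 → w * w' = 1 := by
        intro w hw w' hw' h1 h2
        refine hboth _ ((W P₀ hP₀).mul_mem hw hw') ?_
        have := (W P₂ hP₂).mul_mem ((hw2 w hw).resolve_left h1) ((hw2 w' hw').resolve_left h2)
        have hwc : w * c = c * w := (mem_Zc.1 h.c_mem).2 w (mem_Zc.1 ((fr P₀ hP₀).W_le hw)).1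
        have hc2 : c⁻¹ * c⁻¹ = 1 := by rw [← mul_inv_rev, ← pow_two, h.c_pow, inv_one]
        rw [show c⁻¹ * w * (c⁻¹ * w') = c⁻¹ * (w * c⁻¹) * w' by group,
          (Commute.inv_right hwc).eq, ← mul_assoc, hc2, one_mul] at this
        exact this
      have hgfix : ∀ (g : Ω → Ω), Fn F S g → ∀ w ∈ W P₀ hP₀, g w = w := by
        intro g hg w hw
        by_cases hw1 : w = 1
        · rw [hw1, hg.map_one]
        have hwS : w ∈ S := (mem_Zc.1 ((fr P₀ hP₀).W_le hw)).1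
        have hgw1 : g w ≠ 1 := fun e => hw1 ((hg.eq_one_iff hwS).1 e)
        have h1 := hw_eq w hw w hw hw1 hw1
        have h2 := hw_eq w hw (g w) (hgW P₀ hP₀ g hg w hw) hw1 hgw1
        exact mul_left_cancel (h2.trans h1.symm)
      have hgc : ∀ (g : Ω → Ω), Fn F S g → g c = c := fun g hg =>
        (mem_c_cases h (h.map_c hg (Subgroup.mem_zpowers c))).resolve_left fun e =>
          h.c_ne ((hg.eq_one_iff hcS).1 e)
      have hgZ : ∀ (g : Ω → Ω), Fn F S g → ∀ z ∈ Zc S, g z = z ∧ z ^ 2 = 1 := by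
        intro g hg z hz
        obtain ⟨i, w, hw, rfl⟩ := hdec P₀ hP₀ z hz
        have hwS : w ∈ S := (mem_Zc.1 ((fr P₀ hP₀).W_le hw)).1
        have hci : ∀ q, q = c ^ i → g q = q ∧ q ^ 2 = 1 := by
          rintro q rfl
          rcases zpow_two_cases h.c_pow i with ⟨-, hi⟩ | ⟨-, hi⟩ <;> rw [hi]
          · exact ⟨hg.map_one, one_pow 2⟩
          · exact ⟨hgc g hg, h.c_pow⟩
        refine ⟨by rw [hg.map_mul (S.zpow_mem hcS i) hwS, (hci _ rfl).1, hgfix g hg w hw], ?_⟩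
        have hcw : Commute (c ^ i) w := Commute.zpow_left (h := ((mem_Zc.1 h.c_mem).2 w hwS).symm) (m := i)
        rw [hcw.mul_pow, (hci _ rfl).2, one_mul]
        rcases eq_or_ne w 1 with rfl | hw1
        · exact one_pow 2
        · rw [pow_two]; exact hw_eq w hw w hw hw1 hw1
      have hgd : ∀ P hP, ∀ (g : Ω → Ω), Fn F S g → g (g (d P hP)) = d P hP := by
        intro P hP g hg
        have hdP := (fr P hP).d_mem
        have hgdP : g (d P hP) ∈ P := (hfix P hP g hg).le (mem_img_of_mem hdP)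
        obtain ⟨z, hz, i, e⟩ := P_decomp h hP hdP (fr P hP).d_notMem hgdP
        rcases zpow_two_cases (fr P hP).d_pow i with ⟨-, hi⟩ | ⟨-, hi⟩ <;> rw [hi] at e
        · rw [mul_one] at e
          exact absurd (mem_Zc_of_map h hg (hP.1.1 hdP) (e ▸ hz)) (fr P hP).d_notMem
        · rw [e, hg.map_mul (mem_Zc.1 hz).1 (hP.1.1 hdP), (hgZ g hg z hz).1, e, ← mul_assoc, ← pow_two,
            (hgZ g hg z hz).2, one_mul]
      have hne := frame_not_commute h (fr P₀ hP₀) (fr P₂ hP₂) h02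
      have hinner : ∀ (g : Ω → Ω), Fn F S g → ∃ s ∈ S, ∀ x ∈ S, g x = s * x * s⁻¹ := by
        intro g hg
        obtain ⟨α, hα, hαg⟩ := aut_of_fn hg
        obtain ⟨m, hm, hmI⟩ := exists_pow_inn h
        have hα2 : α ^ 2 = 1 := by
          refine MulEquiv.ext fun x => ?_
          obtain ⟨z, hz, i, j, e⟩ :=
            h.decomp' (hP₀.1.1 (fr P₀ hP₀).d_mem) (hP₂.1.1 (fr P₂ hP₂).d_mem) hne x.2
          let zS : S := ⟨z, (mem_Zc.1 hz).1⟩
          let aS : S := ⟨d P₀ hP₀, hP₀.1.1 (fr P₀ hP₀).d_mem⟩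
          let bS : S := ⟨d P₂ hP₂, hP₂.1.1 (fr P₂ hP₂).d_mem⟩
          have hx : x = zS * aS ^ i * bS ^ j := Subtype.ext (by simpa [zS, aS, bS] using e)
          have key : ∀ q : S, g (g q) = q → (α ^ 2) q = q := by
            intro q hq
            refine Subtype.ext ?_
            rw [pow_two, MulAut.mul_apply, hαg, hαg]
            exact hq
          show (α ^ 2) x = x
          rw [hx, map_mul, map_mul, map_zpow, map_zpow,
            key zS (by show g (g z) = z; rw [(hgZ g hg z hz).1, (hgZ g hg z hz).1]),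
            key aS (hgd P₀ hP₀ g hg), key bS (hgd P₂ hP₂ g hg)]
        have hm2 : α ^ m = α := by
          obtain ⟨k, hk⟩ : ∃ k, m = 2 * k + 1 := ⟨m / 2, by omega⟩
          rw [hk, pow_succ, pow_mul, hα2, one_pow, one_mul]
        obtain ⟨s, hs⟩ := hm2 ▸ hmI α hα
        refine ⟨s, s.2, fun x hx => ?_⟩
        have h1 := hαg ⟨x, hx⟩
        rw [← hs] at h1
        exact h1.symm
      set U := Subgroup.zpowers c ⊔ Subgroup.zpowers (d P₀ hP₀) with hU
      set D := U ⊔ Subgroup.zpowers (d P₂ hP₂) with hD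
      have hconjC : ∀ s ∈ S, ∀ x ∈ S, x⁻¹ * (s * x * s⁻¹) ∈ Subgroup.zpowers c := by
        intro s hs x hx
        have := h.comm_mem (S.inv_mem hx) hs
        rwa [commutatorElement_def, inv_inv, mul_assoc, mul_assoc, ← mul_assoc s] at this
      have hfocal : F.focalSubgroup ≤ D := by
        let C : Subgroup Ω → (Ω → Ω) → Prop := fun P f => ∀ x ∈ P, x⁻¹ * f x ∈ D
        let E := predSystem F C (fun P f g he _ h' x hx => he x hx ▸ h' x hx)
          (fun P hP s hs x hx => Subgroup.mem_sup_left (Subgroup.mem_sup_left (hconjC s hs x (hP hx))))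
          (fun P R f g hf hg hm h' h'' x hx => by
            simpa [mul_assoc] using Subgroup.mul_mem _ (h' x hx) (h'' _ (hm x hx)))
          (fun P f g hf hg hgf h' y hy => by
            obtain ⟨x, hx, rfl⟩ := hf.mem_img.1 hy
            rw [hgf x hx]
            simpa using Subgroup.inv_mem _ (h' x hx))
        have hstep : ∀ P, P = S ∨ F.IsEssential 2 P → F.autGroup P ≤ E.autGroup P := by
          intro P hP α hα
          rcases hP with rfl | hP
          · refine (mem_autGroup_iff_fn le_rfl).2 (fn_predSystem.2 ⟨(mem_autGroup_iff_fn le_rfl).1 hα, ?_⟩)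
            intro x hx
            obtain ⟨s, hs, hsx⟩ := hinner _ ((mem_autGroup_iff_fn le_rfl).1 hα)
            rw [hsx x hx]
            exact Subgroup.mem_sup_left (Subgroup.mem_sup_left (hconjC s hs x hx))
          · refine (mem_autGroup_iff_fn hP.1.1).2 (fn_predSystem.2 ⟨(mem_autGroup_iff_fn hP.1.1).1 hα, ?_⟩)
            intro x hx
            obtain ⟨g, hg, hgv⟩ := hmod P hP α hα
            obtain ⟨s, hs, hsx⟩ := hinner g hg
            have hUD : Subgroup.zpowers c ⊔ Subgroup.zpowers (d P hP) ≤ D := by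
              refine sup_le ((le_sup_left : Subgroup.zpowers c ≤ U).trans le_sup_left) ?_
              rcases hall2 P hP with rfl | rfl
              · exact (le_sup_right : Subgroup.zpowers (d P hP) ≤ U).trans le_sup_left
              · exact le_sup_right
            rw [show x⁻¹ * autFn α x = x⁻¹ * g x * ((g x)⁻¹ * autFn α x) by group]
            refine Subgroup.mul_mem _ ?_ (hUD (hgv x hx).2)
            rw [hsx x (hP.1.1 hx)]
            exact Subgroup.mem_sup_left (Subgroup.mem_sup_left (hconjC s hs x (hP.1.1 hx)))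
        have hle : F ≤ E := alperin hS hF E (hstep S (Or.inl rfl)) fun P _ hP => hstep P (Or.inr hP)
        refine (Subgroup.closure_le _).2 ?_
        rintro _ ⟨P, φ, x, hφ, rfl⟩
        have := (fn_predSystem.1 (fn_of_le hle (fn_ofHom hφ))).2 x x.2
        rwa [ofHom_coe] at this
      have hSD : S ≤ D := by
        rw [focal_eq_hyperfocal_sup hS hF, hhyp] at hfocal
        exact le_sup_left.trans hfocal
      intro z hz
      have hUS : U ≤ P₀ := sup_le (Subgroup.zpowers_le.2 ((fr P₀ hP₀).Z_le h.c_mem))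
        (Subgroup.zpowers_le.2 (fr P₀ hP₀).d_mem)
      have hnorm : Subgroup.zpowers (d P₂ hP₂) ≤ Subgroup.normalizer (U : Set Ω) := by
        rw [Subgroup.zpowers_le]
        haveI := finite_of_le_base (hUS.trans hP₀.1.1)
        refine mem_normalizer_of_map_le fun u hu => ?_
        have := hconjC _ (hP₂.1.1 (fr P₂ hP₂).d_mem) u (hP₀.1.1 (hUS hu))
        have h' := U.mul_mem hu ((le_sup_left : Subgroup.zpowers c ≤ U) this)
        rwa [mul_inv_cancel_left] at h'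
      obtain ⟨u, hu, v, hv, huv⟩ := (CfsgLib.Coprime.mem_sup_of_le_normalizer hnorm).1 (hSD (mem_Zc.1 hz).1)
      obtain ⟨k, rfl⟩ := Subgroup.mem_zpowers_iff.1 hv
      have hk1 : d P₂ hP₂ ^ k = 1 := by
        rcases zpow_two_cases (fr P₂ hP₂).d_pow k with ⟨-, hk⟩ | ⟨-, hk⟩
        · exact hk
        · exfalso
          refine hne ?_
          have hd2 : d P₂ hP₂ ∈ P₀ := by
            rw [show d P₂ hP₂ = u⁻¹ * z by rw [← huv, hk]; group]
            exact P₀.mul_mem (P₀.inv_mem (hUS hu)) ((fr P₀ hP₀).Z_le hz)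
          exact (fr P₀ hP₀).comm _ (fr P₀ hP₀).d_mem _ hd2
      rw [hk1, mul_one] at huv
      subst huv
      have hcn : Subgroup.zpowers (d P₀ hP₀) ≤ Subgroup.normalizer (Subgroup.zpowers c : Set Ω) :=
        Subgroup.zpowers_le.2 (Subgroup.centralizer_le_normalizer _ (Subgroup.mem_centralizer_iff.2 fun q hq =>
          ((mem_Zc.1 (h.c_le hq)).2 _ (hP₀.1.1 (fr P₀ hP₀).d_mem)).symm))
      obtain ⟨e, he, v, hv, hev⟩ := (CfsgLib.Coprime.mem_sup_of_le_normalizer hcn).1 hu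
      obtain ⟨l, rfl⟩ := Subgroup.mem_zpowers_iff.1 hv
      rcases zpow_two_cases (fr P₀ hP₀).d_pow l with ⟨-, hl⟩ | ⟨-, hl⟩ <;> rw [hl] at hev
      · rw [mul_one] at hev
        rwa [← hev]
      · exfalso
        refine (fr P₀ hP₀).d_notMem ?_
        rw [show d P₀ hP₀ = e⁻¹ * u by rw [← hev]; group]
        exact (Zc S).mul_mem ((Zc S).inv_mem (h.c_le he)) hz
    · have hWtau : ∀ P hP, ∀ (g : Ω → Ω), Fn F S g → g c = c⁻¹ → (∀ w ∈ W P hP, g w = w) →
          ∀ z ∈ Zc S, z⁻¹ * g z ∈ Subgroup.zpowers c ∧ (g z = z → z ∈ W P hP) := by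
        intro P hP g hg hgc hgw z hz
        obtain ⟨i, w, hw, rfl⟩ := hdec P hP z hz
        have hwS : w ∈ S := (mem_Zc.1 ((fr P hP).W_le hw)).1
        obtain ⟨φ, -, hφ⟩ := id hg
        have hci : g (c ^ i) = (c ^ i)⁻¹ := by
          have e := map_zpow φ ⟨c, hcS⟩ i
          rw [hφ, hφ] at e
          show g (c ^ i) = _
          rw [← inv_zpow, ← hgc]
          simpa using e
        have he : (c ^ i * w)⁻¹ * g (c ^ i * w) = (c ^ i)⁻¹ * (c ^ i)⁻¹ := by
          have hcw : Commute w (c ^ i) := Commute.zpow_right (h := (mem_Zc.1 h.c_mem).2 w hwS) (m := i)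
          rw [hg.map_mul (S.zpow_mem hcS i) hwS, hci, hgw w hw, mul_inv_rev,
            show w⁻¹ * (c ^ i)⁻¹ * ((c ^ i)⁻¹ * w) = w⁻¹ * ((c ^ i)⁻¹ * (c ^ i)⁻¹) * w by group,
            ((hcw.inv_right.mul_right hcw.inv_right).inv_left).eq, inv_mul_cancel_right]
        refine ⟨?_, fun hgz => ?_⟩
        · rw [he]
          exact Subgroup.mul_mem _ (Subgroup.inv_mem _ (Subgroup.mem_zpowers_iff.2 ⟨i, rfl⟩))
            (Subgroup.inv_mem _ (Subgroup.mem_zpowers_iff.2 ⟨i, rfl⟩))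
        · rw [hgz, inv_mul_cancel] at he
          have h2 : (c ^ i) ^ 2 = 1 := by
            rw [← mul_inv_rev, eq_comm, inv_eq_one] at he
            rwa [pow_two]
          have hpp : (c ^ i) ^ p = 1 := by
            rw [← zpow_natCast, ← zpow_mul, mul_comm, zpow_mul, zpow_natCast, h.c_pow, one_zpow]
          have h3 := (pow_gcd_eq_one (a := c ^ i)).2 ⟨h2, hpp⟩
          rw [Nat.Coprime.gcd_eq_one ((Nat.coprime_primes Nat.prime_two (Fact.out : p.Prime)).2 (Ne.symm hp2)),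
            pow_one] at h3
          rwa [h3, one_mul]
      obtain ⟨τ, hτ, hτc, hτw⟩ := htau P₀ hP₀ hp2
      have hW0' : ∀ w ∈ W P₀ hP₀, w = 1 := by
        intro w hw
        have hwZ := (fr P₀ hP₀).W_le hw
        refine htriv w hwZ fun g hg P hP => ?_
        obtain ⟨σ, hσ, hσc, hσw⟩ := htau P hP hp2
        refine (hWtau P hP σ hσ hσc hσw (g w) (map_Zc h hg hwZ)).2 ?_
        obtain ⟨g', hg', hg'g, hg'i⟩ := hg.exists_inv
        have hiS : img g S = S := hg.img_eq_self fun x hx => hg.mem hx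
        rw [hiS] at hg'
        have hconjc : Fn F S (g ∘ τ ∘ g') :=
          (hg'.comp hτ fun x hx => hg'.mem hx).comp hg fun x hx => hτ.mem (hg'.mem hx)
        have hgg' : ∀ x ∈ S, g (g' x) = x := by
          intro x hx
          rw [← hiS] at hx
          obtain ⟨q, hq, rfl⟩ := hg.mem_img.1 hx
          rw [hg'g q hq]
        have hg'Z : ∀ z ∈ Zc S, g' z ∈ Zc S := fun z hz => map_Zc h hg' hz
        have e1 : (g ∘ τ ∘ g') c = c⁻¹ := by
          obtain ⟨k, hk⟩ := Subgroup.mem_zpowers_iff.1 (h.map_c hg' (Subgroup.mem_zpowers c))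
          show g (τ (g' c)) = c⁻¹
          have hck : τ (g' c) = (g' c)⁻¹ := by
            obtain ⟨φ, -, hφ⟩ := id hτ
            have e := map_zpow φ ⟨c, hcS⟩ k
            rw [hφ, hφ] at e
            rw [← hk, ← inv_zpow, ← hτc]
            simpa using e
          rw [hck, hg.map_inv (hg'.mem hcS), hgg' c hcS]
        have e2 : ∀ z ∈ Zc S, z⁻¹ * (g ∘ τ ∘ g') z ∈ Subgroup.zpowers c := by
          intro z hz
          have hzS := (mem_Zc.1 hz).1
          have h1 := h.map_c hg (hWtau P₀ hP₀ τ hτ hτc hτw (g' z) (hg'Z z hz)).1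
          rwa [hg.map_mul (S.inv_mem (hg'.mem hzS)) (hτ.mem (hg'.mem hzS)), hg.map_inv (hg'.mem hzS),
            hgg' z hzS] at h1
        have := agree_on_Zc h hσ hconjc hσc e1 (fun z hz => (hWtau P hP σ hσ hσc hσw z hz).1) e2
          (map_Zc h hg hwZ)
        rw [this]
        show g (τ (g' (g w))) = g w
        rw [hg'g w (mem_Zc.1 hwZ).1, hτw w hw]
      intro z hz
      obtain ⟨i, w, hw, rfl⟩ := hdec P₀ hP₀ z hz
      rw [hW0' w hw, mul_one]
      exact Subgroup.mem_zpowers_iff.2 ⟨i, rfl⟩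
  -- orders
  have hcard_center : Nat.card (Subgroup.center ↥S) = p := by
    have he : Subgroup.center ↥S = Subgroup.zpowers (⟨c, hcS⟩ : S) := by
      refine le_antisymm (fun z hz => ?_) (Subgroup.zpowers_le.2 (mem_Zc_iff_center.1 h.c_mem))
      obtain ⟨i, hi⟩ := Subgroup.mem_zpowers_iff.1 (hZc z (mem_Zc_iff_center.2 hz))
      exact Subgroup.mem_zpowers_iff.2 ⟨i, Subtype.ext (by simpa using hi)⟩
    rw [he, Nat.card_zpowers]
    exact orderOf_eq_prime (Subtype.ext (by simpa using h.c_pow)) fun e => h.c_ne (congrArg Subtype.val e)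
  have hcard3 : Nat.card ↥S = p ^ 3 := by
    rw [← Subgroup.index_mul_card (Subgroup.center ↥S), hidx, hcard_center]
    ring
  refine ⟨CfsgLib.LocalEvenB.OrderPCubed.isExtraspecial hcard3 hna, hcard3, fun hp2 => ?_, fun hp2 => ?_⟩
  · -- exponent `p`
    have hpow : ∀ x ∈ S, ∀ y ∈ S, (x * y) ^ p = x ^ p * y ^ p := by
      intro x hx y hy
      have hc' : ∀ g : S, g * ⁅(⟨y, hy⟩ : S), (⟨x, hx⟩ : S)⁆ = ⁅(⟨y, hy⟩ : S), (⟨x, hx⟩ : S)⁆ * g := fun g =>
        Subgroup.mem_center_iff.1 (comm_mem_center hidx _ _) g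
      have h1 := mul_pow_class_two hc' p
      have hdvd : p ∣ p.choose 2 := Nat.Prime.dvd_choose_self Fact.out two_ne_zero
        (lt_of_le_of_ne (Fact.out : p.Prime).two_le (Ne.symm hp2))
      obtain ⟨k, hk⟩ := hdvd
      rw [hk, pow_mul, comm_pow_p hidx hna, one_pow, mul_one] at h1
      simpa using congrArg Subtype.val h1
    let K : Subgroup Ω :=
      { carrier := {x | x ∈ S ∧ x ^ p = 1}
        mul_mem' := fun {a b} ha hb => ⟨S.mul_mem ha.1 hb.1, by rw [hpow a ha.1 b hb.1, ha.2, hb.2, one_mul]⟩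
        one_mem' := ⟨S.one_mem, one_pow p⟩
        inv_mem' := fun {a} ha => ⟨S.inv_mem ha.1, by rw [inv_pow, ha.2, inv_one]⟩ }
    by_contra hexp
    have hKS : K ≤ S := fun x hx => hx.1
    have hKne : K ≠ S := by
      intro e
      apply hexp
      have hdvd : Monoid.exponent ↥S ∣ p := Monoid.exponent_dvd_of_forall_pow_eq_one fun x => by
        have hx : (x : Ω) ∈ K := e.ge x.2
        exact Subtype.ext (by simpa using hx.2)
      rcases (Nat.dvd_prime (Fact.out : p.Prime)).1 hdvd with h1 | h1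
      · exact absurd (Monoid.exp_eq_one_iff.1 h1) (not_subsingleton _)
      · exact h1
    have hPK : ∀ P, F.IsEssential p P → P = K := by
      intro P hP
      haveI := finite_of_le_base hKS
      haveI := finite_of_le_base hP.1.1
      have hle : P ≤ K := by
        intro v hv
        obtain ⟨i, j, w, hw, rfl⟩ := (fr P hP).dec v hv
        have hw' : w ∈ K := by
          obtain ⟨l, rfl⟩ := Subgroup.mem_zpowers_iff.1 (hZc w ((fr P hP).W_le hw))
          exact K.zpow_mem ⟨hcS, h.c_pow⟩ l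
        exact K.mul_mem (K.mul_mem (K.zpow_mem ⟨hcS, h.c_pow⟩ i)
          (K.zpow_mem ⟨hP.1.1 (fr P hP).d_mem, (fr P hP).d_pow⟩ j)) hw'
      by_contra hne
      obtain ⟨y, hyK, hyP⟩ := SetLike.exists_of_lt (lt_of_le_of_ne hle hne)
      refine hKne (le_antisymm hKS fun s hs => ?_)
      obtain ⟨t, ht, j, rfl⟩ := S_decomp h hP hyK.1 hyP hs
      exact K.mul_mem (hle ht) (K.zpow_mem hyK j)
    have hKn : F.IsNormal K := by
      refine normal_of_generators hS hF hKS (hPK P₀ hP₀ ▸ S_le_normalizer h hP₀) fun P hP => ?_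
      rcases hP with rfl | hP
      · refine ⟨hKS, fun α hα x hx => ⟨autFn_mem α hx.1, ?_⟩⟩
        have h1 : (⟨x, hx.1⟩ : P) ^ p = 1 := Subtype.ext (by simpa using hx.2)
        have h2 := congrArg Subtype.val (congrArg α h1)
        rw [map_pow, map_one] at h2
        rw [show autFn α x = ((α ⟨x, hx.1⟩ : P) : Ω) from autFn_coe α ⟨x, hx.1⟩]
        simpa using h2
      · rw [← hPK P hP]
        exact ⟨le_rfl, fun α _ x hx => autFn_mem α hx⟩
    exact h.c_ne (Subgroup.mem_bot.1 (hnormal K hKn ▸ (show c ∈ K from ⟨hcS, h.c_pow⟩)))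
  · -- `D₈`
    subst hp2
    haveI : Fact (Nat.Prime 2) := ⟨Nat.prime_two⟩
    have hfix := fun P hP (g : Ω → Ω) (hg : Fn F S g) =>
      map_frame_le h (fr P hP) (S_le_normalizer h hP) hg
    obtain ⟨P₂, hP₂, h02⟩ : ∃ P, F.IsEssential 2 P ∧ P₀ ≠ P := by
      by_contra hone
      push Not at hone
      have hN : F.IsNormal P₀ := by
        refine normal_of_generators hS hF hP₀.1.1 (S_le_normalizer h hP₀) fun P hP => ?_
        rcases hP with rfl | hP
        · refine ⟨hP₀.1.1, fun α hα x hx => ?_⟩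
          have := hfix P₀ hP₀ _ ((mem_autGroup_iff_fn le_rfl).1 hα)
          exact this ▸ mem_img_of_mem hx
        · obtain rfl := hone P hP
          exact ⟨le_rfl, fun α _ x hx => autFn_mem α hx⟩
      exact (fr P₀ hP₀).d_notMem (by
        have h0 : d P₀ hP₀ ∈ (⊥ : Subgroup Ω) := hnormal P₀ hN ▸ (fr P₀ hP₀).d_mem
        rw [Subgroup.mem_bot.1 h0]; exact (Zc S).one_mem)
    have hne := frame_not_commute h (fr P₀ hP₀) (fr P₂ hP₂) h02
    let x : S := ⟨d P₀ hP₀, hP₀.1.1 (fr P₀ hP₀).d_mem⟩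
    let y : S := ⟨d P₂ hP₂, hP₂.1.1 (fr P₂ hP₂).d_mem⟩
    have hx : x⁻¹ = x := inv_eq_of_mul_eq_one_left (Subtype.ext (by
      simpa [x, pow_two] using (fr P₀ hP₀).d_pow))
    have hy : y⁻¹ = y := inv_eq_of_mul_eq_one_left (Subtype.ext (by
      simpa [y, pow_two] using (fr P₂ hP₂).d_pow))
    have hne' : x * y ≠ y * x := fun e => hne (congrArg Subtype.val e)
    have hsq : (x * y) ^ 2 = ⁅x, y⁆ := by
      rw [commutatorElement_def, hx, hy, pow_two, mul_assoc (x * y)]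
    have hord : orderOf (x * y) = 4 := by
      rw [show (4 : ℕ) = 2 ^ (1 + 1) from rfl]
      refine orderOf_eq_prime_pow ?_ ?_
      · rw [pow_one, hsq]; exact fun e => hne' (commutatorElement_eq_one_iff_mul_comm.1 e)
      · rw [show (2 : ℕ) ^ (1 + 1) = 2 * 2 from rfl, pow_mul, hsq]; exact comm_pow_p hidx hna x y
    refine CfsgLib.TwoGroups.CyclicMax.dihedral_iso hord (by rw [hcard3]; norm_num) (b := x) (fun hm => hne' ?_) ?_ ?_
    · obtain ⟨k, hk⟩ := Subgroup.mem_zpowers_iff.1 hm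
      have h1 : Commute x (x * y) := (congrArg (fun q => Commute q (x * y)) hk).mp ((Commute.refl (x * y)).zpow_left k)
      exact mul_left_cancel (h1.eq.trans (mul_assoc x y x))
    · calc x * x = x⁻¹ * x := by rw [hx]
        _ = 1 := inv_mul_cancel x
    · rw [mul_inv_rev, hx, hy]
      calc x * (x * y) * x = x⁻¹ * (x * y) * x := by rw [hx]
        _ = y * x := by rw [inv_mul_cancel_left]

end Cfsg.Agent.S5265
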