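import Cfsg.Agent.Lib.FusionSystem.MaxClassEssential
-- Template for statement S5270 (row 5270; see /opt/grader/pristine/manifest.json for weights).
-- Copy to Cfsg/Agent/S5270.lean and replace the sorry. The statement below is byte-identical to the frozen
-- statement Cfsg.CfsgFrozen.S5270 (Cfsg/Statements/S5270.lean; the theorem Cfsg.fus4_maximal_class_second_center_automizer_moving_center_forces_essential);
-- the grader kernel-checks Cfsg.Agent.S5270.result against that frozen type. Keep the theorem IN THIS FILE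
-- (a `result` declared elsewhere and merely imported here is not credited); helpers may live anywhere
-- under Cfsg/Agent/.
import Cfsg.Statements.S5270
-- import your own Cfsg.Agent.* helpers here

set_option autoImplicit false
open Cfsg

namespace Cfsg.Agent.S5270

/-- Let p ≥ 5 be a prime, S a finite p-group of maximal class of order p^n with n ≥ 4, and F a saturated fusion system over S. If some map of F defined on the second centre Z₂(S) with image Z₂(S) does not carry Z(S) into itself, then the centralizer C_S(Z₂(S)) is an F-essential subgroup. -/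
theorem result {Ω : Type*} [Group Ω] {S : Subgroup Ω} [Finite S] (p : ℕ) [Fact p.Prime] (hS : IsPGroup p ↥S) (n : ℕ) (hn : Nat.card S = p ^ n) (h4 : 4 ≤ n) (hmax : Subgroup.lowerCentralSeries S (n - 2) ≠ ⊥) (F : Cfsg.FusionSystem S) (hF : F.IsSaturated p) (hp : 5 ≤ p) (φ : ↥((Subgroup.upperCentralSeries ↥S 2).map S.subtype) →* Ω) (hφ : φ ∈ F.Hom ((Subgroup.upperCentralSeries ↥S 2).map S.subtype)) (hφZ : φ.range = ((Subgroup.upperCentralSeries ↥S 2).map S.subtype)) (hmove : ∃ (z : Ω) (hz : z ∈ ((Subgroup.upperCentralSeries ↥S 2).map S.subtype)), z ∈ ((Subgroup.center ↥S).map S.subtype) ∧ φ ⟨z, hz⟩ ∉ ((Subgroup.center ↥S).map S.subtype)) : F.IsEssential p (S ⊓ Subgroup.centralizer (((Subgroup.upperCentralSeries ↥S 2).map S.subtype) : Set Ω)) := by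
  obtain ⟨z, hz₂, hz, hzf⟩ := hmove
  have hr : φ.range = CfsgLib.Fsys.img (CfsgLib.Fsys.ofHom φ) _ :=
    CfsgLib.Fsys.Fn.range_eq_img fun x => (CfsgLib.Fsys.ofHom_coe φ x).symm
  refine CfsgLib.Fsys.essential_of_moves_center hS hF hn h4 hmax (CfsgLib.Fsys.fn_ofHom hφ) (hr ▸ hφZ) hz₂ hz ?_
  rwa [CfsgLib.Fsys.ofHom_apply φ hz₂]

end Cfsg.Agent.S5270
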