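import Cfsg.Agent.Lib.FusionSystem.Hyperfocal
import Cfsg.Agent.Lib.FusionSystem.WeaklyEmbeddedOrder
-- Template for statement S5271 (row 5271; see /opt/grader/pristine/manifest.json for weights).
-- Copy to Cfsg/Agent/S5271.lean and replace the sorry. The statement below is byte-identical to the frozen
-- statement Cfsg.CfsgFrozen.S5271 (Cfsg/Statements/S5271.lean; the theorem Cfsg.fus4_inner_iff_weakly_embedded_subgroups_of_one_order_with_inner_normalizers);
-- the grader kernel-checks Cfsg.Agent.S5271.result against that frozen type. Keep the theorem IN THIS FILE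
-- (a `result` declared elsewhere and merely imported here is not credited); helpers may live anywhere
-- under Cfsg/Agent/.
import Cfsg.Statements.S5271
-- import your own Cfsg.Agent.* helpers here

set_option autoImplicit false
open Cfsg

namespace Cfsg.Agent.S5271

/-- A nilpotency criterion for fusion systems. Let F be a saturated fusion system over a finite p-group S of order at least p². Call a subgroup Q of S weakly embedded in F when there is a subgroup P of S strongly closed in F such that both the product QP and the intersection Q ∩ P are strongly closed in F. Then F is the inner fusion system of S if and only if there is a subgroup D of S with 1 < D < S such that every subgroup of S of the same order as D is weakly embedded in F and, for every fully normalized subgroup H of S of that order, the normalizer fusion system of H in F is the inner fusion system of N_S(H). -/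
theorem result {Ω : Type*} [Group Ω] {S : Subgroup Ω} [Finite S] (p : ℕ) [Fact p.Prime] (hS : IsPGroup p ↥S) (F : Cfsg.FusionSystem S) (hF : F.IsSaturated p) (hcard : p ^ 2 ≤ Nat.card S) : (∀ P : Subgroup Ω, F.Hom P = (Cfsg.innerFusionSystem S).Hom P) ↔ ∃ D : Subgroup Ω, ⊥ < D ∧ D < S ∧ (∀ Q : Subgroup Ω, Q ≤ S → Nat.card ↥Q = Nat.card ↥D → ∃ P : Subgroup Ω, F.StronglyClosed P ∧ F.StronglyClosed (Q ⊔ P) ∧ F.StronglyClosed (Q ⊓ P)) ∧ (∀ H : Subgroup Ω, F.IsFullyNormalized H → Nat.card ↥H = Nat.card ↥D → ∀ N : Cfsg.FusionSystem (Cfsg.FusionSystem.normalizerIn S H), F.IsNormalizerSystem H N → ∀ P : Subgroup Ω, N.Hom P = (Cfsg.innerFusionSystem (Cfsg.FusionSystem.normalizerIn S H)).Hom P) := by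
  have hp := (Fact.out : p.Prime)
  obtain ⟨n, hn⟩ := IsPGroup.iff_card.1 hS
  rw [hn] at hcard
  have hn2 := (Nat.pow_le_pow_iff_right hp.one_lt).1 hcard
  constructor
  · intro h
    obtain ⟨D, -, hDS, hDk⟩ := CfsgLib.Fsys.WEO.exists_between hS (bot_le : (⊥ : Subgroup Ω) ≤ S) le_rfl
      (k := n - 1) (by rw [Subgroup.card_bot]; exact Nat.one_le_pow _ _ hp.pos)
      (by rw [hn]; exact Nat.pow_le_pow_right hp.pos (by omega))
    have hPA : CfsgLib.Fsys.PAut p F :=
      CfsgLib.Fsys.pAut_of_le_inner hS (fun P φ hφ => (h P) ▸ hφ)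
    refine ⟨D, bot_lt_iff_ne_bot.2 fun e => ?_, lt_of_le_of_ne hDS fun e => ?_, fun Q hQ hQc => ?_,
      fun H hH _ N hN P => ?_⟩
    · rw [e, Subgroup.card_bot] at hDk
      exact (Nat.one_lt_pow (by omega) hp.one_lt).ne hDk
    · rw [e, hn] at hDk
      have := Nat.pow_right_injective hp.two_le hDk
      omega
    · haveI : (Q.subgroupOf S).Normal := by
        refine Subgroup.normal_of_index_eq_minFac_card ?_
        have h1 := Subgroup.card_mul_index (Q.subgroupOf S)
        rw [Nat.card_congr (Subgroup.subgroupOfEquivOfLe hQ).toEquiv, hQc, hDk, hn] at h1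
        have h2 : (Q.subgroupOf S).index = p := by
          refine Nat.eq_of_mul_eq_mul_left (pow_pos hp.pos (n - 1)) (h1.trans ?_)
          rw [← pow_succ]; congr 1; omega
        rw [h2, hn, Nat.pow_minFac (by omega), hp.minFac_eq]
      refine ⟨⊥, CfsgLib.Fsys.sc_bot, ?_, by rw [inf_bot_eq]; exact CfsgLib.Fsys.sc_bot⟩
      rw [sup_bot_eq]
      refine CfsgLib.Fsys.stronglyClosed_iff_fn.2 ⟨hQ, fun P f hf x hx hxQ => ?_⟩
      obtain ⟨s, hs, he⟩ := CfsgLib.Fsys.exists_conj_of_pAut hS hF hPA hf
      rw [he x hx]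
      exact Subgroup.Normal.conj_mem ‹(Q.subgroupOf S).Normal› ⟨x, hQ hxQ⟩ hxQ ⟨s, hs⟩
    · haveI : Finite (Cfsg.FusionSystem.normalizerIn S H) :=
        CfsgLib.Fsys.finite_of_le_base CfsgLib.Fsys.normalizerIn_le
      refine CfsgLib.Fsys.hom_eq_inner_of_pAut (hS.to_le CfsgLib.Fsys.normalizerIn_le)
        (CfsgLib.Fsys.normalizerSystem_saturated hS hF hH hN) (fun R hR α hα => ?_) P
      exact hPA R (hR.trans CfsgLib.Fsys.normalizerIn_le) α
        (CfsgLib.Fsys.autGroup_mono' (CfsgLib.Fsys.normalizerSystem_sub hN) R hα)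
  · rintro ⟨D, hD0, hDS, hw, hi⟩
    haveI := CfsgLib.Fsys.finite_of_le_base hDS.le
    obtain ⟨k, hk⟩ := IsPGroup.iff_card.1 (hS.to_le hDS.le)
    have hk1 : 1 ≤ k := Nat.one_le_iff_ne_zero.2 fun e => hD0.ne' (by
      rw [e, pow_zero] at hk
      exact Subgroup.card_eq_one.1 hk)
    have hyp : CfsgLib.Fsys.WEO.Hyp p F (p ^ k) :=
      ⟨fun Q hQ hQc => hw Q hQ (hQc.trans hk.symm), fun H hH hHc => hi H hH (hHc.trans hk.symm)⟩
    have hlt : p ^ k < Nat.card S := hk ▸ CfsgLib.Fsys.WEO.card_lt hDS
    exact fun P => CfsgLib.Fsys.hom_eq_inner_of_pAut hS hF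
      (CfsgLib.Fsys.WEO.pAut_of_hyperfocal_bot (CfsgLib.Fsys.WEO.hyperfocal_bot hyp hk1 hlt hS hF)) P

end Cfsg.Agent.S5271
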