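import Cfsg.Statements.S5272
import Cfsg.Agent.Lib.KGroups.AxiomGT

set_option autoImplicit false
open Cfsg

namespace Cfsg.Agent.S5272

open CfsgLib.Fsys CfsgLib.KGroups


/-- An axiomatic Glauberman–Thompson nilpotency criterion for fusion systems. Let p be an odd prime, F a saturated fusion system over a finite p-group S, and 𝒜 a nonempty family of abelian subgroups of S. For Q ≤ S write I(Q) for the intersection of the members of 𝒜 contained in Q. Assume (invariance) that for every Q ≤ S containing a member of 𝒜, every F-automorphism of Q maps I(Q) into itself, and (replacement) that for every subgroup B of S of nilpotency class at most 2, if some member of 𝒜 contains [B,B] but not B, then B normalizes some member of 𝒜 that contains [B,B] but not B. Then F is the inner fusion system of S if and only if the normalizer fusion system of I(S) in F is the inner fusion system of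 N_S(I(S)). -/
theorem result {Ω : Type*} [Group Ω] {S : Subgroup Ω} [Finite S] (p : ℕ) [Fact p.Prime] (hS : IsPGroup p ↥S) (F : Cfsg.FusionSystem S) (hF : F.IsSaturated p) (hp : p ≠ 2) (𝒜 : Set (Subgroup Ω)) (h𝒜 : ∀ A ∈ 𝒜, A ≤ S ∧ IsMulCommutative ↥A) (hne : 𝒜.Nonempty) (hinv : ∀ Q : Subgroup Ω, Q ≤ S → (∃ A ∈ 𝒜, A ≤ Q) → ∀ α ∈ F.autGroup Q, ∀ x : ↥Q, (x : Ω) ∈ (⨅ A ∈ {A : Subgroup Ω | A ∈ 𝒜 ∧ A ≤ Q}, A) → (((α : MulAut ↥Q) x : ↥Q) : Ω) ∈ (⨅ A ∈ {A : Subgroup Ω | A ∈ 𝒜 ∧ A ≤ Q}, A)) (hrep : ∀ B : Subgroup Ω, B ≤ S → ⁅⁅B, B⁆, B⁆ = ⊥ → (∃ A ∈ 𝒜, ⁅B, B⁆ ≤ A ∧ ¬ B ≤ A) → ∃ A ∈ 𝒜, ⁅B, B⁆ ≤ A ∧ ¬ B ≤ A ∧ B ≤ Subgroup.normalizer (A : Set Ω)) : (∀ P : Subgroup Ω, F.Hom P = (Cfsg.innerFusionSystem S).Hom P) ↔ ∀ N : Cfsg.FusionSystem (Cfsg.FusionSystem.normalizerIn S (⨅ A ∈ 𝒜, A)), F.IsNormalizerSystem (⨅ A ∈ 𝒜, A) N → ∀ P : Subgroup Ω, N.Hom P = (Cfsg.innerFusionSystem (Cfsg.FusionSystem.normalizerIn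 S (⨅ A ∈ 𝒜, A))).Hom P := by
  classical
  set I := ⨅ A ∈ 𝒜, A with hIdef
  obtain ⟨A₀, hA₀⟩ := hne
  have hIA : ∀ A ∈ 𝒜, I ≤ A := fun A hA => iInf₂_le A hA
  have hIS : I ≤ S := (hIA A₀ hA₀).trans (h𝒜 A₀ hA₀).1
  have hset : (⨅ A ∈ {A : Subgroup Ω | A ∈ 𝒜 ∧ A ≤ S}, A) = I := by
    refine le_antisymm (le_iInf₂ fun A hA => iInf₂_le A ⟨hA, (h𝒜 A hA).1⟩) (le_iInf₂ fun A hA => hIA A hA.1)
  refine ⟨fun h N hN => normalizer_inner_of_inner h N hN, fun h => hom_eq_inner_of_pAut hS hF ?_⟩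
  have hloc : ∀ (P : Subgroup Ω) (f : Ω → Ω), P ≤ FusionSystem.normalizerIn S I → I ≤ P → Fn F P f →
      img f I = I → (∀ x ∈ P, f x ∈ FusionSystem.normalizerIn S I) → ∃ s ∈ S, ∀ x ∈ P, f x = s * x * s⁻¹ := by
    intro P f hPN hIP hf hi hm
    obtain ⟨N, hN⟩ := exists_normalizerSystem F hIS
    obtain ⟨φ, hφ, hφf⟩ : Fn N P f := (fn_normalizerSystem hN).2
      ⟨hPN, hm, f, (sup_eq_left.2 hIP).symm ▸ hf, fun y _ => rfl, hi⟩
    rw [h N hN P] at hφ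
    obtain ⟨-, g, hg, hgx⟩ := hφ
    exact ⟨g, hg.1, fun x hx => (hφf ⟨x, hx⟩).symm.trans (hgx ⟨x, hx⟩)⟩
  clear h
  suffices key : ∀ m : ℕ, ∀ (E : Cfsg.FusionSystem S), (homSet E).ncard = m → E.IsSaturated p → E ≤ F → PAut p E from
    key _ F rfl hF fun _ => subset_rfl
  intro m
  induction m using Nat.strong_induction_on with
  | _ m ihm =>
  intro E hm hE hEF
  by_contra hne'
  have ihF : ∀ E' : Cfsg.FusionSystem S, E' ≤ E → ¬ E ≤ E' → E'.IsSaturated p → PAut p E' :=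
    fun E' hle hnle hsat => ihm _ (hm ▸ homSet_lt hle hnle) E' rfl hsat fun P => (hle P).trans (hEF P)
  obtain ⟨L, _, ι, hfin, ⟨hinj, hreal⟩, ⟨T, hT⟩, hcent⟩ :=
    exists_model hS (constrained_of_minimal hp hS hE ihF hne')
  haveI : Finite L := hfin
  -- subgroups of `T` seen in `S`
  let dn : Subgroup L → Subgroup Ω := fun Q => (Q.comap ι).map S.subtype
  let up : Subgroup Ω → Subgroup L := fun P => (P.subgroupOf S).map ι
  have hmem : ∀ (Q : Subgroup L) (s : ↥S), (s : Ω) ∈ dn Q ↔ ι s ∈ Q := fun Q s =>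
    Subgroup.mem_map_iff_mem S.subtype_injective
  have hupmem : ∀ (P : Subgroup Ω) (s : ↥S), ι s ∈ up P ↔ (s : Ω) ∈ P := fun P s =>
    Subgroup.mem_map_iff_mem hinj
  have hdnS : ∀ Q : Subgroup L, dn Q ≤ S := fun Q => Subgroup.map_subtype_le _
  have hupT : ∀ P : Subgroup Ω, up P ≤ (T : Subgroup L) := fun P => hT.ge.trans' (Subgroup.map_le_range ι _)
  have hdnup : ∀ P : Subgroup Ω, P ≤ S → dn (up P) = P := fun P hP => by
    show ((Subgroup.map ι (P.subgroupOf S)).comap ι).map S.subtype = P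
    rw [Subgroup.comap_map_eq_self_of_injective hinj, Subgroup.map_subgroupOf_eq_of_le hP]
  have hupdn : ∀ Q : Subgroup L, Q ≤ (T : Subgroup L) → up (dn Q) = Q := fun Q hQ => by
    show (((Q.comap ι).map S.subtype).comap S.subtype).map ι = Q
    rw [Subgroup.comap_map_eq_self_of_injective S.subtype_injective, Subgroup.map_comap_eq_self (hQ.trans hT.le)]
  have hconj : ∀ (Q : Subgroup L), Q ≤ (T : Subgroup L) → ∀ g ∈ Subgroup.normalizer (Q : Set L),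
      ∃ f : Ω → Ω, Fn E (dn Q) f ∧ (∀ x (hx : x ∈ dn Q) (h' : f x ∈ S), ι ⟨f x, h'⟩ = g * ι ⟨x, hdnS Q hx⟩ * g⁻¹) ∧
        img f (dn Q) = dn Q := by
    intro Q hQ g hg
    have key : ∀ x : ↥(dn Q), ∃ y : ↥S, (y : Ω) ∈ dn Q ∧ ι y = g * ι ⟨x, hdnS Q x.2⟩ * g⁻¹ := by
      intro x
      have h1 := (Subgroup.mem_normalizer_iff.1 hg _).1 ((hmem Q ⟨x, hdnS Q x.2⟩).1 x.2)
      obtain ⟨y, hy⟩ := hT.le (hQ h1)
      exact ⟨y, (hmem Q y).2 (hy ▸ h1), hy⟩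
    choose y hyQ hy using key
    let φ : ↥(dn Q) →* Ω := MonoidHom.mk' (fun x => (y x : Ω)) fun a b => by
      have h' : ι (y (a * b)) = ι (y a * y b) := by
        rw [hy, map_mul, hy, hy, show (⟨((a * b : ↥(dn Q)) : Ω), hdnS Q (a * b).2⟩ : ↥S) =
          ⟨a, hdnS Q a.2⟩ * ⟨b, hdnS Q b.2⟩ from rfl, map_mul]
        group
      exact congrArg Subtype.val (hinj h')
    have hφ : φ ∈ E.Hom (dn Q) := (hreal _ (hdnS Q) φ fun x => (y x).2).2 ⟨g, fun x => hy x⟩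
    refine ⟨ofHom φ, fn_ofHom hφ, fun x hx h' => ?_, (fn_ofHom hφ).img_eq_self fun x hx => ?_⟩
    · rw [show (⟨ofHom φ x, h'⟩ : ↥S) = y ⟨x, hx⟩ from Subtype.ext (ofHom_coe φ ⟨x, hx⟩)]
      exact hy _
    · rw [show ofHom φ x = _ from ofHom_coe φ ⟨x, hx⟩]
      exact hyQ _
  set 𝒜' : Set (Subgroup L) := up '' 𝒜 with h𝒜'
  have hinter : ∀ (Q : Subgroup L), Q ≤ (T : Subgroup L) → ∀ s : ↥S, ι s ∈ AxiomGT.inter 𝒜' Q ↔
      (s : Ω) ∈ ⨅ A ∈ {A : Subgroup Ω | A ∈ 𝒜 ∧ A ≤ dn Q}, A := by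
    intro Q hQ s
    rw [AxiomGT.mem_inter]
    simp only [Subgroup.mem_iInf, Set.mem_ofPred_eq]
    refine ⟨fun h' A hA => (hupmem A s).1 (h' _ ⟨A, hA.1, rfl⟩ ?_), ?_⟩
    · rw [← hupdn Q hQ]
      exact Subgroup.map_mono (Subgroup.comap_mono hA.2)
    · rintro h' _ ⟨A, hA, rfl⟩ hle
      refine (hupmem A s).2 (h' A ⟨hA, ?_⟩)
      rw [← hdnup A (h𝒜 A hA).1]
      exact Subgroup.map_mono (Subgroup.comap_mono hle)
  have hdncomm : ∀ A B : Subgroup L, A ≤ (T : Subgroup L) → B ≤ (T : Subgroup L) → dn ⁅A, B⁆ = ⁅dn A, dn B⁆ := by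
    intro A B hA hB
    show (Subgroup.comap ι _).map S.subtype = _
    rw [← Subgroup.map_commutator]
    congr 1
    apply Subgroup.map_injective hinj
    rw [Subgroup.map_commutator, Subgroup.map_comap_eq_self (hA.trans hT.le), Subgroup.map_comap_eq_self (hB.trans hT.le),
      Subgroup.map_comap_eq_self]
    refine le_trans ?_ hT.le
    exact (Subgroup.commutator_mono hA hB).trans (Subgroup.commutator_le_self _)
  have hax : AxiomGT.Axioms (T : Subgroup L) 𝒜' := by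
    refine ⟨?_, ?_, ⟨_, A₀, hA₀, rfl⟩, ?_, ?_⟩
    · rintro _ ⟨A, -, rfl⟩; exact hupT A
    · rintro _ ⟨A, hA, rfl⟩ _ ⟨a, ha, rfl⟩ _ ⟨b, hb, rfl⟩
      rw [← map_mul, ← map_mul]
      refine congrArg ι (Subtype.ext ?_)
      have h0 := (h𝒜 A hA).2.is_comm.comm (⟨(a : Ω), ha⟩ : ↥A) ⟨(b : Ω), hb⟩
      exact (Subtype.ext_iff.1 h0 :)
    · intro Q hQ hex g hg x hx
      obtain ⟨_, ⟨A, hA, rfl⟩, hAQ⟩ := hex
      have hxT : x ∈ (T : Subgroup L) := hupT A (AxiomGT.mem_inter.1 hx _ ⟨A, hA, rfl⟩ hAQ)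
      obtain ⟨s, rfl⟩ := hT.le hxT
      have hsI := (hinter Q hQ s).1 hx
      have hAdn : A ≤ dn Q := by
        rw [← hdnup A (h𝒜 A hA).1]
        exact Subgroup.map_mono (Subgroup.comap_mono hAQ)
      have hsQ : (s : Ω) ∈ dn Q := by
        refine hAdn ?_
        simp only [Subgroup.mem_iInf, Set.mem_ofPred_eq] at hsI
        exact hsI A ⟨hA, hAdn⟩
      obtain ⟨f, hf, hfι, hfi⟩ := hconj Q hQ g hg
      obtain ⟨α, hα, hαe⟩ := exists_aut_of_fn hf hfi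
      have h1 := hinv (dn Q) (hdnS Q) ⟨A, hA, hAdn⟩ α (autGroup_mono hEF (hdnS Q) hα) ⟨s, hsQ⟩ hsI
      rw [hαe] at h1
      have h2 : f s ∈ S := hf.mem hsQ
      have h3 := (hinter Q hQ ⟨f s, h2⟩).2 h1
      rwa [hfι (s : Ω) hsQ h2] at h3
    · intro B hB hcl hex
      have hBB : ⁅B, B⁆ ≤ (T : Subgroup L) := (Subgroup.commutator_mono hB hB).trans (Subgroup.commutator_le_self _)
      have hdmono : ∀ {A : Subgroup Ω} {Q : Subgroup L}, A ≤ S → Q ≤ (T : Subgroup L) → (dn Q ≤ A ↔ Q ≤ up A) := by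
        intro A Q hA hQ
        constructor
        · intro h'; rw [← hupdn Q hQ]; exact Subgroup.map_mono (Subgroup.comap_mono h')
        · intro h'; rw [← hdnup A hA]; exact Subgroup.map_mono (Subgroup.comap_mono h')
      obtain ⟨A, hA, h1, h2, h3⟩ := hrep (dn B) (hdnS B) (by
        rw [← hdncomm B B hB hB, ← hdncomm _ B hBB hB, hcl]
        show (Subgroup.comap ι ⊥).map S.subtype = ⊥
        rw [MonoidHom.comap_bot, (MonoidHom.ker_eq_bot_iff ι).2 hinj, Subgroup.map_bot]) (by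
        obtain ⟨_, ⟨A, hA, rfl⟩, h1, h2⟩ := hex
        refine ⟨A, hA, ?_, fun h' => h2 ((hdmono (h𝒜 A hA).1 hB).1 h')⟩
        rw [← hdncomm B B hB hB]
        exact (hdmono (h𝒜 A hA).1 hBB).2 h1)
      refine ⟨_, ⟨A, hA, rfl⟩, ?_, fun h' => h2 ((hdmono (h𝒜 A hA).1 hB).2 h'), fun b hb => ?_⟩
      · rw [← hdncomm B B hB hB] at h1
        exact (hdmono (h𝒜 A hA).1 hBB).1 h1
      · obtain ⟨s, rfl⟩ := hT.le (hB hb)
        have hsn : s ∈ Subgroup.normalizer ((A.subgroupOf S : Subgroup ↥S) : Set ↥S) :=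
          Subgroup.mem_normalizer_iff.2 fun a => Subgroup.mem_normalizer_iff.1 (h3 ((hmem B s).2 hb)) (a : Ω)
        exact Subgroup.le_normalizer_map ι ⟨s, hsn, rfl⟩
  have hI' : ∀ s : ↥S, ι s ∈ AxiomGT.inter 𝒜' (T : Subgroup L) ↔ (s : Ω) ∈ I := by
    intro s
    have hdT : dn (T : Subgroup L) = S := by
      show (Subgroup.comap ι _).map S.subtype = S
      rw [hT, MonoidHom.range_eq_map, Subgroup.comap_map_eq_self_of_injective hinj, ← MonoidHom.range_eq_map,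
        Subgroup.range_subtype]
    rw [hinter _ le_rfl, hdT, hset]
  haveI := CfsgLib.LocalEven.SylowIn.pCore_normal L p
  set O := Cfsg.pCore p L
  set I' := AxiomGT.inter 𝒜' (T : Subgroup L) with hI'def
  have hOT : O ≤ (T : Subgroup L) := (CfsgLib.LocalEven.SylowIn.isPGroup_pCore L p).le_sylow_of_normal T
  have hI'T : I' ≤ (T : Subgroup L) := fun y hy =>
    hupT A₀ (AxiomGT.mem_inter.1 hy _ ⟨A₀, hA₀, rfl⟩ (hupT A₀))
  have hTI : (T : Subgroup L) ≤ Subgroup.normalizer (I' : Set L) := by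
    intro t ht
    refine Subgroup.mem_normalizer_iff.2 fun x =>
      ⟨hax.inv _ le_rfl ⟨_, ⟨A₀, hA₀, rfl⟩, hupT A₀⟩ t (Subgroup.le_normalizer ht) x, fun hx => ?_⟩
    have h1 := hax.inv _ le_rfl ⟨_, ⟨A₀, hA₀, rfl⟩, hupT A₀⟩ t⁻¹ (Subgroup.le_normalizer (inv_mem ht)) _ hx
    rwa [show t⁻¹ * (t * x * t⁻¹) * t⁻¹⁻¹ = x by group] at h1
  have hSn : S ≤ FusionSystem.normalizerIn S I := fun s hs => by
    refine ⟨hs, Subgroup.mem_normalizer_iff.2 fun x => ?_⟩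
    have hn := Subgroup.mem_normalizer_iff.1 (hTI (hT.ge ⟨⟨s, hs⟩, rfl⟩))
    constructor
    · intro hx
      have h1 := (hn (ι ⟨x, hIS hx⟩)).1 ((hI' ⟨x, hIS hx⟩).2 hx)
      rw [← map_inv, ← map_mul, ← map_mul] at h1
      exact (hI' _).1 h1
    · intro hx
      have hxS : x ∈ S := by simpa [mul_assoc] using S.mul_mem (S.mul_mem (S.inv_mem hs) (hIS hx)) hs
      refine (hI' ⟨x, hxS⟩).1 ((hn (ι ⟨x, hxS⟩)).2 ?_)
      rw [← map_inv, ← map_mul, ← map_mul]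
      exact (hI' _).2 hx
  have hN : Subgroup.normalizer (I' : Set L) ≤ (T : Subgroup L) := by
    intro g hg
    have hQT : O ⊔ I' ≤ (T : Subgroup L) := sup_le hOT hI'T
    have hgQ : g ∈ Subgroup.normalizer ((O ⊔ I' : Subgroup L) : Set L) := by
      refine CfsgLib.LocalEven.SylowIn.map_conj_eq_iff.1 ?_
      rw [Subgroup.map_sup, CfsgLib.LocalEven.SylowIn.map_conj_eq_iff.2 hg,
        CfsgLib.LocalEven.SylowIn.map_conj_eq_iff.2 (by rw [Subgroup.normalizer_eq_top]; trivial)]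
    obtain ⟨f, hf, hfι, -⟩ := hconj _ hQT g hgQ
    have hIdn : I ≤ dn (O ⊔ I') := fun x hx =>
      ⟨⟨x, hIS hx⟩, Subgroup.mem_sup_right ((hI' ⟨x, hIS hx⟩).2 hx), rfl⟩
    have hfF : Fn F (dn (O ⊔ I')) f := fn_of_le hEF hf
    haveI := finite_of_le_base hIS
    have hfI : img f I = I := (hfF.mono hIdn).img_eq_self fun x hx => by
      have h2 : f x ∈ S := hf.mem (hIdn hx)
      refine (hI' ⟨f x, h2⟩).1 ?_
      rw [hfι x (hIdn hx) h2]
      exact (Subgroup.mem_normalizer_iff.1 hg _).1 ((hI' ⟨x, _⟩).2 hx)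
    obtain ⟨s, hs, hsx⟩ := hloc _ f ((hdnS _).trans hSn) hIdn hfF hfI fun x hx => hSn (hf.mem hx)
    have hc : (ι ⟨s, hs⟩)⁻¹ * g ∈ O := hcent (Subgroup.mem_centralizer_iff.2 fun y hy => by
      obtain ⟨x, rfl⟩ := hT.le (hOT hy)
      have hx : (x : Ω) ∈ dn (O ⊔ I') := (hmem _ x).2 (Subgroup.mem_sup_left hy)
      have h2 : f x ∈ S := hf.mem hx
      have h1 : g * ι x * g⁻¹ = ι ⟨s, hs⟩ * ι x * (ι ⟨s, hs⟩)⁻¹ := by
        rw [← map_inv, ← map_mul, ← map_mul]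
        refine (hfι (x : Ω) hx h2).symm.trans (congrArg ι (Subtype.ext ?_))
        exact hsx x hx
      calc ι x * ((ι ⟨s, hs⟩)⁻¹ * g) = (ι ⟨s, hs⟩)⁻¹ * (ι ⟨s, hs⟩ * ι x * (ι ⟨s, hs⟩)⁻¹) * g := by group
        _ = (ι ⟨s, hs⟩)⁻¹ * (g * ι x * g⁻¹) * g := by rw [h1]
        _ = (ι ⟨s, hs⟩)⁻¹ * g * ι x := by group)
    rw [show g = ι ⟨s, hs⟩ * ((ι ⟨s, hs⟩)⁻¹ * g) by group]
    exact mul_mem (hT.ge ⟨_, rfl⟩) (hOT hc)
  have htop := AxiomGT.top_of_axioms hp _ L rfl T hcent 𝒜' hax hN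
  refine hne' fun P hP α hα => ?_
  obtain ⟨φ, hφ, hφe⟩ := (mem_autGroup_iff_fn hP).1 hα
  obtain ⟨g, hg⟩ := (hreal P hP φ fun x => (E.le_of_mem hφ).2 x).1 hφ
  obtain ⟨s, rfl⟩ : g ∈ ι.range := hT ▸ htop ▸ Subgroup.mem_top g
  refine pPow_of_conj hS s.2 fun x hx => ?_
  rw [← hφe ⟨x, hx⟩]
  have h' := hg ⟨x, hx⟩
  rw [← map_inv, ← map_mul, ← map_mul] at h'
  exact congrArg Subtype.val (hinj h')

end Cfsg.Agent.S5272
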