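import Cfsg.Statements.S5274
import Cfsg.Agent.Lib.FusionSystem.Normal
import Cfsg.Agent.Lib.FusionSystem.Alperin

set_option autoImplicit false
open Cfsg

namespace Cfsg.Agent.S5274

open Cfsg.FusionSystem CfsgLib.Fsys
open scoped commutatorElement

section Helpers

variable {Ω : Type*} [Group Ω] {S : Subgroup Ω} [Finite S] {F : Cfsg.FusionSystem S}

/-- Every subgroup normal in the system is central in `S`. -/
theorem normal_le_center (h : ∀ x ∈ S, ∃ z ∈ S ⊓ Subgroup.centralizer (S : Set Ω), F.IsConjElt x z)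
    {N : Subgroup Ω} (hN : F.IsNormal N) {n y : Ω} (hn : n ∈ N) (hy : y ∈ S) : y * n = n * y := by
  obtain ⟨z, hz, φ, hφ, he⟩ := h y hy
  obtain ⟨g, hg, hgf, -⟩ := (normal_iff_fn.1 hN).2 _ _ (fn_ofHom hφ)
  have h1 := Subgroup.mem_sup_left (T := N) (Subgroup.mem_zpowers y)
  have h2 := Subgroup.mem_sup_right (S := Subgroup.zpowers y) hn
  refine hg.inj (Subgroup.mul_mem _ h1 h2) (Subgroup.mul_mem _ h2 h1) ?_
  rw [hg.map_mul h1 h2, hg.map_mul h2 h1, hgf _ (Subgroup.mem_zpowers y), ofHom_apply _ (Subgroup.mem_zpowers y), he]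
  exact (Subgroup.mem_centralizer_iff.1 hz.2 _ (hg.mem h2)).symm

/-- Elements fused into the centre modulo a normal subgroup are involutions modulo it once they are real. -/
theorem sq_mem_of_real (hS : IsPGroup 2 ↥S) (hF : F.IsSaturated 2)
    (h : ∀ x ∈ S, ∃ z ∈ S ⊓ Subgroup.centralizer (S : Set Ω), F.IsConjElt x z)
    {Q : Subgroup Ω} (hQ : F.IsNormal Q) {u w : Ω} (hu : u ∈ S) (hw : w ∈ S)
    (hreal : w * (u * w * u⁻¹) ∈ Q) : w ^ 2 ∈ Q := by
  obtain ⟨z, hz, φ, hφ, he⟩ := h w hw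
  obtain ⟨ψ, hψ, hψf, hψQ⟩ := (normal_iff_fn.1 hQ).2 _ _ (fn_ofHom hφ)
  set D := Subgroup.zpowers w ⊔ Q with hD
  have hwD : w ∈ D := Subgroup.mem_sup_left (Subgroup.mem_zpowers w)
  have hψw : ψ w = z := by rw [hψf _ (Subgroup.mem_zpowers w), ofHom_apply _ (Subgroup.mem_zpowers w), he]
  set R := img ψ D with hR
  have hRS : R ≤ S := hψ.img_le_base
  haveI := finite_of_le_base hψ.le
  haveI := finite_of_le_base hRS
  have hQc : ∀ q ∈ Q, ∀ s ∈ S, s * q = q * s := fun q hq s hs => normal_le_center h hQ hq hs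
  have hRZ : ∀ r ∈ R, ∀ s ∈ S, s * r = r * s := by
    obtain ⟨χ, -, hχ⟩ := id hψ
    have hle : D ≤ ((Subgroup.centralizer (S : Set Ω)).comap χ).map D.subtype := by
      refine sup_le (Subgroup.zpowers_le.2 ⟨⟨w, hwD⟩, ?_, rfl⟩) fun q hq => ⟨⟨q, Subgroup.mem_sup_right hq⟩, ?_, rfl⟩
      · rw [SetLike.mem_coe, Subgroup.mem_comap, hχ, hψw]; exact hz.2
      · rw [SetLike.mem_coe, Subgroup.mem_comap, hχ]
        exact Subgroup.mem_centralizer_iff.2 fun s hs => hQc _ (hψQ.le (mem_img_of_mem hq)) s hs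
    intro r hr s hs
    obtain ⟨v, hv, rfl⟩ := hψ.mem_img.1 hr
    obtain ⟨v', hv', e⟩ := hle hv
    subst e
    exact Subgroup.mem_centralizer_iff.1 ((hχ v').symm ▸ (Subgroup.mem_comap.1 hv') :) s hs
  obtain ⟨g, hg, hgψ, hgi⟩ := hψ.exists_inv
  -- conjugation by `u` transported to the image
  have hQD : ∀ q ∈ Q, q ∈ D := fun q hq => Subgroup.mem_sup_right hq
  have hgz : g z = w := by rw [← hψw]; exact hgψ w hwD
  have hconjD : ∀ v ∈ D, u * v * u⁻¹ ∈ D := by
    intro v hv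
    have hle : D ≤ D.comap (MulAut.conj u).toMonoidHom := sup_le
      (Subgroup.zpowers_le.2 (by
        show u * w * u⁻¹ ∈ D
        rw [← inv_mul_cancel_left w (u * w * u⁻¹)]
        exact D.mul_mem (D.inv_mem hwD) (hQD _ hreal)))
      (fun q hq => by
        show u * q * u⁻¹ ∈ D
        rw [hQc q hq u hu, mul_inv_cancel_right]
        exact hQD q hq)
    exact hle hv
  have hgm : ∀ r ∈ R, g r ∈ D := fun r hr => hgi.le (mem_img_of_mem hr)
  have hf : Fn F R (ψ ∘ (fun v => u * v * u⁻¹) ∘ g) :=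
    (hg.comp (fn_conj hψ.le hu) hgm).comp hψ fun r hr => hconjD _ (hgm r hr)
  obtain ⟨β, hβ, hβf⟩ := exists_aut_of_fn hf (hf.img_eq_self fun r hr => mem_img_of_mem (hconjD _ (hgm r hr)))
  let zR : R := ⟨z, hψw ▸ mem_img_of_mem hwD⟩
  let QR : Subgroup R := Q.subgroupOf R
  have hQR : ∀ q ∈ Q, q ∈ R := fun q hq => by
    obtain ⟨q', hq', rfl⟩ := (hψ.mono (le_sup_right : Q ≤ D)).mem_img.1 (hψQ.ge hq)
    exact mem_img_of_mem (hQD q' hq')
  have hβQ : ∀ q : R, (q : Ω) ∈ Q → ((β q : R) : Ω) ∈ Q := fun q hq => by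
    obtain ⟨q', hq', e⟩ := (hψ.mono (le_sup_right : Q ≤ D)).mem_img.1 (hψQ.ge hq)
    rw [hβf, ← e, Function.comp_apply, Function.comp_apply, hgψ q' (hQD q' hq'), hQc q' hq' u hu,
      mul_inv_cancel_right]
    exact hψQ.le (mem_img_of_mem hq')
  have hβz : (z : Ω) * ((β zR : R) : Ω) ∈ Q := by
    rw [hβf, Function.comp_apply, Function.comp_apply, show g ((zR : R) : Ω) = w from hgz, ← hψw,
      ← hψ.map_mul hwD (hconjD w hwD)]
    exact hψQ.le (mem_img_of_mem hreal)
  -- the automizer of the central subgroup `R` has odd order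
  have hodd : ¬ 2 ∣ orderOf β := by
    have hfn : F.IsFullyNormalized R := by
      haveI : Finite (normalizerIn S R) := finite_of_le_base normalizerIn_le
      refine ⟨hRS, fun T _ => Subgroup.card_le_of_le fun s hs => ⟨hs.1, mem_normalizer_of_map_le fun r hr => ?_⟩⟩
      rw [hRZ r hr s hs.1, mul_inv_cancel_right]
      exact hr
    obtain ⟨-, T, hT⟩ := (fullyNormalized_good hS hF hfn).1
    have hT1 : (T : Subgroup (F.autGroup R)) = ⊥ := by
      rw [hT, eq_bot_iff]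
      intro γ hγ
      obtain ⟨v, hv, hvγ⟩ := mem_autInducedBy.1 (Subgroup.mem_subgroupOf.1 hγ)
      refine Subtype.ext (MulEquiv.ext fun r => Subtype.ext ?_)
      rw [hvγ, hRZ r r.2 v hv, mul_inv_cancel_right]
      rfl
    intro hd
    have := T.not_dvd_index
    rw [hT1, Subgroup.index_bot] at this
    exact this ((by rwa [← Subgroup.orderOf_mk β hβ] at hd : 2 ∣ orderOf (⟨β, hβ⟩ : F.autGroup R)).trans
      (orderOf_dvd_natCard _))
  have hcomm : ∀ a b : R, a * b = b * a := fun a b => Subtype.ext (hRZ b b.2 a (hRS a.2))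
  have hpow : ∀ k : ℕ, (Even k → (((β ^ k) zR * zR⁻¹ : R) : Ω) ∈ Q) ∧
      (Odd k → (((β ^ k) zR * zR : R) : Ω) ∈ Q) := by
    intro k
    induction k with
    | zero => exact ⟨fun _ => by simpa using Q.one_mem, fun h0 => absurd h0 (by simp)⟩
    | succ k ih =>
      rcases Nat.even_or_odd k with hk | hk
      · refine ⟨fun he => absurd he (by simp [Nat.even_add_one, hk]), fun _ => ?_⟩
        have h1 := hβQ _ (ih.1 hk)
        have h2 : (β ^ (k + 1)) zR * zR = β ((β ^ k) zR * zR⁻¹) * (zR * β zR) := by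
          rw [map_mul, map_inv, hcomm zR (β zR), mul_assoc, ← mul_assoc (β zR)⁻¹, inv_mul_cancel, one_mul,
            pow_succ', MulAut.mul_apply]
        rw [h2, Subgroup.coe_mul]
        exact Q.mul_mem h1 (by rw [Subgroup.coe_mul]; exact hβz)
      · refine ⟨fun _ => ?_, fun ho => absurd ho (by
          simpa [Nat.odd_add_one] using hk)⟩
        have h1 := hβQ _ (ih.2 hk)
        have h2 : (β ^ (k + 1)) zR * zR⁻¹ = β ((β ^ k) zR * zR) * (zR * β zR)⁻¹ := by
          rw [map_mul, mul_inv_rev, mul_assoc, ← mul_assoc (β zR), mul_inv_cancel, one_mul,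
            pow_succ', MulAut.mul_apply]
        rw [h2, Subgroup.coe_mul]
        exact Q.mul_mem h1 (by rw [Subgroup.coe_inv, Subgroup.coe_mul]; exact Q.inv_mem hβz)
  have h2 := (hpow (orderOf β)).2 (Nat.odd_iff.2 (by omega))
  rw [pow_orderOf_eq_one, MulAut.one_apply, Subgroup.coe_mul] at h2
  obtain ⟨q', hq', e⟩ := (hψ.mono (le_sup_right : Q ≤ D)).mem_img.1 (hψQ.ge h2)
  have h3 : ψ (w * w) = ψ q' := by rw [hψ.map_mul hwD hwD, hψw, e]
  rw [pow_two, hψ.inj (D.mul_mem hwD hwD) (hQD q' hq') h3]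
  exact hq'

end Helpers

/-- Let F be a saturated fusion system over a finite 2-group S. Suppose that every element of S is F-conjugate to an element of the centre Z(S) (some map of F defined on the cyclic subgroup it generates sends it into Z(S)). Then S is abelian. -/
theorem result {Ω : Type*} [Group Ω] {S : Subgroup Ω} [Finite S] (hS : IsPGroup 2 ↥S) (F : Cfsg.FusionSystem S) (hF : F.IsSaturated 2) (h : ∀ x ∈ S, ∃ z ∈ S ⊓ Subgroup.centralizer (S : Set Ω), F.IsConjElt x z) : IsMulCommutative ↥S := by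
  have hQ := core_normal (F := F)
  set Q := F.core with hQdef
  have hQc : ∀ q ∈ Q, ∀ s ∈ S, s * q = q * s := fun q hq s hs => normal_le_center h hQ hq hs
  have hQS : Q ≤ S := hQ.1
  have hreal : ∀ u ∈ S, ∀ v ∈ S, u ^ 2 ∈ Q → v ^ 2 ∈ Q → (u * v) ^ 2 ∈ Q := by
    intro u hu v hv huQ hvQ
    refine sq_mem_of_real hS hF h hQ hu (S.mul_mem hu hv) ?_
    have e : u * v * (u * (u * v) * u⁻¹) = u ^ 2 * v ^ 2 := by
      rw [show u * v * (u * (u * v) * u⁻¹) = u * v * (u ^ 2 * v) * u⁻¹ by simp [pow_two, mul_assoc],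
        ← hQc _ huQ v hv, show u * v * (v * u ^ 2) * u⁻¹ = u * v ^ 2 * u by simp [pow_two, mul_assoc],
        hQc _ hvQ u hu, mul_assoc, ← pow_two, ← hQc _ hvQ _ (hQS huQ)]
    rw [e]
    exact Q.mul_mem huQ hvQ
  let R : Subgroup Ω :=
    { carrier := {u | u ∈ S ∧ u ^ 2 ∈ Q}
      mul_mem' := fun {u v} hu hv => ⟨S.mul_mem hu.1 hv.1, hreal u hu.1 v hv.1 hu.2 hv.2⟩
      one_mem' := ⟨S.one_mem, by simpa using Q.one_mem⟩
      inv_mem' := fun {u} hu => ⟨S.inv_mem hu.1, by simpa using Q.inv_mem hu.2⟩ }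
  have hQR : Q ≤ R := fun q hq => ⟨hQS hq, Q.pow_mem hq 2⟩
  have hsc := normal_stronglyClosed hQ
  have hRsc : F.StronglyClosed R := stronglyClosed_iff_fn.2 ⟨fun u hu => hu.1, fun P f hf x hx hxR => by
    refine ⟨hf.mem hx, ?_⟩
    rw [pow_two, ← hf.map_mul hx hx]
    exact (stronglyClosed_iff_fn.1 hsc).2 P f hf _ (P.mul_mem hx hx) (by rw [← pow_two]; exact hxR.2)⟩
  have hRn : F.IsNormal R := by
    refine normal_of_series hS hF hRsc (fun i => if i = 0 then ⊥ else if i = 1 then Q else R) 2 rfl rfl ?_ ?_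
    · intro i hi
      interval_cases i
      · exact normal_stronglyClosed normal_bot
      · exact hsc
      · exact hRsc
    · intro i hi
      interval_cases i
      · simp only [Nat.zero_add, one_ne_zero, reduceIte]
        rw [Subgroup.commutator_le]
        intro u hu q hq
        rw [Subgroup.mem_bot, commutatorElement_eq_one_iff_mul_comm]
        exact hQc q hq u hu.1
      · simp only [one_ne_zero, reduceIte, show (1 + 1 : ℕ) ≠ 1 by omega, show (1 + 1 : ℕ) ≠ 0 by omega]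
        rw [Subgroup.commutator_le]
        intro u hu v hv
        have h1 := Q.mul_mem (hreal u hu.1 v hv.1 hu.2 hv.2) (Q.mul_mem (Q.inv_mem hu.2) (Q.inv_mem hv.2))
        have e : ⁅u, v⁆ = (u * v) ^ 2 * ((u ^ 2)⁻¹ * (v ^ 2)⁻¹) := by
          have a1 : v⁻¹ = v * (v ^ 2)⁻¹ := by group
          have a2 : u⁻¹ = u * (u ^ 2)⁻¹ := by group
          rw [commutatorElement_def, a1, a2]
          have b1 := hQc _ (Q.inv_mem hu.2) v hv.1
          calc u * v * (u * (u ^ 2)⁻¹) * (v * (v ^ 2)⁻¹) = u * v * u * ((u ^ 2)⁻¹ * v) * (v ^ 2)⁻¹ := by group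
            _ = u * v * u * (v * (u ^ 2)⁻¹) * (v ^ 2)⁻¹ := by rw [b1]
            _ = (u * v) ^ 2 * ((u ^ 2)⁻¹ * (v ^ 2)⁻¹) := by simp [pow_two, mul_assoc]
        rw [e]
        exact h1
  have hRQ : R ≤ Q := le_core hRn
  -- every element lies in the core
  have hall : ∀ k : ℕ, ∀ u ∈ S, u ^ 2 ^ k ∈ Q → u ∈ Q := by
    intro k
    induction k with
    | zero => intro u _ hu; simpa using hu
    | succ k ih =>
      exact fun u hu hk => ih u hu (hRQ ⟨S.pow_mem hu _, by rwa [← pow_mul, ← pow_succ]⟩)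
  refine ⟨⟨fun a b => Subtype.ext ?_⟩⟩
  obtain ⟨k, hk⟩ := hS b
  exact hQc b (hall k b b.2 (by
    rw [← SubgroupClass.coe_pow, hk]; exact Q.one_mem)) a a.2

end Cfsg.Agent.S5274
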