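import Cfsg.Agent.Lib.FusionSystem.ZJStronglyClosed
-- Template for statement S5275 (row 5275; see /opt/grader/pristine/manifest.json for weights).
-- Copy to Cfsg/Agent/S5275.lean and replace the sorry. The statement below is byte-identical to the frozen
-- statement Cfsg.CfsgFrozen.S5275 (Cfsg/Statements/S5275.lean; the theorem Cfsg.fus5_inner_iff_center_thompson_of_strongly_closed_normalizer_inner);
-- the grader kernel-checks Cfsg.Agent.S5275.result against that frozen type. Keep the theorem IN THIS FILE
-- (a `result` declared elsewhere and merely imported here is not credited); helpers may live anywhere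
-- under Cfsg/Agent/.
import Cfsg.Statements.S5275
-- import your own Cfsg.Agent.* helpers here

set_option autoImplicit false
open Cfsg

namespace Cfsg.Agent.S5275

/-- A Glauberman–Thompson nilpotency criterion for fusion systems relative to a strongly closed subgroup. Let p be an odd prime, F a saturated fusion system over a finite p-group S, and D a subgroup of S that is strongly closed in F. Let Z(J(D)) be the centre of the subgroup of D generated by the abelian subgroups of D of largest order. Then F is the inner fusion system of S if and only if the normalizer fusion system of Z(J(D)) in F is the inner fusion system of N_S(Z(J(D))) = S. -/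
theorem result {Ω : Type*} [Group Ω] {S : Subgroup Ω} [Finite S] (p : ℕ) [Fact p.Prime] (hS : IsPGroup p ↥S) (F : Cfsg.FusionSystem S) (hF : F.IsSaturated p) (hp : p ≠ 2) (D : Subgroup Ω) (hD : F.StronglyClosed D) : (∀ P : Subgroup Ω, F.Hom P = (Cfsg.innerFusionSystem S).Hom P) ↔ ∀ N : Cfsg.FusionSystem (Cfsg.FusionSystem.normalizerIn S (Cfsg.centerThompsonAOf D)), F.IsNormalizerSystem (Cfsg.centerThompsonAOf D) N → ∀ P : Subgroup Ω, N.Hom P = (Cfsg.innerFusionSystem (Cfsg.FusionSystem.normalizerIn S (Cfsg.centerThompsonAOf D))).Hom P := by
  refine ⟨fun h N hN => CfsgLib.Fsys.normalizer_inner_of_inner h N hN,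
    fun h => CfsgLib.Fsys.hom_eq_inner_of_pAut hS hF ?_⟩
  have hW : Cfsg.centerThompsonAOf D ≤ S := (CfsgLib.Fsys.centerThompsonAOf_le D).trans hD.1
  refine CfsgLib.Fsys.pAut_of_zjA_sc hp hS hF hD (CfsgLib.Fsys.locPAut_of_normalizer hS hW ?_ h)
  exact le_antisymm inf_le_left fun s hs =>
    CfsgLib.Fsys.normalizerIn_le_zjA hS hD.1 ⟨hs, CfsgLib.Fsys.sc_le_normalizer hD hs⟩

end Cfsg.Agent.S5275
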