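import Cfsg.Agent.Lib.FusionSystem.TateFocal
import Cfsg.Agent.Lib.FusionSystem.InnerFrattini
import Cfsg.Agent.Lib.PGroup.Frattini
-- Template for statement S5276 (row 5276; see /opt/grader/pristine/manifest.json for weights).
-- Copy to Cfsg/Agent/S5276.lean and replace the sorry. The statement below is byte-identical to the frozen
-- statement Cfsg.CfsgFrozen.S5276 (Cfsg/Statements/S5276.lean; the theorem Cfsg.fus5_inner_iff_top_normalizer_inner_and_frattini_strongly_closed);
-- the grader kernel-checks Cfsg.Agent.S5276.result against that frozen type. Keep the theorem IN THIS FILE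
-- (a `result` declared elsewhere and merely imported here is not credited); helpers may live anywhere
-- under Cfsg/Agent/.
import Cfsg.Statements.S5276
-- import your own Cfsg.Agent.* helpers here

set_option autoImplicit false
open Cfsg

namespace Cfsg.Agent.S5276

/-- Let p be a prime and F a saturated fusion system over a finite p-group S. Then F is the inner fusion system of S if and only if the normalizer fusion system of S itself in F is the inner fusion system (equivalently, Aut_F(S) is induced by S) and the Frattini subgroup Φ(S) is strongly closed in F. -/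
theorem result {Ω : Type*} [Group Ω] {S : Subgroup Ω} [Finite S] (p : ℕ) [Fact p.Prime] (hS : IsPGroup p ↥S) (F : Cfsg.FusionSystem S) (hF : F.IsSaturated p) : (∀ P : Subgroup Ω, F.Hom P = (Cfsg.innerFusionSystem S).Hom P) ↔ (∀ N : Cfsg.FusionSystem (Cfsg.FusionSystem.normalizerIn S S), F.IsNormalizerSystem S N → ∀ P : Subgroup Ω, N.Hom P = (Cfsg.innerFusionSystem (Cfsg.FusionSystem.normalizerIn S S)).Hom P) ∧ F.StronglyClosed ((frattini ↥S).map S.subtype) := by
  constructor
  · intro h
    refine ⟨fun N hN P => ?_, ?_⟩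
    · refine Set.Subset.antisymm (fun φ hφ => ?_) ?_
      · rw [hN P] at hφ
        obtain ⟨hφF, hP, -, -⟩ := hφ
        rw [h P] at hφF
        obtain ⟨-, g, hg, hgφ⟩ := hφF
        exact ⟨hP, g, ⟨hg, Subgroup.le_normalizer hg⟩, hgφ⟩
      · rintro φ ⟨hP, g, hg, hφ⟩
        rw [show φ = Cfsg.conjHom P g from MonoidHom.ext hφ]
        exact N.conj_mem hP hg
    · refine ⟨Subgroup.map_subtype_le _, fun R hR φ hφ x => ?_⟩
      rw [h R] at hφ
      obtain ⟨-, g, hg, hgφ⟩ := hφ
      obtain ⟨w, hw, hwx⟩ := hR x.2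
      refine ⟨_, Subgroup.Normal.conj_mem inferInstance w hw ⟨g, hg⟩, ?_⟩
      show g * (w : Ω) * g⁻¹ = φ x
      rw [hgφ x, show (w : Ω) = x from hwx]
  · rintro ⟨hN, hsc⟩ P
    obtain ⟨E, hE⟩ := CfsgLib.Fsys.exists_normalizerSystem F (le_refl S)
    have hAut : ∀ g, CfsgLib.Fsys.Fn F S g → ∃ s ∈ S, ∀ x ∈ S, g x = s * x * s⁻¹ := by
      intro g hg
      obtain ⟨φ, hφ, hφg⟩ := id hg
      have hmem : φ ∈ F.normalizerHom S S := by
        have hn : ∀ x ∈ S, x ∈ Cfsg.FusionSystem.normalizerIn S S := fun x hx => ⟨hx, Subgroup.le_normalizer hx⟩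
        refine CfsgLib.Fsys.normalizerHom_iff.2 ⟨?_, fun x hx => ?_, g, ?_, fun x hx => ?_, ?_⟩
        · rw [CfsgLib.Fsys.kN_top]; exact hn
        · rw [CfsgLib.Fsys.kN_top]; exact hn _ ((CfsgLib.Fsys.fn_ofHom hφ).mem hx)
        · rwa [sup_idem]
        · rw [CfsgLib.Fsys.ofHom_apply φ hx, hφg]
        · exact (CfsgLib.Fsys.ind_top_iff hg le_rfl).2 (hg.img_eq_self fun x hx => hg.mem hx)
      rw [← hE S, hN E hE] at hmem
      obtain ⟨-, s, hs, hc⟩ := hmem
      exact ⟨s, hs.1, fun x hx => by rw [← hφg ⟨x, hx⟩]; exact hc ⟨x, hx⟩⟩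
    have h1 : (commutator S).map S.subtype ≤ (frattini S).map S.subtype := by
      refine Subgroup.map_mono ?_
      rw [commutator_def, Subgroup.commutator_le]
      exact fun a _ b _ => CfsgLib.PGroup.Frattini.commutatorElement_mem_frattini hS a b
    rw [CfsgLib.Fsys.inner_of_focal_le_frattini hS hF ?_]
    refine (Subgroup.closure_le _).2 ?_
    rintro _ ⟨R, φ, x, hφ, rfl⟩
    have := CfsgLib.Fsys.move_mem_of_quotient_abelian hS hF hsc h1 hAut (CfsgLib.Fsys.fn_ofHom hφ) x.2
    rwa [CfsgLib.Fsys.ofHom_coe] at this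

end Cfsg.Agent.S5276
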