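import Cfsg.Statements.S5278
import Cfsg.Agent.Lib.FusionSystem.CentralTorus.Reduce

set_option autoImplicit false
open Cfsg
open CfsgLib.Fsys CfsgLib.Fsys.CentralTorus
open Cfsg.FusionSystem (normalizerIn)

namespace Cfsg.Agent.S5278

/-- Let p be an odd prime, F a saturated fusion system over a finite p-group S, and T a subgroup of Z(S) such that the normalizer fusion system of J(S) in F is contained in the normalizer fusion system of T, J(S) being the subgroup generated by the abelian subgroups of S of largest order. Then either T is weakly closed in F, or Aut_F(T) has a nontrivial cyclic subgroup X of order prime to p that permutes transitively the non-identity elements of the commutator [T, X] (the subgroup of T generated by the elements ψ(t)·t⁻¹ with ψ in X and t in T). -/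
theorem result {Ω : Type*} [Group Ω] {S : Subgroup Ω} [Finite S] (p : ℕ) [Fact p.Prime] (hS : IsPGroup p ↥S) (F : Cfsg.FusionSystem S) (hF : F.IsSaturated p) (hp : p ≠ 2) (T : Subgroup Ω) (hT : T ≤ S ⊓ Subgroup.centralizer (S : Set Ω)) (hJT : ∀ NJ : Cfsg.FusionSystem (Cfsg.FusionSystem.normalizerIn S (Cfsg.thompsonSubgroupAOf S)), F.IsNormalizerSystem (Cfsg.thompsonSubgroupAOf S) NJ → ∀ NT : Cfsg.FusionSystem (Cfsg.FusionSystem.normalizerIn S T), F.IsNormalizerSystem T NT → NJ.IsSubsystemOf NT) : F.WeaklyClosed T ∨ ∃ X : Subgroup (MulAut ↥T), X ≤ F.autGroup T ∧ X ≠ ⊥ ∧ IsCyclic ↥X ∧ (Nat.card ↥X).Coprime p ∧ ∀ a b : ↥T, a ∈ Subgroup.closure {y : ↥T | ∃ ψ ∈ X, ∃ t : ↥T, y = ψ t * t⁻¹} → b ∈ Subgroup.closure {y : ↥T | ∃ ψ ∈ X, ∃ t : ↥T, y = ψ t * t⁻¹} → a ≠ 1 → b ≠ 1 → ∃ ψ ∈ X, ψ a = b := by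
  classical
  set J := Cfsg.thompsonSubgroupAOf S with hJdef
  have hJS : J ≤ S := ThompsonA.thompsonA_le S
  have hSN : S ≤ normalizerIn S J := fun s hs => by
    refine ⟨hs, ?_⟩
    have hfn := fn_conj (F := F) le_rfl hs
    have h := img_thompson hfn le_rfl (hfn.img_eq_self fun x hx => S.mul_mem (S.mul_mem hs hx) (S.inv_mem hs))
    have := finite_of_le_base hJS
    exact mem_normalizer_of_map_le fun x hx => h.le (mem_img_of_mem hx)
  have hJ : ∀ (X : Subgroup Ω) (f : Ω → Ω), Fn F X f → J ≤ X → T ≤ X → img f J = J → ∀ t ∈ T, f t ∈ T := by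
    intro X f hf hJX hTX hi t ht
    obtain ⟨NJ, hNJ⟩ := exists_normalizerSystem F hJS
    obtain ⟨NT, hNT⟩ := exists_normalizerSystem F (hT.trans inf_le_left)
    have hf1 : Fn NJ X f := (fn_normalizerSystem hNJ).2
      ⟨hf.le.trans hSN, fun x hx => hSN (hf.mem hx), f, by rwa [sup_eq_left.2 hJX], fun x _ => rfl, hi⟩
    obtain ⟨φ, hφ, hφf⟩ := hf1
    obtain ⟨-, -, g, -, hge, hgi⟩ := (fn_normalizerSystem hNT).1 ⟨φ, hJT NJ hNJ NT hNT X hφ, hφf⟩
    rw [← hge t (hTX ht)]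
    exact hgi.le (mem_img_of_mem ht)
  by_cases hbad : ∃ Q, Bad F T Q
  swap
  · refine Or.inl ⟨hT.trans inf_le_left, fun φ hφ => ?_⟩
    have hf := fn_ofHom hφ
    have hfix : ∀ t ∈ T, ofHom φ t ∈ T := by
      by_contra hmv
      obtain ⟨Q, hQ, -⟩ := exists_bad hT hS hF hf.le _ hf le_rfl hmv
      exact hbad ⟨Q, hQ⟩
    rw [Fn.range_eq_img fun x => (ofHom_coe φ x).symm]
    exact hf.img_eq_self hfix
  obtain ⟨P, hTP, N, hN, hQ, G, instG, ι, pj, hι, hpj, x, hxn, hxo, D, hDT, hD1, hD2, ⟨t₀, ht₀, hxt⟩, hD3⟩ :=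
    exists_model_torus hT hS hF hp hJ hbad
  refine Or.inr ?_
  set f := aFn (pj x) with hfdef
  have hPS : P ≤ S := hQ.1.trans normalizerIn_le
  have hfF : Fn F P f := (fn_aFn hQ.1 (pj x)).of_subsystem (normalizerSystem_sub hN)
  have hxι : ∀ (t : Ω) (ht : t ∈ T), x * ι ⟨t, hQ.1 (hTP ht)⟩ * x⁻¹ = ι ⟨f t, hQ.1 (aFn_mem _ (hTP ht))⟩ :=
    fun t ht => by rw [hpj x t (hTP ht), mul_inv_cancel_right]
  have hfT : ∀ t ∈ T, f t ∈ T := fun t ht => by
    obtain ⟨z, hz, hze⟩ := (Subgroup.mem_normalizer_iff.1 hxn _).1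
      (Subgroup.mem_map_of_mem ι (show (⟨t, hQ.1 (hTP ht)⟩ : normalizerIn S P) ∈ T.subgroupOf _ from ht))
    rw [hxι t ht] at hze
    have h2 : (z : Ω) = f t := congrArg Subtype.val (hι hze)
    rw [← h2]
    exact hz
  obtain ⟨α, hα, hαf⟩ := exists_aut_of_fn (hfF.mono hTP) ((hfF.mono hTP).img_eq_self hfT)
  let e : T →* G := ι.comp (Subgroup.inclusion (hTP.trans hQ.1))
  have hei : Function.Injective e := hι.comp (Subgroup.inclusion_injective _)
  have heα : ∀ (i : ℕ) (t : T), e ((α ^ i) t) = x ^ i * e t * (x ^ i)⁻¹ := by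
    intro i
    induction i with
    | zero => simp
    | succ i ih =>
      intro t
      rw [pow_succ' α, MulAut.mul_apply, pow_succ' x]
      have h1 : e (α ((α ^ i) t)) = x * e ((α ^ i) t) * x⁻¹ := by
        show ι _ = x * ι _ * x⁻¹
        refine Eq.trans ?_ (hxι _ ((α ^ i) t).2).symm
        exact congrArg ι (Subtype.ext (hαf _))
      rw [h1, ih]
      group
  have hαo : α ^ orderOf x = 1 := MulEquiv.ext fun t => hei (by simp [heα, pow_orderOf_eq_one])
  have hαfin : IsOfFinOrder α := isOfFinOrder_iff_pow_eq_one.2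
    ⟨orderOf x, Nat.pos_of_ne_zero fun h0 => by
      rw [h0, Nat.coprime_zero_left] at hxo
      exact (Fact.out : p.Prime).one_lt.ne' hxo, hαo⟩
  have hpow : ∀ ψ ∈ Subgroup.zpowers α, ∃ i : ℕ, α ^ i = ψ := fun ψ hψ =>
    (Submonoid.mem_powers_iff _ _).1 (hαfin.mem_powers_iff_mem_zpowers.2 hψ)
  refine ⟨Subgroup.zpowers α, Subgroup.zpowers_le.2 hα, ?_, inferInstance, ?_, ?_⟩
  · intro h
    rw [Subgroup.zpowers_eq_bot] at h
    obtain ⟨z, hz, rfl⟩ := ht₀
    refine hxt ?_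
    have h1 := heα 1 ⟨z, hz⟩
    rw [pow_one, pow_one, h] at h1
    exact h1.symm
  · rw [Nat.card_zpowers]
    exact hxo.coprime_dvd_left (orderOf_dvd_of_pow_eq_one hαo)
  intro a b ha hb ha1 hb1
  have hDi : ∀ (i : ℕ) (d : G), d ∈ D → x ^ i * d * (x ^ i)⁻¹ ∈ D := by
    intro i
    induction i with
    | zero => intro d hd; simpa using hd
    | succ i ih =>
      intro d hd
      have := hD2 _ (ih d hd)
      rw [pow_succ']
      simpa [mul_assoc] using this
  have hcl : ∀ y, y ∈ Subgroup.closure {y : T | ∃ ψ ∈ Subgroup.zpowers α, ∃ t : T, y = ψ t * t⁻¹} → e y ∈ D := by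
    intro y hy
    refine (Subgroup.closure_le (K := D.comap e)).2 ?_ hy
    rintro _ ⟨ψ, hψ, t, rfl⟩
    obtain ⟨i, rfl⟩ := hpow ψ hψ
    show e ((α ^ i) t * t⁻¹) ∈ D
    induction i with
    | zero => simp
    | succ i ih =>
      have h1 : e ((α ^ (i + 1)) t * t⁻¹) =
          (x * e ((α ^ i) t) * x⁻¹ * (e ((α ^ i) t))⁻¹) * e ((α ^ i) t * t⁻¹) := by
        rw [map_mul, map_mul, map_inv, heα, heα, pow_succ']
        group
      rw [h1]
      exact mul_mem (hD1 _ ⟨_, ((α ^ i) t).2, rfl⟩) (ih (Subgroup.pow_mem _ (Subgroup.mem_zpowers α) i))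
  obtain ⟨i, hi⟩ := hD3 (e a) (hcl a ha) (e b) (hcl b hb) (fun h => ha1 (hei (h.trans e.map_one.symm)))
    (fun h => hb1 (hei (h.trans e.map_one.symm)))
  exact ⟨α ^ i, Subgroup.pow_mem _ (Subgroup.mem_zpowers α) i, hei (by rw [heα, hi])⟩

end Cfsg.Agent.S5278
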