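import Cfsg.Statements.S5284
import Cfsg.Agent.Lib.FusionSystem.Supersoluble
import Mathlib.GroupTheory.FiniteAbelian.Basic

set_option autoImplicit false
open Cfsg

namespace Cfsg.Agent.S5284

/-- A cyclic factor cannot carry two levels. -/
theorem coord_lift {p : ℕ} [Fact p.Prime] {e k : ℕ} (hne : e ≠ k + 1) (u : ZMod (p ^ e))
    (hz : p • (p ^ k • u) = 0) : ∃ q : ZMod (p ^ e), p ^ (k + 1) • q = p ^ k • u := by
  obtain ⟨t, rfl⟩ := ZMod.intCast_surjective u
  rcases Nat.lt_or_ge e (k + 1) with h | h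
  · refine ⟨0, ?_⟩
    rw [smul_zero, eq_comm, nsmul_eq_mul, show ((p ^ k : ℕ) : ZMod (p ^ e)) = 0 from
      (ZMod.natCast_eq_zero_iff _ _).2 (pow_dvd_pow p (by omega)), zero_mul]
  · have h0 : (((p ^ (k + 1) : ℕ) : ℤ) * t : ℤ) = (((p ^ (k + 1) : ℕ) : ℤ) * t) := rfl
    rw [smul_smul, ← pow_succ', nsmul_eq_mul, ← Int.cast_natCast, ← Int.cast_mul,
      ZMod.intCast_zmod_eq_zero_iff_dvd] at hz
    have h2 : ((p ^ (k + 1) : ℕ) : ℤ) * (p : ℤ) ∣ ((p ^ (k + 1) : ℕ) : ℤ) * t := by
      refine dvd_trans ?_ hz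
      rw [← Nat.cast_mul, ← pow_succ]
      exact_mod_cast pow_dvd_pow p (show k + 1 + 1 ≤ e by omega)
    have h3 : (p : ℤ) ∣ t :=
      (mul_dvd_mul_iff_left (by exact_mod_cast (pow_pos (Fact.out (p := p.Prime)).pos _).ne')).1 h2
    obtain ⟨s, rfl⟩ := h3
    exact ⟨(s : ZMod (p ^ e)), by push_cast [pow_succ, nsmul_eq_mul]; ring⟩

/-- Pairwise distinct invariants give at most one direction on each level. -/
theorem socle_step {p : ℕ} [Fact p.Prime] {ι : Type*} [Fintype ι] (e : ι → ℕ) (he : Function.Injective e)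
    (k : ℕ) (a b : (i : ι) → Multiplicative (ZMod (p ^ e i)))
    (ha : CfsgLib.Fsys.Supersoluble.PowSocle p _ k a) (hb : CfsgLib.Fsys.Supersoluble.PowSocle p _ k b)
    (hna : ¬ CfsgLib.Fsys.Supersoluble.PowSocle p _ (k + 1) a) :
    ∃ r : ℤ, CfsgLib.Fsys.Supersoluble.PowSocle p _ (k + 1) (b * (a ^ r)⁻¹) := by
  classical
  obtain ⟨hap, u, rfl⟩ := ha
  obtain ⟨hbp, v, rfl⟩ := hb
  have lift : ∀ (w : (i : ι) → Multiplicative (ZMod (p ^ e i))) (i : ι), (w ^ p ^ k) ^ p = 1 → e i ≠ k + 1 →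
      ∃ q : Multiplicative (ZMod (p ^ e i)), q ^ p ^ (k + 1) = w i ^ p ^ k := by
    intro w i hw hne
    obtain ⟨q, hq⟩ := coord_lift hne (Multiplicative.toAdd (w i)) (by
      have h := congrArg Multiplicative.toAdd (congrFun hw i)
      simpa [toAdd_pow] using h)
    exact ⟨Multiplicative.ofAdd q, Multiplicative.toAdd.injective (by simpa [toAdd_pow] using hq)⟩
  have build : ∀ w : (i : ι) → Multiplicative (ZMod (p ^ e i)), (w ^ p ^ k) ^ p = 1 →
      (∀ i, e i = k + 1 → ∃ q : Multiplicative (ZMod (p ^ e i)), q ^ p ^ (k + 1) = w i ^ p ^ k) →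
      CfsgLib.Fsys.Supersoluble.PowSocle p _ (k + 1) (w ^ p ^ k) := by
    intro w hw h1
    choose q hq using fun i => if hi : e i = k + 1 then h1 i hi else lift w i hw hi
    exact ⟨hw, q, funext hq⟩
  by_cases hlev : ∃ i₀, e i₀ = k + 1
  · obtain ⟨i₀, hi₀⟩ := hlev
    have huniq : ∀ i, e i = k + 1 → i = i₀ := fun i hi => he (hi.trans hi₀.symm)
    obtain ⟨α, hα⟩ := ZMod.intCast_surjective (Multiplicative.toAdd (u i₀))
    obtain ⟨β, hβ⟩ := ZMod.intCast_surjective (Multiplicative.toAdd (v i₀))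
    have hα' : ¬ (p : ℤ) ∣ α := by
      rintro ⟨s, rfl⟩
      refine hna (build u hap fun i hi => ?_)
      obtain rfl := huniq i hi
      refine ⟨Multiplicative.ofAdd (s : ZMod (p ^ e i)), Multiplicative.toAdd.injective ?_⟩
      rw [toAdd_pow, toAdd_pow, toAdd_ofAdd, ← hα]
      push_cast [pow_succ, nsmul_eq_mul]; ring
    obtain ⟨x, y, hxy⟩ := ((Nat.prime_iff_prime_int.1 (Fact.out (p := p.Prime))).coprime_iff_not_dvd).2 hα'
    refine ⟨β * y, ?_⟩
    have e1 : v ^ p ^ k * ((u ^ p ^ k) ^ (β * y))⁻¹ = (v * (u ^ (β * y))⁻¹) ^ p ^ k := by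
      rw [mul_pow, inv_pow, ← zpow_natCast (u ^ (β * y)), ← zpow_natCast u, ← zpow_mul, ← zpow_mul, mul_comm (β * y)]
    rw [e1]
    refine build _ ?_ fun i hi => ?_
    · rw [← e1, mul_pow, hbp, one_mul, inv_pow, inv_eq_one, ← zpow_natCast, ← zpow_mul, mul_comm, zpow_mul,
        zpow_natCast, hap, one_zpow]
    · obtain rfl := huniq i hi
      refine ⟨Multiplicative.ofAdd (((β * x : ℤ) : ZMod (p ^ e i))), Multiplicative.toAdd.injective ?_⟩
      have hv' : (β : ZMod (p ^ e i)) - (β * y : ℤ) * (α : ZMod (p ^ e i)) =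
          (((β * x) * p : ℤ) : ZMod (p ^ e i)) := by
        have : (((x * p + y * α : ℤ)) : ZMod (p ^ e i)) = 1 := by rw [hxy, Int.cast_one]
        push_cast at this ⊢
        linear_combination (-(β : ZMod (p ^ e i))) * this
      rw [Pi.mul_apply, Pi.inv_apply, Pi.pow_apply, toAdd_pow, toAdd_pow, toAdd_ofAdd, toAdd_mul, toAdd_inv,
        toAdd_zpow, zsmul_eq_mul, ← hα, ← hβ, ← sub_eq_add_neg, hv']
      push_cast [pow_succ, nsmul_eq_mul]; ring
  · exact absurd (build u hap fun i hi => absurd ⟨i, hi⟩ hlev) hna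

/-- A repeated invariant gives a bad group of automorphisms of order prime to `p`. -/
theorem bad_group {G C H : Type*} [Group G] [CommGroup C] [CommGroup H] (e : G ≃* (C × C) × H) {p : ℕ}
    (hp : p.Prime) {g : C} (hg : g ≠ 1) (hg2 : p ≠ 2 → g * g ≠ 1) :
    ∃ K : Subgroup (MulAut G), (Nat.card K).Coprime p ∧ ¬ (IsMulCommutative K ∧ ∀ h ∈ K, h ^ (p - 1) = 1) := by
  let Ψ : MulAut (C × C) →* MulAut G := MonoidHom.mk'
    (fun τ => (MulAut.congr e.symm) (MulEquiv.prodCongr τ (MulEquiv.refl H)))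
    (fun a b => by rw [← map_mul]; rfl)
  have hinj : Function.Injective Ψ := fun a b h => by
    have h2 := (MulAut.congr e.symm).injective h
    exact MulEquiv.ext fun x => congrArg (fun f : MulAut ((C × C) × H) => (f (x, 1)).1) h2
  haveI : Fact p.Prime := ⟨hp⟩
  by_cases hp2 : p = 2
  · subst hp2
    let τ : MulAut (C × C) :=
      { toFun := fun x => (x.2, x.1⁻¹ * x.2⁻¹), invFun := fun x => (x.2⁻¹ * x.1⁻¹, x.1)
        left_inv := fun x => by simp
        right_inv := fun x => by simp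
        map_mul' := fun x y => Prod.ext rfl (by
          simp only [Prod.fst_mul, Prod.snd_mul, mul_inv]; exact mul_mul_mul_comm _ _ _ _) }
    have h3 : τ ^ 3 = 1 := MulEquiv.ext fun x => by
      rw [pow_succ, pow_succ, pow_succ, pow_zero, one_mul, MulAut.mul_apply, MulAut.mul_apply, MulAut.one_apply]
      simp [τ]
    refine ⟨Subgroup.zpowers (Ψ τ), ?_, fun h => ?_⟩
    · have hd : orderOf (Ψ τ) ∣ 3 := orderOf_dvd_of_pow_eq_one (by rw [← map_pow, h3, map_one])
      rw [Nat.card_zpowers]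
      exact Nat.Coprime.coprime_dvd_left hd (by norm_num)
    · have h1 := h.2 _ (Subgroup.mem_zpowers _)
      rw [show (2 : ℕ) - 1 = 1 from rfl, pow_one, ← map_one Ψ] at h1
      have h2 := congrArg (fun f : MulAut (C × C) => (f (g, 1)).1) (hinj h1)
      exact hg (by simpa [τ] using h2.symm)
  · let a : MulAut (C × C) :=
      { toFun := fun x => (x.2, x.1), invFun := fun x => (x.2, x.1), left_inv := fun x => rfl
        right_inv := fun x => rfl, map_mul' := fun x y => rfl }
    let b : MulAut (C × C) :=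
      { toFun := fun x => (x.1⁻¹, x.2), invFun := fun x => (x.1⁻¹, x.2), left_inv := fun x => by simp
        right_inv := fun x => by simp, map_mul' := fun x y => Prod.ext (mul_inv _ _) rfl }
    set A := Ψ a
    set R := Ψ (a * b)
    have haa : A * A = 1 := by rw [← map_mul, ← map_one Ψ]; exact congrArg Ψ (MulEquiv.ext fun x => rfl)
    have hrr : R ^ 4 = 1 := by
      rw [← map_pow, ← map_one Ψ]
      refine congrArg Ψ (MulEquiv.ext fun x => ?_)
      rw [pow_succ, pow_succ, pow_succ, pow_succ, pow_zero, one_mul]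
      simp [a, b]
    have harr : A * R * A⁻¹ = R⁻¹ := by
      rw [inv_eq_of_mul_eq_one_right haa, eq_inv_iff_mul_eq_one, ← map_mul, ← map_mul, ← map_mul, ← map_one Ψ]
      exact congrArg Ψ (MulEquiv.ext fun x => by simp [a, b])
    have har : ∀ i : ℤ, A * R ^ i = R ^ (-i) * A := fun i => by
      have h1 := map_zpow (MulAut.conj A) R i
      rw [MulAut.conj_apply, MulAut.conj_apply, harr, inv_zpow] at h1
      rw [zpow_neg, ← h1, inv_mul_cancel_right]
    have hAinv : A⁻¹ = A := inv_eq_of_mul_eq_one_right haa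
    let K : Subgroup (MulAut G) :=
      { carrier := {z | ∃ i : ℤ, z = R ^ i ∨ z = R ^ i * A}
        one_mem' := ⟨0, Or.inl (zpow_zero R).symm⟩
        mul_mem' := fun {x y} hx hy => by
          obtain ⟨i, rfl | rfl⟩ := hx <;> obtain ⟨j, rfl | rfl⟩ := hy
          · exact ⟨i + j, Or.inl (zpow_add R i j).symm⟩
          · exact ⟨i + j, Or.inr (by rw [← mul_assoc, zpow_add])⟩
          · exact ⟨i + -j, Or.inr (by rw [mul_assoc, har, ← mul_assoc, zpow_add])⟩
          · exact ⟨i + -j, Or.inl (by rw [mul_assoc, ← mul_assoc A, har, mul_assoc, haa, mul_one, zpow_add])⟩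
        inv_mem' := fun {x} hx => by
          obtain ⟨i, rfl | rfl⟩ := hx
          · exact ⟨-i, Or.inl (zpow_neg R i).symm⟩
          · exact ⟨i, Or.inr (by rw [mul_inv_rev, hAinv, ← zpow_neg, har, neg_neg])⟩ }
    have h4 : ∀ z ∈ K, z ^ 4 = 1 := by
      rintro z ⟨i, rfl | rfl⟩
      · rw [← zpow_natCast, ← zpow_mul, mul_comm, zpow_mul, zpow_natCast, hrr, one_zpow]
      · have h2 : R ^ i * A * (R ^ i * A) = 1 := by
          rw [mul_assoc, ← mul_assoc A, har, mul_assoc, haa, mul_one, ← zpow_add, add_neg_cancel, zpow_zero]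
        rw [show 4 = 2 * 2 from rfl, pow_mul, pow_two, pow_two, h2, one_mul]
    have hK2 : IsPGroup 2 K := fun z => ⟨2, Subtype.ext (h4 z z.2)⟩
    refine ⟨K, ?_, fun h => ?_⟩
    · haveI : Finite K := by
        refine Finite.of_surjective (fun x : Fin 4 × Bool => (⟨R ^ ((x.1 : ℕ) : ℤ) * (if x.2 then A else 1),
          ⟨((x.1 : ℕ) : ℤ), by cases x.2 <;> simp⟩⟩ : K)) ?_
        rintro ⟨z, i, hz⟩
        have hmod : R ^ i = R ^ (i % 4) := by
          conv_lhs => rw [← Int.emod_add_mul_ediv i 4, zpow_add, zpow_mul]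
          rw [show R ^ (4 : ℤ) = 1 from hrr, one_zpow, mul_one]
        have hlt : (i % 4).toNat < 4 := by omega
        have hcast : (((i % 4).toNat : ℕ) : ℤ) = i % 4 := by omega
        rcases hz with rfl | rfl
        · exact ⟨(⟨_, hlt⟩, false), Subtype.ext (by simp [hcast, hmod])⟩
        · exact ⟨(⟨_, hlt⟩, true), Subtype.ext (by simp [hcast, hmod])⟩
      haveI : Fact (Nat.Prime 2) := ⟨Nat.prime_two⟩
      obtain ⟨n, hn⟩ := IsPGroup.iff_card.1 hK2
      rw [hn]
      exact Nat.Coprime.pow_left n ((Nat.coprime_primes Nat.prime_two hp).2 (Ne.symm hp2))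
    · have h1 : A * R = R * A := congrArg Subtype.val
        (h.1.1.1 (⟨A, 0, Or.inr (by simp)⟩ : K) (⟨R, 1, Or.inl (zpow_one R).symm⟩ : K))
      rw [← map_mul, ← map_mul] at h1
      have h2 := congrArg (fun f : MulAut (C × C) => f (g, 1)) (hinj h1)
      simp [a, b] at h2
      exact hg2 hp2 (by rw [mul_eq_one_iff_eq_inv]; first | exact h2 | exact h2.symm)

/-- Let S be a finite abelian p-group. Every saturated fusion system over S is supersoluble (S has a chain of F-strongly closed subgroups from 1 to S with cyclic steps) if and only if the invariants of S are pairwise distinct, that is, S is not isomorphic to a direct product (Z/p^n × Z/p^n) × H with n ≥ 1. -/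
theorem result {Ω : Type*} [Group Ω] {S : Subgroup Ω} [Finite S] (p : ℕ) [Fact p.Prime] (hS : IsPGroup p ↥S) (hab : IsMulCommutative ↥S) : (∀ F : Cfsg.FusionSystem S, F.IsSaturated p → (∃ (m : ℕ) (c : Fin (m + 1) → Subgroup Ω), c 0 = ⊥ ∧ c (Fin.last m) = S ∧ (∀ i : Fin (m + 1), F.StronglyClosed (c i)) ∧ ∀ i : Fin m, c i.castSucc ≤ c i.succ ∧ ∃ x ∈ S, c i.succ = c i.castSucc ⊔ Subgroup.zpowers x)) ↔ ¬ ∃ (n : ℕ) (H : Type) (_ : CommGroup H), 0 < n ∧ Nonempty (↥S ≃* (Multiplicative (ZMod (p ^ n)) × Multiplicative (ZMod (p ^ n))) × H) := by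
  letI : CommGroup S := { (inferInstance : Group S) with mul_comm := fun a b => hab.1.1 a b }
  constructor
  · rintro hall ⟨n, H, _, hn, ⟨e⟩⟩
    have hp := (Fact.out : p.Prime)
    obtain ⟨-, hA⟩ := CfsgLib.Fsys.Supersoluble.ss_consequences hS hall
    have hg : (Multiplicative.ofAdd (1 : ZMod (p ^ n))) ≠ 1 := fun h => by
      have h' : ((1 : ℕ) : ZMod (p ^ n)) = 0 := by simpa using h
      rw [ZMod.natCast_eq_zero_iff] at h'
      exact (Nat.one_lt_pow hn.ne' hp.one_lt).ne' (Nat.dvd_one.1 h')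
    obtain ⟨K, hK, hbad⟩ := bad_group e hp hg (fun hp2 h => by
      have h' : ((2 : ℕ) : ZMod (p ^ n)) = 0 := by
        rw [show ((2 : ℕ) : ZMod (p ^ n)) = 1 + 1 by norm_num]
        exact congrArg Multiplicative.toAdd h
      rw [ZMod.natCast_eq_zero_iff] at h'
      have h3 := Nat.le_of_dvd two_pos ((dvd_pow_self p hn.ne').trans h')
      have := hp.two_le
      omega)
    exact hbad (hA K hK)
  · intro hno F hF
    obtain ⟨ι, hι, n, hn1, ⟨E⟩⟩ := CommGroup.equiv_prod_multiplicative_zmod_of_finite S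
    haveI := hι
    classical
    have hpow : ∀ i, ∃ k, n i = p ^ k := fun i => by
      haveI : NeZero (n i) := ⟨by have := hn1 i; omega⟩
      obtain ⟨m, hm⟩ := hS (E.symm (Pi.mulSingle i (Multiplicative.ofAdd 1)))
      have h1 := congrArg (fun z => Multiplicative.toAdd (E z i)) hm
      simp only [map_pow, MulEquiv.apply_symm_apply, map_one, Pi.pow_apply, Pi.mulSingle_eq_same, toAdd_pow,
        toAdd_ofAdd, Pi.one_apply, toAdd_one, nsmul_one] at h1
      rw [ZMod.natCast_eq_zero_iff] at h1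
      obtain ⟨k, -, hk⟩ := (Nat.dvd_prime_pow (Fact.out : p.Prime)).1 h1
      exact ⟨k, hk⟩
    choose e he using hpow
    obtain rfl : n = fun i => p ^ e i := funext he
    have hinj : Function.Injective e := by
      intro i j hij
      by_contra hne
      refine hno ⟨e i, (k : {k : ι // k ≠ i ∧ k ≠ j}) → Multiplicative (ZMod (p ^ e k)), inferInstance,
        Nat.pos_of_ne_zero fun h0 => by have := hn1 i; simp [h0] at this, ⟨E.trans ?_⟩⟩
      exact
        { toFun := fun x => ((x i, cast (by rw [hij]) (x j)), fun k => x k)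
          invFun := fun x k => if h1 : k = i then h1 ▸ x.1.1 else
            if h2 : k = j then cast (by rw [hij, h2]) x.1.2 else x.2 ⟨k, h1, h2⟩
          left_inv := fun x => funext fun k => by
            by_cases h1 : k = i
            · subst h1; simp
            · by_cases h2 : k = j
              · subst h2; simp [h1]
              · simp [h1, h2]
          right_inv := fun x => by
            refine Prod.ext (Prod.ext ?_ ?_) (funext fun k => ?_)
            · simp
            · simp [Ne.symm hne]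
            · simp [k.2.1, k.2.2]
          map_mul' := fun x y => by
            refine Prod.ext (Prod.ext rfl ?_) (funext fun k => rfl)
            have : ∀ (q r : ℕ) (h : q = r) (u v : Multiplicative (ZMod q)),
                cast (congrArg (fun t => Multiplicative (ZMod t)) h) (u * v) =
                cast (congrArg (fun t => Multiplicative (ZMod t)) h) u *
                  cast (congrArg (fun t => Multiplicative (ZMod t)) h) v := by
              rintro q r rfl u v; rfl
            exact this _ _ (by rw [hij]) (x j) (y j) }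
    have hn' : F.IsNormal S := CfsgLib.Fsys.normal_of_abelian_sc hS hF CfsgLib.Fsys.sc_top
      fun a ha b hb => congrArg Subtype.val (hab.1.1 ⟨a, ha⟩ ⟨b, hb⟩)
    have htr : ∀ {k : ℕ} {z : S}, CfsgLib.Fsys.Supersoluble.PowSocle p S k z ↔
        CfsgLib.Fsys.Supersoluble.PowSocle p _ k (E z) := fun {k z} =>
      ⟨fun ⟨h1, u, hu⟩ => ⟨by rw [← map_pow, h1, map_one], E u, by rw [← map_pow, hu]⟩,
        fun ⟨h1, u, hu⟩ => ⟨E.injective (by rw [map_pow, h1, map_one]), E.symm u,
          E.injective (by rw [map_pow, MulEquiv.apply_symm_apply, hu])⟩⟩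
    have hd : ∀ (k : ℕ) (a b : S), CfsgLib.Fsys.Supersoluble.PowSocle p S k a →
        CfsgLib.Fsys.Supersoluble.PowSocle p S k b → ¬ CfsgLib.Fsys.Supersoluble.PowSocle p S (k + 1) a →
        ∃ r : ℤ, CfsgLib.Fsys.Supersoluble.PowSocle p S (k + 1) (b * (a ^ r)⁻¹) := fun k a b ha hb hna => by
      obtain ⟨r, hr⟩ := socle_step e hinj k (E a) (E b) (htr.1 ha) (htr.1 hb) fun h => hna (htr.2 h)
      exact ⟨r, htr.2 (by rwa [map_mul, map_inv, map_zpow])⟩
    let P : Subgroup S → Prop := fun K => ∀ α : MulAut S, ∀ x ∈ K, α x ∈ K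
    obtain ⟨m, c, h0, hl, hc, hs⟩ := CfsgLib.Fsys.Supersoluble.exists_chain (P := P)
      (fun α x hx => by rw [Subgroup.mem_bot] at hx ⊢; rw [hx, map_one])
      fun K hK hne => CfsgLib.Fsys.Supersoluble.exists_char_step hS hd hK hne
    refine ⟨m, fun i => (c i).map S.subtype, by simp only [h0, Subgroup.map_bot], ?_,
      fun i => CfsgLib.Fsys.Supersoluble.sc_map_of_invariant hn' fun α _ => hc i α,
      fun i => ⟨Subgroup.map_mono (hs i).1, ?_⟩⟩
    · simp only [hl, ← MonoidHom.range_eq_map, Subgroup.range_subtype]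
    · obtain ⟨x, hx⟩ := (hs i).2
      exact ⟨(x : Ω), x.2, by simp only [hx, Subgroup.map_sup, MonoidHom.map_zpowers, Subgroup.coe_subtype]⟩

end Cfsg.Agent.S5284
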