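import Cfsg.Statements.S5287
import Mathlib
import Cfsg.Agent.Lib.FusionSystem.MetacyclicSupersoluble
import Cfsg.Agent.Lib.FusionSystem.MetacyclicNormal
import Cfsg.Agent.Lib.FusionSystem.MetacyclicTwoNormal
import Cfsg.Agent.Lib.Frobenius.MetacyclicTwoAut
import Cfsg.Agent.Lib.OddOrder.Metacyclic
import Cfsg.Agent.S5284
-- import your own Cfsg.Agent.* helpers here

set_option autoImplicit false
set_option linter.style.haveILetI false
open Cfsg

namespace Cfsg.Agent.S5287

/-- Let S be a finite metacyclic p-group (an extension of a cyclic group by a cyclic group). Every saturated fusion system over S is supersoluble (S has a chain of F-strongly closed subgroups from 1 to S with cyclic steps) if and only if S is not homocyclic of rank two (isomorphic to Z/p^n × Z/p^n with n ≥ 1) and, when p = 2, S is not dihedral of order at least 4, not quasi-dihedral (semidihedral) and not generalized quaternion of order at least 8. -/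
theorem result {Ω : Type*} [Group Ω] {S : Subgroup Ω} [Finite S] (p : ℕ) [Fact p.Prime] (hS : IsPGroup p ↥S) (hm : Cfsg.IsMetacyclic ↥S) : (∀ F : Cfsg.FusionSystem S, F.IsSaturated p → (∃ (m : ℕ) (c : Fin (m + 1) → Subgroup Ω), c 0 = ⊥ ∧ c (Fin.last m) = S ∧ (∀ i : Fin (m + 1), F.StronglyClosed (c i)) ∧ ∀ i : Fin m, c i.castSucc ≤ c i.succ ∧ ∃ x ∈ S, c i.succ = c i.castSucc ⊔ Subgroup.zpowers x)) ↔ ¬ ((∃ n : ℕ, 0 < n ∧ Nonempty (↥S ≃* Multiplicative (ZMod (p ^ n)) × Multiplicative (ZMod (p ^ n)))) ∨ (p = 2 ∧ ((∃ n : ℕ, 2 ≤ n ∧ Nonempty (↥S ≃* DihedralGroup n)) ∨ Cfsg.IsQuasiDihedral ↥S ∨ (∃ n : ℕ, 2 ≤ n ∧ Nonempty (↥S ≃* QuaternionGroup n))))) := by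
  have hp : p.Prime := Fact.out
  constructor
  · rintro hall (⟨n, hn, ⟨e⟩⟩ | ⟨rfl, hcase⟩)
    · have hab : IsMulCommutative S := ⟨⟨fun a b => e.injective (by rw [map_mul, map_mul, mul_comm])⟩⟩
      exact (Cfsg.Agent.S5284.result p hS hab).1 hall ⟨n, PUnit, inferInstance, hn,
        ⟨e.trans MulEquiv.prodUnique.symm⟩⟩
    have hpow : ∀ n, 2 ≤ n → n ∣ Nat.card S → ∃ k, 1 ≤ k ∧ n = 2 ^ k := fun n hn hd => by
      obtain ⟨j, hj⟩ := IsPGroup.iff_card.1 hS
      obtain ⟨k, -, hk⟩ := (Nat.dvd_prime_pow Nat.prime_two).1 (hj ▸ hd)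
      exact ⟨k, Nat.pos_of_ne_zero (fun h => by rw [hk, h, pow_zero] at hn; omega), hk⟩
    refine CfsgLib.Fsys.MetacyclicSupersoluble.false_of_triality hS hall ?_
    have htr : ∀ {A : Type} [Group A], CfsgLib.Fsys.MetacyclicRealization.HasTriality A → ↥S ≃* A →
        CfsgLib.Fsys.MetacyclicRealization.HasTriality S := fun h e => by
      obtain ⟨G, i1, i2, T, x, y, g, hx, hy, hne, h1, h2, h3, ⟨d⟩⟩ := h
      exact ⟨G, i1, i2, T, x, y, g, hx, hy, hne, h1, h2, h3, ⟨d.trans e.symm⟩⟩
    rcases hcase with ⟨n, hn, ⟨e⟩⟩ | hqd | ⟨n, hn, ⟨e⟩⟩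
    · obtain ⟨k, hk, rfl⟩ := hpow n hn (by
        rw [Nat.card_congr e.toEquiv, DihedralGroup.nat_card]; exact dvd_mul_left n 2)
      exact htr (CfsgLib.Fsys.MetacyclicRealization.dihedral k hk) e
    · exact CfsgLib.Fsys.MetacyclicRealization.quasiDihedral hqd
    · haveI : NeZero n := ⟨by omega⟩
      obtain ⟨k, hk, rfl⟩ := hpow n hn (by
        rw [Nat.card_congr e.toEquiv, Nat.card_eq_fintype_card, QuaternionGroup.card]; exact dvd_mul_left n 4)
      exact htr (CfsgLib.Fsys.MetacyclicRealization.quaternion k hk) e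
  · intro hno
    by_cases hab : IsMulCommutative S
    · refine (Cfsg.Agent.S5284.result p hS hab).2 ?_
      rintro ⟨n, H, _, hn, ⟨e⟩⟩
      haveI : Finite H := Finite.of_injective (fun h => e.symm (1, h)) fun a b h => by
        simpa using e.symm.injective h
      rcases subsingleton_or_nontrivial H with hH | hH
      · letI : Unique H := uniqueOfSubsingleton 1
        exact hno (Or.inl ⟨n, hn, ⟨e.trans MulEquiv.prodUnique⟩⟩)
      let C := Multiplicative (ZMod (p ^ n))
      haveI : NeZero (p ^ n) := ⟨pow_ne_zero _ hp.ne_zero⟩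
      have hHp : IsPGroup p H := hS.of_injective ((e.symm.toMonoidHom).comp (MonoidHom.inr _ H))
        fun a b h => by simpa using e.symm.injective h
      obtain ⟨a, ha⟩ := exists_prime_orderOf_dvd_card' (G := C) p (by
        rw [Nat.card_congr Multiplicative.toAdd, Nat.card_zmod]; exact dvd_pow_self p hn.ne')
      obtain ⟨j, hj⟩ := IsPGroup.iff_card.1 hHp
      obtain ⟨h, hh⟩ := exists_prime_orderOf_dvd_card' (G := H) p (by
        rw [hj]
        refine dvd_pow_self p fun h0 => ?_
        have := Finite.one_lt_card (α := H)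
        rw [hj, h0, pow_zero] at this
        omega)
      let f : ↥((Subgroup.zpowers a).prod (Subgroup.zpowers a) |>.prod (Subgroup.zpowers h)) →* S :=
        e.symm.toMonoidHom.comp (Subgroup.subtype _)
      have hf : Function.Injective f := e.symm.injective.comp Subtype.val_injective
      have hpc : ∀ {K : Type} [CommGroup K] (c : K), orderOf c = p → ∀ z ∈ Subgroup.zpowers c, z ^ p = 1 := by
        rintro K _ c hc _ ⟨i, rfl⟩
        show (c ^ i) ^ p = 1
        rw [← zpow_natCast, ← zpow_mul, mul_comm, zpow_mul, zpow_natCast, ← hc, pow_orderOf_eq_one, one_zpow]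
      have hcard := CfsgLib.OddOrder.Metacyclic.card_le_sq (p := p) (CfsgLib.OddOrder.Metacyclic.of_injective f hf hm)
        fun z => by
          obtain ⟨⟨⟨z1, z2⟩, z3⟩, ⟨hz1, hz2⟩, hz3⟩ := z
          exact Subtype.ext (Prod.ext (Prod.ext (hpc a ha z1 hz1) (hpc a ha z2 hz2)) (hpc h hh z3 hz3))
      rw [Nat.card_congr (Subgroup.prodEquiv _ _).toEquiv, Nat.card_prod,
        Nat.card_congr (Subgroup.prodEquiv _ _).toEquiv, Nat.card_prod, Nat.card_zpowers, Nat.card_zpowers, ha, hh,
        pow_two] at hcard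
      have := Nat.le_of_mul_le_mul_left (hcard.trans_eq (mul_one _).symm) (Nat.mul_pos hp.pos hp.pos)
      have := hp.two_le
      omega
    intro F hF
    by_cases hp2 : p = 2
    · subst hp2
      have hd : ¬ ∃ m : ℕ, Nonempty (↥S ≃* DihedralGroup m) := by
        rintro ⟨m, ⟨e⟩⟩
        refine hno (Or.inr ⟨rfl, Or.inl ⟨m, ?_, ⟨e⟩⟩⟩)
        have h1 : Nat.card S = 2 * m := by rw [Nat.card_congr e.toEquiv, DihedralGroup.nat_card]
        by_contra hlt
        have h2 : 0 < Nat.card S := Nat.card_pos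
        obtain rfl : m = 1 := by omega
        exact hab ⟨⟨fun a b => e.injective (by rw [map_mul, map_mul]; exact (show ∀ u v : DihedralGroup 1, u * v = v * u by decide) _ _)⟩⟩
      have hq : ¬ ∃ m : ℕ, Nonempty (↥S ≃* QuaternionGroup m) := by
        rintro ⟨m, ⟨e⟩⟩
        refine hno (Or.inr ⟨rfl, Or.inr (Or.inr ⟨m, ?_, ⟨e⟩⟩)⟩)
        by_contra hlt
        haveI : Finite (QuaternionGroup m) := Finite.of_equiv _ e.toEquiv
        obtain rfl | rfl : m = 0 ∨ m = 1 := by omega
        · haveI : Finite ℤ := Finite.of_injective (fun i : ℤ => (QuaternionGroup.a i : QuaternionGroup 0))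
            fun _ _ h => QuaternionGroup.a.inj h
          exact not_finite ℤ
        · exact hab ⟨⟨fun a b => e.injective (by
            have : ∀ u v : QuaternionGroup 1, u * v = v * u := by decide
            rw [map_mul, map_mul, this])⟩⟩
      have hsd : ¬ Cfsg.IsQuasiDihedral S := fun h => hno (Or.inr ⟨rfl, Or.inr (Or.inl h)⟩)
      obtain ⟨N, _, hN, hQ⟩ := id hm
      have hA2 : IsPGroup 2 (MulAut S) := by
        by_contra hA
        rcases CfsgLib.Frobenius.MetacyclicTwo.main hS N hN hQ hA with h | ⟨n, ⟨e⟩⟩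
        · exact hq ⟨2, h⟩
        · exact hab ⟨⟨fun a b => e.injective (by rw [map_mul, map_mul, mul_comm])⟩⟩
      refine CfsgLib.Fsys.Supersoluble.ss_of_resistant hS hF
        (CfsgLib.Fsys.normal_of_metacyclic_two hS hF CfsgLib.Fsys.sc_top hm hd hq hsd) fun H hH => ?_
      haveI : Finite (MulAut S) := Finite.of_injective (fun f : MulAut S => (f : S → S))
        fun _ _ h => MulEquiv.ext (congrFun h)
      obtain ⟨j, hj⟩ := IsPGroup.iff_card.1 (hA2.to_subgroup H)
      have h1 : H = ⊥ := by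
        rw [← Subgroup.card_eq_one, hj]
        rcases Nat.eq_zero_or_pos j with rfl | hj0
        · rfl
        · rw [hj, Nat.coprime_pow_left_iff hj0] at hH
          norm_num at hH
      subst h1
      exact ⟨inferInstance, fun h hh => by rw [Subgroup.mem_bot.1 hh, one_pow]⟩
    · exact CfsgLib.Fsys.Supersoluble.ss_of_resistant hS hF
        (CfsgLib.Fsys.normal_of_metacyclic hS hF hp2 CfsgLib.Fsys.sc_top hm)
        (CfsgLib.Fsys.MetacyclicSupersoluble.aut_odd hS hp2 hm hab)

end Cfsg.Agent.S5287
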