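import Cfsg.Agent.Lib.FusionSystem.Realized
import Cfsg.Agent.Lib.FusionSystem.ModelTheorem
import Cfsg.Agent.Lib.FusionSystem.Normal
import Cfsg.Agent.Lib.FusionSystem.Rigidity
import Cfsg.Agent.Lib.Fusion.PSolvable
import Cfsg.Agent.Lib.Components.PComponents
-- Template for statement S5292 (row 5292; see /opt/grader/pristine/manifest.json for weights).
-- Copy to Cfsg/Agent/S5292.lean and replace the sorry. The statement below is byte-identical to the frozen
-- statement Cfsg.CfsgFrozen.S5292 (Cfsg/Statements/S5292.lean; the theorem Cfsg.fus7_realizable_by_p_solvable_group_iff_constrained_with_p_solvable_core_automizer);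
-- the grader kernel-checks Cfsg.Agent.S5292.result against that frozen type. Keep the theorem IN THIS FILE
-- (a `result` declared elsewhere and merely imported here is not credited); helpers may live anywhere
-- under Cfsg/Agent/.
import Cfsg.Statements.S5292
-- import your own Cfsg.Agent.* helpers here

set_option autoImplicit false
universe u
open Cfsg

namespace Cfsg.Agent.S5292

/-- Let F be a saturated fusion system over a finite p-group S. Then F is the fusion system of some finite p-solvable group on a Sylow p-subgroup if and only if F is constrained (some subgroup normal in F is centric in F) and the group of automorphisms that F induces on its largest normal subgroup O_p(F) is p-solvable. -/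
theorem result {Ω : Type u} [Group Ω] {S : Subgroup Ω} [Finite S] (p : ℕ) [Fact p.Prime] (hS : IsPGroup p S)
    (F : Cfsg.FusionSystem S) (hF : F.IsSaturated p) :
    (∃ (G : Type u) (_ : Group G) (_ : Finite G) (ι : S →* G), Cfsg.IsPSolvable p G ∧ F.IsRealizedBy ι ∧
        ∃ T : Sylow p G, (T : Subgroup G) = ι.range) ↔
      (F.IsConstrained p ∧ Cfsg.IsPSolvable p ↥(F.autGroup F.core)) := by
  constructor
  · rintro ⟨G, _, _, ι, hG, hι, R, hR⟩
    refine ⟨?_, ?_⟩
    · set O := Cfsg.pPrimeCore p G with hO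
      have hOn : O.Normal := Cfsg.pPrimeCore_normal p G
      have hRN : ∀ z ∈ (R : Subgroup G), z ∈ O → z = 1 := fun z hz hzO => by
        obtain ⟨k, hk⟩ := R.2 ⟨z, hz⟩
        exact orderOf_eq_one_iff.1 (Nat.eq_one_of_dvd_coprimes
          (((CfsgLib.Solvable.Cores.coprime_card_pPrimeCore (G := G) p).coprime_dvd_left
            (Subgroup.orderOf_dvd_natCard _ hzO)).pow_right k) dvd_rfl
          (orderOf_dvd_of_pow_eq_one (congrArg Subtype.val hk)))
      obtain ⟨h1, h2⟩ := CfsgLib.Fsys.realized_quotient hι hR O hRN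
      exact CfsgLib.Fsys.model_constrained ⟨inferInstance, h1, ⟨_, h2⟩,
        CfsgLib.Fusion.PSolvable.centralizer_pCore_le (CfsgLib.Fusion.PSolvable.psolvable_quotient hG O)
          CfsgLib.Components.pPrimeCore_quotient_eq_bot⟩
    · have hQS : F.core ≤ S := CfsgLib.Fsys.core_le_base
      let Q' : Subgroup G := (F.core.subgroupOf S).map ι
      have hmem : ∀ x (hx : x ∈ F.core), ι ⟨x, hQS hx⟩ ∈ Q' := fun x hx => ⟨⟨x, hQS hx⟩, hx, rfl⟩
      have hact : ∀ g : Subgroup.normalizer (Q' : Set G), ∃ α ∈ F.autGroup F.core, ∀ x (hx : x ∈ F.core),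
          ι ⟨(α ⟨x, hx⟩ : F.core), hQS (α ⟨x, hx⟩).2⟩ = (g : G) * ι ⟨x, hQS hx⟩ * (g : G)⁻¹ := by
        intro g
        have hc : ∀ x ∈ F.core, ∃ y ∈ F.core, CfsgLib.Fsys.th ι y = (g : G) * CfsgLib.Fsys.th ι x * (g : G)⁻¹ := by
          intro x hx
          obtain ⟨s, hs, hse⟩ := (Subgroup.mem_normalizer_iff.1 g.2 _).1 (hmem x hx)
          exact ⟨s, hs, by rw [CfsgLib.Fsys.th_coe, CfsgLib.Fsys.th_apply (hQS hx)]; exact hse⟩
        choose! f hf hfe using hc
        have hfn : CfsgLib.Fsys.Fn F F.core f :=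
          (CfsgLib.Fsys.fn_realized_iff hι).2 ⟨hQS, fun x hx => hQS (hf x hx), (g : G), hfe⟩
        obtain ⟨α, hα, hαe⟩ := CfsgLib.Fsys.exists_aut_of_fn hfn
          (CfsgLib.Fsys.eq_of_le_of_card hQS (CfsgLib.Fsys.img_le hf) hfn.card_img.ge)
        refine ⟨α, hα, fun x hx => ?_⟩
        rw [← CfsgLib.Fsys.th_apply (α := ι), ← CfsgLib.Fsys.th_apply (α := ι), hαe]
        exact hfe x hx
      choose α hα hαe using hact
      have huniq : ∀ (g : Subgroup.normalizer (Q' : Set G)) (β : MulAut F.core), (∀ x (hx : x ∈ F.core),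
          ι ⟨(β ⟨x, hx⟩ : F.core), hQS (β ⟨x, hx⟩).2⟩ = (g : G) * ι ⟨x, hQS hx⟩ * (g : G)⁻¹) → α g = β :=
        fun g β hβ => MulEquiv.ext fun x => Subtype.ext (congrArg (fun s : S => (s : Ω))
          (hι.1 ((hαe g x x.2).trans (hβ x x.2).symm)))
      let ψ : Subgroup.normalizer (Q' : Set G) →* F.autGroup F.core :=
        MonoidHom.mk' (fun g => ⟨α g, hα g⟩) fun g h => Subtype.ext <| huniq _ _ fun x hx => by
          show ι ⟨(α g (α h ⟨x, hx⟩) : F.core), _⟩ = _
          rw [hαe g _ (α h ⟨x, hx⟩).2, hαe h x hx]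
          simp [mul_assoc]
      refine CfsgLib.Fusion.PSolvable.psolvable_of_surjective ψ ?_
        (CfsgLib.Fusion.PSolvable.psolvable_subgroup hG _)
      rintro ⟨β, hβ⟩
      obtain ⟨-, -, g, hg⟩ := (CfsgLib.Fsys.fn_realized_iff hι).1
        ((CfsgLib.Fsys.mem_autGroup_iff_fn hQS).1 hβ)
      have hg' : ∀ x (hx : x ∈ F.core),
          ι ⟨(β ⟨x, hx⟩ : F.core), hQS (β ⟨x, hx⟩).2⟩ = g * ι ⟨x, hQS hx⟩ * g⁻¹ := fun x hx => by
        rw [← CfsgLib.Fsys.th_apply (α := ι), ← CfsgLib.Fsys.th_apply (α := ι),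
          ← CfsgLib.Fsys.autFn_coe β ⟨x, hx⟩]
        exact hg x hx
      have hgN : g ∈ Subgroup.normalizer (Q' : Set G) := CfsgLib.Fsys.mem_normalizer_of_map_le fun z hz => by
        obtain ⟨s, hs, rfl⟩ := hz
        rw [← hg' s hs]
        exact hmem _ (β ⟨s, hs⟩).2
      exact ⟨⟨g, hgN⟩, Subtype.ext (huniq _ _ hg')⟩
  · rintro ⟨hcon, hsol⟩
    obtain ⟨G, _, ι, hmod⟩ := CfsgLib.Fsys.exists_model hS hcon
    have : Finite G := hmod.1
    obtain ⟨-, Q₀, hQ₀, hc₀⟩ := id hcon
    have hQ : F.IsNormal F.core := CfsgLib.Fsys.core_normal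
    have hc : F.IsCentric F.core :=
      CfsgLib.Fsys.isCentric_mono hc₀ (le_sSup hQ₀) CfsgLib.Fsys.core_le_base
    obtain ⟨pj, hpj, -⟩ := CfsgLib.Fsys.exists_model_proj (hQ := hQ) hmod
    refine ⟨G, inferInstance, inferInstance, ι, ?_, hmod.2.1, hmod.2.2.1⟩
    have : Finite F.core := CfsgLib.Fsys.finite_of_le_base CfsgLib.Fsys.core_le_base
    refine CfsgLib.Fusion.PSolvable.psolvable_cons pj.ker (Or.inl fun g => ?_)
      (CfsgLib.Fusion.PSolvable.psolvable_of_injective (QuotientGroup.kerLift pj)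
        (QuotientGroup.kerLift_injective pj) hsol)
    obtain ⟨z, -, hz⟩ := CfsgLib.Fsys.model_proj_ker (hQ := hQ) hc hmod hpj g.2
    obtain ⟨k, hk⟩ := hS z
    exact ⟨k, Subtype.ext (by rw [SubmonoidClass.coe_pow, hz, ← map_pow, hk, map_one]; rfl)⟩

end Cfsg.Agent.S5292
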