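import Cfsg.Statements.S5295
import Cfsg.Agent.Lib.FusionSystem.GlaubermanFusion
import Cfsg.Agent.Lib.FusionSystem.CenterFactor

set_option autoImplicit false
universe u
open Cfsg

namespace Cfsg.Agent.S5295

/-- Let F be a saturated fusion system over a finite p-group S with p odd. Then the centre Z(F) of F is a direct factor of Z(S): there is a subgroup K of Z(S) with Z(F) ∩ K = 1 and Z(F)K = Z(S). (At the prime 2 this can fail.) -/
theorem result {Ω : Type u} [Group Ω] {S : Subgroup Ω} [Finite S] (p : ℕ) [Fact p.Prime] (hp : p ≠ 2) (hS : IsPGroup p S)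
    (F : Cfsg.FusionSystem S) (hF : F.IsSaturated p) :
    ∃ K : Subgroup Ω, K ≤ (S ⊓ Subgroup.centralizer (S : Set Ω)) ∧ F.center ⊓ K = ⊥ ∧ F.center ⊔ K = (S ⊓ Subgroup.centralizer (S : Set Ω)) := by
  have hn : FusionSystem.normalizerIn S (thompsonSubgroupAOf S) = S :=
    CfsgLib.Fsys.normalizerIn_wOf (W := fun Q _ => CfsgLib.Fsys.jA Q) CfsgLib.Fsys.jA_map hS
  have hJS : thompsonSubgroupAOf S ≤ S := Subgroup.map_subtype_le _
  obtain ⟨N, hN⟩ := CfsgLib.Fsys.exists_normalizerSystem F hJS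
  have hfn : F.IsFullyNormalized (thompsonSubgroupAOf S) :=
    ⟨hJS, fun Q _ => (Subgroup.card_le_of_le inf_le_left).trans (le_of_eq (by rw [hn]))⟩
  haveI := CfsgLib.Fsys.finite_of_le_base
    (CfsgLib.Fsys.normalizerIn_le : FusionSystem.normalizerIn S (thompsonSubgroupAOf S) ≤ S)
  have hsat := CfsgLib.Fsys.normalizerSystem_saturated hS hF hfn hN
  have heq : N.center = F.center := CfsgLib.Fsys.normalizer_center_eq hS hF (Or.inl hp) N hN
  have hT : FusionSystem.normalizerIn S (thompsonSubgroupAOf S) ⊓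
      Subgroup.centralizer (FusionSystem.normalizerIn S (thompsonSubgroupAOf S) : Set Ω) =
      S ⊓ Subgroup.centralizer (S : Set Ω) :=
    congrArg (fun T : Subgroup Ω => T ⊓ Subgroup.centralizer (T : Set Ω)) hn
  have hZ : S ⊓ Subgroup.centralizer (S : Set Ω) ≤ N.core := fun z hz =>
    CfsgLib.Fsys.le_core (CfsgLib.Fsys.normalizerSystem_normal hN hJS)
      ⟨⟨z, hz.1⟩, CfsgLib.Fsys.center_le_jA (p := p) _ hS
        (Subgroup.mem_center_iff.mpr fun s => Subtype.ext (Subgroup.mem_centralizer_iff.mp hz.2 s s.2)), rfl⟩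
  obtain ⟨K, h1, h2, h3⟩ := CfsgLib.Fsys.center_direct_factor (hS.to_le hn.le) hsat (hT.le.trans hZ)
  rw [heq] at h2 h3
  exact ⟨K, h1.trans hT.le, h2, h3.trans hT⟩

end Cfsg.Agent.S5295
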