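import Cfsg.Statements.S5296
import Cfsg.Agent.Lib.FusionSystem.SmallAbelianControl

set_option autoImplicit false
universe u
open Cfsg

namespace Cfsg.Agent.S5296

open Cfsg.FusionSystem CfsgLib.Fsys CfsgLib.Fsys.SmallAbelian

/-- Small-exponent abelian subgroups of the hyperfocal subgroup control fusion. Let E and F be saturated fusion systems over the same finite p-group S with E contained in F. Suppose that E and F have the same maps between A and B for all subgroups A, B of the hyperfocal subgroup of F that are elementary abelian when p is odd, respectively abelian of exponent dividing 4 when p = 2. Then E = F. -/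
theorem result {Ω : Type u} [Group Ω] {S : Subgroup Ω} [Finite S] (p : ℕ) [Fact p.Prime] (hS : IsPGroup p S)
    (E F : Cfsg.FusionSystem S) (hE : E.IsSaturated p) (hF : F.IsSaturated p) (hEF : E.IsSubsystemOf F)
    (hodd : p ≠ 2 → ∀ A B : Subgroup Ω, A ≤ (F.hyperfocalSubgroup p) → B ≤ (F.hyperfocalSubgroup p) →
      Cfsg.IsElementaryAbelian p A → Cfsg.IsElementaryAbelian p B → E.homSet A B = F.homSet A B)
    (htwo : p = 2 → ∀ A B : Subgroup Ω, A ≤ (F.hyperfocalSubgroup p) → B ≤ (F.hyperfocalSubgroup p) →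
      IsMulCommutative ↥A → IsMulCommutative ↥B → (∀ a ∈ A, a ^ 4 = 1) → (∀ b ∈ B, b ^ 4 = 1) → E.homSet A B = F.homSet A B) :
    ∀ P : Subgroup Ω, E.Hom P = F.Hom P := by
  have hsc := hyperfocal_stronglyClosed hS hF
  refine eq_of_agree (H₀ := F.hyperfocalSubgroup p) hS hE hF hEF hsc le_rfl fun U f hUH hUc hUe hf => ?_
  obtain ⟨φ, hφ, hφf⟩ := id hf
  have hUS : U ≤ S := hf.le
  have hVH : img f U ≤ F.hyperfocalSubgroup p := img_le fun x hx =>
    (stronglyClosed_iff_fn.1 hsc).2 _ _ hf x hx (hUH hx)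
  have hVc : ∀ a ∈ img f U, ∀ b ∈ img f U, a * b = b * a := fun a ha b hb => by
    obtain ⟨a', ha', rfl⟩ := hf.mem_img.1 ha
    obtain ⟨b', hb', rfl⟩ := hf.mem_img.1 hb
    rw [← hf.map_mul ha' hb', hUc a' ha' b' hb', hf.map_mul hb' ha']
  have hVe : ∀ a ∈ img f U, a ^ smallExp p = 1 := fun a ha => by
    obtain ⟨a', ha', rfl⟩ := hf.mem_img.1 ha
    rw [← hφf ⟨a', ha'⟩, ← map_pow, show (⟨a', ha'⟩ : U) ^ smallExp p = 1 from
      Subtype.ext (hUe a' ha'), map_one]
  have hmem : φ ∈ F.homSet U (img f U) := ⟨hφ, fun x => hφf x ▸ mem_img_of_mem x.2⟩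
  have hcU : IsMulCommutative ↥U := ⟨⟨fun a b => Subtype.ext (hUc a a.2 b b.2)⟩⟩
  have hcV : IsMulCommutative ↥(img f U) := ⟨⟨fun a b => Subtype.ext (hVc a a.2 b b.2)⟩⟩
  by_cases hp : p = 2
  · have h4 : smallExp p = 4 := by simp [smallExp, hp]
    rw [← htwo hp U (img f U) hUH hVH hcU hcV (h4 ▸ hUe) (h4 ▸ hVe)] at hmem
    exact ⟨φ, hmem.1, hφf⟩
  · have h4 : smallExp p = p := by simp [smallExp, hp]
    rw [← hodd hp U (img f U) hUH hVH ⟨hcU, fun a ha => by rw [← h4]; exact hUe a ha⟩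
      ⟨hcV, fun a ha => by rw [← h4]; exact hVe a ha⟩] at hmem
    exact ⟨φ, hmem.1, hφf⟩

end Cfsg.Agent.S5296
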