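import Cfsg.Agent.Lib.FusionSystem.SmallElements
-- Template for statement S5298 (row 5298; see /opt/grader/pristine/manifest.json for weights).
-- Copy to Cfsg/Agent/S5298.lean and replace the sorry. The statement below is byte-identical to the frozen
-- statement Cfsg.CfsgFrozen.S5298 (Cfsg/Statements/S5298.lean; the theorem Cfsg.fus8_inner_if_small_cyclic_hyperfocal_maps_inner);
-- the grader kernel-checks Cfsg.Agent.S5298.result against that frozen type. Keep the theorem IN THIS FILE
-- (a `result` declared elsewhere and merely imported here is not credited); helpers may live anywhere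
-- under Cfsg/Agent/.
import Cfsg.Statements.S5298
-- import your own Cfsg.Agent.* helpers here

set_option autoImplicit false
universe u
open Cfsg

namespace Cfsg.Agent.S5298

/-- Let F be a saturated fusion system over a finite p-group S. If every map of F between cyclic subgroups of the hyperfocal subgroup of F of order p or 4 is conjugation by an element of S, then F is the inner fusion system of S. -/
theorem result {Ω : Type u} [Group Ω] {S : Subgroup Ω} [Finite S] (p : ℕ) [Fact p.Prime] (hS : IsPGroup p S)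
    (F : Cfsg.FusionSystem S) (hF : F.IsSaturated p)
    (h : ∀ A B : Subgroup Ω, A ≤ (F.hyperfocalSubgroup p) → B ≤ (F.hyperfocalSubgroup p) → IsCyclic ↥A → (Nat.card ↥A = p ∨ Nat.card ↥A = 4) → IsCyclic ↥B → (Nat.card ↥B = p ∨ Nat.card ↥B = 4) →
      F.homSet A B ⊆ (Cfsg.innerFusionSystem S).Hom A) :
    ∀ P : Subgroup Ω, F.Hom P = (Cfsg.innerFusionSystem S).Hom P := by
  open CfsgLib.Fsys in
  have key : ∀ x ∈ F.hyperfocalSubgroup p, SmallElt p x → ∀ (M : Subgroup Ω) (f : Ω → Ω), Fn F M f → x ∈ M →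
      f x ∈ F.hyperfocalSubgroup p → x ≠ 1 → ∃ φ : Subgroup.zpowers x →* Ω,
        φ ⟨x, Subgroup.mem_zpowers x⟩ = f x ∧ φ ∈ F.homSet (Subgroup.zpowers x) (Subgroup.zpowers (f x)) ∧
        Subgroup.zpowers x ≤ F.hyperfocalSubgroup p ∧ Subgroup.zpowers (f x) ≤ F.hyperfocalSubgroup p ∧
        (Nat.card (Subgroup.zpowers x) = p ∨ Nat.card (Subgroup.zpowers x) = 4) ∧
        (Nat.card (Subgroup.zpowers (f x)) = p ∨ Nat.card (Subgroup.zpowers (f x)) = 4) := by
    intro x hx hsm M f hf hxM hfx hx1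
    have hfz := hf.mono (Subgroup.zpowers_le.2 hxM)
    obtain ⟨φ, hφ, hφf⟩ := id hfz
    have himg : Subgroup.zpowers (f x) = img f (Subgroup.zpowers x) := by
      refine le_antisymm (Subgroup.zpowers_le.2 (mem_img_of_mem (Subgroup.mem_zpowers x))) (img_le fun y hy => ?_)
      obtain ⟨j, rfl⟩ := Subgroup.mem_zpowers_iff.1 hy
      rw [← hφf ⟨_, hy⟩, show (⟨x ^ j, hy⟩ : Subgroup.zpowers x) = ⟨x, Subgroup.mem_zpowers x⟩ ^ j from
        Subtype.ext (by simp), map_zpow, hφf]
      exact Subgroup.zpow_mem _ (Subgroup.mem_zpowers (f x)) j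
    have hcard : Nat.card (Subgroup.zpowers x) = p ∨ Nat.card (Subgroup.zpowers x) = 4 := by
      rw [Nat.card_zpowers]
      rcases hsm with hp1 | ⟨h2, hp4⟩
      · exact Or.inl (orderOf_eq_prime hp1 hx1)
      · subst h2
        by_cases h' : x ^ 2 = 1
        · exact Or.inl (orderOf_eq_prime h' hx1)
        · exact Or.inr (orderOf_eq_prime_pow (n := 1) (by simpa using h') (by simpa using hp4))
    refine ⟨φ, hφf _, ⟨hφ, fun z => ?_⟩, Subgroup.zpowers_le.2 hx, Subgroup.zpowers_le.2 hfx, hcard, ?_⟩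
    · rw [himg, hφf]
      exact mem_img_of_mem z.2
    · rw [himg, hfz.card_img]
      exact hcard
  open CfsgLib.Fsys in
  intro P
  rw [inner_of_small_inner hS hF fun x hx hsm M f hf hxM hfx => ?_]
  rcases eq_or_ne x 1 with rfl | hx1
  · exact ⟨1, S.one_mem, by simp [hf.map_one]⟩
  obtain ⟨φ, hφx, hφ, h1, h2, h3, h4⟩ := key x hx hsm M f hf hxM hfx hx1
  obtain ⟨-, s, hs, hsx⟩ := h _ _ h1 h2 inferInstance h3 inferInstance h4 hφ
  exact ⟨s, hs, hφx.symm.trans (hsx _)⟩

end Cfsg.Agent.S5298
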