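import Cfsg.Agent.Lib.FusionSystem.SectionFreeGroup
-- Template for statement S5299 (row 5299; see /opt/grader/pristine/manifest.json for weights).
-- Copy to Cfsg/Agent/S5299.lean and replace the sorry. The statement below is byte-identical to the frozen
-- statement Cfsg.CfsgFrozen.S5299 (Cfsg/Statements/S5299.lean; the theorem Cfsg.fus8_section_free_of_sylow_free_of_p_subgroup);
-- the grader kernel-checks Cfsg.Agent.S5299.result against that frozen type. Keep the theorem IN THIS FILE
-- (a `result` declared elsewhere and merely imported here is not credited); helpers may live anywhere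
-- under Cfsg/Agent/.
import Cfsg.Statements.S5299
-- import your own Cfsg.Agent.* helpers here

set_option autoImplicit false
universe u
open Cfsg

namespace Cfsg.Agent.S5299

/-- Let F be a saturated fusion system over a finite p-group S, H a finite group and Q a p-subgroup of H. If Q is not involved in S (no section of S is isomorphic to Q), then F is H-free: H is involved in no model of the normalizer system of a fully normalized centric subgroup. -/
theorem result {Ω : Type u} [Group Ω] {S : Subgroup Ω} [Finite S] (p : ℕ) [Fact p.Prime] (hS : IsPGroup p S)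
    (F : Cfsg.FusionSystem S) (hF : F.IsSaturated p) (H : Type*) [Group H] [Finite H] (Q : Subgroup H) (hQ : IsPGroup p Q)
    (hfree : ¬ Cfsg.Involves (↥Q) (↥S)) : F.IsSectionFree p H := by
  intro P _ _ N _ L _ ι hmod hinv
  obtain ⟨hfin, ⟨hinj, -⟩, ⟨T, hT⟩, -⟩ := hmod
  obtain ⟨K, R, hn, ⟨f⟩⟩ := hinv
  let χ : K →* H := f.toMonoidHom.comp (QuotientGroup.mk' (R.subgroupOf K))
  have hχ : Function.Surjective χ := f.surjective.comp (QuotientGroup.mk'_surjective _)
  let K' : Subgroup K := Q.comap χ
  let g : K' →* Q := χ.subgroupComap Q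
  have hg : Function.Surjective g := by
    intro q
    obtain ⟨k, hk⟩ := hχ (q : H)
    exact ⟨⟨k, show χ k ∈ Q from hk ▸ q.2⟩, Subtype.ext hk⟩
  obtain ⟨U⟩ : Nonempty (Sylow p K') := Sylow.nonempty
  have hU := CfsgLib.Fsys.map_sylow_eq_top g hg hQ U
  have hUQ : Involves (↥Q) (↥(U : Subgroup K')) := by
    refine CfsgLib.Fsys.involves_of_hom (⊤ : Subgroup (U : Subgroup K'))
      ((g.comp (U : Subgroup K').subtype).comp (⊤ : Subgroup (U : Subgroup K')).subtype) fun q => ?_
    obtain ⟨u, hu, rfl⟩ := (hU.ge (Subgroup.mem_top q) : q ∈ (U : Subgroup K').map g)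
    exact ⟨⟨⟨u, hu⟩, trivial⟩, rfl⟩
  let UL : Subgroup L := ((U : Subgroup K').map K'.subtype).map K.subtype
  obtain ⟨W, hW⟩ := (show IsPGroup p UL from (U.isPGroup'.map _).map _).exists_le_sylow
  obtain ⟨c, hc⟩ := MulAction.exists_smul_eq L W T
  let e : (U : Subgroup K') →* L :=
    (MulAut.conj c).toMonoidHom.comp (K.subtype.comp (K'.subtype.comp (U : Subgroup K').subtype))
  have he : Function.Injective e := by
    intro a b h
    exact Subtype.ext (Subtype.ext (Subtype.ext ((MulAut.conj c).injective h)))
  have her : ∀ u, e u ∈ ι.range := by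
    intro u
    rw [← hT, ← hc, Sylow.coe_subgroup_smul, Subgroup.mem_smul_pointwise_iff_exists]
    exact ⟨_, hW ⟨_, ⟨_, u.2, rfl⟩, rfl⟩, rfl⟩
  let j : (U : Subgroup K') →* S := (Subgroup.inclusion (inf_le_left : Cfsg.FusionSystem.normalizerIn S P ≤ S)).comp
    ((MonoidHom.ofInjective hinj).symm.toMonoidHom.comp (e.codRestrict _ her))
  have hj : Function.Injective j := (Subgroup.inclusion_injective (inf_le_left : Cfsg.FusionSystem.normalizerIn S P ≤ S)).comp
    ((MonoidHom.ofInjective hinj).symm.injective.comp fun a b h => he (congrArg Subtype.val h))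
  exact hfree (CfsgLib.Fsys.involves_of_injective hj hUQ)

end Cfsg.Agent.S5299
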