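import Cfsg.Agent.Lib.FusionSystem.SmallElements
-- Template for statement S5300 (row 5300; see /opt/grader/pristine/manifest.json for weights).
-- Copy to Cfsg/Agent/S5300.lean and replace the sorry. The statement below is byte-identical to the frozen
-- statement Cfsg.CfsgFrozen.S5300 (Cfsg/Statements/S5300.lean; the theorem Cfsg.fus8_top_normal_of_small_order_subgroups_of_focal_subgroup_normal);
-- the grader kernel-checks Cfsg.Agent.S5300.result against that frozen type. Keep the theorem IN THIS FILE
-- (a `result` declared elsewhere and merely imported here is not credited); helpers may live anywhere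
-- under Cfsg/Agent/.
import Cfsg.Statements.S5300
-- import your own Cfsg.Agent.* helpers here

set_option autoImplicit false
universe u
open Cfsg

namespace Cfsg.Agent.S5300

/-- Let F be a saturated fusion system over a finite p-group S. If every cyclic subgroup of the focal subgroup of F of order p (of order 2 or 4 when p = 2) is normal in S, then S is normal in F. -/
theorem result {Ω : Type u} [Group Ω] {S : Subgroup Ω} [Finite S] (p : ℕ) [Fact p.Prime] (hS : IsPGroup p S)
    (F : Cfsg.FusionSystem S) (hF : F.IsSaturated p)
    (hnorm : ∀ x ∈ F.focalSubgroup, (x ^ p = 1 ∨ (p = 2 ∧ x ^ 4 = 1)) → ∀ s ∈ S, s * x * s⁻¹ ∈ Subgroup.zpowers x) :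
    F.IsNormal S := CfsgLib.Fsys.normal_top_of_small_normal hS hF fun x hx hsm => hnorm x hx hsm

end Cfsg.Agent.S5300
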