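import Cfsg.Agent.Lib.FusionSystem.Normal
-- Template for statement S5301 (row 5301; see /opt/grader/pristine/manifest.json for weights).
-- Copy to Cfsg/Agent/S5301.lean and replace the sorry. The statement below is byte-identical to the frozen
-- statement Cfsg.CfsgFrozen.S5301 (Cfsg/Statements/S5301.lean; the theorem Cfsg.fus8_top_normal_of_p_closed_automizers_on_centric_radicals);
-- the grader kernel-checks Cfsg.Agent.S5301.result against that frozen type. Keep the theorem IN THIS FILE
-- (a `result` declared elsewhere and merely imported here is not credited); helpers may live anywhere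
-- under Cfsg/Agent/.
import Cfsg.Statements.S5301
-- import your own Cfsg.Agent.* helpers here

set_option autoImplicit false
universe u
open Cfsg

namespace Cfsg.Agent.S5301

/-- Let F be a saturated fusion system over a finite p-group S. If for every subgroup P of S that is fully normalized, centric and radical in F the automorphism group that F induces on P has a normal Sylow p-subgroup, then S is normal in F. -/
theorem result {Ω : Type u} [Group Ω] {S : Subgroup Ω} [Finite S] (p : ℕ) [Fact p.Prime] (hS : IsPGroup p S)
    (F : Cfsg.FusionSystem S) (hF : F.IsSaturated p)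
    (hcl : ∀ P : Subgroup Ω, F.IsFullyNormalized P → F.IsCentric P → F.IsRadical p P →
      ∃ R : Sylow p ↥(F.autGroup P), (R : Subgroup ↥(F.autGroup P)).Normal) :
    F.IsNormal S := by
  open CfsgLib.Fsys in
  have hne : ∀ P : Subgroup Ω, P < S → ¬ F.IsEssential p P := by
    intro P hPS hess
    have hrad := essential_radical hS hess
    obtain ⟨hc, hfn, -⟩ := hess
    obtain ⟨R, hR⟩ := hcl P hfn hc hrad
    obtain ⟨-, R', hR'⟩ := (fullyNormalized_good hS hF hfn).1
    have := finite_of_le_base hfn.1
    obtain ⟨a, ha⟩ := MulAction.exists_smul_eq (F.autGroup P) R R'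
    have hR'n : (R' : Subgroup (F.autGroup P)).Normal := by
      rw [← ha]
      show (((R : Subgroup (F.autGroup P))).map _).Normal
      exact hR.map _ (MulEquiv.surjective _)
    obtain ⟨n, hn, hnP⟩ := SetLike.exists_of_lt (lt_normalizerIn hS hPS)
    have hmem : (⟨conjAut P hn.2, autInducedBy_le_autGroup hfn.1 (conjAut_mem_autInducedBy hn.2 hn.1)⟩ :
        F.autGroup P) ∈ (R' : Subgroup (F.autGroup P)) := by
      rw [hR']
      exact conjAut_mem_autInducedBy hn.2 hn.1
    have h1 := hrad.2.le ⟨_, (CfsgLib.Solvable.Cores.le_pCore (hn := hR'n) R'.2) hmem, rfl⟩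
    exact hnP ((conjAut_mem_inn_iff (centralizer_le_of_centric hc) hn hfn.1).1 h1)
  refine normal_of_generators hS hF le_rfl Subgroup.le_normalizer fun P hP => ?_
  rcases hP with rfl | hP
  · exact ⟨le_rfl, fun α _ x hx => autFn_mem α hx⟩
  · exact (eq_or_lt_of_le hP.1.1).elim
      (fun e => ⟨e.ge, fun α _ x hx => e ▸ autFn_mem α (e.symm ▸ hx)⟩) fun hlt => (hne P hlt hP).elim

end Cfsg.Agent.S5301
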