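import Cfsg.Agent.Lib.Fusion.Thompson
import Cfsg.Agent.Lib.FusionSystem.Group
-- Template for statement S5306 (row 5306; see /opt/grader/pristine/manifest.json for weights).
-- Copy to Cfsg/Agent/S5306.lean and replace the sorry. The statement below is byte-identical to the frozen
-- statement Cfsg.CfsgFrozen.S5306 (Cfsg/Statements/S5306.lean; the theorem Cfsg.fus17_conjugate_central_elements_of_thompson_subgroup_fuse_in_its_normalizer);
-- the grader kernel-checks Cfsg.Agent.S5306.result against that frozen type. Keep the theorem IN THIS FILE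
-- (a `result` declared elsewhere and merely imported here is not credited); helpers may live anywhere
-- under Cfsg/Agent/.
import Cfsg.Statements.S5306
-- import your own Cfsg.Agent.* helpers here

set_option autoImplicit false
open Cfsg

namespace Cfsg.Agent.S5306

/-- Let P be a Sylow p-subgroup of the finite group X and J = J(P) its Thompson subgroup (generated by the elementary abelian subgroups of P of largest order). If x and y lie in the centre of J and y = g x g⁻¹ for some g in X, then y = n x n⁻¹ for some n in the normalizer N_X(J). -/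
theorem result {X : Type*} [Group X] [Finite X] (p : ℕ) [Fact p.Prime] (P : Sylow p X) (J : Subgroup X) (hJ : J = Cfsg.thompsonSubgroupOf p (P : Subgroup X))
    (x y : X) (hx : x ∈ J ∧ ∀ j ∈ J, Commute j x) (hy : y ∈ J ∧ ∀ j ∈ J, Commute j y) (g : X) (hg : g * x * g⁻¹ = y) :
    ∃ n ∈ Subgroup.normalizer (J : Set X), n * x * n⁻¹ = y := by
  subst hJ
  set J := Cfsg.thompsonSubgroupOf p (P : Subgroup X) with hJdef
  obtain ⟨A₀, hA₀, hA₀P⟩ := CfsgLib.Fusion.Thompson.exists_maxEA_le_sylow (p := p) P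
  have hJe := CfsgLib.Fusion.Thompson.thompsonSubgroupOf_eq (p := p) hA₀ hA₀P
  rw [← hJdef] at hJe
  have hJP : J ≤ (P : Subgroup X) := CfsgLib.Fusion.Thompson.thompsonSubgroupOf_le _
  have hwc : ∀ h : X, J.map (MulAut.conj h).toMonoidHom ≤ (P : Subgroup X) →
      J.map (MulAut.conj h).toMonoidHom = J := by
    intro h hle
    refine Subgroup.eq_of_le_of_card_ge ?_
      (Subgroup.card_map_of_injective (MulAut.conj h).injective).ge
    conv_lhs => rw [hJe]
    rw [Subgroup.map_le_iff_le_comap]
    refine sSup_le fun A hA => Subgroup.map_le_iff_le_comap.1 ?_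
    rw [hJe]
    refine le_sSup (a := A.map (MulAut.conj h).toMonoidHom)
      ⟨CfsgLib.Fusion.Thompson.maxEA_map_equiv (MulAut.conj h) hA.1, (Subgroup.map_mono ?_).trans hle⟩
    rw [hJe]
    exact le_sSup hA
  -- `J` and its conjugate both centralize `y`
  let C := Subgroup.centralizer ({y} : Set X)
  have hJC : J ≤ C := fun j hj => Subgroup.mem_centralizer_singleton_iff.2 (hy.2 j hj).eq
  have hgJC : J.map (MulAut.conj g).toMonoidHom ≤ C := by
    rintro _ ⟨j, hj, rfl⟩
    refine Subgroup.mem_centralizer_singleton_iff.2 ?_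
    rw [← hg]
    show (MulAut.conj g) j * (MulAut.conj g) x = (MulAut.conj g) x * (MulAut.conj g) j
    rw [← map_mul, ← map_mul, (hx.2 j hj).eq]
  have hJp : IsPGroup p J := P.2.to_le hJP
  obtain ⟨Q, hQ⟩ := (hJp.comap_of_injective C.subtype C.subtype_injective).exists_le_sylow
  obtain ⟨R, hR⟩ := ((hJp.map (MulAut.conj g).toMonoidHom).comap_of_injective C.subtype
    C.subtype_injective).exists_le_sylow
  obtain ⟨c, hc⟩ := MulAction.exists_smul_eq C R Q
  obtain ⟨W, hW⟩ := (Q.2.map C.subtype).exists_le_sylow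
  obtain ⟨a, ha⟩ := MulAction.exists_smul_eq X W P
  have inP : ∀ z ∈ (Q : Subgroup C).map C.subtype, a * z * a⁻¹ ∈ (P : Subgroup X) := fun z hz => by
    rw [← ha, Sylow.coe_subgroup_smul, Subgroup.mem_smul_pointwise_iff_exists]
    exact ⟨z, hW hz, rfl⟩
  have h1 : J.map (MulAut.conj a).toMonoidHom = J := hwc a <| by
    rintro _ ⟨j, hj, rfl⟩
    exact inP _ ⟨⟨j, hJC hj⟩, hQ hj, rfl⟩
  have h2 : J.map (MulAut.conj (a * (c * g))).toMonoidHom = J := hwc _ <| by
    rintro _ ⟨j, hj, rfl⟩
    have hm : (⟨_, hgJC ⟨j, hj, rfl⟩⟩ : C) ∈ (R : Subgroup C) := hR ⟨j, hj, rfl⟩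
    have hcm : c * ⟨_, hgJC ⟨j, hj, rfl⟩⟩ * c⁻¹ ∈ (Q : Subgroup C) := by
      rw [← hc, Sylow.coe_subgroup_smul, Subgroup.mem_smul_pointwise_iff_exists]
      exact ⟨_, hm, rfl⟩
    have := inP _ ⟨_, hcm, rfl⟩
    simpa [mul_assoc] using this
  have hmemN : ∀ n : X, J.map (MulAut.conj n).toMonoidHom = J → n ∈ Subgroup.normalizer (J : Set X) := by
    intro n hn
    refine Subgroup.mem_normalizer_iff.2 fun z => ?_
    conv_rhs => rw [← hn]
    exact (Subgroup.mem_map_iff_mem (f := (MulAut.conj n).toMonoidHom) (MulAut.conj n).injective).symm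
  refine ⟨c * g, ?_, ?_⟩
  · have := Subgroup.mul_mem _ (Subgroup.inv_mem _ (hmemN a h1)) (hmemN _ h2)
    simpa [mul_assoc] using this
  · have := Subgroup.mem_centralizer_singleton_iff.1 c.2
    rw [show (c : X) * g * x * ((c : X) * g)⁻¹ = (c : X) * (g * x * g⁻¹) * (c : X)⁻¹ by group, hg]
    rw [this, mul_inv_cancel_right]

end Cfsg.Agent.S5306
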