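import Cfsg.Agent.Lib.FusionSystem.ComponentTransport
-- Template for statement S5311 (row 5311; see /opt/grader/pristine/manifest.json for weights).
-- Copy to Cfsg/Agent/S5311.lean and replace the sorry. The statement below is byte-identical to the frozen
-- statement Cfsg.CfsgFrozen.S5311 (Cfsg/Statements/S5311.lean; the theorem Cfsg.fus19_layer_is_characteristic);
-- the grader kernel-checks Cfsg.Agent.S5311.result against that frozen type. Keep the theorem IN THIS FILE
-- (a `result` declared elsewhere and merely imported here is not credited); helpers may live anywhere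
-- under Cfsg/Agent/.
import Cfsg.Statements.S5311
-- import your own Cfsg.Agent.* helpers here

set_option autoImplicit false
open Cfsg

namespace Cfsg.Agent.S5311

/-- The layer of a saturated fusion system F over a finite p-group S is characteristic in F: for every automorphism α of S that is an automorphism of F (α and its inverse are morphisms from F to F) and every layer E of F over T, α carries T onto T and, for every map φ of E with source P, the map induced by α on α(P) (that is, α ∘ φ ∘ α⁻¹) is a map of E. -/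
theorem result {Ω : Type*} [Group Ω] {S : Subgroup Ω} [Finite S] (p : ℕ) [Fact p.Prime] (hS : IsPGroup p S) (F : Cfsg.FusionSystem S) (hF : F.IsSaturated p)
    (α : ↥S ≃* ↥S) (hα : F.IsMorphism F (S.subtype.comp α.toMonoidHom))
    (hα' : F.IsMorphism F (S.subtype.comp α.symm.toMonoidHom))
    {T : Subgroup Ω} (E : Cfsg.FusionSystem T) (hE : E.IsLayerOf F p) :
    Cfsg.FusionSystem.imageAlong (S.subtype.comp α.toMonoidHom) T = T ∧
      ∀ (P : Subgroup Ω) (φ : ↥P →* Ω), φ ∈ E.Hom P →
        ∀ φ' : ↥(Cfsg.FusionSystem.imageAlong (S.subtype.comp α.toMonoidHom) P) →* Ω,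
          Cfsg.FusionSystem.InducedAlong (S.subtype.comp α.toMonoidHom) φ φ' →
            φ' ∈ E.Hom (Cfsg.FusionSystem.imageAlong (S.subtype.comp α.toMonoidHom) P) := by
  open CfsgLib.Fsys in
  let a : ↥S →* Ω := S.subtype.comp α.toMonoidHom
  let b : ↥S →* Ω := S.subtype.comp α.symm.toMonoidHom
  have hba : ∀ x ∈ S, th b (th a x) = x := fun x hx => by
    rw [th_apply hx, th_apply (show a ⟨x, hx⟩ ∈ S from (α ⟨x, hx⟩).2)]
    exact congrArg Subtype.val (α.symm_apply_apply ⟨x, hx⟩)
  have hab : ∀ x ∈ S, th a (th b x) = x := fun x hx => by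
    rw [th_apply hx, th_apply (show b ⟨x, hx⟩ ∈ S from (α.symm ⟨x, hx⟩).2)]
    exact congrArg Subtype.val (α.apply_symm_apply ⟨x, hx⟩)
  have hka : ∀ {c : ↥S →* Ω} {d : Ω → Ω}, F.IsMorphism F c → (∀ x ∈ S, d (th c x) = x) →
      ∀ (P : Subgroup Ω) (g : Ω → Ω), Fn F P g →
        Fn F (Tr.himg (th c) P) (fun y => th c (g (d y))) := fun {c d} hc hd P g hg => by
    obtain ⟨g', hg', hge⟩ := morphism_fn hc hg
    refine (hg'.mono (Tr.himg_le fun x hx => th_mem_imageAlong hx (hg.le hx))).congr fun y hy => ?_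
    obtain ⟨x, hx, -, rfl⟩ := mem_imageAlong.1
      ((Tr.himg_le fun x hx => th_mem_imageAlong (α := c) hx (hg.le hx)) hy)
    rw [hge x hx]
    show _ = th c (g (d (th c x)))
    rw [hd x (hg.le hx)]
  have t : Tr.Transport F F (th a) (th b) :=
    ⟨fun x hx y hy => th_mul hx hy, fun x hx => th_apply (α := a) hx ▸ (α ⟨x, hx⟩).2,
      fun x hx => th_apply (α := b) hx ▸ (α.symm ⟨x, hx⟩).2, hba, hab, hka hα hba, hka hα' hab⟩
  have hTS : T ≤ S := hE.1.1.2.2.2.1.1
  obtain ⟨E₁, s₁, hle₁⟩ := Tr.layer_le_image hS t hE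
  obtain ⟨E₂, s₂, hle₂⟩ := Tr.layer_le_image hS t.symm hE
  have h₁ : T ≤ Tr.himg (th a) T := subsystem_le hle₁
  have h₂ : T ≤ Tr.himg (th b) T := subsystem_le hle₂
  have hT : Tr.himg (th a) T = T := by
    refine le_antisymm ?_ h₁
    exact (Tr.himg_mono h₂).trans (t.symm.himg_himg hTS).le
  refine ⟨le_antisymm ((Tr.imageAlong_le_himg hTS).trans hT.le) (h₁.trans (Tr.himg_le_imageAlong hTS)), ?_⟩
  intro P φ hφ φ' hφ'
  have hP := (E.le_of_mem hφ).1
  obtain ⟨g, hg, hge⟩ := s₂.symm.fn_map (Fn.of_subsystem hle₂ (fn_ofHom hφ))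
  obtain ⟨hPS, -, -, hind⟩ := (inducedAlong_iff (fun x => (ofHom_coe φ x).symm)
    (fun y => (ofHom_coe φ' y).symm)).1 hφ'
  refine mem_hom_iff.2 ((hg.mono fun y hy => ?_).congr fun y hy => ?_)
  · obtain ⟨x, hx, -, rfl⟩ := mem_imageAlong.1 hy
    exact Tr.mem_himg_of_mem hx
  · obtain ⟨x, hx, -, rfl⟩ := mem_imageAlong.1 hy
    rw [hind x hx]
    exact hge x hx

end Cfsg.Agent.S5311
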