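import Cfsg.Statements.S5316
import Cfsg.Agent.Lib.FusionSystem.MaxClassEssentialCases

set_option autoImplicit false
open Cfsg

namespace Cfsg.Agent.S5316

/-- Let p ≥ 5 be a prime, S a finite p-group of maximal class of order p^n with n ≥ 5 (nilpotency class n − 1), F a saturated fusion system over S, and E an F-essential subgroup that is not a pearl (not elementary abelian of order p² and not extraspecial of order p³ and exponent p). Then E has order at least p⁴. -/
theorem result {Ω : Type*} [Group Ω] {S : Subgroup Ω} [Finite S] (p : ℕ) [Fact p.Prime] (hp : 5 ≤ p) (hS : IsPGroup p ↥S) (n : ℕ) (hn : Nat.card S = p ^ n) (h5 : 5 ≤ n)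
    (hmax : Subgroup.lowerCentralSeries S (n - 2) ≠ ⊥) (F : Cfsg.FusionSystem S) (hF : F.IsSaturated p)
    (E : Subgroup Ω) (hE : F.IsEssential p E)
    (hnp : ¬ ((Nat.card ↥E = p ^ 2 ∧ Cfsg.IsElementaryAbelian p E) ∨ (Nat.card ↥E = p ^ 3 ∧ Cfsg.IsExtraspecial p ↥E ∧ Monoid.exponent ↥E = p))) :
    p ^ 4 ≤ Nat.card ↥E := by
  by_contra hlt
  obtain ⟨hcard, hcomm, hexp⟩ := CfsgLib.Fsys.cube_elementary hS hF (by omega) hE (not_le.1 hlt) hnp
  have hup := CfsgLib.Fsys.MaxCube.up_subgroupOf hE.1.1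
  refine CfsgLib.Fsys.MaxCube.false_of_cube (CfsgLib.Fsys.MaxCube.isMC hp hn h5 hmax) hS hF
    (H := E.subgroupOf S) (by rwa [hup]) ?_ (fun a ha b hb => Subtype.ext ?_) fun a ha => Subtype.ext ?_
  · rw [← CfsgLib.Fsys.MaxCube.card_up, hup, hcard]
  · exact hcomm a (Subgroup.mem_subgroupOf.1 ha) b (Subgroup.mem_subgroupOf.1 hb)
  · simpa using hexp a (Subgroup.mem_subgroupOf.1 ha)

end Cfsg.Agent.S5316
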