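import Cfsg.Statements.S5317
import Cfsg.Agent.Lib.FusionSystem.DihedralSimple
import Cfsg.Agent.Lib.Classical.Dickson.MaxExcl
import Cfsg.Agent.Lib.Classical.SLBasic

set_option autoImplicit false
open Cfsg

namespace Cfsg.Agent.S5317

open CfsgLib.Classical.Dickson Matrix
open scoped MatrixGroups

/-- Let F be a finite field of odd order q with q² ≡ 1 mod 16 (so that a Sylow 2-subgroup of PSL(2,q), dihedral of order the 2-part of (q²−1)/2, has order at least 8). Then the 2-fusion system of PSL(2,F) on a Sylow 2-subgroup is simple: saturated, over a nontrivial 2-group, with no normal subsystem other than the trivial one and itself. -/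
theorem result {F : Type*} [Field F] [Fintype F] (hodd : Fintype.card F % 2 = 1) (h16 : 16 ∣ Fintype.card F ^ 2 - 1)
    (S : Sylow 2 (Matrix.ProjectiveSpecialLinearGroup (Fin 2) F)) :
    (Cfsg.groupFusionSystem (S : Subgroup (Matrix.ProjectiveSpecialLinearGroup (Fin 2) F))).IsSimple 2 := by
  classical
  obtain ⟨p, hp⟩ := CharP.exists F
  haveI : Fact p.Prime := ⟨CharP.char_is_prime F p⟩
  have hpodd : p ≠ 2 := by
    rintro rfl
    obtain ⟨n, -, hn⟩ := FiniteField.card F 2
    rw [hn] at hodd
    have : 2 ∣ 2 ^ (n : ℕ) := dvd_pow_self 2 n.pos.ne'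
    omega
  have hq : 7 ≤ Fintype.card F := by
    have := Fintype.one_lt_card (α := F)
    by_contra hlt
    interval_cases hc : Fintype.card F <;> omega
  haveI : IsSimpleGroup (ProjectiveSpecialLinearGroup (Fin 2) F) :=
    CfsgLib.Classical.psl_fin_isSimpleGroup le_rfl fun _ => by omega
  haveI : Finite (ProjectiveSpecialLinearGroup (Fin 2) F) := inferInstance
  set T := (S : Subgroup (ProjectiveSpecialLinearGroup (Fin 2) F))
  set q := Fintype.card F with hqdef
  have hG : Nat.card (ProjectiveSpecialLinearGroup (Fin 2) F) = Nat.card (sln F) := by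
    rw [← range_toPGL' (F := F)]
    exact Nat.card_congr
      (MonoidHom.ofInjective ProjectiveSpecialLinearGroup.toPGL_injective).toEquiv
  have hsln : 2 * Nat.card (sln F) = (q + 1) * q * (q - 1) := card_sln_odd hodd
  obtain ⟨n, hn⟩ : ∃ n, Nat.card T = 2 ^ n := IsPGroup.iff_card.mp S.isPGroup'
  have hmax : ¬ 2 ^ (n + 1) ∣ Nat.card (sln F) := by
    intro hd
    have h1 := S.not_dvd_index
    rw [← hG, ← T.card_mul_index, hn, pow_succ] at hd
    exact h1 (Nat.dvd_of_mul_dvd_mul_left (by positivity) hd)
  have h8 : 8 ≤ Nat.card T := by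
    rw [hn]
    by_contra hlt
    apply hmax
    have h8' : 8 ∣ Nat.card (sln F) := by
      have h2 : 16 ∣ 2 * Nat.card (sln F) := by
        rw [hsln, mul_right_comm, ← Nat.sq_sub_sq, one_pow]
        exact Dvd.dvd.mul_right h16 q
      omega
    have : n + 1 ≤ 3 := by
      by_contra hgt
      have : 2 ^ 3 ≤ 2 ^ n := Nat.pow_le_pow_right (by norm_num) (by omega)
      omega
    exact (pow_dvd_pow 2 this).trans h8'
  have hpT : ¬ p ∣ Nat.card T := by
    rw [hn]
    intro hd
    exact hpodd ((Nat.prime_dvd_prime_iff_eq Fact.out Nat.prime_two).mp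
      ((Fact.out : p.Prime).dvd_of_dvd_pow hd))
  have hdihedral : ∃ m, 4 ≤ m ∧ Nonempty (T ≃* DihedralGroup m) := by
    let e := inPGLEquiv T
    have hcard : Nat.card (inPGL T) = Nat.card T := (Nat.card_congr e.toEquiv).symm
    have hle : inPGL T ≤ sln F := by
      rw [← range_toPGL' (F := F)]
      exact Subgroup.map_le_range _ _
    cases kind p (inPGL T) with
    | fixed x h =>
      exfalso
      apply hmax
      have h1 : inPGL T ≤ stabIn (sln F) x := fun g hg => ⟨hle hg, h g hg⟩
      have h2 := Subgroup.card_dvd_of_le h1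
      rw [hcard, hn] at h2
      rw [← card_stabIn le_rfl x, pow_succ]
      exact mul_dvd_mul h2 (show 2 ∣ q + 1 by omega)
    | cyclic c hc hp' =>
      exfalso
      apply hmax
      have hcG : c ∈ inPGL T := hc ▸ Subgroup.mem_zpowers c
      obtain ⟨a, -, ha⟩ := hcG
      have hord : orderOf a = orderOf c := by
        rw [← ha, orderOf_injective _ ProjectiveSpecialLinearGroup.toPGL_injective]
      have hgcd : Nat.gcd 2 (q - 1) = 2 := Nat.gcd_eq_left (by omega)
      have h1 := psl_order_dvd p (hord ▸ hp')
      rw [hord, ← Nat.card_zpowers, ← hc, hcard, hn, ← hqdef, hgcd] at h1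
      rcases h1 with h1 | h1
      · have e : Nat.card (sln F) = (q - 1) / 2 * (q + 1) * q := by
          have e1 : q - 1 = 2 * ((q - 1) / 2) := by omega
          apply Nat.eq_of_mul_eq_mul_left two_pos
          rw [hsln]
          nth_rewrite 1 [e1]
          ring
        rw [e, pow_succ]
        exact dvd_mul_of_dvd_left (mul_dvd_mul h1 (by omega)) q
      · have e : Nat.card (sln F) = (q + 1) / 2 * (q - 1) * q := by
          have e1 : q + 1 = 2 * ((q + 1) / 2) := by omega
          apply Nat.eq_of_mul_eq_mul_left two_pos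
          rw [hsln]
          nth_rewrite 1 [e1]
          ring
        rw [e, pow_succ]
        exact dvd_mul_of_dvd_left (mul_dvd_mul h1 (by omega)) q
    | dihedral c hc hp' h2 hf =>
      obtain ⟨f⟩ := hf
      refine ⟨orderOf c, ?_, ⟨e.trans f⟩⟩
      have := Nat.card_congr f.toEquiv
      rw [hcard, DihedralGroup.nat_card] at this
      omega
    | a4 h =>
      exfalso
      have := Nat.card_congr h.some.toEquiv
      rw [hcard, hn, nat_card_alternatingGroup] at this
      simp [Nat.factorial] at this
      have h3 : 3 ∣ 2 ^ n := ⟨4, by omega⟩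
      exact absurd (Nat.prime_three.dvd_of_dvd_pow h3) (by norm_num)
    | s4 h =>
      exfalso
      have := Nat.card_congr h.some.toEquiv
      rw [hcard, hn, Nat.card_perm] at this
      simp [Nat.factorial] at this
      have h3 : 3 ∣ 2 ^ n := ⟨8, by omega⟩
      exact absurd (Nat.prime_three.dvd_of_dvd_pow h3) (by norm_num)
    | a5 h =>
      exfalso
      have := Nat.card_congr h.some.toEquiv
      rw [hcard, hn, nat_card_alternatingGroup] at this
      simp [Nat.factorial] at this
      have h3 : 3 ∣ 2 ^ n := ⟨20, by omega⟩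
      exact absurd (Nat.prime_three.dvd_of_dvd_pow h3) (by norm_num)
    | pgl A h hA =>
      exfalso
      apply hpT
      rw [← hcard, Nat.card_congr (Subgroup.equivMapOfInjective (inPGL T) (MulAut.conj h).toMonoidHom
        (MulAut.conj h).injective).toEquiv, hA]
      exact (dvd_card_ratPSL p A).trans (Subgroup.card_dvd_of_le fun g hg => by
        obtain ⟨a, rfl⟩ := hg
        exact ⟨SpecialLinearGroup.toPGL a, rfl⟩)
    | psl A hA' h hA =>
      exfalso
      apply hpT
      rw [← hcard, Nat.card_congr (Subgroup.equivMapOfInjective (inPGL T) (MulAut.conj h).toMonoidHom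
        (MulAut.conj h).injective).toEquiv, hA]
      exact dvd_card_ratPSL p A
  obtain ⟨m, hm, ⟨eS⟩⟩ := hdihedral
  refine CfsgLib.Fsys.DihedralSimple.dihedral ?_ S hm eS
  intro hcomm
  have hd : ∀ a b : DihedralGroup m, a * b = b * a := fun a b => by
    apply eS.symm.injective
    rw [map_mul, map_mul]
    exact Subtype.ext (hcomm.is_comm.comm _ _)
  have := hd (.r 1) (.sr 0)
  rw [DihedralGroup.r_mul_sr, DihedralGroup.sr_mul_r] at this
  injection this with h1
  have h2 : ((2 : ℕ) : ZMod m) = 0 := by
    push_cast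
    linear_combination -h1
  rw [ZMod.natCast_eq_zero_iff] at h2
  have := Nat.le_of_dvd two_pos h2
  omega

end Cfsg.Agent.S5317
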