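import Cfsg.Agent.Lib.FusionSystem.SimpleViaSylowImage
import Cfsg.Agent.Lib.Involution.PSL3Involution
import Cfsg.Agent.Lib.Involution.GL2SylowTwo
import Cfsg.Agent.Lib.Classical.SLOrders
-- Template for statement S5318 (row 5318; see /opt/grader/pristine/manifest.json for weights).
-- Copy to Cfsg/Agent/S5318.lean and replace the sorry. The statement below is byte-identical to the frozen
-- statement Cfsg.CfsgFrozen.S5318 (Cfsg/Statements/S5318.lean; the theorem Cfsg.fus65_two_fusion_system_of_projective_special_linear_three_odd_simple);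
-- the grader kernel-checks Cfsg.Agent.S5318.result against that frozen type. Keep the theorem IN THIS FILE
-- (a `result` declared elsewhere and merely imported here is not credited); helpers may live anywhere
-- under Cfsg/Agent/.
import Cfsg.Statements.S5318
-- import your own Cfsg.Agent.* helpers here

set_option autoImplicit false
open Cfsg

namespace Cfsg.Agent.S5318

/-- For a finite field F of odd order, the 2-fusion system of PSL(3,F) on a Sylow 2-subgroup (semidihedral or wreathed according as |F| ≡ 3 or 1 mod 4) is simple. -/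
theorem result {F : Type*} [Field F] [Fintype F] (hodd : Fintype.card F % 2 = 1) (S : Sylow 2 (Matrix.ProjectiveSpecialLinearGroup (Fin 3) F)) :
    (Cfsg.groupFusionSystem (S : Subgroup (Matrix.ProjectiveSpecialLinearGroup (Fin 3) F))).IsSimple 2 := by
  open CfsgLib CfsgLib.Involution in
  haveI := Fact.mk Nat.prime_two
  haveI : IsSimpleGroup (Matrix.ProjectiveSpecialLinearGroup (Fin 3) F) :=
    CfsgLib.Classical.psl_fin_isSimpleGroup (by omega) (by omega)
  set Z := Subgroup.center (Matrix.SpecialLinearGroup (Fin 3) F)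
  let π : Matrix.SpecialLinearGroup (Fin 3) F →* Matrix.ProjectiveSpecialLinearGroup (Fin 3) F :=
    QuotientGroup.mk' Z
  let φ := π.comp (PSL3Involution.blockHom (F := F))
  let P : Sylow 2 (Matrix.GeneralLinearGroup (Fin 2) F) := default
  have hinj : Function.Injective (PSL3Involution.blockHom (F := F)) := by
    intro A B h
    have e := fun i j => congrArg (fun y : Matrix.SpecialLinearGroup (Fin 3) F => y.1 i j) h
    refine Units.ext (Matrix.ext fun i j => ?_)
    fin_cases i <;> fin_cases j
    · simpa [PSL3Involution.blockHom_coe] using e 1 1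
    · simpa [PSL3Involution.blockHom_coe] using e 1 2
    · simpa [PSL3Involution.blockHom_coe] using e 2 1
    · simpa [PSL3Involution.blockHom_coe] using e 2 2
  have hker : ∀ x ∈ P, φ x = 1 → x = 1 := by
    intro x hx h1
    have hz : PSL3Involution.blockHom x ∈ Z :=
      (QuotientGroup.eq_one_iff (PSL3Involution.blockHom x)).1 h1
    obtain ⟨k, hk⟩ := P.2 ⟨x, hx⟩
    have hk' : x ^ 2 ^ k = 1 := congrArg Subtype.val hk
    have ho : orderOf x ∣ 3 := by
      rw [← orderOf_injective _ hinj x, ← Subgroup.orderOf_mk _ hz]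
      refine (orderOf_dvd_natCard _).trans ?_
      rw [CfsgLib.Classical.card_center_sl 3 (by omega)]
      exact Nat.gcd_dvd_left _ _
    rw [← orderOf_eq_one_iff]
    exact Nat.eq_one_of_dvd_coprimes (Nat.Coprime.pow_left k (show Nat.Coprime 2 3 by norm_num))
      (orderOf_dvd_of_pow_eq_one hk') ho
  have hq4 : Fintype.card F % 4 = 1 ∨ Fintype.card F % 4 = 3 := by omega
  refine Fsys.SylowImage.isSimple φ P hker (a := Nat.gcd 3 (Fintype.card F - 1))
    (b := Fintype.card F ^ 2 * (Fintype.card F ^ 2 + Fintype.card F + 1)) ?_ ?_ ?_ S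
  · rw [← Nat.even_iff.trans Nat.dvd_iff_mod_eq_zero.symm]
    have : Odd (Fintype.card F) := Nat.odd_iff.2 hodd
    simp [parity_simps, this, Nat.not_even_iff_odd.2 this]
  · have h1 := CfsgLib.Classical.card_psl_mul (F := F) rfl 3 (by omega)
    have h2 := CfsgLib.Classical.card_sl_mul (F := F) rfl 3 (by omega)
    have h3 := GL2SylowTwo.card_gl_two (F := F)
    obtain ⟨r, hr⟩ : ∃ r, Fintype.card F = r + 1 :=
      ⟨Fintype.card F - 1, by have := Fintype.card_pos (α := F); omega⟩
    have hr0 : 0 < r := by have := Fintype.one_lt_card (α := F); omega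
    rw [mul_comm, h1]
    refine Nat.eq_of_mul_eq_mul_left hr0 ?_
    rw [hr, Nat.add_sub_cancel] at h2
    rw [h2, h3, hr, Nat.add_sub_cancel, Fin.prod_univ_three]
    simp only [Fin.val_zero, Fin.val_one, Fin.val_two, pow_zero, pow_one]
    have e1 : (r + 1) ^ 3 - 1 = r * ((r + 1) ^ 2 + (r + 1) + 1) := by
      rw [Nat.sub_eq_iff_eq_add (Nat.one_le_pow _ _ (by omega))]; ring
    have e2 : (r + 1) ^ 3 - (r + 1) = (r + 1) * (r * (r + 2)) := by
      rw [Nat.sub_eq_iff_eq_add (Nat.le_self_pow (by omega) _)]; ring
    have e3 : (r + 1) ^ 3 - (r + 1) ^ 2 = (r + 1) ^ 2 * r := by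
      rw [Nat.sub_eq_iff_eq_add (Nat.pow_le_pow_right (by omega) (by omega))]; ring
    rw [e1, e2, e3]; ring
  · rcases hq4 with h | h
    · exact Or.inr (GL2SylowTwo.wreathed_of_one_mod_four h P)
    · exact Or.inl (GL2SylowTwo.quasiDihedral_of_three_mod_four h P)

end Cfsg.Agent.S5318
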