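import Cfsg.Agent.Lib.FusionSystem.SimpleViaSylowImage
import Cfsg.Agent.Lib.Involution.PSL3Involution
import Cfsg.Agent.Lib.Involution.GU2SylowTwo
import Cfsg.Agent.Lib.Classical.HermMatrix
import Cfsg.Agent.S0283
import Cfsg.Agent.S0280
-- Template for statement S5319 (row 5319; see /opt/grader/pristine/manifest.json for weights).
-- Copy to Cfsg/Agent/S5319.lean and replace the sorry. The statement below is byte-identical to the frozen
-- statement Cfsg.CfsgFrozen.S5319 (Cfsg/Statements/S5319.lean; the theorem Cfsg.fus65_two_fusion_system_of_projective_special_unitary_three_odd_simple);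
-- the grader kernel-checks Cfsg.Agent.S5319.result against that frozen type. Keep the theorem IN THIS FILE
-- (a `result` declared elsewhere and merely imported here is not credited); helpers may live anywhere
-- under Cfsg/Agent/.
import Cfsg.Statements.S5319
-- import your own Cfsg.Agent.* helpers here

set_option autoImplicit false
open Cfsg

namespace Cfsg.Agent.S5319

/-- Let q be an odd prime power and F a field with q² elements. Then the 2-fusion system of PSU(3,q) (realised as the special unitary group of the standard Hermitian form over F modulo its centre) on a Sylow 2-subgroup is simple. -/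
theorem result {F : Type*} [Field F] [Fintype F] (q : ℕ) (hq : Fintype.card F = q ^ 2) (hodd : q % 2 = 1) (S : Sylow 2 (Cfsg.PSU 3 F q)) :
    (Cfsg.groupFusionSystem (S : Subgroup (Cfsg.PSU 3 F q))).IsSimple 2 := by
  open CfsgLib CfsgLib.Involution in
  haveI := Fact.mk Nat.prime_two
  haveI : IsSimpleGroup (Cfsg.PSU 3 F q) :=
    Cfsg.Agent.S0283.result hq 3 le_rfl fun h => by omega
  obtain ⟨σ, hσ, -⟩ := CfsgLib.Classical.exists_frob hq
  have hmem : ∀ A : Cfsg.GU 2 F q, PSL3Involution.blockHom A.1 ∈ Cfsg.SU 3 F q := by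
    intro A u v
    set M := (A.1 : Matrix (Fin 2) (Fin 2) F)
    have hd : M.det * M.det ^ q = 1 := by
      rw [← hσ]; exact CfsgLib.Classical.GU_det_norm hσ A.2
    have hA := GU2SylowTwo.mem_GU.1 A.2 ![u 1, u 2] ![v 1, v 2]
    have hinv : (M.det)⁻¹ * (M.det)⁻¹ ^ q = 1 := by
      rw [inv_pow, ← mul_inv, hd, inv_one]
    change ∑ i, (Matrix.mulVec (PSL3Involution.blockHom A.1).1 u) i *
      (Matrix.mulVec (PSL3Involution.blockHom A.1).1 v) i ^ q = ∑ i, u i * v i ^ q
    rw [PSL3Involution.blockHom_coe, Fin.sum_univ_three, Fin.sum_univ_three]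
    simp only [GU2SylowTwo.hermForm_two, Matrix.mulVec, dotProduct, Fin.sum_univ_two,
      Matrix.cons_val_zero, Matrix.cons_val_one] at hA
    simp [Matrix.mulVec, dotProduct, Fin.sum_univ_three, mul_pow]
    linear_combination (u 0 * v 0 ^ q) * hinv + hA
  let ι : Cfsg.GU 2 F q →* Cfsg.SU 3 F q :=
    (PSL3Involution.blockHom.comp (Cfsg.GU 2 F q).subtype).codRestrict _ hmem
  let π : Cfsg.SU 3 F q →* Cfsg.PSU 3 F q := QuotientGroup.mk' _
  let φ := π.comp ι
  let P : Sylow 2 (Cfsg.GU 2 F q) := default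
  have hinj : Function.Injective ι := by
    intro A B h
    have h' : PSL3Involution.blockHom A.1 = PSL3Involution.blockHom B.1 := congrArg Subtype.val h
    have e := fun i j => congrArg (fun y : Matrix.SpecialLinearGroup (Fin 3) F => y.1 i j) h'
    refine Subtype.ext (Units.ext (Matrix.ext fun i j => ?_))
    fin_cases i <;> fin_cases j
    · simpa [PSL3Involution.blockHom_coe] using e 1 1
    · simpa [PSL3Involution.blockHom_coe] using e 1 2
    · simpa [PSL3Involution.blockHom_coe] using e 2 1
    · simpa [PSL3Involution.blockHom_coe] using e 2 2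
  have hker : ∀ x ∈ P, φ x = 1 → x = 1 := by
    intro x hx h1
    have hz : ι x ∈ Subgroup.center (Cfsg.SU 3 F q) := (QuotientGroup.eq_one_iff (ι x)).1 h1
    obtain ⟨k, hk⟩ := P.2 ⟨x, hx⟩
    have hk' : x ^ 2 ^ k = 1 := congrArg Subtype.val hk
    have ho : orderOf x ∣ 3 := by
      rw [← orderOf_injective _ hinj x, ← Subgroup.orderOf_mk _ hz]
      refine (orderOf_dvd_natCard _).trans ?_
      rw [CfsgLib.Classical.card_center_SU hq (by omega : 2 ≤ 3)]
      exact Nat.gcd_dvd_left _ _
    rw [← orderOf_eq_one_iff]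
    exact Nat.eq_one_of_dvd_coprimes (Nat.Coprime.pow_left k (show Nat.Coprime 2 3 by norm_num))
      (orderOf_dvd_of_pow_eq_one hk') ho
  refine Fsys.SylowImage.isSimple φ P hker (a := Nat.gcd 3 (q + 1))
    (b := q ^ 2 * (q ^ 2 - q + 1)) ?_ ?_ ?_ S
  · intro h2
    rcases (Nat.Prime.dvd_mul Nat.prime_two).1 h2 with h | h
    · have := Nat.Prime.dvd_of_dvd_pow Nat.prime_two h
      omega
    · have h3 : 2 ∣ q ^ 2 - q := by
        rw [pow_two, show q * q - q = q * (q - 1) by rw [Nat.mul_sub, mul_one]]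
        exact Dvd.dvd.mul_left (by omega) q
      omega
  · have h1 := Cfsg.Agent.S0280.result hq 3 (by omega)
    have h3 := GU2SylowTwo.card_GU_two (q := q) hq
    simp only [Finset.prod_range_succ, Finset.prod_range_zero, one_mul, show ¬ Even 1 by simp,
      show Even 0 by simp, show Even 2 by exact even_two, if_true, if_false] at h1
    refine Nat.eq_of_mul_eq_mul_left (show 0 < q + 1 by omega) ?_
    rw [h3]
    have e : (q + 1) * (Nat.card (Cfsg.PSU 3 F q) * Nat.gcd 3 (q + 1)) =
        Nat.gcd 3 (q + 1) * ((q + 1) * Nat.card (Cfsg.PSU 3 F q)) := by ring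
    rw [e, h1]
    obtain ⟨r, rfl⟩ : ∃ r, q = r + 1 := ⟨q - 1, by omega⟩
    have e1 : (r + 1) ^ (1 + 1) - 1 = r * (r + 2) := by
      rw [Nat.sub_eq_iff_eq_add (Nat.one_le_pow _ _ (by omega))]; ring
    have e2 : (r + 1) ^ 2 - (r + 1) = r * (r + 1) := by
      rw [Nat.sub_eq_iff_eq_add (Nat.le_self_pow (by omega) _)]; ring
    rw [e1, e2]
    norm_num
    ring
  · have hq4 : q % 4 = 1 ∨ q % 4 = 3 := by omega
    rcases hq4 with h | h
    · exact Or.inl (GU2SylowTwo.quasiDihedral_GU hq h P)
    · exact Or.inr (GU2SylowTwo.wreathed_GU hq h P)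

end Cfsg.Agent.S5319
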