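import Cfsg.Agent.Lib.FusionSystem.PSpFourSimple
-- Template for statement S5320 (row 5320; see /opt/grader/pristine/manifest.json for weights).
-- Copy to Cfsg/Agent/S5320.lean and replace the sorry. The statement below is byte-identical to the frozen
-- statement Cfsg.CfsgFrozen.S5320 (Cfsg/Statements/S5320.lean; the theorem Cfsg.fus65_two_fusion_system_of_projective_symplectic_four_odd_simple);
-- the grader kernel-checks Cfsg.Agent.S5320.result against that frozen type. Keep the theorem IN THIS FILE
-- (a `result` declared elsewhere and merely imported here is not credited); helpers may live anywhere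
-- under Cfsg/Agent/.
import Cfsg.Statements.S5320
-- import your own Cfsg.Agent.* helpers here

set_option autoImplicit false
open Cfsg

namespace Cfsg.Agent.S5320

/-- For a finite field F of odd order, the 2-fusion system of the projective symplectic group PSp(4,F) on a Sylow 2-subgroup is simple. -/
theorem result {F : Type*} [Field F] [Fintype F] (hodd : Fintype.card F % 2 = 1) (S : Sylow 2 (Cfsg.PSp 2 F)) :
    (Cfsg.groupFusionSystem (S : Subgroup (Cfsg.PSp 2 F))).IsSimple 2 := by
  open CfsgLib.Fsys.PSpFour in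
  haveI := Fact.mk Nat.prime_two
  have hF : Odd (Fintype.card F) := Nat.odd_iff.2 hodd
  let π₀ : Sp F →* Cfsg.PSp 2 F := QuotientGroup.mk' (Subgroup.center _)
  have hπ₀ : Function.Surjective π₀ := QuotientGroup.mk'_surjective _
  have hker₀ : ∀ x, π₀ x = 1 ↔ x = 1 ∨ x = ne := fun x => by
    refine (QuotientGroup.eq_one_iff x).trans ⟨center_cases hF, ?_⟩
    rintro (rfl | rfl)
    exacts [one_mem _, ne_mem_center]
  let Q : Sylow 2 (SL2 F) := default
  have hQ2 : IsPGroup 2 (wr (Q : Subgroup (SL2 F))) := by
    obtain ⟨m, hm⟩ := Q.2.exists_card_eq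
    exact IsPGroup.of_card (n := 2 * m + 1) (by rw [card_wr, hm]; ring)
  have hidx : ¬ 2 ∣ ((wr (Q : Subgroup (SL2 F))).map π₀).index := by
    rw [Subgroup.index_map_eq _ hπ₀ fun x hx => ?_]
    · exact index_wr_odd hF Q
    · rcases (hker₀ x).1 hx with rfl | rfl
      · exact one_mem _
      · exact pr_mem_wr (neg_one_mem hF Q) (neg_one_mem hF Q)
  let S₀ : Sylow 2 (Cfsg.PSp 2 F) := (hQ2.map π₀).toSylow hidx
  obtain ⟨g, hg⟩ := MulAction.exists_smul_eq (Cfsg.PSp 2 F) S₀ S
  let D : Setup F (Cfsg.PSp 2 F) :=
    { odd := hF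
      proj := (MulAut.conj g).toMonoidHom.comp π₀
      surj := (MulAut.conj g).surjective.comp hπ₀
      ker := fun x => (MulEquiv.map_eq_one_iff (MulAut.conj g)).trans (hker₀ x)
      Q := Q
      S := S
      hS := by rw [← hg, ← Subgroup.map_map]; rfl }
  refine D.isSimple fun e => ?_
  obtain ⟨i, hi, hii, -⟩ := exists_gen hF Q
  have h1 := D.prMem hi (one_mem _)
  rw [e, Subgroup.mem_bot, D.ker] at h1
  have h2 := two_ne_zero' hF
  rcases h1 with h1 | h1
  · have : i = 1 := congrArg Prod.fst (pr_injective (h1.trans (map_one pr).symm) : _)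
    rw [this, one_mul] at hii
    exact neg_one_ne_one h2 hii.symm
  · exact neg_one_ne_one h2 (congrArg Prod.snd (pr_injective h1 : _)).symm

end Cfsg.Agent.S5320
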