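import Cfsg.Statements.S5323
import Cfsg.Agent.Lib.FusionSystem.DoubleCoverEight.McL

set_option autoImplicit false
open Cfsg

namespace Cfsg.Agent.S5323

theorem result {G : Type*} [Group G] [Finite G] (hG : Cfsg.Spor.IsoMcL G) (S : Sylow 2 G) : (Cfsg.groupFusionSystem (S : Subgroup G)).IsSimple 2 := by
  exact CfsgLib.Fsys.DoubleCoverEight.mcl_simple hG S

end Cfsg.Agent.S5323
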