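import Cfsg.Agent.Lib.FusionSystem.BisetTransfer
import Cfsg.Agent.Lib.FusionSystem.Inner
-- Template for statement S5329 (row 5329; see /opt/grader/pristine/manifest.json for weights).
-- Copy to Cfsg/Agent/S5329.lean and replace the sorry. The statement below is byte-identical to the frozen
-- statement Cfsg.CfsgFrozen.S5329 (Cfsg/Statements/S5329.lean; the theorem Cfsg.fus70_focal_meet_center_eq_derived_meet_center);
-- the grader kernel-checks Cfsg.Agent.S5329.result against that frozen type. Keep the theorem IN THIS FILE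
-- (a `result` declared elsewhere and merely imported here is not credited); helpers may live anywhere
-- under Cfsg/Agent/.
import Cfsg.Statements.S5329
-- import your own Cfsg.Agent.* helpers here

set_option autoImplicit false
open Cfsg

namespace Cfsg.Agent.S5329

/-- For a saturated fusion system F over a finite p-group S, the focal subgroup and the derived subgroup of S meet the centre Z(F) of the system in the same subgroup: foc(F) ∩ Z(F) = S′ ∩ Z(F). -/
theorem result {Ω : Type*} [Group Ω] {S : Subgroup Ω} [Finite S] (p : ℕ) [Fact p.Prime] (hS : IsPGroup p S) (F : Cfsg.FusionSystem S) (hF : F.IsSaturated p) : F.focalSubgroup ⊓ F.center = ⁅(S : Subgroup Ω), (S : Subgroup Ω)⁆ ⊓ F.center := by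
  classical
  refine le_antisymm ?_ (inf_le_inf_right _ ?_)
  · rintro x ⟨hxf, hxc⟩
    refine ⟨?_, hxc⟩
    have hxS : x ∈ S := CfsgLib.Fsys.center_central.1 hxc
    obtain ⟨m, tr, hm, hst, heq, -⟩ := CfsgLib.Fsys.CharBiset.exists_transfer hS hF
      (Abelianization.of (G := S))
    have hker : F.focalSubgroup ≤ tr.ker.map S.subtype := by
      refine (Subgroup.closure_le _).2 ?_
      rintro _ ⟨P, φ, y, hφ, rfl⟩
      have hf := CfsgLib.Fsys.fn_ofHom hφ
      refine ⟨(⟨(y : Ω), hf.le y.2⟩ : S)⁻¹ * ⟨_, hf.mem y.2⟩, ?_, ?_⟩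
      · show tr _ = 1
        rw [map_mul, map_inv, hst P _ hf ⟨(y : Ω), hf.le y.2⟩ y.2, inv_mul_cancel]
      · show (y : Ω)⁻¹ * CfsgLib.Fsys.ofHom φ y = _
        rw [CfsgLib.Fsys.ofHom_coe]
    obtain ⟨y, hy, hyx⟩ := hker hxf
    obtain rfl : y = ⟨x, hxS⟩ := Subtype.ext hyx
    have hst' : CfsgLib.Fsys.CharBiset.StableAt F (Abelianization.of (G := S)) ⟨x, hxS⟩ := by
      intro Q f t hf ht k hk
      obtain ⟨-, g, hg, he, hfix⟩ : _ ∧ ∃ g, CfsgLib.Fsys.Fn F (Q ⊔ F.center) g ∧ _ ∧ _ :=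
        ⟨trivial, (CfsgLib.Fsys.central_iff_fn.1 CfsgLib.Fsys.center_central).2 Q f hf⟩
      have hxk : (x : Ω) ^ k ∈ F.center := F.center.zpow_mem hxc k
      have : (t : Ω) = x ^ k := hg.inj (Subgroup.mem_sup_left ht) (Subgroup.mem_sup_right hxk) (by
        rw [he _ ht, hfix _ hxk, ← hk]
        rfl)
      exact congrArg _ (Subtype.ext (by rw [this]; rfl))
    have h1 : Abelianization.of (⟨x, hxS⟩ : S) ^ m = 1 := (heq _ hst').symm.trans hy
    obtain ⟨j, hj⟩ := hS ⟨x, hxS⟩
    have h2 : Abelianization.of (⟨x, hxS⟩ : S) ^ p ^ j = 1 := by rw [← map_pow, hj, map_one]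
    have h3 : Abelianization.of (⟨x, hxS⟩ : S) = 1 := orderOf_eq_one_iff.1 (Nat.eq_one_of_dvd_coprimes
      ((((Fact.out : p.Prime).coprime_iff_not_dvd).2 hm).pow_left j)
      (orderOf_dvd_of_pow_eq_one h2) (orderOf_dvd_of_pow_eq_one h1))
    have h4 : (⟨x, hxS⟩ : S) ∈ commutator S := (QuotientGroup.eq_one_iff _).1 h3
    rw [show ⁅(S : Subgroup Ω), S⁆ = (commutator S).map S.subtype from (Subgroup.map_subtype_commutator S).symm]
    exact ⟨_, h4, rfl⟩
  · rw [Subgroup.commutator_le]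
    intro a ha b hb
    refine Subgroup.subset_closure ⟨S, Cfsg.conjHom S b, ⟨a⁻¹, S.inv_mem ha⟩ , F.conj_mem le_rfl hb, ?_⟩
    show _ = (a⁻¹)⁻¹ * (b * a⁻¹ * b⁻¹)
    simp [commutatorElement_def, mul_assoc]

end Cfsg.Agent.S5329
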