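import Cfsg.Agent.Lib.FusionSystem.Inner
-- Template for statement S5330 (row 5330; see /opt/grader/pristine/manifest.json for weights).
-- Copy to Cfsg/Agent/S5330.lean and replace the sorry. The statement below is byte-identical to the frozen
-- statement Cfsg.CfsgFrozen.S5330 (Cfsg/Statements/S5330.lean; the theorem Cfsg.fus70_abelian_group_is_center_times_focal);
-- the grader kernel-checks Cfsg.Agent.S5330.result against that frozen type. Keep the theorem IN THIS FILE
-- (a `result` declared elsewhere and merely imported here is not credited); helpers may live anywhere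
-- under Cfsg/Agent/.
import Cfsg.Statements.S5330
-- import your own Cfsg.Agent.* helpers here

set_option autoImplicit false
open Cfsg

namespace Cfsg.Agent.S5330

/-- Let F be a saturated fusion system over a finite abelian p-group S. Then S is the internal direct product of the centre of the system and the focal subgroup: Z(F) ∩ foc(F) = 1 and Z(F)·foc(F) = S. -/
theorem result {Ω : Type*} [Group Ω] {S : Subgroup Ω} [Finite S] (p : ℕ) [Fact p.Prime] (hS : IsPGroup p S) (F : Cfsg.FusionSystem S) (hF : F.IsSaturated p) (hab : ∀ x ∈ S, ∀ y ∈ S, x * y = y * x) : F.center ⊓ F.focalSubgroup = ⊥ ∧ F.center ⊔ F.focalSubgroup = S := CfsgLib.Fsys.center_focal_of_abelian hS hF hab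

end Cfsg.Agent.S5330
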