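import Cfsg.Agent.Lib.FusionSystem.TwoGroupAut
-- Template for statement S5331 (row 5331; see /opt/grader/pristine/manifest.json for weights).
-- Copy to Cfsg/Agent/S5331.lean and replace the sorry. The statement below is byte-identical to the frozen
-- statement Cfsg.CfsgFrozen.S5331 (Cfsg/Statements/S5331.lean; the theorem Cfsg.fus70_abelian_two_group_with_distinct_invariants_only_inner_system);
-- the grader kernel-checks Cfsg.Agent.S5331.result against that frozen type. Keep the theorem IN THIS FILE
-- (a `result` declared elsewhere and merely imported here is not credited); helpers may live anywhere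
-- under Cfsg/Agent/.
import Cfsg.Statements.S5331
-- import your own Cfsg.Agent.* helpers here

set_option autoImplicit false
open Cfsg

namespace Cfsg.Agent.S5331

/-- Let S be a finite abelian 2-group that is a direct product of cyclic groups of pairwise distinct orders 2^{a_1} < 2^{a_2} < ⋯ < 2^{a_n} (all a_i ≥ 1). Then every saturated fusion system over S is the inner one: its maps are exactly the conjugations by elements of S. -/
theorem result {Ω : Type*} [Group Ω] {S : Subgroup Ω} [Finite S] (n : ℕ) (a : Fin n → ℕ) (ha : StrictMono a) (ha1 : ∀ i, 1 ≤ a i) (e : ↥S ≃* Multiplicative ((i : Fin n) → ZMod (2 ^ a i))) (F : Cfsg.FusionSystem S) (hF : F.IsSaturated 2) (P : Subgroup Ω) : F.Hom P = (Cfsg.innerFusionSystem S).Hom P := by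
  open CfsgLib.Fsys in
  have hab : ∀ x ∈ S, ∀ y ∈ S, x * y = y * x := fun x hx y hy =>
    congrArg Subtype.val (e.injective (by rw [map_mul, map_mul, mul_comm]) :
      (⟨x, hx⟩ : S) * ⟨y, hy⟩ = ⟨y, hy⟩ * ⟨x, hx⟩)
  have hS : IsPGroup 2 S := by
    have : IsPGroup 2 (Multiplicative ((i : Fin n) → ZMod (2 ^ a i))) := by
      refine IsPGroup.of_card (n := ∑ i, a i) ?_
      rw [Nat.card_congr Multiplicative.toAdd, Nat.card_pi]
      simp [Nat.card_zmod, Finset.prod_pow_eq_pow_sum]
    exact this.of_equiv e.symm
  have h1 : ∀ b ∈ F.autGroup S, b = 1 := by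
    intro b hb
    refine abelian_distinct_aut n a ha e hS ?_
    have := card_autGroup_coprime_of_abelian hS hF hab
    refine Nat.Coprime.coprime_dvd_left ?_ ((Nat.Prime.coprime_iff_not_dvd Nat.prime_two).2 this).symm
    exact (Subgroup.orderOf_coe (⟨b, hb⟩ : F.autGroup S)) ▸ orderOf_dvd_natCard _
  ext φ
  constructor
  · intro hφ
    obtain ⟨b, hb, hbx⟩ := exists_top_extension hS hF hab (fn_ofHom hφ)
    have hP := (F.le_of_mem hφ).1
    refine ⟨hP, 1, S.one_mem, fun x => ?_⟩
    rw [← ofHom_coe φ x, hbx x x.2, h1 b hb, one_mul, inv_one, mul_one]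
    exact autFn_coe (1 : MulAut S) ⟨x, hP x.2⟩
  · rintro ⟨hP, g, hg, h⟩
    exact mem_hom_of_fn (fn_conj hP hg) h

end Cfsg.Agent.S5331
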