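import Cfsg.Agent.Lib.FusionSystem.ZJCriterion
-- Template for statement S5332 (row 5332; see /opt/grader/pristine/manifest.json for weights).
-- Copy to Cfsg/Agent/S5332.lean and replace the sorry. The statement below is byte-identical to the frozen
-- statement Cfsg.CfsgFrozen.S5332 (Cfsg/Statements/S5332.lean; the theorem Cfsg.fus70_odd_nontrivial_system_contains_nontrivial_constrained_subsystem);
-- the grader kernel-checks Cfsg.Agent.S5332.result against that frozen type. Keep the theorem IN THIS FILE
-- (a `result` declared elsewhere and merely imported here is not credited); helpers may live anywhere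
-- under Cfsg/Agent/.
import Cfsg.Statements.S5332
-- import your own Cfsg.Agent.* helpers here

set_option autoImplicit false
open Cfsg

namespace Cfsg.Agent.S5332

/-- Let p be odd and F a saturated fusion system over a finite p-group S that is not the inner system of S. Then F contains a saturated constrained subsystem over S that is itself not the inner system. -/
theorem result {Ω : Type*} [Group Ω] {S : Subgroup Ω} [Finite S] (p : ℕ) [Fact p.Prime] (hS : IsPGroup p S) (F : Cfsg.FusionSystem S) (hF : F.IsSaturated p) (hp : p ≠ 2) (hne : ∃ P : Subgroup Ω, F.Hom P ≠ (Cfsg.innerFusionSystem S).Hom P) : ∃ E : Cfsg.FusionSystem S, E ≤ F ∧ E.IsConstrained p ∧ ∃ P : Subgroup Ω, E.Hom P ≠ (Cfsg.innerFusionSystem S).Hom P := by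
  open CfsgLib.Fsys in
  suffices key : ∀ m : ℕ, ∀ G : Cfsg.FusionSystem S, (homSet G).ncard = m → G.IsSaturated p → ¬ PAut p G →
      ∃ E : Cfsg.FusionSystem S, E ≤ G ∧ E.IsConstrained p ∧ ¬ PAut p E by
    obtain ⟨E, hEF, hEc, hEn⟩ := key _ F rfl hF (CfsgLib.Fsys.not_pAut_of_ne hS hF fun h => hne.elim fun P hP => hP (h P))
    refine ⟨E, hEF, hEc, ?_⟩
    by_contra hall
    exact hEn (CfsgLib.Fsys.pAut_of_le_inner hS fun P => ((not_exists_not.1 hall) P).le)
  intro m
  induction m using Nat.strong_induction_on with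
  | _ m ih =>
  intro G hm hG hGn
  by_cases hex : ∀ E : Cfsg.FusionSystem S, E ≤ G → ¬ G ≤ E → E.IsSaturated p → CfsgLib.Fsys.PAut p E
  · exact ⟨G, fun P => le_refl _, CfsgLib.Fsys.constrained_of_minimal hp hS hG hex hGn, hGn⟩
  · simp only [not_forall] at hex
    obtain ⟨E, hle, hnle, hEs, hEn⟩ := hex
    obtain ⟨E', hE', h1, h2⟩ := ih _ (hm ▸ CfsgLib.Fsys.homSet_lt hle hnle) E rfl hEs hEn
    exact ⟨E', fun P => (hE' P).trans (hle P), h1, h2⟩

end Cfsg.Agent.S5332
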