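import Cfsg.Agent.Lib.FusionSystem.Invariant
-- Template for statement S5334 (row 5334; see /opt/grader/pristine/manifest.json for weights).
-- Copy to Cfsg/Agent/S5334.lean and replace the sorry. The statement below is byte-identical to the frozen
-- statement Cfsg.CfsgFrozen.S5334 (Cfsg/Statements/S5334.lean; the theorem Cfsg.fus70_subsystem_two_out_of_three_on_centric_maps);
-- the grader kernel-checks Cfsg.Agent.S5334.result against that frozen type. Keep the theorem IN THIS FILE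
-- (a `result` declared elsewhere and merely imported here is not credited); helpers may live anywhere
-- under Cfsg/Agent/.
import Cfsg.Statements.S5334
-- import your own Cfsg.Agent.* helpers here

set_option autoImplicit false
open Cfsg

namespace Cfsg.Agent.S5334

/-- Let F′ ≤ F be saturated fusion systems over the same finite p-group S, let Q and R be F-centric subgroups, φ a map of F with source Q and values in R, and ψ a map of F with source R. If two of φ, ψ and the composite ψ ∘ φ are maps of F′ then so is the third. -/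
theorem result {Ω : Type*} [Group Ω] {S : Subgroup Ω} [Finite S] (p : ℕ) [Fact p.Prime] (hS : IsPGroup p S) (F : Cfsg.FusionSystem S) (hF : F.IsSaturated p) (F' : Cfsg.FusionSystem S) (hF' : F'.IsSaturated p) (hle : F' ≤ F) (Q R : Subgroup Ω) (hQ : F.IsCentric Q) (hR : F.IsCentric R) (φ : ↥Q →* Ω) (hφ : φ ∈ F.Hom Q) (hφR : ∀ x : Q, φ x ∈ R) (ψ : ↥R →* Ω) (hψ : ψ ∈ F.Hom R) : (φ ∈ F'.Hom Q → ψ ∈ F'.Hom R → ψ.comp (φ.codRestrict R hφR) ∈ F'.Hom Q) ∧ (ψ ∈ F'.Hom R → ψ.comp (φ.codRestrict R hφR) ∈ F'.Hom Q → φ ∈ F'.Hom Q) ∧ (φ ∈ F'.Hom Q → ψ.comp (φ.codRestrict R hφR) ∈ F'.Hom Q → ψ ∈ F'.Hom R) := by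
  open CfsgLib.Fsys in
  have hfR : ∀ x ∈ Q, ofHom φ x ∈ R := fun x hx => by rw [ofHom_apply φ hx]; exact hφR _
  have hc : ∀ x : Q, (ψ.comp (φ.codRestrict R hφR)) x = (ofHom ψ ∘ ofHom φ) x := fun x => by
    show ψ _ = ofHom ψ (ofHom φ x)
    rw [ofHom_coe, ofHom_apply ψ (hφR x)]
    rfl
  have hcF : ∀ h : ψ.comp (φ.codRestrict R hφR) ∈ F'.Hom Q, Fn F' Q (ofHom ψ ∘ ofHom φ) :=
    fun h => ⟨_, h, hc⟩
  refine ⟨fun h1 h2 => F'.comp_mem h1 h2 hφR, fun h1 h2 => ?_, fun h1 h2 => ?_⟩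
  · obtain ⟨g, hg, hgf, -⟩ := (fn_ofHom h1).exists_inv
    refine mem_hom_iff.2 (((hcF h2).comp hg fun x hx => mem_img_of_mem (hfR x hx)).congr fun x hx => ?_)
    exact hgf _ (hfR x hx)
  · obtain ⟨g, hg, hgf, hgi⟩ := (fn_ofHom h1).exists_inv
    have hQ' : F.IsCentric (img (ofHom φ) Q) :=
      ⟨(fn_ofHom hφ).img_le_base, fun Q' h => hQ.2 Q' (isConj_trans (isConj_of_fn (fn_ofHom hφ)) h)⟩
    refine mem_hom_iff.2 (fn_of_restrict hS hF hle hF' hQ' (img_le hfR) (fn_ofHom hψ) ?_)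
    refine ((hg.comp (hcF h2) fun x hx => hgi.le (mem_img_of_mem hx))).congr fun y hy => ?_
    obtain ⟨x, hx, rfl⟩ := (fn_ofHom h1).mem_img.1 hy
    show ofHom ψ (ofHom φ (g (ofHom φ x))) = _
    rw [hgf x hx]

end Cfsg.Agent.S5334
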