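import Cfsg.Agent.Lib.FusionSystem.Invariant
-- Template for statement S5335 (row 5335; see /opt/grader/pristine/manifest.json for weights).
-- Copy to Cfsg/Agent/S5335.lean and replace the sorry. The statement below is byte-identical to the frozen
-- statement Cfsg.CfsgFrozen.S5335 (Cfsg/Statements/S5335.lean; the theorem Cfsg.fus70_subsystems_equal_if_agree_on_minimal_centric_subgroups);
-- the grader kernel-checks Cfsg.Agent.S5335.result against that frozen type. Keep the theorem IN THIS FILE
-- (a `result` declared elsewhere and merely imported here is not credited); helpers may live anywhere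
-- under Cfsg/Agent/.
import Cfsg.Statements.S5335
-- import your own Cfsg.Agent.* helpers here

set_option autoImplicit false
open Cfsg

namespace Cfsg.Agent.S5335

/-- Let F′ ≤ F be saturated fusion systems over the same finite p-group S. If the maps of F and of F′ with source Q coincide for every F-centric subgroup Q that is minimal among F-centric subgroups, then F = F′. -/
theorem result {Ω : Type*} [Group Ω] {S : Subgroup Ω} [Finite S] (p : ℕ) [Fact p.Prime] (hS : IsPGroup p S) (F : Cfsg.FusionSystem S) (hF : F.IsSaturated p) (F' : Cfsg.FusionSystem S) (hF' : F'.IsSaturated p) (hle : F' ≤ F) (hmin : ∀ Q : Subgroup Ω, F.IsCentric Q → (∀ R : Subgroup Ω, R < Q → ¬ F.IsCentric R) → F.Hom Q = F'.Hom Q) (P : Subgroup Ω) : F.Hom P = F'.Hom P := by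
  open CfsgLib.Fsys in
  have hc : ∀ R, F.IsCentric R → ∀ f, Fn F R f → Fn F' R f := by
    intro R hR f hf
    have hfin : {Q : Subgroup Ω | F.IsCentric Q ∧ Q ≤ R}.Finite :=
      finite_subgroups_le.subset fun Q h => h.1.1
    obtain ⟨Q, hQR, hQmin⟩ := hfin.exists_le_minimal (a := R) ⟨hR, le_rfl⟩
    have h1 := hmin Q hQmin.1.1 fun R' hR' hc' => hR'.not_ge (hQmin.2 ⟨hc', hR'.le.trans hQR⟩ hR'.le)
    obtain ⟨φ, hφ, hφf⟩ := hf.mono hQR
    exact fn_of_restrict hS hF hle hF' hQmin.1.1 hQR hf ⟨φ, h1 ▸ hφ, hφf⟩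
  have haut : ∀ R, F.IsCentric R → F.autGroup R ≤ F'.autGroup R := fun R hR α hα =>
    (mem_autGroup_iff_fn hR.1).2 (hc R hR _ ((mem_autGroup_iff_fn hR.1).1 hα))
  refine Set.Subset.antisymm (alperin hS hF F' (haut S ⟨le_rfl, fun Q' hQ' => ?_⟩) (fun R _ hR => haut R hR.1) P) (hle P)
  intro c hc'
  rw [eq_of_le_of_card le_rfl (isConj_le_right hQ') (isConj_card hQ').ge]
  exact hc'.1

end Cfsg.Agent.S5335
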