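import Cfsg.Agent.Lib.FusionSystem.Invariant
-- Template for statement S5338 (row 5338; see /opt/grader/pristine/manifest.json for weights).
-- Copy to Cfsg/Agent/S5338.lean and replace the sorry. The statement below is byte-identical to the frozen
-- statement Cfsg.CfsgFrozen.S5338 (Cfsg/Statements/S5338.lean; the theorem Cfsg.fus70_weakly_normal_subsystem_on_whole_group_with_full_top_automizer);
-- the grader kernel-checks Cfsg.Agent.S5338.result against that frozen type. Keep the theorem IN THIS FILE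
-- (a `result` declared elsewhere and merely imported here is not credited); helpers may live anywhere
-- under Cfsg/Agent/.
import Cfsg.Statements.S5338
-- import your own Cfsg.Agent.* helpers here

set_option autoImplicit false
open Cfsg

namespace Cfsg.Agent.S5338

/-- Let F be a saturated fusion system over a finite p-group S and F′ ≤ F a saturated subsystem over all of S that is invariant under F in the conjugation sense: for every map φ of F with source Q and every map ψ of F′ between subgroups R ≤ Q (with values in Q), the transported map φψφ⁻¹ defined on φ(R) is again a map of F′. If moreover Aut_{F′}(S) = Aut_F(S), then F′ = F. -/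
theorem result {Ω : Type*} [Group Ω] {S : Subgroup Ω} [Finite S] (p : ℕ) [Fact p.Prime] (hS : IsPGroup p S) (F : Cfsg.FusionSystem S) (hF : F.IsSaturated p) (F' : Cfsg.FusionSystem S) (hF' : F'.IsSaturated p) (hle : F' ≤ F) (hinv : ∀ (Q : Subgroup Ω) (φ : ↥Q →* Ω), φ ∈ F.Hom Q → ∀ (R : Subgroup Ω) (hRQ : R ≤ Q) (ψ : ↥R →* Ω), ψ ∈ F'.Hom R → ∀ (hψQ : ∀ x : R, ψ x ∈ Q), ∃ χ ∈ F'.Hom ((R.subgroupOf Q).map φ), ∀ (x : R) (hx : φ ⟨(x : Ω), hRQ x.2⟩ ∈ (R.subgroupOf Q).map φ), χ ⟨φ ⟨(x : Ω), hRQ x.2⟩, hx⟩ = φ ⟨ψ x, hψQ x⟩) (htop : F'.autGroup S = F.autGroup S) (P : Subgroup Ω) : F'.Hom P = F.Hom P := by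
  open CfsgLib.Fsys in
  refine Set.Subset.antisymm (hle P) ?_
  have hconj : ∀ R, R ≤ S → ∀ β τ : MulAut R, β ∈ F.autGroup R → τ ∈ F'.autGroup R →
      β * τ * β⁻¹ ∈ F'.autGroup R := by
    intro R hRS β τ hβ hτ
    have hmem : ∀ x : R, (R.subtype.comp τ.toMonoidHom) x ∈ R := fun x => (τ x).2
    obtain ⟨χ, hχ, h⟩ := hinv R _ ((mem_autGroup hRS).1 hβ) R le_rfl _ ((mem_autGroup hRS).1 hτ) hmem
    refine (mem_autGroup_iff_fn hRS).2 ?_
    have e : (R.subgroupOf R).map (R.subtype.comp β.toMonoidHom) = R := by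
      rw [Subgroup.subgroupOf_self, ← MonoidHom.range_eq_map,
        Fn.range_eq_img (f := autFn β) fun x => (autFn_coe β x).symm, img_autFn]
    have hfn : Fn F' R (ofHom χ) := (fn_ofHom hχ).mono e.ge
    refine hfn.congr fun y hy => ?_
    lift y to R using hy
    obtain ⟨x, rfl⟩ := β.surjective y
    have hx : (R.subtype.comp β.toMonoidHom) ⟨(x : Ω), x.2⟩ ∈ (R.subgroupOf R).map (R.subtype.comp β.toMonoidHom) :=
      ⟨x, x.2, rfl⟩
    rw [ofHom_apply χ (show ((β x : R) : Ω) ∈ _ from hx), autFn_coe]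
    refine (h x hx).trans ?_
    simp
  refine le_of_automizers hS hF F' htop.ge (fun R hRS hR hbig α hα => ?_) P
  obtain ⟨hA, hfc⟩ := fullyNormalized_good hS hF hR
  have hr := fullyCentralized_receptive hS hF hfc
  have := finite_of_le_base hR.1
  let A := F.autGroup R
  let N : Subgroup A := (F'.autGroup R).subgroupOf A
  have hN : N.Normal := ⟨fun τ hτ β => hconj R hR.1 β τ β.2 hτ⟩
  obtain ⟨-, T, hT⟩ := id hA
  have hTN : (T : Subgroup A) ≤ N := hT ▸ fun a ha => autInducedBy_le_autGroup hR.1 ha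
  have hfr := Sylow.normalizer_sup_eq_top' T hTN
  have hmem : (⟨α, hα⟩ : A) ∈ Subgroup.normalizer ((T : Subgroup A) : Set A) ⊔ N := hfr.ge (Subgroup.mem_top _)
  rw [← SetLike.mem_coe, Subgroup.mul_normal] at hmem
  obtain ⟨γ, hγ, τ, hτ, hγτ⟩ := hmem
  have : α = (γ : MulAut R) * τ := congrArg Subtype.val hγτ.symm
  rw [this]
  refine Subgroup.mul_mem _ ?_ hτ
  obtain ⟨n, hn, hnR⟩ := SetLike.exists_of_lt (lt_normalizerIn hS hRS)
  have hn' : (⟨conjAut R hn.2, autInducedBy_le_autGroup hR.1 (conjAut_mem_autInducedBy hn.2 hn.1)⟩ : A) ∈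
      (T : Subgroup A) := by
    rw [hT]; exact conjAut_mem_autInducedBy hn.2 hn.1
  have hc := (Subgroup.mem_normalizer_iff.1 hγ _).1 hn'
  rw [hT] at hc
  obtain ⟨M, g, hlt, hg, hge⟩ := extAut_of_receptive hr γ.2 hn hnR hc
  have hgE : Fn F' M g := hbig M g (by
    have := finite_of_le_base hg.le
    simpa only [SetLike.coe_sort_coe] using Set.Finite.card_lt_card (Set.toFinite (M : Set Ω)) hlt) hg
  exact (mem_autGroup hR.1).2 (mem_hom_of_fn (hgE.mono hlt.le) fun x => (hge x).symm)

end Cfsg.Agent.S5338
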