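import Cfsg.Agent.Lib.FusionSystem.Invariant
-- Template for statement S5341 (row 5341; see /opt/grader/pristine/manifest.json for weights).
-- Copy to Cfsg/Agent/S5341.lean and replace the sorry. The statement below is byte-identical to the frozen
-- statement Cfsg.CfsgFrozen.S5341 (Cfsg/Statements/S5341.lean; the theorem Cfsg.fus70_fully_normalized_persists_in_subsystem_on_strongly_closed_subgroup);
-- the grader kernel-checks Cfsg.Agent.S5341.result against that frozen type. Keep the theorem IN THIS FILE
-- (a `result` declared elsewhere and merely imported here is not credited); helpers may live anywhere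
-- under Cfsg/Agent/.
import Cfsg.Statements.S5341
-- import your own Cfsg.Agent.* helpers here

set_option autoImplicit false
open Cfsg

namespace Cfsg.Agent.S5341

/-- Let F be a saturated fusion system over a finite p-group S, T a subgroup strongly closed in F, and F′ any fusion system over T all of whose maps are maps of F. For a subgroup Q ≤ T: if Q is fully centralized in F then it is fully centralized in F′, and if Q is fully normalized in F then it is fully normalized in F′. -/
theorem result {Ω : Type*} [Group Ω] {S : Subgroup Ω} [Finite S] (p : ℕ) [Fact p.Prime] (hS : IsPGroup p S) (F : Cfsg.FusionSystem S) (hF : F.IsSaturated p) (T : Subgroup Ω) (hT : F.StronglyClosed T) (F' : Cfsg.FusionSystem T) (hsub : F'.IsSubsystemOf F) (Q : Subgroup Ω) (hQT : Q ≤ T) : (F.IsFullyCentralized Q → F'.IsFullyCentralized Q) ∧ (F.IsFullyNormalized Q → F'.IsFullyNormalized Q) := by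
  open CfsgLib.Fsys in
  exact ⟨fullyCentralized_sub hS hF hT hsub hQT, fullyNormalized_sub hS hF hT hsub hQT⟩

end Cfsg.Agent.S5341
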