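import Cfsg.Agent.Lib.FusionSystem.SubnormalConstrained
-- Template for statement S5342 (row 5342; see /opt/grader/pristine/manifest.json for weights).
-- Copy to Cfsg/Agent/S5342.lean and replace the sorry. The statement below is byte-identical to the frozen
-- statement Cfsg.CfsgFrozen.S5342 (Cfsg/Statements/S5342.lean; the theorem Cfsg.fus70_subnormal_subsystem_of_constrained_system_is_constrained);
-- the grader kernel-checks Cfsg.Agent.S5342.result against that frozen type. Keep the theorem IN THIS FILE
-- (a `result` declared elsewhere and merely imported here is not credited); helpers may live anywhere
-- under Cfsg/Agent/.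
import Cfsg.Statements.S5342
-- import your own Cfsg.Agent.* helpers here

set_option autoImplicit false
open Cfsg

namespace Cfsg.Agent.S5342

/-- Let F be a constrained saturated fusion system over a finite p-group S. Then every subsystem of F that is subnormal in F (reached from F by a finite chain of successive normal subsystems) is constrained. -/
theorem result {Ω : Type*} [Group Ω] {S : Subgroup Ω} [Finite S] (p : ℕ) [Fact p.Prime] (hS : IsPGroup p S) (F : Cfsg.FusionSystem S) (hF : F.IsConstrained p) {T : Subgroup Ω} (E : Cfsg.FusionSystem T) (hE : E.IsSubnormalIn F p) : E.IsConstrained p := CfsgLib.Fsys.constrained_of_subnormal hE inferInstance inferInstance hS hF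

end Cfsg.Agent.S5342
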