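import Cfsg.Agent.Lib.FusionSystem.Realized
-- Template for statement S5343 (row 5343; see /opt/grader/pristine/manifest.json for weights).
-- Copy to Cfsg/Agent/S5343.lean and replace the sorry. The statement below is byte-identical to the frozen
-- statement Cfsg.CfsgFrozen.S5343 (Cfsg/Statements/S5343.lean; the theorem Cfsg.fus70_realizable_simple_system_is_realized_by_a_simple_group);
-- the grader kernel-checks Cfsg.Agent.S5343.result against that frozen type. Keep the theorem IN THIS FILE
-- (a `result` declared elsewhere and merely imported here is not credited); helpers may live anywhere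
-- under Cfsg/Agent/.
import Cfsg.Statements.S5343
-- import your own Cfsg.Agent.* helpers here

set_option autoImplicit false
universe u
open Cfsg

namespace Cfsg.Agent.S5343

/-- Let F be a simple saturated fusion system over a finite p-group S that is realized by some finite group on a Sylow p-subgroup. Then F is realized by a finite simple group on a Sylow p-subgroup. -/
theorem result {Ω : Type u} [Group Ω] {S : Subgroup Ω} [Finite S] (p : ℕ) [Fact p.Prime] (hS : IsPGroup p S) (F : Cfsg.FusionSystem S) (hsimple : F.IsSimple p) (hreal : F.IsRealizable p) : ∃ (G : Type u) (_ : Group G) (_ : Finite G) (_ : IsSimpleGroup G) (ι : ↥S →* G), F.IsRealizedBy ι ∧ ∃ T : Sylow p G, (T : Subgroup G) = ι.range := by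
  classical
  let p' : ℕ → Prop := fun n => ∃ (G : Type u) (_ : Group G) (_ : Finite G) (ι : S →* G),
    F.IsRealizedBy ι ∧ (∃ T : Sylow p G, (T : Subgroup G) = ι.range) ∧ Nat.card G = n
  have hex : ∃ n, p' n := by
    obtain ⟨G, i1, i2, ι, hι, hT⟩ := hreal
    exact ⟨_, G, i1, i2, ι, hι, hT, rfl⟩
  obtain ⟨G, _, _, ι, hι, hT, hn⟩ := Nat.find_spec hex
  have : Nontrivial S := (Subgroup.nontrivial_iff_ne_bot S).2 hsimple.2.1
  have : Nontrivial G := hι.1.nontrivial
  refine ⟨G, inferInstance, inferInstance, ⟨fun N hN => ?_⟩, ι, hι, hT⟩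
  by_contra hne
  rw [not_or] at hne
  have := hN
  obtain ⟨L, i1, i2, ι', h1, h2, hlt⟩ := CfsgLib.Fsys.exists_smaller_realization hsimple hι hT hne.1 hne.2
  exact Nat.find_min hex (hn ▸ hlt) ⟨L, i1, i2, ι', h1, h2, rfl⟩

end Cfsg.Agent.S5343
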