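import Cfsg.Agent.Lib.ThreeTransp.Basic
import Cfsg.Statements.S5344
-- import your own Cfsg.Agent.* helpers here

set_option autoImplicit false
open Cfsg

namespace Cfsg.Agent.S5344

/-- rewriting rules for the Coxeter group of type A₃ -/
def rules : List (List (Fin 3) × List (Fin 3)) :=
  [([0, 0], []), ([1, 1], []), ([2, 2], []), ([2, 0], [0, 2]), ([1, 0, 1], [0, 1, 0]),
   ([2, 1, 2], [1, 2, 1]), ([2, 1, 0, 2], [1, 2, 1, 0]), ([2, 1, 0, 1], [0, 2, 1, 0])]

def step : List (Fin 3) → List (Fin 3)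
  | [] => []
  | i :: l =>
    match rules.find? (fun r => r.1.isPrefixOf (i :: l)) with
    | some r => r.2 ++ (i :: l).drop r.1.length
    | none => i :: step l

def norm : ℕ → List (Fin 3) → List (Fin 3)
  | 0, l => l
  | n + 1, l => norm n (step l)

def s (i : Fin 3) : Equiv.Perm (Fin 4) := Equiv.swap i.castSucc i.succ

def words : List (List (Fin 3)) :=
  [[], [0], [1], [2], [0,1], [0,2], [1,0], [1,2], [2,1], [0,1,0], [0,1,2], [0,2,1], [1,0,2],
   [1,2,1], [2,1,0], [0,1,0,2], [0,1,2,1], [0,2,1,0], [1,0,2,1], [1,2,1,0], [0,1,0,2,1],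
   [0,1,2,1,0], [1,0,2,1,0], [0,1,0,2,1,0]]

def word (σ : Equiv.Perm (Fin 4)) : List (Fin 3) :=
  (words.find? (fun l => (l.map s).prod = σ)).getD []

theorem word_prod : ∀ σ, ((word σ).map s).prod = σ := by decide +kernel

theorem word_one : word 1 = [] := by decide +kernel

theorem tab : ∀ i σ, norm 20 (word (s i * σ)) = norm 20 (i :: word σ) := by decide +kernel

def vs : List (Equiv.Perm (Fin 4)) :=
  [s 0 * s 2, Equiv.swap 0 2 * Equiv.swap 1 3, Equiv.swap 0 3 * Equiv.swap 1 2]

theorem vs_conj : ∀ v ∈ vs, ∃ τ, τ * v * τ⁻¹ = s 0 * s 2 := by decide +kernel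

def comm (σ τ : Equiv.Perm (Fin 4)) : Equiv.Perm (Fin 4) := σ * τ * σ⁻¹ * τ⁻¹

def good (σ τ ρ : Equiv.Perm (Fin 4)) : Bool :=
  decide (σ ∈ vs) || decide (comm σ τ ∈ vs) || decide (comm (comm σ τ) ρ ∈ vs)

theorem exists_comm : ∀ σ : Equiv.Perm (Fin 4), σ ≠ 1 → ∃ τ ρ, good σ τ ρ = true := by
  decide +kernel

theorem key4 {G : Type*} [Group G] (x : Fin 3 → G)
    (h0 : ∀ i, x i * x i = 1) (h20 : x 2 * x 0 = x 0 * x 2)
    (h01 : x 1 * x 0 * x 1 = x 0 * x 1 * x 0) (h12 : x 2 * x 1 * x 2 = x 1 * x 2 * x 1)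
    (hne : x 0 ≠ x 2) :
    ∃ φ : Equiv.Perm (Fin 4) →* G, Function.Injective φ ∧
      ∀ i : Fin 3, φ (Equiv.swap i.castSucc i.succ) = x i := by
  let ev : List (Fin 3) → G := fun l => (l.map x).prod
  have ev_cons : ∀ i l, ev (i :: l) = x i * ev l := fun i l => List.prod_cons
  have ev_app : ∀ l m, ev (l ++ m) = ev l * ev m := fun l m => by simp [ev]
  have r1 : ∀ i, ev [i, i] = ev [] := fun i => by simpa [ev] using h0 i
  have r2 : ev [2, 0] = ev [0, 2] := by simpa [ev] using h20
  have r3 : ev [1, 0, 1] = ev [0, 1, 0] := by simpa [ev, mul_assoc] using h01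
  have r4 : ev [2, 1, 2] = ev [1, 2, 1] := by simpa [ev, mul_assoc] using h12
  have r5 : ev [2, 1, 0, 1] = ev [0, 2, 1, 0] := by
    have h : x 1 * (x 0 * x 1) = x 0 * (x 1 * x 0) := by simpa [mul_assoc] using h01
    simp [ev, h, ← mul_assoc, h20]
  have r6 : ev [2, 1, 0, 2] = ev [1, 2, 1, 0] := by
    have h : x 2 * (x 1 * (x 2 * x 0)) = x 1 * (x 2 * (x 1 * x 0)) := by
      simp only [← mul_assoc, h12]
    simpa [ev, ← h20] using h
  have hrule : ∀ r ∈ rules, ev r.1 = ev r.2 := by
    intro r hr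
    simp only [rules, List.mem_cons, List.not_mem_nil, or_false] at hr
    rcases hr with rfl | rfl | rfl | rfl | rfl | rfl | rfl | rfl <;>
      first | assumption | exact r1 _
  have step_ok : ∀ l, ev (step l) = ev l := by
    intro l
    induction l with
    | nil => rfl
    | cons i l ih =>
      simp only [step]
      split
      · next r hr =>
        have hm := List.mem_of_find?_eq_some hr
        have hp := List.find?_some hr
        simp only [List.isPrefixOf_iff_prefix] at hp
        obtain ⟨t, ht⟩ := hp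
        rw [← ht, List.drop_left, ev_app, ev_app, hrule r hm]
      · rw [ev_cons, ev_cons, ih]
  have norm_ok : ∀ n l, ev (norm n l) = ev l := by
    intro n
    induction n with
    | zero => intro l; rfl
    | succ n ih => intro l; rw [norm, ih, step_ok]
  let f : Equiv.Perm (Fin 4) → G := fun σ => ev (word σ)
  have hgen : ∀ i σ, f (s i * σ) = x i * f σ := by
    intro i σ
    show ev (word (s i * σ)) = x i * ev (word σ)
    rw [← ev_cons, ← norm_ok 20 (i :: word σ), ← norm_ok 20 (word _), tab]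
  have hw : ∀ σ, ((word σ).map s).prod = σ := word_prod
  have f1 : f 1 = 1 := by
    show ev (word 1) = 1
    rw [word_one]; simp [ev]
  have hlist : ∀ l σ, f ((l.map s).prod * σ) = ev l * f σ := by
    intro l σ
    induction l with
    | nil => simp [ev]
    | cons i l ih => rw [List.map_cons, List.prod_cons, mul_assoc, hgen, ih, ev_cons, mul_assoc]
  have hmul : ∀ σ τ, f (σ * τ) = f σ * f τ := by
    intro σ τ
    conv_lhs => rw [← hw σ]
    exact hlist _ _
  let φ : Equiv.Perm (Fin 4) →* G :=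
    { toFun := f, map_one' := f1, map_mul' := hmul }
  have hφs : ∀ i, φ (s i) = x i := fun i => by
    simpa [f1, φ] using hgen i 1
  refine ⟨φ, ?_, hφs⟩
  rw [injective_iff_map_eq_one]
  intro σ hσ
  by_contra hne1
  have hc : ∀ τ, φ (σ * τ * σ⁻¹ * τ⁻¹) = 1 := fun τ => by simp [map_mul, map_inv, hσ]
  have hv : ∀ v ∈ vs, φ v ≠ 1 := by
    intro v hv h
    obtain ⟨τ, hτ⟩ := vs_conj v hv
    have : φ (s 0 * s 2) = 1 := by rw [← hτ]; simp [h]
    rw [map_mul, hφs, hφs, mul_eq_one_iff_eq_inv] at this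
    exact hne (this.trans (inv_eq_of_mul_eq_one_right (h0 2)))
  obtain ⟨τ, ρ, h⟩ := exists_comm σ hne1
  simp only [good, comm, Bool.or_eq_true, decide_eq_true_eq] at h
  rcases h with (h | h) | h <;> try replace h := of_decide_eq_true h
  · exact hv _ h hσ
  · exact hv _ h (hc τ)
  · exact hv _ h (by simp only [map_mul, map_inv, hσ]; group)


/-- In a set of 3-transpositions, let a, b, c be members with a and c different and commuting, while neither a nor c commutes with b (a 3-string). Then there is an injective homomorphism from the symmetric group of degree 4 into the ambient group sending the transpositions (0 1), (1 2), (2 3) to a, b, c; so a, b, c generate a copy of the symmetric group of degree 4 in which they are transpositions. -/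
theorem result {G : Type*} [Group G] {D : Set G} (hD : Cfsg.IsThreeTranspositionSet D) {a b c : G} (ha : a ∈ D) (hb : b ∈ D) (hc : c ∈ D) (hac : a ≠ c) (hac' : Commute a c) (hab : ¬ Commute a b) (hbc : ¬ Commute b c) : ∃ φ : Equiv.Perm (Fin 4) →* G, Function.Injective φ ∧ φ (Equiv.swap 0 1) = a ∧ φ (Equiv.swap 1 2) = b ∧ φ (Equiv.swap 2 3) = c := by
  have A := CfsgLib.ThreeTransp.Basic.sq_one (hD.1 a ha)
  have B := CfsgLib.ThreeTransp.Basic.sq_one (hD.1 b hb)
  have C := CfsgLib.ThreeTransp.Basic.sq_one (hD.1 c hc)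
  obtain ⟨φ, hinj, h⟩ := key4 ![a, b, c] (by simp [Fin.forall_fin_succ, A, B, C])
    hac'.symm.eq (CfsgLib.ThreeTransp.Basic.braid hD hb ha (fun h => hab h.symm))
    (CfsgLib.ThreeTransp.Basic.braid hD hc hb (fun h => hbc h.symm)) hac
  exact ⟨φ, hinj, h 0, h 1, h 2⟩

end Cfsg.Agent.S5344
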