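import Cfsg.Agent.Lib.ThreeTransp.WidthOne
import Cfsg.Agent.Lib.ThreeTransp.Width
import Cfsg.Statements.S5346
-- import your own Cfsg.Agent.* helpers here

set_option autoImplicit false
open Cfsg

namespace Cfsg.Agent.S5346

/-- Let D be a conjugation-invariant generating set of 3-transpositions of a finite group G and d a member of D. Then D has width 1 (no two different members of D commute) if and only if G is the product of the subgroup generated by d with the largest normal 3-subgroup of G. -/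
theorem result {G : Type*} [Group G] [Finite G] {D : Set G} (hD : Cfsg.IsThreeTranspositionGroup D) {d : G} (hd : d ∈ D) : Cfsg.commutingWidth D = 1 ↔ Subgroup.zpowers d ⊔ Cfsg.pCore 3 G = ⊤ := by
  obtain ⟨hS, hconj, hgen⟩ := hD
  have dd := CfsgLib.ThreeTransp.Basic.sq_one (hS.1 d hd)
  haveI : (Cfsg.pCore 3 G).Normal := CfsgLib.Solvable.Cores.pCore_normal 3
  rw [CfsgLib.ThreeTransp.Width.width_eq_one_iff ⟨d, hd⟩]
  constructor
  · intro hw
    rw [eq_top_iff, ← hgen, Subgroup.closure_le]
    intro x hx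
    have h := CfsgLib.ThreeTransp.WidthOne.mul_mem_pCore hS hconj hw hd hx
    have e : x = d * (d * x) := by rw [← mul_assoc, dd, one_mul]
    rw [e]
    exact Subgroup.mul_mem_sup (Subgroup.mem_zpowers d) h
  · intro htop a ha b hb hab
    have h3 : ∀ y : G, y ∈ Cfsg.pCore 3 G → y * y = 1 → y = 1 := by
      intro y hy hyy
      obtain ⟨k, hk⟩ := CfsgLib.Solvable.Cores.isPGroup_pCore (G := G) 3 ⟨y, hy⟩
      have e1 : orderOf y ∣ 3 ^ k :=
        orderOf_dvd_of_pow_eq_one (by simpa using congrArg Subtype.val hk)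
      have e2 : orderOf y ∣ 2 := orderOf_dvd_of_pow_eq_one (by rw [sq]; exact hyy)
      exact orderOf_eq_one_iff.1 (((Nat.Coprime.pow_left k (by norm_num : Nat.Coprime 3 2)).coprime_dvd_left e1).eq_one_of_dvd e2)
    have hcases : ∀ x ∈ D, d * x ∈ Cfsg.pCore 3 G := by
      intro x hx
      have hx' : x ∈ ((Subgroup.zpowers d ⊔ Cfsg.pCore 3 G : Subgroup G) : Set G) := by
        rw [htop]; exact Subgroup.mem_top x
      rw [Subgroup.mul_normal] at hx'
      obtain ⟨p, hp, q, hq, rfl⟩ := hx'
      obtain ⟨n, rfl⟩ := Subgroup.mem_zpowers_iff.1 hp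
      simp only at hx ⊢
      rcases Int.even_or_odd' n with ⟨m, rfl | rfl⟩
      · exfalso
        rw [zpow_mul, zpow_two, dd, one_zpow, one_mul] at hx
        exact CfsgLib.ThreeTransp.Basic.ne_one (hS.1 q hx)
          (h3 q hq (CfsgLib.ThreeTransp.Basic.sq_one (hS.1 q hx)))
      · rw [zpow_add, zpow_mul, zpow_two, dd, one_zpow, one_mul, zpow_one, ← mul_assoc, dd, one_mul]
        exact hq
    have hmem : a * b ∈ Cfsg.pCore 3 G := by
      have e : a * b = (d * a)⁻¹ * (d * b) := by
        rw [mul_inv_rev, CfsgLib.ThreeTransp.Basic.inv_self (hS.1 d hd),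
          CfsgLib.ThreeTransp.Basic.inv_self (hS.1 a ha), mul_assoc, ← mul_assoc d d b, dd, one_mul]
      rw [e]
      exact (Cfsg.pCore 3 G).mul_mem ((Cfsg.pCore 3 G).inv_mem (hcases a ha)) (hcases b hb)
    have A := CfsgLib.ThreeTransp.Basic.sq_one (hS.1 a ha)
    have B := CfsgLib.ThreeTransp.Basic.sq_one (hS.1 b hb)
    have := h3 _ hmem (by rw [← sq]; exact (CfsgLib.ThreeTransp.Basic.commute_iff A B).1 hab)
    rw [mul_eq_one_iff_eq_inv, CfsgLib.ThreeTransp.Basic.inv_self (hS.1 b hb)] at this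
    exact this

end Cfsg.Agent.S5346
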