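import Cfsg.Agent.Lib.ThreeTransp.Basic
import Cfsg.Statements.S5347
-- import your own Cfsg.Agent.* helpers here

set_option autoImplicit false
open Cfsg

namespace Cfsg.Agent.S5347

/-- Let D be a conjugation-invariant generating set of 3-transpositions of a finite group G, p a prime bigger than 3, and P a p-subgroup of G. If a member d of D normalizes P then d centralizes P. -/
theorem result {G : Type*} [Group G] [Finite G] {D : Set G} (hD : Cfsg.IsThreeTranspositionGroup D) {p : ℕ} (hp : p.Prime) (hp3 : 3 < p) (P : Subgroup G) (hP : IsPGroup p P) {d : G} (hd : d ∈ D) (hnorm : d ∈ Subgroup.normalizer (P : Set G)) : ∀ x ∈ P, Commute d x := by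
  obtain ⟨hS, hconj, -⟩ := hD
  intro x hx
  have dd := CfsgLib.ThreeTransp.Basic.sq_one (hS.1 d hd)
  have hxd : x * d * x⁻¹ ∈ D := hconj x d hd
  have hmem : d * (x * d * x⁻¹) ∈ P := by
    have h := (Subgroup.mem_normalizer_iff.1 hnorm x).1 hx
    have : d * (x * d * x⁻¹) = (d * x * d⁻¹) * x⁻¹ := by
      rw [CfsgLib.ThreeTransp.Basic.inv_self (hS.1 d hd)]; group
    rw [this]; exact P.mul_mem h (P.inv_mem hx)
  haveI : Fact p.Prime := ⟨hp⟩
  obtain ⟨k, hk⟩ := hP ⟨_, hmem⟩
  replace hk : (d * (x * d * x⁻¹)) ^ (p ^ k) = 1 := by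
    simpa using congrArg (Subtype.val) hk
  have hord : orderOf (d * (x * d * x⁻¹)) = 1 := by
    have h1 := orderOf_dvd_of_pow_eq_one hk
    obtain ⟨j, -, hj⟩ := (Nat.dvd_prime_pow hp).1 h1
    rcases hS.2 d hd _ hxd with h2 | h2 <;>
    · have h3 := orderOf_dvd_of_pow_eq_one h2
      rcases (Nat.dvd_prime (by norm_num)).1 h3 with h4 | h4
      · exact h4
      · exfalso
        have : p ∣ orderOf (d * (x * d * x⁻¹)) := by
          rcases Nat.eq_zero_or_pos j with rfl | hj0
          · rw [hj] at h4; simp at h4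
          · rw [hj]; exact dvd_pow_self p hj0.ne'
        rw [h4] at this
        have := Nat.le_of_dvd (by norm_num) this
        omega
  rw [orderOf_eq_one_iff, mul_eq_one_iff_eq_inv, mul_inv_rev, mul_inv_rev, inv_inv,
    CfsgLib.ThreeTransp.Basic.inv_self (hS.1 d hd)] at hord
  show d * x = x * d
  calc d * x = x * (d * x⁻¹) * x := by rw [← hord]
    _ = x * d := by group

end Cfsg.Agent.S5347
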