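import Cfsg.Statements.S5349
import Cfsg.Agent.Lib.Sporadic.FischerCores

set_option autoImplicit false
open Cfsg CfsgLib.Sporadic

namespace Cfsg.Agent.S5349

/-- Let D be a conjugacy class of 3-transpositions generating the finite group G, with at least two members, and d a member of D. Then the set of members of D commuting with exactly the same members of D as d coincides with the set of members of D lying in the coset of d modulo the largest normal 2-subgroup of G, and also with the orbit of d under conjugation by that normal 2-subgroup. -/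
theorem result {G : Type*} [Group G] [Finite G] {D : Set G} (hD : Cfsg.IsThreeTranspositionClass D) (hD2 : ∃ a ∈ D, ∃ b ∈ D, a ≠ b) {d : G} (hd : d ∈ D) : {v : G | v ∈ D ∧ ∀ e ∈ D, Commute v e ↔ Commute d e} = {v : G | v ∈ D ∧ d⁻¹ * v ∈ Cfsg.pCore 2 G} ∧ {v : G | v ∈ D ∧ ∀ e ∈ D, Commute v e ↔ Commute d e} = {v : G | ∃ g ∈ Cfsg.pCore 2 G, v = g * d * g⁻¹} := by
  have hG := CfsgLib.ThreeTransp.Basic.class_isGroup hD
  have hclass : ∀ x ∈ D, ∀ y ∈ D, ∃ g : G, g * x * g⁻¹ = y := fun x hx y hy =>
    CfsgLib.ThreeTransp.Basic.class_conj hD hx hy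
  have hiff : ∀ v : G, (v ∈ D ∧ ∀ e ∈ D, Commute v e ↔ Commute d e) ↔
      FischerCores.SameV D d v :=
    fun v => ⟨fun h => ⟨hd, h.1, fun e he => (h.2 e he).symm⟩,
      fun h => ⟨h.2.1, fun e he => (h.2.2 e he).symm⟩⟩
  refine ⟨Set.ext fun v => (hiff v).trans (FischerCores.sameV_iff hG hd v),
    Set.ext fun v => (hiff v).trans ⟨fun h => FischerCores.sameV_orbit hG hclass h, ?_⟩⟩
  rintro ⟨g, hg, rfl⟩
  exact FischerCores.sameV_of_coset hG hd (hG.2.1 g d hd) (FischerCores.orbit_coset hG hd hg)

end Cfsg.Agent.S5349
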