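import Cfsg.Statements.S5351
import Cfsg.Agent.Lib.Sporadic.FischerLayer

set_option autoImplicit false
open Cfsg CfsgLib.Sporadic

namespace Cfsg.Agent.S5351

/-- Let D be a conjugacy class of 3-transpositions generating the finite group G, with at least two members. Then for every prime p > 3 the largest normal p-subgroup of G is central, and exactly one of the following holds: the largest normal 2-subgroup of G is not central; the largest normal 3-subgroup of G is not central; the layer of G (the product of its components) is non-trivial. -/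
theorem result {G : Type*} [Group G] [Finite G] {D : Set G} (hD : Cfsg.IsThreeTranspositionClass D) (hD2 : ∃ a ∈ D, ∃ b ∈ D, a ≠ b) : (∀ p : ℕ, p.Prime → 3 < p → Cfsg.pCore p G ≤ Subgroup.center G) ∧ ((¬ Cfsg.pCore 2 G ≤ Subgroup.center G ∧ Cfsg.pCore 3 G ≤ Subgroup.center G ∧ Cfsg.layer G = ⊥) ∨ (Cfsg.pCore 2 G ≤ Subgroup.center G ∧ ¬ Cfsg.pCore 3 G ≤ Subgroup.center G ∧ Cfsg.layer G = ⊥) ∨ (Cfsg.pCore 2 G ≤ Subgroup.center G ∧ Cfsg.pCore 3 G ≤ Subgroup.center G ∧ Cfsg.layer G ≠ ⊥)) := by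
  have hG := CfsgLib.ThreeTransp.Basic.class_isGroup hD
  have hclass : ∀ x ∈ D, ∀ y ∈ D, ∃ g : G, g * x * g⁻¹ = y := fun x hx y hy =>
    CfsgLib.ThreeTransp.Basic.class_conj hD hx hy
  refine ⟨fun p hp h3 => FischerCores.pCore_central_of_three_lt hG hp h3, ?_⟩
  have hexcl : ¬ (¬ Cfsg.pCore 2 G ≤ Subgroup.center G ∧ ¬ Cfsg.pCore 3 G ≤ Subgroup.center G) := by
    rintro ⟨h2, h3⟩
    obtain ⟨d, v, hdv, hne⟩ := FischerCores.exists_sameV_of_noncentral hG h2
    obtain ⟨d', hd', w', hw', hnb', hne'⟩ := FischerCores.exists_nb_of_noncentral hG h3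
    obtain ⟨g, rfl⟩ := hclass d' hd' d hdv.1
    have hnb := FischerRankThree.nb_eq_conj hG g hnb'
    have hw := hG.2.1 g w' hw'
    have hv : v ∈ FischerTransitivity.Nb D (g * w' * g⁻¹) :=
      hnb ▸ (⟨hdv.2.1, fun e => hne e.symm, hdv.commute⟩ : v ∈ FischerTransitivity.Nb D (g * d' * g⁻¹))
    exact hne' (mul_left_cancel (mul_right_cancel
      (FischerRankThree.eq_of_nb_commute hnb hw ((hdv.2.2 _ hw).2 hv.2.2.symm))))
  by_cases hlay : Cfsg.layer G = ⊥
  · by_cases h2 : Cfsg.pCore 2 G ≤ Subgroup.center G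
    · by_cases h3 : Cfsg.pCore 3 G ≤ Subgroup.center G
      · obtain ⟨L, hL⟩ := FischerLayer.exists_component hG hclass hD2 h2 h3
        exact absurd hlay fun h => (CfsgLib.Components.layer_eq_bot_iff.1 h) L hL
      · exact Or.inr (Or.inl ⟨h2, h3, hlay⟩)
    · exact Or.inl ⟨h2, not_not.1 fun h3 => hexcl ⟨h2, h3⟩, hlay⟩
  · obtain ⟨L, hL⟩ : ∃ L : Subgroup G, Cfsg.IsComponent L := by
      by_contra hno
      push Not at hno
      exact hlay (CfsgLib.Components.layer_eq_bot_iff.2 hno)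
    exact Or.inr (Or.inr ⟨FischerLayer.pCore_two_le_center hG hclass hD2 hL,
      FischerLayer.pCore_three_le_center hG hclass hD2 hL, hlay⟩)

end Cfsg.Agent.S5351
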