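import Cfsg.Statements.S5355
import Cfsg.Agent.Lib.Sporadic.FischerLayer

set_option autoImplicit false
open Cfsg CfsgLib.Sporadic CfsgLib.ThreeTransp FischerTransitivity
open scoped Pointwise

namespace Cfsg.Agent.S5355

/-- Let D be a conjugacy class of 3-transpositions generating the finite group G, with at least two members, and d a member of D. Suppose that every member of D commuting with d commutes with exactly the same members of D as d does, and that exactly one member of D other than d commutes with d. Then G is isomorphic to the symmetric group of degree 4. -/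
theorem result {G : Type*} [Group G] [Finite G] {D : Set G} (hD : Cfsg.IsThreeTranspositionClass D) (hD2 : ∃ a ∈ D, ∃ b ∈ D, a ≠ b) {d : G} (hd : d ∈ D) (hV : {y : G | y ∈ D ∧ Commute d y} = {v : G | v ∈ D ∧ ∀ e ∈ D, Commute v e ↔ Commute d e}) (hm : {y : G | y ∈ D ∧ Commute d y}.ncard = 2) : Nonempty (G ≃* Equiv.Perm (Fin 4)) := by
  classical
  have hG := Basic.class_isGroup hD
  have hclass : ∀ x ∈ D, ∀ y ∈ D, ∃ g : G, g * x * g⁻¹ = y := fun x hx y hy =>
    Basic.class_conj hD hx hy
  -- partners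
  have hset : ∀ x ∈ D, {y : G | y ∈ D ∧ Commute x y}.ncard = 2 ∧
      ∀ y ∈ D, Commute x y → FischerCores.SameV D x y := by
    intro x hx
    obtain ⟨g, rfl⟩ := hclass d hd x hx
    constructor
    · rw [← hm]
      rw [← Set.ncard_image_of_injective {y : G | y ∈ D ∧ Commute d y} (f := fun w => g * w * g⁻¹)
        (fun p q h => mul_left_cancel (mul_right_cancel h))]
      congr 1
      ext y
      constructor
      · rintro ⟨hy, hc⟩
        exact ⟨g⁻¹ * y * g, ⟨by simpa using hG.2.1 g⁻¹ y hy,
          (Commute.conj_iff g).1 (by simpa [mul_assoc] using hc)⟩, by group⟩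
      · rintro ⟨w, ⟨hw, hc⟩, rfl⟩
        exact ⟨hG.2.1 g w hw, (Commute.conj_iff g).2 hc⟩
    · intro y hy hc
      have h0 : g⁻¹ * y * g ∈ D := by simpa using hG.2.1 g⁻¹ y hy
      have h1 : FischerCores.SameV D d (g⁻¹ * y * g) :=
        ⟨hd, h0, fun e he => (((Set.ext_iff.1 hV _).1 ⟨h0,
          (Commute.conj_iff g).1 (by simpa [mul_assoc] using hc)⟩).2 e he).symm⟩
      simpa [mul_assoc] using FischerCores.sameV_conj hG g h1
  have hpart : ∀ x ∈ D, ∃ x' ∈ D, x' ≠ x ∧ Commute x x' := by
    intro x hx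
    obtain ⟨x', hx', hne⟩ := Set.exists_ne_of_one_lt_ncard
      (by rw [(hset x hx).1]; norm_num : 1 < {y : G | y ∈ D ∧ Commute x y}.ncard) x
    exact ⟨x', hx'.1, hne, hx'.2⟩
  have huniq : ∀ x ∈ D, ∀ x' ∈ D, ∀ y ∈ D, x' ≠ x → Commute x x' → Commute x y →
      y = x ∨ y = x' := by
    intro x hx x' hx' y hy hne hc hcy
    have h : ({x, x'} : Set G) = {y : G | y ∈ D ∧ Commute x y} := by
      refine Set.eq_of_subset_of_ncard_le ?_ ?_ (Set.toFinite _)
      · rintro z (rfl | rfl)
        · exact ⟨hx, Commute.refl _⟩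
        · exact ⟨hx', hc⟩
      · rw [(hset x hx).1, Set.ncard_pair (Ne.symm hne)]
    have := h.ge ⟨hy, hcy⟩
    simpa using this
  -- the rule for two noncommuting blocks
  have rule : ∀ x ∈ D, ∀ x' ∈ D, ∀ y ∈ D, ∀ y' ∈ D, x' ≠ x → Commute x x' → y' ≠ y → Commute y y' →
      ¬ Commute x y → x * (y * y') * x = y * (x * x') * y ∧
        Commute (x * x') (y * y') ∧ x * (y * y') * x = (x * x') * (y * y') := by
    intro x hx x' hx' y hy y' hy' hne hc hne' hc' hn
    have e1 : cj x y = cj y x := cj_comm hG hx hy hn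
    have hp : cj x y' = cj y x' := by
      have hg := cj_mem hG hx hy
      have h1 : Commute (cj x y) (cj x y') := (commute_cj hG hx y y').2 hc'
      have h2 : Commute (cj x y) (cj y x') := by rw [e1]; exact (commute_cj hG hy x x').2 hc
      have hne1 : cj y x' ≠ cj x y := fun h => hne (cj_inj hG hy (h.trans e1))
      rcases huniq _ hg _ (cj_mem hG hy hx') _ (cj_mem hG hx hy') hne1 h2 h1 with h | h
      · exact absurd (cj_inj hG hx h) hne'
      · exact h
    have e2 : x * (y * y') * x = y * (x * x') * y := by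
      calc x * (y * y') * x = cj x y * cj x y' := by
            simp only [cj, mul_assoc]; rw [← mul_assoc x x, sq hG hx, one_mul]
        _ = cj y x * cj y x' := by rw [e1, hp]
        _ = y * (x * x') * y := by
            simp only [cj, mul_assoc]; rw [← mul_assoc y y, sq hG hy, one_mul]
    have hxy' : ¬ Commute x y' := fun h => hn ((((hset y hy).2 y' hy' hc').2.2 x hx).2 h.symm).symm
    have hx'y : ¬ Commute x' y := fun h => hn ((((hset x hx).2 x' hx' hc).2.2 y hy).2 h)
    set X := x * x' with hX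
    set Y := y * y' with hY
    have hX2 : X * X = 1 := by
      rw [hX, mul_assoc, ← mul_assoc x', ← hc.eq, mul_assoc x x', sq hG hx', mul_one, sq hG hx]
    have hY2 : Y * Y = 1 := by
      rw [hY, mul_assoc, ← mul_assoc y', ← hc'.eq, mul_assoc y y', sq hG hy', mul_one, sq hG hy]
    have e3 : (x * Y * x) * Y = X := by
      have hyY : Y = x * (y * X * y) * x := by
        rw [← e2]; simp [mul_assoc, sq hG hx, ← mul_assoc x x]
      have b1 : y * x * y = x * y * x := Basic.braid hG.1 hy hx fun h => hn h.symm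
      have b2 : y * x' * y = x' * y * x' := Basic.braid hG.1 hy hx' fun h => hx'y h.symm
      have hXx : X * x = x' := by
        rw [hX, hc.eq, mul_assoc, sq hG hx, mul_one]
      have hxX : x * X = x' := by rw [hX, ← mul_assoc, sq hG hx, one_mul]
      calc (x * Y * x) * Y = y * X * y * (x * (y * X * y) * x) := by rw [e2, ← hyY]
        _ = y * X * (y * x * y) * X * y * x := by simp only [mul_assoc]
        _ = y * (X * x) * y * (x * X) * y * x := by rw [b1]; simp only [mul_assoc]
        _ = (y * x' * y) * x' * y * x := by rw [hXx, hxX]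
        _ = x' * y * (x' * x') * y * x := by rw [b2]; simp only [mul_assoc]
        _ = x' * (y * y) * x := by rw [sq hG hx', mul_one]; simp only [mul_assoc]
        _ = X := by rw [sq hG hy, mul_one, hX, hc.eq]
    have hW2 : (x * Y * x) * (x * Y * x) = 1 := by
      calc (x * Y * x) * (x * Y * x) = x * Y * (x * x) * Y * x := by simp only [mul_assoc]
        _ = x * (Y * Y) * x := by rw [sq hG hx, mul_one]; simp only [mul_assoc]
        _ = 1 := by rw [hY2, mul_one, sq hG hx]
    have e4 : x * Y * x = X * Y := by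
      conv_lhs => rw [← mul_one (x * Y * x), ← hY2, ← mul_assoc, e3]
    refine ⟨e2, ?_, e4⟩
    rw [e4] at hW2
    have hinv := inv_eq_of_mul_eq_one_right hW2
    rw [mul_inv_rev, inv_eq_of_mul_eq_one_right hX2, inv_eq_of_mul_eq_one_right hY2] at hinv
    exact hinv.symm
  -- the six members
  obtain ⟨d', hd', hdne, hdc⟩ := hpart d hd
  obtain ⟨f, hf, hdf⟩ := FischerLayer.exists_adj' hG hclass hD2 hd
  obtain ⟨f', hf', hfne, hfc⟩ := hpart f hf
  set g := cj d f with hg
  set g' := cj d f' with hg'
  have hgD : g ∈ D := cj_mem hG hd hf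
  have hg'D : g' ∈ D := cj_mem hG hd hf'
  have hgne : g' ≠ g := fun h => hfne (cj_inj hG hd h)
  have hgc : Commute g g' := (commute_cj hG hd f f').2 hfc
  have hdg : ¬ Commute d g := fun h => hdf (by
    rw [hg, commute_swap hG hd, cj_self hG hd] at h; exact h)
  have hfg : ¬ Commute f g := fun h => hdf (by
    rw [hg, cj_comm hG hd hf hdf, commute_swap hG hf, cj_self hG hf] at h; exact h.symm)
  set Z := d * d' with hZdef
  set Zf := f * f' with hZfdef
  set Zg := g * g' with hZgdef
  obtain ⟨r1, r2, r3⟩ := rule d hd d' hd' f hf f' hf' hdne hdc hfne hfc hdf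
  replace r2 : Commute Z Zf := r2
  replace r3 : d * Zf * d = Z * Zf := r3
  have hZg : Zg = d * Zf * d := by
    rw [hZgdef, hg, hg']; simp only [cj, mul_assoc]; rw [← mul_assoc d d, sq hG hd, one_mul]
    simp [hZfdef, mul_assoc]
  have hZg' : Zg = Z * Zf := hZg.trans r3
  have hsq : ∀ x ∈ D, ∀ x' ∈ D, Commute x x' → (x * x') * (x * x') = 1 := by
    intro x hx x' hx' hc
    rw [mul_assoc, ← mul_assoc x', ← hc.eq, mul_assoc x x', sq hG hx', mul_one, sq hG hx]
  have hne1 : ∀ x ∈ D, ∀ x' ∈ D, x' ≠ x → x * x' ≠ 1 := fun x hx x' hx' hne h =>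
    hne (by rw [eq_inv_of_mul_eq_one_right h, inv_eq hG hx])
  have hsix : ∀ h ∈ D, h = d ∨ h = d' ∨ h = f ∨ h = f' ∨ h = g ∨ h = g' := by
    intro h hh
    by_contra hno
    simp only [not_or] at hno
    obtain ⟨n1, n2, n3, n4, n5, n6⟩ := hno
    have hdh : ¬ Commute d h := fun e => (huniq d hd d' hd' h hh hdne hdc e).elim n1 n2
    have hfh : ¬ Commute f h := fun e => (huniq f hf f' hf' h hh hfne hfc e).elim n3 n4
    have hgh : ¬ Commute g h := fun e => (huniq g hgD g' hg'D h hh hgne hgc e).elim n5 n6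
    obtain ⟨h', hh', hhne, hhc⟩ := hpart h hh
    obtain ⟨-, s2, s3⟩ := rule f hf f' hf' h hh h' hh' hfne hfc hhne hhc hfh
    obtain ⟨-, t2, t3⟩ := rule d hd d' hd' h hh h' hh' hdne hdc hhne hhc hdh
    obtain ⟨-, u2, u3⟩ := rule g hgD g' hg'D h hh h' hh' hgne hgc hhne hhc hgh
    set Zh := h * h' with hZhdef
    replace s3 : f * Zh * f = Zf * Zh := s3
    replace t3 : d * Zh * d = Z * Zh := t3
    replace u3 : g * Zh * g = Zg * Zh := u3
    set k := cj f h with hk
    set k' := cj f h' with hk'
    have hkD := cj_mem hG hf hh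
    have hW : k * k' = Zf * Zh := by
      rw [← s3, hk, hk']; simp only [cj, mul_assoc]; rw [← mul_assoc f f, sq hG hf, one_mul]
      simp [hZhdef, mul_assoc]
    have hdW : d * (Zf * Zh) * d = Zf * Zh := by
      calc d * (Zf * Zh) * d = (d * Zf * d) * (d * Zh * d) := by
            simp only [mul_assoc]; rw [← mul_assoc d d, sq hG hd, one_mul]
        _ = (Z * Zf) * (Z * Zh) := by rw [r3, t3]
        _ = (Z * Z) * (Zf * Zh) := by
            rw [mul_assoc Z Zf, ← mul_assoc Zf Z, ← r2.eq]; simp only [mul_assoc]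
        _ = Zf * Zh := by rw [hsq d hd d' hd' hdc, one_mul]
    have hkne : k' ≠ k := fun e => hhne (cj_inj hG hf e)
    have hkc : Commute k k' := (commute_cj hG hf h h').2 hhc
    by_cases hdk : Commute d k
    · have hkd : k * k' = Z := by
        have hk'D := cj_mem hG hf hh'
        rcases huniq d hd d' hd' k hkD hdne hdc hdk with e | e
        · rw [e] at hkc hkne ⊢
          rcases huniq d hd d' hd' k' hk'D hdne hdc hkc with e' | e'
          · exact absurd e' hkne
          · rw [e']
        · rw [e] at hkc hkne ⊢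
          rcases huniq d' hd' d hd k' hk'D (Ne.symm hdne) hdc.symm hkc with e' | e'
          · exact absurd e' hkne
          · rw [e', hZdef, hdc.eq]
      have hZh : Zh = Zg := by
        rw [hZg', r2.eq, ← hkd, hW, ← mul_assoc, hsq f hf f' hf' hfc, one_mul]
      have h1 : g * Zh * g = 1 := by rw [u3, hZh, hsq g hgD g' hg'D hgc]
      have h2 : g * (g * Zh * g) * g = g * 1 * g := by rw [h1]
      simp only [mul_one, sq hG hgD, ← mul_assoc, one_mul] at h2
      rw [mul_assoc, sq hG hgD, mul_one] at h2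
      exact hne1 h hh h' hh' hhne h2
    · obtain ⟨-, -, v3⟩ := rule d hd d' hd' k hkD k' (cj_mem hG hf hh') hdne hdc hkne hkc hdk
      rw [hW, hdW] at v3
      have h1 := mul_right_cancel ((one_mul (Zf * Zh)).trans v3)
      exact hne1 d hd d' hd' hdne h1.symm
  -- the normal four-group
  let N : Subgroup G :=
    { carrier := {1, Z, Zf, Zg}
      one_mem' := Or.inl rfl
      mul_mem' := fun {a b} ha hb => by
        have hZ2 : Z * Z = 1 := hsq d hd d' hd' hdc
        have hF2 : Zf * Zf = 1 := hsq f hf f' hf' hfc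
        have hG2 : Zg * Zg = 1 := hsq g hgD g' hg'D hgc
        have c0 : Z * Zf = Zg := hZg'.symm
        have c0' : Zf * Z = Zg := by rw [← r2.eq]; exact hZg'.symm
        have c1 : Z * Zg = Zf := by rw [hZg', ← mul_assoc, hZ2, one_mul]
        have c2 : Zg * Z = Zf := by rw [hZg', r2.eq, mul_assoc, hZ2, mul_one]
        have c3 : Zf * Zg = Z := by rw [hZg', r2.eq, ← mul_assoc, hF2, one_mul]
        have c4 : Zg * Zf = Z := by rw [hZg', mul_assoc, hF2, mul_one]
        simp only [Set.mem_insert_iff, Set.mem_singleton_iff] at ha hb ⊢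
        rcases ha with rfl | rfl | rfl | rfl <;> rcases hb with rfl | rfl | rfl | rfl <;>
          simp [hZ2, hF2, hG2, c0, c0', c1, c2, c3, c4]
      inv_mem' := fun {a} ha => by
        simp only [Set.mem_insert_iff, Set.mem_singleton_iff] at ha ⊢
        rcases ha with rfl | rfl | rfl | rfl
        · exact Or.inl inv_one
        · rw [inv_eq_of_mul_eq_one_right (hsq d hd d' hd' hdc)]; exact Or.inr (Or.inl rfl)
        · rw [inv_eq_of_mul_eq_one_right (hsq f hf f' hf' hfc)]; exact Or.inr (Or.inr (Or.inl rfl))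
        · rw [inv_eq_of_mul_eq_one_right (hsq g hgD g' hg'D hgc)]
          exact Or.inr (Or.inr (Or.inr rfl)) }
  have hNcard : Nat.card N ≤ 4 := by
    refine (Nat.card_coe_set_eq ({1, Z, Zf, Zg} : Set G)).le.trans ?_
    calc ({1, Z, Zf, Zg} : Set G).ncard ≤ ({Z, Zf, Zg} : Set G).ncard + 1 := Set.ncard_insert_le _ _
      _ ≤ ({Zf, Zg} : Set G).ncard + 1 + 1 := by gcongr; exact Set.ncard_insert_le _ _
      _ ≤ 4 := by
        have := Set.ncard_insert_le Zf ({Zg} : Set G)
        simp only [Set.ncard_singleton] at this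
        omega
  haveI hNn : N.Normal := by
    have hZof : ∀ x ∈ D, ∀ x' ∈ D, x' ≠ x → Commute x x' → x * x' ∈ N := by
      intro x hx x' hx' hne hc
      have key : ∀ a ∈ D, ∀ a' ∈ D, a' ≠ a → Commute a a' → (x = a ∨ x = a') → x * x' = a * a' := by
        intro a ha a' ha' hne' hc' h
        rcases h with rfl | rfl
        · rcases huniq x hx a' ha' x' hx' hne' hc' hc with e | e
          · exact absurd e hne
          · rw [e]
        · rcases huniq x hx a ha x' hx' (Ne.symm hne') hc'.symm hc with e | e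
          · exact absurd e hne
          · rw [e, hc'.eq]
      rcases hsix x hx with e | e | e | e | e | e
      · exact key d hd d' hd' hdne hdc (Or.inl e) ▸ Or.inr (Or.inl rfl)
      · exact key d hd d' hd' hdne hdc (Or.inr e) ▸ Or.inr (Or.inl rfl)
      · exact key f hf f' hf' hfne hfc (Or.inl e) ▸ Or.inr (Or.inr (Or.inl rfl))
      · exact key f hf f' hf' hfne hfc (Or.inr e) ▸ Or.inr (Or.inr (Or.inl rfl))
      · exact key g hgD g' hg'D hgne hgc (Or.inl e) ▸ Or.inr (Or.inr (Or.inr rfl))
      · exact key g hgD g' hg'D hgne hgc (Or.inr e) ▸ Or.inr (Or.inr (Or.inr rfl))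
    refine ⟨fun n hn k => ?_⟩
    have hconjpair : ∀ x ∈ D, ∀ x' ∈ D, x' ≠ x → Commute x x' → k * (x * x') * k⁻¹ ∈ N := by
      intro x hx x' hx' hne hc
      rw [show k * (x * x') * k⁻¹ = (k * x * k⁻¹) * (k * x' * k⁻¹) by simp [mul_assoc]]
      exact hZof _ (hG.2.1 k x hx) _ (hG.2.1 k x' hx')
        (fun e => hne (mul_left_cancel (mul_right_cancel e))) ((Commute.conj_iff k).2 hc)
    rcases hn with rfl | rfl | rfl | rfl
    · rw [mul_one, mul_inv_cancel]; exact N.one_mem
    · exact hconjpair d hd d' hd' hdne hdc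
    · exact hconjpair f hf f' hf' hfne hfc
    · exact hconjpair g hgD g' hg'D hgne hgc
  set H := Subgroup.zpowers (d * f) ⊔ Subgroup.zpowers d with hH
  have hdH : d ∈ H := le_sup_right (α := Subgroup G) (Subgroup.mem_zpowers d)
  have hfH : f ∈ H := by
    have := H.mul_mem hdH (le_sup_left (α := Subgroup G) (Subgroup.mem_zpowers (d * f)))
    rwa [← mul_assoc, sq hG hd, one_mul] at this
  have hHcard : Nat.card H ≤ 6 := by
    have hn : Subgroup.zpowers d ≤ Subgroup.normalizer ((Subgroup.zpowers (d * f) : Subgroup G) : Set G) := by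
      rw [Subgroup.zpowers_le]
      refine CfsgLib.Components.mem_normalizer_iff_map_conj_eq.2 ?_
      rw [MonoidHom.map_zpowers]
      show Subgroup.zpowers (d * (d * f) * d⁻¹) = _
      rw [show d * (d * f) * d⁻¹ = (d * f)⁻¹ by
        simp only [mul_inv_rev, inv_eq hG hd, inv_eq hG hf, ← mul_assoc, sq hG hd, one_mul],
        Subgroup.zpowers_inv]
    have h1 : ((H : Subgroup G) : Set G) =
        (Subgroup.zpowers (d * f) : Set G) * (Subgroup.zpowers d : Set G) :=
      Subgroup.coe_mul_of_right_le_normalizer_left _ _ hn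
    have h2 := Set.natCard_mul_le (s := (Subgroup.zpowers (d * f) : Set G))
      (t := (Subgroup.zpowers d : Set G))
    rw [← h1] at h2
    refine h2.trans (le_of_eq ?_)
    rw [SetLike.coe_sort_coe, SetLike.coe_sort_coe, Nat.card_zpowers, Nat.card_zpowers,
      Basic.orderOf_mul_three hG.1 hd hf hdf, hG.1.1 d hd]
  have htop : N ⊔ H = ⊤ := by
    rw [eq_top_iff, ← hG.2.2, Subgroup.closure_le]
    have hmul : ∀ x x', x * x' ∈ N → x ∈ N ⊔ H → x' ∈ N ⊔ H := fun x x' h hx => by
      have := (N ⊔ H).mul_mem ((N ⊔ H).inv_mem hx) (le_sup_left (α := Subgroup G) h)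
      rwa [inv_mul_cancel_left] at this
    have hd1 : d ∈ N ⊔ H := le_sup_right (α := Subgroup G) hdH
    have hf1 : f ∈ N ⊔ H := le_sup_right (α := Subgroup G) hfH
    have hg1 : g ∈ N ⊔ H := (N ⊔ H).mul_mem ((N ⊔ H).mul_mem hd1 hf1) hd1
    intro x hx
    rcases hsix x hx with e | e | e | e | e | e <;> rw [e]
    · exact hd1
    · exact hmul d d' (Or.inr (Or.inl rfl)) hd1
    · exact hf1
    · exact hmul f f' (Or.inr (Or.inr (Or.inl rfl))) hf1
    · exact hg1
    · exact hmul g g' (Or.inr (Or.inr (Or.inr rfl))) hg1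
  have hle24 : Nat.card G ≤ 24 := by
    have h1 := Set.natCard_mul_le (s := (N : Set G)) (t := (H : Set G))
    rw [← Subgroup.normal_mul, htop] at h1
    rw [show Nat.card G = Nat.card ((⊤ : Subgroup G) : Set G) by simp]
    exact h1.trans (Nat.mul_le_mul hNcard hHcard)
  -- the two subgroups are complementary
  have h6 : Nat.card H = 6 := by
    have h3 : 3 ∣ Nat.card H := by
      rw [← Basic.orderOf_mul_three hG.1 hd hf hdf, ← Subgroup.orderOf_mk (d * f) (H.mul_mem hdH hfH)]
      exact orderOf_dvd_natCard _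
    have h2 : 2 ∣ Nat.card H := by
      rw [← hG.1.1 d hd, ← Subgroup.orderOf_mk d hdH]
      exact orderOf_dvd_natCard _
    have := Nat.le_of_dvd Nat.card_pos (Nat.Coprime.mul_dvd_of_dvd_of_dvd (by norm_num) h2 h3)
    omega
  have hnotH : ∀ x ∈ D, ∀ x' ∈ D, x' ≠ x → Commute x x' → x ∈ H → x' ∉ H := by
    intro x hx x' hx' hne hc hxH hx'H
    let F : Subgroup G :=
      { carrier := {1, x, x', x * x'}
        one_mem' := Or.inl rfl
        mul_mem' := fun {a b} ha hb => by
          have hx2 := sq hG hx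
          have hy2 := sq hG hx'
          have c1 : x' * x = x * x' := hc.eq.symm
          have c2 : x * (x * x') = x' := by rw [← mul_assoc, hx2, one_mul]
          have c3 : x' * (x * x') = x := by rw [← mul_assoc, c1, mul_assoc, hy2, mul_one]
          have c4 : x * x' * x = x' := by rw [mul_assoc, c1, c2]
          have c5 : x * x' * x' = x := by rw [mul_assoc, hy2, mul_one]
          have c6 : x * x' * (x * x') = 1 := by rw [← mul_assoc, c4, hy2]
          simp only [Set.mem_insert_iff, Set.mem_singleton_iff] at ha hb ⊢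
          rcases ha with rfl | rfl | rfl | rfl <;> rcases hb with rfl | rfl | rfl | rfl <;>
            simp [hx2, hy2, c1, c2, c3, c4, c5, c6]
        inv_mem' := fun {a} ha => by
          simp only [Set.mem_insert_iff, Set.mem_singleton_iff] at ha ⊢
          rcases ha with rfl | rfl | rfl | rfl
          · exact Or.inl inv_one
          · rw [inv_eq hG hx]; exact Or.inr (Or.inl rfl)
          · rw [inv_eq hG hx']; exact Or.inr (Or.inr (Or.inl rfl))
          · rw [inv_eq_of_mul_eq_one_right (hsq x hx x' hx' hc)]; exact Or.inr (Or.inr (Or.inr rfl)) }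
    have hF : F ≤ H := by
      intro a ha
      rcases ha with rfl | rfl | rfl | rfl
      · exact H.one_mem
      · exact hxH
      · exact hx'H
      · exact H.mul_mem hxH hx'H
    have hF4 : Nat.card F = 4 := by
      refine (Nat.card_coe_set_eq ({1, x, x', x * x'} : Set G)).trans ?_
      rw [Set.ncard_insert_of_notMem ?_ (Set.toFinite _), Set.ncard_insert_of_notMem ?_ (Set.toFinite _),
        Set.ncard_insert_of_notMem ?_ (Set.toFinite _), Set.ncard_singleton]
      · simp only [Set.mem_singleton_iff]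
        intro e
        exact Basic.ne_one (hG.1.1 x hx) (mul_eq_right.1 e.symm)
      · simp only [Set.mem_insert_iff, Set.mem_singleton_iff, not_or]
        exact ⟨fun e => hne e.symm, fun e => Basic.ne_one (hG.1.1 x' hx') (mul_eq_left.1 e.symm)⟩
      · simp only [Set.mem_insert_iff, Set.mem_singleton_iff, not_or]
        exact ⟨(Basic.ne_one (hG.1.1 x hx)).symm, (Basic.ne_one (hG.1.1 x' hx')).symm,
          (hne1 x hx x' hx' hne).symm⟩
    have := Subgroup.card_dvd_of_le hF
    rw [hF4, h6] at this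
    omega
  have hgH : g ∈ H := H.mul_mem (H.mul_mem hdH hfH) hdH
  have hZd : ∀ x x', x ∈ H → x * x' ∈ H → x' ∈ H := fun x x' h1 h2 => by
    have := H.mul_mem (H.inv_mem h1) h2
    rwa [inv_mul_cancel_left] at this
  have hdis : N ⊓ H = ⊥ := by
    rw [eq_bot_iff]
    rintro a ⟨ha, haH⟩
    rcases ha with rfl | rfl | rfl | rfl
    · exact Subgroup.one_mem _
    · exact absurd (hZd d d' hdH haH) (hnotH d hd d' hd' hdne hdc hdH)
    · exact absurd (hZd f f' hfH haH) (hnotH f hf f' hf' hfne hfc hfH)
    · exact absurd (hZd g g' hgH haH) (hnotH g hgD g' hg'D hgne hgc hgH)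
  have hcompl : N.IsComplement' H := Subgroup.isComplement'_of_disjoint_and_mul_eq_univ
    (disjoint_iff.2 hdis) (by rw [← Subgroup.normal_mul, htop, Subgroup.coe_top])
  have hZne : Z ≠ Zf ∧ Z ≠ Zg := by
    refine ⟨fun e => hne1 g hgD g' hg'D hgne ?_, fun e => hne1 f hf f' hf' hfne ?_⟩
    · rw [← hZgdef, hZg', ← e, hsq d hd d' hd' hdc]
    · exact (mul_left_cancel ((mul_one Z).trans (e.trans hZg'))).symm
  have hN4 : Nat.card N = 4 := by
    refine (Nat.card_coe_set_eq ({1, Z, Zf, Zg} : Set G)).trans ?_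
    rw [Set.ncard_insert_of_notMem ?_ (Set.toFinite _), Set.ncard_insert_of_notMem ?_ (Set.toFinite _),
      Set.ncard_insert_of_notMem ?_ (Set.toFinite _), Set.ncard_singleton]
    · simp only [Set.mem_singleton_iff, hZg']
      intro e
      exact hne1 d hd d' hd' hdne (mul_eq_right.1 e.symm)
    · simp only [Set.mem_insert_iff, Set.mem_singleton_iff, not_or]
      exact hZne
    · simp only [Set.mem_insert_iff, Set.mem_singleton_iff, not_or]
      exact ⟨(hne1 d hd d' hd' hdne).symm, (hne1 f hf f' hf' hfne).symm,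
        (hne1 g hgD g' hg'D hgne).symm⟩
  have hG24 : Nat.card G = 24 := by rw [← hcompl.card_mul, hN4, h6]
  have hidx : H.index = 4 := by
    have := H.card_mul_index
    rw [h6, hG24] at this
    omega
  -- the action on the cosets is faithful
  set ι := MulAction.toPermHom G (G ⧸ H) with hι
  have hker : ι.ker = ⊥ := by
    rw [hι, ← Subgroup.normalCore_eq_ker, eq_bot_iff]
    intro k hk
    have hkH := H.normalCore_le hk
    have hKN : ∀ n ∈ N, Commute k n := by
      intro n hn
      have hm : k * n * k⁻¹ * n⁻¹ ∈ N ⊓ H := by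
        refine ⟨N.mul_mem (hNn.conj_mem n hn k) (N.inv_mem hn), H.normalCore_le ?_⟩
        have h1 := (Subgroup.normalCore_normal H).conj_mem _ (H.normalCore.inv_mem hk) n
        simpa [mul_assoc] using H.normalCore.mul_mem hk h1
      rw [hdis, Subgroup.mem_bot] at hm
      exact mul_inv_eq_iff_eq_mul.1 (mul_inv_eq_one.1 hm)
    have hfix : ∀ x ∈ D, ∀ x' ∈ D, x' ≠ x → Commute x x' → x ∈ H → x * x' ∈ N → Commute k x := by
      intro x hx x' hx' hne hc hxH hxN
      have hy : k * x * k⁻¹ ∈ D := hG.2.1 k x hx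
      have hyH : k * x * k⁻¹ ∈ H := H.mul_mem (H.mul_mem hkH hxH) (H.inv_mem hkH)
      have hprod : (k * x * k⁻¹) * (k * x' * k⁻¹) = x * x' := by
        calc (k * x * k⁻¹) * (k * x' * k⁻¹) = k * (x * x') * k⁻¹ := by simp [mul_assoc]
          _ = x * x' := by rw [(hKN _ hxN).eq, mul_assoc, mul_inv_cancel, mul_one]
      have hcy : Commute x (k * x * k⁻¹) := by
        by_contra hn
        obtain ⟨-, -, r⟩ := rule x hx x' hx' _ hy _ (hG.2.1 k x' hx') hne hc
          (fun e => hne (mul_left_cancel (mul_right_cancel e))) ((Commute.conj_iff k).2 hc) hn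
        have hxz : x * (x * x') * x = x * x' := by
          rw [← mul_assoc, sq hG hx, one_mul, hc.eq]
        rw [hprod, hxz] at r
        exact hne1 x hx x' hx' hne (mul_eq_left.1 r.symm)
      rcases huniq x hx x' hx' _ hy hne hc hcy with e | e
      · exact mul_inv_eq_iff_eq_mul.1 e
      · exact absurd (e ▸ hyH) (hnotH x hx x' hx' hne hc hxH)
    have hkd := hfix d hd d' hd' hdne hdc hdH (Or.inr (Or.inl rfl))
    have hkf := hfix f hf f' hf' hfne hfc hfH (Or.inr (Or.inr (Or.inl rfl)))
    have hcoe : ((H : Subgroup G) : Set G) =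
        (Subgroup.zpowers (d * f) : Set G) * (Subgroup.zpowers d : Set G) := by
      refine Subgroup.coe_mul_of_right_le_normalizer_left _ _ ?_
      rw [Subgroup.zpowers_le]
      refine CfsgLib.Components.mem_normalizer_iff_map_conj_eq.2 ?_
      rw [MonoidHom.map_zpowers]
      show Subgroup.zpowers (d * (d * f) * d⁻¹) = _
      rw [show d * (d * f) * d⁻¹ = (d * f)⁻¹ by
        simp only [mul_inv_rev, inv_eq hG hd, inv_eq hG hf, ← mul_assoc, sq hG hd, one_mul],
        Subgroup.zpowers_inv]
    obtain ⟨a, ha, b, hb, rfl⟩ : k ∈ (Subgroup.zpowers (d * f) : Set G) *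
        (Subgroup.zpowers d : Set G) := hcoe ▸ hkH
    obtain ⟨i, rfl⟩ := Subgroup.mem_zpowers_iff.1 ha
    obtain ⟨j, rfl⟩ := Subgroup.mem_zpowers_iff.1 hb
    have h1 : Commute ((d * f) ^ i) d := by
      have := hkd.mul_left ((Commute.refl d).zpow_left (-j))
      simpa [mul_assoc, ← zpow_add] using this
    have h2 : ((d * f) ^ i) ^ 2 = 1 := by
      have e : d * (d * f) ^ i * d⁻¹ = ((d * f) ^ i)⁻¹ := by
        rw [← conj_zpow, ← inv_zpow]
        congr 1
        simp only [mul_inv_rev, inv_eq hG hd, inv_eq hG hf, ← mul_assoc, sq hG hd, one_mul]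
      rw [← h1.eq, mul_assoc, mul_inv_cancel, mul_one] at e
      rw [pow_two]
      exact mul_eq_one_iff_eq_inv.2 e
    have h3 : ((d * f) ^ i) ^ 3 = 1 := by
      rw [← zpow_natCast, ← zpow_mul, mul_comm, zpow_mul, zpow_natCast,
        ← Basic.orderOf_mul_three hG.1 hd hf hdf, pow_orderOf_eq_one, one_zpow]
    rw [pow_succ, h2, one_mul] at h3
    simp only [h3, one_mul] at hkf ⊢
    rcases Int.even_or_odd j with ⟨l, rfl⟩ | ⟨l, rfl⟩
    · rw [← two_mul, zpow_mul, zpow_two, sq hG hd, one_zpow]; exact Subgroup.one_mem _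
    · rw [zpow_add, zpow_mul, zpow_two, sq hG hd, one_zpow, one_mul, zpow_one] at hkf
      exact absurd hkf hdf
  have hinj : Function.Injective ι := (MonoidHom.ker_eq_bot_iff ι).1 hker
  have hbij : Function.Bijective ι := by
    refine (Nat.bijective_iff_injective_and_card _).2 ⟨hinj, ?_⟩
    rw [hG24, Nat.card_perm, ← Subgroup.index_eq_card, hidx]
    rfl
  exact ⟨(MulEquiv.ofBijective ι hbij).trans
    (Finite.equivFinOfCardEq (show Nat.card (G ⧸ H) = 4 from hidx)).permCongrHom⟩

end Cfsg.Agent.S5355
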