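import Cfsg.Statements.S5356
import Cfsg.Agent.Lib.Sporadic.FischerLayer

set_option autoImplicit false
open Cfsg CfsgLib.Sporadic CfsgLib.ThreeTransp

namespace Cfsg.Agent.S5356

/-- Let D be a conjugacy class of 3-transpositions generating the finite group G, with at least two members, and d a member of D such that every member of D commuting with d commutes with exactly the same members of D as d. Then there is a Sylow 3-subgroup P of G normalized by d such that G is generated by d, P and the largest normal 2-subgroup of G. -/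
theorem result {G : Type*} [Group G] [Finite G] {D : Set G} (hD : Cfsg.IsThreeTranspositionClass D) (hD2 : ∃ a ∈ D, ∃ b ∈ D, a ≠ b) {d : G} (hd : d ∈ D) (hV : {y : G | y ∈ D ∧ Commute d y} = {v : G | v ∈ D ∧ ∀ e ∈ D, Commute v e ↔ Commute d e}) : ∃ P : Sylow 3 G, d ∈ Subgroup.normalizer (P : Set G) ∧ Subgroup.zpowers d ⊔ (P : Subgroup G) ⊔ Cfsg.pCore 2 G = ⊤ := by
  have hG := Basic.class_isGroup hD
  have hclass : ∀ x ∈ D, ∀ y ∈ D, ∃ g : G, g * x * g⁻¹ = y := fun x hx y hy =>
    Basic.class_conj hD hx hy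
  have hVd : ∀ y ∈ D, Commute d y → FischerCores.SameV D d y := fun y hy hc =>
    ⟨hd, hy, fun e he => (((Set.ext_iff.1 hV y).1 ⟨hy, hc⟩).2 e he).symm⟩
  have hSame : ∀ x ∈ D, ∀ y ∈ D, Commute x y → FischerCores.SameV D x y := by
    intro x hx y hy hc
    obtain ⟨g, rfl⟩ := hclass d hd x hx
    have h1 := hVd (g⁻¹ * y * g) (by simpa using hG.2.1 g⁻¹ y hy)
      ((Commute.conj_iff g).1 (by simpa [mul_assoc] using hc))
    simpa [mul_assoc] using FischerCores.sameV_conj hG g h1
  haveI : Fact (Nat.Prime 3) := ⟨Nat.prime_three⟩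
  haveI : Fact (Nat.Prime 2) := ⟨Nat.prime_two⟩
  obtain ⟨f, hf, hdf⟩ := FischerLayer.exists_adj' hG hclass hD2 hd
  set Q := Cfsg.pCore 2 G with hQ
  let π := QuotientGroup.mk' Q
  have hQp : IsPGroup 2 Q := CfsgLib.Solvable.Cores.isPGroup_pCore 2
  have hcube : ∀ x ∈ D, ∀ y ∈ D, ¬ Commute x y → (x * y) ^ 3 = 1 := fun x hx y hy h =>
    (congrArg ((x * y) ^ ·) (Basic.orderOf_mul_three hG.1 hx hy h)).symm.trans (pow_orderOf_eq_one _)
  have hsep : ∀ x ∈ D, ∀ y ∈ D, Commute (π x) (π y) → π x = π y := by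
    intro x hx y hy hc
    by_cases h : Commute x y
    · exact QuotientGroup.eq.2 (by
        rw [FischerTransitivity.inv_eq hG hx]
        exact FischerCores.mul_mem_pCore_two hG (hSame x hx y hy h))
    · exfalso
      have h3 : (π x * π y) ^ 3 = 1 := by rw [← map_mul, ← map_pow, hcube x hx y hy h, map_one]
      have h2 : (π x * π y) ^ 2 = 1 := by
        rw [hc.mul_pow, ← map_pow, ← map_pow, pow_two, pow_two, FischerTransitivity.sq hG hx,
          FischerTransitivity.sq hG hy, map_one, one_mul]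
      rw [pow_succ, h2, one_mul, ← map_mul] at h3
      have hm : x * y ∈ Q := (QuotientGroup.eq_one_iff _).1 h3
      have h1 := FischerCores.eq_one_of_pCore Nat.prime_two Nat.prime_three (by norm_num) hm
        (hcube x hx y hy h)
      exact h (by rw [eq_inv_of_mul_eq_one_left h1, FischerTransitivity.inv_eq hG hy])
  have hnone : ∀ x ∈ D, π x ≠ 1 := by
    intro x hx h1
    have hall : ∀ z ∈ D, z ∈ Q := by
      intro z hz
      obtain ⟨g, rfl⟩ := hclass x hx z hz
      exact (CfsgLib.Solvable.Cores.pCore_normal 2).conj_mem x ((QuotientGroup.eq_one_iff x).1 h1) g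
    exact hdf (SylowWidth.commute_of_two_group hG.1 hQp hd hf (hall d hd) (hall f hf))
  have hS : Cfsg.IsThreeTranspositionSet (π '' D) := by
    refine ⟨?_, ?_⟩
    · rintro _ ⟨x, hx, rfl⟩
      exact orderOf_eq_prime (by rw [← map_pow, pow_two, FischerTransitivity.sq hG hx, map_one])
        (hnone x hx)
    · rintro _ ⟨x, hx, rfl⟩ _ ⟨y, hy, rfl⟩
      rcases hG.1.2 x hx y hy with h | h
      · exact Or.inl (by rw [← map_mul, ← map_pow, h, map_one])
      · exact Or.inr (by rw [← map_mul, ← map_pow, h, map_one])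
  have hconj : ∀ g : G ⧸ Q, ∀ e ∈ π '' D, g * e * g⁻¹ ∈ π '' D := by
    intro g
    obtain ⟨g, rfl⟩ := QuotientGroup.mk'_surjective Q g
    rintro _ ⟨x, hx, rfl⟩
    exact ⟨g * x * g⁻¹, hG.2.1 g x hx, by simp [π]⟩
  have hw : ∀ x ∈ π '' D, ∀ y ∈ π '' D, Commute x y → x = y := by
    rintro _ ⟨x, hx, rfl⟩ _ ⟨y, hy, rfl⟩ h
    exact hsep x hx y hy h
  -- the largest 3-group normalized by `d` containing `d * f`
  have hgrow : ∀ R : Subgroup G, IsPGroup 3 R → ∀ z : G, z ∈ Subgroup.normalizer (R : Set G) →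
      (∃ k : ℕ, z ^ 3 ^ k = 1) → IsPGroup 3 ↥(R ⊔ Subgroup.zpowers z) := by
    rintro R hR z hz ⟨k, hk⟩
    refine IsPGroup.to_sup_of_normal_left' hR ?_ ((Subgroup.zpowers_le).2 hz)
    rintro ⟨w, hw⟩
    obtain ⟨i, rfl⟩ := Subgroup.mem_zpowers_iff.1 hw
    refine ⟨k, Subtype.ext ?_⟩
    show (z ^ i) ^ 3 ^ k = 1
    rw [← zpow_natCast, ← zpow_mul, mul_comm, zpow_mul, zpow_natCast, hk, one_zpow]
  have hinvert : ∀ e ∈ D, ¬ Commute d e → d * (d * e) * d⁻¹ = (d * e)⁻¹ := by
    intro e he _
    simp only [mul_inv_rev, FischerTransitivity.inv_eq hG hd, FischerTransitivity.inv_eq hG he,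
      ← mul_assoc, FischerTransitivity.sq hG hd, one_mul]
  have hnormz : ∀ e ∈ D, ¬ Commute d e →
      d ∈ Subgroup.normalizer ((Subgroup.zpowers (d * e) : Subgroup G) : Set G) := by
    intro e he hn
    refine CfsgLib.Components.mem_normalizer_iff_map_conj_eq.2 ?_
    rw [MonoidHom.map_zpowers]
    show Subgroup.zpowers (d * (d * e) * d⁻¹) = _
    rw [hinvert e he hn, Subgroup.zpowers_inv]
  obtain ⟨R, ⟨hR, hdR, hfR⟩, hmax⟩ :=
    ({R : Subgroup G | IsPGroup 3 R ∧ d ∈ Subgroup.normalizer (R : Set G) ∧ d * f ∈ R}).exists_max_image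
      (fun R => Nat.card R) (Set.toFinite _) ⟨Subgroup.zpowers (d * f), by
        refine ⟨IsPGroup.of_card (n := 1) ?_, hnormz f hf hdf, Subgroup.mem_zpowers _⟩
        rw [Nat.card_zpowers, Basic.orderOf_mul_three hG.1 hd hf hdf, pow_one]⟩
  have hbest : ∀ z : G, z ∈ Subgroup.normalizer (R : Set G) → (∃ k : ℕ, z ^ 3 ^ k = 1) →
      d ∈ Subgroup.normalizer ((R ⊔ Subgroup.zpowers z : Subgroup G) : Set G) → z ∈ R := by
    intro z hz hk hdz
    have h := hmax (R ⊔ Subgroup.zpowers z) ⟨hgrow R hR z hz hk, hdz, le_sup_left (α := Subgroup G) hfR⟩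
    have := Subgroup.eq_of_le_of_card_ge (le_sup_left (b := Subgroup.zpowers z)) h
    rw [this]
    exact le_sup_right (α := Subgroup G) (Subgroup.mem_zpowers z)
  have hsupnorm : ∀ A B : Subgroup G, d ∈ Subgroup.normalizer (A : Set G) →
      d ∈ Subgroup.normalizer (B : Set G) → d ∈ Subgroup.normalizer ((A ⊔ B : Subgroup G) : Set G) := by
    intro A B hA hB
    rw [CfsgLib.Components.mem_normalizer_iff_map_conj_eq] at hA hB ⊢
    rw [Subgroup.map_sup, hA, hB]
  obtain ⟨P, hRP⟩ := hR.exists_le_sylow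
  have hPR : (P : Subgroup G) = R := by
    by_contra hne
    haveI := P.isPGroup'.isNilpotent
    have hlt : R.subgroupOf (P : Subgroup G) < ⊤ := lt_top_iff_ne_top.2 fun h =>
      hne (le_antisymm (Subgroup.subgroupOf_eq_top.1 h) hRP)
    obtain ⟨⟨x, hxP⟩, hxN, hxR⟩ := SetLike.exists_of_lt
      (Group.normalizerCondition_of_isNilpotent (G := ↥(P : Subgroup G)) (R.subgroupOf P) hlt)
    have hxR' : x ∉ R := hxR
    have hxN' : x ∈ Subgroup.normalizer (R : Set G) := by
      rw [Subgroup.mem_normalizer_iff] at hxN ⊢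
      intro n
      by_cases hnP : n ∈ (P : Subgroup G)
      · exact hxN ⟨n, hnP⟩
      · refine ⟨fun h => absurd (hRP h) hnP, fun h => absurd ?_ hnP⟩
        simpa [mul_assoc] using (P : Subgroup G).mul_mem ((P : Subgroup G).mul_mem
          ((P : Subgroup G).inv_mem hxP) (hRP h)) hxP
    have hfN : f ∈ Subgroup.normalizer (R : Set G) := by
      have h := (Subgroup.normalizer (R : Set G)).mul_mem hdR (Subgroup.le_normalizer hfR)
      rwa [← mul_assoc, FischerTransitivity.sq hG hd, one_mul] at h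
    set e := x * d * x⁻¹ with he
    have heD : e ∈ D := hG.2.1 x d hd
    have heN : e ∈ Subgroup.normalizer (R : Set G) :=
      (Subgroup.normalizer (R : Set G)).mul_mem ((Subgroup.normalizer (R : Set G)).mul_mem hxN' hdR)
        ((Subgroup.normalizer (R : Set G)).inv_mem hxN')
    -- an element centralizing `d` in the same coset
    obtain ⟨c, hcN, hcd, r, hr, hcimg⟩ : ∃ c ∈ Subgroup.normalizer (R : Set G), Commute c d ∧
        ∃ r ∈ R, π c = π r * π x := by
      by_cases hde : Commute d e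
      · refine ⟨(f * (d * e) * f)⁻¹ * x, ?_, ?_, 1, R.one_mem, ?_⟩
        · exact (Subgroup.normalizer (R : Set G)).mul_mem ((Subgroup.normalizer (R : Set G)).inv_mem
            ((Subgroup.normalizer (R : Set G)).mul_mem ((Subgroup.normalizer (R : Set G)).mul_mem hfN
              ((Subgroup.normalizer (R : Set G)).mul_mem hdR heN)) hfN)) hxN'
        · have hef : ¬ Commute e f := fun h => hdf (((hSame d hd e heD hde).2.2 f hf).2 h)
          have hm := FischerTransitivity.move hG hd heD hf hde hdf hef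
          rw [commute_iff_eq, ← mul_inv_eq_iff_eq_mul]
          calc (f * (d * e) * f)⁻¹ * x * d * ((f * (d * e) * f)⁻¹ * x)⁻¹
              = (f * (d * e) * f)⁻¹ * e * (f * (d * e) * f) := by
                rw [he]; simp only [mul_inv_rev, inv_inv, mul_assoc]
            _ = d := by
                conv_lhs => arg 1; arg 2; rw [← hm]
                simp [mul_assoc]
        · have hq : π (d * e) = 1 :=
            (QuotientGroup.eq_one_iff _).2 (FischerCores.mul_mem_pCore_two hG (hSame d hd e heD hde))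
          rw [map_mul, map_inv, map_mul, map_mul, hq, mul_one, ← map_mul,
            FischerTransitivity.sq hG hf, map_one, inv_one, one_mul]
      · have hy : d * e ∈ R := by
          refine hbest _ ((Subgroup.normalizer (R : Set G)).mul_mem hdR heN)
            ⟨1, by rw [pow_one]; exact hcube d hd e heD hde⟩ ?_
          exact hsupnorm _ _ hdR (hnormz e heD hde)
        refine ⟨(d * e)⁻¹ * x, (Subgroup.normalizer (R : Set G)).mul_mem
          ((Subgroup.normalizer (R : Set G)).inv_mem (Subgroup.le_normalizer hy)) hxN', ?_,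
          (d * e)⁻¹, R.inv_mem hy, by rw [map_mul]⟩
        rw [commute_iff_eq, ← mul_inv_eq_iff_eq_mul]
        have hbr := Basic.braid hG.1 hd heD hde
        calc (d * e)⁻¹ * x * d * ((d * e)⁻¹ * x)⁻¹ = (d * e)⁻¹ * e * (d * e) := by
              rw [he]; simp only [mul_inv_rev, inv_inv, mul_assoc]
          _ = e * (d * e * d) * e := by
              simp only [mul_inv_rev, FischerTransitivity.inv_eq hG hd,
                FischerTransitivity.inv_eq hG heD, mul_assoc]
          _ = d := by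
              rw [hbr]
              simp [mul_assoc, FischerTransitivity.sq hG heD, ← mul_assoc e e]
    -- its 3-part extends the group
    obtain ⟨k, hk⟩ := P.isPGroup' ⟨r * x, (P : Subgroup G).mul_mem (hRP hr) hxP⟩
    have hk' : (r * x) ^ 3 ^ k = 1 := by simpa using congrArg Subtype.val hk
    have hcQ : c ^ 3 ^ k ∈ Q := by
      rw [← QuotientGroup.eq_one_iff, ← QuotientGroup.mk'_apply, map_pow, hcimg, ← map_mul, ← map_pow,
        hk', map_one]
    obtain ⟨a, ha⟩ := hQp ⟨_, hcQ⟩
    have ha' : (c ^ 3 ^ k) ^ 2 ^ a = 1 := by simpa using congrArg Subtype.val ha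
    set z := c ^ 2 ^ a with hz
    have hzk : z ^ 3 ^ k = 1 := by rw [hz, ← pow_mul, mul_comm, pow_mul]; exact ha'
    have hzR : z ∈ R := by
      refine hbest z ((Subgroup.normalizer (R : Set G)).pow_mem hcN _) ⟨k, hzk⟩ ?_
      refine hsupnorm _ _ hdR ?_
      refine CfsgLib.Components.mem_normalizer_iff_map_conj_eq.2 ?_
      rw [MonoidHom.map_zpowers]
      show Subgroup.zpowers (d * z * d⁻¹) = _
      rw [← (hcd.pow_left (2 ^ a)).eq, mul_assoc, mul_inv_cancel, mul_one]
    have hrx : (π c) ^ 3 ^ k = 1 := by rw [hcimg, ← map_mul, ← map_pow, hk', map_one]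
    have hcR : π c ∈ R.map π := by
      have hcop : (orderOf (π c)).Coprime (2 ^ a) := by
        refine Nat.Coprime.coprime_dvd_left (orderOf_dvd_of_pow_eq_one hrx) ?_
        exact ((Nat.coprime_primes Nat.prime_three Nat.prime_two).2 (by norm_num)).pow _ _
      obtain ⟨j, hj⟩ := exists_pow_eq_self_of_coprime hcop.symm
      rw [← hj, ← map_pow, ← hz, ← map_pow]
      exact ⟨z ^ j, R.pow_mem hzR j, rfl⟩
    rw [hcimg] at hcR
    obtain ⟨s, hs, hse⟩ := hcR
    rw [← map_mul] at hse
    have hq : s⁻¹ * (r * x) ∈ Q := QuotientGroup.eq.1 hse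
    have hqP : s⁻¹ * (r * x) ∈ (P : Subgroup G) :=
      (P : Subgroup G).mul_mem ((P : Subgroup G).inv_mem (hRP hs)) ((P : Subgroup G).mul_mem (hRP hr) hxP)
    obtain ⟨b, hb⟩ := P.isPGroup' ⟨_, hqP⟩
    obtain ⟨b', hb'⟩ := hQp ⟨_, hq⟩
    have hone : s⁻¹ * (r * x) = 1 := by
      rw [← orderOf_eq_one_iff]
      exact Nat.eq_one_of_dvd_coprimes
        (((Nat.coprime_primes Nat.prime_three Nat.prime_two).2 (by norm_num)).pow b b')
        (orderOf_dvd_of_pow_eq_one (by simpa using congrArg Subtype.val hb))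
        (orderOf_dvd_of_pow_eq_one (by simpa using congrArg Subtype.val hb'))
    apply hxR'
    rw [show x = r⁻¹ * s by rw [inv_mul_eq_one.1 hone]; simp]
    exact R.mul_mem (R.inv_mem hr) hs
  refine ⟨P, show d ∈ Subgroup.normalizer ((P : Subgroup G) : Set G) by rw [hPR]; exact hdR, ?_⟩
  rw [eq_top_iff, ← hG.2.2, Subgroup.closure_le]
  intro y hy
  have hsurj : Function.Surjective π := QuotientGroup.mk'_surjective Q
  have hyd : π (d * y) ∈ ((P.mapSurjective hsurj : Sylow 3 (G ⧸ Q)) : Subgroup (G ⧸ Q)) := by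
    refine CfsgLib.Solvable.Cores.pCore_le_sylow _ ?_
    rw [map_mul]
    exact WidthOne.mul_mem_pCore hS hconj hw ⟨d, hd, rfl⟩ ⟨y, hy, rfl⟩
  rw [Sylow.coe_mapSurjective, ← Subgroup.mem_comap, Subgroup.comap_map_eq] at hyd
  have hker : π.ker = Q := QuotientGroup.ker_mk' Q
  rw [hker] at hyd
  have hy' : d * (d * y) = y := by rw [← mul_assoc, FischerTransitivity.sq hG hd, one_mul]
  rw [← hy', SetLike.mem_coe, sup_assoc]
  exact Subgroup.mul_mem_sup (Subgroup.mem_zpowers d) hyd

end Cfsg.Agent.S5356
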