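import Cfsg.Agent.Lib.ThreeTransp.ReflThree
import Cfsg.Statements.S5357
-- import your own Cfsg.Agent.* helpers here

set_option autoImplicit false
open scoped MatrixGroups
open Cfsg

namespace Cfsg.Agent.S5357
open CfsgLib.ThreeTransp.ReflThree CfsgLib.Orth QuadraticMap

/-- Let Q be a non-degenerate quadratic form on the n-dimensional coordinate space over the field with three elements, n ≥ 5, and c a non-zero scalar. In the subgroup of the isometry group of Q generated by the reflections in vectors v with Q(v) = c, these reflections form a single conjugacy class of 3-transpositions generating that subgroup. -/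
theorem result (n : ℕ) (hn : 5 ≤ n) (Q : QuadraticForm (ZMod 3) (Fin n → ZMod 3)) (hQ : (QuadraticMap.polarBilin Q).Nondegenerate) (c : ZMod 3) (hc : c ≠ 0) : Cfsg.IsThreeTranspositionClass {g : ↥(Cfsg.reflectionSubgroup (⇑Q) c) | (g : ↥(Cfsg.isometryGroup (ZMod 3) (⇑Q))) ∈ Cfsg.reflectionsOfNorm (⇑Q) c} := by
  set e := toOrth (Qf := ⇑Q) Q (fun _ => rfl)
  set S := {g : ↥(Cfsg.reflectionSubgroup (⇑Q) c) | (g : ↥(Cfsg.isometryGroup (ZMod 3) (⇑Q))) ∈ Cfsg.reflectionsOfNorm (⇑Q) c}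
  have hS : ∀ g, g ∈ S ↔ e (g : ↥(Cfsg.isometryGroup (ZMod 3) (⇑Q))) ∈ D0 Q c := by
    intro g
    show (g : ↥(Cfsg.isometryGroup (ZMod 3) (⇑Q))) ∈ Cfsg.reflectionsOfNorm (⇑Q) c ↔ _
    rw [reflectionsOfNorm_eq]
    exact Iff.rfl
  have hinj : Function.Injective (fun g : ↥(Cfsg.reflectionSubgroup (⇑Q) c) => e (g : ↥(Cfsg.isometryGroup (ZMod 3) (⇑Q)))) :=
    fun a b h => Subtype.ext (e.injective h)
  let φ : ↥(Cfsg.reflectionSubgroup (⇑Q) c) →* orthGroup Q := e.toMonoidHom.comp (Subgroup.subtype _)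
  have hφ : Function.Injective φ := hinj
  have hlift : ∀ x ∈ R0 Q c, ∃ g, φ g = x := fun x hx => by
    refine ⟨⟨e.symm x, ?_⟩, e.apply_symm_apply x⟩
    rw [reflectionSubgroup_eq, Subgroup.mem_comap]
    show e (e.symm x) ∈ R0 Q c
    rwa [e.apply_symm_apply]
  refine ⟨⟨fun d hd => ?_, fun d hd d' hd' => ?_⟩, ?_, ?_⟩
  · obtain ⟨v, hv, hv'⟩ := (hS d).1 hd
    rw [← orderOf_injective φ hφ, show φ d = refl Q v from hv'.symm]
    exact refl_order (by rw [hv]; exact hc)
  · obtain ⟨u, hu, hu'⟩ := (hS d).1 hd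
    obtain ⟨v, hv, hv'⟩ := (hS d').1 hd'
    have e1 : φ (d * d') = refl Q u * refl Q v := by rw [map_mul, show φ d = refl Q u from hu'.symm, show φ d' = refl Q v from hv'.symm]
    exact (product_cases hc hu hv).imp (fun h => hφ (by rw [map_pow, map_one, e1, h]))
      (fun h => hφ (by rw [map_pow, map_one, e1, h]))
  · obtain ⟨v₀, hv₀⟩ : ∃ v, Q v ≠ 0 := by
      by_contra hall
      push Not at hall
      have h := hQ.1 (Pi.single (⟨0, by omega⟩ : Fin n) (1 : ZMod 3)) fun y => by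
        show polar Q _ y = 0
        simp [polar, hall]
      have := congrFun h (⟨0, by omega⟩ : Fin n)
      simp at this
    obtain ⟨u, -, -, hu⟩ := exists_perp_value hQ hn hv₀ v₀ c
    obtain ⟨d, hd⟩ := hlift _ (refl_mem hu)
    have hdS : d ∈ S := (hS d).2 ⟨u, hu, hd.symm⟩
    refine ⟨d, hdS, Set.ext fun g => ⟨fun hg => ?_, fun hg => ?_⟩⟩
    · obtain ⟨v, hv, hv'⟩ := (hS g).1 hg
      obtain ⟨x, hx, hxe⟩ := conjugate hQ hn hc hu hv
      obtain ⟨y, rfl⟩ := hlift x hx
      refine isConj_iff.2 ⟨y, hφ ?_⟩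
      rw [map_mul, map_mul, map_inv, hd, hxe]
      exact hv'
    · obtain ⟨y, hy⟩ := isConj_iff.1 (hg : IsConj d g)
      refine (hS g).2 ?_
      show φ g ∈ D0 Q c
      rw [← hy, map_mul, map_mul, map_inv, hd]
      exact conj_mem_D0 _ ⟨u, hu, rfl⟩
  · exact Subgroup.closure_closure_coe_preimage

end Cfsg.Agent.S5357
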