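import Cfsg.Agent.Lib.ThreeTransp.Basic
import Cfsg.Statements.S5358
-- import your own Cfsg.Agent.* helpers here

set_option autoImplicit false
open scoped MatrixGroups
open Cfsg

namespace Cfsg.Agent.S5358

/-- Let Q be a non-degenerate quadratic form on the n-dimensional coordinate space over the field with three elements and u, v vectors of the same non-zero norm Q(u) = Q(v) spanning different lines (v ≠ u and v ≠ −u). Then the reflection matrices of u and v commute if and only if u and v are orthogonal for the polar form of Q. -/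
theorem result (n : ℕ) (Q : QuadraticForm (ZMod 3) (Fin n → ZMod 3)) (hQ : (QuadraticMap.polarBilin Q).Nondegenerate) (u v : Fin n → ZMod 3) (hu : Q u ≠ 0) (huv : Q u = Q v) (h1 : v ≠ u) (h2 : v ≠ -u) : Commute (Cfsg.reflectionMatrix (⇑Q) u) (Cfsg.reflectionMatrix (⇑Q) v) ↔ QuadraticMap.polar (⇑Q) u v = 0 := by
  set f := polarVec (⇑Q) with hf
  have hdot : ∀ x y, (f x) ⬝ᵥ y = QuadraticMap.polar (⇑Q) x y := by
    intro x y
    conv_rhs => rw [pi_eq_sum_univ' y]
    rw [← QuadraticMap.polarBilin_apply_apply, map_sum]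
    simp only [map_smul, smul_eq_mul, QuadraticMap.polarBilin_apply_apply]
    exact Finset.sum_congr rfl fun i _ => mul_comm _ _
  have hsym : QuadraticMap.polar (⇑Q) v u = QuadraticMap.polar (⇑Q) u v :=
    QuadraticMap.polar_comm _ _ _
  set a := (Q u)⁻¹ with ha
  set b := (Q v)⁻¹ with hb
  have ha0 : a ≠ 0 := inv_ne_zero hu
  have hb0 : b ≠ 0 := inv_ne_zero (huv ▸ hu)
  have key : Cfsg.reflectionMatrix (⇑Q) u * Cfsg.reflectionMatrix (⇑Q) v -
      Cfsg.reflectionMatrix (⇑Q) v * Cfsg.reflectionMatrix (⇑Q) u =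
      (a * b * QuadraticMap.polar (⇑Q) u v) •
        (Matrix.vecMulVec u (f v) - Matrix.vecMulVec v (f u)) := by
    simp only [Cfsg.reflectionMatrix, ← hf, ← ha, ← hb, mul_sub, sub_mul, Matrix.smul_mul,
      Matrix.mul_smul, Matrix.mul_one, Matrix.one_mul, Matrix.vecMulVec_mul_vecMulVec, smul_smul,
      hdot, hsym, Matrix.smul_vecMulVec, smul_sub]
    rw [mul_comm b a]
    simp only [Matrix.vecMulVec_smul, smul_smul]
    abel
  constructor
  · intro h
    by_contra hp
    have h0 := congrArg (fun M : Matrix (Fin n) (Fin n) (ZMod 3) => M.mulVec u) key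
    rw [sub_eq_zero.2 h.eq] at h0
    simp only [Matrix.zero_mulVec, Matrix.smul_mulVec, Matrix.sub_mulVec, Matrix.vecMulVec_mulVec,
      hdot, hsym, op_smul_eq_smul] at h0
    have h1' := (smul_eq_zero.1 h0.symm).resolve_left (mul_ne_zero (mul_ne_zero ha0 hb0) hp)
    have hq : QuadraticMap.polar (⇑Q) u u = 2 * Q u := by
      rw [QuadraticMap.polar_self, two_mul, two_smul]
    have hq0 : QuadraticMap.polar (⇑Q) u u ≠ 0 := by
      rw [hq]; exact mul_ne_zero (by decide) hu
    have hv : v = ((QuadraticMap.polar (⇑Q) u u)⁻¹ * QuadraticMap.polar (⇑Q) u v) • u := by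
      rw [← smul_smul, sub_eq_zero.1 h1', inv_smul_smul₀ hq0]
    rcases (by decide : ∀ c : ZMod 3, c = 0 ∨ c = 1 ∨ c = -1)
      ((QuadraticMap.polar (⇑Q) u u)⁻¹ * QuadraticMap.polar (⇑Q) u v) with hc | hc | hc
    · rw [hc, zero_smul] at hv; subst hv; exact hu (by simpa using huv)
    · rw [hc, one_smul] at hv; exact h1 hv
    · rw [hc, neg_one_smul] at hv; exact h2 hv
  · intro hp
    rw [hp, mul_zero, zero_smul, sub_eq_zero] at key
    exact key

end Cfsg.Agent.S5358
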