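import Cfsg.Agent.Lib.ThreeTransp.Basic
import Cfsg.Statements.S5364
-- import your own Cfsg.Agent.* helpers here

set_option autoImplicit false
open Cfsg

namespace Cfsg.Agent.S5364

/-- Let D be a conjugation-invariant set of involutions of a finite group G and t an involution in the centre of G such that d t does not lie in D for any d in D. If the images of the members of D in G modulo the subgroup generated by t satisfy the 3-transposition order conditions (each has order 2 and any two have product of order at most 3), then so do the members of D. -/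
theorem result {G : Type*} [Group G] [Finite G] {D : Set G} (hinv : ∀ d ∈ D, orderOf d = 2) (hconj : ∀ g : G, ∀ d ∈ D, g * d * g⁻¹ ∈ D) (t : G) (ht : orderOf t = 2) (htZ : t ∈ Subgroup.center G) (hDt : ∀ d ∈ D, d * t ∉ D) [(Subgroup.zpowers t).Normal] (himg : Cfsg.IsThreeTranspositionSet ((QuotientGroup.mk : G → G ⧸ Subgroup.zpowers t) '' D)) : Cfsg.IsThreeTranspositionSet D := by
  refine ⟨hinv, fun a ha b hb => ?_⟩
  have A := CfsgLib.ThreeTransp.Basic.sq_one (hinv a ha)
  have B := CfsgLib.ThreeTransp.Basic.sq_one (hinv b hb)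
  have T : t * t = 1 := CfsgLib.ThreeTransp.Basic.sq_one ht
  have two : ∀ y : G, (y : G ⧸ Subgroup.zpowers t) = 1 → y = 1 ∨ y = t := by
    intro y hy
    obtain ⟨n, rfl⟩ := Subgroup.mem_zpowers_iff.1 ((QuotientGroup.eq_one_iff y).1 hy)
    rcases Int.even_or_odd' n with ⟨m, rfl | rfl⟩
    · left; rw [zpow_mul, zpow_two, T, one_zpow]
    · right; rw [zpow_add, zpow_mul, zpow_two, T, one_zpow, one_mul, zpow_one]
  have hne : ∀ y : G, y ∈ D → ∀ z ∈ D, y ≠ z * t := fun y hy z hz h => hDt z hz (h ▸ hy)
  have haba : a * b * a ∈ D := CfsgLib.ThreeTransp.Basic.conj_mem_mul hinv hconj ha hb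
  have hbab : b * a * b ∈ D := CfsgLib.ThreeTransp.Basic.conj_mem_mul hinv hconj hb ha
  rcases himg.2 _ ⟨a, ha, rfl⟩ _ ⟨b, hb, rfl⟩ with h | h <;>
    rw [← QuotientGroup.mk_mul, ← QuotientGroup.mk_pow] at h <;> rcases two _ h with h | h
  · exact Or.inl h
  · exfalso
    apply hne _ haba _ hb
    have : a * b * a = t * b⁻¹ := by rw [← h, sq]; group
    rw [this, inv_eq_of_mul_eq_one_right B, (Subgroup.mem_center_iff.1 htZ b)]
  · exact Or.inr h
  · exfalso
    apply hne _ haba _ hbab
    have : a * b * a = t * (b * a * b)⁻¹ := by rw [← h]; simp only [pow_succ, pow_zero]; group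
    rw [this, mul_inv_rev, mul_inv_rev, inv_eq_of_mul_eq_one_right A,
      inv_eq_of_mul_eq_one_right B, ← mul_assoc b a b, (Subgroup.mem_center_iff.1 htZ (b * a * b))]

end Cfsg.Agent.S5364
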