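import Cfsg.Agent.Lib.ThreeTransp.LocalTriangleFinal
import Cfsg.Agent.Lib.Solvable.Cores
import Cfsg.Statements.S5365
-- import your own Cfsg.Agent.* helpers here

set_option autoImplicit false
open Cfsg

namespace Cfsg.Agent.S5365

open CfsgLib.ThreeTransp CfsgLib.ThreeTransp.LocalTriangle

theorem inv_gens : ∀ s t : Equiv.Perm (Fin 3), s * s = 1 → s ≠ 1 → t * t = 1 → t ≠ 1 → s ≠ t →
    s * t ≠ t * s ∧ ∀ w : Equiv.Perm (Fin 3), w * w = 1 → w ≠ 1 → w = s ∨ w = t ∨ w = s * t * s := by
  decide +kernel

theorem center_three : ∀ z : Equiv.Perm (Fin 3), (∀ g, z * g = g * z) → z = 1 := by decide +kernel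

variable {G : Type*} [Group G] [Finite G] {D : Set G}

theorem local_of (hD : Cfsg.IsThreeTranspositionSet D) (hconj : ∀ g : G, ∀ d ∈ D, g * d * g⁻¹ ∈ D)
    (hloc : ∀ d ∈ D, Nonempty (↥(Subgroup.closure (nb D d)) ≃* Equiv.Perm (Fin 3))) : Local D := by
  have facts : ∀ v ∈ D, ∀ a ∈ nb D v, ∀ b ∈ nb D v, a ≠ b →
      ¬ Commute a b ∧ ∀ w ∈ nb D v, w = a ∨ w = b ∨ w = a * b * a := by
    intro v hv a ha b hb hab
    obtain ⟨e⟩ := hloc v hv
    let i : ∀ w, w ∈ nb D v → ↥(Subgroup.closure (nb D v)) := fun w hw => ⟨w, Subgroup.subset_closure hw⟩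
    have hs : ∀ w (hw : w ∈ nb D v), e (i w hw) * e (i w hw) = 1 ∧ e (i w hw) ≠ 1 := fun w hw =>
      ⟨by rw [← map_mul, ← map_one e]; exact congrArg e (Subtype.ext (Basic.sq_one (hD.1 w hw.1))),
        fun h => Basic.ne_one (hD.1 w hw.1) (congrArg Subtype.val (e.injective (h.trans (map_one e).symm)))⟩
    obtain ⟨h1, h2⟩ := inv_gens _ _ (hs a ha).1 (hs a ha).2 (hs b hb).1 (hs b hb).2
      fun h => hab (congrArg Subtype.val (e.injective h))
    refine ⟨fun hc => h1 (by rw [← map_mul, ← map_mul]; exact congrArg e (Subtype.ext hc.eq)), fun w hw => ?_⟩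
    rcases h2 _ (hs w hw).1 (hs w hw).2 with h | h | h
    · exact Or.inl (congrArg Subtype.val (e.injective h))
    · exact Or.inr (Or.inl (congrArg Subtype.val (e.injective h)))
    · rw [← map_mul, ← map_mul] at h
      exact Or.inr (Or.inr (congrArg Subtype.val (e.injective h)))
  refine ⟨hD, hconj, fun v hv => ?_, fun v hv a ha b hb hab => (facts v hv a ha b hb hab).1,
    fun v hv a ha b hb hab => (facts v hv a ha b hb hab).2⟩
  by_contra! hall
  obtain ⟨e⟩ := hloc v hv
  have hcomm : IsMulCommutative ↥(Subgroup.closure (nb D v)) := Subgroup.isMulCommutative_closure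
    fun a ha b hb => by rw [hall a ha b hb]
  have := center_three (Equiv.swap 0 1) fun g => e.symm.injective (by
    rw [map_mul, map_mul]; exact mul_comm' _ _)
  exact absurd this (by decide)

theorem classify (hD : Cfsg.IsThreeTranspositionSet D) (hconj : ∀ g : G, ∀ d ∈ D, g * d * g⁻¹ ∈ D)
    (hne : D.Nonempty)
    (hloc : ∀ d ∈ D, Nonempty (↥(Subgroup.closure (nb D d)) ≃* Equiv.Perm (Fin 3)) ∧
      Nat.card (Cfsg.pCore 3 ↥(Subgroup.centralizer ({d} : Set G))) = 3) :
    Nonempty (↥(Subgroup.closure D) ≃* Equiv.Perm (Fin 5)) ∨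
      Nonempty (↥(Subgroup.closure D) ≃* Equiv.Perm (Fin 3) × Equiv.Perm (Fin 3)) := by
  have hL := local_of hD hconj fun d hd => (hloc d hd).1
  obtain ⟨d, hd⟩ := hne
  by_cases hB : Bip D
  · right
    obtain ⟨a, ha, -⟩ := hL.two d hd
    have hcore : ∀ v ∈ D, ∀ h : G, ∀ H : Subgroup G, H.Normal → (∀ k ∈ H, k ^ 3 = 1) → h ∈ H → Commute v h →
        ∀ p ∈ nb D v, ∀ q ∈ nb D v, p ≠ q → h ∈ Subgroup.zpowers (p * q) := by
      intro v hv h H hH h3 hh hvh p hp q hq hpq
      haveI : Fact (Nat.Prime 3) := ⟨by norm_num⟩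
      set C := Subgroup.centralizer ({v} : Set G) with hC
      have memC : ∀ {x : G}, x ∈ C ↔ Commute v x := fun {x} => by
        rw [hC, Subgroup.mem_centralizer_iff]
        simp only [Set.mem_singleton_iff, forall_eq]
        rfl
      have hHC : IsPGroup 3 ↥(H.subgroupOf C) := fun x =>
        ⟨1, Subtype.ext (Subtype.ext (by simpa using h3 _ x.2))⟩
      haveI : (H.subgroupOf C).Normal := hH.subgroupOf C
      have h1 : (⟨h, memC.2 hvh⟩ : ↥C) ∈ Cfsg.pCore 3 ↥C := CfsgLib.Solvable.Cores.le_pCore hHC hh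
      have hu : p * q ∈ C := memC.2 (hp.2.2.mul_right hq.2.2)
      set u : ↥C := ⟨p * q, hu⟩ with hudef
      have hou : orderOf u = 3 := orderOf_eq_prime (Subtype.ext (by simpa using hL.nb_pair_cube hv hp hq))
        fun e => hpq ((eq_inv_of_mul_eq_one_left (by simpa [hudef] using congrArg Subtype.val e)).trans (hL.inv hq.1))
      haveI : (Subgroup.zpowers u).Normal := by
        refine ⟨fun x hx g => ?_⟩
        obtain ⟨i, rfl⟩ := Subgroup.mem_zpowers_iff.1 hx
        rw [← conj_zpow]
        refine zpow_mem ?_ i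
        have hg : Commute v (g : G) := memC.1 g.2
        have hv' : (g : G) * v * (g : G)⁻¹ = v := by rw [← hg.eq, mul_inv_cancel_right]
        have mem : ∀ w ∈ nb D v, (g : G) * w * (g : G)⁻¹ ∈ nb D v := fun w hw => by
          have := (hL.mem_conj_iff (g : G) v ((g : G) * w * (g : G)⁻¹)).2 (by
            rw [show (g : G)⁻¹ * ((g : G) * w * (g : G)⁻¹) * g = w by group]; exact hw)
          rwa [hv'] at this
        have hmem : ∀ w ∈ nb D v, ∀ w' ∈ nb D v, w * w' ∈ Subgroup.zpowers (p * q) := by
          intro w hw w' hw'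
          have hN := hL.nb_eq_of_three hv hp hq hpq
          have pp := hL.sq hp.1
          have qq := hL.sq hq.1
          have m1 := Subgroup.mem_zpowers (p * q)
          have m2 : q * p ∈ Subgroup.zpowers (p * q) := by
            have := inv_mem m1; rwa [mul_inv_rev, hL.inv hp.1, hL.inv hq.1] at this
          have br := hL.tri hp.1 hq.1 (hL.noncomm v hv p hp q hq hpq)
          rw [hN] at hw hw'
          simp only [Set.mem_insert_iff, Set.mem_singleton_iff] at hw hw'
          rcases hw with rfl | rfl | rfl <;> rcases hw' with rfl | rfl | rfl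
          · rw [pp]; exact one_mem _
          · exact m1
          · rw [show w * (w * q * w) = q * w by simp only [← mul_assoc]; rw [pp, one_mul]]; exact m2
          · exact m2
          · rw [qq]; exact one_mem _
          · rw [br, show w * (w * p * w) = p * w by simp only [← mul_assoc]; rw [qq, one_mul]]; exact m1
          · rw [show w' * q * w' * w' = w' * q by rw [mul_assoc _ w' w', pp, mul_one]]; exact m1
          · rw [br, show w' * p * w' * w' = w' * p by rw [mul_assoc _ w' w', qq, mul_one]]; exact m2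
          · rw [show p * q * p * (p * q * p) = 1 by
              simp only [mul_assoc]; rw [← mul_assoc p p, pp, one_mul, ← mul_assoc q q, qq, one_mul, pp]]
            exact one_mem _
        obtain ⟨j, hj⟩ := Subgroup.mem_zpowers_iff.1 (hmem _ (mem p hp) _ (mem q hq))
        refine Subgroup.mem_zpowers_iff.2 ⟨j, Subtype.ext ?_⟩
        rw [Subgroup.coe_zpow, hj, hudef]
        simp only [Subgroup.coe_mul, Subgroup.coe_inv]
        group
      have hle : Subgroup.zpowers u ≤ Cfsg.pCore 3 ↥C := CfsgLib.Solvable.Cores.le_pCore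
        (IsPGroup.of_card (n := 1) (by rw [Nat.card_zpowers, hou, pow_one]))
      have heq := Subgroup.eq_of_le_of_card_ge hle (by
        rw [Nat.card_zpowers, hou]; exact ((hloc v hv).2).le)
      rw [← heq] at h1
      obtain ⟨i, hi⟩ := Subgroup.mem_zpowers_iff.1 h1
      exact Subgroup.mem_zpowers_iff.2 ⟨i, by simpa [hudef] using congrArg Subtype.val hi⟩
    have hall := hL.bip_all hB hcore hd ha
    set M := Subgroup.closure (nb D d)
    set L := Subgroup.closure (nb D a)
    obtain ⟨eM⟩ := (hloc d hd).1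
    obtain ⟨eL⟩ := (hloc a ha.1).1
    have hcomm : ∀ m ∈ M, ∀ l ∈ L, Commute m l := by
      have hgen : ∀ p ∈ nb D d, ∀ q ∈ nb D a, Commute p q := fun p hp q hq => by
        have : p ∈ nb D q := by rw [hB d hd a ha q hq]; exact hp
        exact this.2.2.symm
      have h1 : M ≤ Subgroup.centralizer (nb D a) := (Subgroup.closure_le _).2 fun p hp q hq =>
        (hgen p hp q hq).eq.symm
      intro m hm l hl
      have h2 : L ≤ Subgroup.centralizer (M : Set G) := (Subgroup.closure_le _).2 fun q hq x hx =>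
        ((h1 hx) q hq).symm
      exact h2 hl m hm
    let ψ : ↥M × ↥L →* ↥(Subgroup.closure D) := MonoidHom.noncommCoprod
      (Subgroup.inclusion (Subgroup.closure_mono fun x hx => hx.1))
      (Subgroup.inclusion (Subgroup.closure_mono fun x hx => hx.1))
      fun m l => Subtype.ext (hcomm m m.2 l l.2).eq
    have hinj : Function.Injective ψ := by
      refine (injective_iff_map_eq_one ψ).2 fun ⟨m, l⟩ h => ?_
      have h' : (m : G) * l = 1 := congrArg Subtype.val h
      have hm1 : eM m = 1 := center_three _ fun g => by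
        obtain ⟨m', rfl⟩ := eM.surjective g
        rw [← map_mul, ← map_mul]
        refine congrArg eM (Subtype.ext ?_)
        show (m : G) * m' = m' * m
        rw [eq_inv_of_mul_eq_one_left h']
        exact ((hcomm m' m'.2 l l.2).inv_right).eq.symm
      have hm : m = 1 := eM.injective (hm1.trans (map_one eM).symm)
      refine Prod.ext hm (Subtype.ext ?_)
      rw [hm] at h'
      simpa using h'
    have hsurj : Function.Surjective ψ := by
      have : ∀ x ∈ Subgroup.closure D, ∃ z, (ψ z : G) = x := by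
        intro x hx
        induction hx using Subgroup.closure_induction with
        | mem x hx =>
          rcases hall x hx with h | h
          · exact ⟨(⟨x, Subgroup.subset_closure h⟩, 1), by show x * (1 : G) = x; rw [mul_one]⟩
          · exact ⟨(1, ⟨x, Subgroup.subset_closure h⟩), by show (1 : G) * x = x; rw [one_mul]⟩
        | one => exact ⟨1, by simp⟩
        | mul x y _ _ ihx ihy =>
          obtain ⟨z, rfl⟩ := ihx; obtain ⟨w, rfl⟩ := ihy
          exact ⟨z * w, by rw [map_mul, Subgroup.coe_mul]⟩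
        | inv x _ ih => obtain ⟨z, rfl⟩ := ih; exact ⟨z⁻¹, by rw [map_inv, Subgroup.coe_inv]⟩
      intro x
      obtain ⟨z, hz⟩ := this x x.2
      exact ⟨z, Subtype.ext hz⟩
    exact ⟨(MulEquiv.ofBijective ψ ⟨hinj, hsurj⟩).symm.trans (eM.prodCongr eL)⟩
  · left
    obtain ⟨p, a2, b, a, hgen, hp, h2, hb, ha, n1, n2, n3, c1, c2, c3⟩ :=
      hL.petersen (hL.noSquare_of_not_bip hB) hd
    have mem : ∀ x ∈ D, x ∈ Subgroup.closure D := fun x hx => Subgroup.subset_closure hx
    refine PermFive.nonempty_mulEquiv (a := ⟨p, mem p hp⟩) (b := ⟨a2, mem a2 h2⟩) (c := ⟨b, mem b hb⟩)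
      (e := ⟨a, mem a ha⟩) ?_ (Subtype.ext (hL.sq hp)) (Subtype.ext (hL.sq h2)) (Subtype.ext (hL.sq hb))
      (Subtype.ext (hL.sq ha)) (Subtype.ext (hL.tri hp h2 n1)) (Subtype.ext (hL.tri h2 hb n2))
      (Subtype.ext (hL.tri hb ha n3)) (Subtype.ext c1.eq) (Subtype.ext c2.eq) (Subtype.ext c3.eq) fun h => ?_
    · apply Subgroup.map_injective (Subgroup.closure D).subtype_injective
      rw [MonoidHom.map_closure, ← MonoidHom.range_eq_map, Subgroup.range_subtype]
      conv_rhs => rw [hgen]
      simp [Set.image_insert_eq]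
    · exact n1 (by
        have h' : p * a2 = 1 := congrArg Subtype.val h
        rw [eq_inv_of_mul_eq_one_left h', hL.inv h2])

/-- Let D be a non-empty conjugation-invariant set of involutions of a finite group G satisfying the 3-transposition order conditions, and suppose that for every d in D the members of D other than d commuting with d generate a subgroup isomorphic to the symmetric group of degree 3, and the largest normal 3-subgroup of the centralizer of d has order 3. Then the subgroup generated by D is isomorphic to the symmetric group of degree 5 or to the direct product of two symmetric groups of degree 3. -/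
theorem result {G : Type*} [Group G] [Finite G] {D : Set G} (hD : Cfsg.IsThreeTranspositionSet D) (hconj : ∀ g : G, ∀ d ∈ D, g * d * g⁻¹ ∈ D) (hne : D.Nonempty) (hloc : ∀ d ∈ D, Nonempty (↥(Subgroup.closure {y : G | y ∈ D ∧ y ≠ d ∧ Commute d y}) ≃* Equiv.Perm (Fin 3)) ∧ Nat.card (Cfsg.pCore 3 ↥(Subgroup.centralizer ({d} : Set G))) = 3) : Nonempty (↥(Subgroup.closure D) ≃* Equiv.Perm (Fin 5)) ∨ Nonempty (↥(Subgroup.closure D) ≃* Equiv.Perm (Fin 3) × Equiv.Perm (Fin 3)) := by
  exact classify hD hconj hne hloc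

end Cfsg.Agent.S5365
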