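import Cfsg.Agent.Lib.ThreeTransp.Planes
import Cfsg.Statements.S5366
-- import your own Cfsg.Agent.* helpers here

set_option autoImplicit false
open Cfsg

namespace Cfsg.Agent.S5366
open CfsgLib.ThreeTransp.Planes


/-- Let L be a nondegenerate Fischer space on the point type X (every point on a line). Then for every point x the map t(x) — sending a point collinear with x to the third point of their common line and fixing every other point — is a permutation of X of order 2 and an automorphism of the line system; and the set of all t(x) satisfies the 3-transposition order conditions in the permutation group of X (any two have product of order at most 3). -/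
theorem result {X : Type*} (L : Set (Set X)) (hL : Cfsg.IsFischerSpace L) (hnd : Cfsg.LineSystem.IsNondegenerate L) : (∀ x : X, ∃ σ : Equiv.Perm X, ⇑σ = Cfsg.LineSystem.lineMap L x ∧ orderOf σ = 2 ∧ Cfsg.LineSystem.IsIso L L σ) ∧ Cfsg.IsThreeTranspositionSet {σ : Equiv.Perm X | ∃ x : X, ⇑σ = Cfsg.LineSystem.lineMap L x} := by
  classical
  obtain ⟨hpl, h3, hF⟩ := hL
  have hinv : ∀ x, Function.Involutive (Cfsg.LineSystem.lineMap L x) := lineMap_involutive hpl h3
  let t : X → Equiv.Perm X := fun x => (hinv x).toPerm
  have htsq : ∀ x, t x * t x = 1 := fun x => Equiv.ext fun y => hinv x y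
  have hiso : ∀ x, Cfsg.LineSystem.IsIso L L (t x) := by
    intro x l
    refine ⟨fun h => lineMap_line hpl h3 hF x h, fun h => ?_⟩
    have := lineMap_line hpl h3 hF x h
    rwa [show Cfsg.LineSystem.lineMap L x '' (t x '' l) = l by
      rw [← Set.image_comp]
      conv_rhs => rw [← Set.image_id l]
      exact Set.image_congr fun y _ => hinv x y] at this
  have hord : ∀ x, orderOf (t x) = 2 := by
    intro x
    refine orderOf_eq_prime (by rw [pow_two, htsq]) fun h => ?_
    obtain ⟨l, hl, hx⟩ := hnd x
    obtain ⟨y, hy, hyx⟩ := exists_two_ne (h3 l hl) x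
    exact (lineMap_collinear hpl h3 ⟨Ne.symm hyx, l, hl, hx, hy⟩).2.1 (Equiv.congr_fun h y)
  have hnat : ∀ x y, t x * t y * t x = t (Cfsg.LineSystem.lineMap L x y) := by
    intro x y
    refine Equiv.ext fun w => ?_
    show Cfsg.LineSystem.lineMap L x (Cfsg.LineSystem.lineMap L y (Cfsg.LineSystem.lineMap L x w)) =
      Cfsg.LineSystem.lineMap L (Cfsg.LineSystem.lineMap L x y) w
    by_cases h : Cfsg.LineSystem.Collinear L y (Cfsg.LineSystem.lineMap L x w)
    · obtain ⟨h1, h2, hl⟩ := lineMap_collinear hpl h3 h
      refine (lineMap_eq hpl ?_ ?_ ?_ ?_).symm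
      · intro e; exact h.1 ((hinv x).injective (by rw [e, hinv x w]))
      · exact fun e => h1 ((hinv x).injective e)
      · intro e; exact h2 ((hinv x).injective (by rw [e, hinv x w]))
      · have := lineMap_line hpl h3 hF x hl
        rw [Set.image_insert_eq, Set.image_insert_eq, Set.image_singleton, hinv x w] at this
        exact this
    · rw [lineMap_fix h3 h, hinv x w]
      refine (lineMap_fix h3 fun hc => h ?_).symm
      obtain ⟨hne, l, hl, ha, hb⟩ := hc
      refine ⟨fun e => hne ?_, _, lineMap_line hpl h3 hF x hl, ⟨_, ha, hinv x y⟩, ⟨_, hb, rfl⟩⟩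
      rw [e, hinv x w]
  refine ⟨fun x => ⟨t x, rfl, hord x, hiso x⟩, ?_, ?_⟩
  · rintro σ ⟨x, hσ⟩
    rw [show σ = t x from Equiv.coe_fn_injective hσ]
    exact hord x
  · rintro σ ⟨x, hσ⟩ τ ⟨y, hτ⟩
    rw [show σ = t x from Equiv.coe_fn_injective hσ, show τ = t y from Equiv.coe_fn_injective hτ]
    by_cases h : Cfsg.LineSystem.Collinear L x y
    · right
      obtain ⟨h1, h2, hl⟩ := lineMap_collinear hpl h3 h
      have e : t x * t y * t x = t y * t x * t y := by
        rw [hnat, hnat]
        congr 1
        refine (lineMap_eq hpl (Ne.symm h.1) h2 h1 ?_).symm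
        rwa [Set.insert_comm] at hl
      calc (t x * t y) ^ 3 = (t x * t y * t x) * (t y * t x * t y) := by
            simp [pow_succ, mul_assoc]
        _ = (t y * t x * t y) * (t y * t x * t y) := by rw [e]
        _ = t y * t x * ((t y * t y) * t x) * t y := by simp only [mul_assoc]
        _ = 1 := by rw [htsq, one_mul, mul_assoc (t y) (t x) (t x), htsq, mul_one, htsq]
    · left
      have e : t x * t y * t x = t y := by rw [hnat, lineMap_fix h3 h]
      calc (t x * t y) ^ 2 = (t x * t y * t x) * t y := by simp [pow_two, mul_assoc]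
        _ = 1 := by rw [e, htsq]

end Cfsg.Agent.S5366
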