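import Cfsg.Agent.Lib.ThreeTransp.Planes
import Cfsg.Agent.Lib.ThreeTransp.Basic
import Cfsg.Statements.S5367
-- import your own Cfsg.Agent.* helpers here

set_option autoImplicit false
open Cfsg

namespace Cfsg.Agent.S5367
open CfsgLib.ThreeTransp.Planes CfsgLib.ThreeTransp.Basic

section

variable {G : Type*} [Group G] {D : Set G}

/-- Conjugation inside `D`. -/
def op (hconj : ∀ g : G, ∀ d ∈ D, g * d * g⁻¹ ∈ D) (x y : D) : D :=
  ⟨(x : G) * y * (x : G)⁻¹, hconj x y y.2⟩

/-- Two members do not commute. -/
def NC (x y : D) : Prop := ¬ Commute (x : G) (y : G)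

theorem NC.symm {x y : D} (h : NC x y) : NC y x := fun e => h (Commute.symm e)

theorem NC.ne {x y : D} (h : NC x y) : x ≠ y := fun e => h (by rw [e])

variable (hinv : ∀ d ∈ D, orderOf d = 2) (hset : ∀ a ∈ D, ∀ b ∈ D, (a * b) ^ 2 = 1 ∨ (a * b) ^ 3 = 1)
  (hconj : ∀ g : G, ∀ d ∈ D, g * d * g⁻¹ ∈ D)

theorem op_dist (x y w : D) : op hconj x (op hconj y w) = op hconj (op hconj x y) (op hconj x w) :=
  Subtype.ext (by simp only [op]; group)

include hinv in
theorem op_invol (x y : D) : op hconj x (op hconj x y) = y :=
  Subtype.ext (by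
    have := sq_one (hinv x x.2)
    show (x : G) * (x * y * (x : G)⁻¹) * (x : G)⁻¹ = y
    rw [show (x : G) * (x * y * (x : G)⁻¹) * (x : G)⁻¹ = (x * x) * y * ((x : G) * x)⁻¹ by group,
      this]
    simp)

theorem op_idem (x : D) : op hconj x x = x := Subtype.ext (mul_inv_cancel_right (x : G) (x : G))

theorem op_of_commute {x y : D} (h : Commute (x : G) (y : G)) : op hconj x y = y :=
  Subtype.ext (by show (x : G) * y * (x : G)⁻¹ = y; rw [h.eq, mul_inv_cancel_right])

theorem commute_of_op_eq {x y : D} (h : op hconj x y = y) : Commute (x : G) (y : G) :=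
  mul_inv_eq_iff_eq_mul.1 (congrArg Subtype.val h)

include hinv hset in
theorem op_braid {x y : D} (h : NC x y) : op hconj x y = op hconj y x := by
  have X := sq_one (hinv x x.2)
  have Y := sq_one (hinv y y.2)
  rcases hset x x.2 y y.2 with e | e
  · exfalso; apply h
    show (x : G) * y = y * x
    calc (x : G) * y = ((x : G) * y) ^ 2 * ((y : G)⁻¹ * (x : G)⁻¹) := by rw [pow_two]; group
      _ = (y : G)⁻¹ * (x : G)⁻¹ := by rw [e, one_mul]
      _ = y * x := by rw [inv_eq_of_mul_eq_one_right X, inv_eq_of_mul_eq_one_right Y]
  · apply Subtype.ext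
    show (x : G) * y * (x : G)⁻¹ = y * x * (y : G)⁻¹
    rw [inv_eq_of_mul_eq_one_right X, inv_eq_of_mul_eq_one_right Y]
    calc (x : G) * y * x = ((x : G) * y) ^ 3 * ((y : G)⁻¹ * (x : G)⁻¹ * (y : G)⁻¹) := by
          simp [pow_succ, mul_assoc]
      _ = _ := by rw [e, one_mul, inv_eq_of_mul_eq_one_right X, inv_eq_of_mul_eq_one_right Y]

theorem NC.conj {x y : D} (h : NC x y) (w : D) : NC (op hconj w x) (op hconj w y) := fun e =>
  h ((Commute.conj_iff (w : G)).1 e)

include hinv hset in
theorem NC.op_right {x y : D} (h : NC x y) : NC x (op hconj x y) := by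
  have := h.conj hconj x
  rwa [op_idem hconj x] at this

include hinv hset in
theorem NC.op_left {x y : D} (h : NC x y) : NC y (op hconj x y) := by
  rw [op_braid hinv hset hconj h]
  exact NC.op_right hinv hset hconj h.symm

theorem mem_line {x y : D} {u : D} :
    u ∈ ({z : D | (z : G) = x ∨ (z : G) = y ∨ (z : G) = (y : G) * (x : G) * (y : G)⁻¹} : Set D) ↔
      u = x ∨ u = y ∨ u = op hconj y x := by
  simp only [Set.mem_setOf_eq, op, Subtype.ext_iff]

theorem line_eq (x y : D) :
    ({z : D | (z : G) = x ∨ (z : G) = y ∨ (z : G) = (y : G) * (x : G) * (y : G)⁻¹} : Set D) =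
      {x, y, op hconj y x} := by
  ext u; rw [mem_line hconj]; simp

include hinv hset hconj in
theorem lines_iff (l : Set D) :
    l ∈ Cfsg.threeTranspositionLines D ↔ ∃ x y : D, NC x y ∧ l = {x, y, op hconj x y} := by
  constructor
  · rintro ⟨x, y, h, rfl⟩
    exact ⟨x, y, h, by rw [line_eq hconj, op_braid hinv hset hconj h]⟩
  · rintro ⟨x, y, h, rfl⟩
    exact ⟨x, y, h, by rw [line_eq hconj, op_braid hinv hset hconj h]⟩

include hinv hset in
theorem line_through {x y a b : D} (h : NC x y) (ha : a ∈ ({x, y, op hconj x y} : Set D))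
    (hb : b ∈ ({x, y, op hconj x y} : Set D)) (hab : a ≠ b) :
    NC a b ∧ ({x, y, op hconj x y} : Set D) = {a, b, op hconj a b} := by
  have h1 := NC.op_right hinv hset hconj h
  have h2 := NC.op_left hinv hset hconj h
  have e1 : op hconj x (op hconj x y) = y := op_invol hinv hconj x y
  have e2 : op hconj y (op hconj x y) = x := by
    rw [op_braid hinv hset hconj h, op_invol hinv hconj y x]
  have e3 : op hconj (op hconj x y) x = y := by rw [← op_braid hinv hset hconj h1, e1]
  have e4 : op hconj (op hconj x y) y = x := by rw [← op_braid hinv hset hconj h2, e2]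
  rcases ha with rfl | rfl | rfl <;> rcases hb with rfl | rfl | rfl <;>
    first
    | exact absurd rfl hab
    | exact ⟨h, rfl⟩
    | (refine ⟨h1, ?_⟩; rw [e1, Set.pair_comm])
    | (refine ⟨h.symm, ?_⟩; rw [← op_braid hinv hset hconj h, Set.insert_comm])
    | (refine ⟨h2, ?_⟩; rw [e2, Set.insert_comm, Set.pair_comm])
    | (refine ⟨h1.symm, ?_⟩; rw [e3, Set.pair_comm, Set.insert_comm])
    | (refine ⟨h2.symm, ?_⟩; rw [e4, Set.pair_comm, Set.insert_comm, Set.pair_comm])

end


/-- Let D be a conjugation-invariant generating set of 3-transpositions of a finite group G. Then the line system on D whose lines are the triples {x, y, y x y⁻¹} for non-commuting members x, y of D is a Fischer space: two points lie on at most one line, lines have three points, and two different meeting lines generate a subspace isomorphic to the dual affine plane of order two or to the affine plane of order three. -/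
theorem result {G : Type*} [Group G] [Finite G] {D : Set G} (hD : Cfsg.IsThreeTranspositionGroup D) : Cfsg.IsFischerSpace (Cfsg.threeTranspositionLines D) := by
  obtain ⟨⟨hinv, hset⟩, hconj, -⟩ := hD
  set L := Cfsg.threeTranspositionLines D with hLd
  have hmemL := lines_iff hinv hset hconj
  have inv := op_invol hinv hconj
  have br : ∀ {x y : D}, NC x y → op hconj x y = op hconj y x := fun h => op_braid hinv hset hconj h
  have dist := op_dist hconj
  have hpl : Cfsg.LineSystem.IsPartialLinear L := by
    intro l hl m hm a b hab hal hbl ham hbm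
    obtain ⟨x, y, h, rfl⟩ := (hmemL l).1 hl
    obtain ⟨x', y', h', rfl⟩ := (hmemL m).1 hm
    rw [(line_through hinv hset hconj h hal hbl hab).2,
      (line_through hinv hset hconj h' ham hbm hab).2]
  have h3 : ∀ l ∈ L, l.ncard = 3 := by
    intro l hl
    obtain ⟨x, y, h, rfl⟩ := (hmemL l).1 hl
    exact Set.ncard_eq_three.2 ⟨x, y, _, h.ne, (NC.op_right hinv hset hconj h).ne,
      (NC.op_left hinv hset hconj h).ne, rfl⟩
  refine ⟨hpl, h3, ?_⟩
  intro l hl m hm hne hmeet
  obtain ⟨a, hal, ham⟩ := hmeet
  obtain ⟨b₀, hb₀, hb₀a⟩ := exists_two_ne (h3 l hl) a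
  obtain ⟨c₀, hc₀, hc₀a⟩ := exists_two_ne (h3 m hm) a
  have hform : ∀ k ∈ L, ∀ b : D, a ∈ k → b ∈ k → b ≠ a →
      NC a b ∧ k = {a, b, op hconj a b} := by
    intro k hk b ha hb hba
    obtain ⟨x, y, h, rfl⟩ := (hmemL k).1 hk
    exact line_through hinv hset hconj h ha hb (Ne.symm hba)
  set S := l ∪ m with hS
  -- closure of the span under the operation
  have hspan : ∀ p q : D, p ∈ Cfsg.LineSystem.span L S → q ∈ Cfsg.LineSystem.span L S →
      NC p q → op hconj p q ∈ Cfsg.LineSystem.span L S := fun p q hp hq h =>
    isSubspace_span S _ ((hmemL _).2 ⟨p, q, h, rfl⟩) p hp q hq h.ne (by simp) (by simp) (by simp)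
  by_cases hex : ∃ b ∈ l, ∃ c ∈ m, b ≠ a ∧ c ≠ a ∧ Commute (b : G) (c : G)
  · -- dual affine plane
    left
    obtain ⟨b, hb, c, hc, hba, hca, hbc⟩ := hex
    obtain ⟨hab, rfl⟩ := hform l hl b hal hb hba
    obtain ⟨hac, rfl⟩ := hform m hm c ham hc hca
    have hbc' : b ≠ c := by rintro rfl; exact hne rfl
    set ab := op hconj a b with hab'
    set ac := op hconj a c with hac'
    set d := op hconj b ac with hd
    have hop : op hconj b c = c := op_of_commute hconj hbc
    have hb_ac : NC b ac := by
      intro hco
      have e1 := op_of_commute hconj hco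
      rw [hac', dist, hop, ← br hab, ← hab'] at e1
      have hnc : ¬ Commute (ab : G) (c : G) := by
        intro h'
        rw [op_of_commute hconj h'] at e1
        exact hac (commute_of_op_eq hconj e1.symm)
      have : Commute (op hconj a b : G) (op hconj a ac : G) := (Commute.conj_iff (a : G)).2 hco
      rw [hac', inv] at this
      exact hnc this
    have hab_c : NC ab c := by
      have := hb_ac.conj hconj a
      rwa [← hab', hac', inv] at this
    have hd' : d = op hconj ab c := by rw [hd, hac', dist, hop, ← br hab]
    have had : op hconj a d = d := by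
      rw [hd', dist, ← hac', hab', inv, ← hab', ← hd']
    have hcab : op hconj c ab = d := by
      rw [hd', br hab_c]
    -- the six points indexed by 2-sets
    have hnd : ∀ {x y : D}, NC x y → NC x (op hconj x y) ∧ NC y (op hconj x y) := fun h =>
      ⟨NC.op_right hinv hset hconj h, NC.op_left hinv hset hconj h⟩
    let f : Cfsg.DualAffinePoint → D := fun s =>
      if s.1 = {1, 2} then a else if s.1 = {0, 1} then b else if s.1 = {2, 3} then c
      else if s.1 = {0, 2} then ab else if s.1 = {1, 3} then ac else d
    let P12 : Cfsg.DualAffinePoint := ⟨{1, 2}, rfl⟩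
    let P01 : Cfsg.DualAffinePoint := ⟨{0, 1}, rfl⟩
    let P23 : Cfsg.DualAffinePoint := ⟨{2, 3}, rfl⟩
    let P02 : Cfsg.DualAffinePoint := ⟨{0, 2}, rfl⟩
    let P13 : Cfsg.DualAffinePoint := ⟨{1, 3}, rfl⟩
    let P03 : Cfsg.DualAffinePoint := ⟨{0, 3}, rfl⟩
    have hall : ∀ s : Cfsg.DualAffinePoint,
        s = P12 ∨ s = P01 ∨ s = P23 ∨ s = P02 ∨ s = P13 ∨ s = P03 := by decide
    have f12 : f P12 = a := rfl
    have f01 : f P01 = b := rfl
    have f23 : f P23 = c := rfl
    have f02 : f P02 = ab := rfl
    have f13 : f P13 = ac := rfl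
    have f03 : f P03 = d := rfl
    -- commuting pairs
    have hcom1 : Commute (b : G) (c : G) := hbc
    have hcom2 : Commute (ab : G) (ac : G) := (Commute.conj_iff (a : G)).2 hbc
    have hcom3 : Commute (a : G) (d : G) := commute_of_op_eq hconj had
    have hNC : ∀ {p q : D}, Commute (p : G) (q : G) → ¬ NC p q := fun h h' => h' h
    have hab_ac_ne : ab ≠ ac := fun e => hbc' (by
      have := congrArg (op hconj a) e
      rwa [hab', hac', inv, inv] at this)
    have had_ne : a ≠ d := by
      intro e
      have e1 : op hconj b a = ac := by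
        conv_lhs => rw [e, hd]
        exact inv _ _
      rw [← br hab] at e1
      exact hab_ac_ne e1
    have n1 : NC ab d := hd'.symm ▸ (hnd hab_c).1
    have n2 : NC c d := hd'.symm ▸ (hnd hab_c).2
    have hinj : Function.Injective f := by
      intro s t e
      rcases hall s with rfl | rfl | rfl | rfl | rfl | rfl <;>
        rcases hall t with rfl | rfl | rfl | rfl | rfl | rfl <;>
        simp only [f12, f01, f23, f02, f13, f03] at e <;>
        first
        | rfl
        | exact absurd e hab.ne
        | exact absurd e.symm hab.ne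
        | exact absurd e hac.ne
        | exact absurd e.symm hac.ne
        | exact absurd e hbc'
        | exact absurd e.symm hbc'
        | exact absurd e hab_ac_ne
        | exact absurd e.symm hab_ac_ne
        | exact absurd e had_ne
        | exact absurd e.symm had_ne
        | exact absurd e (hnd hab).1.ne
        | exact absurd e.symm (hnd hab).1.ne
        | exact absurd e (hnd hab).2.ne
        | exact absurd e.symm (hnd hab).2.ne
        | exact absurd e (hnd hac).1.ne
        | exact absurd e.symm (hnd hac).1.ne
        | exact absurd e (hnd hac).2.ne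
        | exact absurd e.symm (hnd hac).2.ne
        | exact absurd e hb_ac.ne
        | exact absurd e.symm hb_ac.ne
        | exact absurd e hab_c.ne
        | exact absurd e.symm hab_c.ne
        | exact absurd e (hnd hb_ac).1.ne
        | exact absurd e.symm (hnd hb_ac).1.ne
        | exact absurd e (hnd hb_ac).2.ne
        | exact absurd e.symm (hnd hb_ac).2.ne
        | exact absurd e n1.ne
        | exact absurd e.symm n1.ne
        | exact absurd e n2.ne
        | exact absurd e.symm n2.ne
    refine isomorphic_of_model hpl h3 f hinj ?_ ?_ S ?_ ?_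
    · rintro k ⟨i, rfl⟩
      have himg : ∀ (p q r : Cfsg.DualAffinePoint), (∀ s, i ∉ s.1 ↔ s = p ∨ s = q ∨ s = r) →
          f '' {s | i ∉ s.1} = {f p, f q, f r} := by
        intro p q r h
        rw [show {s : Cfsg.DualAffinePoint | i ∉ s.1} = {p, q, r} from Set.ext fun s => by
          simpa using h s]
        simp [Set.image_insert_eq]
      fin_cases i
      · rw [himg P12 P23 P13 (by decide), f12, f23, f13]
        exact (hmemL _).2 ⟨a, c, hac, rfl⟩
      · rw [himg P02 P23 P03 (by decide), f02, f23, f03]
        exact (hmemL _).2 ⟨ab, c, hab_c, by rw [hd']⟩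
      · rw [himg P01 P13 P03 (by decide), f01, f13, f03]
        exact (hmemL _).2 ⟨b, ac, hb_ac, rfl⟩
      · rw [himg P12 P01 P02 (by decide), f12, f01, f02]
        exact (hmemL _).2 ⟨a, b, hab, rfl⟩
    · intro p q hpq ⟨k, hk, hp, hq⟩
      obtain ⟨x, y, h, rfl⟩ := (hmemL k).1 hk
      have hn := (line_through hinv hset hconj h hp hq (hinj.ne hpq)).1
      by_contra hno
      have hdis : ∀ i, i ∈ p.1 ∨ i ∈ q.1 := fun i => by
        by_contra hc
        push_neg at hc
        exact hno ⟨_, ⟨i, rfl⟩, hc.1, hc.2⟩
      revert hdis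
      rcases hall p with rfl | rfl | rfl | rfl | rfl | rfl <;>
        rcases hall q with rfl | rfl | rfl | rfl | rfl | rfl <;>
        simp only [f12, f01, f23, f02, f13, f03] at hn <;>
        first
        | exact absurd rfl hpq
        | exact absurd hn (hNC hcom1)
        | exact absurd hn (hNC hcom1.symm)
        | exact absurd hn (hNC hcom2)
        | exact absurd hn (hNC hcom2.symm)
        | exact absurd hn (hNC hcom3)
        | exact absurd hn (hNC hcom3.symm)
        | decide
    · rintro x (hx | hx) <;> rcases hx with rfl | rfl | rfl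
      exacts [⟨P12, f12⟩, ⟨P01, f01⟩, ⟨P02, f02⟩, ⟨P12, f12⟩, ⟨P23, f23⟩, ⟨P13, f13⟩]
    · intro s
      have ga : a ∈ Cfsg.LineSystem.span L S := subset_span _ (Or.inl hal)
      have gb : b ∈ Cfsg.LineSystem.span L S := subset_span _ (Or.inl hb)
      have gc : c ∈ Cfsg.LineSystem.span L S := subset_span _ (Or.inr hc)
      rcases hall s with rfl | rfl | rfl | rfl | rfl | rfl
      exacts [ga, gb, gc, hspan a b ga gb hab, hspan a c ga gc hac,
        hspan b ac gb (hspan a c ga gc hac) hb_ac]
  · -- affine plane
    right
    push_neg at hex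
    obtain ⟨hab, rfl⟩ := hform l hl b₀ hal hb₀ hb₀a
    obtain ⟨hac, rfl⟩ := hform m hm c₀ ham hc₀ hc₀a
    set b := b₀
    set c := c₀
    set ab := op hconj a b with hab'
    set ac := op hconj a c with hac'
    have haab : ab ≠ a := (NC.op_right hinv hset hconj hab).ne.symm
    have haac : ac ≠ a := (NC.op_right hinv hset hconj hac).ne.symm
    have hbc : NC b c := hex b hb₀ c hc₀ hb₀a hc₀a
    have hb_ac : NC b ac := hex b hb₀ ac (by simp [hac']) hb₀a haac
    have hab_c : NC ab c := hex ab (by simp [hab']) c hc₀ haab hc₀a
    set bc := op hconj b c with hbc'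
    set p11 := op hconj a bc with hp11
    set p12 := op hconj ab c with hp12
    set p21 := op hconj b ac with hp21
    let f : (Fin 2 → ZMod 3) → D := fun v =>
      if v = ![0, 0] then a else if v = ![1, 0] then b else if v = ![2, 0] then ab
      else if v = ![0, 1] then c else if v = ![0, 2] then ac else if v = ![2, 2] then bc
      else if v = ![1, 1] then p11 else if v = ![1, 2] then p12 else p21
    have hall : ∀ v : Fin 2 → ZMod 3, v = ![0, 0] ∨ v = ![1, 0] ∨ v = ![2, 0] ∨ v = ![0, 1] ∨
        v = ![0, 2] ∨ v = ![2, 2] ∨ v = ![1, 1] ∨ v = ![1, 2] ∨ v = ![2, 1] := by decide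
    have f00 : f ![0, 0] = a := rfl
    have f10 : f ![1, 0] = b := rfl
    have f20 : f ![2, 0] = ab := rfl
    have f01 : f ![0, 1] = c := rfl
    have f02 : f ![0, 2] = ac := rfl
    have f22 : f ![2, 2] = bc := rfl
    have f11 : f ![1, 1] = p11 := rfl
    have f12 : f ![1, 2] = p12 := rfl
    have f21 : f ![2, 1] = p21 := rfl
    -- the three generating reflections
    have A1 : op hconj a ab = b := inv a b
    have A2 : op hconj a ac = c := inv a c
    have A3 : op hconj a p11 = bc := inv a bc
    have A4 : op hconj a p12 = p21 := by rw [hp12, dist, A1, ← hac', ← hp21]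
    have A5 : op hconj a p21 = p12 := by rw [hp21, dist, A2, ← hab', ← hp12]
    have B1 : op hconj b a = ab := by rw [hab', br hab]
    have B2 : op hconj b ab = a := by rw [← B1, inv]
    have B3 : op hconj b bc = c := inv b c
    have B4 : op hconj b p21 = ac := inv b ac
    have B5 : op hconj b p11 = p12 := by rw [hp11, dist, B1, B3, ← hp12]
    have B6 : op hconj b p12 = p11 := by rw [← B5, inv]
    have C1 : op hconj c a = ac := by rw [hac', br hac]
    have C2 : op hconj c ac = a := by rw [← C1, inv]
    have C3 : op hconj c b = bc := by rw [hbc', br hbc]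
    have C4 : op hconj c bc = b := by rw [← C3, inv]
    have C5 : op hconj c ab = p12 := by rw [hp12, br hab_c]
    have C6 : op hconj c p12 = ab := by rw [← C5, inv]
    have C7 : op hconj c p11 = p21 := by rw [hp11, dist, C1, C4, hp21, br hb_ac]
    have C8 : op hconj c p21 = p11 := by rw [← C7, inv]
    let neg : (Fin 2 → ZMod 3) → (Fin 2 → ZMod 3) → (Fin 2 → ZMod 3) := fun g v => -g - v
    have hA : ∀ v, op hconj (f ![0, 0]) (f v) = f (neg ![0, 0] v) := by
      intro v
      rcases hall v with rfl | rfl | rfl | rfl | rfl | rfl | rfl | rfl | rfl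
      · exact op_idem hconj a
      · exact hab'.symm
      · exact A1
      · exact hac'.symm
      · exact A2
      · exact hp11.symm
      · exact A3
      · exact A4
      · exact A5
    have hBq : ∀ v, op hconj (f ![1, 0]) (f v) = f (neg ![1, 0] v) := by
      intro v
      rcases hall v with rfl | rfl | rfl | rfl | rfl | rfl | rfl | rfl | rfl
      · exact B1
      · exact op_idem hconj b
      · exact B2
      · exact hbc'.symm
      · exact hp21.symm
      · exact B3
      · exact B5
      · exact B6
      · exact B4
    have hCq : ∀ v, op hconj (f ![0, 1]) (f v) = f (neg ![0, 1] v) := by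
      intro v
      rcases hall v with rfl | rfl | rfl | rfl | rfl | rfl | rfl | rfl | rfl
      · exact C1
      · exact C3
      · exact C5
      · exact op_idem hconj c
      · exact C2
      · exact C4
      · exact C7
      · exact C6
      · exact C8
    -- equivariance for all nine reflections
    have step : ∀ g h, (∀ v, op hconj (f g) (f v) = f (neg g v)) →
        (∀ v, op hconj (f h) (f v) = f (neg h v)) →
        ∀ v, op hconj (f (neg g h)) (f v) = f (neg (neg g h) v) := by
      intro g h hg hh v
      have e : f v = op hconj (f g) (f (neg g v)) := by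
        rw [hg]; congr 1; funext i; simp [neg]
      rw [← hg h, e, ← dist, hh, hg]
      congr 1
      funext i
      simp only [neg, Pi.sub_apply, Pi.neg_apply]
      generalize g i = x1; generalize h i = x2; generalize v i = x3
      revert x1 x2 x3; decide
    have hEq : ∀ g v, op hconj (f g) (f v) = f (neg g v) := by
      intro g
      have e20 : ∀ v, op hconj (f ![2, 0]) (f v) = f (neg ![2, 0] v) := by
        have := step ![0, 0] ![1, 0] hA hBq
        rwa [show neg ![0, 0] ![1, 0] = ![2, 0] by decide] at this
      have e02 : ∀ v, op hconj (f ![0, 2]) (f v) = f (neg ![0, 2] v) := by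
        have := step ![0, 0] ![0, 1] hA hCq
        rwa [show neg ![0, 0] ![0, 1] = ![0, 2] by decide] at this
      have e22 : ∀ v, op hconj (f ![2, 2]) (f v) = f (neg ![2, 2] v) := by
        have := step ![1, 0] ![0, 1] hBq hCq
        rwa [show neg ![1, 0] ![0, 1] = ![2, 2] by decide] at this
      rcases hall g with rfl | rfl | rfl | rfl | rfl | rfl | rfl | rfl | rfl
      · exact hA
      · exact hBq
      · exact e20
      · exact hCq
      · exact e02
      · exact e22
      · have := step ![0, 0] ![2, 2] hA e22
        rwa [show neg ![0, 0] ![2, 2] = ![1, 1] by decide] at this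
      · have := step ![2, 0] ![0, 1] e20 hCq
        rwa [show neg ![2, 0] ![0, 1] = ![1, 2] by decide] at this
      · have := step ![1, 0] ![0, 2] hBq e02
        rwa [show neg ![1, 0] ![0, 2] = ![2, 1] by decide] at this
    have h0 : ∀ r, r ≠ ![0, 0] → NC a (f r) := by
      intro r hr
      rcases hall r with rfl | rfl | rfl | rfl | rfl | rfl | rfl | rfl | rfl
      · exact absurd rfl hr
      · exact hab
      · exact NC.op_right hinv hset hconj hab
      · exact hac
      · exact NC.op_right hinv hset hconj hac
      · have := hab_c.conj hconj b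
        rw [B2] at this
        exact this
      · have h := hab_c.conj hconj b
        rw [B2, ← hbc'] at h
        exact NC.op_right hinv hset hconj h
      · have := (hbc.symm.conj hconj ab)
        rw [← hp12, show op hconj ab b = a by rw [hab', br (NC.op_left hinv hset hconj hab).symm]; exact B2] at this
        exact this.symm
      · have := (hbc.conj hconj ac).symm
        rw [show op hconj ac c = a by rw [hac', br (NC.op_left hinv hset hconj hac).symm]; exact C2,
          br hb_ac.symm, ← hp21] at this
        exact this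
    have hNC : ∀ p q, p ≠ q → NC (f p) (f q) := by
      intro p q hpq
      -- conjugate `p` to the origin
      rcases eq_or_ne p ![0, 0] with rfl | hp
      · exact f00 ▸ h0 q (Ne.symm hpq)
      · set g : Fin 2 → ZMod 3 := p with hg
        have hm : neg (-g) p = ![0, 0] := by
          funext i; fin_cases i <;> simp [neg, hg]
        have h' := h0 (neg (-g) q) (by
          rw [← hm]; intro e; apply hpq; funext i
          have := congrFun e i
          simp [neg] at this
          exact this.symm)
        rw [← f00, ← hm, ← hEq, ← hEq] at h'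
        exact fun e => h' ((Commute.conj_iff _).2 e)
    have hinj : Function.Injective f := fun p q e => by
      by_contra hpq; exact (hNC p q hpq).ne e
    refine isomorphic_of_model hpl h3 f hinj ?_ ?_ S ?_ ?_
    · rintro k ⟨v, w, hw, rfl⟩
      rw [show {x | ∃ c : ZMod 3, x = v + c • w} =
        ({v, v + w, neg v (v + w)} : Set (Fin 2 → ZMod 3)) from ?_]
      · rw [Set.image_insert_eq, Set.image_insert_eq, Set.image_singleton, ← hEq]
        exact (hmemL _).2 ⟨_, _, hNC _ _ (fun e => hw (by simpa using e)), rfl⟩
      · ext x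
        constructor
        · rintro ⟨t, rfl⟩
          rcases (show t = 0 ∨ t = 1 ∨ t = 2 by revert t; decide) with rfl | rfl | rfl
          · simp
          · simp
          · right; right
            rw [Set.mem_singleton_iff]
            funext i; simp [neg]; generalize v i = p; generalize w i = q; revert p q; decide
        · rintro (rfl | rfl | rfl)
          · exact ⟨0, by simp⟩
          · exact ⟨1, by simp⟩
          · refine ⟨2, ?_⟩
            funext i; simp [neg]; generalize v i = p; generalize w i = q; revert p q; decide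
    · intro p q hpq _
      obtain ⟨k, hk, h1, h2, -⟩ := affine_line hpq
      exact ⟨k, hk, h1, h2⟩
    · rintro x (hx | hx) <;> rcases hx with rfl | rfl | rfl
      exacts [⟨_, f00⟩, ⟨_, f10⟩, ⟨_, f20⟩, ⟨_, f00⟩, ⟨_, f01⟩, ⟨_, f02⟩]
    · intro v
      have ga : a ∈ Cfsg.LineSystem.span L S := subset_span _ (Or.inl hal)
      have gb : b ∈ Cfsg.LineSystem.span L S := subset_span _ (Or.inl hb₀)
      have gc : c ∈ Cfsg.LineSystem.span L S := subset_span _ (Or.inr hc₀)
      have gab := hspan a b ga gb hab
      have gac := hspan a c ga gc hac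
      have gbc := hspan b c gb gc hbc
      rcases hall v with rfl | rfl | rfl | rfl | rfl | rfl | rfl | rfl | rfl
      exacts [ga, gb, gab, gc, gac, gbc, hspan a bc ga gbc (f22 ▸ h0 ![2, 2] (by decide)),
        hspan ab c gab gc hab_c, hspan b ac gb gac hb_ac]

end Cfsg.Agent.S5367
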