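import Cfsg.Statements.S5380
import Cfsg.Agent.S5390
import Cfsg.Agent.S5391
import Cfsg.Agent.Lib.Characterizations.SuzType.Setup
import Cfsg.Agent.Lib.Characterizations.SuzType.Three.Main
import Cfsg.Agent.Lib.Characterizations.SuzType.Three.Hyp
import Cfsg.Agent.Lib.Characterizations.SuzType.Three.Perfect

set_option autoImplicit false
open Cfsg
open CfsgLib.Characterizations.SuzType CfsgLib.Characterizations.SuzType.Three CfsgLib.Solvable
open scoped commutatorElement

namespace Cfsg.Agent.S5380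

/-- Let G be a finite group of Suzuki sporadic type (involution z with generalized Fitting subgroup Q of its centralizer C extraspecial of order 2^7, C/Q the commutator subgroup of the isometry group of the elliptic quadratic form in dimension 6 over the field with two elements, z not weakly closed in Q), and let Y be a subgroup of C of order 3 whose commutator subgroup with Q is non-abelian of order 8 (a quaternion group). Then the centralizer of Y in G is quasisimple, its quotient by Y is isomorphic to the projective special unitary group of dimension 4 over the field with nine elements, and the centralizer of Y has index 2 in the normalizer of Y. -/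
theorem result {G : Type*} [Group G] [Finite G] (z : G) (hz : orderOf z = 2) (Q : Subgroup (Subgroup.centralizer ({z} : Set G))) [Q.Normal] (hF : Cfsg.generalizedFittingSubgroup (Subgroup.centralizer ({z} : Set G)) = Q) (hQ : Cfsg.IsExtraspecial 2 Q) (hcard : Nat.card Q = 2 ^ 7) (e : (Subgroup.centralizer ({z} : Set G)) ⧸ Q ≃* Cfsg.Omega (ZMod 2) (Cfsg.quadFormMinus 2 (ZMod 2) 1 1)) (hnwc : ∃ g : G, (∃ hq : g * z * g⁻¹ ∈ Subgroup.centralizer ({z} : Set G), (⟨g * z * g⁻¹, hq⟩ : Subgroup.centralizer ({z} : Set G)) ∈ Q) ∧ g * z * g⁻¹ ≠ z) (Y : Subgroup (Subgroup.centralizer ({z} : Set G))) (hY : Nat.card Y = 3) (hQY : Nat.card ↥⁅Q, Y⁆ = 8) (hQYna : ¬ IsMulCommutative ↥⁅Q, Y⁆) [((Y.map (Subgroup.subtype (Subgroup.centralizer ({z} : Set G)))).subgroupOf (Subgroup.centralizer ((Y.map (Subgroup.subtype (Subgroup.centralizer ({z} : Set G)))) : Set G))).Normal] (K : Type) [Field K] [Fintype K] (hK : Fintype.card K = 9) : Cfsg.IsQuasisimple ↥(Subgroup.centralizer ((Y.map (Subgroup.subtype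 (Subgroup.centralizer ({z} : Set G)))) : Set G)) ∧ Nonempty (↥(Subgroup.centralizer ((Y.map (Subgroup.subtype (Subgroup.centralizer ({z} : Set G)))) : Set G)) ⧸ (Y.map (Subgroup.subtype (Subgroup.centralizer ({z} : Set G)))).subgroupOf (Subgroup.centralizer ((Y.map (Subgroup.subtype (Subgroup.centralizer ({z} : Set G)))) : Set G)) ≃* Cfsg.PSU 4 K 3) ∧ (Subgroup.centralizer ((Y.map (Subgroup.subtype (Subgroup.centralizer ({z} : Set G)))) : Set G)).relIndex (Subgroup.normalizer ((Y.map (Subgroup.subtype (Subgroup.centralizer ({z} : Set G)))) : Set G)) = 2 := by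
  classical
  obtain ⟨Q', π, S⟩ := exists_suz z hz Q hF hQ hcard e hnwc
  haveI : Fact (Nat.Prime 2) := ⟨Nat.prime_two⟩
  haveI : Fact (Nat.Prime 3) := ⟨Nat.prime_three⟩
  have hQ' : Q'.subgroupOf (Subgroup.centralizer ({z} : Set G)) ≤ Q := by
    have hn : (Q'.subgroupOf (Subgroup.centralizer ({z} : Set G))).Normal := ⟨fun n hn g => by
      rw [Subgroup.mem_subgroupOf] at hn ⊢
      exact S.norm _ (Subgroup.mem_centralizer_singleton_iff.1 g.2) _ hn⟩
    have hp : IsPGroup 2 ↥(Q'.subgroupOf (Subgroup.centralizer ({z} : Set G))) :=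
      S.extra.isPGroup.comap_of_injective _ (Subgroup.subtype_injective _)
    calc _ ≤ Cfsg.pCore 2 _ := Cores.le_pCore hp
      _ ≤ Cfsg.fittingSubgroup _ := Cores.pCore_le_fittingSubgroup 2
      _ ≤ Cfsg.generalizedFittingSubgroup _ := CfsgLib.Components.fittingSubgroup_le_generalizedFittingSubgroup
      _ = Q := hF
  obtain ⟨c, hc⟩ : ∃ c, c ∈ Y ∧ orderOf c = 3 := by
    obtain ⟨c, hc⟩ := exists_prime_orderOf_dvd_card' (G := ↥Y) 3 (dvd_of_eq hY.symm)
    exact ⟨c, c.2, by rwa [Subgroup.orderOf_coe]⟩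
  have hYc : Y = Subgroup.zpowers c :=
    (Subgroup.eq_of_le_of_card_ge (Subgroup.zpowers_le.2 hc.1) (by rw [hY, Nat.card_zpowers, hc.2])).symm
  have hcz : (c : G) * z = z * (c : G) := Subgroup.mem_centralizer_singleton_iff.1 c.2
  obtain ⟨π', S', y, hy, hyc⟩ := exists_std_of_small S hcz ((Subgroup.orderOf_coe c).trans hc.2)
    (M := ⁅Q, Y⁆.map (Subgroup.subtype _)) (fun x hx => by
      have hxC : x ∈ Subgroup.centralizer ({z} : Set G) :=
        Subgroup.mem_centralizer_singleton_iff.2 (S.mem_cz hx)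
      refine ⟨⁅c, ⟨x, hxC⟩⁆, ?_, rfl⟩
      rw [Subgroup.commutator_comm]
      exact Subgroup.commutator_mem_commutator hc.1 (hQ' hx))
    (by rw [Subgroup.card_map_of_injective (Subgroup.subtype_injective _), hQY])
  have hW : Y.map (Subgroup.subtype (Subgroup.centralizer ({z} : Set G))) = Subgroup.zpowers y := by
    rw [hyc, hYc, MonoidHom.map_zpowers]; rfl
  obtain ⟨H₁, H₂, hK', hn₁, hn₂, ⟨e₁⟩, ⟨e₂⟩, hmeet, hQ₀⟩ := exists_config S' hy
  have hzb := orderOf_zbar S' hy
  have hH : Nat.card ↥(CZ S' hy) = 2 ^ 7 * 3 ^ 2 := by rw [card_CZ S' hy]; norm_num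
  obtain ⟨-, hconj⟩ := Cfsg.Agent.S5391.result (zbar S' hy) hzb H₁ H₂ hK' hn₁ hn₂ e₁ e₂ hmeet
    (img S' hy (kq Q' y)) hQ₀ (genFitting_CZ S' hy) (zbar_not_weakly_closed S' hy) hH (card_inter_conj S' hy)
  have hiso := Cfsg.Agent.S5390.result (zbar S' hy) hzb H₁ H₂ hK' hn₁ hn₂ e₁ e₂ hmeet
    (img S' hy (kq Q' y)) hQ₀ (genFitting_CZ S' hy) (zbar_not_weakly_closed S' hy) hH (card_inter_conj S' hy) K hK
  exact conclusion S' hy K (quasisimple_cy S' hy K hK hiso hconj) hiso _ hW

end Cfsg.Agent.S5380
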