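import Cfsg.Statements.S5382
import Cfsg.Agent.Lib.Characterizations.HallJanko.FourNormalizer

set_option autoImplicit false
open Cfsg

namespace Cfsg.Agent.S5382

/-- Let G be a finite group of Hall–Janko type: it has more than one class of involutions and an involution z whose centralizer C has generalized Fitting subgroup Q extraspecial of order 32 with C/Q isomorphic to the commutator subgroup of the isometry group of the elliptic quadratic form in dimension 4 over the field with two elements (the alternating group of degree 5), with z not weakly closed in Q. Then for every involution t not conjugate to z, the centralizer of t is isomorphic to the direct product of an elementary abelian group of order 4 and the alternating group of degree 5, and the normalizer of the largest normal 2-subgroup of that centralizer is isomorphic to the direct product of the alternating groups of degrees 4 and 5. -/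
theorem result {G : Type*} [Group G] [Finite G] (z : G) (hz : orderOf z = 2) (Q : Subgroup (Subgroup.centralizer ({z} : Set G))) [Q.Normal] (hF : Cfsg.generalizedFittingSubgroup (Subgroup.centralizer ({z} : Set G)) = Q) (hQ : Cfsg.IsExtraspecial 2 Q) (hcard : Nat.card Q = 2 ^ 5) (e : (Subgroup.centralizer ({z} : Set G)) ⧸ Q ≃* Cfsg.Omega (ZMod 2) (Cfsg.quadFormMinus 1 (ZMod 2) 1 1)) (hnwc : ∃ g : G, (∃ hq : g * z * g⁻¹ ∈ Subgroup.centralizer ({z} : Set G), (⟨g * z * g⁻¹, hq⟩ : Subgroup.centralizer ({z} : Set G)) ∈ Q) ∧ g * z * g⁻¹ ≠ z) (hcl : ∃ x y : G, orderOf x = 2 ∧ orderOf y = 2 ∧ ¬ IsConj x y) (t : G) (ht : orderOf t = 2) (htz : ¬ IsConj t z) : Nonempty (↥(Subgroup.centralizer ({t} : Set G)) ≃* (Multiplicative (ZMod 2) × Multiplicative (ZMod 2)) × alternatingGroup (Fin 5)) ∧ Nonempty (↥(Subgroup.normalizer (((Cfsg.pCore 2 ↥(Subgroup.centralizer ({t} : Set G))).map (Subgroup.subtype (Subgroup.centralizer ({t} : Set G))) : Subgroup G) : Set G)) ≃* alternatingGroup (Fin 4) × alternatingGroup (Fin 5)) := by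
  obtain ⟨Q', K, hJ⟩ := CfsgLib.Characterizations.HallJanko.exists_hj z hz Q hF hQ hcard e hnwc hcl
  obtain ⟨t₀, P, B, hd⟩ := hJ.exists_data
  have hcl' : IsConj t₀ t := (hd.m.classes ht).resolve_left fun h => htz h.symm
  obtain ⟨g, rfl⟩ := isConj_iff.1 hcl'
  obtain ⟨eC⟩ := hd.nonempty_cent
  obtain ⟨eN⟩ := hd.nonempty_normalizer
  -- transport along conjugation by `g`
  have hmap : (Subgroup.centralizer ({t₀} : Set G)).map (MulAut.conj g).toMonoidHom =
      Subgroup.centralizer ({g * t₀ * g⁻¹} : Set G) := by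
    ext x
    simp only [Subgroup.mem_map, Subgroup.mem_centralizer_singleton_iff, MulEquiv.coe_toMonoidHom,
      MulAut.conj_apply]
    refine ⟨?_, fun hx => ⟨g⁻¹ * x * g, ?_, by group⟩⟩
    · rintro ⟨y, hy, rfl⟩
      rw [conj_mul, conj_mul, hy]
    · calc g⁻¹ * x * g * t₀ = g⁻¹ * (x * (g * t₀ * g⁻¹)) * g := by group
        _ = g⁻¹ * (g * t₀ * g⁻¹ * x) * g := by rw [hx]
        _ = t₀ * (g⁻¹ * x * g) := by group
  let E : ↥(Subgroup.centralizer ({t₀} : Set G)) ≃* ↥(Subgroup.centralizer ({g * t₀ * g⁻¹} : Set G)) :=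
    ((MulAut.conj g).subgroupMap _).trans (MulEquiv.subgroupCongr hmap)
  have hcore : ((Cfsg.pCore 2 ↥(Subgroup.centralizer ({g * t₀ * g⁻¹} : Set G))).map (Subgroup.subtype _) :
      Subgroup G) = P.map (MulAut.conj g).toMonoidHom := by
    rw [← hd.pCore_cent, Subgroup.map_map,
      show Cfsg.pCore 2 ↥(Subgroup.centralizer ({g * t₀ * g⁻¹} : Set G)) =
        (Cfsg.pCore 2 ↥(Subgroup.centralizer ({t₀} : Set G))).map E.toMonoidHom from ?_, Subgroup.map_map]
    · congr 1
    · have hle : ∀ {A C : Type _} [Group A] [Group C] (f : A ≃* C),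
          (Cfsg.pCore 2 A).map f.toMonoidHom ≤ Cfsg.pCore 2 C := fun {A C} _ _ f => by
        rw [Subgroup.map_le_iff_le_comap, Cfsg.pCore]
        refine sSup_le fun M hM => ?_
        rw [← Subgroup.map_le_iff_le_comap]
        exact le_sSup ⟨hM.1.map _ f.surjective, hM.2.map _⟩
      refine le_antisymm (fun x hx => ?_) (hle E)
      exact ⟨E.symm x, hle E.symm ⟨x, hx, rfl⟩, E.apply_symm_apply x⟩
  refine ⟨⟨E.symm.trans eC⟩, ?_⟩
  rw [hcore]
  have hN : (Subgroup.normalizer (P : Set G)).map (MulAut.conj g).toMonoidHom =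
      Subgroup.normalizer ((P.map (MulAut.conj g).toMonoidHom : Subgroup G) : Set G) := by
    rw [Subgroup.map_equiv_normalizer_eq]
  exact ⟨((MulEquiv.subgroupCongr hN.symm).trans ((MulAut.conj g).subgroupMap _).symm).trans eN⟩

end Cfsg.Agent.S5382
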