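import Cfsg.Statements.S5383
import Cfsg.Agent.S5390
import Cfsg.Agent.S5391
import Cfsg.Agent.Lib.Characterizations.SuzType.Setup
import Cfsg.Agent.Lib.Characterizations.SuzType.Three.Hyp
import Cfsg.Agent.Lib.Characterizations.SuzType.Seven.Main
import Cfsg.Agent.Lib.Classical.HermMatrixSimple

set_option autoImplicit false
open Cfsg
open CfsgLib.Characterizations.SuzType CfsgLib.Characterizations.SuzType.Three

namespace Cfsg.Agent.S5383

/-- Let G be a finite group of Suzuki sporadic type (involution z with generalized Fitting subgroup Q of its centralizer C extraspecial of order 2^7, C/Q the commutator subgroup of the isometry group of the elliptic quadratic form in dimension 6 over the field with two elements, z not weakly closed in Q). Then for every Sylow 7-subgroup B of G, the centralizer of B is isomorphic to the direct product of a cyclic group of order 7 and the alternating group of degree 4, and the normalizer of B has order 504. -/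
theorem result {G : Type*} [Group G] [Finite G] (z : G) (hz : orderOf z = 2) (Q : Subgroup (Subgroup.centralizer ({z} : Set G))) [Q.Normal] (hF : Cfsg.generalizedFittingSubgroup (Subgroup.centralizer ({z} : Set G)) = Q) (hQ : Cfsg.IsExtraspecial 2 Q) (hcard : Nat.card Q = 2 ^ 7) (e : (Subgroup.centralizer ({z} : Set G)) ⧸ Q ≃* Cfsg.Omega (ZMod 2) (Cfsg.quadFormMinus 2 (ZMod 2) 1 1)) (hnwc : ∃ g : G, (∃ hq : g * z * g⁻¹ ∈ Subgroup.centralizer ({z} : Set G), (⟨g * z * g⁻¹, hq⟩ : Subgroup.centralizer ({z} : Set G)) ∈ Q) ∧ g * z * g⁻¹ ≠ z) (B : Sylow 7 G) : Nonempty (↥(Subgroup.centralizer ((B : Subgroup G) : Set G)) ≃* Multiplicative (ZMod 7) × alternatingGroup (Fin 4)) ∧ Nat.card ↥(Subgroup.normalizer ((B : Subgroup G) : Set G)) = 504 := by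
  classical
  obtain ⟨Q', π, S⟩ := exists_suz z hz Q hF hQ hcard e hnwc
  obtain ⟨y, hy⟩ := exists_std S
  obtain ⟨H₁, H₂, hK', hn₁, hn₂, ⟨e₁⟩, ⟨e₂⟩, hmeet, hQ₀⟩ := exists_config S hy
  have hzb := orderOf_zbar S hy
  have hH : Nat.card ↥(CZ S hy) = 2 ^ 7 * 3 ^ 2 := by rw [card_CZ S hy]; norm_num
  haveI : Fintype (GaloisField 3 2) := Fintype.ofFinite _
  have hK : Fintype.card (GaloisField 3 2) = 9 := by
    rw [← Nat.card_eq_fintype_card, GaloisField.card 3 2 (by norm_num)]; norm_num
  obtain ⟨-, hconj⟩ := Cfsg.Agent.S5391.result (zbar S hy) hzb H₁ H₂ hK' hn₁ hn₂ e₁ e₂ hmeet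
    (img S hy (kq Q' y)) hQ₀ (genFitting_CZ S hy) (zbar_not_weakly_closed S hy) hH (card_inter_conj S hy)
  have hiso := Cfsg.Agent.S5390.result (zbar S hy) hzb H₁ H₂ hK' hn₁ hn₂ e₁ e₂ hmeet
    (img S hy (kq Q' y)) hQ₀ (genFitting_CZ S hy) (zbar_not_weakly_closed S hy) hH (card_inter_conj S hy)
    (GaloisField 3 2) hK
  exact CfsgLib.Characterizations.SuzType.Seven.seven_main S hy (GaloisField 3 2) hK hiso hconj B

end Cfsg.Agent.S5383
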