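import Cfsg.Statements.S5387
import Cfsg.Agent.Lib.Schur.PSL3FourCover.Main
import Cfsg.Agent.Lib.SmallGroups.M21

set_option autoImplicit false
set_option linter.style.haveILetI false
open Cfsg
open Subgroup
open scoped commutatorElement

namespace Cfsg.Agent.S5387

theorem bijective_of_card {D L : Type*} [Group D] [Finite D] [Group L] [Finite L]
    (hD : Nat.card D ≤ 4 * 20160) (g : D →* L) (hc : Nat.card (center L) = 4)
    (hq : Nat.card (L ⧸ center L) = 20160) (hg : Function.Surjective g) : Function.Bijective g := by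
  have h1 : Nat.card L = 4 * 20160 := by
    rw [← (center L).card_mul_index, hc, ← hq]
    rfl
  exact (Nat.bijective_iff_surjective_and_card g).mpr
    ⟨hg, le_antisymm (h1 ▸ hD) (Nat.card_le_card_of_surjective g hg)⟩

/-- Up to isomorphism there is at most one quasisimple group whose centre is elementary abelian of order 4 and whose central quotient is isomorphic to the projective special linear group of dimension 3 over the field with four elements: any two such groups are isomorphic. -/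
theorem result {L₁ L₂ : Type*} [Group L₁] [Finite L₁] [Group L₂] [Finite L₂] (F : Type) [Field F] [Fintype F] (hF : Fintype.card F = 4) (h₁ : Cfsg.IsQuasisimple L₁) (h₂ : Cfsg.IsQuasisimple L₂) (hc₁ : Nat.card (Subgroup.center L₁) = 4) (hc₂ : Nat.card (Subgroup.center L₂) = 4) (he₁ : ∀ x ∈ Subgroup.center L₁, x * x = 1) (he₂ : ∀ x ∈ Subgroup.center L₂, x * x = 1) (e₁ : L₁ ⧸ Subgroup.center L₁ ≃* Matrix.ProjectiveSpecialLinearGroup (Fin 3) F) (e₂ : L₂ ⧸ Subgroup.center L₂ ≃* Matrix.ProjectiveSpecialLinearGroup (Fin 3) F) : Nonempty (L₁ ≃* L₂) := by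
  haveI := h₁.1
  haveI := h₂.1
  set φ₁ := e₁.toMonoidHom.comp (QuotientGroup.mk' (center L₁)) with hφ₁
  set φ₂ := e₂.toMonoidHom.comp (QuotientGroup.mk' (center L₂)) with hφ₂
  have hs₁ : Function.Surjective φ₁ := e₁.surjective.comp (QuotientGroup.mk'_surjective _)
  have hs₂ : Function.Surjective φ₂ := e₂.surjective.comp (QuotientGroup.mk'_surjective _)
  have hk₁ : ∀ x, φ₁ x = 1 ↔ x ∈ center L₁ := fun x => by simp [hφ₁]
  have hk₂ : ∀ x, φ₂ x = 1 ↔ x ∈ center L₂ := fun x => by simp [hφ₂]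
  set P₀ : Subgroup (L₁ × L₂) :=
    (φ₁.comp (MonoidHom.fst L₁ L₂)).eqLocus (φ₂.comp (MonoidHom.snd L₁ L₂)) with hP₀
  set D := ⁅P₀, P₀⁆ with hD
  have hDP : D ≤ P₀ := commutator_le_self P₀
  have hfst : D.map (MonoidHom.fst L₁ L₂) = ⊤ := by
    rw [hD, map_commutator, show P₀.map (MonoidHom.fst L₁ L₂) = ⊤ from ?_, ← _root_.commutator_def,
      Group.IsPerfect.commutator_eq_top]
    refine eq_top_iff.mpr fun a _ => ?_
    obtain ⟨b, hb⟩ := hs₂ (φ₁ a)
    exact ⟨(a, b), hb.symm, rfl⟩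
  have hsnd : D.map (MonoidHom.snd L₁ L₂) = ⊤ := by
    rw [hD, map_commutator, show P₀.map (MonoidHom.snd L₁ L₂) = ⊤ from ?_, ← _root_.commutator_def,
      Group.IsPerfect.commutator_eq_top]
    refine eq_top_iff.mpr fun b _ => ?_
    obtain ⟨a, ha⟩ := hs₁ (φ₂ b)
    exact ⟨(a, b), ha, rfl⟩
  let π : ↥D →* Matrix.ProjectiveSpecialLinearGroup (Fin 3) F :=
    (φ₁.comp (MonoidHom.fst L₁ L₂)).comp D.subtype
  have hπs : Function.Surjective π := fun q => by
    obtain ⟨a, rfl⟩ := hs₁ q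
    obtain ⟨d, hd, hda⟩ := hfst.ge (mem_top a)
    exact ⟨⟨d, hd⟩, congrArg φ₁ hda⟩
  have hker : ∀ d : ↥D, π d = 1 → (d : L₁ × L₂).1 ∈ center L₁ ∧ (d : L₁ × L₂).2 ∈ center L₂ :=
    fun d hd => ⟨(hk₁ _).mp hd, (hk₂ _).mp ((hDP d.2).symm.trans hd)⟩
  have hπk : π.ker ≤ center ↥D := fun d hd => mem_center_iff.mpr fun y => Subtype.ext
    (Prod.ext (mem_center_iff.mp (hker d hd).1 _) (mem_center_iff.mp (hker d hd).2 _))
  have hπe : ∀ z ∈ π.ker, z * z = 1 := fun z hz =>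
    Subtype.ext (Prod.ext (he₁ _ (hker z hz).1) (he₂ _ (hker z hz).2))
  have hperf : ⁅D, D⁆ = D := by
    refine le_antisymm (commutator_le_self D) ?_
    conv_lhs => rw [hD]
    refine commutator_le.mpr fun p hp q hq => ?_
    obtain ⟨d, hd⟩ := hπs (φ₁ p.1)
    obtain ⟨d', hd'⟩ := hπs (φ₁ q.1)
    have hc : ∀ (p : L₁ × L₂) (d : ↥D), p ∈ P₀ → π d = φ₁ p.1 →
        ∀ y, ((d : L₁ × L₂)⁻¹ * p) * y = y * ((d : L₁ × L₂)⁻¹ * p) := by
      intro p d hp hd y
      have h1 : ((d : L₁ × L₂)⁻¹ * p).1 ∈ center L₁ := (hk₁ _).mp (by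
        show φ₁ ((d : L₁ × L₂).1⁻¹ * p.1) = 1
        rw [map_mul, map_inv, ← hd]; exact inv_mul_cancel _)
      have h2 : ((d : L₁ × L₂)⁻¹ * p).2 ∈ center L₂ := (hk₂ _).mp (by
        show φ₂ ((d : L₁ × L₂).2⁻¹ * p.2) = 1
        have e1 : φ₁ (d : L₁ × L₂).1 = φ₂ (d : L₁ × L₂).2 := hDP d.2
        have e2 : φ₁ p.1 = φ₂ p.2 := hp
        rw [map_mul, map_inv, ← e1, ← e2, ← hd]
        exact inv_mul_cancel _)
      exact Prod.ext (mem_center_iff.mp h1 _).symm (mem_center_iff.mp h2 _).symm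
    have hcong : ⁅p, q⁆ = ⁅(d : L₁ × L₂), (d' : L₁ × L₂)⁆ := by
      have hz := hc p d hp hd
      have hw := hc q d' hq hd'
      rw [show p = (d : L₁ × L₂) * ((d : L₁ × L₂)⁻¹ * p) by group,
        show q = (d' : L₁ × L₂) * ((d' : L₁ × L₂)⁻¹ * q) by group]
      generalize (d : L₁ × L₂)⁻¹ * p = z at hz
      generalize (d' : L₁ × L₂)⁻¹ * q = w at hw
      simp only [commutatorElement_def]
      calc (d : L₁ × L₂) * z * ((d' : L₁ × L₂) * w) * ((d : L₁ × L₂) * z)⁻¹ *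
            ((d' : L₁ × L₂) * w)⁻¹
          = (d : L₁ × L₂) * (z * ((d' : L₁ × L₂) * w)) * z⁻¹ * (d : L₁ × L₂)⁻¹ * w⁻¹ *
              (d' : L₁ × L₂)⁻¹ := by group
        _ = (d : L₁ × L₂) * (d' : L₁ × L₂) * (w * (d : L₁ × L₂)⁻¹) * w⁻¹ *
              (d' : L₁ × L₂)⁻¹ := by rw [hz]; group
        _ = _ := by rw [hw]; group
    rw [hcong]
    exact commutator_mem_commutator d.2 d'.2
  have hπd : π.ker ≤ commutator ↥D := by
    have : commutator ↥D = ⊤ := map_injective D.subtype_injective (by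
      rw [_root_.commutator_def, map_commutator, ← MonoidHom.range_eq_map, range_subtype, hperf])
    rw [this]; exact le_top
  have hcard := CfsgLib.SmallGroups.M21.card_psl F hF
  have h4 : Nat.card π.ker ≤ 4 := CfsgLib.Schur.PSL3FourCover.card_ker_le hF π
    (QuotientGroup.mk' (center (Matrix.SpecialLinearGroup (Fin 3) F)))
    (QuotientGroup.mk'_surjective _) (by rw [QuotientGroup.ker_mk']) hπk hπe hπs hπd hcard
  have hD4 : Nat.card ↥D ≤ 4 * 20160 := by
    rw [← π.ker.card_mul_index, index_ker, MonoidHom.range_eq_top.mpr hπs, card_top, hcard]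
    exact Nat.mul_le_mul_right _ h4
  have hb₁ := bijective_of_card hD4 ((MonoidHom.fst L₁ L₂).comp D.subtype) hc₁
    (by rw [Nat.card_congr e₁.toEquiv, hcard]) fun a => by
      obtain ⟨d, hd, hda⟩ := hfst.ge (mem_top a)
      exact ⟨⟨d, hd⟩, hda⟩
  have hb₂ := bijective_of_card hD4 ((MonoidHom.snd L₁ L₂).comp D.subtype) hc₂
    (by rw [Nat.card_congr e₂.toEquiv, hcard]) fun a => by
      obtain ⟨d, hd, hda⟩ := hsnd.ge (mem_top a)
      exact ⟨⟨d, hd⟩, hda⟩
  exact ⟨(MulEquiv.ofBijective _ hb₁).symm.trans (MulEquiv.ofBijective _ hb₂)⟩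

end Cfsg.Agent.S5387
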