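import Cfsg.Agent.Lib.ThreeTransp.LeechModule
import Cfsg.Statements.S5392
-- import your own Cfsg.Agent.* helpers here

set_option autoImplicit false
open Cfsg

namespace Cfsg.Agent.S5392

/-- The Leech lattice modulo twice itself is a faithful irreducible module for the first Conway group: an automorphism of the rank-24 lattice built from the length-24 code that moves every lattice vector only by twice a lattice vector lies in the centre of the automorphism group (the centre consists of ±1, which act trivially there, so the kernel is exactly the centre), and an additive subgroup lying between twice the lattice and the lattice that is invariant under all lattice automorphisms is one of the two. -/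
theorem result : (∀ g : ↥Cfsg.Co0, (∀ v : ↥Cfsg.leechLattice, ∃ w : ↥Cfsg.leechLattice, ((g • v : ↥Cfsg.leechLattice) : Cfsg.GolayPt → ℤ) - (v : Cfsg.GolayPt → ℤ) = 2 • (w : Cfsg.GolayPt → ℤ)) → g ∈ Subgroup.center ↥Cfsg.Co0) ∧ ∀ M : AddSubgroup (Cfsg.GolayPt → ℤ), (∀ v ∈ Cfsg.leechLattice, (2 : ℤ) • v ∈ M) → M ≤ Cfsg.leechLattice → (∀ g : ↥Cfsg.Co0, ∀ v : ↥Cfsg.leechLattice, (v : Cfsg.GolayPt → ℤ) ∈ M → ((g • v : ↥Cfsg.leechLattice) : Cfsg.GolayPt → ℤ) ∈ M) → (∀ x ∈ M, ∃ w ∈ Cfsg.leechLattice, x = (2 : ℤ) • w) ∨ M = Cfsg.leechLattice := by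
  refine ⟨fun g hg => ?_, fun M h2 hM hinv => ?_⟩
  · refine CfsgLib.ThreeTransp.LeechModule.central_of_trivial g fun v => ?_
    obtain ⟨w, hw⟩ := hg v
    exact ⟨w, Subtype.ext (by rw [AddSubgroupClass.coe_sub, hw, AddSubgroup.coe_add, two_nsmul])⟩
  · by_cases hall : ∀ x ∈ M, ∃ w ∈ Cfsg.leechLattice, x = (2 : ℤ) • w
    · exact Or.inl hall
    push Not at hall
    obtain ⟨x, hx, hxd⟩ := hall
    refine Or.inr (le_antisymm hM fun y hy => ?_)
    exact CfsgLib.ThreeTransp.LeechModule.eq_top (M.addSubgroupOf Cfsg.leechLattice)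
      (fun v => by
        rw [AddSubgroup.mem_addSubgroupOf, AddSubgroup.coe_add, ← two_zsmul]
        exact h2 _ v.2)
      (fun g v hv => hinv g v hv) (x := ⟨x, hM hx⟩) hx
      (fun v hv => hxd v v.2 (by rw [two_zsmul]; exact congrArg Subtype.val hv)) ⟨y, hy⟩

end Cfsg.Agent.S5392
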