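import Cfsg.Statements.S5395
-- import your own Cfsg.Agent.* helpers here

set_option autoImplicit false
open Cfsg

namespace Cfsg.Agent.S5395

/-- For a finite extraspecial 2-group E, an automorphism of E that induces the identity on E modulo its centre is inner (so these automorphisms form exactly the inner automorphism group, an elementary abelian 2-group of order |E|/2). -/
theorem result {E : Type*} [Group E] [Finite E] (hE : Cfsg.IsExtraspecial 2 E) (φ : E ≃* E) (hφ : ∀ x : E, φ x * x⁻¹ ∈ Subgroup.center E) : ∃ g : E, ∀ x : E, φ x = g * x * g⁻¹ := by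
  obtain ⟨⟨-, -, hder⟩, hZ⟩ := hE
  haveI : NeZero (Monoid.exponent (Abelianization E)) :=
    ⟨Monoid.exponent_ne_zero_of_finite⟩
  set Z := Subgroup.center E with hZd
  obtain ⟨z₀, hz₀, hz1⟩ : ∃ z₀ : Z, z₀ ≠ 1 ∧ ∀ z : Z, z = 1 ∨ z = z₀ := by
    obtain ⟨a, b, hab, huniv⟩ := Nat.card_eq_two_iff.1 hZ
    have hm : ∀ z : Z, z = a ∨ z = b := fun z => by
      have : z ∈ ({a, b} : Set Z) := huniv ▸ Set.mem_univ z
      simpa using this
    rcases hm 1 with h | h
    · exact ⟨b, fun hb => hab (h.symm.trans hb.symm), fun z => h ▸ hm z⟩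
    · exact ⟨a, fun ha => hab (ha.trans h), fun z => h ▸ (hm z).symm⟩
  haveI : DecidableEq Z := Classical.decEq _
  have hsq : z₀ * z₀ = 1 := by
    rcases hz1 (z₀ * z₀) with h | h
    · exact h
    · exact absurd (mul_eq_left.1 h) hz₀
  let σ : Z →* ℂˣ :=
    { toFun := fun z => if z = 1 then 1 else -1
      map_one' := if_pos rfl
      map_mul' := fun x y => by
        rcases hz1 x with rfl | rfl <;> rcases hz1 y with rfl | rfl <;> simp [hz₀, hsq] }
  have hσ : ∀ z, σ z = 1 → z = 1 := by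
    intro z hz
    by_contra hne
    have h : (-1 : ℂˣ) = 1 := by simpa [σ, hne] using hz
    have := congrArg (Units.val) h
    norm_num at this
  have hcm : ∀ g x : E, g * x * g⁻¹ * x⁻¹ ∈ Z := fun g x => by
    rw [← hder]
    exact Subgroup.commutator_mem_commutator (Subgroup.mem_top g) (Subgroup.mem_top x)
  let β : E → E →* Z := fun g =>
    { toFun := fun x => ⟨g * x * g⁻¹ * x⁻¹, hcm g x⟩
      map_one' := by ext; simp
      map_mul' := fun x y => by
        ext
        show g * (x * y) * g⁻¹ * (x * y)⁻¹ = g * x * g⁻¹ * x⁻¹ * (g * y * g⁻¹ * y⁻¹)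
        have := Subgroup.mem_center_iff.1 (hcm g y) x⁻¹
        calc g * (x * y) * g⁻¹ * (x * y)⁻¹ = g * x * g⁻¹ * ((g * y * g⁻¹ * y⁻¹) * x⁻¹) := by group
          _ = g * x * g⁻¹ * x⁻¹ * (g * y * g⁻¹ * y⁻¹) := by rw [← this]; group }
  have hβ : ∀ g h x : E, β (g * h) x = β g x * β h x := by
    intro g h x
    ext
    show g * h * x * (g * h)⁻¹ * x⁻¹ = g * x * g⁻¹ * x⁻¹ * (h * x * h⁻¹ * x⁻¹)
    have c1 := Subgroup.mem_center_iff.1 (hcm h x) g
    have c2 := Subgroup.mem_center_iff.1 (hcm h x) (g * x * g⁻¹ * x⁻¹)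
    calc g * h * x * (g * h)⁻¹ * x⁻¹ = g * (h * x * h⁻¹ * x⁻¹) * (x * g⁻¹ * x⁻¹) := by group
      _ = (h * x * h⁻¹ * x⁻¹) * (g * x * g⁻¹ * x⁻¹) := by rw [c1]; group
      _ = g * x * g⁻¹ * x⁻¹ * (h * x * h⁻¹ * x⁻¹) := c2.symm
  let Ψ₀ : E →* (Abelianization E →* ℂˣ) :=
    { toFun := fun g => Abelianization.lift (σ.comp (β g))
      map_one' := by
        apply Abelianization.hom_ext
        ext x
        have : β 1 x = 1 := Subtype.ext (by show 1 * x * 1⁻¹ * x⁻¹ = 1; simp)
        simp [this]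
      map_mul' := fun g h => by
        apply Abelianization.hom_ext
        ext x
        simp [hβ g h x] }
  let Ψ := Abelianization.lift Ψ₀
  have hinj : Function.Injective Ψ := by
    rw [injective_iff_map_eq_one]
    intro v hv
    obtain ⟨g, rfl⟩ : ∃ g, Abelianization.of g = v := QuotientGroup.mk'_surjective _ v
    have hg : g ∈ Z := Subgroup.mem_center_iff.2 fun x => by
      have h := DFunLike.congr_fun hv (Abelianization.of x)
      simp only [Ψ, Abelianization.lift_apply_of] at h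
      have h1 : β g x = 1 := hσ _ (by simpa [Ψ₀] using h)
      have h2 : g * x * g⁻¹ * x⁻¹ = 1 := congrArg Subtype.val h1
      exact (mul_inv_eq_iff_eq_mul.1 (mul_inv_eq_one.1 h2)).symm
    rw [← MonoidHom.mem_ker, Abelianization.ker_of, hder]
    exact hg
  have hbij : Function.Bijective Ψ :=
    (Nat.bijective_iff_injective_and_card Ψ).2
      ⟨hinj, (CommGroup.card_monoidHom_of_hasEnoughRootsOfUnity (Abelianization E) ℂ).symm⟩
  have hfix : ∀ z : E, z ∈ Z → φ z = z := by
    intro z hz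
    rcases eq_or_ne z 1 with rfl | hne
    · exact map_one φ
    have hmem : φ z ∈ Z := by
      rw [Subgroup.mem_center_iff]
      intro y
      have := congrArg φ (Subgroup.mem_center_iff.1 hz (φ.symm y))
      simpa using this
    rcases hz1 ⟨φ z, hmem⟩ with h | h
    · have h' : φ z = 1 := congrArg Subtype.val h
      exact absurd (φ.map_eq_one_iff.1 h') hne
    · rcases hz1 ⟨z, hz⟩ with h' | h'
      · exact absurd (congrArg Subtype.val h') hne
      · exact congrArg Subtype.val (h.trans h'.symm)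
  let f : E →* Z :=
    { toFun := fun x => ⟨φ x * x⁻¹, hφ x⟩
      map_one' := by ext; simp
      map_mul' := fun x y => by
        ext
        show φ (x * y) * (x * y)⁻¹ = φ x * x⁻¹ * (φ y * y⁻¹)
        have := Subgroup.mem_center_iff.1 (hφ y) x⁻¹
        calc φ (x * y) * (x * y)⁻¹ = φ x * ((φ y * y⁻¹) * x⁻¹) := by rw [map_mul]; group
          _ = φ x * x⁻¹ * (φ y * y⁻¹) := by rw [← this]; group }
  obtain ⟨v, hv⟩ := hbij.2 (Abelianization.lift (σ.comp f))
  obtain ⟨g, rfl⟩ : ∃ g, Abelianization.of g = v := QuotientGroup.mk'_surjective _ v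
  refine ⟨g, fun x => ?_⟩
  have h := DFunLike.congr_fun hv (Abelianization.of x)
  simp only [Ψ, Ψ₀, Abelianization.lift_apply_of, MonoidHom.coe_mk, OneHom.coe_mk,
    MonoidHom.comp_apply] at h
  have h1 : β g x = f x := by
    rw [← mul_inv_eq_one]
    apply hσ
    rw [map_mul, map_inv, h, mul_inv_cancel]
  have h2 : g * x * g⁻¹ * x⁻¹ = φ x * x⁻¹ := congrArg Subtype.val h1
  exact (mul_right_cancel h2).symm

end Cfsg.Agent.S5395
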