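import Cfsg.Statements.S5396
import Cfsg.Agent.Lib.PGroup.ExtraspecialBothRanks

set_option autoImplicit false
open Cfsg

namespace Cfsg.Agent.S5396

/-- For every n ≥ 1 there exist finite extraspecial 2-groups of order 2^(2n+1) whose 2-rank (the largest rank of an elementary abelian subgroup) is n, and ones whose 2-rank is n + 1 (so for each such order there are two non-isomorphic extraspecial 2-groups, told apart by their 2-rank). -/
theorem result (n : ℕ) (hn : 1 ≤ n) : ∀ r ∈ ({n, n + 1} : Set ℕ), ∃ (E : Type) (_ : Group E) (_ : Finite E), Cfsg.IsExtraspecial 2 E ∧ Nat.card E = 2 ^ (2 * n + 1) ∧ sSup {k : ℕ | ∃ A : Subgroup E, Cfsg.IsElementaryAbelian 2 A ∧ Nat.card A = 2 ^ k} = r := by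
  classical
  intro r hr
  obtain ⟨k, rfl⟩ := Nat.exists_eq_add_of_le' hn
  let P := fun m : Bool => ∏ i : Fin (k + 1), (if CfsgLib.PGroup.ExtraspecialBothRanks.mf m i then 1 else 2 : ℕ)
  have hP : P false = 2 ^ (k + 1) ∧ P true = 2 ^ k := by
    constructor
    · simp [P, CfsgLib.PGroup.ExtraspecialBothRanks.mf]
    · simp [P, CfsgLib.PGroup.ExtraspecialBothRanks.mf, Fin.prod_univ_succ]
  have hneg : (∏ i : Fin (k + 1),
      (if CfsgLib.PGroup.ExtraspecialBothRanks.mf true i then -2 else 2 : ℤ)) < 0 := by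
    simp [CfsgLib.PGroup.ExtraspecialBothRanks.mf, Fin.prod_univ_succ]
  have key : ∀ (m : Bool) (s : ℕ), 2 * P m = 2 ^ s →
      (∀ A : Subgroup (CfsgLib.PGroup.ExtraspecialBothRanks.Ext (k + 1) m),
        Cfsg.IsElementaryAbelian 2 A → ∀ j, Nat.card A = 2 ^ j → j ≤ s) →
      ∃ (E : Type) (_ : Group E) (_ : Finite E), Cfsg.IsExtraspecial 2 E ∧
        Nat.card E = 2 ^ (2 * (k + 1) + 1) ∧
        sSup {j : ℕ | ∃ A : Subgroup E, Cfsg.IsElementaryAbelian 2 A ∧ Nat.card A = 2 ^ j} = s := by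
    intro m s hs hle
    refine ⟨CfsgLib.PGroup.ExtraspecialBothRanks.Ext (k + 1) m, inferInstance, inferInstance,
      CfsgLib.PGroup.ExtraspecialBothRanks.isExtraspecial hn,
      CfsgLib.PGroup.ExtraspecialBothRanks.card_ext, IsGreatest.csSup_eq ⟨?_, ?_⟩⟩
    · exact ⟨_, CfsgLib.PGroup.ExtraspecialBothRanks.bigSub_elementary, by
        rw [CfsgLib.PGroup.ExtraspecialBothRanks.card_bigSub]; exact hs⟩
    · rintro j ⟨A, hA, hc⟩
      exact hle A hA j hc
  rcases hr with rfl | hr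
  · refine key true (k + 1) (by rw [hP.2, pow_succ']) fun A hA j hj => ?_
    obtain ⟨h1, h2⟩ := CfsgLib.PGroup.ExtraspecialBothRanks.elementary_bound hA
    obtain ⟨h3, h4⟩ := CfsgLib.PGroup.ExtraspecialBothRanks.singular_bound true _ h1
    have h5 := h4 hneg
    by_contra hlt
    have h6 : 2 ^ (k + 2) ≤ 2 ^ j := Nat.pow_le_pow_right two_pos (by omega)
    have h7 : (2 : ℕ) ^ (k + 2) = 2 * 2 ^ (k + 1) := pow_succ' 2 (k + 1)
    omega
  · rw [Set.mem_singleton_iff] at hr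
    subst hr
    refine key false (k + 1 + 1) (by rw [hP.1, pow_succ' 2 (k + 1)]) fun A hA j hj => ?_
    obtain ⟨h1, h2⟩ := CfsgLib.PGroup.ExtraspecialBothRanks.elementary_bound hA
    obtain ⟨h3, -⟩ := CfsgLib.PGroup.ExtraspecialBothRanks.singular_bound false _ h1
    by_contra hlt
    have h6 : 2 ^ (k + 3) ≤ 2 ^ j := Nat.pow_le_pow_right two_pos (by omega)
    have h7 : (2 : ℕ) ^ (k + 3) = 4 * 2 ^ (k + 1) := by rw [pow_add, pow_add]; ring
    have h8 : 1 ≤ 2 ^ (k + 1) := Nat.one_le_two_pow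
    omega

end Cfsg.Agent.S5396
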