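import Cfsg.Statements.S5405
import Cfsg.Agent.Lib.ThreeTransp.H1VanishData
import Cfsg.Agent.Lib.Orth.Standard

set_option autoImplicit false
open scoped MatrixGroups
open Cfsg

namespace Cfsg.Agent.S5405
open CfsgLib.Orth CfsgLib.ThreeTransp.H1Vanish

/-- Bit positions of the plus coordinates. -/
def ePlus (m : ℕ) : Fin m ⊕ Fin m ≃ Fin (m + m) := finSumFinEquiv

/-- Bit positions of the minus coordinates. -/
def eMinus (m : ℕ) : (Fin m ⊕ Fin m) ⊕ Fin 2 ≃ Fin (m + m + 2) :=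
  (Equiv.sumCongr finSumFinEquiv (Equiv.refl _)).trans finSumFinEquiv

theorem aniso11 : ∀ z₁ z₂ : ZMod 2, z₁ ^ 2 + 1 * z₁ * z₂ + 1 * z₂ ^ 2 = 0 → z₁ = 0 ∧ z₂ = 0 := by
  decide +kernel

theorem q_four : ∀ x < 2 ^ 4, Cfsg.quadFormMinus 1 (ZMod 2) 1 1 (dec (eMinus 1) x) =
    if fourCert.q x then 1 else 0 := by decide +kernel

theorem q_six : ∀ x < 2 ^ 6, Cfsg.quadFormMinus 2 (ZMod 2) 1 1 (dec (eMinus 2) x) =
    if sixCert.q x then 1 else 0 := by decide +kernel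

theorem q_eight : ∀ x < 2 ^ 8, Cfsg.quadFormPlus 4 (ZMod 2) (dec (ePlus 4) x) =
    if eightCert.q x then 1 else 0 := by decide +kernel

/-- The group in dimension 4 is generated by reflections. -/
theorem four_gen (g : orthGroup (minusForm (ZMod 2) 1 1 1)) : g ∈ reflGroup (minusForm (ZMod 2) 1 1 1) := by
  classical
  set e := eMinus 1
  have hq : ∀ x < 2 ^ 4, (minusForm (ZMod 2) 1 1 1) (dec e x) = if fourCert.q x then 1 else 0 := fun x hx =>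
    (minusForm_apply 1 1 1 _).symm.trans (q_four x hx)
  have hcmp : ∀ x y, x < 2 ^ 4 → y < 2 ^ 4 → (minusForm (ZMod 2) 1 1 1) (dec e x) = (minusForm (ZMod 2) 1 1 1) (dec e y) → fourCert.q x = fourCert.q y := by
    intro x y hx hy h
    rw [hq x hx, hq y hy] at h
    cases h1 : fourCert.q x <;> cases h2 : fourCert.q y <;> simp [h1, h2] at h ⊢
  obtain ⟨a, ha, hae⟩ := dec_surj e (g.1 (dec e 1))
  obtain ⟨b, hb, hbe⟩ := dec_surj e (g.1 (dec e 2))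
  obtain ⟨c, hc, hce⟩ := dec_surj e (g.1 (dec e 4))
  obtain ⟨d, hd, hde⟩ := dec_surj e (g.1 (dec e 8))
  have h1 : ∀ {x i : ℕ}, x < 2 ^ 4 → i < 2 ^ 4 → dec e x = g.1 (dec e i) → fourCert.q x = fourCert.q i :=
    fun {x i} hx hi h => hcmp x i hx hi (by rw [h, apply_quad])
  have h2 : ∀ {x y i j k : ℕ}, x < 2 ^ 4 → y < 2 ^ 4 → k < 2 ^ 4 → dec e x = g.1 (dec e i) →
      dec e y = g.1 (dec e j) → i ^^^ j = k → fourCert.q (x ^^^ y) = fourCert.q k :=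
    fun {x y i j k} hx hy hk hxe hye hk' => hcmp _ _ (Nat.xor_lt_two_pow hx hy) hk
      (by rw [dec_xor, hxe, hye, ← map_add, apply_quad, ← dec_xor, hk'])
  have e1 := h1 ha (by norm_num) hae
  have e2 := h1 hb (by norm_num) hbe
  have e4 := h1 hc (by norm_num) hce
  have e8 := h1 hd (by norm_num) hde
  have e3 := h2 (k := 3) ha hb (by norm_num) hae hbe (by decide)
  have e5 := h2 (k := 5) ha hc (by norm_num) hae hce (by decide)
  have e6 := h2 (k := 6) hb hc (by norm_num) hbe hce (by decide)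
  have e9 := h2 (k := 9) ha hd (by norm_num) hae hde (by decide)
  have e10 := h2 (k := 10) hb hd (by norm_num) hbe hde (by decide)
  have e12 := h2 (k := 12) hc hd (by norm_num) hce hde (by decide)
  have H := fourTuples_ok
  simp only [fourTuples, List.all_eq_true, List.any_eq_true, List.mem_range, Bool.or_eq_true, bne_iff_ne,
    Bool.and_eq_true, beq_iff_eq] at H
  rcases H a ha with h | H; · exact absurd e1 h
  rcases H b hb with (h | h) | H; · exact absurd e2 h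
  · exact absurd e3 h
  rcases H c hc with ((h | h) | h) | H; · exact absurd e4 h
  · exact absurd e5 h
  · exact absurd e6 h
  rcases H d hd with (((h | h) | h) | h) | H; · exact absurd e8 h
  · exact absurd e9 h
  · exact absurd e10 h
  · exact absurd e12 h
  obtain ⟨L, -, ⟨⟨⟨hv, la⟩, lb⟩, lc⟩, ld⟩ := H
  have hg : g = elt e (minusForm (ZMod 2) 1 1 1) L := by
    refine Subtype.ext (LinearEquiv.toLinearMap_injective (LinearMap.pi_ext' fun i => LinearMap.ext_ring ?_))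
    show g.1 (Pi.single i 1) = (elt e (minusForm (ZMod 2) 1 1 1) L).1 (Pi.single i 1)
    have hi : 2 ^ (e i).1 < 2 ^ 4 := Nat.pow_lt_pow_right one_lt_two (e i).2
    rw [single_eq e, (elt_dec fourCert e (minusForm (ZMod 2) 1 1 1) hq L hv _ hi).2]
    have h4 := (e i).2
    rcases (show (e i).1 = 0 ∨ (e i).1 = 1 ∨ (e i).1 = 2 ∨ (e i).1 = 3 by omega) with h | h | h | h <;> rw [h]
    · rw [show (2 : ℕ) ^ 0 = 1 by norm_num, la]; exact hae.symm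
    · rw [show (2 : ℕ) ^ 1 = 2 by norm_num, lb]; exact hbe.symm
    · rw [show (2 : ℕ) ^ 2 = 4 by norm_num, lc]; exact hce.symm
    · rw [show (2 : ℕ) ^ 3 = 8 by norm_num, ld]; exact hde.symm
  rw [hg]
  refine Subgroup.list_prod_mem _ fun x hx => ?_
  obtain ⟨y, -, rfl⟩ := List.mem_map.1 hx
  exact Subgroup.subset_closure ⟨_, rfl⟩

/-- Transfer to the matrix groups. -/
theorem transfer {ι : Type} [Fintype ι] [DecidableEq ι] {n : ℕ} (c : Cert) (e : ι ≃ Fin n)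
    {Qf : (ι → ZMod 2) → ZMod 2} (Q : QuadraticForm (ZMod 2) (ι → ZMod 2)) (hQf : ∀ v, Qf v = Q v)
    (hq : ∀ x < 2 ^ n, Qf (dec e x) = if c.q x then 1 else 0)
    (hQ : (QuadraticMap.polarBilin Q).Nondegenerate) (hgen : ∀ g : orthGroup Q, g ∈ reflGroup Q)
    (hok : c.ok n = true) (f : ↥(Cfsg.Omega (ZMod 2) Qf) → (ι → ZMod 2))
    (hf : ∀ g h : ↥(Cfsg.Omega (ZMod 2) Qf), f (g * h) = f g + Matrix.mulVec
      (((g : ↥(Cfsg.isometryGroup (ZMod 2) Qf)) : GL ι (ZMod 2)) : Matrix ι ι (ZMod 2)) (f h)) :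
    ∃ v : ι → ZMod 2, ∀ g : ↥(Cfsg.Omega (ZMod 2) Qf), f g = Matrix.mulVec
      (((g : ↥(Cfsg.isometryGroup (ZMod 2) Qf)) : GL ι (ZMod 2)) : Matrix ι ι (ZMod 2)) v - v := by
  classical
  have hmem : ∀ g, g ∈ commutator (orthGroup Q) → (toOrth Q hQf).symm g ∈ Cfsg.Omega (ZMod 2) Qf := fun g hg =>
    (mem_Omega_iff Q hQf _).2 (by rw [MulEquiv.apply_symm_apply]; exact hg)
  let F : orthGroup Q → (ι → ZMod 2) := fun g =>
    if h : g ∈ commutator (orthGroup Q) then f ⟨(toOrth Q hQf).symm g, hmem g h⟩ else 0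
  obtain ⟨v, hv⟩ := principal c e Q (fun x hx => (hQf _).symm.trans (hq x hx)) hQ hgen hok F fun g hg h hh => by
    simp only [F, dif_pos hg, dif_pos hh, dif_pos (mul_mem hg hh)]
    have h1 := hf ⟨_, hmem g hg⟩ ⟨_, hmem h hh⟩
    rw [← toOrth_apply Q hQf, MulEquiv.apply_symm_apply] at h1
    rw [← h1]
    congr 1
    exact Subtype.ext (map_mul (toOrth Q hQf).symm g h)
  refine ⟨v, fun g => ?_⟩
  have hg := (mem_Omega_iff Q hQf g.1).1 g.2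
  have h := hv _ hg
  simp only [F, dif_pos hg] at h
  rw [← toOrth_apply Q hQf, ← h]
  congr 1
  exact Subtype.ext ((toOrth Q hQf).symm_apply_apply g.1).symm



/-- Vanishing of first cohomology on the natural module for three small orthogonal groups over the field with two elements: for the commutator subgroup of the isometry group of the elliptic quadratic form in dimension 4, of the elliptic form in dimension 6, and of the hyperbolic form in dimension 8, every crossed homomorphism into the natural module (a map f with f(gh) = f(g) + g·f(h)) is principal (of the form g ↦ g·v − v). -/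
theorem result : (∀ f : ↥(Cfsg.Omega (ZMod 2) (Cfsg.quadFormMinus 1 (ZMod 2) 1 1)) → ((Fin 1 ⊕ Fin 1) ⊕ Fin 2 → ZMod 2), (∀ g h : ↥(Cfsg.Omega (ZMod 2) (Cfsg.quadFormMinus 1 (ZMod 2) 1 1)), f (g * h) = f g + Matrix.mulVec (((g : ↥(Cfsg.isometryGroup (ZMod 2) (Cfsg.quadFormMinus 1 (ZMod 2) 1 1))) : GL ((Fin 1 ⊕ Fin 1) ⊕ Fin 2) (ZMod 2)) : Matrix ((Fin 1 ⊕ Fin 1) ⊕ Fin 2) ((Fin 1 ⊕ Fin 1) ⊕ Fin 2) (ZMod 2)) (f h)) → ∃ v : (Fin 1 ⊕ Fin 1) ⊕ Fin 2 → ZMod 2, ∀ g : ↥(Cfsg.Omega (ZMod 2) (Cfsg.quadFormMinus 1 (ZMod 2) 1 1)), f g = Matrix.mulVec (((g : ↥(Cfsg.isometryGroup (ZMod 2) (Cfsg.quadFormMinus 1 (ZMod 2) 1 1))) : GL ((Fin 1 ⊕ Fin 1) ⊕ Fin 2) (ZMod 2)) : Matrix ((Fin 1 ⊕ Fin 1) ⊕ Fin 2) ((Fin 1 ⊕ Fin 1) ⊕ Fin 2) (ZMod 2)) v - v) ∧ (∀ f : ↥(Cfsg.Omega (ZMod 2) (Cfsg.quadFormMinus 2 (ZMod 2) 1 1)) → ((Fin 2 ⊕ Fin 2) ⊕ Fin 2 → ZMod 2), (∀ g h : ↥(Cfsg.Omega (ZMod 2) (Cfsg.quadFormMinus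 2 (ZMod 2) 1 1)), f (g * h) = f g + Matrix.mulVec (((g : ↥(Cfsg.isometryGroup (ZMod 2) (Cfsg.quadFormMinus 2 (ZMod 2) 1 1))) : GL ((Fin 2 ⊕ Fin 2) ⊕ Fin 2) (ZMod 2)) : Matrix ((Fin 2 ⊕ Fin 2) ⊕ Fin 2) ((Fin 2 ⊕ Fin 2) ⊕ Fin 2) (ZMod 2)) (f h)) → ∃ v : (Fin 2 ⊕ Fin 2) ⊕ Fin 2 → ZMod 2, ∀ g : ↥(Cfsg.Omega (ZMod 2) (Cfsg.quadFormMinus 2 (ZMod 2) 1 1)), f g = Matrix.mulVec (((g : ↥(Cfsg.isometryGroup (ZMod 2) (Cfsg.quadFormMinus 2 (ZMod 2) 1 1))) : GL ((Fin 2 ⊕ Fin 2) ⊕ Fin 2) (ZMod 2)) : Matrix ((Fin 2 ⊕ Fin 2) ⊕ Fin 2) ((Fin 2 ⊕ Fin 2) ⊕ Fin 2) (ZMod 2)) v - v) ∧ (∀ f : ↥(Cfsg.Omega (ZMod 2) (Cfsg.quadFormPlus 4 (ZMod 2))) → (Fin 4 ⊕ Fin 4 → ZMod 2), (∀ g h : ↥(Cfsg.Omega (ZMod 2) (Cfsg.quadFormPlus 4 (ZMod 2))), f (g * h) = f g + Matrix.mulVec (((g : ↥(Cfsg.isometryGroup (ZMod 2) (Cfsg.quadFormPlus 4 (ZMod 2)))) : GL (Fin 4 ⊕ Fin 4) (ZMod 2)) : Matrix (Fin 4 ⊕ Fin 4) (Fin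 4 ⊕ Fin 4) (ZMod 2)) (f h)) → ∃ v : Fin 4 ⊕ Fin 4 → ZMod 2, ∀ g : ↥(Cfsg.Omega (ZMod 2) (Cfsg.quadFormPlus 4 (ZMod 2))), f g = Matrix.mulVec (((g : ↥(Cfsg.isometryGroup (ZMod 2) (Cfsg.quadFormPlus 4 (ZMod 2)))) : GL (Fin 4 ⊕ Fin 4) (ZMod 2)) : Matrix (Fin 4 ⊕ Fin 4) (Fin 4 ⊕ Fin 4) (ZMod 2)) v - v) := by
  refine ⟨?_, ?_, ?_⟩
  · exact transfer fourCert (eMinus 1) (minusForm (ZMod 2) 1 1 1) (minusForm_apply 1 1 1) q_four
      (minusForm_nondeg 1 1 1 aniso11) four_gen fourCert_ok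
  · exact transfer sixCert (eMinus 2) (minusForm (ZMod 2) 2 1 1) (minusForm_apply 2 1 1) q_six
      (minusForm_nondeg 2 1 1 aniso11) (fun g => by
        rw [reflGroup_eq_top (minusForm_nondeg 2 1 1 aniso11) (Or.inr (by simp))]; trivial) sixCert_ok
  · exact transfer eightCert (ePlus 4) (plusForm (ZMod 2) 4) (plusForm_apply 4) q_eight
      (plusForm_nondeg 4) (fun g => by
        rw [reflGroup_eq_top (plusForm_nondeg 4) (Or.inr (by simp))]; trivial) eightCert_ok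

end Cfsg.Agent.S5405
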