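import Cfsg.Statements.S5418
import Cfsg.Agent.Lib.Sporadic.MonsterFusion.HeldNormalizer
import Cfsg.Agent.Lib.Sporadic.MonsterFusion.HeldLayer

set_option autoImplicit false
open Cfsg
open CfsgLib.Sporadic.MonsterFusion CfsgLib.Sporadic.MonsterFusion.Held

namespace Cfsg.Agent.S5418

/-- Let G be a finite group of Monster type at the involution z with Q the extraspecial normal subgroup of order 2^25 of C = C_G(z) (so C/Q is identified with the first Conway group with Q modulo its centre the Leech lattice modulo 2, and z is not weakly closed in Q). Let s be a conjugate of z in Q other than z and let B be a Sylow 7-subgroup of the joint centralizer of z and s. Then the centralizer of B has index 6 in the normalizer of B; and some involution inverting B induces, by conjugation, a non-inner automorphism of the layer of the centralizer of B. -/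
theorem result {G : Type*} [Group G] [Finite G] (z : G) (Q : Subgroup (Subgroup.centralizer ({z} : Set G))) [Q.Normal] (hM : Cfsg.IsOfMonsterType z Q) (s : G) (hsQ : ∃ hsc : s ∈ Subgroup.centralizer ({z} : Set G), (⟨s, hsc⟩ : Subgroup.centralizer ({z} : Set G)) ∈ Q) (hs : IsConj z s) (hs1 : s ≠ z) (B : Subgroup G) (hB : B ≤ Subgroup.centralizer ({z, s} : Set G)) (hBp : Nat.card B = 7 ^ (Nat.card ↥(Subgroup.centralizer ({z, s} : Set G))).factorization 7) : (Subgroup.centralizer (B : Set G)).relIndex (Subgroup.normalizer (B : Set G)) = 6 ∧ ∃ t : G, orderOf t = 2 ∧ (∀ b ∈ B, t * b * t⁻¹ = b⁻¹) ∧ (∀ x ∈ (Cfsg.layer ↥(Subgroup.centralizer (B : Set G))).map (Subgroup.centralizer (B : Set G)).subtype, t * x * t⁻¹ ∈ (Cfsg.layer ↥(Subgroup.centralizer (B : Set G))).map (Subgroup.centralizer (B : Set G)).subtype) ∧ ¬ ∃ l ∈ (Cfsg.layer ↥(Subgroup.centralizer (B : Set G))).map (Subgroup.centralizer (B : Set G)).subtype, ∀ x ∈ (Cfsg.layer ↥(Subgroup.centralizer (B : Set G))).map (Subgroup.centralizer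 (B : Set G)).subtype, t * x * t⁻¹ = l * x * l⁻¹ := by
  classical
  obtain ⟨hcore, e0, ψ0, hiso⟩ := hM
  obtain ⟨hsc, hsQ'⟩ := hsQ
  obtain ⟨b, e, ψ, rfl, hb7, F, hb⟩ := Held.setup ⟨hcore, hiso⟩ hsc hsQ' hs hs1 B hB hBp
  have : Fact (Nat.Prime 7) := ⟨by norm_num⟩
  have hX : Subgroup.centralizer (Subgroup.zpowers (b : G) : Set G) =
      Subgroup.centralizer ({(b : G)} : Set G) := by
    rw [Subgroup.zpowers_eq_closure, Subgroup.centralizer_closure]
  rw [hX]
  set X := Subgroup.centralizer ({(b : G)} : Set G) with hXd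
  have hmemX : ∀ g : G, g ∈ X ↔ g * (b : G) = b * g := fun g => Subgroup.mem_centralizer_singleton_iff
  have hb7G : (b : G) ^ 7 = 1 := by rw [← hb7, pow_orderOf_eq_one]
  obtain ⟨h2, hh2⟩ := exists_sq_b F hb7 hb
  obtain ⟨t, htt, ht1, htb⟩ := exists_inverter F hb7 hb
  have htbG : (t : G) * b * (t : G)⁻¹ = (b : G)⁻¹ := congrArg Subtype.val htb
  have hh2G : (h2 : G) * b * (h2 : G)⁻¹ = (b : G) ^ 2 := congrArg Subtype.val hh2
  refine ⟨?_, ?_⟩
  · -- the automorphisms induced on the subgroup of order seven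
    have hXN : X = Subgroup.centralizer (Subgroup.zpowers (b : G) : Set G) := hX.symm
    rw [hXN, Subgroup.relIndex, ← Subgroup.normalizerMonoidHom_ker, Subgroup.index_ker]
    set φ := Subgroup.normalizerMonoidHom (Subgroup.zpowers (b : G))
    let β : Subgroup.zpowers (b : G) := ⟨b, Subgroup.mem_zpowers _⟩
    have hβ : β ≠ 1 := fun h => by
      have h' : (b : G) = 1 := congrArg Subtype.val h
      rw [h', orderOf_one] at hb7
      norm_num at hb7
    let Φ : φ.range → {x : Subgroup.zpowers (b : G) // x ≠ 1} := fun f =>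
      ⟨(f : MulAut _) β, fun h => hβ ((EmbeddingLike.map_eq_one_iff).1 h)⟩
    have hinj : Function.Injective Φ := by
      intro f f' h
      refine Subtype.ext (MulEquiv.ext fun x => ?_)
      obtain ⟨k, hk⟩ := Subgroup.mem_zpowers_iff.1 x.2
      have hx : x = β ^ k := Subtype.ext hk.symm
      rw [hx, map_zpow, map_zpow]
      exact congrArg (fun y => y ^ k) (congrArg Subtype.val h)
    let P : ℕ → Prop := fun k => ∃ n : G, n * (b : G) * n⁻¹ = (b : G) ^ k
    have P1 : P 1 := ⟨1, by simp⟩
    have hmul : ∀ j k, P j → P k → P (j * k) := by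
      rintro j k ⟨n, hn⟩ ⟨m, hm⟩
      refine ⟨m * n, ?_⟩
      calc m * n * (b : G) * (m * n)⁻¹ = m * (n * b * n⁻¹) * m⁻¹ := by group
        _ = (b : G) ^ (j * k) := by rw [hn, ← conj_pow, hm, ← pow_mul, mul_comm]
    have hP2 : P 2 := ⟨_, hh2G⟩
    have hP6 : P 6 := ⟨t, by
      rw [htbG, inv_eq_iff_mul_eq_one, ← pow_succ']
      exact hb7G⟩
    have hall : ∀ k < 7, k ≠ 0 → P k := by
      have red : ∀ k, P k → P (k % 7) := by
        rintro k ⟨n, hn⟩
        exact ⟨n, by rw [hn, ← hb7]; exact (pow_mod_orderOf _ _).symm⟩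
      intro k hk hk0
      interval_cases k
      · exact absurd rfl hk0
      · exact P1
      · exact hP2
      · exact red _ (hmul _ _ (hmul _ _ hP2 hP2) hP6)
      · exact red _ (hmul _ _ hP2 hP2)
      · exact red _ (hmul _ _ hP2 hP6)
      · exact hP6
    have hsurj : Function.Surjective Φ := by
      rintro ⟨x, hx⟩
      obtain ⟨i, hi⟩ := mem_powers_iff_mem_zpowers.2 x.2
      have hi' : (b : G) ^ (i % 7) = x := by rw [← hb7, pow_mod_orderOf]; exact hi
      obtain ⟨n, hn⟩ := hall (i % 7) (Nat.mod_lt _ (by norm_num)) fun h0 => hx (Subtype.ext (by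
        rw [← hi', h0, pow_zero, Subgroup.coe_one]))
      have hnN : n ∈ Subgroup.normalizer (Subgroup.zpowers (b : G) : Set G) := by
        refine Subgroup.mem_normalizer_fintype ?_
        intro y hy
        obtain ⟨k, rfl⟩ := Subgroup.mem_zpowers_iff.1 hy
        rw [← conj_zpow, hn]
        exact zpow_mem (pow_mem (Subgroup.mem_zpowers _) _) _
      exact ⟨⟨φ ⟨n, hnN⟩, ⟨n, hnN⟩, rfl⟩, Subtype.ext (Subtype.ext (hn.trans hi'))⟩
    rw [Nat.card_eq_of_bijective Φ ⟨hinj, hsurj⟩]
    have h := Nat.card_congr (Equiv.sumCompl fun x : Subgroup.zpowers (b : G) => x = 1)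
    have h7 : Nat.card (Subgroup.zpowers (b : G)) = 7 := by rw [Nat.card_zpowers, hb7]
    rw [h7, Nat.card_sum] at h
    have h1 : Nat.card {x : Subgroup.zpowers (b : G) // x = 1} = 1 := by simp
    rw [h1] at h
    show Nat.card {x : Subgroup.zpowers (b : G) // ¬ x = 1} = 6
    omega
  · refine ⟨(t : G), ?_, ?_, ?_, ?_⟩
    · have : Fact (Nat.Prime 2) := ⟨Nat.prime_two⟩
      exact orderOf_eq_prime (by rw [pow_two]; exact congrArg Subtype.val htt)
        fun h => ht1 (Subtype.ext h)
    · intro y hy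
      obtain ⟨k, rfl⟩ := Subgroup.mem_zpowers_iff.1 hy
      rw [← conj_zpow, htbG, inv_zpow]
    · have hconj : ∀ y : G, y ∈ X → (t : G) * y * (t : G)⁻¹ ∈ X := fun y hy => by
        rw [hmemX] at hy ⊢
        have e1 : (t : G) * y * (t : G)⁻¹ * (b : G)⁻¹ = (b : G)⁻¹ * ((t : G) * y * (t : G)⁻¹) := by
          rw [← htbG]
          calc (t : G) * y * (t : G)⁻¹ * ((t : G) * b * (t : G)⁻¹) = (t : G) * (y * b) * (t : G)⁻¹ := by group
            _ = (t : G) * b * (t : G)⁻¹ * ((t : G) * y * (t : G)⁻¹) := by rw [hy]; group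
        exact (inv_inv (b : G)) ▸ (Commute.inv_right e1).eq
      rintro _ ⟨x, hx, rfl⟩
      have htt' : (t : G)⁻¹ = (t : G) := inv_eq_of_mul_eq_one_right (congrArg Subtype.val htt)
      let α : X ≃* X :=
        { toFun := fun x => ⟨(t : G) * x * (t : G)⁻¹, hconj _ x.2⟩
          invFun := fun x => ⟨(t : G) * x * (t : G)⁻¹, hconj _ x.2⟩
          left_inv := fun x => Subtype.ext (by
            show (t : G) * ((t : G) * x * (t : G)⁻¹) * (t : G)⁻¹ = x
            calc _ = ((t : G) * t) * x * ((t : G) * t)⁻¹ := by group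
              _ = x := by rw [show (t : G) * t = 1 from congrArg Subtype.val htt]; group)
          right_inv := fun x => Subtype.ext (by
            show (t : G) * ((t : G) * x * (t : G)⁻¹) * (t : G)⁻¹ = x
            calc _ = ((t : G) * t) * x * ((t : G) * t)⁻¹ := by group
              _ = x := by rw [show (t : G) * t = 1 from congrArg Subtype.val htt]; group)
          map_mul' := fun x y => Subtype.ext (by simp [mul_assoc]) }
      exact ⟨α x, CfsgLib.Components.layer_map_le α ⟨x, hx, rfl⟩, rfl⟩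
    · rintro ⟨l, hl, hlx⟩
      set E := (Cfsg.layer ↥X).map X.subtype with hE
      have hQE : ∀ q : Q, Commute b (q : Subgroup.centralizer ({z} : Set G)) →
          ((q : Subgroup.centralizer ({z} : Set G)) : G) ∈ E := fun q hq => mem_layer F hb7 hb hq
      have hzC : Commute b (zC z) := Subtype.ext (Subgroup.mem_centralizer_singleton_iff.1 b.2)
      have hzE : z ∈ E := hQE ⟨zC z, F.extra.z_mem⟩ hzC
      have hlX : l ∈ X := Subgroup.map_subtype_le _ hl
      set u : G := l⁻¹ * (t : G) with hu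
      have hcomm : ∀ x ∈ E, u * x * u⁻¹ = x := fun x hx => by
        rw [hu]
        calc l⁻¹ * (t : G) * x * (l⁻¹ * (t : G))⁻¹ = l⁻¹ * ((t : G) * x * (t : G)⁻¹) * l := by group
          _ = x := by rw [hlx x hx]; group
      have huz : u * z = z * u := mul_inv_eq_iff_eq_mul.1 (hcomm z hzE)
      set c : Subgroup.centralizer ({z} : Set G) := ⟨u, Subgroup.mem_centralizer_singleton_iff.2 huz⟩ with hc
      have hcb : c * b * c⁻¹ = b⁻¹ := Subtype.ext (by
        show u * (b : G) * u⁻¹ = (b : G)⁻¹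
        have hl' : l⁻¹ * (b : G)⁻¹ * l = (b : G)⁻¹ := by
          have := (Commute.inv_right (show Commute l (b : G) from (hmemX l).1 hlX)).eq
          rw [mul_assoc, ← this, inv_mul_cancel_left]
        rw [hu]
        calc l⁻¹ * (t : G) * b * (l⁻¹ * (t : G))⁻¹ = l⁻¹ * ((t : G) * b * (t : G)⁻¹) * l := by group
          _ = (b : G)⁻¹ := by rw [htbG, hl'])
      exact no_inverter F hb7 hb hcb fun q hq => Subtype.ext (hcomm _ (hQE q hq))

end Cfsg.Agent.S5418
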