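import Cfsg.Agent.Lib.ThreeTransp.Basic
import Cfsg.Agent.Lib.Solvable.Cores
import Cfsg.Statements.S5420
-- import your own Cfsg.Agent.* helpers here

set_option autoImplicit false
open Cfsg

namespace Cfsg.Agent.S5420

/-- Let Q be an extraspecial 2-subgroup of the finite group G whose centralizer in G is its centre Z and which is normal in the centralizer of Z. If Z lies in the largest normal 2-subgroup of G, then Q is a large extraspecial 2-subgroup of G: it normalizes no non-trivial subgroup of G of odd order. -/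
theorem result {G : Type*} [Group G] [Finite G] (Q : Subgroup G) (hL1 : Cfsg.IsExtraspecial 2 ↥Q) (hL2 : Subgroup.centralizer (Q : Set G) = ((Subgroup.center ↥Q).map Q.subtype)) (hL3 : Subgroup.centralizer (((Subgroup.center ↥Q).map Q.subtype) : Set G) ≤ Subgroup.normalizer (Q : Set G)) (hZ : ((Subgroup.center ↥Q).map Q.subtype) ≤ Cfsg.pCore 2 G) : Cfsg.IsLargeExtraspecial Q := by
  refine ⟨hL1, hL2, hL3, fun K hK hQK => ?_⟩
  set Z := (Subgroup.center ↥Q).map Q.subtype with hZdef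
  have hZQ : Z ≤ Q := Subgroup.map_subtype_le _
  have h2n : (Cfsg.pCore 2 G).Normal := CfsgLib.Solvable.Cores.pCore_normal 2
  have h2 : IsPGroup 2 (Cfsg.pCore 2 G) := CfsgLib.Solvable.Cores.isPGroup_pCore (G := G) 2
  have hdis : ∀ y : G, y ∈ K → y ∈ (Cfsg.pCore 2 G) → y = 1 := by
    intro y hyK hy2
    obtain ⟨k, hk⟩ := h2 ⟨y, hy2⟩
    have e1 : orderOf y ∣ 2 ^ k := orderOf_dvd_of_pow_eq_one (by simpa using congrArg Subtype.val hk)
    have e2 : Odd (orderOf y) := hK.of_dvd_nat (by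
      rw [← Subgroup.orderOf_mk y hyK]; exact orderOf_dvd_natCard _)
    have e3 : (orderOf y).Coprime (2 ^ k) := (Nat.coprime_two_right.2 e2).pow_right k
    exact orderOf_eq_one_iff.1 (e3.eq_one_of_dvd e1)
  have hKZ : K ≤ Subgroup.centralizer (Z : Set G) := by
    intro x hx
    rw [Subgroup.mem_centralizer_iff]
    intro z hz
    have hzN := hQK (hZQ hz)
    have h1 : z * x * z⁻¹ * x⁻¹ ∈ K :=
      K.mul_mem ((Subgroup.mem_normalizer_iff.1 hzN x).1 hx) (K.inv_mem hx)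
    have h2' : z * x * z⁻¹ * x⁻¹ ∈ Cfsg.pCore 2 G := by
      have := (Cfsg.pCore 2 G).mul_mem (hZ hz) (h2n.conj_mem _ ((Cfsg.pCore 2 G).inv_mem (hZ hz)) x)
      simpa [mul_assoc] using this
    have := hdis _ h1 h2'
    exact mul_inv_eq_iff_eq_mul.1 (mul_inv_eq_one.1 this)
  have hKQ : K ≤ Subgroup.centralizer (Q : Set G) := by
    intro x hx
    rw [Subgroup.mem_centralizer_iff]
    intro q hq
    have hxN := hL3 (hKZ hx)
    have h1 : q * x * q⁻¹ * x⁻¹ ∈ K :=
      K.mul_mem ((Subgroup.mem_normalizer_iff.1 (hQK hq) x).1 hx) (K.inv_mem hx)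
    have h2' : q * x * q⁻¹ * x⁻¹ ∈ Q := by
      have := Q.mul_mem hq ((Subgroup.mem_normalizer_iff.1 hxN q⁻¹).1 (Q.inv_mem hq))
      simpa [mul_assoc] using this
    have hQ2 : IsPGroup 2 Q := hL1.1.1
    obtain ⟨k, hk⟩ := hQ2 ⟨_, h2'⟩
    have e1 : orderOf (q * x * q⁻¹ * x⁻¹) ∣ 2 ^ k :=
      orderOf_dvd_of_pow_eq_one (by simpa using congrArg Subtype.val hk)
    have e2 : Odd (orderOf (q * x * q⁻¹ * x⁻¹)) := hK.of_dvd_nat (by
      rw [← Subgroup.orderOf_mk _ h1]; exact orderOf_dvd_natCard _)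
    have := orderOf_eq_one_iff.1 (((Nat.coprime_two_right.2 e2).pow_right k).eq_one_of_dvd e1)
    exact mul_inv_eq_iff_eq_mul.1 (mul_inv_eq_one.1 this)
  rw [Subgroup.eq_bot_iff_forall]
  intro x hx
  have hxZ : x ∈ Z := hL2 ▸ hKQ hx
  exact hdis x hx (hZ hxZ)

end Cfsg.Agent.S5420
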