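import Cfsg.Agent.Lib.ThreeTransp.ExtraspecialCore
import Cfsg.Statements.S5421
-- import your own Cfsg.Agent.* helpers here

set_option autoImplicit false
open Cfsg

namespace Cfsg.Agent.S5421
open CfsgLib.ThreeTransp.Extraspecial CfsgLib.ThreeTransp.ExtraspecialCore


/-- Let Q be an extraspecial 2-subgroup of the finite group G whose centralizer in G is its centre Z and which is normal in the centralizer of Z. If some involution b of Q outside Z has Z inside the largest normal 2-subgroup of the centralizer of b, then Q is a large extraspecial 2-subgroup of G. -/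
theorem result {G : Type*} [Group G] [Finite G] (Q : Subgroup G) (hL1 : Cfsg.IsExtraspecial 2 ↥Q) (hL2 : Subgroup.centralizer (Q : Set G) = ((Subgroup.center ↥Q).map Q.subtype)) (hL3 : Subgroup.centralizer (((Subgroup.center ↥Q).map Q.subtype) : Set G) ≤ Subgroup.normalizer (Q : Set G)) (b : G) (hbQ : b ∈ Q) (hbZ : b ∉ ((Subgroup.center ↥Q).map Q.subtype)) (hb : orderOf b = 2) (hZ : ((Subgroup.center ↥Q).map Q.subtype) ≤ (Cfsg.pCore 2 ↥(Subgroup.centralizer ({b} : Set G))).map (Subgroup.centralizer ({b} : Set G)).subtype) : Cfsg.IsLargeExtraspecial Q := by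
  obtain ⟨z, hX⟩ := exists_extra hL1
  have hC : ∀ x : G, (∀ q ∈ Q, x * q = q * x) → x ∈ Q := fun x hx => by
    have : x ∈ Subgroup.centralizer (Q : Set G) :=
      Subgroup.mem_centralizer_iff.2 fun q hq => (hx q hq).symm
    rw [hL2] at this
    exact Subgroup.map_subtype_le _ this
  have hN : Subgroup.centralizer ({z} : Set G) ≤ Subgroup.normalizer (Q : Set G) := by
    rwa [hX.center_eq, Subgroup.zpowers_eq_closure, Subgroup.centralizer_closure] at hL3
  rw [hX.center_eq] at hZ hbZ
  refine ⟨hL1, hL2, hL3, fun K hK hQK => eq_bot_of_odd_normalized hX hC hN hbQ ?_ ?_ ?_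
    (hZ (Subgroup.mem_zpowers z)) hK hQK⟩
  · have := pow_orderOf_eq_one b
    rwa [hb, pow_two] at this
  · exact fun e => hbZ (e ▸ one_mem _)
  · exact fun e => hbZ (e ▸ Subgroup.mem_zpowers z)

end Cfsg.Agent.S5421
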