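import Cfsg.Agent.Lib.ThreeTransp.ExtraspecialCore
import Cfsg.Statements.S5422
-- import your own Cfsg.Agent.* helpers here

set_option autoImplicit false
open Cfsg

namespace Cfsg.Agent.S5422
open CfsgLib.ThreeTransp.Extraspecial CfsgLib.ThreeTransp.ExtraspecialCore

/-- If two different elements of a fours group are each moved to their product, fixing the third,
the normalizer induces the symmetric group of degree three. -/
theorem relIndex_fours {G : Type*} [Group G] [Finite G] {V : Subgroup G} {z u : G}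
    (hV : ∀ x : G, x ∈ V ↔ x = 1 ∨ x = z ∨ x = u ∨ x = z * u) (hz : z ≠ 1) (hu : u ≠ 1)
    (hzu : z ≠ u) (hzu1 : z * u ≠ 1) (a b : G) (haz : a * z * a⁻¹ = z)
    (hau : a * u * a⁻¹ = z * u) (hazu : a * (z * u) * a⁻¹ = u) (hbu : b * u * b⁻¹ = u)
    (hbz : b * z * b⁻¹ = z * u) (hbzu : b * (z * u) * b⁻¹ = z) :
    (Subgroup.centralizer (V : Set G)).relIndex (Subgroup.normalizer (V : Set G)) = 6 := by
  classical
  set N := Subgroup.normalizer (V : Set G) with hN
  let T := {x : G // x ∈ V ∧ x ≠ 1}
  have hconj : ∀ n ∈ N, ∀ x : G, x ∈ V ∧ x ≠ 1 → n * x * n⁻¹ ∈ V ∧ n * x * n⁻¹ ≠ 1 :=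
    fun n hn x hx => ⟨(Subgroup.mem_normalizer_iff.1 hn x).1 hx.1,
      fun e => hx.2 (conj_eq_one_iff.1 e)⟩
  let f : N →* Equiv.Perm T := MonoidHom.mk'
    (fun n => Equiv.ofBijective (fun x : T => (⟨n * x * (n : G)⁻¹, hconj n n.2 x x.2⟩ : T))
      ⟨fun x y h => Subtype.ext (by simpa using congrArg Subtype.val h),
       fun y => ⟨⟨(n : G)⁻¹ * y * n, by
          have := hconj _ (N.inv_mem n.2) y y.2
          rwa [inv_inv] at this⟩, Subtype.ext (by simp [mul_assoc])⟩⟩)
    (fun m n => Equiv.ext fun x => Subtype.ext (by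
      show ((m * n : N) : G) * x * ((m * n : N) : G)⁻¹ = _
      simp [mul_assoc]))
  have hker : (Subgroup.centralizer (V : Set G)).subgroupOf N = f.ker := by
    ext n
    rw [Subgroup.mem_subgroupOf, MonoidHom.mem_ker, Subgroup.mem_centralizer_iff]
    constructor
    · intro h
      exact Equiv.ext fun x => Subtype.ext (by
        show (n : G) * x * (n : G)⁻¹ = x
        rw [← h x x.2.1, mul_inv_cancel_right])
    · intro h x hx
      by_cases hx1 : x = 1
      · simp [hx1]
      have := congrArg Subtype.val (Equiv.congr_fun h ⟨x, hx, hx1⟩)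
      change (n : G) * x * (n : G)⁻¹ = x at this
      exact (mul_inv_eq_iff_eq_mul.1 this).symm
  rw [Subgroup.relIndex, hker, Subgroup.index_ker]
  let tz : T := ⟨z, (hV z).2 (Or.inr (Or.inl rfl)), hz⟩
  let tu : T := ⟨u, (hV u).2 (Or.inr (Or.inr (Or.inl rfl))), hu⟩
  let tw : T := ⟨z * u, (hV _).2 (Or.inr (Or.inr (Or.inr rfl))), hzu1⟩
  have hT : ∀ x : T, x = tz ∨ x = tu ∨ x = tw := fun x => by
    rcases (hV x).1 x.2.1 with e | e | e | e
    · exact absurd e x.2.2
    · exact Or.inl (Subtype.ext e)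
    · exact Or.inr (Or.inl (Subtype.ext e))
    · exact Or.inr (Or.inr (Subtype.ext e))
  have nzw : tz ≠ tw := fun e => hu (mul_eq_left.1 (congrArg Subtype.val e).symm)
  have nuw : tu ≠ tw := fun e => hz (mul_eq_right.1 (congrArg Subtype.val e).symm)
  have nzu : tz ≠ tu := fun e => hzu (congrArg Subtype.val e)
  have hmemN : ∀ a : G, (∀ x ∈ V, a * x * a⁻¹ ∈ V) → a ∈ N := fun a h =>
    Subgroup.mem_normalizer_fintype h
  have haN : a ∈ N := hmemN a fun x hx => by
    rcases (hV x).1 hx with rfl | rfl | rfl | rfl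
    · simpa using hx
    · rw [haz]; exact hx
    · rw [hau]; exact tw.2.1
    · rw [hazu]; exact tu.2.1
  have hbN : b ∈ N := hmemN b fun x hx => by
    rcases (hV x).1 hx with rfl | rfl | rfl | rfl
    · simpa using hx
    · rw [hbz]; exact tw.2.1
    · rw [hbu]; exact hx
    · rw [hbzu]; exact tz.2.1
  have fa : f ⟨a, haN⟩ = Equiv.swap tu tw := Equiv.ext fun x => by
    rcases hT x with rfl | rfl | rfl
    · rw [Equiv.swap_apply_of_ne_of_ne nzu nzw]; exact Subtype.ext haz
    · rw [Equiv.swap_apply_left]; exact Subtype.ext hau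
    · rw [Equiv.swap_apply_right]; exact Subtype.ext hazu
  have fb : f ⟨b, hbN⟩ = Equiv.swap tz tw := Equiv.ext fun x => by
    rcases hT x with rfl | rfl | rfl
    · rw [Equiv.swap_apply_left]; exact Subtype.ext hbz
    · rw [Equiv.swap_apply_of_ne_of_ne nzu.symm nuw]; exact Subtype.ext hbu
    · rw [Equiv.swap_apply_right]; exact Subtype.ext hbzu
  have huw : Equiv.swap tu tw ∈ f.range := ⟨_, fa⟩
  have hzw : Equiv.swap tz tw ∈ f.range := ⟨_, fb⟩
  have hzu' : Equiv.swap tz tu ∈ f.range := by
    rw [show Equiv.swap tz tu = Equiv.swap tu tw * Equiv.swap tz tw * Equiv.swap tu tw from ?_]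
    · exact mul_mem (mul_mem huw hzw) huw
    refine Equiv.ext fun x => ?_
    rcases hT x with rfl | rfl | rfl <;>
      simp [Equiv.swap_apply_def, nzu, nzw, nuw, nzu.symm, nzw.symm, nuw.symm]
  have hall : ∀ x y : T, Equiv.swap x y ∈ f.range := by
    intro x y
    rcases hT x with rfl | rfl | rfl <;> rcases hT y with rfl | rfl | rfl <;>
      first
      | (rw [Equiv.swap_self]; exact one_mem _)
      | assumption
      | (rw [Equiv.swap_comm]; assumption)
  have htop : f.range = ⊤ := by
    rw [eq_top_iff, ← Equiv.Perm.closure_isSwap, Subgroup.closure_le]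
    rintro σ ⟨x, y, -, rfl⟩
    exact hall x y
  rw [htop, Subgroup.card_top, Nat.card_perm]
  haveI := Fintype.ofFinite T
  have : (Finset.univ : Finset T) = {tz, tu, tw} := by
    ext x; simpa using hT x
  rw [Nat.card_eq_fintype_card, ← Finset.card_univ, this, Finset.card_insert_of_notMem
    (by simp [nzu, nzw]), Finset.card_pair nuw]
  rfl


/-- Let Q be an extraspecial 2-subgroup of the finite group G whose centralizer in G is its centre Z and which is normal in the centralizer of Z; suppose Q has width at least 2 (order 2^(2w+1) with w ≥ 2) and g is an element of G not normalizing Z with g Z g⁻¹ inside Q. Then Z lies inside g Q g⁻¹; writing V for the subgroup generated by Z and g Z g⁻¹ (a four-group), the normalizer of V induces on V its full automorphism group, that is, the centralizer of V has index 6 in the normalizer of V; and Q is a large extraspecial 2-subgroup of G. -/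
theorem result {G : Type*} [Group G] [Finite G] (Q : Subgroup G) (hL1 : Cfsg.IsExtraspecial 2 ↥Q) (hL2 : Subgroup.centralizer (Q : Set G) = ((Subgroup.center ↥Q).map Q.subtype)) (hL3 : Subgroup.centralizer (((Subgroup.center ↥Q).map Q.subtype) : Set G) ≤ Subgroup.normalizer (Q : Set G)) (w : ℕ) (hw : 2 ≤ w) (hcard : Nat.card ↥Q = 2 ^ (2 * w + 1)) (g : G) (hg : g ∉ Subgroup.normalizer (((Subgroup.center ↥Q).map Q.subtype) : Set G)) (hZg : (((Subgroup.center ↥Q).map Q.subtype)).map (MulAut.conj g).toMonoidHom ≤ Q) : ((Subgroup.center ↥Q).map Q.subtype) ≤ (Q).map (MulAut.conj g).toMonoidHom ∧ (Subgroup.centralizer ((((Subgroup.center ↥Q).map Q.subtype) ⊔ (((Subgroup.center ↥Q).map Q.subtype)).map (MulAut.conj g).toMonoidHom : Subgroup G) : Set G)).relIndex (Subgroup.normalizer ((((Subgroup.center ↥Q).map Q.subtype) ⊔ (((Subgroup.center ↥Q).map Q.subtype)).map (MulAut.conj g).toMonoidHom : Subgroup G) : Set G)) = 6 ∧ Cfsg.IsLargeExtraspecial Q := by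
  obtain ⟨z, hX⟩ := exists_extra hL1
  have hC : ∀ x : G, (∀ q ∈ Q, x * q = q * x) → x ∈ Q := fun x hx => by
    have : x ∈ Subgroup.centralizer (Q : Set G) :=
      Subgroup.mem_centralizer_iff.2 fun q hq => (hx q hq).symm
    rw [hL2] at this
    exact Subgroup.map_subtype_le _ this
  have hN : Subgroup.centralizer ({z} : Set G) ≤ Subgroup.normalizer (Q : Set G) := by
    rwa [hX.center_eq, Subgroup.zpowers_eq_closure, Subgroup.centralizer_closure] at hL3
  simp only [hX.center_eq, MonoidHom.map_zpowers, MulEquiv.coe_toMonoidHom,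
    MulAut.conj_apply] at hg hZg ⊢
  set u := g * z * g⁻¹ with hu'
  have huQ : u ∈ Q := hZg (Subgroup.mem_zpowers u)
  have hX' := hX.map_conj g
  have hu1 : u ≠ 1 := hX'.z_ne
  have huu : u * u = 1 := hX'.z_sq
  have hne : u ≠ z := by
    intro e
    apply hg
    refine Subgroup.mem_normalizer_fintype fun x hx => ?_
    rcases (mem_zpowers_involution hX.z_sq).1 hx with rfl | rfl
    · simp
    · rw [← hu', e]; exact Subgroup.mem_zpowers _
  have hB : ∃ b ∈ Q, ∃ c ∈ Q, b * u = u * b ∧ c * u = u * c ∧ b * c ≠ c * b := by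
    by_contra hcon
    push_neg at hcon
    have hcentral : ∀ x y : ↥Q, x⁻¹ * y * x * y⁻¹ ∈ Subgroup.center ↥Q := fun x y => by
      rw [← hL1.1.2.2, _root_.commutator_def]
      simpa [commutatorElement_def] using
        Subgroup.commutator_mem_commutator (Subgroup.mem_top x⁻¹) (Subgroup.mem_top y)
    set A := Subgroup.zpowers (⟨u, huQ⟩ : ↥Q) with hA
    set B := Subgroup.centralizer (A : Set ↥Q) with hBd
    have hmemB : ∀ x : ↥Q, x ∈ B → (x : G) * u = u * x := fun x hx =>
      (congrArg Subtype.val (Subgroup.mem_centralizer_iff.1 hx _ (Subgroup.mem_zpowers _))).symm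
    have hBB : B ≤ Subgroup.centralizer (B : Set ↥Q) := fun x hx =>
      Subgroup.mem_centralizer_iff.2 fun y hy => Subtype.ext
        (hcon y y.2 x x.2 (hmemB y hy) (hmemB x hx))
    have hcA : Nat.card A = 2 := by
      rw [hA, Nat.card_zpowers, ← Subgroup.orderOf_coe]
      exact orderOf_eq_prime (by rw [pow_two, huu]) hu1
    have hint : A ⊓ Subgroup.center ↥Q = ⊥ := by
      rw [Subgroup.eq_bot_iff_forall]
      rintro x ⟨hx, hxc⟩
      apply Subtype.ext
      have hxu : (x : G) = 1 ∨ (x : G) = u := by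
        rcases (mem_zpowers_involution (z := (⟨u, huQ⟩ : ↥Q)) (Subtype.ext huu)).1 hx with e | e
        · exact Or.inl (by rw [e]; rfl)
        · exact Or.inr (by rw [e])
      rcases hxu with e | e
      · exact e
      rcases hX.eq_one_or_z_of_mem_center hxc with e' | e'
      · exact e'
      · exact absurd (e.symm.trans e') hne
    have hZB : Subgroup.center ↥Q ≤ B := Subgroup.center_le_centralizer _
    have d1 := Cfsg.Agent.S2880.double_count A hcentral hL1.2
    have d2 := Cfsg.Agent.S2880.double_count B hcentral hL1.2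
    rw [hint, Subgroup.card_bot, one_mul, hcA, ← hBd] at d1
    rw [inf_eq_right.2 hZB, hL1.2] at d2
    have hle : Nat.card B ≤ Nat.card ↥(Subgroup.centralizer (B : Set ↥Q)) :=
      Nat.card_le_card_of_injective _ (Subgroup.inclusion_injective hBB)
    have h32 : 2 ^ (2 * 2 + 1) ≤ Nat.card ↥Q :=
      hcard ▸ Nat.pow_le_pow_right (by norm_num) (by omega)
    have h4 : Nat.card ↥(Subgroup.centralizer (B : Set ↥Q)) = 4 :=
      Nat.eq_of_mul_eq_mul_right (Nat.card_pos (α := B)) (by linarith)
    norm_num at h32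
    omega
  have hzQ' : g⁻¹ * z * g ∈ Q := mem_conj_of_nonabelian hX hC hN huQ hne hB
  have hzQ'' : z ∈ Q.map (MulAut.conj g).toMonoidHom := mem_map_conj.2 hzQ'
  have hzu : z * u = u * z := hX.z_comm huQ
  refine ⟨Subgroup.zpowers_le.2 hzQ'', ?_, hL1, hL2, hL3, fun K hK hQK => ?_⟩
  · have hmemV : ∀ x : G, x ∈ Subgroup.zpowers z ⊔ Subgroup.zpowers u ↔
        x = 1 ∨ x = z ∨ x = u ∨ x = z * u := by
      intro x
      constructor
      · intro hx
        have h2 : Subgroup.zpowers u ≤ Subgroup.normalizer (Subgroup.zpowers z : Set G) := by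
          refine le_trans ?_ (Subgroup.centralizer_le_normalizer _)
          rw [Subgroup.zpowers_le, Subgroup.mem_centralizer_iff]
          intro y hy
          rcases (mem_zpowers_involution hX.z_sq).1 hy with rfl | rfl
          · simp
          · exact hzu
        rw [← SetLike.mem_coe, Subgroup.coe_mul_of_right_le_normalizer_left _ _ h2] at hx
        obtain ⟨a, ha, b, hb, rfl⟩ := hx
        rcases (mem_zpowers_involution hX.z_sq).1 ha with rfl | rfl <;>
          rcases (mem_zpowers_involution huu).1 hb with rfl | rfl <;> simp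
      · rintro (rfl | rfl | rfl | rfl)
        · exact one_mem _
        · exact Subgroup.mem_sup_left (Subgroup.mem_zpowers _)
        · exact Subgroup.mem_sup_right (Subgroup.mem_zpowers _)
        · exact Subgroup.mul_mem_sup (Subgroup.mem_zpowers _) (Subgroup.mem_zpowers _)
    obtain ⟨a, ha, hau⟩ := hX.exists_conj_eq huQ hu1 hne
    obtain ⟨b, hb, hbz⟩ := hX'.exists_conj_eq hzQ'' hX.z_ne (Ne.symm hne)
    have haz : a * z * a⁻¹ = z := by rw [← hX.z_comm ha, mul_inv_cancel_right]
    have hbu : b * u * b⁻¹ = u := by rw [← hX'.z_comm hb, mul_inv_cancel_right]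
    rw [← hzu] at hau
    refine relIndex_fours hmemV hX.z_ne hu1 (Ne.symm hne) (fun e => hne ?_) a b haz hau ?_ hbu hbz ?_
    · rw [eq_inv_of_mul_eq_one_right e, hX.inv_z]
    · rw [← conj_mul, haz, hau, ← mul_assoc, hX.z_sq, one_mul]
    · rw [← conj_mul, hbz, hbu, mul_assoc, huu, mul_one]
  · refine eq_bot_of_odd_normalized hX hC hN huQ huu hu1 hne ?_ hK hQK
    refine le_coreOf (hX.isPGroup.map _) hX'.le_centralizer ?_ hzQ''
    intro c hc
    refine Subgroup.mem_normalizer_fintype fun x hx => ?_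
    exact mem_map_conj.2 (centralizer_conj_le hN g
      (Subgroup.mem_centralizer_singleton_iff.1 hc) (mem_map_conj.1 hx))

end Cfsg.Agent.S5422
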