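import Cfsg.Statements.S5423
import Cfsg.Agent.Lib.Classical.TransvectionCentralizerTwo
import Mathlib.GroupTheory.Complement
import Mathlib.LinearAlgebra.Dimension.Finrank

set_option autoImplicit false
open Cfsg

namespace Cfsg.Agent.S5423

open CfsgLib.Classical.TransvectionTwo Matrix

/-- A coordinate system on the elementary abelian group sending `u₀` to the first basis vector. -/
theorem exists_coords {G : Type*} [Group G] [Finite G] {n : ℕ} {U : Subgroup G}
    (hU : Cfsg.IsElementaryAbelian 2 U) (hUcard : Nat.card ↥U = 2 ^ (n + 1)) (u₀ : U) (hu₀ : u₀ ≠ 1) :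
    ∃ e : U ≃ (Fin (n + 1) → ZMod 2),
      (∀ a b, e (a * b) = e a + e b) ∧ e u₀ = Pi.single 0 1 := by
  classical
  letI : CommGroup U := { (inferInstance : Group U) with mul_comm := hU.1.is_comm.comm }
  letI : Module (ZMod 2) (Additive U) := AddCommGroup.zmodModule fun x => by
    apply Additive.toMul.injective
    rw [toMul_nsmul, toMul_zero]
    exact Subtype.ext (by simpa using hU.2 _ (Additive.toMul x).2)
  haveI : Module.Finite (ZMod 2) (Additive U) := Module.Finite.of_finite
  have hr : Module.finrank (ZMod 2) (Additive U) = Module.finrank (ZMod 2) (Fin (n + 1) → ZMod 2) := by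
    have h1 := Module.natCard_eq_pow_finrank (K := ZMod 2) (V := Additive U)
    rw [Nat.card_zmod, Nat.card_congr (Additive.toMul (α := U)), hUcard] at h1
    rw [Module.finrank_fin_fun]
    exact (Nat.pow_right_injective le_rfl h1).symm
  let e₀ : Additive U ≃ₗ[ZMod 2] (Fin (n + 1) → ZMod 2) := LinearEquiv.ofFinrankEq _ _ hr
  set w₀ := e₀ (Additive.ofMul u₀) with hw₀
  obtain ⟨a, ha⟩ : ∃ a, w₀ a ≠ 0 := Function.ne_iff.1 (fun h => hu₀ (by
    have := e₀.injective (h.trans (map_zero e₀).symm)
    exact Additive.ofMul.injective this))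
  let σ := Equiv.swap 0 a
  let w := w₀ ∘ σ
  have hw : w 0 = 1 := by
    have h2 : ∀ x : ZMod 2, x ≠ 0 → x = 1 := by decide
    exact h2 _ (by simpa [w, σ] using ha)
  let d : Fin (n + 1) → ZMod 2 := Pi.single 0 1 - w
  have hd : d 0 = 0 := by simp [d, hw]
  let T : (Fin (n + 1) → ZMod 2) → (Fin (n + 1) → ZMod 2) := fun x => x + x 0 • d
  have hTT : ∀ x, T (T x) = x := fun x => by
    funext c
    simp only [T, Pi.add_apply, Pi.smul_apply, smul_eq_mul, hd, mul_zero, add_zero]
    rw [add_assoc, CharTwo.add_self_eq_zero, add_zero]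
  refine ⟨(((Additive.ofMul (α := U)).trans e₀.toEquiv).trans (Equiv.arrowCongr σ (Equiv.refl _))).trans
    ⟨T, T, hTT, hTT⟩, fun x y => ?_, ?_⟩
  · funext c
    simp only [Equiv.trans_apply, Equiv.arrowCongr_apply, Equiv.coe_refl, Function.comp_apply,
      Equiv.coe_fn_mk, ofMul_mul, LinearEquiv.coe_toEquiv, map_add, T, Pi.add_apply, Pi.smul_apply,
      smul_eq_mul, id_eq]
    ring
  · have hsy : σ.symm = σ := Equiv.symm_swap _ _
    show T (id ∘ (e₀ (Additive.ofMul u₀)) ∘ σ.symm) = _
    rw [hsy, ← hw₀, Function.id_comp]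
    show w + w 0 • d = _
    rw [hw, one_smul]
    simp [d]

theorem card_rest {n : ℕ} :
    Fintype.card (Rest (some (0 : Fin (n + 1))) none) = n := by
  classical
  have h : Fintype.card (Rest (some (0 : Fin (n + 1))) none) = Fintype.card {b : Fin (n + 1) // b ≠ 0} :=
    Fintype.card_congr
      { toFun := fun a => match a with
          | ⟨some b, hb, _⟩ => ⟨b, fun h => hb (congrArg some h)⟩
          | ⟨none, _, h⟩ => absurd rfl h
        invFun := fun b => ⟨some b.1, fun h => b.2 (Option.some_injective _ h), Option.some_ne_none _⟩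
        left_inv := fun a => match a with
          | ⟨some b, _, _⟩ => rfl
          | ⟨none, _, h⟩ => absurd rfl h
        right_inv := fun b => rfl }
  rw [h, Fintype.card_subtype_compl, Fintype.card_subtype_eq, Fintype.card_fin]
  omega


/-- Let G be a finite group that is the split extension of an elementary abelian normal subgroup U of order 2^(n+1), n ≥ 1, by its full automorphism group: U has a complement M in G whose conjugation action on U is faithful and realizes every automorphism of U. Let Z be a subgroup of U of order 2 and Q the largest normal 2-subgroup of the centralizer C of Z. Then Q is extraspecial of order 2^(2n+1) with an elementary abelian subgroup of order 2^(n+1) (plus type), Q is a large extraspecial 2-subgroup of G, and C is the split extension of Q by the general linear group of degree n over the field with two elements. -/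
theorem result {G : Type*} [Group G] [Finite G] (n : ℕ) (hn : 1 ≤ n) (U M : Subgroup G) [U.Normal] (hU : Cfsg.IsElementaryAbelian 2 U) (hUcard : Nat.card ↥U = 2 ^ (n + 1)) (hUM : U ⊓ M = ⊥) (hUM' : U ⊔ M = ⊤) (hfaith : ∀ m ∈ M, (∀ u ∈ U, m * u * m⁻¹ = u) → m = 1) (hfull : ∀ φ : ↥U ≃* ↥U, ∃ m ∈ M, ∀ u : ↥U, ((φ u : ↥U) : G) = m * u * m⁻¹) (Z : Subgroup G) (hZU : Z ≤ U) (hZ : Nat.card ↥Z = 2) (Q : Subgroup G) (hQ : Q = (Cfsg.pCore 2 ↥(Subgroup.centralizer (Z : Set G))).map (Subgroup.centralizer (Z : Set G)).subtype) : Cfsg.IsExtraspecial 2 ↥Q ∧ Nat.card ↥Q = 2 ^ (2 * n + 1) ∧ (∃ E : Subgroup G, E ≤ Q ∧ Cfsg.IsElementaryAbelian 2 E ∧ Nat.card ↥E = 2 ^ (n + 1)) ∧ Cfsg.IsLargeExtraspecial Q ∧ ∃ K : Subgroup G, K ≤ Subgroup.centralizer (Z : Set G) ∧ Q ⊓ K = ⊥ ∧ Q ⊔ K = Subgroup.centralizer (Z : Set G) ∧ Nonempty (↥K ≃* Matrix.GeneralLinearGroup (Fin n) (ZMod 2)) := by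
  classical
  have hcomp : Subgroup.IsComplement' U M := Subgroup.isComplement'_of_disjoint_and_mul_eq_univ
    (disjoint_iff.2 hUM) (by rw [← Subgroup.normal_mul, hUM']; rfl)
  obtain ⟨u₁, v₁, huv, hset⟩ := Nat.card_eq_two_iff.1 hZ
  obtain ⟨z₀, hz₀⟩ : ∃ z₀ : Z, z₀ ≠ 1 := by
    by_cases h : u₁ = 1
    · exact ⟨v₁, fun h' => huv (h.trans h'.symm)⟩
    · exact ⟨u₁, h⟩
  have hZ2 : ∀ y : Z, y = 1 ∨ y = z₀ := fun y => by
    obtain ⟨w, -, hw⟩ := (Nat.card_eq_two_iff' (1 : Z)).1 hZ
    by_cases hy : y = 1
    · exact Or.inl hy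
    · exact Or.inr ((hw y hy).trans (hw z₀ hz₀).symm)
  let z : G := z₀.1
  have hCZ : Subgroup.centralizer (Z : Set G) = Subgroup.centralizer ({z} : Set G) := by
    ext x
    rw [Subgroup.mem_centralizer_singleton_iff, Subgroup.mem_centralizer_iff]
    refine ⟨fun h => (h z z₀.2).symm, fun h y hy => ?_⟩
    rcases hZ2 ⟨y, hy⟩ with hy' | hy'
    · rw [show y = 1 from congrArg Subtype.val hy', one_mul, mul_one]
    · rw [show y = z from congrArg Subtype.val hy', h]
  let u₀ : U := ⟨z, hZU z₀.2⟩
  obtain ⟨e, hemul, he₀⟩ := exists_coords hU hUcard u₀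
    (fun h => hz₀ (Subtype.ext (show z = 1 from congrArg Subtype.val h)))
  have hcommU : ∀ a b : U, a * b = b * a := hU.1.is_comm.comm
  have he1 : e 1 = 0 := by
    have := hemul 1 1
    rw [mul_one] at this
    exact left_eq_add.1 this
  have hes : ∀ v w, e.symm (v + w) = e.symm v * e.symm w := fun v w => e.injective (by simp [hemul])
  let conjU : G → U → U := fun g u => ⟨g * u.1 * g⁻¹, ‹U.Normal›.conj_mem _ u.2 g⟩
  have hconjmul : ∀ g a b, conjU g (a * b) = conjU g a * conjU g b := fun g a b =>
    Subtype.ext (by simp [conjU, mul_assoc])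
  have hconjconj : ∀ g h a, conjU (g * h) a = conjU g (conjU h a) := fun g h a =>
    Subtype.ext (by simp [conjU, mul_assoc])
  let tr : G → U := fun g => (hcomp.equiv g).1
  let cp : G → M := fun g => (hcomp.equiv g).2
  have hdec : ∀ g, (tr g : G) * cp g = g := fun g => hcomp.equiv_fst_mul_equiv_snd g
  have huniq : ∀ (u : U) (m : M), tr (u * m) = u ∧ cp (u * m) = m := fun u m => by
    have h : hcomp.equiv ((u : G) * m) = (u, m) := hcomp.equiv.symm.injective
      (by rw [Equiv.symm_apply_apply]; rfl)
    exact ⟨congrArg Prod.fst h, congrArg Prod.snd h⟩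
  have hconj_dec : ∀ (g : G) (u : U), conjU g u = conjU (cp g) u := fun g u => by
    conv_lhs => rw [← hdec g, hconjconj]
    apply Subtype.ext
    show (tr g : G) * (conjU (cp g) u).1 * (tr g : G)⁻¹ = _
    rw [show (tr g : G) * (conjU (cp g) u).1 = (conjU (cp g) u).1 * tr g from
      congrArg Subtype.val (hcommU _ _), mul_inv_cancel_right]
  have htr : ∀ g h, tr (g * h) = tr g * conjU g (tr h) := fun g h => by
    have h1 : g * h = ((tr g * conjU g (tr h) : U) : G) * ((cp g * cp h : M) : G) := by
      rw [hconj_dec, Subgroup.coe_mul, Subgroup.coe_mul]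
      conv_lhs => rw [← hdec g, ← hdec h]
      simp [conjU, mul_assoc]
    rw [h1, (huniq _ _).1]
  let A : G → (Fin (n + 1) → ZMod 2) →+ (Fin (n + 1) → ZMod 2) := fun g =>
    { toFun := fun v => e (conjU g (e.symm v))
      map_zero' := by
        rw [← he1, Equiv.symm_apply_apply]
        exact congrArg e (Subtype.ext (by simp [conjU]))
      map_add' := fun v w => by rw [hes, hconjmul, hemul] }
  have hAapp : ∀ g v, A g v = e (conjU g (e.symm v)) := fun g v => rfl
  let L : G → (Option (Fin (n + 1)) → ZMod 2) →ₗ[ZMod 2] (Option (Fin (n + 1)) → ZMod 2) := fun g =>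
    AddMonoidHom.toZModLinearMap 2
      { toFun := fun w o => o.elim (w none) fun a => (A g (w ∘ some) + w none • e (tr g)) a
        map_zero' := by
          funext o
          cases o <;> simp [show (0 : Option (Fin (n + 1)) → ZMod 2) ∘ some = 0 from rfl]
        map_add' := fun v w => by
          funext o
          cases o with
          | none => rfl
          | some a =>
            simp only [Option.elim_some, Pi.add_apply,
              show (v + w) ∘ some = v ∘ some + w ∘ some from rfl, map_add, add_smul]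
            ring }
  have hLnone : ∀ g w, L g w none = w none := fun g w => rfl
  have hLsome : ∀ g w, (L g w) ∘ some = A g (w ∘ some) + w none • e (tr g) := fun g w => rfl
  have hLext : ∀ {v w : Option (Fin (n + 1)) → ZMod 2}, v none = w none → v ∘ some = w ∘ some → v = w :=
    fun h1 h2 => funext fun o => by
      cases o with
      | none => exact h1
      | some a => exact congrFun h2 a
  have hL1 : L 1 = LinearMap.id := by
    refine LinearMap.ext fun w => hLext rfl ?_
    rw [hLsome, LinearMap.id_apply]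
    have h1 : tr 1 = 1 := by
      have := (huniq 1 1).1
      simpa using this
    rw [h1, he1, smul_zero, add_zero, hAapp,
      show conjU 1 (e.symm (w ∘ some)) = e.symm (w ∘ some) from Subtype.ext (by simp [conjU]),
      Equiv.apply_symm_apply]
  have hLmul : ∀ g h, L (g * h) = (L g).comp (L h) := by
    intro g h
    refine LinearMap.ext fun w => hLext rfl ?_
    rw [LinearMap.comp_apply, hLsome, hLsome, hLsome, hLnone, htr, hemul]
    have hAmul : ∀ v, A (g * h) v = A g (A h v) := fun v => by
      rw [hAapp, hAapp, hAapp, Equiv.symm_apply_apply, hconjconj]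
    have h2 : e (conjU g (tr h)) = A g (e (tr h)) := by rw [hAapp, Equiv.symm_apply_apply]
    rw [map_add, hAmul, h2]
    rcases (show w none = 0 ∨ w none = 1 from (by decide : ∀ x : ZMod 2, x = 0 ∨ x = 1) _) with h0 | h0 <;>
      simp [h0, add_assoc, add_comm (e (tr g))]
  have hF : HasTwo (ZMod 2) := hasTwo_of_card (ZMod.card 2)
  let ψ : G →* Matrix.SpecialLinearGroup (Option (Fin (n + 1))) (ZMod 2) :=
    { toFun := fun g => ⟨LinearMap.toMatrix' (L g), hF.eq_one (Matrix.isUnit_det_of_right_inverse
        (B := LinearMap.toMatrix' (L g⁻¹))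
        (by rw [← LinearMap.toMatrix'_comp, ← hLmul, mul_inv_cancel, hL1, LinearMap.toMatrix'_id])).ne_zero⟩
      map_one' := Subtype.ext (by
        show LinearMap.toMatrix' (L 1) = 1
        rw [hL1, LinearMap.toMatrix'_id])
      map_mul' := fun g h => Subtype.ext (by
        show LinearMap.toMatrix' (L (g * h)) = LinearMap.toMatrix' (L g) * LinearMap.toMatrix' (L h)
        rw [hLmul, LinearMap.toMatrix'_comp]) }
  have hψ : Function.Injective ψ := by
    rw [injective_iff_map_eq_one]
    intro g hg
    have hL : L g = LinearMap.id :=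
      LinearMap.toMatrix'.injective ((congrArg Subtype.val hg).trans LinearMap.toMatrix'_id.symm)
    have h1 := hLsome g (fun o => o.elim 1 fun _ => 0)
    rw [hL, LinearMap.id_apply] at h1
    have h2 : tr g = 1 := by
      apply e.injective
      rw [he1]
      have h1' : (0 : Fin (n + 1) → ZMod 2) = A g 0 + (1 : ZMod 2) • e (tr g) := h1
      rw [map_zero, zero_add, one_smul] at h1'
      exact h1'.symm
    have hgM : g ∈ M := by
      rw [← hdec g, h2, Subgroup.coe_one, one_mul]; exact (cp g).2
    refine hfaith g hgM fun u hu => ?_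
    have h3 := hLsome g (fun o => o.elim 0 (e ⟨u, hu⟩))
    rw [hL, LinearMap.id_apply] at h3
    have h4 : e ⟨u, hu⟩ = A g (e ⟨u, hu⟩) :=
      (show e ⟨u, hu⟩ = A g (e ⟨u, hu⟩) + (0 : ZMod 2) • e (tr g) from h3).trans (by rw [zero_smul, add_zero])
    rw [hAapp, Equiv.symm_apply_apply] at h4
    exact (congrArg Subtype.val (e.injective h4)).symm
  have hij : (some (0 : Fin (n + 1)) : Option (Fin (n + 1))) ≠ none := Option.some_ne_none _
  have hψz : (ψ z).1 = Matrix.transvection (some 0) none 1 := by
    change LinearMap.toMatrix' (L z) = _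
    refine Matrix.ext_of_mulVec_single fun o => ?_
    rw [LinearMap.toMatrix'_mulVec, Matrix.transvection, Matrix.add_mulVec, Matrix.one_mulVec,
      Matrix.single_mulVec]
    have hz1 : tr z = u₀ := by simpa [u₀] using (huniq u₀ 1).1
    have hA : ∀ v, A z v = v := fun v => by
      rw [hAapp, show conjU z (e.symm v) = e.symm v from Subtype.ext (by
        show z * (e.symm v).1 * z⁻¹ = _
        rw [show z * (e.symm v).1 = (e.symm v).1 * z from congrArg Subtype.val (hcommU u₀ _),
          mul_inv_cancel_right]), Equiv.apply_symm_apply]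
    refine hLext ?_ ?_
    · rw [hLnone]
      simp
    · rw [hLsome, hA, hz1, he₀]
      funext a
      simp [Pi.single_apply, Function.update_apply, eq_comm]
      cases o <;> simp [Pi.single_apply]
  have hrange : Cen (ψ z) ≤ ψ.range := by
    intro x hx
    obtain ⟨-, hrow⟩ := (mem_centralizer_iff hF hij hψz).1 hx
    have hnn : x.1 none none = 1 := by
      have := row_eq hF hij hψz ⟨x, hx⟩ none
      simpa using this
    let B : (Fin (n + 1) → ZMod 2) → (Fin (n + 1) → ZMod 2) :=
      fun v a => ∑ b, x.1 (some a) (some b) * v b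
    have hBadd : ∀ v w, B (v + w) = B v + B w := fun v w => funext fun a => by
      simp [B, mul_add, Finset.sum_add_distrib]
    have hBinj : Function.Injective B := by
      intro v w hvw
      have key : ∀ v', x.1 *ᵥ (fun o => o.elim 0 v') = fun o => o.elim 0 (B v') := by
        intro v'
        funext o
        rw [Matrix.mulVec, dotProduct, Fintype.sum_option]
        cases o with
        | none => simp [hrow _ (Option.some_ne_none _)]
        | some a => simp [B]
      have h1 := congrArg (fun y => (x⁻¹).1 *ᵥ y) (show x.1 *ᵥ (fun o => o.elim 0 v) = x.1 *ᵥ (fun o => o.elim 0 w) by rw [key, key, hvw])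
      simp only [Matrix.mulVec_mulVec, show (x⁻¹).1 * x.1 = 1 from
        congrArg Subtype.val (inv_mul_cancel x), Matrix.one_mulVec] at h1
      exact funext fun a => congrFun h1 (some a)
    let φ : U ≃* U :=
      { toEquiv := e.trans ((Equiv.ofBijective B (Finite.injective_iff_bijective.1 hBinj)).trans e.symm)
        map_mul' := fun a b => by
          show e.symm (B (e (a * b))) = e.symm (B (e a)) * e.symm (B (e b))
          rw [hemul, hBadd, hes] }
    obtain ⟨m, hm, hφ⟩ := hfull φ
    let u := e.symm fun a => x.1 (some a) none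
    refine ⟨(u : G) * m, Subtype.ext ?_⟩
    change LinearMap.toMatrix' (L ((u : G) * m)) = x.1
    refine Matrix.ext_of_mulVec_single fun o => ?_
    rw [LinearMap.toMatrix'_mulVec]
    have hA : ∀ v, A ((u : G) * m) v = B v := fun v => by
      rw [hAapp, hconj_dec, (huniq u ⟨m, hm⟩).2]
      have h5 : conjU m (e.symm v) = φ (e.symm v) := Subtype.ext (hφ (e.symm v)).symm
      show e (conjU m (e.symm v)) = _
      rw [h5]
      show e (e.symm (B (e (e.symm v)))) = _
      rw [Equiv.apply_symm_apply, Equiv.apply_symm_apply]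
    refine hLext ?_ ?_
    · rw [hLnone, Matrix.mulVec_single_one]
      cases o with
      | none => simp [Matrix.col, hnn]
      | some a => simp [Matrix.col, hrow _ (Option.some_ne_none _)]
    · rw [hLsome, hA, (huniq u ⟨m, hm⟩).1]
      funext a
      cases o with
      | none => simp [B, u, Matrix.col, Pi.single_apply]
      | some c => simp [B, u, Matrix.col, Pi.single_apply]
  have hne : Nonempty (Rest (some (0 : Fin (n + 1))) none) :=
    Fintype.card_pos_iff.1 (by rw [card_rest]; omega)
  have hQ' : Q = (Cfsg.pCore 2 ↥(Subgroup.centralizer ({z} : Set G))).map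
      (Subgroup.centralizer ({z} : Set G)).subtype := hCZ ▸ hQ
  obtain ⟨h1, h2, h3, h4, K, k1, k2, k3, ⟨ek⟩⟩ :=
    structure_theorem hF hij hψz ψ hψ hrange z rfl Q hQ'
  rw [card_rest] at h2 h3
  let er := Fintype.equivFinOfCardEq (card_rest (n := n))
  let toG : Matrix.SpecialLinearGroup (Rest (some (0 : Fin (n + 1))) none) (ZMod 2) ≃*
      Matrix.GeneralLinearGroup (Fin n) (ZMod 2) :=
    (MulEquiv.ofBijective Matrix.SpecialLinearGroup.toGL
      ⟨Matrix.SpecialLinearGroup.toGL_injective, fun g =>
        ⟨⟨g.1, hF.eq_one ((Matrix.isUnit_iff_isUnit_det _).1 g.isUnit).ne_zero⟩, Units.ext rfl⟩⟩).trans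
      (Units.mapEquiv (Matrix.reindexAlgEquiv (ZMod 2) (ZMod 2) er).toMulEquiv)
  exact ⟨h1, h2, h3, h4, K, k1.trans hCZ.ge, k2, k3.trans hCZ.symm, ⟨ek.trans toG⟩⟩

end Cfsg.Agent.S5423
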