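import Cfsg.Statements.S5424
import Cfsg.Agent.Lib.Classical.TransvectionCentralizerTwo

set_option autoImplicit false
open Cfsg

namespace Cfsg.Agent.S5424

open CfsgLib.Classical.TransvectionTwo

theorem card_rest {ι : Type} [Fintype ι] [DecidableEq ι] {i j : ι} (hij : i ≠ j) :
    Fintype.card (Rest i j) + 2 = Fintype.card ι := by
  classical
  have h := Fintype.card_subtype_compl (fun a : ι => a = i ∨ a = j)
  have h2 : Fintype.card {a : ι // a = i ∨ a = j} = 2 := by
    rw [Fintype.card_subtype, show Finset.univ.filter (fun a => a = i ∨ a = j) = {i, j} from by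
      ext a; simp, Finset.card_pair hij]
  have h3 : Fintype.card (Rest i j) = Fintype.card {a : ι // ¬(a = i ∨ a = j)} :=
    Fintype.card_congr (Equiv.subtypeEquivRight fun a => not_or.symm)
  have h4 := Fintype.card_subtype_le (fun a : ι => a = i ∨ a = j)
  omega

/-- Reindexing. -/
def slReindex {α β : Type} [Fintype α] [DecidableEq α] [Fintype β] [DecidableEq β] {R : Type*}
    [CommRing R] (e : α ≃ β) :
    Matrix.SpecialLinearGroup α R ≃* Matrix.SpecialLinearGroup β R where
  toFun A := ⟨A.1.submatrix e.symm e.symm, by rw [Matrix.det_submatrix_equiv_self]; exact A.2⟩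
  invFun A := ⟨A.1.submatrix e e, by rw [Matrix.det_submatrix_equiv_self]; exact A.2⟩
  left_inv A := Subtype.ext (Matrix.ext fun a b => by simp)
  right_inv A := Subtype.ext (Matrix.ext fun a b => by simp)
  map_mul' A B := Subtype.ext (Matrix.submatrix_mul_equiv A.1 B.1 _ _ _).symm


/-- Let G be the special linear group of degree n + 2 over the field with two elements, n ≥ 2, let z be a transvection, and let Q be the largest normal 2-subgroup of the centralizer C of z. Then Q is extraspecial of order 2^(2n+1) with an elementary abelian subgroup of order 2^(n+1) (plus type), Q is a large extraspecial 2-subgroup of G, and C is the split extension of Q by the special linear group of degree n over the field with two elements. -/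
theorem result (n : ℕ) (hn : 2 ≤ n) (z : Matrix.SpecialLinearGroup (Fin (n + 2)) (ZMod 2)) (hz : (z : Matrix (Fin (n + 2)) (Fin (n + 2)) (ZMod 2)) = Matrix.transvection 0 1 1) (Q : Subgroup (Matrix.SpecialLinearGroup (Fin (n + 2)) (ZMod 2))) (hQ : Q = (Cfsg.pCore 2 ↥(Subgroup.centralizer ({z} : Set (Matrix.SpecialLinearGroup (Fin (n + 2)) (ZMod 2))))).map (Subgroup.centralizer ({z} : Set (Matrix.SpecialLinearGroup (Fin (n + 2)) (ZMod 2)))).subtype) : Cfsg.IsExtraspecial 2 ↥Q ∧ Nat.card ↥Q = 2 ^ (2 * n + 1) ∧ (∃ E : Subgroup (Matrix.SpecialLinearGroup (Fin (n + 2)) (ZMod 2)), E ≤ Q ∧ Cfsg.IsElementaryAbelian 2 E ∧ Nat.card ↥E = 2 ^ (n + 1)) ∧ Cfsg.IsLargeExtraspecial Q ∧ ∃ K : Subgroup (Matrix.SpecialLinearGroup (Fin (n + 2)) (ZMod 2)), K ≤ Subgroup.centralizer ({z} : Set (Matrix.SpecialLinearGroup (Fin (n + 2)) (ZMod 2))) ∧ Q ⊓ K = ⊥ ∧ Q ⊔ K = Subgroup.centralizer ({z} : Set (Matrix.SpecialLinearGroup (Fin (n + 2)) (ZMod 2))) ∧ Nonempty (↥K ≃* Matrix.SpecialLinearGroup (Fin n) (ZMod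 2)) := by
  classical
  have hF : HasTwo (ZMod 2) := hasTwo_of_card (ZMod.card 2)
  have hij : (0 : Fin (n + 2)) ≠ 1 := by simp
  have hc : Fintype.card (Rest (0 : Fin (n + 2)) 1) = n := by
    have := card_rest hij
    rw [Fintype.card_fin] at this
    omega
  have : Nonempty (Rest (0 : Fin (n + 2)) 1) := Fintype.card_pos_iff.1 (by omega)
  obtain ⟨h1, h2, h3, h4, K, k1, k2, k3, ⟨e⟩⟩ := structure_theorem hF hij hz (MonoidHom.id _)
    (fun a b h => h) (fun x _ => ⟨x, rfl⟩) z rfl Q hQ
  rw [hc] at h2 h3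
  exact ⟨h1, h2, h3, h4, K, k1, k2, k3, ⟨e.trans (slReindex (Fintype.equivFinOfCardEq hc))⟩⟩

end Cfsg.Agent.S5424
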