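import Cfsg.Statements.S5425
import Cfsg.Agent.S5423
import Cfsg.Agent.Lib.Sporadic.OctadFusion
import Cfsg.Agent.Lib.Solvable.Cores
import Cfsg.Agent.Lib.LocalEvenB.CoreFunctor
import Cfsg.Agent.Lib.ThreeTransp.Simplicity

set_option autoImplicit false
open Cfsg

namespace Cfsg.Agent.S5425
open CfsgLib CfsgLib.SmallGroups.GolayOctads CfsgLib.Sporadic CfsgLib.SmallGroups.Mathieu CfsgLib.SmallGroups.MathieuSets CfsgLib.SmallGroups.Golay CfsgLib.ThreeTransp
open scoped Pointwise

/-- Automorphisms of an elementary abelian group of order sixteen. -/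
theorem card_mulAut_le {G : Type*} [Group G] [Finite G] {U : Subgroup G} (hU : Cfsg.IsElementaryAbelian 2 U)
    (hc : Nat.card U = 2 ^ 4) (u₀ : U) (hu₀ : u₀ ≠ 1) : Nat.card (MulAut U) ≤ 20160 := by
  classical
  obtain ⟨e, hmul, -⟩ := S5423.exists_coords (n := 3) hU hc u₀ hu₀
  have hes : ∀ v w, e.symm (v + w) = e.symm v * e.symm w := fun v w => e.injective (by simp [hmul])
  let lin : MulAut U →* Module.End (ZMod 2) (Fin 4 → ZMod 2) :=
    { toFun := fun σ => AddMonoidHom.toZModLinearMap 2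
        (AddMonoidHom.mk' (fun v => e (σ (e.symm v))) fun v w => by rw [hes, map_mul, hmul])
      map_one' := LinearMap.ext fun v => e.apply_symm_apply v
      map_mul' := fun σ τ => LinearMap.ext fun v => by
        show e (σ (τ (e.symm v))) = e (σ (e.symm (e (τ (e.symm v)))))
        rw [e.symm_apply_apply] }
  let mat : MulAut U →* Matrix (Fin 4) (Fin 4) (ZMod 2) :=
    LinearMap.toMatrixAlgEquiv'.toMulEquiv.toMonoidHom.comp lin
  have hinj : Function.Injective mat.toHomUnits := fun σ τ h => by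
    have h1 : lin σ = lin τ := LinearMap.toMatrixAlgEquiv'.injective (congrArg Units.val h)
    refine MulEquiv.ext fun x => ?_
    have h2 := LinearMap.congr_fun h1 (e x)
    change e (σ (e.symm (e x))) = e (τ (e.symm (e x))) at h2
    rw [e.symm_apply_apply] at h2
    exact e.injective h2
  refine (Nat.card_le_card_of_injective _ hinj).trans (le_of_eq ?_)
  rw [Matrix.card_GL_field, ZMod.card]
  decide +kernel



/-- In the Mathieu group of degree 24 (the automorphism group of the length-24 binary Golay code, acting on the 24 coordinates), let z be an involution whose fixed points form an octad (the support of a code word of weight 8), and let Q be the largest normal 2-subgroup of the centralizer C of z. Then Q is extraspecial of order 2^7 with an elementary abelian subgroup of order 16 (plus type), Q is a large extraspecial 2-subgroup, and C is the split extension of Q by the special linear group of degree 3 over the field with two elements. -/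
theorem result (z : ↥Cfsg.M24) (hz : orderOf z = 2) (hfix : (Finset.univ.filter fun p : Cfsg.GolayPt => (z : Equiv.Perm Cfsg.GolayPt) p = p) ∈ Cfsg.octads) (Q : Subgroup ↥Cfsg.M24) (hQ : Q = (Cfsg.pCore 2 ↥(Subgroup.centralizer ({z} : Set ↥Cfsg.M24))).map (Subgroup.centralizer ({z} : Set ↥Cfsg.M24)).subtype) : Cfsg.IsExtraspecial 2 ↥Q ∧ Nat.card ↥Q = 2 ^ 7 ∧ (∃ E : Subgroup ↥Cfsg.M24, E ≤ Q ∧ Cfsg.IsElementaryAbelian 2 E ∧ Nat.card ↥E = 2 ^ 4) ∧ Cfsg.IsLargeExtraspecial Q ∧ ∃ K : Subgroup ↥Cfsg.M24, K ≤ Subgroup.centralizer ({z} : Set ↥Cfsg.M24) ∧ Q ⊓ K = ⊥ ∧ Q ⊔ K = Subgroup.centralizer ({z} : Set ↥Cfsg.M24) ∧ Nonempty (↥K ≃* Matrix.SpecialLinearGroup (Fin 3) (ZMod 2)) := by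
  classical
  set o := Finset.univ.filter fun p : Cfsg.GolayPt => (z : Equiv.Perm Cfsg.GolayPt) p = p with hodef
  obtain ⟨p, -, hp⟩ := Finset.exists_mem_notMem_of_card_lt_card (t := Finset.univ) (s := o)
    (by rw [Finset.card_univ, card_golayPt, hfix.2]; norm_num)
  obtain ⟨hc16, hsq⟩ := ptStab_octad hfix
  obtain ⟨hinf, hsup, ⟨fA⟩⟩ := OctadStabilizer.split hfix hp
  set OS := OctadStabilizer.octStab o with hOS
  have hle : OS ≤ Cfsg.M24 := inf_le_left
  let ι : ↥OS →* ↥Cfsg.M24 := Subgroup.inclusion hle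
  have hι : Function.Injective ι := Subgroup.inclusion_injective hle
  have hzE : (z : Equiv.Perm Cfsg.GolayPt) ∈ ptStab o :=
    mem_ptStab.2 ⟨z.2, fun q hq => (Finset.mem_filter.1 hq).2⟩
  let zH : ↥OS := ⟨z, OctadStabilizer.ptStab_le o hzE⟩
  have hzι : ι zH = z := Subtype.ext rfl
  have hzne : zH ≠ 1 := fun h => by
    have h1 : z = 1 := by rw [← hzι, h, map_one]
    rw [h1, orderOf_one] at hz
    exact absurd hz (by norm_num)
  set U : Subgroup ↥OS := (ptStab o).subgroupOf OS with hUdef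
  set M : Subgroup ↥OS := (OctadStabilizer.comp o p).subgroupOf OS with hMdef
  have hUn : U.Normal := by
    rw [hUdef, hOS, ← OctadStabilizer.ker_res o]; infer_instance
  have hzU : zH ∈ U := hzE
  have hUcard : Nat.card U = 2 ^ 4 := by
    rw [Nat.card_congr (Subgroup.subgroupOfEquivOfLe (OctadStabilizer.ptStab_le o)).toEquiv, hc16]; norm_num
  have hUel : Cfsg.IsElementaryAbelian 2 U := by
    refine ⟨⟨⟨fun a b => Subtype.ext (Subtype.ext ?_)⟩⟩, fun a ha => Subtype.ext ?_⟩
    · have hi : ∀ g ∈ ptStab o, g⁻¹ = g := fun g hg => inv_eq_of_mul_eq_one_left (hsq g hg)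
      show (a.1.1 * b.1.1 : Equiv.Perm Cfsg.GolayPt) = b.1.1 * a.1.1
      have hab : a.1.1 * b.1.1 ∈ ptStab o := mul_mem a.2 b.2
      have ha' : a.1.1 ∈ ptStab o := a.2
      have hb' : b.1.1 ∈ ptStab o := b.2
      rw [← hi _ hab, mul_inv_rev, hi _ ha', hi _ hb']
    · rw [pow_two]; exact hsq _ ha
  have hUM : U ⊓ M = ⊥ := by
    refine Subgroup.map_injective OS.subtype_injective ?_
    rw [Subgroup.map_inf_eq _ _ _ OS.subtype_injective, Subgroup.map_subgroupOf_eq_of_le (OctadStabilizer.ptStab_le o),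
      Subgroup.map_subgroupOf_eq_of_le (show OctadStabilizer.comp o p ≤ OS from inf_le_left), hinf, Subgroup.map_bot]
  have hUM' : U ⊔ M = ⊤ := by
    refine Subgroup.map_injective OS.subtype_injective ?_
    rw [Subgroup.map_sup, Subgroup.map_subgroupOf_eq_of_le (OctadStabilizer.ptStab_le o),
      Subgroup.map_subgroupOf_eq_of_le (show OctadStabilizer.comp o p ≤ OS from inf_le_left), hsup,
      ← MonoidHom.range_eq_map, Subgroup.range_subtype]
  have hfaith : ∀ m ∈ M, (∀ u ∈ U, m * u * m⁻¹ = u) → m = 1 := by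
    intro m hm hcomm
    have h1 : (m : Equiv.Perm Cfsg.GolayPt) ∈ ptStab o := OctadFusion.cent hfix m.2 fun v hv =>
      congrArg Subtype.val (mul_inv_eq_iff_eq_mul.1 (hcomm ⟨v, OctadStabilizer.ptStab_le o hv⟩ hv))
    exact (Subgroup.mem_bot).1 (hUM ▸ (⟨h1, hm⟩ : m ∈ U ⊓ M))
  have hfull : ∀ φ : ↥U ≃* ↥U, ∃ m ∈ M, ∀ u : ↥U, ((φ u : ↥U) : ↥OS) = m * u * m⁻¹ := by
    let act : M →* MulAut U := (MulAut.conjNormal (H := U)).comp M.subtype
    have hinj : Function.Injective act := by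
      rw [injective_iff_map_eq_one]
      intro m hm
      refine Subtype.ext (hfaith m.1 m.2 fun u hu => ?_)
      exact congrArg Subtype.val (DFunLike.congr_fun hm (⟨u, hu⟩ : U))
    have hMc : Nat.card M = 20160 := by
      rw [Nat.card_congr (Subgroup.subgroupOfEquivOfLe
        (show OctadStabilizer.comp o p ≤ OS from inf_le_left)).toEquiv, Nat.card_congr fA.toEquiv,
        Nat.card_eq_fintype_card, card_alternatingGroup]
      rfl
    have hbij : Function.Bijective act := hinj.bijective_of_nat_card_le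
      (by rw [hMc]; exact card_mulAut_le hUel hUcard ⟨zH, hzU⟩ fun h => hzne (congrArg Subtype.val h))
    intro φ
    obtain ⟨m, hm⟩ := hbij.2 φ
    exact ⟨m.1, m.2, fun u => by rw [← hm]; rfl⟩
  have hz2 : Nat.card (Subgroup.zpowers zH) = 2 := by
    rw [Nat.card_zpowers, ← orderOf_injective ι hι, hzι, hz]
  set CH := Subgroup.centralizer ({zH} : Set ↥OS) with hCH
  set CG := Subgroup.centralizer ({z} : Set ↥Cfsg.M24) with hCG
  have hCz : Subgroup.centralizer (Subgroup.zpowers zH : Set ↥OS) = CH := by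
    rw [hCH, Subgroup.zpowers_eq_closure, Subgroup.centralizer_closure]
  obtain ⟨hext, hcard, -, hlarge, K, hK1, hK2, hK3, ⟨eK⟩⟩ :=
    S5423.result 3 (by norm_num) U M hUel hUcard hUM hUM' hfaith hfull (Subgroup.zpowers zH)
      (Subgroup.zpowers_le.2 hzU) hz2
      ((Cfsg.pCore 2 ↥(Subgroup.centralizer (Subgroup.zpowers zH : Set ↥OS))).map
        (Subgroup.centralizer (Subgroup.zpowers zH : Set ↥OS)).subtype) rfl
  rw [hCz] at hext hcard hlarge hK1 hK2 hK3
  set QH := (Cfsg.pCore 2 ↥CH).map CH.subtype with hQH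
  -- the whole centraliser lies in the octad stabiliser
  have hin : ∀ x : ↥Cfsg.M24, x ∈ CG → (x : Equiv.Perm Cfsg.GolayPt) ∈ OS := by
    intro x hx
    refine ⟨x.2, ?_⟩
    show (x : Equiv.Perm Cfsg.GolayPt) • o = o
    have hcomm : (x : Equiv.Perm Cfsg.GolayPt) * z = z * x :=
      congrArg Subtype.val (Subgroup.mem_centralizer_singleton_iff.1 hx)
    refine Finset.eq_of_subset_of_card_le (fun q hq => ?_) (by rw [Finset.card_smul_finset])
    obtain ⟨r, hr, rfl⟩ := Finset.mem_smul_finset.1 hq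
    rw [hodef, Finset.mem_filter] at hr ⊢
    refine ⟨Finset.mem_univ _, ?_⟩
    rw [Equiv.Perm.smul_def, ← Equiv.Perm.mul_apply, ← hcomm, Equiv.Perm.mul_apply, hr.2]
  have hmap : CH.map ι = CG := by
    refine le_antisymm ?_ fun x hx => ⟨⟨x, hin x hx⟩, ?_, Subtype.ext rfl⟩
    · rintro _ ⟨y, hy, rfl⟩
      rw [hCG, Subgroup.mem_centralizer_singleton_iff, ← hzι, ← map_mul, ← map_mul,
        Subgroup.mem_centralizer_singleton_iff.1 hy]
    · show (⟨(x : Equiv.Perm Cfsg.GolayPt), hin x hx⟩ : ↥OS) ∈ CH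
      rw [hCH, Subgroup.mem_centralizer_singleton_iff]
      refine hι ?_
      rw [map_mul, map_mul, hzι]
      exact Subgroup.mem_centralizer_singleton_iff.1 hx
  let η : ↥CH ≃* ↥CG := (CH.equivMapOfInjective ι hι).trans (MulEquiv.subgroupCongr hmap)
  have hQι : Q = QH.map ι := by
    rw [hQ, hQH, Subgroup.map_map, ← CfsgLib.Solvable.Cores.map_pCore η 2, Subgroup.map_map]
    congr 1
  let eQ : ↥QH ≃* ↥Q := (QH.equivMapOfInjective ι hι).trans (MulEquiv.subgroupCongr hQι.symm)
  have hUQ : U ≤ QH := by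
    intro u hu
    have huC : u ∈ CH := by
      rw [hCH, Subgroup.mem_centralizer_singleton_iff]
      exact congrArg Subtype.val (hUel.1.is_comm.comm (⟨u, hu⟩ : U) ⟨zH, hzU⟩)
    refine ⟨⟨u, huC⟩, (le_sSup ⟨?_, ?_⟩ : U.subgroupOf CH ≤ Cfsg.pCore 2 ↥CH) hu, rfl⟩
    · exact hUn.subgroupOf CH
    · exact fun x => ⟨1, Subtype.ext (Subtype.ext (hUel.2 x.1.1 x.2))⟩
  have hQC : QH ≤ CH := Subgroup.map_subtype_le _
  refine ⟨Simplicity.isExtraspecial_of_equiv eQ hext, (Nat.card_congr eQ.toEquiv).symm.trans hcard,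
    ⟨U.map ι, hQι ▸ Subgroup.map_mono hUQ, ⟨?_, ?_⟩, ?_⟩, ?_, ?_⟩
  · have := hUel.1
    infer_instance
  · rintro _ ⟨u, hu, rfl⟩
    rw [← map_pow, hUel.2 u hu, map_one]
  · rw [Subgroup.card_map_of_injective hι, hUcard]
  · -- large
    obtain ⟨-, hL2, hL3, hL4⟩ := hlarge
    have hzQ : z ∈ Q := hQι ▸ ⟨zH, hUQ hzU, hzι⟩
    have hzc : ∀ x : ↥Cfsg.M24, (∀ q ∈ Q, q * x = x * q) → x ∈ CG := fun x hx =>
      Subgroup.mem_centralizer_singleton_iff.2 (hx z hzQ).symm
    refine ⟨Simplicity.isExtraspecial_of_equiv eQ hext, le_antisymm (fun x hx => ?_) ?_, fun x hx => ?_, ?_⟩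
    · obtain ⟨y, hyC, rfl⟩ := hmap.ge (hzc x (Subgroup.mem_centralizer_iff.1 hx))
      have hy : y ∈ Subgroup.centralizer (QH : Set ↥OS) := by
        rw [Subgroup.mem_centralizer_iff]
        exact fun q hq => hι (by
          rw [map_mul, map_mul]
          exact Subgroup.mem_centralizer_iff.1 hx (ι q) (hQι ▸ ⟨q, hq, rfl⟩))
      rw [hL2] at hy
      obtain ⟨w, hw, rfl⟩ := hy
      exact ⟨eQ w, Subgroup.mem_center_iff.2 fun v => by
        obtain ⟨v', rfl⟩ := eQ.surjective v
        rw [← map_mul, ← map_mul, Subgroup.mem_center_iff.1 hw v'], rfl⟩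
    · rintro _ ⟨w, hw, rfl⟩
      exact Subgroup.mem_centralizer_iff.2 fun q hq =>
        congrArg Subtype.val (Subgroup.mem_center_iff.1 hw ⟨q, hq⟩)
    · have hxz : x ∈ CG := by
        rw [hCG, Subgroup.mem_centralizer_singleton_iff]
        refine (Subgroup.mem_centralizer_iff.1 hx z ⟨⟨z, hzQ⟩, Subgroup.mem_center_iff.2 fun v => ?_, rfl⟩).symm
        obtain ⟨v', hv'⟩ := eQ.surjective v
        refine Subtype.ext ?_
        have := Subgroup.mem_centralizer_singleton_iff.1 (hQC v'.2)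
        rw [← hv']
        show ι v'.1 * z = z * ι v'.1
        rw [← hzι, ← map_mul, ← map_mul, this]
      obtain ⟨y, hyC, rfl⟩ := hmap.ge hxz
      have hy : y ∈ Subgroup.normalizer (QH : Set ↥OS) := hL3 (by
        rw [Subgroup.mem_centralizer_iff]
        rintro _ ⟨w, hw, rfl⟩
        refine hι ?_
        rw [map_mul, map_mul]
        refine Subgroup.mem_centralizer_iff.1 hx (ι w.1) ⟨eQ w, Subgroup.mem_center_iff.2 fun v => ?_, rfl⟩
        obtain ⟨v', rfl⟩ := eQ.surjective v
        rw [← map_mul, ← map_mul, Subgroup.mem_center_iff.1 hw v'])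
      have h1 : ι y ∈ (Subgroup.normalizer (QH : Set ↥OS)).map ι := ⟨y, hy, rfl⟩
      exact hQι ▸ Subgroup.le_normalizer_map ι h1
    · intro K' hodd hnorm
      -- the part inside the octad stabiliser is trivial
      have hloc : K'.comap ι = ⊥ := hL4 _ (hodd.of_dvd_nat (Subgroup.card_comap_dvd_of_injective K' ι hι)) fun q hq => by
        rw [Subgroup.mem_normalizer_iff]
        intro n
        have h := Subgroup.mem_normalizer_iff.1 (hnorm (hQι ▸ ⟨q, hq, rfl⟩ : ι q ∈ Q)) (ι n)
        simpa [Subgroup.mem_comap] using h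
      have hfree : ∀ u : ↥OS, u ∈ U → u ≠ 1 → ∀ k ∈ K', ι u * k * (ι u)⁻¹ = k⁻¹ := by
        intro u hu hu1
        have hu2 : ι u * ι u = 1 := by rw [← map_mul, ← pow_two, hUel.2 u hu, map_one]
        have hn : ∀ k ∈ K', ι u * k * (ι u)⁻¹ ∈ K' := fun k hk =>
          (Subgroup.mem_normalizer_iff.1 (hnorm (hQι ▸ ⟨u, hUQ hu, rfl⟩ : ι u ∈ Q)) k).1 hk
        obtain ⟨g, hg, hgu⟩ := OctadFusion.fused hfix hzE hu (fun h => hzne (Subtype.ext h))
          (fun h => hu1 (Subtype.ext h))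
        have hfix' : ∀ k ∈ K', ι u * k = k * ι u → k = 1 := by
          intro k hk hcomm
          have hkO : (k : Equiv.Perm Cfsg.GolayPt) ∈ OS := by
            have hgM : g ∈ Cfsg.M24 := hg.1
            set g' : ↥Cfsg.M24 := ⟨g, hgM⟩
            have e : ι u = g' * z * g'⁻¹ := Subtype.ext hgu.symm
            have h1 : g'⁻¹ * k * g' ∈ CG := by
              rw [hCG, Subgroup.mem_centralizer_singleton_iff]
              rw [e] at hcomm
              calc g'⁻¹ * k * g' * z = g'⁻¹ * (k * (g' * z * g'⁻¹)) * g' := by group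
                _ = g'⁻¹ * (g' * z * g'⁻¹ * k) * g' := by rw [hcomm]
                _ = z * (g'⁻¹ * k * g') := by group
            have h2 := mul_mem (mul_mem hg (hin _ h1)) (inv_mem hg)
            simpa [g', mul_assoc] using h2
          have h3 : (⟨k, hkO⟩ : ↥OS) ∈ K'.comap ι := hk
          rw [hloc, Subgroup.mem_bot] at h3
          exact Subtype.ext (congrArg (fun x : ↥OS => (x : Equiv.Perm Cfsg.GolayPt)) h3)
        exact LocalEvenB.CoreFunctor.inverts hodd hu2 hn hfix'
      have : Nontrivial U := Finite.one_lt_card_iff_nontrivial.1 (by rw [hUcard]; norm_num)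
      obtain ⟨u, hu, hu1, huz⟩ : ∃ u ∈ U, u ≠ 1 ∧ u ≠ zH := by
        by_contra! hall
        have : Nat.card U ≤ 2 := by
          rw [← hz2]
          refine Subgroup.card_le_of_le fun v hv => ?_
          by_cases hv1 : v = 1
          · exact hv1 ▸ one_mem _
          · exact hall v hv hv1 ▸ Subgroup.mem_zpowers zH
        omega
      have huz1 : u * zH ≠ 1 := fun h => huz (mul_right_cancel (h.trans (by rw [← pow_two, hUel.2 zH hzU])))
      rw [Subgroup.eq_bot_iff_forall]
      intro k hk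
      have e1 := hfree zH hzU hzne k hk
      have e2 := hfree u hu hu1 k⁻¹ (inv_mem hk)
      have e3 := hfree (u * zH) (mul_mem hu hzU) huz1 k hk
      rw [map_mul, show ι u * ι zH * k * (ι u * ι zH)⁻¹ = ι u * (ι zH * k * (ι zH)⁻¹) * (ι u)⁻¹ by group,
        e1, e2, inv_inv] at e3
      have hk2 : k ^ 2 = 1 := by rw [pow_two]; nth_rewrite 2 [e3]; exact mul_inv_cancel k
      have hk3 : (⟨k, hk⟩ : K') ^ 2 = 1 := Subtype.ext hk2
      have hd : orderOf (⟨k, hk⟩ : K') ∣ 1 := by
        rw [← Nat.coprime_iff_gcd_eq_one.1 (Nat.coprime_two_left.2 hodd)]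
        exact Nat.dvd_gcd (orderOf_dvd_of_pow_eq_one hk3) (orderOf_dvd_natCard _)
      exact congrArg Subtype.val (orderOf_eq_one_iff.1 (Nat.dvd_one.1 hd))
  · refine ⟨K.map ι, hmap ▸ Subgroup.map_mono hK1, ?_, ?_, ?_⟩
    · rw [hQι, ← Subgroup.map_inf_eq _ _ _ hι, hK2, Subgroup.map_bot]
    · rw [hQι, ← Subgroup.map_sup, hK3, hmap]
    · exact ⟨((K.equivMapOfInjective ι hι).symm.trans eK).trans
        (MulEquiv.ofBijective Matrix.SpecialLinearGroup.toGL
          ⟨Matrix.SpecialLinearGroup.toGL_injective, fun g =>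
            ⟨⟨g.1, ((by decide : ∀ x : ZMod 2, x ≠ 0 → x = 1) _ ((Matrix.isUnit_iff_isUnit_det _).1 g.isUnit).ne_zero)⟩,
              Units.ext rfl⟩⟩).symm⟩

end Cfsg.Agent.S5425
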