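import Cfsg.Agent.Lib.ThreeTransp.Simplicity
import Cfsg.Agent.Lib.Components.Quasisimple
import Cfsg.Agent.Lib.LocalEven.Residual
import Cfsg.Prelude.Def_MonsterType
import Cfsg.Statements.S5426
-- import your own Cfsg.Agent.* helpers here

set_option autoImplicit false
open Cfsg

namespace Cfsg.Agent.S5426
open CfsgLib.ThreeTransp.Extraspecial CfsgLib.ThreeTransp.Simplicity
open scoped commutatorElement
set_option maxHeartbeats 2000000

/-- A non-abelian simple group has no involution with centralizer of order two. -/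
theorem not_centralizer_two {L : Type*} [Group L] [Finite L] (hs : IsSimpleGroup L)
    (hna : ¬ IsMulCommutative L) (t : L) (ht : t ≠ 1) (ht2 : t * t = 1)
    (hC : ∀ c : L, c * t = t * c → c = 1 ∨ c = t) : False := by
  haveI : Fact (Nat.Prime 2) := ⟨Nat.prime_two⟩
  have hord : orderOf t = 2 := orderOf_eq_prime (by rw [pow_two, ht2]) ht
  have hP : IsPGroup 2 ↥(Subgroup.zpowers t) :=
    IsPGroup.of_card (n := 1) (by rw [Nat.card_zpowers, hord, pow_one])
  obtain ⟨S, hS⟩ := hP.exists_le_sylow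
  have htS : t ∈ S := hS (Subgroup.mem_zpowers t)
  haveI : Nontrivial ↥(S : Subgroup L) :=
    ⟨⟨⟨t, htS⟩, 1, fun e => ht (congrArg Subtype.val e)⟩⟩
  haveI := S.isPGroup'.center_nontrivial
  obtain ⟨c, hc⟩ := exists_ne (1 : Subgroup.center ↥(S : Subgroup L))
  have hct : ((c : ↥(S : Subgroup L)) : L) = t := by
    rcases hC _ (congrArg Subtype.val (Subgroup.mem_center_iff.1 c.2 ⟨t, htS⟩)).symm with e | e
    · exact absurd (Subtype.ext (Subtype.ext e)) hc
    · exact e
  have hmem : ∀ s ∈ S, s = 1 ∨ s = t := fun s hs => hC s (by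
    rw [← hct]; exact congrArg Subtype.val (Subgroup.mem_center_iff.1 c.2 ⟨s, hs⟩))
  have hle : Subgroup.normalizer ((S : Subgroup L) : Set L) ≤
      Subgroup.centralizer ((S : Subgroup L) : Set L) := by
    intro n hn
    rw [Subgroup.mem_centralizer_iff]
    intro s hs
    rcases hmem s hs with rfl | rfl
    · simp
    · rcases hmem _ ((Subgroup.mem_normalizer_iff.1 hn s).1 hs) with e | e
      · exact absurd (conj_eq_one_iff.1 e) ht
      · exact (mul_inv_eq_iff_eq_mul.1 e).symm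
  have hc' := MonoidHom.ker_transferSylow_isComplement' S hle
  rcases hs.eq_bot_or_eq_top_of_normal _
    (inferInstance : (MonoidHom.transferSylow S hle).ker.Normal) with e | e <;> rw [e] at hc'
  · rw [Subgroup.isComplement'_bot_left] at hc'
    apply hna
    refine ⟨⟨fun a b => ?_⟩⟩
    rcases hmem a (show a ∈ (S : Subgroup L) from hc' ▸ Subgroup.mem_top a) with rfl | rfl
    · simp
    · rcases hmem b (show b ∈ (S : Subgroup L) from hc' ▸ Subgroup.mem_top b) with rfl | rfl
      · simp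
      · rfl
  · rw [Subgroup.isComplement'_top_left] at hc'
    exact ht (Subgroup.mem_bot.1 (show t ∈ (⊥ : Subgroup L) from hc' ▸ htS))

variable {G : Type*} [Group G] [Finite G]

theorem conj_inj' {g a b : G} (h : g * a * g⁻¹ = g * b * g⁻¹) : a = b :=
  mul_left_cancel (mul_right_cancel h)


theorem center_bot (hF : Cfsg.fittingSubgroup G = ⊥) {L : Subgroup G} (hL : Cfsg.IsComponent L) :
    Subgroup.center ↥L = ⊥ := by
  have hsn : ((Subgroup.center ↥L).map L.subtype).IsSubnormal :=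
    Subgroup.IsSubnormal.trans (Subgroup.map_subtype_le _)
      (by rw [Subgroup.subgroupOf, Subgroup.comap_map_eq_self_of_injective L.subtype_injective]; exact Subgroup.Normal.isSubnormal inferInstance)
      hL.1
  haveI : Group.IsNilpotent ↥((Subgroup.center ↥L).map L.subtype) := by
    haveI := CfsgLib.Components.isNilpotent_of_isMulCommutative (Subgroup.center ↥L)
    exact Group.nilpotent_of_surjective _ (MonoidHom.subgroupMap_surjective _ _)
  have := CfsgLib.Components.le_fittingSubgroup_of_subnormal hsn inferInstance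
  rw [hF, le_bot_iff] at this
  exact (Subgroup.map_eq_bot_iff_of_injective _ L.subtype_injective).1 this

theorem simple_component (hF : Cfsg.fittingSubgroup G = ⊥) {L : Subgroup G}
    (hL : Cfsg.IsComponent L) : IsSimpleGroup ↥L := by
  haveI := CfsgLib.Components.IsQuasisimple.nontrivial hL.2
  refine { eq_bot_or_eq_top_of_normal := fun N hN => ?_ }
  rcases CfsgLib.Components.IsQuasisimple.normal_le_center_or_top hL.2 N with h | h
  · rw [center_bot hF hL] at h; exact Or.inl (le_bot_iff.1 h)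
  · exact Or.inr h

/-- The join of the other components. -/
def others (L : Subgroup G) : Subgroup G :=
  sSup {K : Subgroup G | Cfsg.IsComponent K ∧ K ≠ L}

theorem le_others {L K : Subgroup G} (hK : Cfsg.IsComponent K) (h : K ≠ L) : K ≤ others L :=
  le_sSup ⟨hK, h⟩

theorem others_comm {L : Subgroup G} (hL : Cfsg.IsComponent L) :
    ∀ l ∈ L, ∀ k ∈ others L, l * k = k * l := by
  intro l hl k hk
  have : others L ≤ Subgroup.centralizer (L : Set G) := sSup_le fun K hK =>
    CfsgLib.Components.IsComponent.le_centralizer_of_ne hK.1 hL hK.2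
  exact Subgroup.mem_centralizer_iff.1 (this hk) l hl

theorem others_disjoint (hF : Cfsg.fittingSubgroup G = ⊥) {L : Subgroup G}
    (hL : Cfsg.IsComponent L) : ∀ x ∈ L, x ∈ others L → x = 1 := by
  intro x hx hx'
  have h : (⟨x, hx⟩ : L) ∈ Subgroup.center ↥L := Subgroup.mem_center_iff.2 fun l =>
    Subtype.ext (others_comm hL l l.2 x hx')
  rw [center_bot hF hL, Subgroup.mem_bot] at h
  exact congrArg Subtype.val h

theorem layer_decomp {L : Subgroup G} (hL : Cfsg.IsComponent L) {x : G} (hx : x ∈ Cfsg.layer G) :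
    ∃ l ∈ L, ∃ k ∈ others L, x = l * k := by
  have hle : Cfsg.layer G ≤ L ⊔ others L := CfsgLib.Components.layer_le_iff.2 fun K hK => by
    by_cases h : K = L
    · subst h; exact le_sup_left
    · exact (le_others hK h).trans le_sup_right
  have hn : others L ≤ Subgroup.normalizer (L : Set G) := sSup_le fun K hK =>
    CfsgLib.Components.IsComponent.le_normalizer hK.1 hL
  have := hle hx
  rw [← SetLike.mem_coe, Subgroup.coe_mul_of_right_le_normalizer_left _ _ hn] at this
  obtain ⟨l, hl, k, hk, e⟩ := this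
  exact ⟨l, hl, k, hk, e.symm⟩

theorem decomp_unique (hF : Cfsg.fittingSubgroup G = ⊥) {L : Subgroup G} (hL : Cfsg.IsComponent L)
    {a a' b b' : G} (ha : a ∈ L) (ha' : a' ∈ L) (hb : b ∈ others L) (hb' : b' ∈ others L)
    (h : a * b = a' * b') : a = a' ∧ b = b' := by
  have h1 : a'⁻¹ * a = b' * b⁻¹ := by
    calc a'⁻¹ * a = a'⁻¹ * (a * b) * b⁻¹ := by group
      _ = b' * b⁻¹ := by rw [h]; group
  have h2 := others_disjoint hF hL _ (mul_mem (inv_mem ha') ha) (h1 ▸ mul_mem hb' (inv_mem hb))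
  obtain rfl : a = a' := (inv_mul_eq_one.1 h2).symm
  exact ⟨rfl, mul_left_cancel h⟩

theorem conj_component {L : Subgroup G} (g : G) {x : G} :
    x ∈ L.map (MulAut.conj g).toMonoidHom ↔ g⁻¹ * x * g ∈ L := mem_map_conj

theorem conj_others {L : Subgroup G} (g : G) :
    ∀ k ∈ others L, g * k * g⁻¹ ∈ others (L.map (MulAut.conj g).toMonoidHom) := by
  intro k hk
  have hle : others L ≤ (others (L.map (MulAut.conj g).toMonoidHom)).comap
      (MulAut.conj g).toMonoidHom := sSup_le fun K hK => by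
    rw [← Subgroup.map_le_iff_le_comap]
    exact le_others (CfsgLib.Components.IsComponent.conj hK.1 g) fun e =>
      hK.2 (Subgroup.map_injective (MulAut.conj g).injective e)
  exact hle hk

theorem mem_conj {L : Subgroup G} (g : G) {c : G} (hc : c ∈ L) :
    g * c * g⁻¹ ∈ L.map (MulAut.conj g).toMonoidHom := ⟨c, hc, rfl⟩


/-- Let Q be a large extraspecial 2-subgroup of the finite group G (extraspecial; centralizer equal to its centre; normal in the centralizer of its centre; normalizing no non-trivial subgroup of odd order) with centre generated by z, and let M be the normal closure of z in G. Then one of the following holds: Q is normal in G; or M is abelian and the generalized Fitting subgroup of G is its largest normal 2-subgroup; or M is the generalized Fitting subgroup of G and is a non-abelian simple group; or M is the generalized Fitting subgroup of G and is the direct product of a non-abelian simple subgroup L and its conjugate u L u⁻¹ by some u in Q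 (the two meet trivially and commute elementwise), with z = z₁ (u z₁ u⁻¹) for some z₁ in L whose centralizer in L is a Sylow 2-subgroup of L with Frattini subgroup inside the subgroup generated by z₁, and Q is not the largest normal 2-subgroup of the centralizer of z. -/
theorem result {G : Type*} [Group G] [Finite G] (Q : Subgroup G) (hQ : Cfsg.IsLargeExtraspecial Q) (z : G) (hz : ((Subgroup.center ↥Q).map Q.subtype) = Subgroup.zpowers z) (M : Subgroup G) (hM : M = Subgroup.normalClosure ({z} : Set G)) : Q.Normal ∨ (IsMulCommutative ↥M ∧ Cfsg.generalizedFittingSubgroup G = Cfsg.pCore 2 G) ∨ (M = Cfsg.generalizedFittingSubgroup G ∧ IsSimpleGroup ↥M ∧ ¬ IsMulCommutative ↥M) ∨ (M = Cfsg.generalizedFittingSubgroup G ∧ ∃ (L : Subgroup G) (u : G), u ∈ Q ∧ IsSimpleGroup ↥L ∧ ¬ IsMulCommutative ↥L ∧ L ⊓ (L).map (MulAut.conj u).toMonoidHom = ⊥ ∧ (∀ x ∈ L, ∀ y ∈ (L).map (MulAut.conj u).toMonoidHom, x * y = y * x) ∧ L ⊔ (L).map (MulAut.conj u).toMonoidHom = M ∧ ∃ z₁ ∈ L, z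 = z₁ * (u * z₁ * u⁻¹) ∧ (∃ R : Sylow 2 ↥L, (R : Subgroup ↥L) = (Subgroup.centralizer ({z₁} : Set G)).subgroupOf L ∧ (frattini ↥(R : Subgroup ↥L)).map ((L.subtype).comp (R : Subgroup ↥L).subtype) ≤ Subgroup.zpowers z₁) ∧ Q ≠ (Cfsg.pCore 2 ↥(Subgroup.centralizer ({z} : Set G))).map (Subgroup.centralizer ({z} : Set G)).subtype) := by
  classical
  obtain ⟨hE, hCQ, hNQ, hlarge⟩ := hQ
  have hX := Extra.of_center hE hz
  have hC : ∀ x : G, (∀ q ∈ Q, x * q = q * x) → x ∈ Q := fun x hx => by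
    have : x ∈ Subgroup.centralizer (Q : Set G) :=
      Subgroup.mem_centralizer_iff.2 fun q hq => (hx q hq).symm
    rw [hCQ] at this
    exact Subgroup.map_subtype_le _ this
  have hN : Subgroup.centralizer ({z} : Set G) ≤ Subgroup.normalizer (Q : Set G) := by
    rwa [hz, Subgroup.zpowers_eq_closure, Subgroup.centralizer_closure] at hNQ
  haveI hMn : M.Normal := hM ▸ Subgroup.normalClosure_normal
  have hzM : z ∈ M := hM ▸ Subgroup.subset_normalClosure rfl
  have hmem : ∀ N : Subgroup G, N.Normal → N ≠ ⊥ → z ∈ N := fun N hNn hne =>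
    by_contra fun h => hne (eq_bot_of_not_mem hX hC hN hlarge h)
  have hMle : ∀ N : Subgroup G, N.Normal → N ≠ ⊥ → M ≤ N := fun N hNn hne =>
    hM ▸ Subgroup.normalClosure_le_normal (Set.singleton_subset_iff.2 (hmem N hNn hne))
  haveI : Fact (Nat.Prime 2) := ⟨Nat.prime_two⟩
  haveI h2n : (Cfsg.pCore 2 G).Normal := CfsgLib.Solvable.Cores.pCore_normal 2
  have h2p : IsPGroup 2 ↥(Cfsg.pCore 2 G) := CfsgLib.Solvable.Cores.isPGroup_pCore 2
  have hfit : Cfsg.fittingSubgroup G = Cfsg.pCore 2 G := by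
    refine le_antisymm ?_ (CfsgLib.Solvable.Cores.pCore_le_fittingSubgroup 2)
    rw [CfsgLib.Solvable.Cores.fittingSubgroup_eq_iSup_pCore]
    refine iSup_le fun p => ?_
    by_cases hp : (p : ℕ) = 2
    · rw [hp]
    haveI := Fact.mk p.2
    have hb : Cfsg.pCore (p : ℕ) G = ⊥ := by
      by_contra hne
      have hzp := hmem _ (CfsgLib.Solvable.Cores.pCore_normal _) hne
      obtain ⟨k, hk⟩ := CfsgLib.Solvable.Cores.isPGroup_pCore (G := G) (p : ℕ) ⟨z, hzp⟩
      have h2 : orderOf z ∣ (p : ℕ) ^ k :=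
        orderOf_dvd_of_pow_eq_one (by simpa using congrArg Subtype.val hk)
      rw [orderOf_eq_prime (by rw [pow_two, hX.z_sq]) hX.z_ne] at h2
      exact hp ((Nat.prime_dvd_prime_iff_eq Nat.prime_two p.2).1
        (Nat.prime_two.dvd_of_dvd_pow h2)).symm
    rw [hb]; exact bot_le
  right
  by_cases hO : Cfsg.pCore 2 G = ⊥
  swap
  · left
    refine ⟨?_, ?_⟩
    · haveI : Nontrivial ↥(Cfsg.pCore 2 G) := (Subgroup.nontrivial_iff_ne_bot _).2 hO
      haveI := h2p.center_nontrivial
      have hne : (Subgroup.center ↥(Cfsg.pCore 2 G)).map (Cfsg.pCore 2 G).subtype ≠ ⊥ := by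
        rw [Ne, Subgroup.map_eq_bot_iff_of_injective _ (Subgroup.subtype_injective _)]
        exact (Subgroup.nontrivial_iff_ne_bot _).1 inferInstance
      have hle := hMle _ inferInstance hne
      refine ⟨⟨fun a b => Subtype.ext ?_⟩⟩
      obtain ⟨a', ha', e⟩ := hle a.2
      obtain ⟨b', -, e'⟩ := hle b.2
      show (a : G) * b = b * a
      rw [← e, ← e']
      exact congrArg Subtype.val (Subgroup.mem_center_iff.1 ha' b').symm
    · have hlay : Cfsg.layer G = ⊥ := by
        by_contra hne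
        set E := Cfsg.layer G with hEd
        have hzE : z ∈ E := hmem E inferInstance hne
        have hzF : z ∈ Cfsg.fittingSubgroup G := hfit ▸ hmem _ h2n hO
        have hEz : E ≤ Subgroup.centralizer ({z} : Set G) := fun e he =>
          Subgroup.mem_centralizer_singleton_iff.2
            (Subgroup.mem_centralizer_iff.1
              (CfsgLib.Components.layer_le_centralizer_fitting he) z hzF).symm
        haveI : Group.IsSolvable ↥(E ⊓ Q) := by
          haveI := (hX.isPGroup.to_le (H := E ⊓ Q) inf_le_right).isNilpotent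
          infer_instance
        have hEN : E ≤ Subgroup.normalizer ((E ⊓ Q : Subgroup G) : Set G) := fun e he =>
          Subgroup.mem_normalizer_fintype fun x hx =>
            ⟨(inferInstance : E.Normal).conj_mem x hx.1 e,
              (Subgroup.mem_normalizer_iff.1 (hN (hEz he)) x).1 hx.2⟩
        have hcen : ⁅E, E ⊓ Q⁆ = ⊥ := by
          rw [Subgroup.commutator_eq_bot_iff_le_centralizer, CfsgLib.Components.layer_le_iff]
          intro L hL
          exact Subgroup.commutator_eq_bot_iff_le_centralizer.1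
            (CfsgLib.Components.IsComponent.commutator_solvable_eq_bot hL
              ((CfsgLib.Components.IsComponent.le_layer hL).trans hEN))
        have hle : ⁅E, Q⁆ ≤ E ⊓ Q := by
          rw [Subgroup.commutator_le]
          intro e he q hq
          refine ⟨?_, ?_⟩
          · rw [commutatorElement_def, show e * q * e⁻¹ * q⁻¹ = e * (q * e⁻¹ * q⁻¹) by group]
            exact mul_mem he ((inferInstance : E.Normal).conj_mem _ (inv_mem he) q)
          · show e * q * e⁻¹ * q⁻¹ ∈ Q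
            exact mul_mem ((Subgroup.mem_normalizer_iff.1 (hN (hEz he)) q).1 hq) (inv_mem hq)
        have h3 : ⁅⁅E, E⁆, Q⁆ = ⊥ := by
          refine Subgroup.commutator_commutator_eq_bot_of_rotate ?_ ?_
          · rw [eq_bot_iff, ← hcen, Subgroup.commutator_comm E (E ⊓ Q)]
            exact Subgroup.commutator_mono hle le_rfl
          · rw [eq_bot_iff, ← hcen, Subgroup.commutator_comm Q E, Subgroup.commutator_comm E (E ⊓ Q)]
            exact Subgroup.commutator_mono hle le_rfl
        rw [CfsgLib.Components.layer_commutator_self,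
          Subgroup.commutator_eq_bot_iff_le_centralizer] at h3
        apply hne
        have hEQ : E ≤ Q := fun e he => hC e fun q hq =>
          (Subgroup.mem_centralizer_iff.1 (h3 he) q hq).symm
        rw [CfsgLib.Components.layer_eq_bot_iff]
        intro L hL
        haveI := (hX.isPGroup.to_le
          ((CfsgLib.Components.IsComponent.le_layer hL).trans hEQ)).isNilpotent
        exact CfsgLib.Components.IsComponent.not_isSolvable hL inferInstance
      rw [Cfsg.generalizedFittingSubgroup, hlay, bot_sup_eq, hfit]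
  rw [hO] at hfit
  have hFstar : Cfsg.generalizedFittingSubgroup G = Cfsg.layer G := by
    rw [Cfsg.generalizedFittingSubgroup, hfit, sup_bot_eq]
  have hCE : ∀ x : G, (∀ e ∈ Cfsg.layer G, e * x = x * e) → x = 1 := fun x hx => by
    have := CfsgLib.Components.centralizer_generalizedFitting_le_fitting
      (show x ∈ Subgroup.centralizer (Cfsg.generalizedFittingSubgroup G : Set G) by
        rw [hFstar]; exact Subgroup.mem_centralizer_iff.2 hx)
    rwa [hfit, Subgroup.mem_bot] at this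
  have hlne : Cfsg.layer G ≠ ⊥ := fun e => hX.z_ne (hCE z fun x hx => by
    rw [e, Subgroup.mem_bot] at hx; simp [hx])
  have hML : M = Cfsg.layer G := by
    refine le_antisymm (hMle _ inferInstance hlne)
      (CfsgLib.Components.layer_le_iff.2 fun L hL => ?_)
    rcases CfsgLib.Components.IsComponent.le_or_commutator_eq_bot_of_normal hL M with h | h
    · exact h
    · exfalso
      have h' := Subgroup.commutator_eq_bot_iff_le_centralizer.1 h
      have hcne : Subgroup.centralizer (M : Set G) ≠ ⊥ := fun e =>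
        CfsgLib.Components.IsComponent.ne_bot hL (le_bot_iff.1 (e ▸ h'))
      have hMc := hMle _ inferInstance hcne
      haveI : IsMulCommutative M := Subgroup.le_centralizer_iff_isMulCommutative.1 hMc
      have := CfsgLib.Solvable.Cores.le_fittingSubgroup
        (CfsgLib.Components.isNilpotent_of_isMulCommutative M) hzM
      rw [hfit, Subgroup.mem_bot] at this
      exact hX.z_ne this
  have hMF : M = Cfsg.generalizedFittingSubgroup G := hML.trans hFstar.symm
  obtain ⟨L, hL⟩ : ∃ L : Subgroup G, Cfsg.IsComponent L := by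
    by_contra hne
    push_neg at hne
    exact hlne (CfsgLib.Components.layer_eq_bot_iff.2 hne)
  have hLs := simple_component hfit hL
  have hLna : ¬ IsMulCommutative ↥L := CfsgLib.Components.IsQuasisimple.not_isMulCommutative hL.2
  have hqz : ∀ q ∈ Q, q * z * q⁻¹ = z := fun q hq => by
    rw [← hX.z_comm hq, mul_inv_cancel_right]
  -- `Q` is transitive on components and `z` centralizes none
  let orb : Subgroup G → Subgroup G := fun L =>
    ⨆ q : Q, L.map (MulAut.conj (q : G)).toMonoidHom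
  have horb : ∀ L : Subgroup G, Cfsg.IsComponent L → z ∈ orb L := by
    intro L hL
    set N := orb L with hNd
    have hLN : L ≤ N := by
      refine le_trans ?_ (le_iSup (fun q : Q => L.map (MulAut.conj (q : G)).toMonoidHom) 1)
      intro x hx; exact ⟨x, hx, by simp⟩
    have hQN : Q ≤ Subgroup.normalizer (N : Set G) := by
      intro q hq
      refine Subgroup.mem_normalizer_fintype fun x hx => ?_
      suffices N ≤ N.comap (MulAut.conj q).toMonoidHom from this hx
      refine iSup_le fun p => ?_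
      rintro _ ⟨l, hl, rfl⟩
      exact le_iSup (fun q : Q => L.map (MulAut.conj (q : G)).toMonoidHom) (⟨q, hq⟩ * p)
        ⟨l, hl, by simp [mul_assoc]⟩
    by_contra hzN
    have hNQ' : ∀ x ∈ N, x ∈ Q → x = 1 := by
      intro x hxN hxQ
      by_contra hx1
      obtain ⟨q, hq, hqx⟩ := hX.exists_conj_eq hxQ hx1 fun e => hzN (e ▸ hxN)
      apply hzN
      have := mul_mem (inv_mem hxN) ((Subgroup.mem_normalizer_iff.1 (hQN hq) x).1 hxN)
      rwa [hqx, inv_mul_cancel_left] at this
    have hfix : ∀ k ∈ N, z * k = k * z → k = 1 := by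
      intro k hk hkz
      have hkN := hN (Subgroup.mem_centralizer_singleton_iff.2 hkz.symm)
      refine hNQ' k hk (hC k fun q hq => ?_)
      have h1 : k * (q * k⁻¹ * q⁻¹) ∈ N :=
        mul_mem hk ((Subgroup.mem_normalizer_iff.1 (hQN hq) _).1 (inv_mem hk))
      have h2 : k * (q * k⁻¹ * q⁻¹) ∈ Q := by
        rw [show k * (q * k⁻¹ * q⁻¹) = k * q * k⁻¹ * q⁻¹ by group]
        exact mul_mem ((Subgroup.mem_normalizer_iff.1 hkN q).1 hq) (inv_mem hq)
      calc k * q = k * (q * k⁻¹ * q⁻¹) * (q * k) := by group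
        _ = q * k := by rw [hNQ' _ h1 h2, one_mul]
    refine CfsgLib.Components.IsComponent.ne_bot hL (le_bot_iff.1 (hLN.trans (le_of_eq ?_)))
    refine hlarge N ?_ hQN
    by_contra hodd
    rw [Nat.not_odd_iff_even, even_iff_two_dvd] at hodd
    have hzn : ∀ k ∈ N, z * k * z⁻¹ ∈ N := fun k hk =>
      (Subgroup.mem_normalizer_iff.1 (hQN hX.z_mem) k).1 hk
    obtain ⟨t, ht⟩ := exists_prime_orderOf_dvd_card' 2 hodd
    -- a fixed point free involutory automorphism inverts, so fixes involutions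
    let φ : N →* N :=
      { toFun := fun k => ⟨z * k * z⁻¹, hzn k k.2⟩
        map_one' := Subtype.ext (by simp)
        map_mul' := fun a b => Subtype.ext (by simp [conj_mul]) }
    have hφ : MonoidHom.FixedPointFree φ := fun k hk =>
      Subtype.ext (hfix k k.2 (mul_inv_eq_iff_eq_mul.1 (congrArg Subtype.val hk)))
    have hinv : Function.Involutive φ := fun k => Subtype.ext (by
      show z * (z * k * z⁻¹) * z⁻¹ = k
      rw [show z * (z * (k : G) * z⁻¹) * z⁻¹ = z * z * k * (z * z)⁻¹ by group, hX.z_sq]; simp)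
    have htinv : t⁻¹ = t := by
      refine inv_eq_of_mul_eq_one_right ?_
      have := pow_orderOf_eq_one t
      rwa [ht, pow_two] at this
    have ht1 : t = 1 := hφ t ((congrFun (hφ.coe_eq_inv_of_involutive hinv) t).trans htinv)
    rw [ht1, orderOf_one] at ht
    omega
  have horb_comm : ∀ L : Subgroup G, Cfsg.IsComponent L → ∀ K : Subgroup G, Cfsg.IsComponent K →
      (∀ q ∈ Q, L.map (MulAut.conj q).toMonoidHom ≠ K) → ∀ k ∈ K, k * z = z * k := by
    intro L hL K hK hne k hk
    have : orb L ≤ Subgroup.centralizer (K : Set G) := iSup_le fun q =>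
      CfsgLib.Components.IsComponent.le_centralizer_of_ne
        (CfsgLib.Components.IsComponent.conj hL _) hK (hne q q.2)
    exact Subgroup.mem_centralizer_iff.1 (this (horb L hL)) k hk
  have hnot_all : ¬ ∀ K : Subgroup G, Cfsg.IsComponent K → ∀ k ∈ K, k * z = z * k := fun h =>
    hX.z_ne (hCE z fun e he => by
      have : Cfsg.layer G ≤ Subgroup.centralizer ({z} : Set G) :=
        CfsgLib.Components.layer_le_iff.2 fun K hK k hk =>
          Subgroup.mem_centralizer_singleton_iff.2 (h K hK k hk)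
      exact Subgroup.mem_centralizer_singleton_iff.1 (this he))
  have htrans : ∀ K : Subgroup G, Cfsg.IsComponent K →
      ∃ q ∈ Q, L.map (MulAut.conj q).toMonoidHom = K := by
    intro K hK
    by_contra hne
    push_neg at hne
    have hKz := horb_comm L hL K hK hne
    have hLz := horb_comm K hK L hL fun q hq e => hne q⁻¹ (inv_mem hq) (by
      rw [← e, Subgroup.map_map]
      ext x; simp [mul_assoc])
    refine hnot_all fun K' hK' k hk => ?_
    by_cases h : ∀ q ∈ Q, L.map (MulAut.conj q).toMonoidHom ≠ K'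
    · exact horb_comm L hL K' hK' h k hk
    · push_neg at h
      obtain ⟨q, hq, rfl⟩ := h
      obtain ⟨l, hl, rfl⟩ := hk
      show q * l * q⁻¹ * z = z * (q * l * q⁻¹)
      conv_lhs => rw [← hqz q hq, conj_mul, hLz l hl, ← conj_mul, hqz q hq]
  by_cases hone : ∀ q ∈ Q, L.map (MulAut.conj q).toMonoidHom = L
  · right; left
    have hLM : M = L := by
      rw [hML]
      refine le_antisymm (CfsgLib.Components.layer_le_iff.2 fun K hK => ?_)
        (CfsgLib.Components.IsComponent.le_layer hL)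
      obtain ⟨q, hq, e⟩ := htrans K hK
      rw [← e, hone q hq]
    exact ⟨hMF, hLM ▸ hLs, hLM ▸ hLna⟩
  push_neg at hone
  obtain ⟨u, hu, hLu⟩ := hone
  right; right
  set L' := L.map (MulAut.conj u).toMonoidHom with hL'd
  have hL' : Cfsg.IsComponent L' := CfsgLib.Components.IsComponent.conj hL u
  obtain ⟨z₁, hz₁, k₀, hk₀, hzdec⟩ := layer_decomp hL (hML ▸ hzM)
  have hz₁ne : z₁ ≠ 1 := by
    intro e
    rw [e, one_mul] at hzdec
    refine hnot_all fun K hK k hk => ?_
    obtain ⟨q, hq, rfl⟩ := htrans K hK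
    obtain ⟨l, hl, rfl⟩ := hk
    show q * l * q⁻¹ * z = z * (q * l * q⁻¹)
    conv_lhs => rw [← hqz q hq, conj_mul, hzdec, others_comm hL l hl k₀ hk₀, ← hzdec, ← conj_mul,
      hqz q hq]
  have hzsq : z₁ * z₁ = 1 := by
    refine (decomp_unique hfit hL (mul_mem hz₁ hz₁) (one_mem _) (mul_mem hk₀ hk₀) (one_mem _) ?_).1
    calc z₁ * z₁ * (k₀ * k₀) = z₁ * (z₁ * k₀) * k₀ := by group
      _ = z₁ * (k₀ * z₁) * k₀ := by rw [others_comm hL z₁ hz₁ k₀ hk₀]
      _ = z * z := by rw [hzdec]; group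
      _ = 1 * 1 := by rw [hX.z_sq, one_mul]
  have hz₁i : z₁⁻¹ = z₁ := inv_eq_of_mul_eq_one_right hzsq
  have hcz : ∀ c ∈ L, (c * z = z * c ↔ c * z₁ = z₁ * c) := by
    intro c hc
    have hck := others_comm hL c hc k₀ hk₀
    rw [hzdec]
    constructor
    · intro h
      apply mul_right_cancel (b := k₀)
      rw [mul_assoc, h, mul_assoc, ← hck, mul_assoc]
    · intro h
      rw [← mul_assoc, h, mul_assoc, hck, mul_assoc]
  let a : G → G := fun c => u * c * u⁻¹ * c⁻¹
  have haQ : ∀ c : G, c * z = z * c → a c ∈ Q := fun c hcz' => by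
    show u * c * u⁻¹ * c⁻¹ ∈ Q
    rw [show u * c * u⁻¹ * c⁻¹ = u * (c * u⁻¹ * c⁻¹) by group]
    exact mul_mem hu ((Subgroup.mem_normalizer_iff.1
      (hN (Subgroup.mem_centralizer_singleton_iff.2 hcz')) _).1 (inv_mem hu))
  have huc : ∀ c ∈ L, u * c * u⁻¹ ∈ others L := fun c hc => le_others hL' hLu (mem_conj u hc)
  have hadec : ∀ c ∈ L, a c = c⁻¹ * (u * c * u⁻¹) := fun c hc =>
    (others_comm hL c⁻¹ (inv_mem hc) _ (huc c hc)).symm
  have hbig : ¬ ∀ c ∈ L, c * z₁ = z₁ * c → c = 1 ∨ c = z₁ := fun h =>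
    not_centralizer_two hLs hLna ⟨z₁, hz₁⟩ (fun e => hz₁ne (congrArg Subtype.val e))
      (Subtype.ext hzsq) fun c hc => (h c c.2 (congrArg Subtype.val hc)).imp
        (fun e => Subtype.ext e) (fun e => Subtype.ext e)
  have htwo : ∀ K : Subgroup G, Cfsg.IsComponent K → K = L ∨ K = L' := by
    intro K hK
    by_contra hne
    push_neg at hne
    obtain ⟨q, hq, rfl⟩ := htrans K hK
    apply hbig
    intro c hc hcz₁
    have hca := haQ c ((hcz c hc).2 hcz₁)
    have h1 : q * (u * c * u⁻¹) * q⁻¹ ∈ others (L.map (MulAut.conj q).toMonoidHom) :=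
      conj_others q _ (huc c hc)
    have h2 : a c ∈ others (L.map (MulAut.conj q).toMonoidHom) := by
      rw [hadec c hc]
      exact mul_mem (le_others hL (Ne.symm hne.1) (inv_mem hc))
        (le_others hL' (Ne.symm hne.2) (mem_conj u hc))
    have hK' := CfsgLib.Components.IsComponent.conj hL q
    have e : q * a c * q⁻¹ = (q * c⁻¹ * q⁻¹) * (q * (u * c * u⁻¹) * q⁻¹) := by
      rw [hadec c hc, conj_mul]
    rcases hX.conj_cases hca hq with r | r
    · have := (decomp_unique hfit hK' (mem_conj q (inv_mem hc)) (one_mem _) h1 h2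
        (by rw [← e, r, one_mul])).1
      left; exact inv_eq_one.1 (conj_eq_one_iff.1 this)
    · have := (decomp_unique hfit hK' (mem_conj q (inv_mem hc)) (mem_conj q hz₁) h1
        (mul_mem (conj_others q k₀ hk₀) h2) (by
          rw [← e, r, ← mul_assoc, conj_mul, ← hzdec, hqz q hq, hX.z_comm hca])).1
      right
      rw [← inv_inv c, conj_inj' this, hz₁i]
  have hK : others L = L' := by
    refine le_antisymm (sSup_le fun K hK => ?_) (le_others hL' hLu)
    rcases htwo K hK.1 with rfl | rfl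
    · exact absurd rfl hK.2
    · exact le_rfl
  have hu2 : L'.map (MulAut.conj u).toMonoidHom = L := by
    rcases htwo _ (CfsgLib.Components.IsComponent.conj hL' u) with e | e
    · exact e
    · exact absurd (Subgroup.map_injective (MulAut.conj u).injective e) hLu
  have hk₀' : k₀ ∈ L' := hK ▸ hk₀
  have hz₁u : k₀ = u * z₁ * u⁻¹ := by
    have h1 : u * k₀ * u⁻¹ ∈ L := hu2 ▸ mem_conj u hk₀'
    have e : z₁ * k₀ = (u * k₀ * u⁻¹) * (u * z₁ * u⁻¹) := by
      rw [conj_mul, ← others_comm hL z₁ hz₁ k₀ hk₀, ← hzdec, hqz u hu]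
    exact (decomp_unique hfit hL hz₁ h1 hk₀ (huc z₁ hz₁) e).2
  have hzeq : z = z₁ * (u * z₁ * u⁻¹) := by rw [← hz₁u]; exact hzdec
  have hLM : L ≤ M := hML ▸ CfsgLib.Components.IsComponent.le_layer hL
  set Rs := (Subgroup.centralizer ({z₁} : Set G)).subgroupOf L with hRs
  have hmR : ∀ c : ↥L, c ∈ Rs ↔ (c : G) * z₁ = z₁ * c := fun c => by
    rw [hRs, Subgroup.mem_subgroupOf, Subgroup.mem_centralizer_singleton_iff]
  have haR : ∀ c ∈ L, c * z₁ = z₁ * c → a c ∈ Q := fun c hc h => haQ c ((hcz c hc).2 h)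
  have hp : IsPGroup 2 ↥Rs := by
    rintro ⟨⟨c, hc⟩, hcR⟩
    obtain ⟨k, hk⟩ := hX.isPGroup ⟨_, haR c hc ((hmR _).1 hcR)⟩
    refine ⟨k, Subtype.ext (Subtype.ext ?_)⟩
    have h1 : (c⁻¹ * (u * c * u⁻¹)) ^ 2 ^ k = 1 := by
      rw [← hadec c hc]; exact congrArg Subtype.val hk
    rw [(show Commute c⁻¹ (u * c * u⁻¹) from others_comm hL c⁻¹ (inv_mem hc) _ (huc c hc)).mul_pow,
      conj_pow] at h1
    have := (decomp_unique hfit hL (pow_mem (inv_mem hc) _) (one_mem _)
      (huc _ (pow_mem hc _)) (one_mem _) (h1.trans (one_mul _).symm)).1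
    show c ^ 2 ^ k = 1
    rwa [inv_pow, inv_eq_one] at this
  have hzdec' : ∀ x : G, x ∈ L → ∀ y ∈ L', x * y * z = (x * z₁) * (y * k₀) := by
    intro x hx y hy
    rw [hzdec, show x * y * (z₁ * k₀) = x * (y * z₁) * k₀ by group,
      ← others_comm hL z₁ hz₁ y (hK ▸ hy)]
    group
  have hsqR : ∀ c ∈ L, c * z₁ = z₁ * c → c * c = 1 ∨ c * c = z₁ := by
    intro c hc h
    have hcomm : Commute c⁻¹ (u * c * u⁻¹) := others_comm hL c⁻¹ (inv_mem hc) _ (huc c hc)
    have e : a c * a c = (c⁻¹ * c⁻¹) * ((u * c * u⁻¹) * (u * c * u⁻¹)) := by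
      rw [hadec c hc, hcomm.mul_mul_mul_comm]
    rcases hX.sq_cases (haR c hc h) with r | r <;> rw [e] at r
    · have := (decomp_unique hfit hL (mul_mem (inv_mem hc) (inv_mem hc)) (one_mem _)
        (mul_mem (huc c hc) (huc c hc)) (one_mem _) (r.trans (one_mul _).symm)).1
      left; rwa [← mul_inv_rev, inv_eq_one] at this
    · have := (decomp_unique hfit hL (mul_mem (inv_mem hc) (inv_mem hc)) hz₁
        (mul_mem (huc c hc) (huc c hc)) hk₀ (r.trans hzdec)).1
      right; rw [← mul_inv_rev] at this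
      rw [← inv_inv (c * c), this, hz₁i]
  have hcommR : ∀ c ∈ L, ∀ d ∈ L, c * z₁ = z₁ * c → d * z₁ = z₁ * d →
      c * d * c⁻¹ = d ∨ c * d * c⁻¹ = d * z₁ := by
    intro c hc d hd h h'
    have h'' : c⁻¹ * z₁ = z₁ * c⁻¹ := (Commute.inv_left h).eq
    have h''' : d⁻¹ * z₁ = z₁ * d⁻¹ := (Commute.inv_left h').eq
    have hq := haR c⁻¹ (inv_mem hc) h''
    have hd' := haR d⁻¹ (inv_mem hd) h'''
    have e : a c⁻¹ * a d⁻¹ * (a c⁻¹)⁻¹ =
        (c * d * c⁻¹) * ((u * c⁻¹ * u⁻¹) * (u * d⁻¹ * u⁻¹) * (u * c⁻¹ * u⁻¹)⁻¹) := by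
      rw [hadec _ (inv_mem hc), hadec _ (inv_mem hd), inv_inv, inv_inv]
      have c1 := others_comm hL d hd _ (huc _ (inv_mem hc))
      have c2 := others_comm hL c⁻¹ (inv_mem hc) _
        (mul_mem (mul_mem (huc _ (inv_mem hc)) (huc _ (inv_mem hd))) (inv_mem (huc _ (inv_mem hc))))
      calc c * (u * c⁻¹ * u⁻¹) * (d * (u * d⁻¹ * u⁻¹)) * (c * (u * c⁻¹ * u⁻¹))⁻¹
          = c * ((u * c⁻¹ * u⁻¹) * d) * ((u * d⁻¹ * u⁻¹) * (u * c⁻¹ * u⁻¹)⁻¹) * c⁻¹ := by group
        _ = c * d * ((u * c⁻¹ * u⁻¹) * (u * d⁻¹ * u⁻¹) * (u * c⁻¹ * u⁻¹)⁻¹ * c⁻¹) := by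
            rw [← c1]; group
        _ = _ := by rw [← c2]; group
    have hkk := mul_mem (mul_mem (huc _ (inv_mem hc)) (huc _ (inv_mem hd)))
      (inv_mem (huc _ (inv_mem hc)))
    rcases hX.conj_cases hd' hq with r | r <;> rw [e, hadec _ (inv_mem hd), inv_inv] at r
    · exact Or.inl (decomp_unique hfit hL (mul_mem (mul_mem hc hd) (inv_mem hc)) hd hkk
        (huc _ (inv_mem hd)) r).1
    · rw [hzdec' d hd _ (mem_conj u (inv_mem hd))] at r
      exact Or.inr (decomp_unique hfit hL (mul_mem (mul_mem hc hd) (inv_mem hc)) (mul_mem hd hz₁)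
        hkk (mul_mem (huc _ (inv_mem hd)) hk₀) r).1
  -- no element of a larger 2-group
  have hno : ∀ n ∈ L, (∃ k : ℕ, n ^ 2 ^ k = 1) →
      (∀ c ∈ L, c * z₁ = z₁ * c → n * c * n⁻¹ * z₁ = z₁ * (n * c * n⁻¹)) →
      n * z₁ = z₁ * n := by
    intro n hn hnk hnR
    by_contra hnz
    set z₂ := n * z₁ * n⁻¹ with hz₂d
    have hz₂L : z₂ ∈ L := mul_mem (mul_mem hn hz₁) (inv_mem hn)
    have hz₂c : z₂ * z₁ = z₁ * z₂ := hnR z₁ hz₁ rfl
    have hz₂1 : z₂ ≠ 1 := fun e => hz₁ne (conj_eq_one_iff.1 e)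
    have hz₂z : z₂ ≠ z₁ := fun e => hnz (mul_inv_eq_iff_eq_mul.1 e)
    have hel : ∀ c ∈ L, c * z₁ = z₁ * c → c * c = 1 := by
      intro c hc h
      rcases hsqR c hc h with r | r
      · exact r
      exfalso
      have hc' : n * c * n⁻¹ ∈ L := mul_mem (mul_mem hn hc) (inv_mem hn)
      rcases hsqR _ hc' (hnR c hc h) with r' | r' <;> rw [conj_mul, r, ← hz₂d] at r'
      exacts [hz₂1 r', hz₂z r']
    have hmulc : ∀ c d : G, c * z₁ = z₁ * c → d * z₁ = z₁ * d → c * d * z₁ = z₁ * (c * d) :=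
      fun c d h h' => by rw [mul_assoc, h', ← mul_assoc, h, mul_assoc]
    have habel : ∀ c ∈ L, ∀ d ∈ L, c * z₁ = z₁ * c → d * z₁ = z₁ * d → c * d = d * c := by
      intro c hc d hd h h'
      have := hel _ (mul_mem hc hd) (hmulc c d h h')
      rw [← inv_eq_of_mul_eq_one_right this, mul_inv_rev,
        inv_eq_of_mul_eq_one_right (hel c hc h), inv_eq_of_mul_eq_one_right (hel d hd h')]
    -- `q` in `Q` fixing `L`, with a prescribed action
    have hsep : ∀ T : Subgroup G, (∀ t ∈ T, t ∈ L ∧ t * z₁ = z₁ * t) → z₁ ∈ T →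
        ∀ r ∈ L, r * z₁ = z₁ * r → r ∉ T →
        ∃ q ∈ Q, (∀ t ∈ T, q * t * q⁻¹ = t) ∧ q * r * q⁻¹ = r * z₁ ∧
          (∀ l ∈ L, q * l * q⁻¹ ∈ L) ∧
          ∀ s ∈ L, s * z₁ = z₁ * s → q * s * q⁻¹ = s ∨ q * s * q⁻¹ = s * z₁ := by
      intro T hT hzT r hr hrz hrT
      have haR' : ∀ s ∈ L, s * z₁ = z₁ * s → a s = s * (u * s * u⁻¹) := fun s hs h => by
        rw [hadec s hs, inv_eq_of_mul_eq_one_right (hel s hs h)]
      have ha_mul : ∀ s t : G, s ∈ T → t ∈ T → a (s * t) = a s * a t := by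
        intro s t hs ht
        rw [haR' _ (mul_mem (hT s hs).1 (hT t ht).1) (hT _ (mul_mem hs ht)).2, haR' s (hT s hs).1
          (hT s hs).2, haR' t (hT t ht).1 (hT t ht).2, ← conj_mul,
          show s * (u * s * u⁻¹) * (t * (u * t * u⁻¹)) =
            s * ((u * s * u⁻¹) * t) * (u * t * u⁻¹) by group,
          ← others_comm hL t (hT t ht).1 _ (huc s (hT s hs).1)]
        group
      let f : ↥T →* G := MonoidHom.mk' (fun t => a t) fun s t => ha_mul s t s.2 t.2
      have hAz : z ∈ f.range := ⟨⟨z₁, hzT⟩, by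
        show a z₁ = z
        rw [hadec z₁ hz₁, hz₁i, ← hzeq]⟩
      have hAQ : f.range ≤ Q := by
        rintro _ ⟨t, rfl⟩; exact haR t (hT t t.2).1 (hT t t.2).2
      have hrA : a r ∉ f.range := by
        rintro ⟨t, ht⟩
        change a (t : G) = a r at ht
        rw [haR' r hr hrz, haR' _ (hT t t.2).1 (hT t t.2).2] at ht
        exact hrT ((decomp_unique hfit hL (hT t t.2).1 hr (huc _ (hT t t.2).1) (huc r hr) ht).1 ▸ t.2)
      obtain ⟨q, hq, hqA, hqr⟩ := hX.sep hAQ hAz (haR r hr hrz) hrA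
      have huinv : ∀ s ∈ L, s * z₁ = z₁ * s → u * a s = a s * u := by
        intro s hs h
        have hus : u * (u * s * u⁻¹) * u⁻¹ = s := by
          rw [show u * (u * s * u⁻¹) * u⁻¹ = (u * u) * s * (u * u)⁻¹ by group]
          rcases hX.sq_cases hu with e | e <;> rw [e]
          · simp
          · rw [← (hcz s hs).2 h, mul_inv_cancel_right]
        rw [← mul_inv_eq_iff_eq_mul, haR' s hs h, ← conj_mul, hus]
        exact (others_comm hL s hs _ (huc s hs)).symm
      -- normalise to fix `L`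
      obtain ⟨q', hq', hq'L, hq'A, hq'r⟩ : ∃ q' ∈ Q, L.map (MulAut.conj q').toMonoidHom = L ∧
          (∀ t ∈ T, q' * a t = a t * q') ∧ q' * a r ≠ a r * q' := by
        rcases htwo _ (CfsgLib.Components.IsComponent.conj hL q) with e | e
        · exact ⟨q, hq, e, fun t ht => hqA _ ⟨⟨t, ht⟩, rfl⟩, hqr⟩
        · refine ⟨u * q, mul_mem hu hq, ?_, fun t ht => ?_, fun e' => hqr ?_⟩
          · rw [show (MulAut.conj (u * q)).toMonoidHom =
              (MulAut.conj u).toMonoidHom.comp (MulAut.conj q).toMonoidHom from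
              MonoidHom.ext fun x => by simp [mul_assoc], ← Subgroup.map_map, e, hu2]
          · have h1 : q * a t = a t * q := hqA _ ⟨⟨t, ht⟩, rfl⟩
            rw [mul_assoc, h1, ← mul_assoc, huinv t (hT t ht).1 (hT t ht).2, mul_assoc]
          · apply mul_left_cancel (a := u)
            rw [← mul_assoc, e', ← mul_assoc, ← huinv r hr hrz, mul_assoc]
      have hq'L' : ∀ x ∈ L', q' * x * q'⁻¹ ∈ L' := by
        intro x hx
        have h := conj_others q' x (hK.symm ▸ hx)
        rwa [hq'L, hK] at h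
      have hq'Lm : ∀ l ∈ L, q' * l * q'⁻¹ ∈ L := fun l hl => hq'L ▸ mem_conj q' hl
      have hcomp : ∀ s ∈ L, s * z₁ = z₁ * s → (q' * a s * q'⁻¹ = a s → q' * s * q'⁻¹ = s) ∧
          (q' * a s * q'⁻¹ = a s * z → q' * s * q'⁻¹ = s * z₁) := by
        intro s hs h
        have h1 : q' * (u * s * u⁻¹) * q'⁻¹ ∈ others L := hK.symm ▸ hq'L' _ (mem_conj u hs)
        constructor <;> intro r <;> rw [haR' s hs h, ← conj_mul] at r
        · exact (decomp_unique hfit hL (hq'Lm s hs) hs h1 (huc s hs) r).1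
        · rw [hzdec' s hs _ (mem_conj u hs)] at r
          exact (decomp_unique hfit hL (hq'Lm s hs) (mul_mem hs hz₁) h1
            (mul_mem (huc s hs) hk₀) r).1
      refine ⟨q', hq', fun t ht => (hcomp t (hT t ht).1 (hT t ht).2).1
        (mul_inv_eq_iff_eq_mul.2 (hq'A t ht)),
        (hcomp r hr hrz).2 (hX.conj_eq_of_not_comm (haR r hr hrz) hq' hq'r), hq'Lm, fun s hs h => ?_⟩
      exact (hX.conj_cases (haR s hs h) hq').imp (hcomp s hs h).1 (hcomp s hs h).2
    have hC1 : ∀ q : G, q ∈ Q → (∀ l ∈ L, q * l * q⁻¹ ∈ L) → q * z₁ * q⁻¹ = z₁ := by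
      intro q hq hqL
      have hqmap : L.map (MulAut.conj q).toMonoidHom = L := by
        refine Subgroup.eq_of_le_of_card_ge ?_
          (by rw [Subgroup.card_map_of_injective (MulAut.conj q).injective])
        rintro _ ⟨l, hl, rfl⟩; exact hqL l hl
      have h1 : q * k₀ * q⁻¹ ∈ others L := by
        have := conj_others q k₀ hk₀; rwa [hqmap] at this
      exact (decomp_unique hfit hL (hqL z₁ hz₁) hz₁ h1 hk₀
        (by rw [conj_mul, ← hzdec, hqz q hq])).1
    by_cases hbigR : ∃ r ∈ L, r * z₁ = z₁ * r ∧ r ≠ 1 ∧ r ≠ z₁ ∧ r ≠ z₂ ∧ r ≠ z₁ * z₂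
    · obtain ⟨r, hr, hrz, hr1, hr2, hr3, hr4⟩ := hbigR
      let T : Subgroup G :=
        { carrier := {t | t = 1 ∨ t = z₁ ∨ t = z₂ ∨ t = z₁ * z₂}
          one_mem' := Or.inl rfl
          mul_mem' := by
            have h2 := hel z₂ hz₂L hz₂c
            have h4 : ∀ x : G, z₁ * (z₁ * x) = x := fun x => by rw [← mul_assoc, hzsq, one_mul]
            have h5 : ∀ x : G, z₂ * (z₁ * x) = z₁ * (z₂ * x) := fun x => by
              rw [← mul_assoc, hz₂c, mul_assoc]
            rintro x y (rfl | rfl | rfl | rfl) (rfl | rfl | rfl | rfl) <;>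
              simp [mul_assoc, hzsq, h2, hz₂c, h4, h5]
          inv_mem' := by
            have h2 := inv_eq_of_mul_eq_one_right (hel z₂ hz₂L hz₂c)
            rintro x (rfl | rfl | rfl | rfl)
            · simp
            · right; left; exact hz₁i
            · right; right; left; exact h2
            · right; right; right; rw [mul_inv_rev, h2, hz₁i, hz₂c] }
      have hTm : ∀ t ∈ T, t ∈ L ∧ t * z₁ = z₁ * t := by
        rintro t (rfl | rfl | rfl | rfl)
        exacts [⟨one_mem _, by simp⟩, ⟨hz₁, rfl⟩, ⟨hz₂L, hz₂c⟩,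
          ⟨mul_mem hz₁ hz₂L, hmulc _ _ rfl hz₂c⟩]
      obtain ⟨q, hq, hqT, hqr, hqL, hqR⟩ := hsep T hTm (Or.inr (Or.inl rfl)) r hr hrz (by
        rintro (e | e | e | e)
        exacts [hr1 e, hr2 e, hr3 e, hr4 e])
      have hqz₁ := hC1 q hq hqL
      have hqz₂ := hqT z₂ (Or.inr (Or.inr (Or.inl rfl)))
      set m := n⁻¹ * (q * n * q⁻¹) with hm
      have hmL : m ∈ L := mul_mem (inv_mem hn) (hqL n hn)
      have hmz : m * z₁ = z₁ * m := by
        rw [← mul_inv_eq_iff_eq_mul]
        have h1 : q⁻¹ * z₁ * q = z₁ := by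
          calc q⁻¹ * z₁ * q = q⁻¹ * (q * z₁ * q⁻¹) * q := by rw [hqz₁]
            _ = z₁ := by group
        calc m * z₁ * m⁻¹ = n⁻¹ * (q * (n * (q⁻¹ * z₁ * q) * n⁻¹) * q⁻¹) * n := by rw [hm]; group
          _ = n⁻¹ * z₂ * n := by rw [h1, ← hz₂d, hqz₂]
          _ = z₁ := by rw [hz₂d]; group
      have h2 : q⁻¹ * r * q = r * z₁ := by
        have : q * (r * z₁) * q⁻¹ = r := by
          rw [← conj_mul, hqr, hqz₁, mul_assoc, hzsq, mul_one]
        calc q⁻¹ * r * q = q⁻¹ * (q * (r * z₁) * q⁻¹) * q := by rw [this]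
          _ = r * z₁ := by group
      have h3 := mul_inv_eq_iff_eq_mul.2 (habel m hmL r hr hmz hrz)
      rw [show m * r * m⁻¹ = n⁻¹ * (q * (n * (q⁻¹ * r * q) * n⁻¹) * q⁻¹) * n by rw [hm]; group,
        h2, show n * (r * z₁) * n⁻¹ = n * r * n⁻¹ * z₂ by rw [hz₂d, conj_mul],
        show q * (n * r * n⁻¹ * z₂) * q⁻¹ = q * (n * r * n⁻¹) * q⁻¹ * z₂ by
          rw [← conj_mul, hqz₂]] at h3
      have h4 : q * (n * r * n⁻¹) * q⁻¹ * z₂ = n * r * n⁻¹ := by
        conv_rhs => rw [← h3]
        group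
      have h2z : z₂⁻¹ = z₂ := inv_eq_of_mul_eq_one_right (hel z₂ hz₂L hz₂c)
      rcases hqR _ (mul_mem (mul_mem hn hr) (inv_mem hn)) (hnR r hr hrz) with e | e <;> rw [e] at h4
      · exact hz₂1 (mul_eq_left.1 h4)
      · rw [mul_assoc] at h4
        exact hz₂z (by rw [← h2z]; exact (eq_inv_of_mul_eq_one_left (mul_eq_left.1 h4)).symm)
    · push_neg at hbigR
      have hfour : ∀ r ∈ L, r * z₁ = z₁ * r → r = 1 ∨ r = z₁ ∨ r = z₂ ∨ r = z₁ * z₂ := by
        intro r hr h
        by_contra hne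
        push_neg at hne
        exact hne.2.2.2 (hbigR r hr h hne.1 hne.2.1 hne.2.2.1)
      obtain ⟨q, hq, -, hqz₂, hqL, -⟩ := hsep (Subgroup.zpowers z₁) (fun t ht => by
          rcases (mem_zpowers_involution hzsq).1 ht with rfl | rfl
          exacts [⟨one_mem _, by simp⟩, ⟨hz₁, rfl⟩]) (Subgroup.mem_zpowers _) z₂ hz₂L hz₂c (by
          rw [mem_zpowers_involution hzsq]; push_neg; exact ⟨hz₂1, hz₂z⟩)
      have hqz₁ := hC1 q hq hqL
      have hn2 : n * z₂ * n⁻¹ = z₁ := by
        rcases hfour _ (mul_mem (mul_mem hn hz₂L) (inv_mem hn)) (hnR z₂ hz₂L hz₂c) with e | e | e | e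
        · exact absurd (conj_eq_one_iff.1 e) hz₂1
        · exact e
        · exact absurd ((conj_inj' (e.trans hz₂d)).trans rfl) hz₂z
        · exfalso
          have h3 : n ^ 3 * z₁ * (n ^ 3)⁻¹ = z₁ := by
            calc n ^ 3 * z₁ * (n ^ 3)⁻¹ = n * (n * (n * z₁ * n⁻¹) * n⁻¹) * n⁻¹ := by
                  simp [pow_succ, mul_assoc]
              _ = n * (z₁ * z₂) * n⁻¹ := by rw [← hz₂d, e]
              _ = z₂ * (z₁ * z₂) := by rw [← conj_mul, ← hz₂d, e]
              _ = z₁ := by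
                  rw [← mul_assoc, hz₂c, mul_assoc, hel z₂ hz₂L hz₂c, mul_one]
          obtain ⟨k, hk⟩ := hnk
          have hcop : Nat.Coprime 3 (orderOf n) :=
            (Nat.Coprime.pow_right k (by norm_num)).coprime_dvd_right (orderOf_dvd_of_pow_eq_one hk)
          obtain ⟨m, hm⟩ := exists_pow_eq_self_of_coprime hcop
          apply hnz
          rw [← hm]
          exact (Commute.pow_left (show Commute (n ^ 3) z₁ from mul_inv_eq_iff_eq_mul.1 h3) m).eq
      have hqi : q⁻¹ * z₂ * q = z₂ * z₁ := by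
        have : q * (z₂ * z₁) * q⁻¹ = z₂ := by
          rw [← conj_mul, hqz₂, hqz₁, mul_assoc, hzsq, mul_one]
        calc q⁻¹ * z₂ * q = q⁻¹ * (q * (z₂ * z₁) * q⁻¹) * q := by rw [this]
          _ = z₂ * z₁ := by group
      have hqi1 : q⁻¹ * z₁ * q = z₁ := by
        calc q⁻¹ * z₁ * q = q⁻¹ * (q * z₁ * q⁻¹) * q := by rw [hqz₁]
          _ = z₁ := by group
      set m := n * (q * n * q⁻¹) * n with hm
      have hmL : m ∈ L := mul_mem (mul_mem hn (hqL n hn)) hn
      have e : ∀ x : G, m * x * m⁻¹ =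
          n * (q * (n * (q⁻¹ * (n * x * n⁻¹) * q) * n⁻¹) * q⁻¹) * n⁻¹ := fun x => by
        rw [hm]; group
      have hmz : m * z₁ = z₁ * m := by
        rw [← mul_inv_eq_iff_eq_mul, e, ← hz₂d, hqi,
          show n * (z₂ * z₁) * n⁻¹ = z₁ * z₂ by rw [← conj_mul, hn2, ← hz₂d],
          show q * (z₁ * z₂) * q⁻¹ = z₁ * (z₂ * z₁) by rw [← conj_mul, hqz₁, hqz₂],
          show z₁ * (z₂ * z₁) = z₂ by rw [hz₂c, ← mul_assoc, hzsq, one_mul], hn2]
      have h5 := mul_inv_eq_iff_eq_mul.2 (habel m hmL z₂ hz₂L hmz hz₂c)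
      rw [e, hn2, hqi1, ← hz₂d, hqz₂,
        show n * (z₂ * z₁) * n⁻¹ = z₁ * z₂ by rw [← conj_mul, hn2, ← hz₂d]] at h5
      exact hz₁ne (mul_eq_right.1 h5)
  let R : Sylow 2 ↥L :=
    { toSubgroup := Rs
      isPGroup' := hp
      is_maximal' := fun {P} hP hRP => by
        by_contra hne
        haveI := hP.isNilpotent
        have hlt : Rs.subgroupOf P < ⊤ := lt_top_iff_ne_top.2 fun e => hne
          (le_antisymm (Subgroup.subgroupOf_eq_top.1 e) hRP)
        obtain ⟨n, hn, hnR⟩ := SetLike.exists_of_lt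
          (Group.normalizerCondition_of_isNilpotent (G := ↥P) _ hlt)
        apply hnR
        rw [Subgroup.mem_subgroupOf, hmR]
        obtain ⟨k, hk⟩ := hP n
        refine hno ((n : ↥L) : G) (n : ↥L).2 ⟨k, ?_⟩ fun c hc h => ?_
        · exact congrArg (fun x : ↥P => ((x : ↥L) : G)) hk
        · have hcP : (⟨c, hc⟩ : ↥L) ∈ P := hRP ((hmR _).2 h)
          have h1 := (Subgroup.mem_normalizer_iff.1 hn ⟨⟨c, hc⟩, hcP⟩).1 ((hmR ⟨c, hc⟩).2 h)
          exact (hmR _).1 (show ((n : ↥L) * ⟨c, hc⟩ * (n : ↥L)⁻¹) ∈ Rs from h1) }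
  have hconjK : L ⊓ L' = ⊥ := by
    rw [Subgroup.eq_bot_iff_forall]
    rintro x ⟨hx, hx'⟩
    exact others_disjoint hfit hL x hx (le_others hL' hLu hx')
  refine ⟨hMF, L, u, hu, hLs, hLna, hconjK, fun x hx y hy => others_comm hL x hx y
    (le_others hL' hLu hy), ?_, z₁, hz₁, hzeq, ⟨R, rfl, ?_⟩, ?_⟩
  · rw [hML]
    refine le_antisymm (sup_le (CfsgLib.Components.IsComponent.le_layer hL)
      (CfsgLib.Components.IsComponent.le_layer hL'))
      (CfsgLib.Components.layer_le_iff.2 fun K hK => ?_)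
    rcases htwo K hK with rfl | rfl
    exacts [le_sup_left, le_sup_right]
  · have hz₁R : (⟨z₁, hz₁⟩ : ↥L) ∈ Rs := (hmR _).2 rfl
    set c₁ : ↥(R : Subgroup ↥L) := ⟨⟨z₁, hz₁⟩, hz₁R⟩ with hc₁
    have hc₁2 : c₁ * c₁ = 1 := Subtype.ext (Subtype.ext hzsq)
    have hle : frattini ↥(R : Subgroup ↥L) ≤ Subgroup.zpowers c₁ := by
      refine CfsgLib.LocalEven.Residual.frattini_le (p := 2) (fun x y => ?_) fun x => ?_
      · rw [mem_zpowers_involution hc₁2]
        rcases hcommR _ (x : ↥L).2 _ (y : ↥L).2 ((hmR _).1 x.2) ((hmR _).1 y.2) with r | r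
        · left; apply Subtype.ext; apply Subtype.ext
          show ((x : ↥L) : G) * (y : ↥L) * ((x : ↥L) : G)⁻¹ * ((y : ↥L) : G)⁻¹ = 1
          rw [r, mul_inv_cancel]
        · right; apply Subtype.ext; apply Subtype.ext
          show ((x : ↥L) : G) * (y : ↥L) * ((x : ↥L) : G)⁻¹ * ((y : ↥L) : G)⁻¹ = z₁
          rw [r, (hmR _).1 y.2, mul_inv_cancel_right]
      · rw [mem_zpowers_involution hc₁2, pow_two]
        exact (hsqR _ (x : ↥L).2 ((hmR _).1 x.2)).imp (fun r => Subtype.ext (Subtype.ext r))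
          (fun r => Subtype.ext (Subtype.ext r))
    rintro _ ⟨x, hx, rfl⟩
    rcases (mem_zpowers_involution hc₁2).1 (hle hx) with rfl | rfl
    · simp
    · exact Subgroup.mem_zpowers z₁
  · intro hQeq
    apply hbig
    intro c hc hc1
    set P₀ := (Rs.map L.subtype) ⊔ (Rs.map L.subtype).map (MulAut.conj u).toMonoidHom with hP₀
    -- a 2-subgroup normalised by `C(z)`
    have hP₀z : ∀ x : G, x ∈ P₀ ↔ x ∈ M ∧ x * z = z * x := by
      intro x
      constructor
      · intro hx
        have hle : P₀ ≤ M ⊓ Subgroup.centralizer ({z} : Set G) := by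
          refine sup_le ?_ ?_
          · rintro _ ⟨c, hc, rfl⟩
            exact ⟨hLM c.2, Subgroup.mem_centralizer_singleton_iff.2 ((hcz _ c.2).2 ((hmR _).1 hc))⟩
          · rintro _ ⟨_, ⟨c, hc, rfl⟩, rfl⟩
            refine ⟨hMn.conj_mem _ (hLM c.2) u, Subgroup.mem_centralizer_singleton_iff.2 ?_⟩
            show u * (c : G) * u⁻¹ * z = z * (u * (c : G) * u⁻¹)
            conv_lhs => rw [← hqz u hu, conj_mul, (hcz _ c.2).2 ((hmR _).1 hc), ← conj_mul,
              hqz u hu]
        exact ⟨(hle hx).1, Subgroup.mem_centralizer_singleton_iff.1 (hle hx).2⟩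
      · rintro ⟨hxM, hxz⟩
        obtain ⟨l, hl, k, hk, rfl⟩ := layer_decomp hL (hML ▸ hxM)
        have h1 : (l * z₁) * (k * k₀) = (z₁ * l) * (k₀ * k) := by
          rw [show (l * z₁) * (k * k₀) = l * (z₁ * k) * k₀ by group,
            others_comm hL z₁ hz₁ k hk,
            show l * (k * z₁) * k₀ = l * k * (z₁ * k₀) by group, ← hzdec, hxz, hzdec,
            show z₁ * k₀ * (l * k) = z₁ * (k₀ * l) * k by group,
            ← others_comm hL l hl k₀ hk₀]
          group
        obtain ⟨hl', hk'⟩ := decomp_unique hfit hL (mul_mem hl hz₁) (mul_mem hz₁ hl)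
          (mul_mem hk hk₀) (mul_mem hk₀ hk) h1
        refine Subgroup.mul_mem_sup ⟨⟨l, hl⟩, (hmR _).2 hl', rfl⟩ ?_
        obtain ⟨l₂, hl₂, rfl⟩ := (hK ▸ hk : k ∈ L')
        change u * l₂ * u⁻¹ * k₀ = k₀ * (u * l₂ * u⁻¹) at hk'
        rw [hz₁u, conj_mul, conj_mul] at hk'
        exact ⟨l₂, ⟨⟨l₂, hl₂⟩, (hmR _).2 (conj_inj' hk'), rfl⟩, rfl⟩
    have hP₀2 : IsPGroup 2 ↥P₀ := by
      refine IsPGroup.to_sup_of_normal_left' (hp.map _) ((hp.map _).map _) ?_
      refine le_trans ?_ (Subgroup.centralizer_le_normalizer _)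
      rintro _ ⟨_, ⟨d, hd, rfl⟩, rfl⟩
      rw [Subgroup.mem_centralizer_iff]
      rintro _ ⟨e, he, rfl⟩
      exact others_comm hL _ e.2 _ (huc _ d.2)
    have hP₀le : P₀ ≤ CfsgLib.ThreeTransp.ExtraspecialCore.core z := by
      refine le_coreOf hP₀2 (fun x hx => Subgroup.mem_centralizer_singleton_iff.2
        ((hP₀z x).1 hx).2) fun g hg => Subgroup.mem_normalizer_fintype fun x hx => ?_
      obtain ⟨hxM, hxz⟩ := (hP₀z x).1 hx
      refine (hP₀z _).2 ⟨hMn.conj_mem x hxM g, ?_⟩
      have hgz : g * z * g⁻¹ = z := by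
        rw [Subgroup.mem_centralizer_singleton_iff.1 hg, mul_inv_cancel_right]
      conv_lhs => rw [← hgz, conj_mul, hxz, ← conj_mul, hgz]
    have hcQ : c ∈ Q := by
      rw [hQeq]
      exact hP₀le (Subgroup.mem_sup_left ⟨⟨c, hc⟩, (hmR _).2 hc1, rfl⟩)
    rcases hX.conj_cases hcQ hu with r | r
    · left
      refine others_disjoint hfit hL c hc ?_
      rw [← r]; exact huc c hc
    · right
      have h1 : c * z₁ * k₀ = 1 * (u * c * u⁻¹) := by rw [r, hzdec, one_mul, mul_assoc]
      have := (decomp_unique hfit hL (mul_mem hc hz₁) (one_mem _) hk₀ (huc c hc) h1).1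
      rw [eq_inv_of_mul_eq_one_left this, hz₁i]

end Cfsg.Agent.S5426
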