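import Cfsg.Agent.Lib.ThreeTransp.Simplicity
import Cfsg.Agent.Lib.ThreeTransp.LargePair
import Cfsg.Statements.S5427
-- import your own Cfsg.Agent.* helpers here

set_option autoImplicit false
open Cfsg

namespace Cfsg.Agent.S5427
open CfsgLib.ThreeTransp.Extraspecial CfsgLib.ThreeTransp.Simplicity


/-- Let z be an involution of the finite group G whose centralizer C has generalized Fitting subgroup Q, an extraspecial 2-group of width at least 2 (order 2^(2w+1), w ≥ 2). Let K be a subgroup of G such that the subgroup U generated by the K-conjugates of z is abelian and C is generated by the C-conjugates of U. Suppose that either some K-conjugate of z other than z lies in Q, or some element u of U ∩ Q outside the subgroup generated by z has z in the largest normal 2-subgroup of its centralizer. Then G is simple and Q is a large extraspecial 2-subgroup of G. -/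
theorem result {G : Type*} [Group G] [Finite G] (z : G) (hz : orderOf z = 2) (Q : Subgroup G) (hQC : Q ≤ Subgroup.centralizer ({z} : Set G)) (hF : (Cfsg.generalizedFittingSubgroup ↥(Subgroup.centralizer ({z} : Set G))).map (Subgroup.centralizer ({z} : Set G)).subtype = Q) (hQ : Cfsg.IsExtraspecial 2 ↥Q) (w : ℕ) (hw : 2 ≤ w) (hcard : Nat.card ↥Q = 2 ^ (2 * w + 1)) (K U : Subgroup G) (hU : U = Subgroup.closure {x : G | ∃ k ∈ K, x = k * z * k⁻¹}) (hUab : IsMulCommutative ↥U) (hgen : Subgroup.closure {x : G | ∃ c ∈ Subgroup.centralizer ({z} : Set G), ∃ u ∈ U, x = c * u * c⁻¹} = Subgroup.centralizer ({z} : Set G)) (h3 : (∃ k ∈ K, k * z * k⁻¹ ∈ Q ∧ k * z * k⁻¹ ≠ z) ∨ ∃ u ∈ U ⊓ Q, u ∉ Subgroup.zpowers z ∧ (∃ hz' : z ∈ Subgroup.centralizer ({u} : Set G), (⟨z, hz'⟩ : ↥(Subgroup.centralizer ({u} : Set G))) ∈ Cfsg.pCore 2 ↥(Subgroup.centralizer ({u} : Set G)))) : IsSimpleGroup G ∧ Cfsg.IsLargeExtraspecial Q := by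
  obtain ⟨hX, hC, hN⟩ := of_genFitting hz hF hQ
  have hUsq : ∀ u ∈ U, u * u = 1 := by
    intro u hu
    rw [hU] at hu
    induction hu using Subgroup.closure_induction with
    | mem x hx =>
      obtain ⟨k, _, rfl⟩ := hx
      rw [conj_mul, hX.z_sq]; group
    | one => simp
    | inv x _ hx => rw [← mul_inv_rev, hx, inv_one]
    | mul a b ha hb iha ihb =>
      have hc : b * a = a * b := congrArg Subtype.val
        (hUab.is_comm.comm (⟨b, hU ▸ hb⟩ : ↥U) ⟨a, hU ▸ ha⟩)
      rw [show a * b * (a * b) = a * (b * a) * b by group, hc,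
        show a * (a * b) * b = (a * a) * (b * b) by group, iha, ihb, one_mul]
  have hlarge : ∀ K : Subgroup G, Odd (Nat.card K) → Q ≤ Subgroup.normalizer (K : Set G) →
      K = ⊥ := by
    intro K' hK' hQK
    rcases h3 with ⟨g, -, huQ, hgz⟩ | ⟨u, ⟨huU, huQ⟩, huz, hz', hz''⟩
    · have hX' := hX.map_conj g
      have hzQ' : g⁻¹ * z * g ∈ Q := mem_conj_of_nonabelian hX hC hN huQ hgz
        (CfsgLib.ThreeTransp.LargePair.nonabelian_centralizer hX hw hcard huQ hX'.z_ne hX'.z_sq hgz)
      refine eq_bot_of_odd_normalized hX hC hN huQ hX'.z_sq hX'.z_ne hgz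
        (le_coreOf (hX.isPGroup.map _) hX'.le_centralizer ?_ (mem_map_conj.2 hzQ')) hK' hQK
      intro c hc
      exact Subgroup.mem_normalizer_fintype fun x hx => mem_map_conj.2
        (centralizer_conj_le hN g (Subgroup.mem_centralizer_singleton_iff.1 hc) (mem_map_conj.1 hx))
    · exact eq_bot_of_odd_normalized hX hC hN huQ (hUsq u huU) (fun e => huz (e ▸ one_mem _))
        (fun e => huz (e ▸ Subgroup.mem_zpowers z)) ⟨_, hz'', rfl⟩ hK' hQK
  refine ⟨?_, hQ, ?_, ?_, hlarge⟩
  · haveI : Nontrivial G := ⟨⟨z, 1, fun e => by simp [e] at hz⟩⟩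
    refine { eq_bot_or_eq_top_of_normal := fun M hM => ?_ }
    by_cases hzM : z ∈ M
    swap
    · exact Or.inl (eq_bot_of_not_mem hX hC hN hlarge hzM)
    right
    refine eq_top_of_centralizer_le hX hC ?_
    rw [← hgen, Subgroup.closure_le]
    rintro _ ⟨c, -, u, hu, rfl⟩
    refine hM.conj_mem u ?_ c
    rw [hU] at hu
    refine (Subgroup.closure_le M).2 ?_ hu
    rintro _ ⟨k, -, rfl⟩
    exact hM.conj_mem z hzM k
  · rw [hX.center_eq]
    refine le_antisymm (fun x hx => ?_) ?_
    · have hx' := fun q hq => (Subgroup.mem_centralizer_iff.1 hx q hq).symm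
      exact (mem_zpowers_involution hX.z_sq).2 (hX.mem_center_cases (hC x hx') hx')
    · rw [Subgroup.zpowers_le, Subgroup.mem_centralizer_iff]
      exact fun q hq => (hX.z_comm hq).symm
  · rwa [hX.center_eq, Subgroup.zpowers_eq_closure, Subgroup.centralizer_closure]

end Cfsg.Agent.S5427
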