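import Cfsg.Agent.Lib.ThreeTransp.ExtraspecialFixed
import Cfsg.Agent.Lib.ThreeTransp.Simplicity
import Cfsg.Agent.Lib.Involution.ZStar.Basic
import Cfsg.Statements.S5428
-- import your own Cfsg.Agent.* helpers here

set_option autoImplicit false
open Cfsg

namespace Cfsg.Agent.S5428

open CfsgLib.ThreeTransp.Extraspecial CfsgLib.ThreeTransp.Simplicity CfsgLib.ThreeTransp.ExtraspecialFixed
open scoped Pointwise

theorem pow_four {G : Type*} [Group G] [Finite G] {Q : Subgroup G} {z : G} (h : Extra Q z) {r : G} (hr : r ∈ Q) :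
    r ^ 4 = 1 := by
  rw [show r ^ 4 = (r * r) * (r * r) by simp [pow_succ, mul_assoc]]
  rcases h.sq_cases hr with e | e <;> rw [e]
  · simp
  · exact h.z_sq

theorem core {G : Type*} [Group G] [Finite G] (z : G) (hz : orderOf z = 2) (Q : Subgroup G)
    (hF : (Cfsg.generalizedFittingSubgroup ↥(Subgroup.centralizer ({z} : Set G))).map (Subgroup.centralizer ({z} : Set G)).subtype = Q)
    (hQ : Cfsg.IsExtraspecial 2 ↥Q) (A : Subgroup G) (hA : A ≤ Subgroup.centralizer ({z} : Set G))
    (hAodd : Odd (Nat.card ↥A)) (R : Subgroup G) (hR : R = Q ⊓ Subgroup.centralizer (A : Set G))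
    (hR32 : 32 ≤ Nat.card ↥R)
    (hO : (Cfsg.oddCore ↥(Subgroup.centralizer ((A ⊔ R : Subgroup G) : Set G))).map (Subgroup.centralizer ((A ⊔ R : Subgroup G) : Set G)).subtype ≤ A)
    (h4 : ¬ 4 ∣ Nat.card ↥(Subgroup.centralizer ((A ⊔ R : Subgroup G) : Set G))) (g : G)
    (hgR : g * z * g⁻¹ ∈ R) (hgZ : g * z * g⁻¹ ∉ ((Subgroup.center ↥Q).map Q.subtype))
    (M : Subgroup G) (hM : M = Subgroup.centralizer (A : Set G) ⊔ A) [hn : (A.subgroupOf M).Normal] :
    (M ⊓ Subgroup.centralizer ((R ⊔ A : Subgroup G) : Set G)) ⊔ A = A ⊔ ((Subgroup.center ↥Q).map Q.subtype) ∧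
    Cfsg.IsLargeExtraspecial ((R.subgroupOf M).map (QuotientGroup.mk' (A.subgroupOf M))) ∧
    ∃ x ∈ R ⊔ ((Q).map (MulAut.conj g).toMonoidHom ⊓ Subgroup.centralizer (A : Set G)),
      x * (g * z * g⁻¹) * x⁻¹ = z := by
  classical
  haveI : Fact (Nat.Prime 2) := ⟨Nat.prime_two⟩
  obtain ⟨hX, hC, hN⟩ := of_genFitting hz hF hQ
  set u := g * z * g⁻¹ with hu
  have hRQ : R ≤ Q := hR ▸ inf_le_left
  have hRA : R ≤ Subgroup.centralizer (A : Set G) := hR ▸ inf_le_right
  have hX' := hX.map_conj g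
  rw [← hu] at hX'
  have huu : u * u = 1 := hX'.z_sq
  have hu1 : u ≠ 1 := hX'.z_ne
  have huz : u ≠ z := fun e => hgZ (by rw [hX.center_eq, e]; exact Subgroup.mem_zpowers z)
  have huQ : u ∈ Q := hRQ hgR
  have hAz : ∀ a ∈ A, a * z = z * a := fun a ha => Subgroup.mem_centralizer_singleton_iff.1 (hA ha)
  have hAQ : A ≤ Subgroup.normalizer (Q : Set G) := hA.trans hN
  have hXR : Extra R z := hR ▸ extra_fixed hX hAQ hAodd hAz (hR ▸ hgR) hu1 huz
  have hzR : z ∈ R := hXR.z_mem
  set Q' := Q.map (MulAut.conj g).toMonoidHom with hQ'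
  have hN' : Subgroup.centralizer ({u} : Set G) ≤ Subgroup.normalizer (Q' : Set G) := fun c hc =>
    Subgroup.mem_normalizer_fintype fun x hx => mem_map_conj.2
      (centralizer_conj_le hN g (Subgroup.mem_centralizer_singleton_iff.1 hc) (mem_map_conj.1 hx))
  have hzQ' : z ∈ Q' := mem_map_conj.2 (mem_conj_of_nonabelian hX hC hN huQ huz
    (nonabelian_centralizer hX (hR32.trans (Subgroup.card_le_of_le hRQ)) huQ hu1 huu huz))
  have hAu : ∀ a ∈ A, a * u = u * a := fun a ha => Subgroup.mem_centralizer_iff.1 (hRA hgR) a ha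
  set R' := Q' ⊓ Subgroup.centralizer (A : Set G) with hR'
  have hzR' : z ∈ R' := ⟨hzQ', hRA hzR⟩
  have hXR' : Extra R' u := extra_fixed hX'
    (fun a ha => hN' (Subgroup.mem_centralizer_singleton_iff.2 (hAu a ha))) hAodd hAu hzR' hX.z_ne (Ne.symm huz)
  have hC4 : ∀ c ∈ Subgroup.centralizer (A : Set G), (∀ r ∈ R, c * r = r * c) →
      c ∈ A ⊔ Subgroup.zpowers z := fun c hc hcr => by
    have h1 : c ∈ Subgroup.centralizer ((R ⊔ A : Subgroup G) : Set G) := by
      rw [Subgroup.mem_centralizer_iff]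
      intro y hy
      have hle : R ⊔ A ≤ Subgroup.centralizer ({c} : Set G) := sup_le
        (fun r hr => Subgroup.mem_centralizer_singleton_iff.2 (hcr r hr).symm)
        (fun a ha => Subgroup.mem_centralizer_singleton_iff.2 (Subgroup.mem_centralizer_iff.1 hc a ha))
      exact Subgroup.mem_centralizer_singleton_iff.1 (hle hy)
    -- inside the centralizer of `R A`
    set X := Subgroup.centralizer ((A ⊔ R : Subgroup G) : Set G) with hXdef
    have hcX : c ∈ X := by rw [hXdef, sup_comm]; exact h1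
    have hcN : c ∈ Subgroup.normalizer (Q : Set G) := hN (Subgroup.mem_centralizer_singleton_iff.2 (hcr z hzR))
    have hzX : z ∈ X := by
      rw [hXdef, Subgroup.mem_centralizer_iff]
      intro y hy
      exact Subgroup.mem_centralizer_singleton_iff.1 ((sup_le hA (hRQ.trans hX.le_centralizer) :
        A ⊔ R ≤ Subgroup.centralizer ({z} : Set G)) hy)
    set z₀ : ↥X := ⟨z, hzX⟩ with hz₀
    have hcentral : ∀ x : ↥X, Commute x z₀ := fun x => Subtype.ext
      (Subgroup.mem_centralizer_iff.1 x.2 z (Subgroup.mem_sup_right hzR)).symm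
    have hcard : Nat.card ↥(Subgroup.zpowers z₀) = 2 := by
      rw [Nat.card_zpowers, ← Subgroup.orderOf_coe]; exact hz
    have hexp : (Nat.card ↥X).factorization 2 = 1 := by
      have hpos : Nat.card ↥X ≠ 0 := Nat.card_pos.ne'
      refine le_antisymm ?_ ((Nat.prime_two.dvd_iff_one_le_factorization hpos).1
        (hcard ▸ Subgroup.card_subgroup_dvd_card _))
      by_contra hlt
      exact h4 (dvd_trans (pow_dvd_pow 2 (show 2 ≤ (Nat.card ↥X).factorization 2 by omega)) (Nat.ordProj_dvd _ 2))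
    let T : Sylow 2 ↥X := Sylow.ofCard (Subgroup.zpowers z₀) (by rw [hexp, hcard, pow_one])
    have hT : (T : Subgroup ↥X) = Subgroup.zpowers z₀ := Sylow.coe_ofCard _ _
    have hle : Subgroup.normalizer ((T : Subgroup ↥X) : Set ↥X) ≤
        Subgroup.centralizer ((T : Subgroup ↥X) : Set ↥X) := by
      intro x _
      rw [Subgroup.mem_centralizer_iff]
      intro s hs
      rw [SetLike.mem_coe, hT] at hs
      obtain ⟨i, rfl⟩ := Subgroup.mem_zpowers_iff.1 hs
      exact ((hcentral x).zpow_right i).eq.symm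
    have hcomp := MonoidHom.ker_transferSylow_isComplement' T hle
    have hNodd : Odd (Nat.card ↥(MonoidHom.transferSylow T hle).ker) := by
      have h := hcomp.card_mul
      have hTc : Nat.card ↥(T : Subgroup ↥X) = 2 := by rw [hT]; exact hcard
      rw [hTc] at h
      by_contra ho
      rw [Nat.not_odd_iff_even, even_iff_two_dvd] at ho
      obtain ⟨j, hj⟩ := ho
      exact h4 ⟨j, by rw [← h, hj]; ring⟩
    have hNA := (Subgroup.map_mono (CfsgLib.Involution.ZStar.le_oddCore inferInstance hNodd)).trans hO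
    obtain ⟨⟨⟨n, hnN⟩, ⟨s, hs⟩⟩, e⟩ := hcomp.2 ⟨c, hcX⟩
    rw [SetLike.mem_coe, hT] at hs
    have hsz : (s : G) ∈ Subgroup.zpowers z := by
      obtain ⟨i, rfl⟩ := Subgroup.mem_zpowers_iff.1 hs
      exact Subgroup.mem_zpowers_iff.2 ⟨i, by simp [hz₀]⟩
    rw [show c = (n : G) * (s : G) from (congrArg Subtype.val e).symm]
    exact mul_mem (Subgroup.mem_sup_left (hNA ⟨n, hnN, rfl⟩)) (Subgroup.mem_sup_right hsz)
  refine ⟨?_, ?_, ?_⟩
  · refine le_antisymm (sup_le ?_ le_sup_left) (sup_le le_sup_right ?_)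
    · rintro x ⟨-, hx⟩
      rw [hX.center_eq]
      have hx1 : ∀ y ∈ R ⊔ A, y * x = x * y := fun y hy => Subgroup.mem_centralizer_iff.1 hx y hy
      exact hC4 x (Subgroup.mem_centralizer_iff.2 fun a ha => hx1 a (Subgroup.mem_sup_right ha))
        fun r hr => (hx1 r (Subgroup.mem_sup_left hr)).symm
    · rw [hX.center_eq, Subgroup.zpowers_le]
      refine Subgroup.mem_sup_left ⟨hM ▸ Subgroup.mem_sup_left (hRA hzR), ?_⟩
      refine Subgroup.mem_centralizer_iff.2 ?_
      intro y hy
      exact Subgroup.mem_centralizer_singleton_iff.1 ((sup_le (hRQ.trans hX.le_centralizer) hA :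
        R ⊔ A ≤ Subgroup.centralizer ({z} : Set G)) hy)
  · -- largeness in the section
    have hCM : Subgroup.centralizer (A : Set G) ≤ M := hM ▸ le_sup_left
    have hdec : ∀ x ∈ M, ∃ c ∈ Subgroup.centralizer (A : Set G), ∃ a ∈ A, x = c * a := by
      have hAn : A ≤ Subgroup.normalizer (Subgroup.centralizer (A : Set G) : Set G) := fun a ha =>
        Subgroup.mem_normalizer_fintype fun x hx => by
          rw [SetLike.mem_coe, Subgroup.mem_centralizer_iff] at hx ⊢
          intro b hb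
          have hb' : a⁻¹ * b * a ∈ A := A.mul_mem (A.mul_mem (A.inv_mem ha) hb) ha
          calc b * (a * x * a⁻¹) = a * ((a⁻¹ * b * a) * x) * a⁻¹ := by group
            _ = a * x * a⁻¹ * b := by rw [hx _ hb']; group
      intro x hx
      rw [hM] at hx
      have : x ∈ (Subgroup.centralizer (A : Set G) : Set G) * (A : Set G) := by
        rw [← Subgroup.coe_mul_of_right_le_normalizer_left _ _ hAn]; exact hx
      obtain ⟨c, hc, a, ha, e⟩ := this
      exact ⟨c, hc, a, ha, e.symm⟩
    set π := QuotientGroup.mk' (A.subgroupOf M) with hπ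
    have πone : ∀ m : ↥M, π m = 1 ↔ (m : G) ∈ A := fun m => by
      rw [hπ, QuotientGroup.mk'_apply, QuotientGroup.eq_one_iff]; rfl
    have hlift : ∀ (x r : ↥M) (c a : G), c ∈ Subgroup.centralizer (A : Set G) → a ∈ A → (x : G) = c * a →
        (r : G) ∈ Subgroup.centralizer (A : Set G) → (r : G) ^ 4 = 1 → π x * π r = π r * π x →
        c * r = r * c := by
      intro x r c a hc ha hx hrA hr4 hcomm
      have h1 : π (x * r * x⁻¹ * r⁻¹) = 1 := by
        rw [map_mul, map_mul, map_mul, map_inv, map_inv, hcomm]; group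
      rw [πone] at h1
      simp only [Subgroup.coe_mul, Subgroup.coe_inv, hx] at h1
      set a' := c * a * r * (c * a)⁻¹ * (r : G)⁻¹ with ha'
      have har : Commute a' (r : G) := Subgroup.mem_centralizer_iff.1 hrA a' h1
      have e : c * r * c⁻¹ = a' * r := by
        rw [ha', show c * a * r * (c * a)⁻¹ = c * (a * r) * a⁻¹ * c⁻¹ by group,
          Subgroup.mem_centralizer_iff.1 hrA a ha]
        group
      have h2 : a' ^ 4 = 1 := by
        have := congrArg (fun w => w ^ 4) e
        rw [conj_pow, har.mul_pow, hr4, mul_one, mul_inv_cancel, mul_one] at this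
        exact this.symm
      have hcop : Nat.Coprime 4 (Nat.card ↥A) := by
        rw [show (4 : ℕ) = 2 ^ 2 by norm_num]
        exact (Nat.coprime_two_left.2 hAodd).pow_left 2
      have h3 : a' = 1 := orderOf_eq_one_iff.1 (Nat.eq_one_of_dvd_coprimes hcop
        (orderOf_dvd_of_pow_eq_one h2) (Subgroup.orderOf_dvd_natCard A h1))
      rw [h3, one_mul] at e
      exact mul_inv_eq_iff_eq_mul.1 e
    have hRM : R ≤ M := hRA.trans hCM
    have hR'M : R' ≤ M := inf_le_right.trans hCM
    set S := R.subgroupOf M with hS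
    let e := Subgroup.subgroupOfEquivOfLe hRM
    have hinj : Function.Injective (π.comp S.subtype) := (injective_iff_map_eq_one _).2 fun s hs => by
      have hsA : ((s : ↥M) : G) ∈ A := (πone _).1 hs
      have h4' := pow_four hXR s.2
      have hcop : Nat.Coprime 4 (Nat.card ↥A) := by
        rw [show (4 : ℕ) = 2 ^ 2 by norm_num]
        exact (Nat.coprime_two_left.2 hAodd).pow_left 2
      exact Subtype.ext (Subtype.ext (orderOf_eq_one_iff.1 (Nat.eq_one_of_dvd_coprimes hcop
        (orderOf_dvd_of_pow_eq_one h4') (Subgroup.orderOf_dvd_natCard A hsA))))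
    set Rb := S.map π with hRb
    have hRbeq : (π.comp S.subtype).range = Rb := by rw [MonoidHom.range_comp, Subgroup.range_subtype]
    have hext : Cfsg.IsExtraspecial 2 ↥Rb :=
      isExtraspecial_of_equiv (e.symm.trans ((MonoidHom.ofInjective hinj).trans (MulEquiv.subgroupCongr hRbeq))) hXR.ext
    have hzM : z ∈ M := hRM hzR
    set zb := π ⟨z, hzM⟩ with hzb
    have hzbR : zb ∈ Rb := ⟨⟨z, hzM⟩, hzR, rfl⟩
    have hzb1 : zb ≠ 1 := fun h => by
      have := hinj (a₁ := ⟨⟨z, hzM⟩, hzR⟩) (a₂ := 1) (by rw [map_one]; exact h)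
      exact hX.z_ne (congrArg Subtype.val (congrArg Subtype.val this))
    have hzbc : zb ∈ Subgroup.centralizer (Rb : Set (↥M ⧸ A.subgroupOf M)) := by
      rw [Subgroup.mem_centralizer_iff]
      rintro _ ⟨r, hr, rfl⟩
      rw [hzb, ← map_mul, ← map_mul]
      exact congrArg π (Subtype.ext (hXR.z_comm hr).symm)
    obtain ⟨w, hw⟩ := exists_extra hext
    have hwz : w = zb := ((hw.mem_center_cases hzbR fun q hq =>
      (Subgroup.mem_centralizer_iff.1 hzbc q hq).symm).resolve_left hzb1).symm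
    rw [hwz] at hw
    have hCb : ∀ x, (∀ q ∈ Rb, x * q = q * x) → x ∈ Rb := by
      intro x hx
      obtain ⟨x, rfl⟩ := QuotientGroup.mk'_surjective _ x
      obtain ⟨c, hc, a, ha, hxe⟩ := hdec x x.2
      have hcr : ∀ r ∈ R, c * r = r * c := fun r hr =>
        hlift x ⟨r, hRM hr⟩ c a hc ha hxe (hRA hr) (pow_four hXR hr) (hx _ ⟨⟨r, hRM hr⟩, hr, rfl⟩)
      have hmem := hC4 c hc hcr
      have hle : A ⊔ Subgroup.zpowers z ≤ (Rb.comap π).map M.subtype := by
        refine sup_le (fun a ha => ⟨⟨a, hM ▸ Subgroup.mem_sup_right ha⟩, ?_, rfl⟩) (Subgroup.zpowers_le.2 ⟨⟨z, hzM⟩, hzbR, rfl⟩)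
        rw [SetLike.mem_coe, Subgroup.mem_comap, (πone _).2 ha]; exact one_mem _
      obtain ⟨y, hy, hyc⟩ := hle hmem
      have hx' : π x = π y := by
        have e : y⁻¹ * x = ⟨a, hM ▸ Subgroup.mem_sup_right ha⟩ := Subtype.ext (by
          show (y : G)⁻¹ * x = a
          rw [show (y : G) = c from hyc, hxe, inv_mul_cancel_left])
        have : π (y⁻¹ * x) = 1 := (πone _).2 (by rw [e]; exact ha)
        rw [map_mul, map_inv, inv_mul_eq_one] at this
        exact this.symm
      rw [hx']; exact hy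
    have hNb : ∀ (u : G) (R : Subgroup G) (huM : u ∈ M) (hRM : R ≤ M), u ∈ Subgroup.centralizer (A : Set G) →
        u ^ 4 = 1 → (∀ c ∈ Subgroup.centralizer (A : Set G), c * u = u * c → ∀ r ∈ R, c * r * c⁻¹ ∈ R) →
        R ≤ Subgroup.centralizer (A : Set G) →
        Subgroup.centralizer ({π ⟨u, huM⟩} : Set (↥M ⧸ A.subgroupOf M)) ≤
          Subgroup.normalizer ((R.subgroupOf M).map π : Set (↥M ⧸ A.subgroupOf M)) := by
      intro u R huM hRM huA hu4 hnorm hRA x hx
      obtain ⟨x, rfl⟩ := QuotientGroup.mk'_surjective _ x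
      obtain ⟨c, hc, a, ha, hxe⟩ := hdec x x.2
      have hcu := hlift x ⟨u, huM⟩ c a hc ha hxe huA hu4 (Subgroup.mem_centralizer_singleton_iff.1 hx)
      refine Subgroup.mem_normalizer_fintype ?_
      rintro _ ⟨r, hr, rfl⟩
      refine ⟨x * r * x⁻¹, ?_, by rw [map_mul, map_mul, map_inv]⟩
      show (x : G) * r * (x : G)⁻¹ ∈ R
      have hra : a * (r : G) = r * a := Subgroup.mem_centralizer_iff.1 (hRA hr) a ha
      rw [hxe, show c * a * r * (c * a)⁻¹ = c * ((a * r) * a⁻¹) * c⁻¹ by group,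
        hra, mul_inv_cancel_right]
      exact hnorm c hc hcu r hr
    have conjA : ∀ {c r : G}, c ∈ Subgroup.centralizer (A : Set G) → r ∈ Subgroup.centralizer (A : Set G) →
        c * r * c⁻¹ ∈ Subgroup.centralizer (A : Set G) := fun hc hr => mul_mem (mul_mem hc hr) (inv_mem hc)
    have hNz : Subgroup.centralizer ({zb} : Set (↥M ⧸ A.subgroupOf M)) ≤ Subgroup.normalizer (Rb : Set (↥M ⧸ A.subgroupOf M)) := by
      refine hNb z R hzM hRM (hRA hzR) (pow_four hXR hzR) (fun c hc hcz r hr => ?_) hRA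
      rw [hR] at hr ⊢
      exact ⟨(Subgroup.mem_normalizer_iff.1 (hN (Subgroup.mem_centralizer_singleton_iff.2 hcz)) r).1 hr.1, conjA hc hr.2⟩
    refine ⟨hext, ?_, ?_, fun K hK hRK => ?_⟩
    · rw [hw.center_eq]
      refine le_antisymm (fun x hx => ?_) (Subgroup.zpowers_le.2 hzbc)
      have hx' := fun q hq => (Subgroup.mem_centralizer_iff.1 hx q hq).symm
      exact (mem_zpowers_involution hw.z_sq).2 (hw.mem_center_cases (hCb x hx') hx')
    · rwa [hw.center_eq, Subgroup.zpowers_eq_closure, Subgroup.centralizer_closure]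
    · have huM : u ∈ M := hRM hgR
      set ub := π ⟨u, huM⟩ with hub
      have hubR : ub ∈ Rb := ⟨⟨u, huM⟩, hgR, rfl⟩
      have hub1 : ub ≠ 1 := fun h => hu1 (congrArg Subtype.val (congrArg Subtype.val
        (hinj (a₁ := ⟨⟨u, huM⟩, hgR⟩) (a₂ := 1) (by rw [map_one]; exact h))))
      have hubz : ub ≠ zb := fun h => huz (congrArg Subtype.val (congrArg Subtype.val
        (hinj (a₁ := ⟨⟨u, huM⟩, hgR⟩) (a₂ := ⟨⟨z, hzM⟩, hzR⟩) h)))
      refine eq_bot_of_odd_normalized hw hCb hNz hubR (by rw [hub, ← map_mul]; exact (congrArg π (Subtype.ext huu)).trans (map_one π)) hub1 hubz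
        (le_coreOf (Q := (R'.subgroupOf M).map π) ?_ ?_ ?_ ⟨⟨z, hzM⟩, hzR', rfl⟩) hK hRK
      · exact (hXR'.isPGroup.of_equiv (Subgroup.subgroupOfEquivOfLe hR'M).symm).map π
      · rintro _ ⟨r, hr, rfl⟩
        rw [Subgroup.mem_centralizer_singleton_iff, hub, ← map_mul, ← map_mul]
        exact congrArg π (Subtype.ext (hXR'.z_comm hr).symm)
      · exact hNb u R' huM hR'M (hRA hgR) (pow_four hXR hgR) (fun c hc hcu r hr =>
          ⟨(Subgroup.mem_normalizer_iff.1 (hN' (Subgroup.mem_centralizer_singleton_iff.2 hcu)) r).1 hr.1,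
            conjA hc hr.2⟩) inf_le_right
  · obtain ⟨a, ha, hau⟩ := hXR.exists_conj_eq hgR hu1 huz
    obtain ⟨b, hb, hbz⟩ := hXR'.exists_conj_eq hzR' hX.z_ne (Ne.symm huz)
    refine ⟨(a * b)⁻¹, inv_mem (mul_mem (Subgroup.mem_sup_left ha) (Subgroup.mem_sup_right hb)), ?_⟩
    have haz : a * z * a⁻¹ = z := by rw [← hXR.z_comm ha, mul_inv_cancel_right]
    have e : a * b * z * (a * b)⁻¹ = u := by
      rw [show a * b * z * (a * b)⁻¹ = a * (b * z * b⁻¹) * a⁻¹ by group, hbz, ← conj_mul, haz, hau,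
        ← hX.z_comm huQ, ← mul_assoc, hX.z_sq, one_mul]
    rw [← e]; group

/-- Let z be an involution of the finite group G whose centralizer C has generalized Fitting subgroup Q extraspecial (as a 2-group), let A be a subgroup of C of odd order, and let R be the centralizer of A in Q; suppose R has order at least 32, the largest normal subgroup of odd order of the centralizer of the subgroup generated by A and R lies in A, the order of that centralizer is not divisible by 4, and g is an element of G with g z g⁻¹ in R but outside the centre Z of Q. Let M be the subgroup generated by A and the centralizer of A (A is normal in it). Then: the centralizer in M of the subgroup generated by R and A, joined with A, equals the subgroup generated by A and Z; the image of R in M/A is a large extraspecial 2-subgroup of M/A; and g z g⁻¹ is conjugate to z inside the subgroup generated by R and the centralizer of A in g Q g⁻¹. -/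
theorem result {G : Type*} [Group G] [Finite G] (z : G) (hz : orderOf z = 2) (Q : Subgroup G) (hQC : Q ≤ Subgroup.centralizer ({z} : Set G)) (hF : (Cfsg.generalizedFittingSubgroup ↥(Subgroup.centralizer ({z} : Set G))).map (Subgroup.centralizer ({z} : Set G)).subtype = Q) (hQ : Cfsg.IsExtraspecial 2 ↥Q) (A : Subgroup G) (hA : A ≤ Subgroup.centralizer ({z} : Set G)) (hAodd : Odd (Nat.card ↥A)) (R : Subgroup G) (hR : R = Q ⊓ Subgroup.centralizer (A : Set G)) (hR32 : 32 ≤ Nat.card ↥R) (hO : (Cfsg.oddCore ↥(Subgroup.centralizer ((A ⊔ R : Subgroup G) : Set G))).map (Subgroup.centralizer ((A ⊔ R : Subgroup G) : Set G)).subtype ≤ A) (h4 : ¬ 4 ∣ Nat.card ↥(Subgroup.centralizer ((A ⊔ R : Subgroup G) : Set G))) (g : G) (hgR : g * z * g⁻¹ ∈ R) (hgZ : g * z * g⁻¹ ∉ ((Subgroup.center ↥Q).map Q.subtype)) (M : Subgroup G) (hM : M = Subgroup.centralizer (A : Set G) ⊔ A) [hn : (A.subgroupOf M).Normal] : (M ⊓ Subgroup.centralizer ((R ⊔ A : Subgroup G) : Set G)) ⊔ A = A ⊔ ((Subgroup.center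 ↥Q).map Q.subtype) ∧ Cfsg.IsLargeExtraspecial ((R.subgroupOf M).map (QuotientGroup.mk' (A.subgroupOf M))) ∧ ∃ x ∈ R ⊔ ((Q).map (MulAut.conj g).toMonoidHom ⊓ Subgroup.centralizer (A : Set G)), x * (g * z * g⁻¹) * x⁻¹ = z := by
  exact core z hz Q hF hQ A hA hAodd R hR hR32 hO h4 g hgR hgZ M hM

end Cfsg.Agent.S5428
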