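import Cfsg.Agent.Lib.ThreeTransp.ExtraspecialFixed
import Cfsg.Agent.Lib.ThreeTransp.Simplicity
import Cfsg.Statements.S5429
-- import your own Cfsg.Agent.* helpers here

set_option autoImplicit false
open Cfsg

namespace Cfsg.Agent.S5429

open CfsgLib.ThreeTransp.Extraspecial CfsgLib.ThreeTransp.Simplicity CfsgLib.ThreeTransp.ExtraspecialFixed
open scoped commutatorElement

theorem center_fixed {G : Type*} [Group G] [Finite G] {Q : Subgroup G} {z t : G} (h : Extra Q z) (ht : t ∈ Q) (htt : t * t = 1)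
    (ht1 : t ≠ 1) (htz : t ≠ z) {x : G} (hx : x ∈ Q)
    (hall : ∀ p ∈ Q, p * t = t * p → x * p = p * x) : x = 1 ∨ x = z ∨ x = t ∨ x = z * t := by
  obtain ⟨q, hq, hqt⟩ := h.exists_conj_eq ht ht1 htz
  have key : ∀ y ∈ Q, (∀ p ∈ Q, p * t = t * p → y * p = p * y) → y * q = q * y → y = 1 ∨ y = z := by
    intro y hy hyall hyq
    refine h.mem_center_cases hy fun p hp => ?_
    rcases h.conj_cases ht hp with e | e
    · exact hyall p hp (mul_inv_eq_iff_eq_mul.1 e)
    · have h1 : q⁻¹ * p * t = t * (q⁻¹ * p) := by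
        calc q⁻¹ * p * t = q⁻¹ * (p * t * p⁻¹) * p := by group
          _ = q⁻¹ * (q * t * q⁻¹) * p := by rw [e, hqt]
          _ = t * (q⁻¹ * p) := by group
      have h2 := hyall _ (mul_mem (inv_mem hq) hp) h1
      calc y * p = (y * q) * (q⁻¹ * p) := by group
        _ = q * (y * (q⁻¹ * p)) := by rw [hyq, mul_assoc]
        _ = p * y := by rw [h2]; group
  by_cases hxq : x * q = q * x
  · rcases key x hx hall hxq with e | e
    · exact Or.inl e
    · exact Or.inr (Or.inl e)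
  · have hqx := h.conj_eq_of_not_comm hx hq (Ne.symm hxq)
    have h2 : (x * t) * q = q * (x * t) := by
      symm
      rw [← mul_inv_eq_iff_eq_mul, ← conj_mul, hqx, hqt, mul_assoc x z, ← mul_assoc z t z, h.z_comm ht,
        mul_assoc t z z, h.z_sq, mul_one]
    have ti : t⁻¹ = t := inv_eq_of_mul_eq_one_right htt
    have xti : x = (x * t) * t := by rw [mul_assoc, htt, mul_one]
    rcases key (x * t) (mul_mem hx ht) (fun p hp hpt => by
      rw [mul_assoc, ← hpt, ← mul_assoc, hall p hp hpt, mul_assoc]) h2 with e | e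
    · exact Or.inr (Or.inr (Or.inl (by rw [xti, e, one_mul])))
    · exact Or.inr (Or.inr (Or.inr (by rw [xti, e])))

/-- A member of `Q` outside the centre of `C_Q(t)` is moved there by `C_Q(t)`. -/
theorem move {G : Type*} [Group G] [Finite G] {Q : Subgroup G} {z t v : G} (h : Extra Q z) (ht : t ∈ Q) (htt : t * t = 1)
    (ht1 : t ≠ 1) (htz : t ≠ z) (hv : v ∈ Q) (h1 : v ≠ 1) (h2 : v ≠ z) (h3 : v ≠ t) (h4 : v ≠ z * t) :
    ∃ p ∈ Q, p * t = t * p ∧ p * v * p⁻¹ = v * z := by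
  by_contra hne
  push Not at hne
  rcases center_fixed h ht htt ht1 htz hv fun p hp hpt => by
    rcases h.conj_cases hv hp with e | e
    · exact (mul_inv_eq_iff_eq_mul.1 e).symm
    · exact absurd e (hne p hp hpt) with e | e | e | e
  exacts [h1 e, h2 e, h3 e, h4 e]

theorem core {G : Type*} [Group G] [Finite G] (z : G) (hz : orderOf z = 2) (Q : Subgroup G)
    (hF : (Cfsg.generalizedFittingSubgroup ↥(Subgroup.centralizer ({z} : Set G))).map (Subgroup.centralizer ({z} : Set G)).subtype = Q)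
    (hQ : Cfsg.IsExtraspecial 2 ↥Q) (w : ℕ) (hw : 3 ≤ w) (hcard : Nat.card ↥Q = 2 ^ (2 * w + 1)) (g : G)
    (hgQ : g * z * g⁻¹ ∈ Q) (hgZ : g * z * g⁻¹ ∉ ((Subgroup.center ↥Q).map Q.subtype)) (t : G) (ht : orderOf t = 2)
    (htQ : t ∈ Q ⊓ (Q).map (MulAut.conj g).toMonoidHom) (htz : ¬ IsConj z t) (P : Subgroup G)
    (hP : P = Q ⊓ Subgroup.centralizer ({t} : Set G))
    (hCP : ∀ c ∈ Subgroup.centralizer ({z} : Set G), (∀ x ∈ P, ∃ y ∈ Subgroup.closure ({t, z} : Set G), c * x * c⁻¹ = x * y) ↔ c ∈ Q)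
    [hn : ((Subgroup.zpowers t).subgroupOf (Subgroup.centralizer ({t} : Set G))).Normal] :
    Cfsg.IsLargeExtraspecial ((P.subgroupOf (Subgroup.centralizer ({t} : Set G))).map (QuotientGroup.mk' ((Subgroup.zpowers t).subgroupOf (Subgroup.centralizer ({t} : Set G))))) ∧
    ∃ x ∈ P ⊔ ((Q).map (MulAut.conj g).toMonoidHom ⊓ Subgroup.centralizer ({t} : Set G)), x * (g * z * g⁻¹) * x⁻¹ = z := by
  classical
  haveI : Fact (Nat.Prime 2) := ⟨Nat.prime_two⟩
  obtain ⟨hX, hC, hN⟩ := of_genFitting hz hF hQ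
  set u := g * z * g⁻¹ with hu
  set Q' := Q.map (MulAut.conj g).toMonoidHom with hQ'
  have hX' := hX.map_conj g
  rw [← hu] at hX'
  have huu : u * u = 1 := hX'.z_sq
  have hu1 : u ≠ 1 := hX'.z_ne
  have huz : u ≠ z := fun e => hgZ (by rw [hX.center_eq, e]; exact Subgroup.mem_zpowers z)
  have hzu_conj : IsConj z u := isConj_iff.2 ⟨g, rfl⟩
  have htu : ¬ IsConj u t := fun h => htz (hzu_conj.trans h)
  have tt : t * t = 1 := by rw [← sq, ← ht, pow_orderOf_eq_one]
  have t1 : t ≠ 1 := fun h => by simp [h] at ht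
  have tz : t ≠ z := fun e => htz (e ▸ IsConj.refl z)
  have tu : t ≠ u := fun e => htu (e ▸ IsConj.refl u)
  have htQ1 : t ∈ Q := htQ.1
  have htQ' : t ∈ Q' := htQ.2
  have htzc : z * t = t * z := hX.z_comm htQ1
  have hutc : u * t = t * u := hX'.z_comm htQ'
  have hN' : Subgroup.centralizer ({u} : Set G) ≤ Subgroup.normalizer (Q' : Set G) := fun c hc =>
    Subgroup.mem_normalizer_fintype fun x hx => mem_map_conj.2
      (centralizer_conj_le hN g (Subgroup.mem_centralizer_singleton_iff.1 hc) (mem_map_conj.1 hx))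
  have h32 : 32 ≤ Nat.card ↥Q := by
    rw [hcard]
    exact le_trans (by norm_num) (Nat.pow_le_pow_right two_pos (show 5 ≤ 2 * w + 1 by omega))
  have hzQ' : z ∈ Q' := mem_map_conj.2 (mem_conj_of_nonabelian hX hC hN hgQ huz
    (nonabelian_centralizer hX h32 hgQ hu1 huu huz))
  -- `t` and `t z` are conjugate
  have hconjz : IsConj t (t * z) := by
    obtain ⟨q, -, e⟩ := hX.exists_conj_eq htQ1 t1 tz
    exact isConj_iff.2 ⟨q, e⟩
  have hconju : IsConj t (t * u) := by
    obtain ⟨q, -, e⟩ := hX'.exists_conj_eq htQ' t1 tu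
    exact isConj_iff.2 ⟨q, e⟩
  have hu_ne : u ≠ z * t := fun e => htu (by
    rw [e, htzc]; exact hconjz.symm)
  have hz_ne : z ≠ u * t := fun e => htz (by
    rw [e, hutc]; exact hconju.symm)
  set M := Subgroup.centralizer ({t} : Set G) with hM
  have memM : ∀ {x : G}, x ∈ M ↔ x * t = t * x := fun {x} => Subgroup.mem_centralizer_singleton_iff
  have hPQ : P ≤ Q := hP ▸ inf_le_left
  have hPM : P ≤ M := hP ▸ inf_le_right
  set P' := Q' ⊓ M with hP'
  have huP : u ∈ P := hP ▸ ⟨hgQ, memM.2 hutc⟩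
  have hzP : z ∈ P := hP ▸ ⟨hX.z_mem, memM.2 htzc⟩
  have hzP' : z ∈ P' := ⟨hzQ', memM.2 htzc⟩
  refine ⟨?_, ?_⟩
  swap
  · obtain ⟨a, ha, hat, hau⟩ := move hX htQ1 tt t1 tz hgQ hu1 huz tu.symm hu_ne
    obtain ⟨b, hb, hbt, hbz⟩ := move hX' htQ' tt t1 tu hzQ' hX.z_ne (Ne.symm huz) tz.symm hz_ne
    refine ⟨(a * b)⁻¹, inv_mem (mul_mem (Subgroup.mem_sup_left (hP ▸ ⟨ha, memM.2 hat⟩))
      (Subgroup.mem_sup_right ⟨hb, memM.2 hbt⟩)), ?_⟩
    have haz : a * z * a⁻¹ = z := by rw [← hX.z_comm ha, mul_inv_cancel_right]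
    have e : a * b * z * (a * b)⁻¹ = u := by
      rw [show a * b * z * (a * b)⁻¹ = a * (b * z * b⁻¹) * a⁻¹ by group, hbz, ← conj_mul, haz, hau,
        ← hX.z_comm hgQ, ← mul_assoc, hX.z_sq, one_mul]
    rw [← e]; group
  set π := QuotientGroup.mk' ((Subgroup.zpowers t).subgroupOf M) with hπ
  have πone : ∀ m : ↥M, π m = 1 ↔ (m : G) = 1 ∨ (m : G) = t := fun m => by
    rw [hπ, QuotientGroup.mk'_apply, QuotientGroup.eq_one_iff, Subgroup.mem_subgroupOf, mem_zpowers_involution tt]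
  have πcomm : ∀ x r : ↥M, π x * π r = π r * π x →
      (x : G) * r * (x : G)⁻¹ = r ∨ (x : G) * r * (x : G)⁻¹ = t * r := fun x r h => by
    have h1 : π (x * r * x⁻¹ * r⁻¹) = 1 := by
      rw [map_mul, map_mul, map_mul, map_inv, map_inv, h]; group
    rcases (πone _).1 h1 with e | e <;> simp only [Subgroup.coe_mul, Subgroup.coe_inv] at e
    · exact Or.inl (mul_inv_eq_one.1 e)
    · exact Or.inr (mul_inv_eq_iff_eq_mul.1 e)
  set Pb := (P.subgroupOf M).map π with hPb
  have hmem : ∀ {p : G} (hp : p ∈ P), π ⟨p, hPM hp⟩ ∈ Pb := fun {p} hp => ⟨⟨p, hPM hp⟩, hp, rfl⟩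
  set zb := π ⟨z, hPM hzP⟩ with hzb
  have hzb1 : zb ≠ 1 := fun h => by
    rcases (πone _).1 h with e | e
    · exact hX.z_ne e
    · exact tz e.symm
  have hzb2 : zb * zb = 1 := by
    rw [hzb, ← map_mul]
    exact (congrArg π (Subtype.ext hX.z_sq)).trans (map_one π)
  have hcz : ∀ x : ↥M, π x * zb = zb * π x → (x : G) * z = z * x := fun x h => by
    rcases πcomm x _ h with e | e
    · exact mul_inv_eq_iff_eq_mul.1 e
    · exact absurd ((isConj_iff.2 ⟨x, e⟩ : IsConj z (t * z)).trans hconjz.symm) htz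
  have hcu : ∀ x : ↥M, π x * π ⟨u, hPM huP⟩ = π ⟨u, hPM huP⟩ * π x → (x : G) * u = u * x := fun x h => by
    rcases πcomm x _ h with e | e
    · exact mul_inv_eq_iff_eq_mul.1 e
    · exact absurd ((isConj_iff.2 ⟨x, e⟩ : IsConj u (t * u)).trans hconju.symm) htu
  have hzc : ∀ q ∈ Pb, zb * q = q * zb := by
    rintro _ ⟨p, hp, rfl⟩
    rw [hzb, ← map_mul, ← map_mul]
    exact congrArg π (Subtype.ext (hX.z_comm (hPQ hp)))
  have hcen : ∀ q ∈ Pb, (∀ r ∈ Pb, q * r = r * q) → q = 1 ∨ q = zb := by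
    rintro _ ⟨x, hx, rfl⟩ hall
    have hx : (x : G) ∈ P := hx
    have h1 : ∀ p ∈ Q, p * t = t * p → (x : G) * p = p * x := fun p hp hpt => by
      have hpP : p ∈ P := hP ▸ ⟨hp, memM.2 hpt⟩
      rcases πcomm x ⟨p, hPM hpP⟩ (hall _ (hmem hpP)) with e | e
      · exact mul_inv_eq_iff_eq_mul.1 e
      · rcases hX.conj_cases hp (hPQ hx) with e' | e'
        · exact mul_inv_eq_iff_eq_mul.1 e'
        · exfalso
          rw [e', ← hX.z_comm hp] at e
          exact tz (mul_right_cancel e).symm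
    rcases center_fixed hX htQ1 tt t1 tz (hPQ hx) h1 with e | e | e | e
    · exact Or.inl ((πone x).2 (Or.inl e))
    · exact Or.inr (congrArg π (Subtype.ext e))
    · exact Or.inl ((πone x).2 (Or.inr e))
    · refine Or.inr ?_
      have : x = ⟨z, hPM hzP⟩ * ⟨t, memM.2 rfl⟩ := Subtype.ext e
      rw [this, map_mul, (πone ⟨t, memM.2 rfl⟩).2 (Or.inr rfl), mul_one]
  have hcc : ∀ y : ↥Pb, y ∈ Subgroup.center ↥Pb ↔ (y : ↥M ⧸ (Subgroup.zpowers t).subgroupOf M) = 1 ∨ (y : ↥M ⧸ (Subgroup.zpowers t).subgroupOf M) = zb := fun y => by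
    refine ⟨fun hy => hcen y y.2 fun r hr =>
      (congrArg Subtype.val (Subgroup.mem_center_iff.1 hy ⟨r, hr⟩)).symm, fun hy => ?_⟩
    rw [Subgroup.mem_center_iff]
    intro r
    apply Subtype.ext
    show (r : ↥M ⧸ (Subgroup.zpowers t).subgroupOf M) * y = y * r
    rcases hy with e | e <;> rw [e]
    · simp
    · exact (hzc r r.2).symm
  have hcomm : ∀ a b : ↥Pb, ⁅a, b⁆ ∈ Subgroup.center ↥Pb := by
    rintro ⟨_, a, ha, rfl⟩ ⟨_, b, hb, rfl⟩
    have ha : (a : G) ∈ P := ha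
    have hb : (b : G) ∈ P := hb
    refine (hcc _).2 ?_
    show π a * π b * (π a)⁻¹ * (π b)⁻¹ = 1 ∨ π a * π b * (π a)⁻¹ * (π b)⁻¹ = zb
    rw [← map_inv, ← map_inv, ← map_mul, ← map_mul, ← map_mul]
    rcases hX.conj_cases (hPQ hb) (hPQ ha) with e | e
    · refine Or.inl ((πone _).2 (Or.inl ?_))
      simp only [Subgroup.coe_mul, Subgroup.coe_inv, e, mul_inv_cancel]
    · refine Or.inr (congrArg π (Subtype.ext ?_))
      simp only [Subgroup.coe_mul, Subgroup.coe_inv, e, ← hX.z_comm (hPQ hb), mul_inv_cancel_right]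
  have hmap : (Subgroup.center ↥Pb).map Pb.subtype = Subgroup.zpowers zb := by
    ext y
    rw [mem_zpowers_involution hzb2]
    constructor
    · rintro ⟨y, hy, rfl⟩; exact (hcc y).1 hy
    · intro hy
      have hyR : y ∈ Pb := by rcases hy with rfl | rfl; exacts [one_mem Pb, hmem hzP]
      exact ⟨⟨y, hyR⟩, (hcc _).2 hy, rfl⟩
  have hp2 : IsPGroup 2 ↥Pb :=
    ((hX.isPGroup.to_le hPQ).of_equiv (Subgroup.subgroupOfEquivOfLe hPM).symm).map π
  have hzcm : Subgroup.center ↥Pb ≤ commutator ↥Pb := by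
    obtain ⟨a, ha, hat, hau⟩ := move hX htQ1 tt t1 tz hgQ hu1 huz tu.symm hu_ne
    have haP : a ∈ P := hP ▸ ⟨ha, memM.2 hat⟩
    intro y hy
    rcases (hcc y).1 hy with e | e
    · rw [show y = 1 from Subtype.ext e]; exact one_mem _
    · have e2 : ⁅(⟨_, hmem haP⟩ : ↥Pb), (⟨_, hmem huP⟩ : ↥Pb)⁆ = y := Subtype.ext (by
        show π ⟨a, hPM haP⟩ * π ⟨u, hPM huP⟩ * (π ⟨a, hPM haP⟩)⁻¹ * (π ⟨u, hPM huP⟩)⁻¹ = y
        rw [e, hzb, ← map_inv, ← map_inv, ← map_mul, ← map_mul, ← map_mul]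
        refine congrArg π (Subtype.ext ?_)
        simp only [Subgroup.coe_mul, Subgroup.coe_inv, hau, ← hX.z_comm hgQ, mul_inv_cancel_right])
      rw [← e2, _root_.commutator_def]
      exact Subgroup.commutator_mem_commutator (Subgroup.mem_top _) (Subgroup.mem_top _)
  have hc2 : commutator ↥Pb = Subgroup.center ↥Pb := le_antisymm (by
    rw [_root_.commutator_def, Subgroup.commutator_le]
    exact fun a _ b _ => hcomm a b) hzcm
  have hf : frattini ↥Pb = Subgroup.center ↥Pb := le_antisymm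
    (CfsgLib.LocalEven.Residual.frattini_le (p := 2) hcomm (by
      rintro ⟨_, a, ha, rfl⟩
      have ha : (a : G) ∈ P := ha
      refine (hcc _).2 ?_
      show (π a) ^ 2 = 1 ∨ (π a) ^ 2 = zb
      rw [← map_pow]
      rcases hX.sq_cases (hPQ ha) with e | e
      · exact Or.inl ((πone _).2 (Or.inl (by rw [Subgroup.coe_pow, sq]; exact e)))
      · exact Or.inr (congrArg π (Subtype.ext (by rw [Subgroup.coe_pow, sq]; exact e)))))
    (hzcm.trans (by
      rw [_root_.commutator_def, Subgroup.commutator_le]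
      exact fun a _ b _ => CfsgLib.PGroup.Frattini.commutatorElement_mem_frattini hp2 a b))
  have hext : Cfsg.IsExtraspecial 2 ↥Pb := ⟨⟨hp2, hf, hc2⟩, by
    rw [← Subgroup.card_map_of_injective Pb.subtype_injective, hmap, Nat.card_zpowers]
    exact orderOf_eq_prime (by rw [pow_two, hzb2]) hzb1⟩
  have hwb : Extra Pb zb := ⟨hext, hzb1, hzb2, hmap⟩
  have hCb : ∀ x, (∀ q ∈ Pb, x * q = q * x) → x ∈ Pb := by
    intro x hx
    obtain ⟨x, rfl⟩ := QuotientGroup.mk'_surjective _ x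
    have hxz := hcz x (hx _ (hmem hzP))
    have hxQ : (x : G) ∈ Q := (hCP x (Subgroup.mem_centralizer_singleton_iff.2 hxz)).1 fun p hp => by
      rcases πcomm x ⟨p, hPM hp⟩ (hx _ (hmem hp)) with e | e
      · exact ⟨1, one_mem _, by rw [mul_one]; exact e⟩
      · exact ⟨t, Subgroup.subset_closure (by simp), by rw [memM.1 (hPM hp)]; exact e⟩
    exact ⟨x, show (x : G) ∈ P from hP ▸ ⟨hxQ, x.2⟩, rfl⟩
  have hNb : ∀ (v : G) (R : Subgroup G) (hv : v ∈ M), R ≤ M →
      (∀ x : ↥M, π x * π ⟨v, hv⟩ = π ⟨v, hv⟩ * π x → ∀ r ∈ R, (x : G) * r * (x : G)⁻¹ ∈ R) →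
      Subgroup.centralizer ({π ⟨v, hv⟩} : Set (↥M ⧸ (Subgroup.zpowers t).subgroupOf M)) ≤
        Subgroup.normalizer ((R.subgroupOf M).map π : Set (↥M ⧸ (Subgroup.zpowers t).subgroupOf M)) := by
    intro v R hv hRM hnorm x hx
    obtain ⟨x, rfl⟩ := QuotientGroup.mk'_surjective _ x
    refine Subgroup.mem_normalizer_fintype ?_
    rintro _ ⟨r, hr, rfl⟩
    exact ⟨x * r * x⁻¹, hnorm x (Subgroup.mem_centralizer_singleton_iff.1 hx) r hr,
      by rw [map_mul, map_mul, map_inv]⟩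
  have hNz : Subgroup.centralizer ({zb} : Set (↥M ⧸ (Subgroup.zpowers t).subgroupOf M)) ≤
      Subgroup.normalizer (Pb : Set (↥M ⧸ (Subgroup.zpowers t).subgroupOf M)) := by
    refine hNb z P _ hPM fun x hx r hr => ?_
    rw [hP] at hr ⊢
    exact ⟨(Subgroup.mem_normalizer_iff.1 (hN (Subgroup.mem_centralizer_singleton_iff.2 (hcz x hx))) r).1 hr.1,
      M.mul_mem (M.mul_mem x.2 hr.2) (M.inv_mem x.2)⟩
  refine ⟨hext, ?_, ?_, fun K hK hRK => ?_⟩
  · rw [hmap]
    refine le_antisymm (fun x hx => ?_) (Subgroup.zpowers_le.2 (Subgroup.mem_centralizer_iff.2 fun q hq => (hzc q hq).symm))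
    have hx' := fun q hq => (Subgroup.mem_centralizer_iff.1 hx q hq).symm
    exact (mem_zpowers_involution hzb2).2 (hwb.mem_center_cases (hCb x hx') hx')
  · rw [hmap]
    intro x hx
    exact hNz (Subgroup.mem_centralizer_singleton_iff.2 ((Subgroup.mem_centralizer_iff.1 hx zb (Subgroup.mem_zpowers zb)).symm))
  · have hub1 : π ⟨u, hPM huP⟩ ≠ 1 := fun h => by
      rcases (πone _).1 h with e | e
      · exact hu1 e
      · exact tu e.symm
    have hubz : π ⟨u, hPM huP⟩ ≠ zb := fun h => by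
      have h1 : π (⟨z, hPM hzP⟩⁻¹ * ⟨u, hPM huP⟩) = 1 := by rw [map_mul, map_inv, h, inv_mul_cancel]
      rcases (πone _).1 h1 with e | e
      · exact huz (inv_mul_eq_one.1 e).symm
      · exact hu_ne (inv_mul_eq_iff_eq_mul.1 e)
    refine eq_bot_of_odd_normalized hwb hCb hNz (hmem huP) (by rw [← map_mul]; exact (congrArg π (Subtype.ext huu)).trans (map_one π))
      hub1 hubz (le_coreOf (Q := (P'.subgroupOf M).map π) ?_ ?_ ?_ ⟨⟨z, hPM hzP⟩, hzP', rfl⟩) hK hRK
    · exact ((hX'.isPGroup.to_le inf_le_left).of_equiv (Subgroup.subgroupOfEquivOfLe inf_le_right).symm).map π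
    · rintro _ ⟨r, hr, rfl⟩
      rw [Subgroup.mem_centralizer_singleton_iff, ← map_mul, ← map_mul]
      exact congrArg π (Subtype.ext (hX'.z_comm hr.1).symm)
    · exact hNb u P' _ inf_le_right fun x hx r hr =>
        ⟨(Subgroup.mem_normalizer_iff.1 (hN' (Subgroup.mem_centralizer_singleton_iff.2 (hcu x hx))) r).1 hr.1,
          M.mul_mem (M.mul_mem x.2 hr.2) (M.inv_mem x.2)⟩

/-- Let z be an involution of the finite group G with centralizer C whose generalized Fitting subgroup Q is extraspecial of width at least 3 (order 2^(2w+1), w ≥ 3); let g be an element of G with g z g⁻¹ in Q but outside the centre Z of Q, and t an involution lying in both Q and g Q g⁻¹ that is not conjugate to z; write P for the centralizer of t in Q and suppose that the elements of C acting trivially by conjugation on P modulo the subgroup generated by t and z are exactly the elements of Q. Then the image of P in the centralizer of t modulo the subgroup generated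 by t is a large extraspecial 2-subgroup there, and g z g⁻¹ is conjugate to z inside the subgroup generated by P and the centralizer of t in g Q g⁻¹. -/
theorem result {G : Type*} [Group G] [Finite G] (z : G) (hz : orderOf z = 2) (Q : Subgroup G) (hQC : Q ≤ Subgroup.centralizer ({z} : Set G)) (hF : (Cfsg.generalizedFittingSubgroup ↥(Subgroup.centralizer ({z} : Set G))).map (Subgroup.centralizer ({z} : Set G)).subtype = Q) (hQ : Cfsg.IsExtraspecial 2 ↥Q) (w : ℕ) (hw : 3 ≤ w) (hcard : Nat.card ↥Q = 2 ^ (2 * w + 1)) (g : G) (hgQ : g * z * g⁻¹ ∈ Q) (hgZ : g * z * g⁻¹ ∉ ((Subgroup.center ↥Q).map Q.subtype)) (t : G) (ht : orderOf t = 2) (htQ : t ∈ Q ⊓ (Q).map (MulAut.conj g).toMonoidHom) (htz : ¬ IsConj z t) (P : Subgroup G) (hP : P = Q ⊓ Subgroup.centralizer ({t} : Set G)) (hCP : ∀ c ∈ Subgroup.centralizer ({z} : Set G), (∀ x ∈ P, ∃ y ∈ Subgroup.closure ({t, z} : Set G), c * x * c⁻¹ = x * y) ↔ c ∈ Q) [hn : ((Subgroup.zpowers t).subgroupOf (Subgroup.centralizer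 ({t} : Set G))).Normal] : Cfsg.IsLargeExtraspecial ((P.subgroupOf (Subgroup.centralizer ({t} : Set G))).map (QuotientGroup.mk' ((Subgroup.zpowers t).subgroupOf (Subgroup.centralizer ({t} : Set G))))) ∧ ∃ x ∈ P ⊔ ((Q).map (MulAut.conj g).toMonoidHom ⊓ Subgroup.centralizer ({t} : Set G)), x * (g * z * g⁻¹) * x⁻¹ = z := by
  exact core z hz Q hF hQ w hw hcard g hgQ hgZ t ht htQ htz P hP hCP

end Cfsg.Agent.S5429
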