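import Cfsg.Agent.Lib.ThreeTransp.LargePair
import Cfsg.Agent.Lib.ThreeTransp.ExtraspecialCore
import Cfsg.Statements.S5430
-- import your own Cfsg.Agent.* helpers here

set_option autoImplicit false
open Cfsg

namespace Cfsg.Agent.S5430
open CfsgLib.ThreeTransp.Extraspecial CfsgLib.ThreeTransp.LargePair


/-- Let Q be a large extraspecial 2-subgroup of the finite group G (extraspecial; centralizer equal to its centre; normal in the centralizer of its centre; normalizing no non-trivial subgroup of odd order) with centre generated by z, an involution, of width w ≥ 2 (order 2^(2w+1)); let g be an element outside the centralizer H of z with g z g⁻¹ in Q; write V for the subgroup generated by z and g z g⁻¹, X for the subgroup generated by Q and g Q g⁻¹, R for the subgroup generated by the centralizer of z in g Q g⁻¹ and the centralizer of g z g⁻¹ in Q, and E for the intersection of Q and g Q g⁻¹. Then R is the centralizer of V in X and is the largest normal 2-subgroup of X, and X/R is isomorphic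 to the symmetric group of degree 3; moreover the normalizer of V is the product of X and the centralizer of V in H, X is normal in it, and modulo R it is the direct product of X/R and of the centralizer of V in H modulo R. -/
theorem result {G : Type*} [Group G] [Finite G] (Q : Subgroup G) (hQ : Cfsg.IsLargeExtraspecial Q) (z : G) (hz : ((Subgroup.center ↥Q).map Q.subtype) = Subgroup.zpowers z) (hz2 : orderOf z = 2) (w : ℕ) (hw : 2 ≤ w) (hcard : Nat.card ↥Q = 2 ^ (2 * w + 1)) (g : G) (hgH : g ∉ Subgroup.centralizer ({z} : Set G)) (hgQ : g * z * g⁻¹ ∈ Q) (V X R E : Subgroup G) (hV : V = Subgroup.closure ({z, g * z * g⁻¹} : Set G)) (hX : X = Q ⊔ (Q).map (MulAut.conj g).toMonoidHom) (hR : R = ((Q).map (MulAut.conj g).toMonoidHom ⊓ Subgroup.centralizer ({z} : Set G)) ⊔ (Q ⊓ Subgroup.centralizer ({g * z * g⁻¹} : Set G))) (hE : E = Q ⊓ (Q).map (MulAut.conj g).toMonoidHom) : R = X ⊓ Subgroup.centralizer (V : Set G) ∧ R = (Cfsg.pCore 2 ↥X).map X.subtype ∧ (∃ h : (R.subgroupOf X).Normal, Nonempty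 (↥X ⧸ R.subgroupOf X ≃* Equiv.Perm (Fin 3))) ∧ Subgroup.normalizer (V : Set G) = X ⊔ (Subgroup.centralizer ({z} : Set G) ⊓ Subgroup.centralizer (V : Set G)) ∧ (∀ y ∈ Subgroup.normalizer (V : Set G), ∀ x ∈ X, y * x * y⁻¹ ∈ X) ∧ R ≤ Subgroup.centralizer ({z} : Set G) ⊓ Subgroup.centralizer (V : Set G) ∧ (∀ x ∈ X, ∀ c ∈ Subgroup.centralizer ({z} : Set G) ⊓ Subgroup.centralizer (V : Set G), x * c * x⁻¹ * c⁻¹ ∈ R) ∧ X ⊓ (Subgroup.centralizer ({z} : Set G) ⊓ Subgroup.centralizer (V : Set G)) = R := by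
  classical
  have P := of_large hQ hz hw hcard hgH hgQ
  subst hV hX hR hE
  set Q' := Q.map (MulAut.conj g).toMonoidHom with hQ'd
  set u := g * z * g⁻¹ with hud
  set V := Subgroup.closure ({z, u} : Set G) with hVd
  set X := Q ⊔ Q' with hXd
  set R := (Q' ⊓ Subgroup.centralizer ({z} : Set G)) ⊔ (Q ⊓ Subgroup.centralizer ({u} : Set G))
    with hRd
  have hRX : X ⊓ Subgroup.centralizer (V : Set G) = R := P.inf_centralizer_eq
  have hXN : X ≤ Subgroup.normalizer (V : Set G) := P.sup_le_normalizer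
  have hzV : z ∈ V := Subgroup.subset_closure (by simp)
  have huV : u ∈ V := Subgroup.subset_closure (by simp)
  have hCV : Subgroup.centralizer ({z} : Set G) ⊓ Subgroup.centralizer (V : Set G) =
      Subgroup.centralizer (V : Set G) :=
    inf_eq_right.2 (Subgroup.centralizer_le (Set.singleton_subset_iff.2 hzV))
  have hcn : ∀ y ∈ Subgroup.normalizer (V : Set G), ∀ c ∈ Subgroup.centralizer (V : Set G),
      y * c * y⁻¹ ∈ Subgroup.centralizer (V : Set G) := by
    intro y hy c hc
    rw [Subgroup.mem_centralizer_iff]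
    intro v hv
    have := Subgroup.mem_centralizer_iff.1 hc _ ((Subgroup.mem_normalizer_iff''.1 hy v).1 hv)
    calc v * (y * c * y⁻¹) = y * ((y⁻¹ * v * y) * c) * y⁻¹ := by group
      _ = y * c * y⁻¹ * v := by rw [this]; group
  have hRn : ∀ y ∈ X, ∀ r ∈ R, y * r * y⁻¹ ∈ R := fun y hy r hr =>
    (Subgroup.mem_normalizer_iff.1 (P.sup_le_normalizer_R hy) r).1 hr
  obtain ⟨f, hker, hfa, hfb⟩ := CfsgLib.ThreeTransp.Fours.exists_hom (z := z) (u := u)
    P.mem_closure_iff P.hQ.z_ne P.hQ'.z_ne (Ne.symm P.hne) P.zu_ne_one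
  obtain ⟨a, ha, b, hb, haz, hau, hazu, hbu, hbz, hbzu⟩ := P.exists_swaps
  let φ : ↥X →* Equiv.Perm (Fin 3) := f.comp (Subgroup.inclusion hXN)
  have hφker : φ.ker = R.subgroupOf X := by
    ext x
    rw [MonoidHom.mem_ker, Subgroup.mem_subgroupOf]
    show f (Subgroup.inclusion hXN x) = 1 ↔ _
    rw [← MonoidHom.mem_ker, hker, Subgroup.mem_subgroupOf]
    exact ⟨fun h => hRX.le ⟨x.2, h⟩, fun h => (hRX.ge h).2⟩
  have hsa : φ ⟨a, Subgroup.mem_sup_left ha⟩ = Equiv.swap 1 2 := hfa _ haz hau hazu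
  have hsb : φ ⟨b, Subgroup.mem_sup_right hb⟩ = Equiv.swap 0 2 := hfb _ hbu hbz hbzu
  have hφr : Function.Surjective φ := MonoidHom.range_eq_top.1
    (CfsgLib.ThreeTransp.Fours.eq_top_of_swaps ⟨_, hsa⟩ ⟨_, hsb⟩)
  haveI hn : (R.subgroupOf X).Normal := hφker ▸ inferInstance
  have hXC : ∀ y ∈ Subgroup.centralizer (V : Set G), ∀ x ∈ X, y * x * y⁻¹ ∈ X := by
    intro y hy x hx
    have hyz := ((P.mem_centralizer_V y).1 hy).1
    have hyu := ((P.mem_centralizer_V y).1 hy).2
    have hle : X ≤ X.comap (MulAut.conj y).toMonoidHom := by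
      refine sup_le (fun q hq => ?_) (fun q hq => ?_)
      · exact Subgroup.mem_sup_left ((Subgroup.mem_normalizer_iff.1
          (P.hN (Subgroup.mem_centralizer_singleton_iff.2 hyz)) q).1 hq)
      · exact Subgroup.mem_sup_right ((Subgroup.mem_normalizer_iff.1
          (P.hN' (Subgroup.mem_centralizer_singleton_iff.2 hyu)) q).1 hq)
    exact hle hx
  have hN : Subgroup.normalizer (V : Set G) =
      X ⊔ (Subgroup.centralizer ({z} : Set G) ⊓ Subgroup.centralizer (V : Set G)) := by
    rw [hCV]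
    refine le_antisymm (fun y hy => ?_) (sup_le hXN (Subgroup.centralizer_le_normalizer _))
    obtain ⟨x, hx⟩ := hφr (f ⟨y, hy⟩)
    have h1 : (⟨y, hy⟩ : ↥(Subgroup.normalizer (V : Set G)))⁻¹ * Subgroup.inclusion hXN x ∈
        f.ker := by
      rw [MonoidHom.mem_ker, map_mul, map_inv]
      show (f ⟨y, hy⟩)⁻¹ * φ x = 1
      rw [hx, inv_mul_cancel]
    rw [hker, Subgroup.mem_subgroupOf] at h1
    have h2 : y⁻¹ * (x : G) ∈ Subgroup.centralizer (V : Set G) := h1
    rw [show y = x * (y⁻¹ * x)⁻¹ by group]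
    exact Subgroup.mul_mem_sup x.2 (inv_mem h2)
  have hXnorm : ∀ y ∈ Subgroup.normalizer (V : Set G), ∀ x ∈ X, y * x * y⁻¹ ∈ X := by
    intro y hy x hx
    have hle : Subgroup.normalizer (V : Set G) ≤ Subgroup.normalizer (X : Set G) := by
      rw [hN, hCV]
      exact sup_le Subgroup.le_normalizer fun c hc => Subgroup.mem_normalizer_fintype (hXC c hc)
    exact (Subgroup.mem_normalizer_iff.1 (hle hy) x).1 hx
  refine ⟨hRX.symm, ?_, ⟨hn, ⟨(QuotientGroup.quotientMulEquivOfEq hφker.symm).trans
    (QuotientGroup.quotientKerEquivOfSurjective φ hφr)⟩⟩, hN, hXnorm,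
    (hRX.ge.trans inf_le_right).trans hCV.ge, ?_, by rw [hCV]; exact hRX⟩
  · refine le_antisymm ?_ ?_
    · intro r hr
      have hrX := (hRX.ge hr).1
      have hp : IsPGroup 2 ↥(R.subgroupOf X) :=
        P.isPGroup_R.of_equiv (Subgroup.subgroupOfEquivOfLe (hRX.ge.trans inf_le_left)).symm
      exact ⟨⟨r, hrX⟩, CfsgLib.Solvable.Cores.le_pCore hp hr, rfl⟩
    · rintro _ ⟨x, hx, rfl⟩
      have hxR : x ∈ R.subgroupOf X := by
        rw [← hφker, MonoidHom.mem_ker]
        haveI : Fact (Nat.Prime 2) := ⟨Nat.prime_two⟩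
        have key : ∀ (S : Subgroup G) (hS : S ≤ X), IsPGroup 2 S → ∀ (s : ↥X), (s : G) ∈ S →
            φ s ≠ 1 → φ x ∈ Subgroup.zpowers (φ s) := by
          intro S hS hSp s hs hs1
          haveI := CfsgLib.Solvable.Cores.pCore_normal (G := ↥X) 2
          have hM : IsPGroup 2 ↥((Cfsg.pCore 2 ↥X ⊔ S.subgroupOf X).map φ) :=
            (IsPGroup.to_sup_of_normal_left (CfsgLib.Solvable.Cores.isPGroup_pCore 2)
              (hSp.of_equiv (Subgroup.subgroupOfEquivOfLe hS).symm)).map φ
          set M := (Cfsg.pCore 2 ↥X ⊔ S.subgroupOf X).map φ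
          have hsM : φ s ∈ M := Subgroup.mem_map_of_mem _ (Subgroup.mem_sup_right hs)
          have hxM : φ x ∈ M := Subgroup.mem_map_of_mem _ (Subgroup.mem_sup_left hx)
          obtain ⟨k, hk⟩ := IsPGroup.iff_card.1 hM
          have hd : Nat.card M ∣ 6 := by
            have := Subgroup.card_subgroup_dvd_card M
            rwa [Nat.card_perm, Nat.card_fin] at this
          have h2 : Nat.card M ≤ 2 := by
            rw [hk] at hd ⊢
            rcases k with _ | _ | k
            · simp
            · simp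
            · exfalso
              have : 4 ∣ 6 := (Nat.dvd_trans ⟨2 ^ k, by ring⟩ hd)
              omega
          have hle : Subgroup.zpowers (φ s) ≤ M := Subgroup.zpowers_le.2 hsM
          have hge : 2 ≤ Nat.card ↥(Subgroup.zpowers (φ s)) := by
            rw [Nat.card_zpowers]
            have := orderOf_pos (φ s)
            have := mt orderOf_eq_one_iff.1 hs1
            omega
          rw [Subgroup.eq_of_le_of_card_ge hle (h2.trans hge)]
          exact hxM
        have h1 := key Q le_sup_left P.hQ.isPGroup ⟨a, Subgroup.mem_sup_left ha⟩ ha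
          (by rw [hsa]; decide)
        have h2 := key Q' le_sup_right P.hQ'.isPGroup ⟨b, Subgroup.mem_sup_right hb⟩ hb
          (by rw [hsb]; decide)
        rw [hsa] at h1; rw [hsb] at h2
        rw [mem_zpowers_involution (Equiv.swap_mul_self _ _)] at h1 h2
        rcases h1 with e | e
        · exact e
        · rcases h2 with e' | e'
          · exact e'
          · rw [e] at e'; exact absurd e' (by decide)
      exact hxR
  · intro x hx c hc
    rw [hCV] at hc
    refine hRX.le ⟨?_, ?_⟩
    · rw [show x * c * x⁻¹ * c⁻¹ = x * (c * x⁻¹ * c⁻¹) by group]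
      exact mul_mem hx (hXC c hc _ (inv_mem hx))
    · show x * c * x⁻¹ * c⁻¹ ∈ Subgroup.centralizer (V : Set G)
      exact mul_mem (hcn x (hXN hx) c hc) (inv_mem hc)

end Cfsg.Agent.S5430
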