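import Cfsg.Agent.Lib.ThreeTransp.LargePair
import Cfsg.Agent.Lib.ThreeTransp.ExtraspecialCore
import Cfsg.Statements.S5431
-- import your own Cfsg.Agent.* helpers here

set_option autoImplicit false
open Cfsg

namespace Cfsg.Agent.S5431
open CfsgLib.ThreeTransp.Extraspecial CfsgLib.ThreeTransp.LargePair


/-- Let Q be a large extraspecial 2-subgroup of the finite group G (extraspecial; centralizer equal to its centre; normal in the centralizer of its centre; normalizing no non-trivial subgroup of odd order) with centre generated by z, an involution, of width w ≥ 2 (order 2^(2w+1)); let g be an element outside the centralizer H of z with g z g⁻¹ in Q; write V for the subgroup generated by z and g z g⁻¹, X for the subgroup generated by Q and g Q g⁻¹, R for the subgroup generated by the centralizer of z in g Q g⁻¹ and the centralizer of g z g⁻¹ in Q, and E for the intersection of Q and g Q g⁻¹. Then V is the centre of R, E lies in the second centre of R, R is nilpotent of class at most 3,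 E and R/E are elementary abelian, R/E is the direct product of the images of the centralizer of g z g⁻¹ in Q and of the centralizer of z in g Q g⁻¹ (R is their product and they meet in E), and the commutator subgroup of X and E lies in V. -/
theorem result {G : Type*} [Group G] [Finite G] (Q : Subgroup G) (hQ : Cfsg.IsLargeExtraspecial Q) (z : G) (hz : ((Subgroup.center ↥Q).map Q.subtype) = Subgroup.zpowers z) (hz2 : orderOf z = 2) (w : ℕ) (hw : 2 ≤ w) (hcard : Nat.card ↥Q = 2 ^ (2 * w + 1)) (g : G) (hgH : g ∉ Subgroup.centralizer ({z} : Set G)) (hgQ : g * z * g⁻¹ ∈ Q) (V X R E : Subgroup G) (hV : V = Subgroup.closure ({z, g * z * g⁻¹} : Set G)) (hX : X = Q ⊔ (Q).map (MulAut.conj g).toMonoidHom) (hR : R = ((Q).map (MulAut.conj g).toMonoidHom ⊓ Subgroup.centralizer ({z} : Set G)) ⊔ (Q ⊓ Subgroup.centralizer ({g * z * g⁻¹} : Set G))) (hE : E = Q ⊓ (Q).map (MulAut.conj g).toMonoidHom) : (Subgroup.center ↥R).map R.subtype = V ∧ E ≤ (Subgroup.upperCentralSeries ↥R 2).map R.subtype ∧ Subgroup.upperCentralSeries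 ↥R 3 = ⊤ ∧ Cfsg.IsElementaryAbelian 2 E ∧ (∀ x ∈ R, ∀ y ∈ R, x * y * x⁻¹ * y⁻¹ ∈ E ∧ x ^ 2 ∈ E) ∧ ((Q).map (MulAut.conj g).toMonoidHom ⊓ Subgroup.centralizer ({z} : Set G)) ⊓ (Q ⊓ Subgroup.centralizer ({g * z * g⁻¹} : Set G)) = E ∧ ⁅X, E⁆ ≤ V := by
  have P := of_large hQ hz hw hcard hgH hgQ
  subst hV hX hR hE
  set Q' := Q.map (MulAut.conj g).toMonoidHom with hQ'd
  set u := g * z * g⁻¹ with hud
  set V := Subgroup.closure ({z, u} : Set G) with hVd
  set R := (Q' ⊓ Subgroup.centralizer ({z} : Set G)) ⊔ (Q ⊓ Subgroup.centralizer ({u} : Set G))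
    with hRd
  set E := Q ⊓ Q' with hEd
  have hRC : R ≤ Subgroup.centralizer (V : Set G) := P.R_le.trans inf_le_right
  have hzV : z ∈ V := Subgroup.subset_closure (by simp)
  have huV : u ∈ V := Subgroup.subset_closure (by simp)
  have hzR : z ∈ R := Pair.B_le_R P.hQ.z_mem P.zu_comm
  have huR : u ∈ R := Pair.B_le_R P.hu rfl
  have hzE : z ∈ E := ⟨P.hQ.z_mem, P.hz⟩
  have huE : u ∈ E := ⟨P.hu, P.hQ'.z_mem⟩
  have hVR : V ≤ R := (Subgroup.closure_le _).2 (by rintro _ (rfl | rfl); exacts [hzR, huR])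
  have hcenter : (Subgroup.center ↥R).map R.subtype = V := by
    refine le_antisymm ?_ fun v hv => ⟨⟨v, hVR hv⟩, ?_, rfl⟩
    · rintro _ ⟨x, hx, rfl⟩
      have hxB : ∀ b ∈ Q, b * u = u * b → (x : G) * b = b * x := fun b hb hbu =>
        (congrArg Subtype.val (Subgroup.mem_center_iff.1 hx ⟨b, Pair.B_le_R hb hbu⟩)).symm
      obtain ⟨hxz, hxu⟩ := (P.mem_centralizer_V _).1 (hRC x.2)
      obtain ⟨q, hq, hqu⟩ := P.hQ.exists_conj_eq P.hu P.hQ'.z_ne P.hne
      have hxQ := Subgroup.mem_normalizer_iff.1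
        (P.hN (Subgroup.mem_centralizer_singleton_iff.2 hxz))
      set q₁ := (x : G) * q * (x : G)⁻¹ with hq₁
      have hq₁Q : q₁ ∈ Q := (hxQ q).1 hq
      have hq₁u : q₁ * u * q₁⁻¹ = u * z := by
        have h1 : (x : G)⁻¹ * u * x = u := by rw [mul_assoc, ← hxu, inv_mul_cancel_left]
        have h2 : (x : G) * (u * z) * (x : G)⁻¹ = u * z := by
          rw [← conj_mul, hxu, mul_inv_cancel_right, hxz, mul_inv_cancel_right]
        calc q₁ * u * q₁⁻¹ = x * (q * ((x : G)⁻¹ * u * x) * q⁻¹) * (x : G)⁻¹ := by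
              rw [hq₁]; group
          _ = u * z := by rw [h1, hqu, h2]
      set c := q⁻¹ * q₁ with hcd
      have hcQ : c ∈ Q := mul_mem (inv_mem hq) hq₁Q
      have hcu : c * u = u * c := by
        have e : q * u * q⁻¹ = q₁ * u * q₁⁻¹ := by rw [hqu, hq₁u]
        calc c * u = q⁻¹ * (q₁ * u * q₁⁻¹) * q₁ := by rw [hcd]; group
          _ = q⁻¹ * (q * u * q⁻¹) * q₁ := by rw [e]
          _ = u * c := by rw [hcd]; group
      have hcB : ∀ b ∈ Q, b * u = u * b → c * b = b * c := by
        intro b hb hbu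
        have hx' : (x : G) * b * (x : G)⁻¹ = b := by rw [hxB b hb hbu, mul_inv_cancel_right]
        rcases P.hQ.conj_cases hb hq with e | e
        · have e1 : q₁ * b * q₁⁻¹ = b := by
            calc q₁ * b * q₁⁻¹ = x * (q * ((x : G)⁻¹ * (x * b * (x : G)⁻¹) * x) * q⁻¹) * (x : G)⁻¹ := by
                  rw [hx', hq₁]; group
              _ = b := by rw [show (x : G)⁻¹ * (x * b * (x : G)⁻¹) * x = b by group, e, hx']
          rw [← mul_inv_eq_iff_eq_mul]
          calc c * b * c⁻¹ = q⁻¹ * (q₁ * b * q₁⁻¹) * q := by rw [hcd]; group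
            _ = q⁻¹ * (q * b * q⁻¹) * q := by rw [e1, e]
            _ = b := by group
        · have e1 : q₁ * b * q₁⁻¹ = b * z := by
            calc q₁ * b * q₁⁻¹ = x * (q * ((x : G)⁻¹ * (x * b * (x : G)⁻¹) * x) * q⁻¹) * (x : G)⁻¹ := by
                  rw [hx', hq₁]; group
              _ = b * z := by
                  rw [show (x : G)⁻¹ * (x * b * (x : G)⁻¹) * x = b by group, e, ← conj_mul, hx',
                    hxz, mul_inv_cancel_right]
          rw [← mul_inv_eq_iff_eq_mul]
          calc c * b * c⁻¹ = q⁻¹ * (q₁ * b * q₁⁻¹) * q := by rw [hcd]; group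
            _ = q⁻¹ * (q * b * q⁻¹) * q := by rw [e1, e]
            _ = b := by group
      -- `c ∈ {1, z}`: conjugation preserves squares in `⟨z⟩`
      have hc4 : c = 1 ∨ c = z := by
        have hcz2 : ∀ a ∈ Q, (∀ b ∈ Q, b * u = u * b → a * b = b * a) → a * q = q * a →
            a = 1 ∨ a = z := by
          intro a ha hab haq
          refine P.hQ.mem_center_cases ha fun y hy => ?_
          rcases P.hQ.conj_cases P.hu hy with e | e
          · exact hab y hy (mul_inv_eq_iff_eq_mul.1 e)
          · have h1 : q⁻¹ * y * u = u * (q⁻¹ * y) := by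
              calc q⁻¹ * y * u = q⁻¹ * (y * u * y⁻¹) * y := by group
                _ = q⁻¹ * (q * u * q⁻¹) * y := by rw [e, hqu]
                _ = u * (q⁻¹ * y) := by group
            have h2 := hab _ (mul_mem (inv_mem hq) hy) h1
            calc a * y = (a * q) * (q⁻¹ * y) := by group
              _ = q * (a * (q⁻¹ * y)) := by rw [haq, mul_assoc]
              _ = y * a := by rw [h2]; group
        by_cases hcq : c * q = q * c
        · exact hcz2 c hcQ hcB hcq
        exfalso
        have h1 : q₁ * q₁ = q * q := by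
          have hfix : (x : G) * (q * q) * (x : G)⁻¹ = q * q := by
            rcases P.hQ.sq_cases hq with e | e <;> rw [e]
            · simp
            · rw [hxz, mul_inv_cancel_right]
          rw [hq₁, conj_mul, hfix]
        have hcc : c * c = 1 := by
          rcases P.hQ.sq_cases hcQ with e | e
          · exact e
          · exfalso
            have hdQ : u * c ∈ Q := mul_mem P.hu hcQ
            have hd : (u * c) * q = q * (u * c) := by
              have e2 := P.hQ.conj_eq_of_not_comm hcQ hq (Ne.symm hcq)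
              symm
              rw [← mul_inv_eq_iff_eq_mul, ← conj_mul, hqu, e2,
                show u * z * (c * z) = u * (z * c) * z by group, P.hQ.z_comm hcQ,
                show u * (c * z) * z = u * c * (z * z) by group, P.hQ.z_sq, mul_one]
            have hd2 : (u * c) * (u * c) = z := by
              rw [show u * c * (u * c) = u * (c * u) * c by group, hcu,
                show u * (u * c) * c = (u * u) * (c * c) by group, P.u_sq, one_mul, e]
            rcases hcz2 _ hdQ (fun b hb hbu => by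
                rw [mul_assoc, hcB b hb hbu, ← mul_assoc, ← hbu, mul_assoc]) hd with r | r <;>
              rw [r] at hd2
            · exact P.hQ.z_ne (by simpa using hd2.symm)
            · exact P.hQ.z_ne (hd2.symm.trans P.hQ.z_sq)
        apply hcq
        have h2 : q₁ = q * c := by rw [hcd]; group
        rw [h2] at h1
        have h3 : c * q * c = q := by
          apply mul_left_cancel (a := q)
          calc q * (c * q * c) = q * c * (q * c) := by group
            _ = q * q := h1
        calc c * q = c * q * (c * c) := by rw [hcc, mul_one]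
          _ = (c * q * c) * c := by group
          _ = q * c := by rw [h3]
      -- hence `x` or `x u` centralizes `Q`
      obtain ⟨t, htV, htq, htu⟩ : ∃ t, t ∈ V ∧ (x * t : G) * q = q * (x * t) ∧
          ∀ b ∈ Q, b * u = u * b → (x * t : G) * b = b * (x * t) := by
        rcases hc4 with e | e
        · refine ⟨1, one_mem _, ?_, ?_⟩
          · have : q₁ = q := by
              have : q₁ = q * c := by rw [hcd]; group
              rw [this, e, mul_one]
            rw [mul_one]; exact mul_inv_eq_iff_eq_mul.1 this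
          · simpa using hxB
        · refine ⟨u, huV, ?_, fun b hb hbu => by rw [mul_assoc, ← hbu, ← mul_assoc, hxB b hb hbu, mul_assoc]⟩
          have h1 : (x : G) * q = q * z * x := by
            have : q₁ = q * z := by
              have : q₁ = q * c := by rw [hcd]; group
              rw [this, e]
            exact mul_inv_eq_iff_eq_mul.1 this
          have h2 : u * q = q * (u * z) := by
            have : u = q⁻¹ * (u * z) * q := by rw [← hqu]; group
            have e3 : q * u = u * z * q := mul_inv_eq_iff_eq_mul.1 hqu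
            calc u * q = u * (z * z) * q := by rw [P.hQ.z_sq, mul_one]
              _ = (u * z) * (z * q) := by group
              _ = (u * z * q) * z := by rw [P.hQ.z_comm hq]; group
              _ = q * (u * z) := by rw [← e3]; group
          calc (x : G) * u * q = x * (u * q) := by group
            _ = (x * q) * (u * z) := by rw [h2]; group
            _ = q * z * (x * (u * z)) := by rw [h1]; group
            _ = q * z * (x * (z * u)) := by rw [P.zu_comm]
            _ = q * z * ((x * z) * u) := by group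
            _ = q * (z * z) * (x * u) := by rw [hxz]; group
            _ = q * (x * u) := by rw [P.hQ.z_sq, mul_one]
      have hxt : ∀ y ∈ Q, (x * t : G) * y = y * (x * t) := by
        intro y hy
        rcases P.hQ.conj_cases P.hu hy with e | e
        · exact htu y hy (mul_inv_eq_iff_eq_mul.1 e)
        · have h1 : q⁻¹ * y * u = u * (q⁻¹ * y) := by
            calc q⁻¹ * y * u = q⁻¹ * (y * u * y⁻¹) * y := by group
              _ = q⁻¹ * (q * u * q⁻¹) * y := by rw [e, hqu]
              _ = u * (q⁻¹ * y) := by group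
          have h2 := htu _ (mul_mem (inv_mem hq) hy) h1
          calc (x * t : G) * y = ((x * t) * q) * (q⁻¹ * y) := by group
            _ = q * ((x * t) * (q⁻¹ * y)) := by rw [htq, mul_assoc]
            _ = y * (x * t) := by rw [h2]; group
      have hxt' : (x : G) * t ∈ V := by
        rcases P.hQ.mem_center_cases (P.hC _ hxt) hxt with e | e <;> rw [e]
        exacts [one_mem _, hzV]
      simpa using mul_mem hxt' (inv_mem htV)
    · rw [SetLike.mem_coe, Subgroup.mem_center_iff]
      exact fun y => Subtype.ext (Subgroup.mem_centralizer_iff.1 (hRC y.2) v hv).symm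
  have hXV : Q ⊔ Q' ≤ Subgroup.normalizer (V : Set G) := P.sup_le_normalizer
  have hXE : ∀ x ∈ Q ⊔ Q', ∀ e ∈ E, x * e * x⁻¹ * e⁻¹ ∈ V := by
    intro x hx e he
    let S : Subgroup G :=
      { carrier := {x | x ∈ Subgroup.normalizer (V : Set G) ∧ ∀ e ∈ E, x * e * x⁻¹ * e⁻¹ ∈ V}
        one_mem' := ⟨one_mem _, fun e _ => by simp⟩
        mul_mem' := fun {a b} ha hb => ⟨mul_mem ha.1 hb.1, fun e he => by
          rw [show a * b * e * (a * b)⁻¹ * e⁻¹ =
            a * (b * e * b⁻¹ * e⁻¹) * a⁻¹ * (a * e * a⁻¹ * e⁻¹) by group]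
          exact mul_mem ((Subgroup.mem_normalizer_iff.1 ha.1 _).1 (hb.2 e he)) (ha.2 e he)⟩
        inv_mem' := fun {a} ha => ⟨inv_mem ha.1, fun e he => by
          rw [show a⁻¹ * e * a⁻¹⁻¹ * e⁻¹ = a⁻¹ * (a * e * a⁻¹ * e⁻¹)⁻¹ * a⁻¹⁻¹ by group]
          exact (Subgroup.mem_normalizer_iff.1 (inv_mem ha.1) _).1 (inv_mem (ha.2 e he))⟩ }
    have hS : Q ⊔ Q' ≤ S := by
      refine sup_le (fun q hq => ⟨hXV (Subgroup.mem_sup_left hq), fun e he => ?_⟩)
        (fun q hq => ⟨hXV (Subgroup.mem_sup_right hq), fun e he => ?_⟩)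
      · rcases P.hQ.conj_cases he.1 hq with r | r <;> rw [r]
        · simp
        · rw [← P.hQ.z_comm he.1, mul_inv_cancel_right]; exact hzV
      · rcases P.hQ'.conj_cases he.2 hq with r | r <;> rw [r]
        · simp
        · rw [← P.hQ'.z_comm he.2, mul_inv_cancel_right]; exact huV
    exact (hS hx).2 e he
  have hRX : R ≤ Q ⊔ Q' := P.R_le.trans inf_le_left
  have hER : E ≤ R := fun e he => Pair.B_le_R he.1 (P.hQ'.z_comm he.2).symm
  -- `E` is normalised by `R`
  have hRE : ∀ r ∈ R, ∀ e ∈ E, r * e * r⁻¹ ∈ E := by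
    intro r hr e he
    obtain ⟨h1, h2⟩ := (P.mem_centralizer_V r).1 (hRC hr)
    exact ⟨(Subgroup.mem_normalizer_iff.1 (P.hN (Subgroup.mem_centralizer_singleton_iff.2 h1)) e).1
      he.1, (Subgroup.mem_normalizer_iff.1
        (P.hN' (Subgroup.mem_centralizer_singleton_iff.2 h2)) e).1 he.2⟩
  set B := Q ⊓ Subgroup.centralizer ({u} : Set G) with hBd
  set B' := Q' ⊓ Subgroup.centralizer ({z} : Set G) with hB'd
  have hmix : ∀ b ∈ B, ∀ c ∈ B', b * c * b⁻¹ * c⁻¹ ∈ E := by
    rintro b ⟨hb, hbu⟩ c ⟨hc, hcz⟩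
    refine ⟨?_, ?_⟩
    · rw [show b * c * b⁻¹ * c⁻¹ = b * (c * b⁻¹ * c⁻¹) by group]
      exact mul_mem hb ((Subgroup.mem_normalizer_iff.1 (P.hN hcz) _).1 (inv_mem hb))
    · show b * c * b⁻¹ * c⁻¹ ∈ Q'
      exact mul_mem ((Subgroup.mem_normalizer_iff.1 (P.hN' hbu) _).1 hc) (inv_mem hc)
  have hgen : ∀ s, s ∈ B' ∨ s ∈ B → ∀ t, t ∈ B' ∨ t ∈ B → s * t * s⁻¹ * t⁻¹ ∈ E := by
    rintro s (hs | hs) t (ht | ht)
    · rcases P.hQ'.conj_cases ht.1 hs.1 with r | r <;> rw [r]
      · simp
      · rw [← P.hQ'.z_comm ht.1, mul_inv_cancel_right]; exact huE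
    · have := inv_mem (hmix t ht s hs)
      rwa [show (t * s * t⁻¹ * s⁻¹)⁻¹ = s * t * s⁻¹ * t⁻¹ by group] at this
    · exact hmix s hs t ht
    · rcases P.hQ.conj_cases ht.1 hs.1 with r | r <;> rw [r]
      · simp
      · rw [← P.hQ.z_comm ht.1, mul_inv_cancel_right]; exact hzE
  have hRcl : R = Subgroup.closure ((B' : Set G) ∪ B) := by
    rw [Subgroup.closure_union, Subgroup.closure_eq, Subgroup.closure_eq]
  have hcomm : ∀ x ∈ R, ∀ y ∈ R, x * y * x⁻¹ * y⁻¹ ∈ E := by
    have step : ∀ s, s ∈ B' ∨ s ∈ B → ∀ y ∈ R, s * y * s⁻¹ * y⁻¹ ∈ E := by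
      intro s hs y hy
      rw [hRcl] at hy
      induction hy using Subgroup.closure_induction with
      | mem t ht => exact hgen s hs t ht
      | one => simp
      | mul a b ha _ iha ihb =>
        rw [show s * (a * b) * s⁻¹ * (a * b)⁻¹ =
          (s * a * s⁻¹ * a⁻¹) * (a * (s * b * s⁻¹ * b⁻¹) * a⁻¹) by group]
        exact mul_mem iha (hRE a (hRcl ▸ ha) _ ihb)
      | inv a ha iha =>
        rw [show s * a⁻¹ * s⁻¹ * a⁻¹⁻¹ = a⁻¹ * (s * a * s⁻¹ * a⁻¹)⁻¹ * a⁻¹⁻¹ by group]
        exact hRE _ (inv_mem (hRcl ▸ ha)) _ (inv_mem iha)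
    intro x hx y hy
    rw [hRcl] at hx
    induction hx using Subgroup.closure_induction with
    | mem s hs => exact step s hs y hy
    | one => simp
    | mul a b ha _ iha ihb =>
      rw [show a * b * y * (a * b)⁻¹ * y⁻¹ =
        a * (b * y * b⁻¹ * y⁻¹) * a⁻¹ * (a * y * a⁻¹ * y⁻¹) by group]
      exact mul_mem (hRE a (hRcl ▸ ha) _ ihb) iha
    | inv a ha iha =>
      rw [show a⁻¹ * y * a⁻¹⁻¹ * y⁻¹ = a⁻¹ * (a * y * a⁻¹ * y⁻¹)⁻¹ * a⁻¹⁻¹ by group]
      exact hRE _ (inv_mem (hRcl ▸ ha)) _ (inv_mem iha)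
  have hsq : ∀ x ∈ R, x ^ 2 ∈ E := by
    intro x hx
    have hx' : x ∈ Subgroup.closure ((B' : Set G) ∪ B) := hRcl ▸ hx
    clear hx
    induction hx' using Subgroup.closure_induction with
    | mem t ht =>
      rcases ht with ht | ht
      · rcases P.hQ'.sq_cases ht.1 with r | r <;> rw [pow_two, r]
        exacts [one_mem _, huE]
      · rcases P.hQ.sq_cases ht.1 with r | r <;> rw [pow_two, r]
        exacts [one_mem _, hzE]
    | one => simp
    | mul a b ha hb iha ihb =>
      rw [show (a * b) ^ 2 = a * (b * a * b⁻¹ * a⁻¹) * a⁻¹ * (a ^ 2) * (b ^ 2) by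
        simp [pow_two, mul_assoc]]
      exact mul_mem (mul_mem (hRE a (hRcl ▸ ha) _ (hcomm b (hRcl ▸ hb) a (hRcl ▸ ha))) iha) ihb
    | inv a ha iha => rw [inv_pow]; exact inv_mem iha
  have hZ2 : ∀ x : ↥R, (x : G) ∈ E → x ∈ Subgroup.upperCentralSeries ↥R 2 := by
    intro x hxE
    refine (Subgroup.mem_upperCentralSeries_succ_iff).2 fun y => ?_
    rw [Subgroup.upperCentralSeries_one]
    have h1 := inv_mem (hXE y (hRX y.2) x hxE)
    rw [← hcenter] at h1
    obtain ⟨c, hc, hcx⟩ := h1
    have e : x * y * x⁻¹ * y⁻¹ = c := Subtype.ext (by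
      simp only [Subgroup.coe_mul, Subgroup.coe_inv]
      exact (show ((x : G) * y * (x : G)⁻¹ * (y : G)⁻¹) =
        ((y : G) * x * (y : G)⁻¹ * (x : G)⁻¹)⁻¹ by group).trans hcx.symm)
    rw [commutatorElement_def, e]; exact hc
  have hBB : B' ⊓ B = E := by
    refine le_antisymm (fun e he => ⟨he.2.1, he.1.1⟩) fun e he => ?_
    exact ⟨⟨he.2, Subgroup.mem_centralizer_singleton_iff.2 (P.hQ.z_comm he.1).symm⟩,
      ⟨he.1, Subgroup.mem_centralizer_singleton_iff.2 (P.hQ'.z_comm he.2).symm⟩⟩
  refine ⟨hcenter, fun e he => ⟨⟨e, hER he⟩, hZ2 _ he, rfl⟩, ?_, ⟨⟨⟨?_⟩⟩, ?_⟩,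
    fun x hx y hy => ⟨hcomm x hx y hy, hsq x hx⟩, hBB, ?_⟩
  · rw [eq_top_iff]
    intro x _
    exact (Subgroup.mem_upperCentralSeries_succ_iff).2 fun y => hZ2 _ (hcomm x x.2 y y.2)
  · rintro ⟨e, he⟩ ⟨f, hf⟩
    apply Subtype.ext
    show e * f = f * e
    rcases P.hQ.conj_cases hf.1 he.1 with r | r
    · exact mul_inv_eq_iff_eq_mul.1 r
    rcases P.hQ'.conj_cases hf.2 he.2 with r' | r'
    · exact mul_inv_eq_iff_eq_mul.1 r'
    · exact absurd (mul_left_cancel (r.symm.trans r')).symm P.hne
  · intro e he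
    rcases P.hQ.sq_cases he.1 with r | r
    · rw [pow_two, r]
    rcases P.hQ'.sq_cases he.2 with r' | r'
    · rw [pow_two, r']
    · exact absurd (r.symm.trans r').symm P.hne
  · rw [Subgroup.commutator_le]
    exact fun x hx e he => hXE x hx e he

end Cfsg.Agent.S5431
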