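import Cfsg.Agent.Lib.ThreeTransp.Basic
import Cfsg.Statements.S5433
-- import your own Cfsg.Agent.* helpers here

set_option autoImplicit false
open Cfsg

namespace Cfsg.Agent.S5433

/-- Let Q be a large extraspecial 2-subgroup of the finite group G (extraspecial; centralizer equal to its centre; normal in the centralizer of its centre; normalizing no non-trivial subgroup of odd order), and L a normal subgroup of G containing Q. Then G is the product of L and the normalizer of Q. -/
theorem result {G : Type*} [Group G] [Finite G] (Q : Subgroup G) (hQ : Cfsg.IsLargeExtraspecial Q) (L : Subgroup G) [L.Normal] (hQL : Q ≤ L) : L ⊔ Subgroup.normalizer (Q : Set G) = ⊤ := by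
  obtain ⟨hE, hC, hN, -⟩ := hQ
  haveI : Fact (Nat.Prime 2) := ⟨Nat.prime_two⟩
  set Z := (Subgroup.center ↥Q).map Q.subtype with hZdef
  have hZ2 : Nat.card Z = 2 := by
    rw [hZdef, Subgroup.card_map_of_injective Q.subtype_injective, hE.2]
  have hQ2 : IsPGroup 2 Q := hE.1.1
  have hQ' : IsPGroup 2 (Q.subgroupOf L) :=
    hQ2.comap_of_injective L.subtype L.subtype_injective
  obtain ⟨T, hT⟩ := hQ'.exists_le_sylow
  set T' := (T : Subgroup L).map L.subtype with hT'
  have hQT : Q ≤ T' := by
    rw [hT', ← inf_of_le_left hQL, ← Subgroup.subgroupOf_map_subtype]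
    exact Subgroup.map_mono hT
  haveI : Nontrivial Q := by
    by_contra h
    rw [not_nontrivial_iff_subsingleton] at h
    have := Nat.card_of_subsingleton (1 : Subgroup.center ↥Q)
    rw [hE.2] at this; omega
  have hT'p : IsPGroup 2 T' := T.isPGroup'.map _
  haveI : Nontrivial T' := (Subgroup.inclusion_injective hQT).nontrivial
  set W := (Subgroup.center ↥T').map T'.subtype with hW
  have hWZ : W ≤ Z := by
    rw [← hC]
    rintro _ ⟨w, hw, rfl⟩
    rw [Subgroup.mem_centralizer_iff]
    intro q hq
    exact congrArg Subtype.val (Subgroup.mem_center_iff.1 hw ⟨q, hQT hq⟩)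
  have hWe : W = Z := by
    apply Subgroup.eq_of_le_of_card_ge hWZ
    rw [hZ2, hW, Subgroup.card_map_of_injective T'.subtype_injective]
    haveI := hT'p.center_nontrivial
    exact Finite.one_lt_card
  have hNT : Subgroup.normalizer (T' : Set G) ≤ Subgroup.normalizer (Q : Set G) := by
    intro g hg
    apply hN
    show g ∈ Subgroup.centralizer (Z : Set G)
    rw [Subgroup.mem_centralizer_iff]
    intro z hz
    rcases eq_or_ne z 1 with rfl | hz1
    · simp
    have hz' : z ∈ W := hWe ▸ hz
    obtain ⟨w, hw, rfl⟩ := hz'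
    have hmem : g * (w : G) * g⁻¹ ∈ T' := (Subgroup.mem_normalizer_iff.1 hg _).1 w.2
    have hw' : (⟨_, hmem⟩ : T') ∈ Subgroup.center T' := by
      rw [Subgroup.mem_center_iff]
      intro y
      apply Subtype.ext
      show (y : G) * (g * w * g⁻¹) = g * w * g⁻¹ * y
      have hy : g⁻¹ * (y : G) * g ∈ T' := by
        have := (Subgroup.mem_normalizer_iff.1 (Subgroup.inv_mem _ hg) _).1 y.2
        simpa using this
      have e : g⁻¹ * (y : G) * g * w = w * (g⁻¹ * y * g) :=
        congrArg Subtype.val (Subgroup.mem_center_iff.1 hw ⟨_, hy⟩)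
      calc (y : G) * (g * w * g⁻¹) = g * (g⁻¹ * y * g * w) * g⁻¹ := by group
        _ = g * w * g⁻¹ * y := by rw [e]; group
    have hz2 : g * (w : G) * g⁻¹ ∈ Z := hWe ▸ ⟨_, hw', rfl⟩
    obtain ⟨a, b, hab, huniv⟩ := (Nat.card_eq_two_iff).1 hZ2
    have hcases : ∀ p q r : Z, p = q ∨ p = r ∨ q = r := by
      intro p q r
      have hp : p ∈ ({a, b} : Set Z) := huniv ▸ Set.mem_univ p
      have hq : q ∈ ({a, b} : Set Z) := huniv ▸ Set.mem_univ q
      have hr : r ∈ ({a, b} : Set Z) := huniv ▸ Set.mem_univ r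
      simp only [Set.mem_insert_iff, Set.mem_singleton_iff] at hp hq hr
      rcases hp with rfl | rfl <;> rcases hq with rfl | rfl <;> rcases hr with rfl | rfl <;> simp
    rcases hcases ⟨1, Z.one_mem⟩ ⟨_, hz⟩ ⟨_, hz2⟩ with h | h | h
    · exact absurd (congrArg Subtype.val h).symm hz1
    · have h1 : g * (w : G) * g⁻¹ = 1 := (congrArg Subtype.val h).symm
      exact absurd (conj_eq_one_iff.1 h1) hz1
    · have h1 : (w : G) = g * w * g⁻¹ := congrArg Subtype.val h
      show (w : G) * g = g * w
      exact (eq_mul_inv_iff_mul_eq.1 h1)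
  rw [eq_top_iff, ← Sylow.normalizer_sup_eq_top T, sup_comm]
  exact sup_le_sup_left hNT L

end Cfsg.Agent.S5433
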