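import Cfsg.Agent.Lib.ThreeTransp.Extraspecial
import Cfsg.Agent.Lib.Coprime.Action
import Cfsg.Agent.Lib.LocalEven.Residual
import Cfsg.Statements.S5434
-- import your own Cfsg.Agent.* helpers here

set_option autoImplicit false
open Cfsg

namespace Cfsg.Agent.S5434
open CfsgLib.ThreeTransp.Extraspecial
open scoped commutatorElement

/-- A non-abelian subgroup with centre inside `Z(Q)` is extraspecial. -/
theorem extraspecial_of_le {G : Type*} [Group G] [Finite G] {Q : Subgroup G} {z : G}
    (h : Extra Q z) {M : Subgroup G} (hM : M ≤ Q) {a b : G} (ha : a ∈ M) (hb : b ∈ M)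
    (hab : a * b ≠ b * a) (hcen : ∀ x ∈ M, (∀ y ∈ M, x * y = y * x) → x = 1 ∨ x = z) :
    Cfsg.IsExtraspecial 2 ↥M := by
  haveI : Fact (Nat.Prime 2) := ⟨Nat.prime_two⟩
  have hp : IsPGroup 2 ↥M := h.isPGroup.to_le hM
  have hc : a * b * a⁻¹ * b⁻¹ = z := by
    rw [h.conj_eq_of_not_comm (hM hb) (hM ha) hab, ← h.z_comm (hM hb), mul_inv_cancel_right]
  have hzM : z ∈ M := hc ▸ mul_mem (mul_mem (mul_mem ha hb) (inv_mem ha)) (inv_mem hb)
  set c : ↥M := ⟨z, hzM⟩ with hcdef
  have hce : c = ⁅(⟨a, ha⟩ : ↥M), ⟨b, hb⟩⁆ := Subtype.ext hc.symm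
  have hcen' : Subgroup.center ↥M = Subgroup.zpowers c := by
    ext x
    rw [mem_zpowers_involution (Subtype.ext h.z_sq : c * c = 1)]
    constructor
    · intro hx
      rcases hcen x x.2 fun y hy =>
        (congrArg Subtype.val (Subgroup.mem_center_iff.1 hx ⟨y, hy⟩)).symm with e | e
      · exact Or.inl (Subtype.ext e)
      · exact Or.inr (Subtype.ext e)
    · rintro (rfl | rfl)
      · exact one_mem _
      · exact Subgroup.mem_center_iff.2 fun y => Subtype.ext (h.z_comm (hM y.2)).symm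
  have hcard : Nat.card (Subgroup.center ↥M) = 2 := by
    rw [hcen', Nat.card_zpowers, orderOf_eq_prime_iff, pow_two]
    exact ⟨Subtype.ext h.z_sq, fun e => h.z_ne (congrArg Subtype.val e)⟩
  have hcomm : ∀ x y : ↥M, ⁅x, y⁆ ∈ Subgroup.center ↥M := fun x y => by
    rw [hcen', mem_zpowers_involution (Subtype.ext h.z_sq : c * c = 1)]
    rcases h.conj_cases (hM y.2) (hM x.2) with e | e
    · left; apply Subtype.ext; show (x : G) * y * (x : G)⁻¹ * (y : G)⁻¹ = 1
      rw [e, mul_inv_cancel]
    · right; apply Subtype.ext; show (x : G) * y * (x : G)⁻¹ * (y : G)⁻¹ = z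
      rw [e, ← h.z_comm (hM y.2), mul_inv_cancel_right]
  refine ⟨⟨hp, le_antisymm (CfsgLib.LocalEven.Residual.frattini_le (p := 2) hcomm fun x => ?_) ?_,
    le_antisymm ?_ ?_⟩, hcard⟩
  · rw [hcen', mem_zpowers_involution (Subtype.ext h.z_sq : c * c = 1)]
    rcases h.sq_cases (hM x.2) with e | e
    · exact Or.inl (Subtype.ext (by simpa [pow_two] using e))
    · exact Or.inr (Subtype.ext (by simpa [pow_two] using e))
  · rw [hcen', Subgroup.zpowers_le, hce]
    exact CfsgLib.PGroup.Frattini.commutatorElement_mem_frattini hp _ _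
  · rw [_root_.commutator_def, Subgroup.commutator_le]
    exact fun x _ y _ => hcomm x y
  · rw [hcen', Subgroup.zpowers_le, hce, _root_.commutator_def]
    exact Subgroup.commutator_mem_commutator (Subgroup.mem_top _) (Subgroup.mem_top _)


/-- Let Q be a large extraspecial 2-subgroup of the finite group G (extraspecial; centralizer equal to its centre; normal in the centralizer of its centre; normalizing no non-trivial subgroup of odd order), and A a non-trivial subgroup of odd order of the normalizer of Q. Then Q is the central product of the centralizer of A in Q and the commutator subgroup [Q, A] (they generate Q and commute elementwise), [Q, A] is extraspecial, and the centralizer of A in Q is either the centre of Q or extraspecial. -/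
theorem result {G : Type*} [Group G] [Finite G] (Q : Subgroup G) (hQ : Cfsg.IsLargeExtraspecial Q) (A : Subgroup G) (hA : A ≤ Subgroup.normalizer (Q : Set G)) (hAodd : Odd (Nat.card ↥A)) (hA1 : A ≠ ⊥) : (Q ⊓ Subgroup.centralizer (A : Set G)) ⊔ ⁅Q, A⁆ = Q ∧ (∀ x ∈ Q ⊓ Subgroup.centralizer (A : Set G), ∀ y ∈ ⁅Q, A⁆, x * y = y * x) ∧ Cfsg.IsExtraspecial 2 ↥⁅Q, A⁆ ∧ (Q ⊓ Subgroup.centralizer (A : Set G) = ((Subgroup.center ↥Q).map Q.subtype) ∨ Cfsg.IsExtraspecial 2 ↥(Q ⊓ Subgroup.centralizer (A : Set G))) := by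
  obtain ⟨hE, hCQ, hN, -⟩ := hQ
  obtain ⟨z, hX⟩ := exists_extra hE
  have hcop : (Nat.card ↥A).Coprime (Nat.card ↥Q) := by
    haveI : Fact (Nat.Prime 2) := ⟨Nat.prime_two⟩
    obtain ⟨n, hn⟩ := IsPGroup.iff_card.1 hX.isPGroup
    rw [hn]; exact (Nat.coprime_two_right.2 hAodd).pow_right n
  have hsolv : Group.IsSolvable A ∨ Group.IsSolvable Q := by
    haveI : Fact (Nat.Prime 2) := ⟨Nat.prime_two⟩
    haveI := hX.isPGroup.isNilpotent
    exact Or.inr inferInstance
  have hsup := CfsgLib.Coprime.commutator_sup_centralizer hA hcop hsolv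
  have hcc := CfsgLib.Coprime.commutator_commutator_self hA hcop hsolv
  set M := ⁅Q, A⁆ with hMd
  set C := Q ⊓ Subgroup.centralizer (A : Set G) with hCd
  have hMQ : M ≤ Q := hsup ▸ le_sup_left
  have hza : ∀ a ∈ A, a * z = z * a := by
    intro a ha
    have hn := hA ha
    rcases hX.mem_center_cases ((Subgroup.mem_normalizer_iff.1 hn z).1 hX.z_mem) (fun q hq => by
      have hq' := (Subgroup.mem_normalizer_iff''.1 hn q).1 hq
      calc a * z * a⁻¹ * q = a * (z * (a⁻¹ * q * a)) * a⁻¹ := by group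
        _ = q * (a * z * a⁻¹) := by rw [hX.z_comm hq']; group) with e | e
    · exact absurd (conj_eq_one_iff.1 e) hX.z_ne
    · exact mul_inv_eq_iff_eq_mul.1 e
  have hMC : M ≤ Subgroup.centralizer (C : Set G) := by
    rw [hMd, Subgroup.commutator_le]
    intro q hq a ha
    rw [Subgroup.mem_centralizer_iff]
    intro c hc
    have hca : a * c = c * a := Subgroup.mem_centralizer_iff.1 hc.2 a ha
    rw [← mul_inv_eq_iff_eq_mul]
    have e1 : c * ⁅q, a⁆ * c⁻¹ = ⁅c * q * c⁻¹, a⁆ := by
      rw [show c * ⁅q, a⁆ * c⁻¹ = ⁅c * q * c⁻¹, c * a * c⁻¹⁆ by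
        simp [commutatorElement_def, mul_assoc]]
      rw [← hca, mul_inv_cancel_right]
    rw [e1]
    rcases hX.conj_cases hq hc.1 with e | e <;> rw [e]
    calc ⁅q * z, a⁆ = q * (z * a) * z⁻¹ * q⁻¹ * a⁻¹ := by simp [commutatorElement_def, mul_assoc]
      _ = ⁅q, a⁆ := by rw [← hza a ha]; simp [commutatorElement_def, mul_assoc]
  have hcomm : ∀ x ∈ C, ∀ y ∈ M, x * y = y * x := fun x hx y hy =>
    Subgroup.mem_centralizer_iff.1 (hMC hy) x hx
  have hzC : z ∈ C := ⟨hX.z_mem, Subgroup.mem_centralizer_iff.2 hza⟩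
  have hcenQ : ∀ x ∈ Q, (∀ y ∈ M, x * y = y * x) → (∀ y ∈ C, x * y = y * x) →
      x = 1 ∨ x = z := by
    intro x hx h1 h2
    refine hX.mem_center_cases hx fun q hq => ?_
    have hle : M ⊔ C ≤ Subgroup.centralizer ({x} : Set G) :=
      sup_le (fun y hy => Subgroup.mem_centralizer_singleton_iff.2 (h1 y hy).symm)
        (fun y hy => Subgroup.mem_centralizer_singleton_iff.2 (h2 y hy).symm)
    rw [← hsup] at hq
    exact (Subgroup.mem_centralizer_singleton_iff.1 (hle hq)).symm
  refine ⟨by rw [sup_comm]; exact hsup, hcomm, ?_, ?_⟩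
  · by_cases hab : ∃ a ∈ M, ∃ b ∈ M, a * b ≠ b * a
    · obtain ⟨a, ha, b, hb, hab⟩ := hab
      exact extraspecial_of_le hX hMQ ha hb hab fun x hx hc =>
        hcenQ x (hMQ hx) hc fun y hy => (hcomm y hy x hx).symm
    · exfalso
      push_neg at hab
      have hMz : ∀ x ∈ M, x = 1 ∨ x = z := fun x hx =>
        hcenQ x (hMQ hx) (hab x hx) fun y hy => (hcomm y hy x hx).symm
      have hM1 : M = ⊥ := by
        rw [← hcc, Subgroup.commutator_eq_bot_iff_le_centralizer]
        intro x hx
        rw [Subgroup.mem_centralizer_iff]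
        intro a ha
        rcases hMz x hx with rfl | rfl
        · simp
        · exact hza a ha
      have hAC : A ≤ Subgroup.centralizer (Q : Set G) := by
        rw [Subgroup.le_centralizer_iff, ← Subgroup.commutator_eq_bot_iff_le_centralizer]
        exact hM1
      rw [hCQ] at hAC
      apply hA1
      rw [← Subgroup.card_eq_one]
      have hdvd : Nat.card ↥A ∣ 2 := by
        refine (Subgroup.card_dvd_of_le hAC).trans ?_
        rw [Subgroup.card_map_of_injective Q.subtype_injective, hE.2]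
      rcases (Nat.dvd_prime Nat.prime_two).1 hdvd with e | e
      · exact e
      · rw [e] at hAodd; exact absurd hAodd (by decide)
  · by_cases hab : ∃ a ∈ C, ∃ b ∈ C, a * b ≠ b * a
    · obtain ⟨a, ha, b, hb, hab⟩ := hab
      exact Or.inr (extraspecial_of_le hX inf_le_left ha hb hab fun x hx hc =>
        hcenQ x hx.1 (hcomm x hx) hc)
    · left
      push_neg at hab
      rw [hX.center_eq]
      refine le_antisymm (fun x hx => ?_) (Subgroup.zpowers_le.2 hzC)
      exact (mem_zpowers_involution hX.z_sq).2 (hcenQ x hx.1 (hcomm x hx) (hab x hx))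

end Cfsg.Agent.S5434
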