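import Cfsg.Agent.Lib.Involution.ZStar.Main
import Cfsg.Agent.Lib.Components.ExtremalTransfer
import Cfsg.Agent.Lib.PGroup.Frattini
import Cfsg.Agent.Lib.TwoGroups.CyclicMax
import Cfsg.Statements.S5435
-- import your own Cfsg.Agent.* helpers here

set_option autoImplicit false
open Cfsg

namespace Cfsg.Agent.S5435

open Subgroup CfsgLib.PGroup in
theorem core {L : Type*} [Group L] [Finite L] [IsSimpleGroup L] (hL : ¬ IsMulCommutative L) (z : L)
    (hz : orderOf z = 2) (R : Sylow 2 L) (hR : (R : Subgroup L) = Subgroup.centralizer ({z} : Set L))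
    (hΦ : (frattini ↥(R : Subgroup L)).map (R : Subgroup L).subtype = Subgroup.zpowers z) :
    Nonempty (↥(R : Subgroup L) ≃* DihedralGroup 4) := by
  classical
  haveI : Fact (Nat.Prime 2) := ⟨Nat.prime_two⟩
  have memR : ∀ x, x ∈ (R : Subgroup L) ↔ x * z = z * x := fun x => by
    rw [hR, mem_centralizer_iff]
    simp only [Set.mem_singleton_iff, forall_eq]
    exact eq_comm
  have z2 : z * z = 1 := by rw [← sq, ← hz, pow_orderOf_eq_one]
  have z1 : z ≠ 1 := fun h => by simp [h] at hz
  have hzR : z ∈ (R : Subgroup L) := (memR z).2 rfl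
  have memz : ∀ x, x ∈ Subgroup.zpowers z → x = 1 ∨ x = z := fun x hx => by
    obtain ⟨i, rfl⟩ := mem_zpowers_iff.1 hx
    rcases Int.even_or_odd i with ⟨j, rfl⟩ | ⟨j, rfl⟩
    · left; rw [← two_mul, zpow_mul, zpow_two, z2, one_zpow]
    · right; rw [zpow_add, zpow_mul, zpow_two, z2, one_zpow, one_mul, zpow_one]
  have hP : IsPGroup 2 ↥(R : Subgroup L) := R.isPGroup'
  have hsq : ∀ x ∈ (R : Subgroup L), x * x = 1 ∨ x * x = z := fun x hx => by
    apply memz
    rw [← hΦ]
    exact ⟨_, Frattini.pow_mem_frattini hP ⟨x, hx⟩, by simp [sq]⟩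
  have hcomm : ∀ x ∈ (R : Subgroup L), ∀ y ∈ (R : Subgroup L),
      x * y * x⁻¹ = y ∨ x * y * x⁻¹ = z * y := fun x hx y hy => by
    have h : x * y * x⁻¹ * y⁻¹ ∈ Subgroup.zpowers z := by
      rw [← hΦ]
      exact ⟨_, Frattini.commutatorElement_mem_frattini hP ⟨x, hx⟩ ⟨y, hy⟩,
        by simp [commutatorElement_def, mul_assoc]⟩
    rcases memz _ h with h | h
    · exact Or.inl (mul_inv_eq_one.1 h)
    · exact Or.inr (mul_inv_eq_iff_eq_mul.1 h)
  -- the Sylow subgroup is self-normalising
  have hN : ∀ g : L, (∀ x, x ∈ (R : Subgroup L) → g * x * g⁻¹ ∈ (R : Subgroup L)) →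
      g ∈ (R : Subgroup L) := fun g hg => by
    let f : ↥(R : Subgroup L) →* ↥(R : Subgroup L) :=
      MonoidHom.mk' (fun x => ⟨g * x * g⁻¹, hg x x.2⟩) fun a b => Subtype.ext (by simp [mul_assoc])
    have hf : Function.Injective f := fun a b h => by
      have := congrArg Subtype.val h
      simpa [f] using this
    let e := MulEquiv.ofBijective f (Finite.injective_iff_bijective.1 hf)
    have hzF : (⟨z, hzR⟩ : ↥(R : Subgroup L)) ∈ frattini ↥(R : Subgroup L) := by
      have : z ∈ (frattini ↥(R : Subgroup L)).map (R : Subgroup L).subtype := by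
        rw [hΦ]; exact mem_zpowers z
      obtain ⟨w, hw, hwz⟩ := this
      rwa [show (⟨z, hzR⟩ : ↥(R : Subgroup L)) = w from Subtype.ext hwz.symm]
    rw [← (Subgroup.characteristic_iff_comap_eq.1
      (inferInstance : (frattini ↥(R : Subgroup L)).Characteristic) e)] at hzF
    have : g * z * g⁻¹ ∈ Subgroup.zpowers z := by
      rw [← hΦ]; exact ⟨_, hzF, rfl⟩
    rcases memz _ this with h | h
    · exact absurd (conj_eq_one_iff.1 h) z1
    · exact (memR g).2 (mul_inv_eq_iff_eq_mul.1 h)
  -- no central involution of R other than z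
  have hcent : ∀ y ∈ (R : Subgroup L), y * y = 1 → (∀ x ∈ (R : Subgroup L), x * y = y * x) →
      y = 1 ∨ y = z := fun y hy y2 hyc => by
    by_contra hne
    push Not at hne
    have hnot : (⟨y, hy⟩ : ↥(R : Subgroup L)) ∉ frattini ↥(R : Subgroup L) := fun h => by
      have : y ∈ Subgroup.zpowers z := by rw [← hΦ]; exact ⟨_, h, rfl⟩
      rcases memz _ this with h | h
      · exact hne.1 h
      · exact hne.2 h
    rw [frattini, Order.radical] at hnot
    simp only [Subgroup.mem_iInf, not_forall] at hnot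
    obtain ⟨M, hM, hyM⟩ := hnot
    have hMn := Frattini.normal_of_isCoatom hP hM
    have hidx := Frattini.index_of_isCoatom hP hM
    set T : Subgroup L := M.map (R : Subgroup L).subtype with hT
    have hTS : T ≤ (R : Subgroup L) := Subgroup.map_subtype_le M
    have hTe : T.subgroupOf (R : Subgroup L) = M :=
      Subgroup.comap_map_eq_self_of_injective (R : Subgroup L).subtype_injective M
    haveI : (T.subgroupOf (R : Subgroup L)).Normal := by rw [hTe]; exact hMn
    have hcyc : IsCyclic (↥(R : Subgroup L) ⧸ T.subgroupOf (R : Subgroup L)) := by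
      refine isCyclic_of_prime_card (p := 2) ?_
      show (T.subgroupOf (R : Subgroup L)).index = 2
      rw [hTe]; exact hidx
    obtain ⟨g, hgT, -, hge⟩ := CfsgLib.Components.ExtremalTransfer.exists_extremal hL R T hTS hcyc y
      (orderOf_eq_prime (by rw [sq]; exact y2) hne.1)
    have hg : g ∈ (R : Subgroup L) := hN g fun x hx => by
      have h2 : x ∈ (R : Subgroup L) ⊓ centralizer {y} :=
        ⟨hx, mem_centralizer_iff.2 fun h hh => by rw [Set.mem_singleton_iff.1 hh]; exact (hyc x hx).symm⟩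
      have h3 := hge (Subgroup.mem_map_of_mem (MulAut.conj g).toMonoidHom h2)
      exact h3.1
    rw [mul_inv_eq_iff_eq_mul.2 (hyc g hg)] at hgT
    obtain ⟨w, hw, hwy⟩ := hgT
    exact hyM (by rwa [show (⟨y, hy⟩ : ↥(R : Subgroup L)) = w from Subtype.ext hwy.symm])
  -- z is not isolated
  obtain ⟨g, hgR, hgz⟩ : ∃ g : L, g * z * g⁻¹ ∈ R ∧ g * z * g⁻¹ ≠ z := by
    by_contra! h
    obtain ⟨N, hN', hodd, hc⟩ := CfsgLib.Involution.ZStar.exists_odd_normal_of_sylow R hz hzR h
    rcases IsSimpleGroup.eq_bot_or_eq_top_of_normal N hN' with hb | hb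
    · have hzc : z ∈ center L := mem_center_iff.2 fun x => by
        have := hc x
        rw [hb, mem_bot] at this
        exact (mul_inv_eq_iff_eq_mul.1 (mul_inv_eq_one.1 this)).symm
      rcases IsSimpleGroup.eq_bot_or_eq_top_of_normal (center L) inferInstance with hb' | hb'
      · rw [hb', mem_bot] at hzc; exact z1 hzc
      · exact hL ⟨⟨fun a b => (mem_center_iff.1 (hb' ▸ mem_top a) b).symm⟩⟩
    · rw [hb, card_top] at hodd
      exact Nat.not_even_iff_odd.2 hodd (even_iff_two_dvd.2 (hz ▸ orderOf_dvd_natCard z))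
  set t := g * z * g⁻¹ with ht
  clear_value t
  have t2 : t * t = 1 := by rw [ht, show g * z * g⁻¹ * (g * z * g⁻¹) = g * (z * z) * g⁻¹ by group, z2]; simp
  have t1 : t ≠ 1 := fun h => z1 (conj_eq_one_iff.1 (ht ▸ h))
  -- elements of R commuting with t square to one
  have hA : ∀ x ∈ (R : Subgroup L), x * t = t * x → x * x = 1 := fun x hx hxt => by
    have hx' : g⁻¹ * x * g ∈ (R : Subgroup L) := (memR _).2 (by
      calc g⁻¹ * x * g * z = g⁻¹ * (x * t) * g := by rw [ht]; group
        _ = g⁻¹ * (t * x) * g := by rw [hxt]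
        _ = z * (g⁻¹ * x * g) := by rw [ht]; group)
    rcases hsq x hx with h | h
    · exact h
    rcases hsq _ hx' with h' | h' <;>
      rw [show g⁻¹ * x * g * (g⁻¹ * x * g) = g⁻¹ * (x * x) * g by group, h] at h'
    · exact absurd (by simpa [mul_assoc] using congrArg (fun w => g * w * g⁻¹) h' : z = 1) z1
    · exact absurd (by rw [ht]; simpa [mul_assoc] using (congrArg (fun w => g * w * g⁻¹) h').symm : t = z) hgz
  obtain ⟨s, hsR, hst⟩ : ∃ s ∈ (R : Subgroup L), s * t * s⁻¹ = z * t := by
    by_contra! h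
    have hall : ∀ x ∈ (R : Subgroup L), x * t = t * x := fun x hx =>
      mul_inv_eq_iff_eq_mul.1 ((hcomm x hx t hgR).resolve_right (h x hx))
    rcases hcent t hgR t2 hall with h' | h'
    · exact t1 h'
    · exact hgz h'
  -- the centraliser of t in R
  let A : Subgroup ↥(R : Subgroup L) := Subgroup.centralizer {(⟨t, hgR⟩ : ↥(R : Subgroup L))}
  have memA : ∀ x : ↥(R : Subgroup L), x ∈ A ↔ (x : L) * t = t * x := fun x => by
    rw [mem_centralizer_iff]
    simp only [Set.mem_singleton_iff, forall_eq]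
    rw [Subtype.ext_iff]
    exact eq_comm
  have notA : ∀ x : ↥(R : Subgroup L), x ∉ A → (x : L) * t * (x : L)⁻¹ = z * t := fun x hx =>
    (hcomm x x.2 t hgR).resolve_left fun h => hx ((memA x).2 (mul_inv_eq_iff_eq_mul.1 h))
  have hidx : A.index = 2 := by
    rw [Subgroup.index_eq_two_iff]
    refine ⟨⟨s, hsR⟩, fun x => ?_⟩
    by_cases hx : x ∈ A
    · refine Or.inr ⟨hx, fun hxs => ?_⟩
      have h1 : (⟨s, hsR⟩ : ↥(R : Subgroup L)) ∈ A := by simpa using mul_mem (inv_mem hx) hxs
      rw [memA, ← mul_inv_eq_iff_eq_mul, hst] at h1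
      exact z1 (mul_right_cancel (h1.trans (one_mul t).symm))
    · refine Or.inl ⟨(memA _).2 (mul_inv_eq_iff_eq_mul.1 ?_), hx⟩
      calc ((x : L) * s) * t * ((x : L) * s)⁻¹ = (x : L) * (s * t * s⁻¹) * (x : L)⁻¹ := by group
        _ = ((x : L) * z * (x : L)⁻¹) * ((x : L) * t * (x : L)⁻¹) := by rw [hst]; group
        _ = z * (z * t) := by rw [notA x hx, mul_inv_eq_iff_eq_mul.2 ((memR x).1 x.2)]
        _ = t := by rw [← mul_assoc, z2, one_mul]
  have hzt : z * t = t * z := ((memR t).1 hgR).symm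
  have hfour : ∀ x : ↥(R : Subgroup L), x ∈ A → (x : L) = 1 ∨ (x : L) = z ∨ (x : L) = t ∨ (x : L) = z * t := by
    intro x hx
    have key : ∀ y : ↥(R : Subgroup L), y ∈ A → s * y * s⁻¹ = y → (y : L) = 1 ∨ (y : L) = z := by
      intro y hy hys
      refine hcent y y.2 (hA y y.2 ((memA y).1 hy)) fun w hw => ?_
      have hab : ∀ a : ↥(R : Subgroup L), a ∈ A → (a : L) * y = y * a := fun a ha => by
        have e1 := hA y y.2 ((memA y).1 hy)
        have e2 := hA a a.2 ((memA a).1 ha)
        have e3 := hA (a * y : ↥(R : Subgroup L)) (SetLike.coe_mem _) ((memA _).1 (mul_mem ha hy))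
        simp only [Subgroup.coe_mul] at e3
        calc (a : L) * y = a * (((a : L) * y) * (a * y)) * y := by rw [e3, mul_one]
          _ = ((a : L) * a) * y * a * ((y : L) * y) := by group
          _ = y * a := by rw [e1, e2, one_mul, mul_one]
      by_cases hwA : (⟨w, hw⟩ : ↥(R : Subgroup L)) ∈ A
      · exact hab _ hwA
      have h2 : (⟨s, hsR⟩⁻¹ * ⟨w, hw⟩ : ↥(R : Subgroup L)) ∈ A := by
        rw [Subgroup.mul_mem_iff_of_index_two hidx, inv_mem_iff]
        refine iff_of_false (fun h1 => ?_) hwA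
        rw [memA, ← mul_inv_eq_iff_eq_mul, hst] at h1
        exact z1 (mul_right_cancel (h1.trans (one_mul t).symm))
      have h3 := hab _ h2
      simp only [Subgroup.coe_mul, Subgroup.coe_inv] at h3
      calc w * y = s * (s⁻¹ * w * y) := by group
        _ = (s * y * s⁻¹) * w := by rw [h3]; group
        _ = y * w := by rw [hys]
    rcases hcomm s hsR x x.2 with h | h
    · rcases key x hx h with e | e
      · exact Or.inl e
      · exact Or.inr (Or.inl e)
    · have htA : (⟨t, hgR⟩ : ↥(R : Subgroup L)) ∈ A := (memA _).2 rfl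
      have hys : s * ((x : L) * t) * s⁻¹ = (x : L) * t := by
        calc s * ((x : L) * t) * s⁻¹ = (s * x * s⁻¹) * (s * t * s⁻¹) := by group
          _ = z * (x * z) * t := by rw [h, hst]; group
          _ = z * (z * x) * t := by rw [(memR x).1 x.2]
          _ = x * t := by rw [← mul_assoc, z2, one_mul]
      rcases key (x * ⟨t, hgR⟩) (mul_mem hx htA) (by simpa using hys) with e | e <;>
        simp only [Subgroup.coe_mul] at e
      · exact Or.inr (Or.inr (Or.inl (by rw [← mul_one (x : L), ← t2, ← mul_assoc, e, one_mul])))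
      · exact Or.inr (Or.inr (Or.inr (by rw [← mul_one (x : L), ← t2, ← mul_assoc, e])))
  have hAle : Nat.card A ≤ 4 := by
    haveI : Fintype L := Fintype.ofFinite L
    calc Nat.card A ≤ Nat.card ↥({1, z, t, z * t} : Finset L) :=
          Nat.card_le_card_of_injective
            (fun a => ⟨((a : ↥(R : Subgroup L)) : L), by
              simp only [Finset.mem_insert, Finset.mem_singleton]; exact hfour _ a.2⟩)
            fun a b h => Subtype.ext (Subtype.ext (congrArg Subtype.val h :))
      _ ≤ 4 := by rw [Nat.card_eq_fintype_card, Fintype.card_coe]; exact Finset.card_le_four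
  obtain ⟨a, haR, hta, ha2⟩ : ∃ a ∈ (R : Subgroup L), a * t * a⁻¹ = z * t ∧ a * a = z := by
    rcases hsq s hsR with h | h
    · refine ⟨s * t, mul_mem hsR hgR, ?_, ?_⟩
      · rw [show s * t * t * (s * t)⁻¹ = s * t * s⁻¹ by group]; exact hst
      · calc s * t * (s * t) = (s * t * s⁻¹) * (s * s) * t := by group
          _ = z := by rw [hst, h, mul_one, mul_assoc, t2, mul_one]
    · exact ⟨s, hsR, hst, h⟩
  have ha4 : orderOf (⟨a, haR⟩ : ↥(R : Subgroup L)) = 4 := by
    have : orderOf a = 2 ^ (1 + 1) := by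
      refine orderOf_eq_prime_pow ?_ ?_
      · simpa [pow_two, ha2] using z1
      · rw [show (2:ℕ) ^ (1 + 1) = 2 * 2 from rfl, pow_mul, sq a, ha2, sq, z2]
    rw [← Subgroup.orderOf_coe]; exact this
  have hbnot : (⟨t, hgR⟩ : ↥(R : Subgroup L)) ∉ Subgroup.zpowers ⟨a, haR⟩ := fun h => by
    obtain ⟨i, hi⟩ := mem_zpowers_iff.1 h
    have h1 : t = a ^ i := by simpa using (congrArg Subtype.val hi).symm
    have : a * t * a⁻¹ = t := by rw [h1]; group
    rw [hta] at this
    exact z1 (mul_right_cancel (this.trans (one_mul t).symm))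
  have hcard : Nat.card ↥(R : Subgroup L) = 2 * 4 := by
    have h1 := A.card_mul_index
    rw [hidx] at h1
    have h2 : Nat.card (Subgroup.zpowers (⟨a, haR⟩ : ↥(R : Subgroup L))) < Nat.card ↥(R : Subgroup L) := by
      refine lt_of_le_of_ne (Subgroup.card_le_card_group _) fun h => hbnot ?_
      rw [Subgroup.card_eq_iff_eq_top] at h
      rw [h]; exact mem_top _
    rw [Nat.card_zpowers, ha4] at h2
    obtain ⟨n, hn⟩ := hP.exists_card_eq
    have h8 : Nat.card ↥(R : Subgroup L) ≤ 8 := by omega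
    rw [hn] at h2 h8 ⊢
    have : n = 3 := le_antisymm ((Nat.pow_le_pow_iff_right (by norm_num : 1 < 2)).1 (h8.trans (by norm_num)))
      ((Nat.pow_lt_pow_iff_right (by norm_num : 1 < 2)).1 (lt_of_le_of_lt (by norm_num) h2 : 2 ^ 2 < 2 ^ n))
    rw [this]; norm_num
  refine CfsgLib.TwoGroups.CyclicMax.dihedral_iso ha4 hcard hbnot (Subtype.ext t2) (Subtype.ext ?_)
  show t * a * t⁻¹ = a⁻¹
  have e : a * t = z * t * a := mul_inv_eq_iff_eq_mul.1 hta
  have e2 : t * a = z * (a * t) := by rw [e, ← mul_assoc, ← mul_assoc, z2, one_mul]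
  rw [e2, show z * (a * t) * t⁻¹ = z * a by group, ← ha2, eq_inv_iff_mul_eq_one,
    show a * a * a * a = (a * a) * (a * a) by group, ha2, z2]

/-- Let L be a finite non-abelian simple group with an involution z whose centralizer R is a Sylow 2-subgroup of L whose Frattini subgroup is the subgroup generated by z. Then R is dihedral of order 8. -/
theorem result {L : Type*} [Group L] [Finite L] [IsSimpleGroup L] (hL : ¬ IsMulCommutative L) (z : L) (hz : orderOf z = 2) (R : Sylow 2 L) (hR : (R : Subgroup L) = Subgroup.centralizer ({z} : Set L)) (hΦ : (frattini ↥(R : Subgroup L)).map (R : Subgroup L).subtype = Subgroup.zpowers z) : Nonempty (↥(R : Subgroup L) ≃* DihedralGroup 4) := by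
  exact core hL z hz R hR hΦ

end Cfsg.Agent.S5435
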