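import Cfsg.Agent.Lib.ThreeTransp.Simplicity
import Cfsg.Agent.Lib.ThreeTransp.LargePair
import Cfsg.Statements.S5436
-- import your own Cfsg.Agent.* helpers here

set_option autoImplicit false
open Cfsg

namespace Cfsg.Agent.S5436
open CfsgLib.ThreeTransp.Extraspecial CfsgLib.ThreeTransp.Simplicity


/-- Let z be an involution of the finite group G with centralizer H whose generalized Fitting subgroup Q is extraspecial of width at least 2 (order 2^(2w+1), w ≥ 2); suppose some conjugate of z other than z lies in Q, H/Q is a non-abelian simple group, H acts irreducibly by conjugation on Q modulo the subgroup generated by z (the only H-invariant subgroups of Q containing z are that subgroup and Q), and Q is not the subgroup generated by the conjugates of z lying in H. Then G is simple. -/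
theorem result {G : Type*} [Group G] [Finite G] (z : G) (hz : orderOf z = 2) (Q : Subgroup (Subgroup.centralizer ({z} : Set G))) [Q.Normal] (hF : Cfsg.generalizedFittingSubgroup ↥(Subgroup.centralizer ({z} : Set G)) = Q) (hQ : Cfsg.IsExtraspecial 2 ↥Q) (w : ℕ) (hw : 2 ≤ w) (hcard : Nat.card ↥Q = 2 ^ (2 * w + 1)) (hnwc : ∃ g : G, (∃ hq : g * z * g⁻¹ ∈ Subgroup.centralizer ({z} : Set G), (⟨g * z * g⁻¹, hq⟩ : Subgroup.centralizer ({z} : Set G)) ∈ Q) ∧ g * z * g⁻¹ ≠ z) (hsimp : IsSimpleGroup (↥(Subgroup.centralizer ({z} : Set G)) ⧸ Q)) (hna : ¬ IsMulCommutative (↥(Subgroup.centralizer ({z} : Set G)) ⧸ Q)) (hirr : ∀ W : Subgroup (Subgroup.centralizer ({z} : Set G)), W.Normal → W ≤ Q → (W = Q ∨ ∀ x ∈ W, (x : G) ∈ Subgroup.zpowers z)) (hwcl : Subgroup.closure {x : Subgroup.centralizer ({z} : Set G) | IsConj z (x : G)} ≠ Q) : IsSimpleGroup G := by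
  set Q₀ := Q.map (Subgroup.centralizer ({z} : Set G)).subtype with hQ₀
  have hE : Cfsg.IsExtraspecial 2 ↥Q₀ :=
    isExtraspecial_of_equiv (Q.equivMapOfInjective _ (Subgroup.subtype_injective _)) hQ
  obtain ⟨hX, hC, hN⟩ := of_genFitting hz (Q := Q₀) (by rw [hF]) hE
  have hcard₀ : Nat.card ↥Q₀ = 2 ^ (2 * w + 1) := by
    rw [hQ₀, Subgroup.card_map_of_injective (Subgroup.subtype_injective _), hcard]
  obtain ⟨g, ⟨hq, hgQ⟩, hgz⟩ := hnwc
  have huQ : g * z * g⁻¹ ∈ Q₀ := ⟨_, hgQ, rfl⟩
  have hX' := hX.map_conj g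
  have hzQ' : g⁻¹ * z * g ∈ Q₀ := mem_conj_of_nonabelian hX hC hN huQ hgz
    (CfsgLib.ThreeTransp.LargePair.nonabelian_centralizer hX hw hcard₀ huQ hX'.z_ne hX'.z_sq hgz)
  have hlarge : ∀ K : Subgroup G, Odd (Nat.card K) → Q₀ ≤ Subgroup.normalizer (K : Set G) →
      K = ⊥ := fun K hK hQK => by
    refine eq_bot_of_odd_normalized hX hC hN huQ hX'.z_sq hX'.z_ne hgz
      (le_coreOf (hX.isPGroup.map _) hX'.le_centralizer ?_ (mem_map_conj.2 hzQ')) hK hQK
    intro c hc
    exact Subgroup.mem_normalizer_fintype fun x hx => mem_map_conj.2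
      (centralizer_conj_le hN g (Subgroup.mem_centralizer_singleton_iff.1 hc) (mem_map_conj.1 hx))
  haveI : Nontrivial G := ⟨⟨z, 1, fun e => by simp [e] at hz⟩⟩
  refine { eq_bot_or_eq_top_of_normal := fun M hM => ?_ }
  by_cases hzM : z ∈ M
  swap
  · exact Or.inl (eq_bot_of_not_mem hX hC hN hlarge hzM)
  right
  refine eq_top_of_centralizer_le hX hC fun c hc => ?_
  -- the normal subgroup generated by the conjugates of `z` in `C(z)`
  set S : Set ↥(Subgroup.centralizer ({z} : Set G)) := {x | IsConj z (x : G)} with hS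
  have hSn : (Subgroup.closure S).Normal := by
    refine ⟨fun x hx a => ?_⟩
    induction hx using Subgroup.closure_induction with
    | mem y hy =>
      refine Subgroup.subset_closure ?_
      exact IsConj.trans (show IsConj z (y : G) from hy) (isConj_iff.2 ⟨(a : G), rfl⟩)
    | one => simp
    | mul x y _ _ hx hy => rw [← conj_mul]; exact mul_mem hx hy
    | inv x _ hx => rw [← conj_inv]; exact inv_mem hx
  have hQle : Q ≤ Subgroup.closure S := by
    rcases hirr (Subgroup.closure S ⊓ Q) inferInstance inf_le_right with h | h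
    · exact inf_eq_right.1 h
    · exfalso
      have h' := h ⟨_, hq⟩ ⟨Subgroup.subset_closure (isConj_iff.2 ⟨g, rfl⟩), hgQ⟩
      rcases (mem_zpowers_involution hX.z_sq).1 h' with e | e
      · exact hX'.z_ne e
      · exact hgz e
  have htop : Subgroup.closure S = ⊤ := by
    haveI := hSn
    haveI := hsimp
    rcases (hsimp.eq_bot_or_eq_top_of_normal ((Subgroup.closure S).map (QuotientGroup.mk' Q))
      (hSn.map _ (QuotientGroup.mk'_surjective Q))) with e | e
    · exfalso
      apply hwcl
      refine le_antisymm ?_ hQle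
      rwa [Subgroup.map_eq_bot_iff, QuotientGroup.ker_mk'] at e
    · have := congrArg (Subgroup.comap (QuotientGroup.mk' Q)) e
      rwa [Subgroup.comap_map_eq, QuotientGroup.ker_mk', Subgroup.comap_top,
        sup_eq_left.2 hQle] at this
  have hle : Subgroup.closure S ≤ M.comap (Subgroup.centralizer ({z} : Set G)).subtype := by
    refine (Subgroup.closure_le _).2 fun x hx => ?_
    obtain ⟨k, hk⟩ := isConj_iff.1 (show IsConj z (x : G) from hx)
    show (x : G) ∈ M
    rw [← hk]; exact hM.conj_mem z hzM k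
  exact hle (htop ▸ Subgroup.mem_top (⟨c, hc⟩ : ↥(Subgroup.centralizer ({z} : Set G))))

end Cfsg.Agent.S5436
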