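import Cfsg.Statements.S5437
-- import your own Cfsg.Agent.* helpers here

set_option autoImplicit false
open Cfsg

namespace Cfsg.Agent.S5437

/-- Let I be a set of involutions of the finite group G closed under conjugation, and H a subgroup of G. The following are equivalent: (1) for every member x of I lying in H, the conjugates of x lying in H form a single H-class and the centralizer of x lies in H; (2) for every g outside H, no member of I lies in both H and g H g⁻¹; (3) every member of I lying in H fixes exactly one coset in the action of G on the cosets of H. -/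
theorem result {G : Type*} [Group G] [Finite G] (I : Set G) (hI : ∀ x ∈ I, orderOf x = 2) (hIc : ∀ g : G, ∀ x ∈ I, g * x * g⁻¹ ∈ I) (H : Subgroup G) : ((∀ x ∈ I, x ∈ H → (∀ g : G, g * x * g⁻¹ ∈ H → ∃ h ∈ H, h * x * h⁻¹ = g * x * g⁻¹) ∧ Subgroup.centralizer ({x} : Set G) ≤ H) ↔ (∀ g : G, g ∉ H → ∀ x ∈ I, ¬ (x ∈ H ∧ x ∈ (H : Subgroup G).map (MulAut.conj g).toMonoidHom))) ∧ ((∀ g : G, g ∉ H → ∀ x ∈ I, ¬ (x ∈ H ∧ x ∈ (H : Subgroup G).map (MulAut.conj g).toMonoidHom)) ↔ ∀ x ∈ I, x ∈ H → ∃! c : G ⧸ H, x • c = c) := by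
  have hmap : ∀ g y : G, y ∈ (H : Subgroup G).map (MulAut.conj g).toMonoidHom ↔ g⁻¹ * y * g ∈ H := by
    intro g y
    constructor
    · rintro ⟨h, hh, rfl⟩; simpa [mul_assoc] using hh
    · intro h; exact ⟨_, h, by simp [mul_assoc]⟩
  have hfix : ∀ g x : G, x • (g : G ⧸ H) = (g : G ⧸ H) ↔ g⁻¹ * x * g ∈ H := by
    intro g x
    rw [MulAction.Quotient.smul_coe, eq_comm, QuotientGroup.eq, smul_eq_mul, mul_assoc]
  constructor
  · constructor
    · rintro h1 g hg x hx ⟨hxH, hxg⟩
      rw [hmap] at hxg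
      obtain ⟨hfus, hcent⟩ := h1 x hx hxH
      obtain ⟨h, hh, hhe⟩ := hfus g⁻¹ (by simpa using hxg)
      have hgh : g * h ∈ Subgroup.centralizer ({x} : Set G) := by
        rw [Subgroup.mem_centralizer_singleton_iff]
        have : g * h * x * (g * h)⁻¹ = x := by
          rw [show g * h * x * (g * h)⁻¹ = g * (h * x * h⁻¹) * g⁻¹ by group, hhe]; group
        exact mul_inv_eq_iff_eq_mul.1 this
      exact hg (by simpa using H.mul_mem (hcent hgh) (H.inv_mem hh))
    · intro h2 x hx hxH
      refine ⟨fun g hg => ?_, fun g hg => ?_⟩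
      · refine ⟨g, ?_, rfl⟩
        by_contra hgH
        exact h2 g hgH _ (hIc g x hx) ⟨hg, (hmap _ _).2 (by simpa [mul_assoc] using hxH)⟩
      · by_contra hgH
        rw [Subgroup.mem_centralizer_singleton_iff] at hg
        refine h2 g hgH x hx ⟨hxH, (hmap _ _).2 ?_⟩
        rwa [mul_assoc, ← hg, inv_mul_cancel_left]
  · constructor
    · intro h2 x hx hxH
      refine ⟨((1 : G) : G ⧸ H), (hfix 1 x).2 (by simpa using hxH), fun c hc => ?_⟩
      induction c using QuotientGroup.induction_on with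
      | H g =>
        by_contra hne
        refine h2 g (fun hg => hne ?_) x hx ⟨hxH, (hmap _ _).2 ((hfix g x).1 hc)⟩
        rw [QuotientGroup.eq]; simpa using H.inv_mem hg
    · rintro h3 g hg x hx ⟨hxH, hxg⟩
      obtain ⟨c, -, hu⟩ := h3 x hx hxH
      have e1 := hu _ ((hfix 1 x).2 (by simpa using hxH))
      have e2 := hu _ ((hfix g x).2 ((hmap _ _).1 hxg))
      have := QuotientGroup.eq.1 (e1.trans e2.symm)
      exact hg (by simpa using this)

end Cfsg.Agent.S5437
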