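import Cfsg.Agent.Lib.Involution.Dihedral
import Cfsg.Agent.Lib.Involution.Basic
import Cfsg.Statements.S5438
-- import your own Cfsg.Agent.* helpers here

set_option autoImplicit false
open Cfsg

namespace Cfsg.Agent.S5438

open CfsgLib.Involution.Dihedral CfsgLib.Involution.Basic

/-- Let z be a 2-central involution of the finite group G (an involution central in some Sylow 2-subgroup) and H a subgroup containing z such that the coset H is the only coset of H fixed by z (in the action of G on the cosets of H). Then H has odd index in G, and for every 2-element x of H the conjugates of x lying in H form a single H-class. -/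
theorem result {G : Type*} [Group G] [Finite G] (z : G) (hz : Cfsg.IsTwoCentralInvolution z) (H : Subgroup G) (hzH : z ∈ H) (hfix : ∀ g : G, g⁻¹ * z * g ∈ H → g ∈ H) : Odd H.index ∧ ∀ x ∈ H, (∃ k : ℕ, orderOf x = 2 ^ k) → ∀ g : G, g * x * g⁻¹ ∈ H → ∃ h ∈ H, h * x * h⁻¹ = g * x * g⁻¹ := by
  haveI : Fact (Nat.Prime 2) := ⟨Nat.prime_two⟩
  obtain ⟨hz2, P, hzP, hzc⟩ := hz
  have hconj : ∀ {A B : Sylow 2 G} {n : G}, n • A = B → ∀ w, w ∈ B ↔ n⁻¹ * w * n ∈ A := by
    rintro A B n rfl w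
    exact mem_smul_sylow_iff
  have hlem : ∀ k m : G, ∀ S : Subgroup G, IsPGroup 2 S → k * z * k⁻¹ ∈ S → m * z * m⁻¹ ∈ S →
      k⁻¹ * m ∈ H := by
    intro k m S hS hk hm
    obtain ⟨T, hT⟩ := hS.exists_le_sylow
    obtain ⟨n, hn⟩ := MulAction.exists_smul_eq G P T
    have hcen : ∀ a : G, a * z * a⁻¹ ∈ T → a⁻¹ * n ∈ H := by
      intro a ha
      have hc := hzc _ ((hconj hn _).1 ha)
      set b := a⁻¹ * n with hb
      have e : z * (b * z * b⁻¹) = b * z * b⁻¹ * z := by
        have := congrArg (fun y => b * y * b⁻¹) hc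
        simp only [hb, mul_inv_rev, inv_inv, mul_assoc, mul_inv_cancel_left, inv_mul_cancel_left,
          mul_inv_cancel, inv_mul_cancel, mul_one] at this ⊢
        exact this
      apply hfix
      apply hfix
      have e2 : z⁻¹ * (b * z * b⁻¹) * z = b * z * b⁻¹ := by
        rw [mul_assoc, ← e, inv_mul_cancel_left]
      rw [show (b⁻¹ * z * b)⁻¹ * z * (b⁻¹ * z * b) =
        b⁻¹ * (z⁻¹ * (b * z * b⁻¹) * z) * b by group, e2]
      simpa [mul_assoc] using hzH
    have h1 := hcen k (hT hk)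
    have h2 := hcen m (hT hm)
    simpa [mul_assoc] using H.mul_mem h1 (H.inv_mem h2)
  have hPH : (P : Subgroup G) ≤ H := fun p hp => hfix p (by
    rw [mul_assoc, ← hzc p hp, inv_mul_cancel_left]; exact hzH)
  refine ⟨?_, ?_⟩
  · rw [← Nat.not_even_iff_odd, even_iff_two_dvd]
    exact fun h => P.not_dvd_index (h.trans (Subgroup.index_dvd_of_le hPH))
  have hsyl : ∀ w ∈ H, (∃ k : ℕ, orderOf w = 2 ^ k) → ∃ h ∈ H, h⁻¹ * w * h ∈ P := by
    rintro w hw ⟨k, hk⟩
    have : IsPGroup 2 (Subgroup.zpowers (⟨w, hw⟩ : H)) :=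
      IsPGroup.of_card (n := k) (by rw [Nat.card_zpowers, Subgroup.orderOf_mk, hk])
    obtain ⟨h, hh⟩ := CfsgLib.Involution.Basic.exists_conj_le (P.subtype hPH) this
    have h' : (h : G) * w * (h : G)⁻¹ ∈ P := hh ⟨w, hw⟩ (Subgroup.mem_zpowers _)
    exact ⟨(h : G)⁻¹, H.inv_mem h.2, by simpa using h'⟩
  intro x hx hxo g hgx
  obtain ⟨h, hh, hhP⟩ := hsyl x hx hxo
  obtain ⟨k, hk, hkP⟩ := hsyl _ hgx (by rwa [orderOf_conj])
  set y := g * x * g⁻¹ with hy
  have hC : ∀ a : G, ∀ w, a⁻¹ * w * a ∈ P → a * z * a⁻¹ ∈ Subgroup.centralizer ({w} : Set G) := by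
    intro a w hw
    rw [Subgroup.mem_centralizer_singleton_iff]
    have := congrArg (fun v => a * v * a⁻¹) (hzc _ hw)
    simpa [mul_assoc] using this.symm
  have h2 : k * z * k⁻¹ ∈ Subgroup.centralizer ({y} : Set G) := hC k y hkP
  have h3 : g * h * z * (g * h)⁻¹ ∈ Subgroup.centralizer ({y} : Set G) :=
    hC (g * h) y (by simpa [hy, mul_assoc] using hhP)
  set C := Subgroup.centralizer ({y} : Set G)
  have hp : ∀ a : G, (ha : a * z * a⁻¹ ∈ C) → IsPGroup 2 (Subgroup.zpowers (⟨_, ha⟩ : C)) :=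
    fun a ha => IsPGroup.of_card (n := 1) (by
      rw [Nat.card_zpowers, Subgroup.orderOf_mk, orderOf_conj, hz2, pow_one])
  obtain ⟨S, hS⟩ := (hp k h2).exists_le_sylow
  obtain ⟨c, hc⟩ := CfsgLib.Involution.Basic.exists_conj_le S (hp _ h3)
  have hin := hlem k ((c : G) * (g * h)) ((S : Subgroup C).map C.subtype) (S.isPGroup'.map _)
    ⟨_, hS (Subgroup.mem_zpowers _), rfl⟩ ⟨_, hc _ (Subgroup.mem_zpowers _), by
      simp [mul_assoc]⟩
  refine ⟨(c : G) * g, ?_, ?_⟩
  · simpa [mul_assoc] using H.mul_mem (H.mul_mem hk hin) (H.inv_mem hh)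
  · calc (c : G) * g * x * ((c : G) * g)⁻¹ = (c : G) * y * (c : G)⁻¹ := by rw [hy]; group
      _ = y := by
        rw [Subgroup.mem_centralizer_singleton_iff.1 c.2, mul_inv_cancel_right]

end Cfsg.Agent.S5438
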