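import Cfsg.Agent.Lib.Involution.Isolated
import Cfsg.Statements.S5439
-- import your own Cfsg.Agent.* helpers here

set_option autoImplicit false
open Cfsg

namespace Cfsg.Agent.S5439

open CfsgLib.Involution.Dihedral

/-- Let I and J be two different conjugacy classes of involutions of the finite group G and H a subgroup such that every member of I ∪ J fixes exactly one coset in the action on the cosets of H, and such that for every a in I ∩ H and every b in (I ∪ J) ∩ H different from a and commuting with it, the centralizer of a b lies in H. Then H = G. -/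
theorem result {G : Type*} [Group G] [Finite G] (I J : Set G) (a₀ b₀ : G) (ha₀ : orderOf a₀ = 2) (hb₀ : orderOf b₀ = 2) (hI : I = {x | IsConj a₀ x}) (hJ : J = {x | IsConj b₀ x}) (hIJ : I ≠ J) (H : Subgroup G) (hfix : ∀ x ∈ I ∪ J, ∃! c : G ⧸ H, x • c = c) (hcent : ∀ a ∈ I, a ∈ H → ∀ b ∈ I ∪ J, b ∈ H → a ≠ b → a * b = b * a → Subgroup.centralizer ({a * b} : Set G) ≤ H) : H = ⊤ := by
  have hfixiff : ∀ g x : G, x • (g : G ⧸ H) = (g : G ⧸ H) ↔ g⁻¹ * x * g ∈ H := by
    intro g x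
    rw [MulAction.Quotient.smul_coe, eq_comm, QuotientGroup.eq, smul_eq_mul, mul_assoc]
  have hIc : ∀ x ∈ I, ∀ g : G, g * x * g⁻¹ ∈ I := by
    intro x hx g; rw [hI] at hx ⊢; exact IsConj.trans hx (isConj_iff.2 ⟨g, rfl⟩)
  have hJc : ∀ x ∈ J, ∀ g : G, g * x * g⁻¹ ∈ J := by
    intro x hx g; rw [hJ] at hx ⊢; exact IsConj.trans hx (isConj_iff.2 ⟨g, rfl⟩)
  have hI2 : ∀ x ∈ I, orderOf x = 2 := by
    intro x hx; rw [hI] at hx; obtain ⟨g, rfl⟩ := isConj_iff.1 hx
    rw [orderOf_conj]; exact ha₀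
  have hJ2 : ∀ x ∈ J, orderOf x = 2 := by
    intro x hx; rw [hJ] at hx; obtain ⟨g, rfl⟩ := isConj_iff.1 hx
    rw [orderOf_conj]; exact hb₀
  have hdisj : ∀ a ∈ I, ∀ b ∈ J, ¬ IsConj a b := by
    intro a ha b hb h
    rw [hI] at ha; rw [hJ] at hb
    apply hIJ
    rw [hI, hJ]
    have h0 : IsConj a₀ b₀ := (IsConj.trans ha h).trans (IsConj.symm hb)
    ext y; exact ⟨fun hy => h0.symm.trans hy, fun hy => h0.trans hy⟩
  have key : ∀ a ∈ I, ∀ b ∈ J, ∀ g : G, g⁻¹ * a * g ∈ H → g⁻¹ * b * g ∈ H := by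
    intro a ha b hb g hg
    have A := hI2 a ha; have B := hJ2 b hb
    have heven := even_of_not_isConj A B (hdisj a ha b hb)
    set w := (a * b) ^ (orderOf (a * b) / 2) with hw
    have hwa : Commute w a := half_commute_left A B heven
    have hwb : Commute w b := half_commute_right A B heven
    have hw2 := half_orderOf heven
    have hawIJ : a * w ∈ I ∪ J := by
      by_cases h4 : 4 ∣ orderOf (a * b)
      · obtain ⟨d, -, hd⟩ := (conj_half_iff A B heven).2 h4
        left; rw [hw, ← hd]; exact hIc a ha d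
      · have hne : a ≠ b := by rintro rfl; exact hdisj a ha a hb (IsConj.refl a)
        obtain ⟨d, hd⟩ := isConj_iff.1 (CfsgLib.Involution.Isolated.isConj_half A B hne (by
          obtain ⟨m, hm⟩ := heven; omega))
        right; rw [hw, ← hd]; exact hJc b hb d
    have hne : a ≠ a * w := fun h => ne_one hw2 (mul_eq_left.1 h.symm)
    have hc : a • ((a * w) • (g : G ⧸ H)) = (a * w) • (g : G ⧸ H) := by
      rw [← mul_smul, show a * (a * w) = a * w * a by rw [mul_assoc, hwa.eq], mul_smul,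
        (hfixiff g a).2 hg]
    obtain ⟨c, -, hu⟩ := hfix a (Or.inl ha)
    have hgaw : g⁻¹ * (a * w) * g ∈ H :=
      (hfixiff g _).1 ((hu _ hc).trans (hu _ ((hfixiff g a).2 hg)).symm)
    have hc' : ∀ x ∈ I ∪ J, g⁻¹ * x * g ∈ I ∪ J := by
      rintro x (hx | hx)
      · left; simpa using hIc x hx g⁻¹
      · right; simpa using hJc x hx g⁻¹
    have hb' := hcent (g⁻¹ * a * g) (by simpa using hIc a ha g⁻¹) hg (g⁻¹ * (a * w) * g)
      (hc' _ hawIJ) hgaw (fun h => hne (mul_left_cancel (mul_right_cancel h))) (by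
        calc g⁻¹ * a * g * (g⁻¹ * (a * w) * g) = g⁻¹ * (a * (a * w)) * g := by group
          _ = g⁻¹ * ((a * w) * a) * g := by rw [mul_assoc a w a, hwa.eq]
          _ = g⁻¹ * (a * w) * g * (g⁻¹ * a * g) := by group)
    apply hb'
    rw [Subgroup.mem_centralizer_singleton_iff]
    have e : g⁻¹ * a * g * (g⁻¹ * (a * w) * g) = g⁻¹ * w * g := by
      rw [show g⁻¹ * a * g * (g⁻¹ * (a * w) * g) = g⁻¹ * (a * a * w) * g by group,
        mul_self A, one_mul]
    rw [e]
    calc g⁻¹ * b * g * (g⁻¹ * w * g) = g⁻¹ * (b * w) * g := by group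
      _ = g⁻¹ * (w * b) * g := by rw [hwb.eq]
      _ = g⁻¹ * w * g * (g⁻¹ * b * g) := by group
  have ha0I : a₀ ∈ I := by rw [hI]; exact IsConj.refl _
  have hb0J : b₀ ∈ J := by rw [hJ]; exact IsConj.refl _
  obtain ⟨c, hcfix, -⟩ := hfix a₀ (Or.inl ha0I)
  induction c using QuotientGroup.induction_on with
  | H k =>
    rw [hfixiff] at hcfix
    have haI : k⁻¹ * a₀ * k ∈ I := by simpa using hIc a₀ ha0I k⁻¹
    rw [eq_top_iff]
    intro g _
    have h1 : g⁻¹ * (g * (k⁻¹ * a₀ * k) * g⁻¹) * g ∈ H := by simpa [mul_assoc] using hcfix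
    have h2 := key _ (hIc _ haI g) b₀ hb0J g h1
    have h3 := key _ haI b₀ hb0J 1 (by simpa using hcfix)
    obtain ⟨c', -, hu⟩ := hfix b₀ (Or.inr hb0J)
    have := QuotientGroup.eq.1 ((hu _ ((hfixiff 1 b₀).2 h3)).trans (hu _ ((hfixiff g b₀).2 h2)).symm)
    simpa using this

end Cfsg.Agent.S5439
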