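import Cfsg.Statements.S5440
import Cfsg.Agent.Lib.Sporadic.LargeFischer.Classes

set_option autoImplicit false
open Cfsg

namespace Cfsg.Agent.S5440

/-- Let G be a finite group of large Fischer type at the involution z: the generalized Fitting subgroup Q of H = C_G(z) is extraspecial of order 2^13, H has normal subgroups Q ≤ H₁ ≤ H₂ with H₁/Q of order 3, H₂/H₁ the projective special unitary group of dimension 4 over the field with nine elements and H₂ of index 2 in H, and some conjugate of z other than z lies in Q. Then H has exactly two orbits, under conjugation, on the involutions of Q other than z. -/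
theorem result {G : Type*} [Group G] [Finite G] (z : G) (Q : Subgroup (Subgroup.centralizer ({z} : Set G))) [Q.Normal] (hF : Cfsg.IsOfLargeFischerTypeAt z Q) : ∃ s t : Subgroup.centralizer ({z} : Set G), s ∈ Q ∧ t ∈ Q ∧ orderOf s = 2 ∧ orderOf t = 2 ∧ (s : G) ≠ z ∧ (t : G) ≠ z ∧ (¬ ∃ h : Subgroup.centralizer ({z} : Set G), h * s * h⁻¹ = t) ∧ ∀ x : Subgroup.centralizer ({z} : Set G), x ∈ Q → orderOf x = 2 → (x : G) ≠ z → (∃ h : Subgroup.centralizer ({z} : Set G), h * s * h⁻¹ = x) ∨ ∃ h : Subgroup.centralizer ({z} : Set G), h * t * h⁻¹ = x := by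
  obtain ⟨π, ψ, h⟩ := CfsgLib.Sporadic.LargeFischer.exists_lf z Q hF
  obtain ⟨s, t, hs, ht, os, ot, ns, nt, hno, hall⟩ := h.two_classes
  obtain ⟨s, hsQ, rfl⟩ := hs
  obtain ⟨t, htQ, rfl⟩ := ht
  refine ⟨s, t, hsQ, htQ, (Subgroup.orderOf_coe s).symm.trans os, (Subgroup.orderOf_coe t).symm.trans ot, ns, nt,
    fun ⟨d, hd⟩ => hno ⟨d, congrArg Subtype.val hd⟩, fun x hx h2 hxz => ?_⟩
  exact (hall x (CfsgLib.Sporadic.LargeFischer.mem_qImg_coe.2 hx) ((Subgroup.orderOf_coe x).trans h2) hxz).imp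
    (fun ⟨d, hd⟩ => ⟨d, Subtype.ext hd⟩) fun ⟨d, hd⟩ => ⟨d, Subtype.ext hd⟩

end Cfsg.Agent.S5440
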