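import Cfsg.Statements.S5443
import Cfsg.Agent.Lib.Sporadic.LargeFischer.Explicit.InvolutionStabilizer
-- import your own Cfsg.Agent.* helpers here

set_option autoImplicit false
open Cfsg

namespace Cfsg.Agent.S5443

/-- Let G be a finite group of large Fischer type at the involution z: the generalized Fitting subgroup Q of H = C_G(z) is extraspecial of order 2^13, H has normal subgroups Q ≤ H₁ ≤ H₂ with H₁/Q of order 3, H₂/H₁ the projective special unitary group of dimension 4 over the field with nine elements and H₂ of index 2 in H, and some conjugate of z other than z lies in Q. Let t be an involution of Q not conjugate to z in G, and S the set of elements of H conjugating t to t or to t z (the stabilizer of the image of t in Q modulo its centre). Then the image of S in H/Q is isomorphic to the full isometry group of the elliptic quadratic form in dimension 6 over the field with two elements. -/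
theorem result {G : Type*} [Group G] [Finite G] (z : G) (Q : Subgroup (Subgroup.centralizer ({z} : Set G))) [Q.Normal] (hF : Cfsg.IsOfLargeFischerTypeAt z Q) (t : Subgroup.centralizer ({z} : Set G)) (htQ : t ∈ Q) (ht2 : orderOf t = 2) (ht : ¬ IsConj z (t : G)) (S : Subgroup (Subgroup.centralizer ({z} : Set G))) (hS : ∀ h : Subgroup.centralizer ({z} : Set G), h ∈ S ↔ (h * t * h⁻¹ = t ∨ ((h * t * h⁻¹ : Subgroup.centralizer ({z} : Set G)) : G) = t * z)) : Nonempty (↥(S.map (QuotientGroup.mk' Q)) ≃* Cfsg.isometryGroup (ZMod 2) (Cfsg.quadFormMinus 2 (ZMod 2) 1 1)) := by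
  open CfsgLib.Sporadic.LargeFischer in
  obtain ⟨π, ψ, h, hpos, hs⟩ := exists_lf_semilinear z Q hF
  obtain ⟨g₀, ⟨hq₀, hgQ₀⟩, hne₀⟩ := hF.1.2.2.2.2
  open CfsgLib.Sporadic.LargeFischer in
  have htQ' : (t : G) ∈ qImg Q := mem_qImg_coe.2 htQ
  have ht2' : orderOf (t : G) = 2 := (Subgroup.orderOf_coe t).trans ht2
  open CfsgLib.Sporadic.LargeFischer in
  have hv := h.not_conj_orbit (mem_qImg.2 ⟨hq₀, hgQ₀⟩) hne₀ htQ' ht2' ht
  have hS' : ∀ c, c ∈ S ↔ ψ c (π (t : G)) = π (t : G) := by
    intro c
    have hm := h.norm c (Subgroup.mem_centralizer_singleton_iff.1 c.2) _ htQ'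
    rw [hS, ← h.act c _ htQ']
    constructor
    · intro e
      refine ((h.π_eq_iff htQ' hm).2 ?_).symm
      rcases e with e | e
      · exact Or.inl (congrArg Subtype.val e)
      · exact Or.inr e
    · intro e
      rcases (h.π_eq_iff htQ' hm).1 e.symm with e' | e'
      · exact Or.inl (Subtype.ext e')
      · exact Or.inr e'
  obtain ⟨e⟩ := h.stab_image hpos hs hv S hS'
  have hker : ψ.ker = Q := by
    ext c
    rw [MonoidHom.mem_ker, h.ker, CfsgLib.Sporadic.LargeFischer.mem_qImg_coe]
  -- `ψ` factors through an injection of the quotient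
  let ρ : ↥(Subgroup.centralizer ({z} : Set G)) ⧸ Q →* (CfsgLib.Sporadic.LargeFischer.V6 ≃ₗ[ZMod 2] CfsgLib.Sporadic.LargeFischer.V6) :=
    QuotientGroup.lift Q ψ hker.ge
  have hρ : Function.Injective ρ := by
    refine (injective_iff_map_eq_one ρ).2 fun x hx => ?_
    induction x using QuotientGroup.induction_on with | _ c =>
    exact (QuotientGroup.eq_one_iff c).2 (hker.le (MonoidHom.mem_ker.2 hx))
  have hmap : (S.map (QuotientGroup.mk' Q)).map ρ = S.map ψ := by
    rw [Subgroup.map_map]; rfl
  exact ⟨((Subgroup.equivMapOfInjective _ ρ hρ).trans (MulEquiv.subgroupCongr hmap)).trans e⟩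

end Cfsg.Agent.S5443
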