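import Cfsg.Statements.S5444
import Cfsg.Agent.Lib.Sporadic.LargeFischer.Explicit.ThompsonMax
-- import your own Cfsg.Agent.* helpers here

set_option autoImplicit false
open Cfsg

namespace Cfsg.Agent.S5444

/-- Let G be a finite group of large Fischer type at the involution z: the generalized Fitting subgroup Q of H = C_G(z) is extraspecial of order 2^13, H has normal subgroups Q ≤ H₁ ≤ H₂ with H₁/Q of order 3, H₂/H₁ the projective special unitary group of dimension 4 over the field with nine elements and H₂ of index 2 in H, and some conjugate of z other than z lies in Q. Let T be a Sylow 2-subgroup of H. Then T has exactly one elementary abelian subgroup A of largest order; A has order 2^11, it meets Q in a subgroup of order 2^7, and its image in H/Q has order 16. -/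
theorem result {G : Type*} [Group G] [Finite G] (z : G) (Q : Subgroup (Subgroup.centralizer ({z} : Set G))) [Q.Normal] (hF : Cfsg.IsOfLargeFischerTypeAt z Q) (T : Sylow 2 ↥(Subgroup.centralizer ({z} : Set G))) : ∃ A : Subgroup ↥(T : Subgroup (Subgroup.centralizer ({z} : Set G))), Cfsg.maxElementaryAbelianSubgroups 2 ↥(T : Subgroup (Subgroup.centralizer ({z} : Set G))) = {A} ∧ Nat.card A = 2 ^ 11 ∧ Nat.card ↥(A.map (T : Subgroup (Subgroup.centralizer ({z} : Set G))).subtype ⊓ Q) = 2 ^ 7 ∧ Nat.card ↥((A.map (T : Subgroup (Subgroup.centralizer ({z} : Set G))).subtype).map (QuotientGroup.mk' Q)) = 16 := by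
  obtain ⟨π, ψ, h, hpos, hs⟩ := CfsgLib.Sporadic.LargeFischer.exists_lf_semilinear z Q hF
  obtain ⟨A, hAT, hAel, hA, hAQ, hAψ, huniq⟩ := h.sylow_max hpos hs T
  set T' : Subgroup ↥(Subgroup.centralizer ({z} : Set G)) := (T : Subgroup ↥(Subgroup.centralizer ({z} : Set G))) with hT'
  have hmapA : (A.subgroupOf T').map T'.subtype = A := by
    rw [Subgroup.subgroupOf_map_subtype]; exact inf_eq_left.2 hAT
  have hel : ∀ B : Subgroup ↥T', Cfsg.IsElementaryAbelian 2 B → Cfsg.IsElementaryAbelian 2 (B.map T'.subtype) := by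
    rintro B ⟨⟨⟨hc⟩⟩, he⟩
    refine ⟨⟨⟨?_⟩⟩, ?_⟩
    · rintro ⟨_, a, ha, rfl⟩ ⟨_, b, hb, rfl⟩
      exact Subtype.ext (congrArg (fun e : ↥B => T'.subtype (e : ↥T')) (hc ⟨a, ha⟩ ⟨b, hb⟩))
    · rintro _ ⟨a, ha, rfl⟩
      rw [← map_pow, he a ha, map_one]
  have hA' : Cfsg.IsElementaryAbelian 2 (A.subgroupOf T') := by
    obtain ⟨⟨⟨hc⟩⟩, he⟩ := hAel
    exact ⟨⟨⟨fun a b => Subtype.ext (Subtype.ext (congrArg (fun e : ↥A => (e : ↥(Subgroup.centralizer ({z} : Set G))))
      (hc ⟨_, a.2⟩ ⟨_, b.2⟩)))⟩⟩, fun a ha => Subtype.ext (he _ ha)⟩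
  have hAcard : Nat.card (A.subgroupOf T') = 2048 :=
    (Nat.card_congr (Subgroup.subgroupOfEquivOfLe hAT).toEquiv).trans hA
  have hle : ∀ B : Subgroup ↥T', Cfsg.IsElementaryAbelian 2 B → 2048 ≤ Nat.card B → B = A.subgroupOf T' := by
    intro B hB hbig
    have hc : Nat.card (B.map T'.subtype) = Nat.card B := Subgroup.card_map_of_injective T'.subtype_injective
    have e := huniq _ (Subgroup.map_subtype_le B) (hel B hB) (by rw [hc]; exact hbig)
    exact Subgroup.map_injective T'.subtype_injective (e.trans hmapA.symm)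
  refine ⟨A.subgroupOf T', Set.eq_singleton_iff_unique_mem.2 ⟨⟨hA', fun B hB => ?_⟩, fun B hB => ?_⟩, by rw [hAcard]; norm_num, ?_, ?_⟩
  · rw [hAcard]
    by_contra hlt
    push Not at hlt
    have e := hle B hB hlt.le
    rw [e, hAcard] at hlt
    exact lt_irrefl _ hlt
  · exact hle B hB.1 (hAcard ▸ hB.2 _ hA')
  · rw [hmapA, hAQ]; norm_num
  · rw [hmapA]
    have hker : ψ.ker = Q := h.ker_eq
    let ρ : ↥(Subgroup.centralizer ({z} : Set G)) ⧸ Q →* (CfsgLib.Sporadic.LargeFischer.V6 ≃ₗ[ZMod 2] CfsgLib.Sporadic.LargeFischer.V6) :=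
      QuotientGroup.lift Q ψ hker.ge
    have hρ : Function.Injective ρ := by
      refine (injective_iff_map_eq_one ρ).2 fun x hx => ?_
      induction x using QuotientGroup.induction_on with | _ c =>
      exact (QuotientGroup.eq_one_iff c).2 (hker.le (MonoidHom.mem_ker.2 hx))
    have hmap : (A.map (QuotientGroup.mk' Q)).map ρ = A.map ψ := by
      rw [Subgroup.map_map]; rfl
    rw [← hAψ, ← hmap, Subgroup.card_map_of_injective hρ]

end Cfsg.Agent.S5444
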