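import Cfsg.Statements.S5445
import Cfsg.Agent.Lib.Sporadic.LargeFischer.EightLocal

set_option autoImplicit false
open Cfsg

namespace Cfsg.Agent.S5445

/-- Let G be a finite group of large Fischer type at the involution z: the generalized Fitting subgroup Q of H = C_G(z) is extraspecial of order 2^13, H has normal subgroups Q ≤ H₁ ≤ H₂ with H₁/Q of order 3, H₂/H₁ the projective special unitary group of dimension 4 over the field with nine elements and H₂ of index 2 in H, and some conjugate of z other than z lies in Q. Then G has an elementary abelian subgroup V of order 8 containing z whose normalizer L has the following structure: the largest normal 2-subgroup R of L is special of order 2^15 with centre V, and L/R is isomorphic to the direct product of SL(3, 2) and the alternating group of degree 6. -/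
theorem result {G : Type*} [Group G] [Finite G] (z : G) (Q : Subgroup (Subgroup.centralizer ({z} : Set G))) [Q.Normal] (hF : Cfsg.IsOfLargeFischerTypeAt z Q) : ∃ V : Subgroup G, Cfsg.IsElementaryAbelian 2 V ∧ Nat.card V = 8 ∧ z ∈ V ∧ ∃ R : Subgroup G, R = (Cfsg.pCore 2 ↥(Subgroup.normalizer (V : Set G))).map (Subgroup.normalizer (V : Set G)).subtype ∧ Cfsg.IsSpecial 2 ↥R ∧ Nat.card R = 2 ^ 15 ∧ (Subgroup.center ↥R).map R.subtype = V ∧ ∃ _ : (R.subgroupOf (Subgroup.normalizer (V : Set G))).Normal, Nonempty (↥(Subgroup.normalizer (V : Set G)) ⧸ R.subgroupOf (Subgroup.normalizer (V : Set G)) ≃* Matrix.SpecialLinearGroup (Fin 3) (ZMod 2) × ↥(alternatingGroup (Fin 6))) := by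
  classical
  haveI : Fact (Nat.Prime 2) := ⟨Nat.prime_two⟩
  obtain ⟨π, ψ, h⟩ := CfsgLib.Sporadic.LargeFischer.exists_lf z Q hF
  obtain ⟨g, hgQ, hne⟩ := hF.1.2.2.2.2
  have hu : g * z * g⁻¹ ∈ CfsgLib.Sporadic.LargeFischer.qImg Q := CfsgLib.Sporadic.LargeFischer.mem_qImg.2 hgQ
  have hloc := h.eight_local hu hne
  obtain ⟨hsp, hcen⟩ := h.rLine_special hu hne
  set V := h.lineGrp (π (g * z * g⁻¹)) with hV
  set P := h.rLine g with hP
  obtain ⟨Φ, hΦ, hk⟩ := hloc
  have hPN : P ≤ Subgroup.normalizer (V : Set G) := fun y hy =>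
    CfsgLib.Sporadic.LargeFischer.mem_normalizer_of_conj_mem fun b hb => by
      rwa [← Subgroup.mem_centralizer_iff.1 (h.rLine_le hu hne hy) b hb, mul_inv_cancel_right]
  have hker : Φ.ker = P.subgroupOf (Subgroup.normalizer (V : Set G)) := Subgroup.ext fun n => hk n
  have hP2 : IsPGroup 2 Φ.ker := by
    rw [hker]
    exact (h.rLine_two hu hne).comap_of_injective _ (Subgroup.subtype_injective _)
  refine ⟨V, h.isElementary_line hu hne, h.card_line (h.v_ne hu hne), h.z_mem_line _, P, ?_, hsp,
    h.card_rLine hu hne, hcen, hker ▸ Φ.normal_ker, ⟨?_⟩⟩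
  · rw [CfsgLib.Sporadic.LargeFischer.EightQuot.pCore_eq_ker Φ hΦ hP2, hker, Subgroup.map_subgroupOf_eq_of_le hPN]
  · haveI : (P.subgroupOf (Subgroup.normalizer (V : Set G))).Normal := hker ▸ Φ.normal_ker
    exact (QuotientGroup.quotientMulEquivOfEq hker.symm).trans (QuotientGroup.quotientKerEquivOfSurjective Φ hΦ)

end Cfsg.Agent.S5445
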