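import Cfsg.Statements.S5452
import Cfsg.Agent.Lib.Sporadic.U62Lift.Lift

set_option autoImplicit false
open Cfsg

namespace Cfsg.Agent.S5452

/-- Let G be a finite group with an involution d whose centralizer C is quasisimple with C modulo the subgroup generated by d isomorphic to the projective special unitary group of dimension 6 over the field with four elements, and suppose some conjugate of d other than d commutes with d. Then every involution of C modulo the subgroup generated by d is the image of an involution of C, and d is not a square in G. -/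
theorem result {G : Type*} [Group G] [Finite G] (d : G) (hd : orderOf d = 2) (hq : Cfsg.IsQuasisimple ↥(Subgroup.centralizer ({d} : Set G))) [hzn : ((Subgroup.zpowers d).subgroupOf (Subgroup.centralizer ({d} : Set G))).Normal] (K : Type) [Field K] [Fintype K] (hK : Fintype.card K = 4) (e : ↥(Subgroup.centralizer ({d} : Set G)) ⧸ (Subgroup.zpowers d).subgroupOf (Subgroup.centralizer ({d} : Set G)) ≃* Cfsg.PSU 6 K 2) (hnwc : ∃ g : G, g * d * g⁻¹ ∈ Subgroup.centralizer ({d} : Set G) ∧ g * d * g⁻¹ ≠ d) : (∀ x : ↥(Subgroup.centralizer ({d} : Set G)) ⧸ (Subgroup.zpowers d).subgroupOf (Subgroup.centralizer ({d} : Set G)), orderOf x = 2 → ∃ y : ↥(Subgroup.centralizer ({d} : Set G)), orderOf y = 2 ∧ (QuotientGroup.mk y : ↥(Subgroup.centralizer ({d} : Set G)) ⧸ (Subgroup.zpowers d).subgroupOf (Subgroup.centralizer ({d} : Set G))) = x) ∧ ¬ ∃ g : G, g ^ 2 = d := by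
  have hd2 : d * d = 1 := by rw [← pow_two, ← hd, pow_orderOf_eq_one]
  have hd1 : d ≠ 1 := fun h => by simp [h] at hd
  let π : ↥(Subgroup.centralizer ({d} : Set G)) →* Cfsg.PSU 6 K 2 :=
    e.toMonoidHom.comp (QuotientGroup.mk' _)
  let d' : ↥(Subgroup.centralizer ({d} : Set G)) := ⟨d, Subgroup.mem_centralizer_singleton_iff.mpr rfl⟩
  have hπ : Function.Surjective π := e.surjective.comp (QuotientGroup.mk'_surjective _)
  have hdc : ∀ c, Commute c d' := fun c => Subtype.ext (Subgroup.mem_centralizer_singleton_iff.mp c.2)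
  have hd2' : d' * d' = 1 := Subtype.ext hd2
  have hd1' : d' ≠ 1 := fun h => hd1 (congrArg Subtype.val h)
  have hker : ∀ k, π k = 1 → k = 1 ∨ k = d' := by
    intro k hk
    obtain ⟨n, hn⟩ := (QuotientGroup.eq_one_iff k).mp ((MulEquiv.map_eq_one_iff e).mp hk)
    rcases Int.even_or_odd n with ⟨m, rfl⟩ | ⟨m, rfl⟩
    · refine Or.inl (Subtype.ext ?_)
      change d ^ (m + m) = k.1 at hn
      rw [← hn, zpow_add, ← (Commute.refl d).mul_zpow, hd2, one_zpow]
      rfl
    · refine Or.inr (Subtype.ext ?_)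
      change d ^ (2 * m + 1) = k.1 at hn
      rw [← hn, zpow_add, zpow_mul, zpow_two, hd2, one_zpow, one_mul, zpow_one]
  have hdπ : π d' = 1 :=
    (MulEquiv.map_eq_one_iff e).mpr ((QuotientGroup.eq_one_iff d').mpr ⟨1, zpow_one d⟩)
  refine ⟨fun x hx => ?_, fun ⟨g, hg⟩ => ?_⟩
  · have hx1 : x ≠ 1 := fun h => by simp [h] at hx
    have hx2 : e x * e x = 1 := by
      rw [← map_mul, show x * x = 1 by rw [← pow_two, ← hx, pow_orderOf_eq_one], map_one]
    obtain ⟨y, hy, hy2⟩ := CfsgLib.Sporadic.U62Lift.lift_involution hK π d' hπ hdc hd2' hd1' hker hx2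
    have hyx : (QuotientGroup.mk y : _ ⧸ _) = x := e.injective hy
    refine ⟨y, orderOf_eq_prime (by rw [pow_two]; exact hy2) fun h => hx1 ?_, hyx⟩
    rw [← hyx, h]
    rfl
  · have hgc : g ∈ Subgroup.centralizer ({d} : Set G) :=
      Subgroup.mem_centralizer_singleton_iff.mpr (by rw [← hg, ← pow_succ, ← pow_succ'])
    let g' : ↥(Subgroup.centralizer ({d} : Set G)) := ⟨g, hgc⟩
    have hg' : g' * g' = d' := Subtype.ext (by show g * g = d; rw [← pow_two, hg])
    obtain ⟨y, hy, hy2⟩ := CfsgLib.Sporadic.U62Lift.lift_involution hK π d' hπ hdc hd2' hd1' hker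
      (x := π g') (by rw [← map_mul, hg', hdπ])
    rcases hker (y⁻¹ * g') (by rw [map_mul, map_inv, hy, inv_mul_cancel]) with h | h
    · rw [← inv_mul_eq_one.mp h, hy2] at hg'
      exact hd1' hg'.symm
    · rw [inv_mul_eq_iff_eq_mul] at h
      rw [h, (hdc y).symm.mul_mul_mul_comm, hy2, hd2', one_mul] at hg'
      exact hd1' hg'.symm

end Cfsg.Agent.S5452
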