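import Cfsg.Agent.Lib.ThreeTransp.Basic
import Cfsg.Agent.Lib.Components.Quasisimple
import Cfsg.Statements.S5459
-- import your own Cfsg.Agent.* helpers here

set_option autoImplicit false
open Cfsg

namespace Cfsg.Agent.S5459

/-- Let G be a finite group with a quasisimple normal subgroup L and an involution d such that G is generated by L and d, the centre of L has odd order, and d inverts every element of the centre of L. If the commuting graph on the conjugacy class of the image of d in G modulo the centre of L is connected, then the commuting graph on the conjugacy class of d is connected. -/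
theorem result {G : Type*} [Group G] [Finite G] (L : Subgroup G) [L.Normal] (hL : Cfsg.IsQuasisimple ↥L) (d : G) (hd : orderOf d = 2) (hgen : L ⊔ Subgroup.zpowers d = ⊤) (hodd : Odd (Nat.card ↥(Subgroup.center ↥L))) (hinv : ∀ c ∈ (Subgroup.center ↥L).map L.subtype, d * c * d⁻¹ = c⁻¹) [hn : ((Subgroup.center ↥L).map L.subtype).Normal] (hconn : (Cfsg.commutingGraph (conjugatesOf (QuotientGroup.mk d : G ⧸ (Subgroup.center ↥L).map L.subtype))).Connected) : (Cfsg.commutingGraph (conjugatesOf d)).Connected := by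
  classical
  set Z := (Subgroup.center ↥L).map L.subtype with hZdef
  haveI : Group.IsPerfect ↥L := hL.1
  have dd := CfsgLib.ThreeTransp.Basic.sq_one hd
  set D := conjugatesOf d with hD
  have hDinv : ∀ x ∈ D, orderOf x = 2 := by
    intro x hx; obtain ⟨g, rfl⟩ := isConj_iff.1 hx
    exact (orderOf_injective (MulAut.conj g).toMonoidHom (MulAut.conj g).injective d).trans hd
  have hDconj : ∀ (g x : G), x ∈ D → g * x * g⁻¹ ∈ D := fun g x hx =>
    IsConj.trans hx (isConj_iff.2 ⟨g, rfl⟩)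
  have hZL : ∀ z ∈ Z, ∀ l ∈ L, Commute z l := by
    rintro _ ⟨z, hz, rfl⟩ l hl
    exact (congrArg Subtype.val (Subgroup.mem_center_iff.1 hz ⟨l, hl⟩)).symm
  have hinvD : ∀ x ∈ D, ∀ z ∈ Z, x * z * x⁻¹ = z⁻¹ := by
    intro x hx z hz
    obtain ⟨g, rfl⟩ := isConj_iff.1 hx
    have hg : g ∈ ((L ⊔ Subgroup.zpowers d : Subgroup G) : Set G) := by rw [hgen]; trivial
    rw [Subgroup.normal_mul] at hg
    obtain ⟨l, hl, p, hp, rfl⟩ := hg
    obtain ⟨n, rfl⟩ := Subgroup.mem_zpowers_iff.1 hp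
    have e : l * d ^ n * d * (l * d ^ n)⁻¹ = l * d * l⁻¹ := by group
    have hzl : l⁻¹ * z * l = z := by
      rw [mul_assoc, (hZL z hz l hl).eq, inv_mul_cancel_left]
    simp only
    rw [e, show l * d * l⁻¹ * z * (l * d * l⁻¹)⁻¹ = l * (d * (l⁻¹ * z * l) * d⁻¹) * l⁻¹ by group,
      hzl, hinv z hz, ← (hZL z⁻¹ (Z.inv_mem hz) l hl).eq, mul_inv_cancel_right]
  obtain ⟨m, hm⟩ : ∃ m, Nat.card Z = 2 * m + 1 := by
    rw [hZdef, Subgroup.card_map_of_injective L.subtype_injective]; exact hodd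
  have hsq : ∀ z ∈ Z, ∃ c ∈ Z, c * c = z := by
    intro z hz
    refine ⟨z ^ (m + 1), Z.pow_mem hz _, ?_⟩
    have h1 : z ^ (2 * m + 1) = 1 := by
      rw [← hm]; exact congrArg Subtype.val (pow_card_eq_one' (x := (⟨z, hz⟩ : Z)))
    rw [← pow_add, show m + 1 + (m + 1) = 2 * m + 1 + 1 by ring, pow_succ, h1, one_mul]
  have hqD : ∀ g : G, (QuotientGroup.mk (g * d * g⁻¹) : G ⧸ Z) ∈
      conjugatesOf (QuotientGroup.mk d : G ⧸ Z) := fun g =>
    isConj_iff.2 ⟨(g : G ⧸ Z), by simp⟩
  have hdD : d ∈ D := IsConj.refl d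
  set Γ := Cfsg.commutingGraph D with hΓ
  have hadj : ∀ u v : D, Commute (u : G) v → Γ.Reachable u v := by
    intro u v h
    by_cases huv : u = v
    · rw [huv]
    · exact SimpleGraph.Adj.reachable (by
        rw [hΓ, Cfsg.commutingGraph, SimpleGraph.fromRel_adj]; exact ⟨huv, Or.inl h⟩)
  have hlift : ∀ (u v : conjugatesOf (QuotientGroup.mk d : G ⧸ Z)),
      (Cfsg.commutingGraph _).Reachable u v → ∀ x : D, (QuotientGroup.mk (x : G) : G ⧸ Z) = u →
        ∃ y : D, (QuotientGroup.mk (y : G) : G ⧸ Z) = v ∧ Γ.Reachable x y := by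
    rintro u v ⟨w⟩
    induction w with
    | nil => exact fun x hx => ⟨x, hx, SimpleGraph.Reachable.refl x⟩
    | @cons u u' v hadj' _ ih =>
      intro x hx
      rw [Cfsg.commutingGraph, SimpleGraph.fromRel_adj] at hadj'
      have hc : Commute (u : G ⧸ Z) u' := by
        rcases hadj'.2 with h | h
        · exact h
        · exact h.symm
      obtain ⟨g, hg⟩ := isConj_iff.1 u'.2
      obtain ⟨g, rfl⟩ := QuotientGroup.mk_surjective g
      set y := g * d * g⁻¹ with hy
      have hyD : y ∈ D := hDconj g d hdD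
      have hyu : (QuotientGroup.mk y : G ⧸ Z) = u' := by rw [← hg, hy]; simp
      have X := CfsgLib.ThreeTransp.Basic.inv_self (hDinv _ x.2)
      have Y := CfsgLib.ThreeTransp.Basic.inv_self (hDinv _ hyD)
      have hzmem : y⁻¹ * ((x : G) * y * (x : G)⁻¹) ∈ Z := by
        apply QuotientGroup.eq.1
        show ((y : G) : G ⧸ Z) = (QuotientGroup.mk (x : G)) * QuotientGroup.mk y * (QuotientGroup.mk (x : G))⁻¹
        rw [hyu, hx, hc.eq, mul_inv_cancel_right]
      obtain ⟨c, hcZ, hcc⟩ := hsq _ hzmem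
      have hcinv : (x : G) * c * (x : G)⁻¹ = c⁻¹ := hinvD _ x.2 c hcZ
      have hyc : y * c = c⁻¹ * y := by
        rw [← hinvD _ hyD c hcZ, inv_mul_cancel_right]
      have hy' : y * c ∈ D := by
        obtain ⟨e, he, hee⟩ := hsq c hcZ
        have h1 : e⁻¹ * y * e = y * c := by
          rw [← hinvD _ hyD e he, inv_mul_cancel_right, mul_assoc, hee]
        rw [← h1]
        simpa using hDconj e⁻¹ y hyD
      have hcom : Commute (x : G) (y * c) := by
        show (x : G) * (y * c) = y * c * x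
        rw [← mul_inv_eq_iff_eq_mul]
        calc (x : G) * (y * c) * (x : G)⁻¹ = (x * y * (x : G)⁻¹) * (x * c * (x : G)⁻¹) := by group
          _ = y * (c * c) * c⁻¹ := by rw [hcinv, hcc]; group
          _ = y * c := by group
      obtain ⟨z, hz1, hz2⟩ := ih ⟨y * c, hy'⟩ (by
        show (QuotientGroup.mk (y * c) : G ⧸ Z) = u'
        rw [QuotientGroup.mk_mul, (QuotientGroup.eq_one_iff c).2 hcZ, mul_one, hyu])
      exact ⟨z, hz1, (hadj x ⟨_, hy'⟩ hcom).trans hz2⟩
  let d₀ : D := ⟨d, hdD⟩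
  have hstab : ∀ g : G, ∃ f : Γ →g Γ, ∀ x : D, (f x : G) = g * x * g⁻¹ := fun g =>
    ⟨⟨fun x => ⟨g * x * g⁻¹, hDconj g x x.2⟩, fun {a b} h => by
      rw [hΓ, Cfsg.commutingGraph, SimpleGraph.fromRel_adj] at h ⊢
      exact ⟨fun e => h.1 (Subtype.ext (by simpa using congrArg Subtype.val e)),
        h.2.imp (Commute.conj_iff g).2 (Commute.conj_iff g).2⟩⟩, fun x => rfl⟩
  let H : Subgroup G :=
    { carrier := {g | ∀ x : D, (x : G) = g * d * g⁻¹ → Γ.Reachable d₀ x}
      one_mem' := fun x hx => by rw [show x = d₀ from Subtype.ext (by simpa using hx)]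
      mul_mem' := fun {g k} hg hk x hx => by
        obtain ⟨f, hf⟩ := hstab g
        have h1 := hk ⟨k * d * k⁻¹, hDconj k d hdD⟩ rfl
        have h2 := hg (f d₀) (hf d₀)
        refine h2.trans ?_
        have h3 := h1.map f
        rwa [show f ⟨k * d * k⁻¹, hDconj k d hdD⟩ = x from Subtype.ext (by
          rw [hf, hx]; show g * (k * d * k⁻¹) * g⁻¹ = _; group)] at h3
      inv_mem' := fun {g} hg x hx => by
        obtain ⟨f, hf⟩ := hstab g⁻¹
        have h1 := (hg ⟨g * d * g⁻¹, hDconj g d hdD⟩ rfl).map f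
        rw [show f d₀ = x from Subtype.ext (by rw [hf, hx]),
          show f ⟨g * d * g⁻¹, hDconj g d hdD⟩ = d₀ from Subtype.ext (by rw [hf]; simp [d₀, mul_assoc])] at h1
        exact h1.symm }
  have hmemH : ∀ x : D, Γ.Reachable d₀ x → (x : G) ∈ H := by
    intro x hx y hy
    obtain ⟨f, hf⟩ := hstab x
    have h1 := hx.map f
    rw [show f x = x from Subtype.ext (by rw [hf]; simp),
      show f d₀ = y from Subtype.ext (by rw [hf, hy])] at h1
    exact hx.trans h1.symm
  have hHZ : ∀ g : G, g * d * g⁻¹ ∈ H ⊔ Z := by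
    intro g
    have hr := hlift ⟨_, IsConj.refl _⟩ ⟨_, hqD g⟩ (hconn.preconnected _ _) d₀ rfl
    obtain ⟨y, hy, hyr⟩ := hr
    have hz : (y : G)⁻¹ * (g * d * g⁻¹) ∈ Z := QuotientGroup.eq.1 hy
    rw [← mul_inv_cancel_left (y : G) (g * d * g⁻¹)]
    exact Subgroup.mul_mem_sup (hmemH y hyr) hz
  haveI : Nonempty D := ⟨d₀⟩
  refine SimpleGraph.Connected.mk fun u v => ?_
  suffices key : ∀ u : D, Γ.Reachable d₀ u by exact (key u).symm.trans (key v)
  intro u
  set K := Subgroup.normalClosure ({d} : Set G) with hK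
  rcases CfsgLib.Components.IsQuasisimple.normal_le_center_or_top hL (K.subgroupOf L)
    with hKc | hKt
  · -- `d` centralises `L`, so it is its own conjugacy class
    have hcomm : ∀ l ∈ L, d * l * d⁻¹ * l⁻¹ ∈ Z := by
      intro l hl
      have h1 : d * l * d⁻¹ * l⁻¹ ∈ K := by
        have hdK : d ∈ K := Subgroup.subset_normalClosure rfl
        have := K.mul_mem hdK ((inferInstance : K.Normal).conj_mem _ (K.inv_mem hdK) l)
        simpa [mul_assoc] using this
      have h2 : d * l * d⁻¹ * l⁻¹ ∈ L :=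
        L.mul_mem ((inferInstance : L.Normal).conj_mem l hl d) (L.inv_mem hl)
      exact ⟨⟨_, h2⟩, hKc h1, rfl⟩
    let φ : L →* Z :=
      { toFun := fun l => ⟨d * l * d⁻¹ * (l : G)⁻¹, hcomm l l.2⟩
        map_one' := Subtype.ext (by simp)
        map_mul' := fun l k => Subtype.ext (by
          show d * (l * k : G) * d⁻¹ * (l * k : G)⁻¹ =
            d * l * d⁻¹ * (l : G)⁻¹ * (d * k * d⁻¹ * (k : G)⁻¹)
          have := (hZL _ (hcomm k k.2) (l : G)⁻¹ (L.inv_mem l.2)).eq
          calc d * (l * k : G) * d⁻¹ * (l * k : G)⁻¹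
              = d * l * d⁻¹ * ((d * k * d⁻¹ * (k : G)⁻¹) * (l : G)⁻¹) := by group
            _ = _ := by rw [this]; group) }
    have hφ : ∀ l : L, φ l = 1 := by
      intro l
      have hab : ∀ a b : Z, a * b = b * a := fun a b => by
        obtain ⟨a', -, ha'⟩ := b.2
        exact Subtype.ext (hZL _ a.2 _ (ha' ▸ a'.2))
      have hle : commutator ↥L ≤ φ.ker := by
        rw [commutator_def, Subgroup.commutator_le]
        intro a _ b _
        rw [MonoidHom.mem_ker, commutatorElement_def, map_mul, map_mul, map_mul, map_inv, map_inv,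
          hab (φ a) (φ b), mul_inv_cancel_right, mul_inv_cancel]
      rw [hL.1.commutator_eq_top] at hle
      exact hle (Subgroup.mem_top l)
    have hu : u = d₀ := by
      obtain ⟨g, hg⟩ := isConj_iff.1 u.2
      have hg' : g ∈ ((L ⊔ Subgroup.zpowers d : Subgroup G) : Set G) := by rw [hgen]; trivial
      rw [Subgroup.normal_mul] at hg'
      obtain ⟨l, hl, p, hp, rfl⟩ := hg'
      obtain ⟨n, rfl⟩ := Subgroup.mem_zpowers_iff.1 hp
      apply Subtype.ext
      rw [← hg]
      have h1 : d * l * d⁻¹ * l⁻¹ = 1 := congrArg Subtype.val (hφ ⟨l, hl⟩)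
      show l * d ^ n * d * (l * d ^ n)⁻¹ = d
      calc l * d ^ n * d * (l * d ^ n)⁻¹ = (d * l * d⁻¹ * l⁻¹)⁻¹ * d := by group
        _ = d := by rw [h1]; simp
    rw [hu]
  · have hKtop : K ≤ H ⊔ Z := by
      haveI : Z.Normal := hn
      have h1 : K ≤ Subgroup.closure (Group.conjugatesOfSet ({d} : Set G)) := le_rfl
      refine h1.trans ((Subgroup.closure_le _).2 ?_)
      intro x hx
      obtain ⟨a, ha, hax⟩ := Group.mem_conjugatesOfSet_iff.1 hx
      obtain rfl : a = d := ha
      obtain ⟨g, rfl⟩ := isConj_iff.1 hax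
      exact hHZ g
    have hLH : L ≤ H := by
      have hdecomp : ∀ l ∈ L, ∃ h ∈ H, ∃ z ∈ Z, l = h * z ∧ h ∈ L := by
        intro l hl
        have : l ∈ K := by
          have h : (⟨l, hl⟩ : L) ∈ K.subgroupOf L := by rw [hKt]; trivial
          exact h
        have h2 : l ∈ ((H ⊔ Z : Subgroup G) : Set G) := hKtop this
        rw [Subgroup.mul_normal] at h2
        obtain ⟨h, hh, z, hz, rfl⟩ := h2
        refine ⟨h, hh, z, hz, rfl, ?_⟩
        have hzL : z ∈ L := by obtain ⟨z', -, rfl⟩ := hz; exact z'.2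
        simpa using L.mul_mem hl (L.inv_mem hzL)
      have hle : commutator ↥L ≤ H.subgroupOf L := by
        rw [commutator_def, Subgroup.commutator_le]
        rintro ⟨a, ha⟩ - ⟨b, hb⟩ -
        obtain ⟨h, hh, z, hz, rfl, hhL⟩ := hdecomp a ha
        obtain ⟨k, hk, z', hz', rfl, hkL⟩ := hdecomp b hb
        rw [Subgroup.mem_subgroupOf]
        show h * z * (k * z') * (h * z)⁻¹ * (k * z')⁻¹ ∈ H
        have e1 := (hZL z hz (k * z') hb).eq
        have e : h * z * (k * z') * (h * z)⁻¹ * (k * z')⁻¹ = h * k * (z' * h⁻¹) * z'⁻¹ * k⁻¹ := by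
          calc h * z * (k * z') * (h * z)⁻¹ * (k * z')⁻¹
              = h * (z * (k * z')) * z⁻¹ * h⁻¹ * (k * z')⁻¹ := by group
            _ = h * k * (z' * h⁻¹) * z'⁻¹ * k⁻¹ := by rw [e1]; group
        rw [e, (hZL z' hz' h⁻¹ (L.inv_mem hhL)).eq]
        have : h * k * (h⁻¹ * z') * z'⁻¹ * k⁻¹ = h * k * h⁻¹ * k⁻¹ := by group
        rw [this]
        exact H.mul_mem (H.mul_mem (H.mul_mem hh hk) (H.inv_mem hh)) (H.inv_mem hk)
      rw [hL.1.commutator_eq_top] at hle
      intro l hl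
      exact hle (Subgroup.mem_top (⟨l, hl⟩ : L))
    obtain ⟨g, hg⟩ := isConj_iff.1 u.2
    have hgH : g ∈ H := by
      have : (⊤ : Subgroup G) ≤ H := by
        rw [← hgen, sup_le_iff, Subgroup.zpowers_le]
        exact ⟨hLH, hmemH d₀ (SimpleGraph.Reachable.refl _)⟩
      exact this (Subgroup.mem_top g)
    exact hgH u hg.symm

end Cfsg.Agent.S5459
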