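import Cfsg.Statements.S5461
import Cfsg.Agent.Lib.Sporadic.MonsterFusion.FINormalizer
import Cfsg.Agent.Lib.Sporadic.Fi24Recognition.FromCentraliser
import Cfsg.Agent.S1698

set_option autoImplicit false
open Cfsg

namespace Cfsg.Agent.S5461

/-- Let G be a finite group of Monster type at the involution z with Q the extraspecial normal subgroup of order 2^25 of C_G(z) (C_G(z)/Q identified with the first Conway group with Q modulo its centre the Leech lattice modulo 2, z not weakly closed in Q). Let s be a conjugate of z (in G) lying in Q and other than z, and Y a subgroup of order 3 of the joint centralizer of z and s lying in the centre of some Sylow 3-subgroup of it. Then the centralizer of Y is quasisimple, its quotient by Y is isomorphic to the commutator subgroup of the presented Fischer group Fi₂₄, and the normalizer of Y modulo Y is generated by a conjugacy class of 3-transpositions with respect to which it is of type M(24). -/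
theorem result {G : Type*} [Group G] [Finite G] (z : G) (Q : Subgroup (Subgroup.centralizer ({z} : Set G))) [Q.Normal] (hM : Cfsg.IsOfMonsterType z Q) (s : G) (hsQ : ∃ hsc : s ∈ Subgroup.centralizer ({z} : Set G), (⟨s, hsc⟩ : Subgroup.centralizer ({z} : Set G)) ∈ Q) (hs : IsConj z s) (hs1 : s ≠ z) (Y : Subgroup G) (hY : Y ≤ Subgroup.centralizer ({z, s} : Set G)) (hY3 : Nat.card Y = 3) (hc : ∃ P : Sylow 3 ↥(Subgroup.centralizer ({z, s} : Set G)), Y.subgroupOf (Subgroup.centralizer ({z, s} : Set G)) ≤ (Subgroup.center ↥(P : Subgroup ↥(Subgroup.centralizer ({z, s} : Set G)))).map (P : Subgroup ↥(Subgroup.centralizer ({z, s} : Set G))).subtype) [hn : (Y.subgroupOf (Subgroup.centralizer (Y : Set G))).Normal] [hn' : (Y.subgroupOf (Subgroup.normalizer (Y : Set G))).Normal] : Cfsg.IsQuasisimple ↥(Subgroup.centralizer (Y : Set G)) ∧ Cfsg.Spor.IsoFi24' (↥(Subgroup.centralizer (Y : Set G)) ⧸ Y.subgroupOf (Subgroup.centralizer (Y : Set G))) ∧ ∃ E : Set (↥(Subgroup.normalizer (Y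 : Set G)) ⧸ Y.subgroupOf (Subgroup.normalizer (Y : Set G))), Cfsg.IsThreeTranspositionClass E ∧ Cfsg.IsOfTypeM24 _ E := by
  obtain ⟨e, ψ, hψ⟩ := hM.2
  obtain ⟨hsC, hsQ'⟩ := hsQ
  have F0 : CfsgLib.Sporadic.MonsterFusion.Frame Q e ψ := ⟨hM.1, hψ⟩
  obtain ⟨b, e', ψ', rfl, hb3, F, hb⟩ :=
    CfsgLib.Sporadic.MonsterFusion.FI.setup F0 hsC hsQ' hs hs1 Y hY hY3 hc
  set π0 := QuotientGroup.mk' ((Subgroup.zpowers (b : G)).subgroupOf (Subgroup.normalizer (Subgroup.zpowers (b : G) : Set G)))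
    with hπ0
  have hker0 : ∀ n, π0 n = 1 ↔ (n : G) ∈ Subgroup.zpowers (b : G) := fun n => by
    rw [hπ0, QuotientGroup.mk'_apply, QuotientGroup.eq_one_iff, Subgroup.mem_subgroupOf]
  have hle : Subgroup.centralizer (Subgroup.zpowers (b : G) : Set G) ≤
      Subgroup.normalizer (Subgroup.zpowers (b : G) : Set G) := Subgroup.centralizer_le_normalizer _
  set G₀ := ((Subgroup.centralizer (Subgroup.zpowers (b : G) : Set G)).subgroupOf
      (Subgroup.normalizer (Subgroup.zpowers (b : G) : Set G))).map π0 with hG₀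
  have hYC : ∀ x : G, x ∈ Subgroup.zpowers (b : G) → x ∈ Subgroup.centralizer (Subgroup.zpowers (b : G) : Set G) :=
    fun x hx => by
      obtain ⟨i, rfl⟩ := Subgroup.mem_zpowers_iff.1 hx
      exact CfsgLib.Sporadic.MonsterFusion.FI.mem_centralizer_zpowers.2 ((Commute.refl (b : G)).zpow_right i).eq
  have hidx : G₀.index = 2 := by
    rw [hG₀, Subgroup.index_map_eq _ (f := π0) (QuotientGroup.mk'_surjective _) (fun n hn => Subgroup.mem_subgroupOf.2
      (hYC _ ((hker0 n).1 hn)))]
    exact CfsgLib.Sporadic.MonsterFusion.FI.centralizer_index F hb3 hb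
  haveI : G₀.Normal := Subgroup.normal_of_index_eq_two hidx
  let π : ↥(Subgroup.centralizer (Subgroup.zpowers (b : G) : Set G)) →* ↥G₀ :=
    (π0.comp (Subgroup.inclusion hle)).codRestrict G₀ fun x => ⟨Subgroup.inclusion hle x, x.2, rfl⟩
  have hπsurj : Function.Surjective π := by
    rintro ⟨_, n, hn, rfl⟩
    exact ⟨⟨n, hn⟩, Subtype.ext rfl⟩
  have hπker : ∀ x, π x = 1 ↔ (x : G) ∈ Subgroup.zpowers (b : G) := fun x =>
    Subtype.ext_iff.trans (hker0 (Subgroup.inclusion hle x))
  have hzC := CfsgLib.Sporadic.MonsterFusion.FI.z_mem_centralizer F hb3 hb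
  obtain ⟨R, hR, hLF, himg⟩ := CfsgLib.Sporadic.MonsterFusion.FI.main_fi_at F b hb3 hb π hπsurj hπker hzC
  haveI := hR
  obtain ⟨hiso, hE⟩ := CfsgLib.Sporadic.Fi24Recognition.isoFi24_of_outer G₀ hidx (π ⟨z, hzC⟩) R hLF (by
    intro x hxz hxR
    obtain ⟨n, rfl⟩ := QuotientGroup.mk'_surjective _ x
    by_cases hnC : (n : G) ∈ Subgroup.centralizer (Subgroup.zpowers (b : G) : Set G)
    · obtain ⟨_, _, h⟩ := CfsgLib.Sporadic.LargeFischer.exists_lf _ R hLF
      refine ⟨π ⟨n, hnC⟩, h.cent_le _ fun a ha => Subtype.ext (hxR a ha), rfl⟩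
    · exfalso
      refine CfsgLib.Sporadic.MonsterFusion.FI.outer_moves F hb3 hb n.2 hnC ?_ fun q hq => ?_
      · refine (hker0 (n * ⟨z, hle hzC⟩ * n⁻¹ * (⟨z, hle hzC⟩)⁻¹)).1 ?_
        rw [map_mul, map_mul, map_mul, map_inv, map_inv]
        refine mul_inv_eq_one.2 (mul_inv_eq_iff_eq_mul.2 ?_)
        exact hxz
      · obtain ⟨hqC, r, hr, hre⟩ := himg q hq
        refine (hker0 ((⟨_, hle hqC⟩ * n)⁻¹ * (n * ⟨_, hle hqC⟩))).1 ?_
        rw [map_mul, map_inv, map_mul, map_mul, inv_mul_eq_one]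
        have := hxR _ (hre ▸ CfsgLib.Sporadic.LargeFischer.mem_qImg.2 ⟨r.2, hr⟩)
        exact this.symm)
  have hkq : π.ker = (Subgroup.zpowers (b : G)).subgroupOf (Subgroup.centralizer (Subgroup.zpowers (b : G) : Set G)) := by
    ext x
    rw [MonoidHom.mem_ker, hπker, Subgroup.mem_subgroupOf]
  let j := (QuotientGroup.quotientMulEquivOfEq hkq).symm.trans (QuotientGroup.quotientKerEquivOfSurjective π hπsurj)
  obtain ⟨i⟩ := hiso
  refine ⟨?_, ⟨j.trans i⟩, hE⟩
  haveI : IsSimpleGroup Cfsg.Spor.Fi24' := Cfsg.Agent.S1698.result.1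
  refine CfsgLib.Sporadic.MonsterFusion.FI.centralizer_quasisimple F hb3 hb (j.trans i).isSimpleGroup fun hc => ?_
  have hab : ∀ x y : Cfsg.Spor.Fi24', x * y = y * x := fun x y => by
    have := congrArg (j.trans i) (hc ((j.trans i).symm x) ((j.trans i).symm y))
    simpa using this
  letI : CommGroup Cfsg.Spor.Fi24' := { (inferInstance : Group Cfsg.Spor.Fi24') with mul_comm := hab }
  have hp := IsSimpleGroup.prime_card (α := Cfsg.Spor.Fi24')
  rw [Cfsg.Agent.S1698.result.2] at hp
  exact absurd hp (Nat.not_prime_of_dvd_of_lt (m := 2) (by norm_num) le_rfl (by norm_num))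

end Cfsg.Agent.S5461
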