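import Cfsg.Statements.S5463
import Cfsg.Agent.Lib.ThreeTransp.Indep.Types

set_option autoImplicit false
open Cfsg

namespace Cfsg.Agent.S5463

/-- Let G be a finite group with trivial centre generated by a conjugation-invariant set D of 3-transpositions on which it acts primitively, such that for some d in D the subgroup generated by the members of D other than d commuting with d has central largest normal 2- and 3-subgroups, and suppose G with D is of type M(22). A product j of two distinct commuting members of D determines the pair: any two 2-element sets of commuting members of D with product j coincide. A product j of three distinct pairwise commuting members of D arises from exactly two such 3-element sets. -/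
theorem result {G : Type*} [Group G] [Finite G] {D : Set G} (hD : Cfsg.IsThreeTranspositionGroup D) (hprim : Cfsg.IsPrimitiveUnderConj D) (d₀ : G) (hd₀ : d₀ ∈ D) (h3 : Cfsg.pCore 3 ↥(Subgroup.closure {y : G | y ∈ D ∧ y ≠ d₀ ∧ Commute d₀ y}) ≤ Subgroup.center ↥(Subgroup.closure {y : G | y ∈ D ∧ y ≠ d₀ ∧ Commute d₀ y})) (h2 : Cfsg.pCore 2 ↥(Subgroup.closure {y : G | y ∈ D ∧ y ≠ d₀ ∧ Commute d₀ y}) ≤ Subgroup.center ↥(Subgroup.closure {y : G | y ∈ D ∧ y ≠ d₀ ∧ Commute d₀ y})) (h22 : Cfsg.IsOfTypeM22 G D) : (∀ (j : G) (l l' : List G), (l.Nodup ∧ l.length = 2 ∧ (∀ a ∈ l, a ∈ D) ∧ (∀ a ∈ l, ∀ b ∈ l, Commute a b) ∧ l.prod = j) → (l'.Nodup ∧ l'.length = 2 ∧ (∀ a ∈ l', a ∈ D) ∧ (∀ a ∈ l', ∀ b ∈ l', Commute a b) ∧ l'.prod = j) → (∀ x : G, x ∈ l ↔ x ∈ l')) ∧ ∀ (j : G) (l₀ : List G), (l₀.Nodup ∧ l₀.length = 3 ∧ (∀ a ∈ l₀, a ∈ D) ∧ (∀ a ∈ l₀, ∀ b ∈ l₀, Commute a b) ∧ l₀.prod = j) → ∃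 l₁ l₂ : List G, (l₁.Nodup ∧ l₁.length = 3 ∧ (∀ a ∈ l₁, a ∈ D) ∧ (∀ a ∈ l₁, ∀ b ∈ l₁, Commute a b) ∧ l₁.prod = j) ∧ (l₂.Nodup ∧ l₂.length = 3 ∧ (∀ a ∈ l₂, a ∈ D) ∧ (∀ a ∈ l₂, ∀ b ∈ l₂, Commute a b) ∧ l₂.prod = j) ∧ ¬ (∀ x : G, x ∈ l₁ ↔ x ∈ l₂) ∧ ∀ l : List G, (l.Nodup ∧ l.length = 3 ∧ (∀ a ∈ l, a ∈ D) ∧ (∀ a ∈ l, ∀ b ∈ l, Commute a b) ∧ l.prod = j) → ((∀ x : G, x ∈ l ↔ x ∈ l₁) ∨ (∀ x : G, x ∈ l ↔ x ∈ l₂)) := by
  classical
  have hg := CfsgLib.ThreeTransp.Indep.good_m22_top hD hprim h22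
  obtain ⟨hI, -, -, hinj, hL⟩ := CfsgLib.ThreeTransp.Indep.m22_facts hg h22
  constructor
  · rintro j l l' ⟨h1, h2, h3, h4, he⟩ ⟨h1', h2', h3', h4', he'⟩
    rcases CfsgLib.ThreeTransp.Indep.same_or_disjoint hD hI (m := 2) (by norm_num) (by norm_num)
      ⟨h1, h2, h3, h4⟩ ⟨h1', h2', h3', h4'⟩ (he.trans he'.symm) with h | ⟨h, -⟩
    · exact h
    · omega
  · rintro j l₀ ⟨h1, h2, h3, h4, he⟩
    obtain ⟨a, b, c, rfl⟩ := List.length_eq_three.1 h2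
    simp only [List.nodup_cons, List.mem_cons, List.not_mem_nil, or_false, not_or] at h1
    obtain ⟨⟨hab, hac⟩, hbc, -⟩ := h1
    have ha := h3 a (by simp)
    obtain ⟨L, ⟨l1, l2, l3, l4, l5⟩, haL, honly⟩ := CfsgLib.ThreeTransp.Indep.triple_two hg hI hinj
      hL (a := a) (b := b) (c := c) ha ⟨h3 b (by simp), Ne.symm hab, h4 a (by simp) b (by simp)⟩
      ⟨h3 c (by simp), Ne.symm hac, h4 a (by simp) c (by simp)⟩ hbc (h4 b (by simp) c (by simp))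
    refine ⟨[a, b, c], L, ⟨by simp [hab, hac, hbc], rfl, h3, h4, he⟩,
      ⟨l1, l2, l3, l4, l5.trans he⟩, fun h => haL ((h a).1 (by simp)), ?_⟩
    rintro l ⟨k1, k2, k3, k4, k5⟩
    exact honly l ⟨k1, k2, k3, k4⟩ (k5.trans he.symm)

end Cfsg.Agent.S5463
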