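import Cfsg.Statements.S5471
import Cfsg.Agent.Lib.Sporadic.FischerTripleSwap
import Cfsg.Agent.S5464

set_option autoImplicit false
open Cfsg

namespace Cfsg.Agent.S5471

/-- Let G be a finite group with trivial centre generated by a conjugation-invariant set D of 3-transpositions on which it acts primitively, such that for some d in D the subgroup generated by the members of D other than d commuting with d has central largest normal 2- and 3-subgroups, and suppose G with D is of type M(23). Let d₁, d₂, d₃ be distinct pairwise commuting members of D and j their product. Then the joint centralizer of d₁, d₂, d₃ is normal in the centralizer of j with quotient isomorphic to the symmetric group of degree 3. -/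
theorem result {G : Type*} [Group G] [Finite G] {D : Set G} (hD : Cfsg.IsThreeTranspositionGroup D) (hprim : Cfsg.IsPrimitiveUnderConj D) (d₀ : G) (hd₀ : d₀ ∈ D) (h3 : Cfsg.pCore 3 ↥(Subgroup.closure {y : G | y ∈ D ∧ y ≠ d₀ ∧ Commute d₀ y}) ≤ Subgroup.center ↥(Subgroup.closure {y : G | y ∈ D ∧ y ≠ d₀ ∧ Commute d₀ y})) (h2 : Cfsg.pCore 2 ↥(Subgroup.closure {y : G | y ∈ D ∧ y ≠ d₀ ∧ Commute d₀ y}) ≤ Subgroup.center ↥(Subgroup.closure {y : G | y ∈ D ∧ y ≠ d₀ ∧ Commute d₀ y})) (h23 : Cfsg.IsOfTypeM23 G D) (d₁ d₂ d₃ : G) (h₁ : d₁ ∈ D) (h₂ : d₂ ∈ D) (h₃ : d₃ ∈ D) (h12 : d₁ ≠ d₂) (h13 : d₁ ≠ d₃) (h23 : d₂ ≠ d₃) (c12 : Commute d₁ d₂) (c13 : Commute d₁ d₃) (c23 : Commute d₂ d₃) (K C : Subgroup G) (hK : K = Subgroup.centralizer ({d₁, d₂, d₃} : Set G)) (hC : C = Subgroup.centralizer ({d₁ * d₂ * d₃} : Set G)) : K ≤ C ∧ ∃ _ : (K.subgroupOf C).Normal, Nonempty (↥C ⧸ K.subgroupOf C ≃* Equiv.Perm (Fin 3)) := by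
  have hinj : Function.Injective ![d₁, d₂, d₃] := by
    intro i j h
    fin_cases i <;> fin_cases j <;> simp_all [Matrix.vecHead, Matrix.vecTail]
  refine CfsgLib.Sporadic.FischerTripleSwap.centralizer_quotient hD hprim ![d₁, d₂, d₃] ?_ hinj ?_ ?_ K C
    (by simpa using hK) (by simpa using hC)
  · intro i; fin_cases i <;> assumption
  · intro i j
    fin_cases i <;> fin_cases j <;>
      first | exact Commute.refl _ | assumption | exact c12.symm | exact c13.symm | exact c23.symm
  · intro l h1 h2' h3' h4 h5 a ha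
    have h := Cfsg.Agent.S5464.result hD hprim d₀ hd₀ h3 h2 (Or.inl ‹Cfsg.IsOfTypeM23 G D›) 3 le_rfl (d₁ * d₂ * d₃) l [d₁, d₂, d₃]
      ⟨h1, h2', h3', h4, by simpa using h5⟩
      ⟨by simp [h12, h13, h23], rfl, by simp [h₁, h₂, h₃],
        by simp [c12, c13, c23, c12.symm, c13.symm, c23.symm], by simp [mul_assoc]⟩ a
    rcases List.mem_cons.1 (h.1 ha) with h | h
    · exact ⟨0, h⟩
    rcases List.mem_cons.1 h with h | h
    · exact ⟨1, h⟩
    exact ⟨2, List.mem_singleton.1 h⟩

end Cfsg.Agent.S5471
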