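import Cfsg.Statements.S5474
import Cfsg.Agent.Lib.ThreeTransp.TypeTwentyFour.Rows
import Cfsg.Agent.Lib.ThreeTransp.TypeTwentyFour.Fixed
import Cfsg.Agent.Lib.ThreeTransp.TypeTwentyFour.Classes
import Cfsg.Agent.Lib.Sporadic.FiTransfer.Transfer
import Cfsg.Agent.Lib.Sporadic.FiTransfer.Involutions.Statement
import Cfsg.Agent.Lib.ThreeTransp.TypeTwentyFour.ClassesModel
import Cfsg.Agent.Lib.ThreeTransp.TypeTwentyFour.Unique24
import Cfsg.Agent.Lib.Sporadic.FiTransfer23.ClassUnique.Statement
-- import your own Cfsg.Agent.* helpers here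

set_option autoImplicit false
open Cfsg

namespace Cfsg.Agent.S5474

/-- Let G be a finite group with trivial centre generated by a conjugation-invariant set D of 3-transpositions on which it acts primitively, such that for some d in D the subgroup generated by the members of D other than d commuting with d has central largest normal 2- and 3-subgroups, and suppose G with D is of type M(24). Then D is the only conjugacy class of 3-transpositions generating G. -/
theorem result {G : Type*} [Group G] [Finite G] {D : Set G} (hD : Cfsg.IsThreeTranspositionGroup D) (hprim : Cfsg.IsPrimitiveUnderConj D) (d₀ : G) (hd₀ : d₀ ∈ D) (h3 : Cfsg.pCore 3 ↥(Subgroup.closure {y : G | y ∈ D ∧ y ≠ d₀ ∧ Commute d₀ y}) ≤ Subgroup.center ↥(Subgroup.closure {y : G | y ∈ D ∧ y ≠ d₀ ∧ Commute d₀ y})) (h2 : Cfsg.pCore 2 ↥(Subgroup.closure {y : G | y ∈ D ∧ y ≠ d₀ ∧ Commute d₀ y}) ≤ Subgroup.center ↥(Subgroup.closure {y : G | y ∈ D ∧ y ≠ d₀ ∧ Commute d₀ y})) (h24 : Cfsg.IsOfTypeM24 G D) (D' : Set G) (hD' : Cfsg.IsThreeTranspositionClass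 D') : D' = D := by
  have T := CfsgLib.ThreeTransp.TypeTwentyFour.data_of_transfer (fun G _ _ D h1 h2 h3 => CfsgLib.Sporadic.FiTransfer.modelIso h1 h2 h3) hD hprim h24
  obtain ⟨-, hI, -⟩ := CfsgLib.ThreeTransp.TypeTwentyFour.setup hD hprim h24
  have hcl := T.involution_classes hI
    CfsgLib.ThreeTransp.TypeTwentyFour.classesTwentyThree
    (fun x hx => T.fixes_member hD hprim h24 (fun G _ _ D h1 h2 h3 => CfsgLib.Sporadic.FiTransfer.modelIso h1 h2 h3)
      (fun H _ _ E h φ hφ => CfsgLib.Sporadic.FiTransfer.Involutions.fixes_member h φ hφ) hx)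
  exact T.class_unique hI (fun H _ _ E h E' hE' => CfsgLib.Sporadic.FiTransfer23.ClassUnique.class_unique h E' hE') hcl.1 D' hD'

end Cfsg.Agent.S5474
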