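import Cfsg.Statements.S5514
import Cfsg.Agent.Lib.ThreeTransp.OmegaSevenSeparate
import Cfsg.Agent.Lib.Classical.PrimeGraphBC

set_option autoImplicit false
open Cfsg

namespace Cfsg.Agent.S5514

open CfsgLib.Orth CfsgLib.Classical CfsgLib.Classical.PrimeGraphTransfer CfsgLib.Classical.SympOrders
open CfsgLib.ThreeTransp.OmegaSeven Subgroup

theorem exists_iso : Nonempty (Cfsg.POmega (ZMod 3) (Cfsg.quadFormOdd 3 (ZMod 3)) ≃* ↥Om) := by
  have h2 : (2 : ZMod 3) ≠ 0 := by decide
  have hQ := oddForm_nondeg (F := ZMod 3) 3 h2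
  let E := omegaEquiv (oddForm (ZMod 3) 3) (oddForm_apply (F := ZMod 3) 3)
  have hbot : ∀ z ∈ center ↥(Cfsg.Omega (ZMod 3) (Cfsg.quadFormOdd 3 (ZMod 3))), z = 1 := by
    intro z hz
    have hzc : E z ∈ center _ := mem_center_iff.2 fun c => by
      obtain ⟨c, rfl⟩ := E.surjective c
      rw [← map_mul, ← map_mul, mem_center_iff.1 hz c]
    rcases eq_one_or_negEl_of_commute hQ h2 (hypPairs_odd 3 (by norm_num)) (E z).1
      (central_commutes (E z) hzc) with h | h
    · exact E.injective (by rw [map_one]; exact Subtype.ext h)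
    · exfalso
      have hd := ((mem_commutator_odd hQ h2 (E z).1).1 (E z).2).1
      rw [h, show ((negEl (oddForm (ZMod 3) 3)).1 : (Unit ⊕ (Fin 3 ⊕ Fin 3) → ZMod 3) →ₗ[ZMod 3] _) =
          (-1 : ZMod 3) • LinearMap.id from LinearMap.ext fun v => (neg_one_smul (ZMod 3) v).symm,
        LinearMap.det_smul, LinearMap.det_id, mul_one, Module.finrank_fintype_fun_eq_card] at hd
      simp only [Fintype.card_sum, Fintype.card_unit, Fintype.card_fin] at hd
      revert hd
      decide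
  have hinj : Function.Injective
      (QuotientGroup.mk' (center ↥(Cfsg.Omega (ZMod 3) (Cfsg.quadFormOdd 3 (ZMod 3))))) := by
    rw [injective_iff_map_eq_one]
    exact fun z hz => hbot z ((QuotientGroup.eq_one_iff z).1 hz)
  exact ⟨(MulEquiv.ofBijective _ ⟨hinj, QuotientGroup.mk'_surjective _⟩).symm.trans E⟩

/-- The commutator subgroup of the isometry group of a non-degenerate 7-dimensional quadratic form over the field with three elements, modulo its (trivial) centre — the simple group Ω(7, 3) — has exactly seven conjugacy classes of subgroups of order 3. -/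
theorem result : ∃ Y : Fin 7 → Subgroup (Cfsg.POmega (ZMod 3) (Cfsg.quadFormOdd 3 (ZMod 3))), (∀ i, Nat.card (Y i) = 3) ∧ (∀ i j, (∃ g : Cfsg.POmega (ZMod 3) (Cfsg.quadFormOdd 3 (ZMod 3)), (Y i).map (MulAut.conj g).toMonoidHom = Y j) → i = j) ∧ (∀ X : Subgroup (Cfsg.POmega (ZMod 3) (Cfsg.quadFormOdd 3 (ZMod 3))), Nat.card X = 3 → ∃ i, ∃ g : Cfsg.POmega (ZMod 3) (Cfsg.quadFormOdd 3 (ZMod 3)), X.map (MulAut.conj g).toMonoidHom = Y i) := by
  obtain ⟨φ⟩ := exists_iso
  let y : Fin 7 → Cfsg.POmega (ZMod 3) (Cfsg.quadFormOdd 3 (ZMod 3)) :=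
    fun i => φ.symm ⟨rep i.1, (rep_spec i.2).1⟩
  have hy : ∀ i : Fin 7, (φ (y i)).1 = rep i.1 := fun i => by
    show (φ (φ.symm _)).1 = _
    rw [MulEquiv.apply_symm_apply]
  have hord : ∀ i, orderOf (y i) = 3 := fun i => by
    rw [← MulEquiv.orderOf_eq φ, ← Subgroup.orderOf_coe, hy, (rep_spec i.2).2]
  refine ⟨fun i => zpowers (y i), fun i => by rw [Nat.card_zpowers, hord i], ?_, fun X hX => ?_⟩
  · rintro i j ⟨g, hg⟩
    classical
    simp only [MonoidHom.map_zpowers] at hg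
    have hmem : g * y i * g⁻¹ ∈ zpowers (y j) := by
      have h := mem_zpowers ((MulAut.conj g).toMonoidHom (y i))
      rw [hg] at h
      simpa using h
    obtain ⟨n, hn, hn'⟩ := (isOfFinOrder_of_finite (y j)).mem_zpowers_iff_mem_range_orderOf.1 hmem
      |> Finset.mem_image.1
    rw [hord j, Finset.mem_range] at hn
    have hφ : ∀ z : ℕ, g * y i * g⁻¹ = y j ^ z →
        (φ g).1 * rep i.1 * (φ g).1⁻¹ = rep j.1 ^ z := fun z e => by
      have := congrArg (fun a => (φ a).1) e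
      simpa [hy] using this
    interval_cases n
    · exfalso
      rw [pow_zero] at hn'
      have h1 : y i = 1 := conj_eq_one_iff.1 hn'.symm
      have := hord i
      rw [h1, orderOf_one] at this
      omega
    · refine Fin.ext (rep_separate i.2 j.2 (φ g).2 (Or.inl ?_))
      rw [hφ 1 hn'.symm, pow_one]
    · refine Fin.ext (rep_separate i.2 j.2 (φ g).2 (Or.inr ?_))
      rw [hφ 2 hn'.symm, eq_inv_iff_mul_eq_one, ← pow_succ]
      exact orderOf_dvd_iff_pow_eq_one.1 (by rw [(rep_spec j.2).2])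
  · haveI : Fact (Nat.Prime 3) := ⟨Nat.prime_three⟩
    haveI : IsCyclic X := isCyclic_of_prime_card hX
    obtain ⟨x, hx⟩ := IsCyclic.exists_generator (α := X)
    have hxX : zpowers (x : Cfsg.POmega (ZMod 3) (Cfsg.quadFormOdd 3 (ZMod 3))) = X := by
      refine le_antisymm (zpowers_le.2 x.2) fun a ha => ?_
      obtain ⟨k, hk⟩ := hx ⟨a, ha⟩
      exact ⟨k, by simpa using congrArg Subtype.val hk⟩
    have hox : orderOf (φ x.1).1 = 3 := by
      rw [Subgroup.orderOf_coe, MulEquiv.orderOf_eq, ← Nat.card_zpowers, hxX, hX]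
    obtain ⟨i, hi, M, hM, e⟩ := classify_rep (φ x.1).2 hox
    refine ⟨⟨i, hi⟩, φ.symm ⟨M, hM⟩, ?_⟩
    rw [← hxX, MonoidHom.map_zpowers]
    refine congrArg zpowers (φ.injective (Subtype.ext ?_))
    rw [hy]
    show (φ (φ.symm ⟨M, hM⟩ * x.1 * (φ.symm ⟨M, hM⟩)⁻¹)).1 = _
    simp only [map_mul, map_inv, MulEquiv.apply_symm_apply, Subgroup.coe_mul, InvMemClass.coe_inv]
    exact e

end Cfsg.Agent.S5514
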