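import Cfsg.Statements.S5516
import Cfsg.Agent.Lib.Classical.O8Three.Ext

set_option autoImplicit false
open Cfsg

namespace Cfsg.Agent.S5516

/-- PΩ⁺(8, 3) (the commutator subgroup of the isometry group of the hyperbolic quadratic form in dimension 8 over the field with three elements, modulo its centre) has exactly 13 conjugacy classes of subgroups of order 3; and a finite group G whose generalized Fitting subgroup L is isomorphic to PΩ⁺(8, 3) with G/L the symmetric group of degree 3 has exactly 7 orbits, under conjugation, on the subgroups of L of order 3. -/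
theorem result {G : Type*} [Group G] [Finite G] (L : Subgroup G) (hL : L = Cfsg.generalizedFittingSubgroup G) (hF : Nonempty (↥L ≃* Cfsg.POmega (ZMod 3) (Cfsg.quadFormPlus 4 (ZMod 3)))) [hn : L.Normal] (hq : Nonempty (G ⧸ L ≃* Equiv.Perm (Fin 3))) : (∃ Y : Fin 13 → Subgroup (Cfsg.POmega (ZMod 3) (Cfsg.quadFormPlus 4 (ZMod 3))), (∀ i, Nat.card (Y i) = 3) ∧ (∀ i j, (∃ g : Cfsg.POmega (ZMod 3) (Cfsg.quadFormPlus 4 (ZMod 3)), (Y i).map (MulAut.conj g).toMonoidHom = Y j) → i = j) ∧ (∀ X : Subgroup (Cfsg.POmega (ZMod 3) (Cfsg.quadFormPlus 4 (ZMod 3))), Nat.card X = 3 → ∃ i, ∃ g : Cfsg.POmega (ZMod 3) (Cfsg.quadFormPlus 4 (ZMod 3)), X.map (MulAut.conj g).toMonoidHom = Y i)) ∧ ∃ Y : Fin 7 → Subgroup G, (∀ i, Y i ≤ L ∧ Nat.card (Y i) = 3) ∧ (∀ i j, (∃ g : G, (Y i).map (MulAut.conj g).toMonoidHom = Y j) → i = j) ∧ ∀ X : Subgroup G, X ≤ L → Nat.card X = 3 → ∃ i, ∃ g : G, X.map (MulAut.conj g).toMonoidHom = Y i := by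
  subst hL
  obtain ⟨e⟩ := hF
  obtain ⟨q⟩ := hq
  refine ⟨CfsgLib.Classical.O8Three.thirteen_classes, ?_⟩
  haveI : Finite (Cfsg.POmega (ZMod 3) (Cfsg.quadFormPlus 4 (ZMod 3))) := Finite.of_equiv _ e.toEquiv
  have h := Cfsg.Agent.S2608.result (F := ZMod 3) (p := 3) (f := 1) (m := 4) le_rfl
    (by rw [ZMod.card, pow_one]) (by norm_num) le_rfl
  rw [if_pos rfl] at h
  obtain ⟨eo⟩ := h
  haveI : Unique (Multiplicative (ZMod 1)) := uniqueOfSubsingleton 1
  have e4 := eo.trans (MulEquiv.prodUnique : Equiv.Perm (Fin 4) × Multiplicative (ZMod 1) ≃* _)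
  have h6 : Nat.card (G ⧸ Cfsg.generalizedFittingSubgroup G) = 6 := by
    rw [Nat.card_congr q.toEquiv, Nat.card_perm, Nat.card_fin]; rfl
  obtain ⟨f, θ, hθ, hact⟩ := CfsgLib.Classical.O8Three.exists_action _
    CfsgLib.Components.centralizer_generalizedFitting_le e CfsgLib.Classical.O8Three.conj_injective e4
    CfsgLib.Classical.O8Three.H0 le_sup_left CfsgLib.Classical.O8Three.card_H0_out h6
  exact CfsgLib.Classical.O8Three.seven_orbits _ f θ hθ hact

end Cfsg.Agent.S5516
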