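import Cfsg.Agent.Lib.ThreeTransp.M24Six
import Cfsg.Statements.S5521
-- import your own Cfsg.Agent.* helpers here

set_option autoImplicit false
open Cfsg

namespace Cfsg.Agent.S5521
open CfsgLib.ThreeTransp.M24Six CfsgLib.SmallGroups.M24Group CfsgLib.SmallGroups.MathieuSets CfsgLib.SmallGroups.Steiner
open scoped Pointwise

/-- The Mathieu group M₂₄ in its natural action on the 24 coordinate positions of the binary Golay code has minimal base size exactly 7: every set of at most 6 positions is fixed pointwise by some non-identity element of M₂₄, while some set of 7 positions is fixed pointwise only by the identity. -/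
theorem result :
    (∀ B : Finset Cfsg.GolayPt, B.card ≤ 6 → ∃ g ∈ Cfsg.M24, g ≠ 1 ∧ ∀ b ∈ B, g b = b) ∧
    (∃ B : Finset Cfsg.GolayPt, B.card = 7 ∧ ∀ g ∈ Cfsg.M24, (∀ b ∈ B, g b = b) → g = 1) := by
  refine ⟨fun B hB => ?_, ⟨(Finset.range 7).image bpt, by decide +kernel, fun g hg h => ?_⟩⟩
  · obtain ⟨E, hBE, -, hE6⟩ := Finset.exists_subsuperset_card_eq (Finset.subset_univ B) hB
      (by rw [Finset.card_univ, CfsgLib.SmallGroups.GolayOctads.card_golayPt]; norm_num)
    obtain ⟨g, hg, hne, hfix⟩ := exists_moved_six hE6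
    exact ⟨g, hg, hne, fun b hb => hfix b (hBE hb)⟩
  · exact eq_one_of_fix_base hg fun j hj => h _ (Finset.mem_image_of_mem _ (Finset.mem_range.2 hj))

end Cfsg.Agent.S5521
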