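import Cfsg.Agent.Lib.ThreeTransp.M24Classes
import Cfsg.Statements.S5522
-- import your own Cfsg.Agent.* helpers here

set_option autoImplicit false
open Cfsg

namespace Cfsg.Agent.S5522
open Cfsg.Spor CfsgLib.ThreeTransp.M24Classes CfsgLib.SmallGroups.Golay CfsgLib.SmallGroups.GolayOctads CfsgLib.SmallGroups.Mathieu
open scoped Pointwise

theorem sq_mem : squareDodecad ∈ Cfsg.dodecads :=
  mem_dodecads.2 ⟨340831, mem_cwOfWeight.2 ⟨mem_cw.2 ⟨340831 % 4096, by norm_num, by decide +kernel⟩, by decide +kernel⟩, by decide +kernel⟩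

/-- The Mathieu group M₁₁, realised as the stabiliser of one point of the dodecad of squares inside the stabiliser M₁₂ of that dodecad in M₂₄, acts on the twelve coordinate positions outside the dodecad of squares (its 3-transitive action of degree 12); in this action every element of prime order fixes a point, i.e. the action is elusive. -/
theorem result (g : Equiv.Perm Cfsg.GolayPt) (hg : g ∈ Cfsg.Spor.M11) (hord : (orderOf g).Prime) :
    ∃ x : Cfsg.GolayPt, x ∉ Cfsg.Spor.squareDodecad ∧ g x = x := by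
  classical
  have hg' := hg
  obtain ⟨⟨hM, hd⟩, h0⟩ := hg'
  have h0' : g (some 0) = some 0 := h0
  have hd' : g • squareDodecad = squareDodecad := hd
  set p := orderOf g with hp
  have : Fact p.Prime := ⟨hord⟩
  have hne : g ≠ 1 := fun e => hord.one_lt.ne' (by rw [hp, e, orderOf_one])
  have hgp : g ^ p = 1 := pow_orderOf_eq_one g
  by_contra hcon
  push Not at hcon
  -- the action outside the dodecad
  have hout : ∀ x, x ∉ squareDodecad ↔ g x ∉ squareDodecad := fun x => by
    conv_rhs => rw [← hd', ← Equiv.Perm.smul_def, Finset.smul_mem_smul_finset_iff]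
  let σ : Equiv.Perm {x // x ∉ squareDodecad} := g.subtypePerm fun x => (hout x).symm
  have hσ : σ ^ p ^ 1 = 1 := by
    rw [pow_one]
    refine Equiv.ext fun x => Subtype.ext ?_
    rw [Equiv.Perm.subtypePerm_pow, Equiv.Perm.subtypePerm_apply, Equiv.Perm.one_apply]
    show (g ^ p) x = x
    rw [hgp, Equiv.Perm.one_apply]
  have hcard : Fintype.card {x // x ∉ squareDodecad} = 12 := by decide +kernel
  have hdvd : p ∣ 12 := by
    by_contra h
    obtain ⟨a, ha⟩ := Equiv.Perm.exists_fixed_point_of_prime (by rwa [hcard]) hσ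
    exact hcon a a.2 (congrArg Subtype.val ha)
  have hle : (Finset.univ.filter fun x => g x = x).card ≤ 4 := by
    by_contra h
    obtain ⟨x, hx, hxs⟩ := exists_five (S := Finset.univ.filter fun x => g x = x) (by omega)
    refine hne (dodecad_rigid sq_mem hx (fun i => ?_) hM hd' fun i => (Finset.mem_filter.1 (hxs i)).2)
    by_contra hxd
    exact hcon _ hxd (Finset.mem_filter.1 (hxs i)).2
  have hpos : (Finset.univ.filter fun x => g x = x).card ≠ 0 :=
    Finset.card_ne_zero.2 ⟨some 0, Finset.mem_filter.2 ⟨Finset.mem_univ _, h0'⟩⟩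
  have hcases : p = 2 ∨ p = 3 := by
    have hlt : p < 13 := Nat.lt_succ_of_le (Nat.le_of_dvd (by norm_num) hdvd)
    exact (by decide : ∀ n : ℕ, n < 13 → n.Prime → n ∣ 12 → n = 2 ∨ n = 3) p hlt hord hdvd
  rcases hcases with h2 | h3
  · rcases two_kind hM (by rw [← sq, ← h2, hgp]) hne with ⟨h, -⟩ | ⟨h, -⟩ <;> omega
  · rcases three_kind hM (by rw [← h3, hgp]) hne with ⟨h, -⟩ | ⟨h, -⟩ <;> omega

end Cfsg.Agent.S5522
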