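import Cfsg.Statements.S5529
import Cfsg.Agent.Lib.ThreeTransp.M23Triples
import Cfsg.Agent.Lib.ThreeTransp.ReeInequality
import Cfsg.Agent.Lib.Sporadic.MathieuLocalCounts
import Cfsg.Agent.Lib.Sporadic.IndexPoints

set_option autoImplicit false
open Cfsg

set_option maxHeartbeats 1600000
namespace Cfsg.Agent.S5529
open CfsgLib CfsgLib.Sporadic CfsgLib.Sporadic.GroupTables CfsgLib.ThreeTransp CfsgLib.ThreeTransp.M23Triples CfsgLib.SmallGroups CfsgLib.SmallGroups.Golay CfsgLib.SmallGroups.GolayOctads CfsgLib.SmallGroups.M24Group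

/-- The action on the 23 points other than the extra one. -/
def act23 : Cfsg.Spor.M23 →* Equiv.Perm {q : GolayPt // q ≠ none} where
  toFun g := (g : Equiv.Perm GolayPt).subtypePerm fun q =>
    not_congr ⟨fun h => (g : Equiv.Perm GolayPt).injective (h.trans g.2.2.symm), fun h => h ▸ g.2.2⟩
  map_one' := rfl
  map_mul' _ _ := rfl

theorem act23_injective : Function.Injective act23 := fun g h e => Subtype.ext (Equiv.ext fun q => by
  by_cases hq : q = none
  · subst hq
    exact g.2.2.trans h.2.2.symm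
  · exact congrArg Subtype.val (Equiv.congr_fun e ⟨q, hq⟩))

theorem card_moved : Fintype.card {q : GolayPt // q ≠ none} = 23 := by
  rw [Fintype.card_subtype_compl, Fintype.card_subtype_eq, card_golayPt]

theorem key_inj {n n' : ℕ} (h : key n = key n') : ∀ i < 24, pw n i = pw n' i := by
  have aux : ∀ (l : List ℕ) (z z' : ℕ),
      l.foldl (fun k i => k * 32 + pw n i) z = l.foldl (fun k i => k * 32 + pw n' i) z' →
      z = z' ∧ ∀ i ∈ l, pw n i = pw n' i := by
    intro l
    induction l with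
    | nil => intro z z' h; exact ⟨h, by simp⟩
    | cons a l ih =>
      intro z z' h
      obtain ⟨h1, h2⟩ := ih _ _ h
      dsimp only at h1
      have b1 : pw n a < 32 := Nat.mod_lt _ (by norm_num)
      have b2 : pw n' a < 32 := Nat.mod_lt _ (by norm_num)
      refine ⟨by omega, ?_⟩
      intro i hi
      rcases List.mem_cons.1 hi with rfl | hi
      · omega
      · exact h2 i hi
  exact fun i hi => (aux _ _ _ h).2 i (List.mem_range.2 hi)

theorem idEq_iff {g : Equiv.Perm GolayPt} {n : ℕ} (h : IsTbl g n) : idEq n = true ↔ g = 1 := by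
  simp only [idEq, List.all_eq_true, List.mem_range, beq_iff_eq]
  constructor
  · exact fun hi => Equiv.ext fun p => idx_injective (by rw [h, hi _ (idx_lt p)]; rfl)
  · intro e i hi
    have := h (pt i)
    rw [e, Equiv.Perm.one_apply, idx_pt hi] at this
    exact this.symm

theorem tbl_word {g h : Equiv.Perm GolayPt} {a b : ℕ} (hg : IsTbl g a) (hh : IsTbl h b) :
    ∀ w : List ℕ, ∃ k ∈ Subgroup.closure ({g, h} : Set (Equiv.Perm GolayPt)), IsTbl k (ev [a, b] w)
  | [] => ⟨1, one_mem _, isTbl_one⟩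
  | k :: ks => by
    obtain ⟨e, he, hek⟩ := tbl_word hg hh ks
    match k with
    | 0 => exact ⟨g * e, mul_mem (Subgroup.subset_closure (by simp)) he, hg.comp hek⟩
    | 1 => exact ⟨h * e, mul_mem (Subgroup.subset_closure (by simp)) he, hh.comp hek⟩
    | _ + 2 => exact ⟨1 * e, by rw [one_mul]; exact he, isTbl_one.comp hek⟩

theorem tbl_pow {g : Equiv.Perm GolayPt} {n : ℕ} (hg : IsTbl g n) : ∀ k, IsTbl (g ^ k) (powT n k) := by
  intro k
  induction k with
  | zero => rw [pow_zero]; exact isTbl_one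
  | succ k ih => rw [pow_succ']; exact hg.comp ih

theorem order_of_primeOrd {g : Equiv.Perm GolayPt} {n p : ℕ} (hg : IsTbl g n) (hp : p.Prime)
    (h : primeOrd p n = true) : orderOf g = p := by
  simp only [primeOrd, Bool.and_eq_true, Bool.not_eq_true'] at h
  have := Fact.mk hp
  refine orderOf_eq_prime ((idEq_iff (tbl_pow hg p)).1 h.1) fun e => ?_
  rw [(idEq_iff hg).2 e] at h
  exact absurd h.2 (by simp)

/-- A subgroup of index less than 23 is everything. -/
theorem eq_top_of_index_lt (H : Subgroup Cfsg.Spor.M23) (h : H.index < 23) : H = ⊤ := by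
  classical
  haveI : IsSimpleGroup Cfsg.Spor.M23 := by
    have := MathieuSimple.isSimple_M23 (none : GolayPt)
    exact MathieuSimple.isSimpleGroup_congr' (G := MulAction.stabilizer M24 (none : GolayPt))
      { toFun := fun g => ⟨g.1.1, g.1.2, g.2⟩, invFun := fun g => ⟨⟨g.1, g.2.1⟩, g.2.2⟩,
        left_inv := fun _ => rfl, right_inv := fun _ => rfl, map_mul' := fun _ _ => rfl }
  rcases IsSimpleGroup.eq_bot_or_eq_top_of_normal H.normalCore inferInstance with hb | ht
  · exfalso
    have : Fintype (Cfsg.Spor.M23 ⧸ H) := Fintype.ofFinite _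
    have hinj : Function.Injective (MulAction.toPermHom Cfsg.Spor.M23 (Cfsg.Spor.M23 ⧸ H)) :=
      (MonoidHom.ker_eq_bot_iff _).1 (by rw [← Subgroup.normalCore_eq_ker, hb])
    have hd := Subgroup.card_dvd_of_injective _ hinj
    rw [IndexPoints.card_M23, Nat.card_eq_fintype_card (α := Equiv.Perm (Cfsg.Spor.M23 ⧸ H)), Fintype.card_perm,
      ← Nat.card_eq_fintype_card, ← Subgroup.index_eq_card] at hd
    exact absurd ((Nat.Prime.dvd_factorial (by norm_num : Nat.Prime 23)).1 ((by norm_num : 23 ∣ 10200960).trans hd))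
      (by omega)
  · exact top_le_iff.1 (ht ▸ H.normalCore_le)

theorem generates {x y : Cfsg.Spor.M23} {a b : ℕ} (hx : IsTbl (x : Equiv.Perm GolayPt) a)
    (hy : IsTbl (y : Equiv.Perm GolayPt) b) {w23 w11 w7 w5 w8 wa wb : List ℕ}
    (h23 : primeOrd 23 (ev [a, b] w23) = true) (h11 : primeOrd 11 (ev [a, b] w11) = true)
    (h7 : primeOrd 7 (ev [a, b] w7) = true) (h5 : primeOrd 5 (ev [a, b] w5) = true)
    (h8 : idEq (powT (ev [a, b] w8) 8) = true) (h8' : idEq (powT (ev [a, b] w8) 4) = false)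
    (ha : primeOrd 3 (ev [a, b] wa) = true) (hb : primeOrd 3 (ev [a, b] wb) = true)
    (hab : key (comp (ev [a, b] wa) (ev [a, b] wb)) = key (comp (ev [a, b] wb) (ev [a, b] wa)))
    (hne : key (ev [a, b] wb) ≠ key (ev [a, b] wa)) (hne2 : key (ev [a, b] wb) ≠ key (powT (ev [a, b] wa) 2)) :
    Subgroup.closure ({x, y} : Set Cfsg.Spor.M23) = ⊤ := by
  classical
  set H := Subgroup.closure ({x, y} : Set Cfsg.Spor.M23)
  set K := Subgroup.closure ({(x : Equiv.Perm GolayPt), (y : Equiv.Perm GolayPt)} : Set (Equiv.Perm GolayPt))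
  have hmap : H.map Cfsg.Spor.M23.subtype = K := by
    rw [MonoidHom.map_closure, Set.image_pair]; rfl
  have hKc : Nat.card K = Nat.card H := by
    rw [← hmap, Subgroup.card_map_of_injective Subtype.val_injective]
  have hdvd : ∀ g ∈ K, orderOf g ∣ Nat.card H := fun g hg => by
    rw [← hKc, ← Subgroup.orderOf_mk g hg]; exact orderOf_dvd_natCard _
  obtain ⟨g23, k23, t23⟩ := tbl_word hx hy w23
  obtain ⟨g11, k11, t11⟩ := tbl_word hx hy w11
  obtain ⟨g7, k7, t7⟩ := tbl_word hx hy w7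
  obtain ⟨g5, k5, t5⟩ := tbl_word hx hy w5
  obtain ⟨g8, k8, t8⟩ := tbl_word hx hy w8
  obtain ⟨u, ku, tu⟩ := tbl_word hx hy wa
  obtain ⟨v, kv, tv⟩ := tbl_word hx hy wb
  have d23 := order_of_primeOrd t23 (by norm_num) h23 ▸ hdvd g23 k23
  have d11 := order_of_primeOrd t11 (by norm_num) h11 ▸ hdvd g11 k11
  have d7 := order_of_primeOrd t7 (by norm_num) h7 ▸ hdvd g7 k7
  have d5 := order_of_primeOrd t5 (by norm_num) h5 ▸ hdvd g5 k5
  have o8 : orderOf g8 = 8 := by
    have := Fact.mk Nat.prime_two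
    refine orderOf_eq_prime_pow (p := 2) (n := 2) (fun e => ?_) ((idEq_iff (tbl_pow t8 8)).1 h8)
    rw [(idEq_iff (tbl_pow t8 4)).2 e] at h8'
    exact absurd h8' (by simp)
  have d8 := o8 ▸ hdvd g8 k8
  have ou := order_of_primeOrd tu (by norm_num) ha
  have ov := order_of_primeOrd tv (by norm_num) hb
  have huv : u * v = v * u := by
    refine Equiv.ext fun p => idx_injective ?_
    have h1 := tu.comp tv p
    have h2 := tv.comp tu p
    rw [h1, h2, key_inj hab _ (idx_lt p)]
  have d9 : 9 ∣ Nat.card H := by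
    rw [← hKc]
    have hd : Disjoint (Subgroup.zpowers u) (Subgroup.zpowers v) := by
      rw [disjoint_iff, Subgroup.eq_bot_iff_forall]
      rintro g ⟨hgu, hgv⟩
      by_contra hg
      have hdv : orderOf g ∣ 3 := by
        have h := orderOf_dvd_natCard (⟨g, hgv⟩ : Subgroup.zpowers v)
        rwa [Subgroup.orderOf_mk, Nat.card_zpowers, ov] at h
      have hgc : orderOf g = 3 := ((Nat.dvd_prime Nat.prime_three).1 hdv).resolve_left fun e => hg (orderOf_eq_one_iff.1 e)
      have heq : Subgroup.zpowers g = Subgroup.zpowers v := Subgroup.eq_of_le_of_card_ge (Subgroup.zpowers_le.2 hgv)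
        (by rw [Nat.card_zpowers, Nat.card_zpowers, hgc, ov])
      have hvu' : v ∈ Subgroup.zpowers u :=
        (Subgroup.zpowers_le.2 hgu) (heq.symm ▸ Subgroup.mem_zpowers v)
      have hvu : v = u ∨ v = u ^ 2 := by
        rw [mem_zpowers_iff_mem_range_orderOf, ou] at hvu'
        simp only [Finset.mem_image, Finset.mem_range] at hvu'
        obtain ⟨i, hi, rfl⟩ := hvu'
        rcases (show i = 0 ∨ i = 1 ∨ i = 2 by omega) with rfl | rfl | rfl
        · rw [pow_zero, orderOf_one] at ov; exact absurd ov (by norm_num)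
        · exact Or.inl (pow_one u)
        · exact Or.inr rfl
      rcases hvu with e | e
      · exact hne (IsTbl.key_eq tv (e ▸ tu))
      · exact hne2 (IsTbl.key_eq tv (e ▸ tbl_pow tu 2))
    have hcomm : ∀ a ∈ Subgroup.zpowers u, ∀ b ∈ Subgroup.zpowers v, a * b = b * a := by
      rintro _ ⟨i, rfl⟩ _ ⟨j, rfl⟩
      exact (Commute.zpow_zpow (show Commute u v from huv) i j).eq
    let φ : Subgroup.zpowers u × Subgroup.zpowers v →* K :=
      { toFun := fun t => ⟨t.1.1 * t.2.1, mul_mem ((Subgroup.zpowers_le.2 ku) t.1.2) ((Subgroup.zpowers_le.2 kv) t.2.2)⟩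
        map_one' := Subtype.ext (mul_one 1)
        map_mul' := fun s t => Subtype.ext (by
          show s.1.1 * t.1.1 * (s.2.1 * t.2.1) = s.1.1 * s.2.1 * (t.1.1 * t.2.1)
          rw [mul_assoc, ← mul_assoc t.1.1, hcomm _ t.1.2 _ s.2.2]
          simp only [mul_assoc]) }
    have hφ : Function.Injective φ := (injective_iff_map_eq_one φ).2 fun t ht => by
      have e : (t.1 : Equiv.Perm GolayPt) * t.2 = 1 := congrArg Subtype.val ht
      have h1 : (t.1 : Equiv.Perm GolayPt) ∈ Subgroup.zpowers v := by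
        rw [eq_inv_of_mul_eq_one_left e]; exact inv_mem t.2.2
      have h2 : (t.1 : Equiv.Perm GolayPt) = 1 := Subgroup.disjoint_def.1 hd t.1.2 h1
      rw [h2, one_mul] at e
      exact Prod.ext (Subtype.ext h2) (Subtype.ext e)
    have h9 := Subgroup.card_dvd_of_injective φ hφ
    rwa [Nat.card_prod, Nat.card_zpowers, Nat.card_zpowers, ou, ov] at h9
  refine eq_top_of_index_lt H ?_
  have hmul := H.card_mul_index
  rw [IndexPoints.card_M23] at hmul
  have hbig : 637560 ∣ Nat.card H := by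
    have := Nat.Coprime.mul_dvd_of_dvd_of_dvd (by norm_num : Nat.Coprime (23 * 11 * 7 * 5 * 8) 9)
      (Nat.Coprime.mul_dvd_of_dvd_of_dvd (by norm_num : Nat.Coprime (23 * 11 * 7 * 5) 8)
        (Nat.Coprime.mul_dvd_of_dvd_of_dvd (by norm_num : Nat.Coprime (23 * 11 * 7) 5)
          (Nat.Coprime.mul_dvd_of_dvd_of_dvd (by norm_num : Nat.Coprime (23 * 11) 7)
            (Nat.Coprime.mul_dvd_of_dvd_of_dvd (by norm_num : Nat.Coprime 23 11) d23 d11) d7) d5) d8) d9
    simpa using this
  obtain ⟨m, hm⟩ := hbig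
  rw [hm] at hmul
  have : m * H.index = 16 := by
    generalize H.index = k at hmul ⊢
    refine Nat.eq_of_mul_eq_mul_left (show 0 < 637560 by norm_num) ?_
    rw [← Nat.mul_assoc]
    exact hmul.trans (by norm_num)
  have := Nat.le_of_dvd (by norm_num) (⟨m, by rw [mul_comm, this]⟩ : H.index ∣ 16)
  omega

/-- Cycles on the 23 moved points. -/
theorem cycles_lower {x : Cfsg.Spor.M23} {p k : ℕ} (hp : orderOf x = p) (hpp : p.Prime)
    (hpk : (p = 2 ∧ k = 15) ∨ (p = 3 ∧ k = 11) ∨ (p = 5 ∧ k = 7) ∨ (p = 7 ∧ k = 5)) :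
    k ≤ Ree.cycles (act23 x) := by
  classical
  have := Fact.mk hpp
  set g : Equiv.Perm GolayPt := (x : Equiv.Perm GolayPt) with hg
  have hord : orderOf g = p := by rw [hg, Subgroup.orderOf_coe, hp]
  have hnone : g none = none := x.2.2
  have hmem : g ∈ M24 := x.2.1
  have hord' : orderOf (act23 x) = p := by rw [orderOf_injective act23 act23_injective, hp]
  have hc := Ree.cycles_prime (act23 x) hord' hpp.one_lt.le
  have hfix : ((IndexPoints.fixedPts g).card - 1) =
      (Finset.univ.filter fun a => act23 x a = a).card := by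
    rw [← Finset.card_erase_of_mem (IndexPoints.mem_fixedPts.2 hnone)]
    symm
    refine Finset.card_bij (fun a _ => a.1) (fun a ha => ?_) (fun a _ b _ e => Subtype.ext e) (fun b hb => ?_)
    · simp only [Finset.mem_filter, Finset.mem_univ, true_and] at ha
      exact Finset.mem_erase.2 ⟨a.2, IndexPoints.mem_fixedPts.2 (congrArg Subtype.val ha)⟩
    · rw [Finset.mem_erase] at hb
      exact ⟨⟨b, hb.1⟩, by simpa using Subtype.ext (IndexPoints.mem_fixedPts.1 hb.2), rfl⟩
  rw [← hfix, card_moved] at hc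
  rcases hpk with ⟨rfl, rfl⟩ | ⟨rfl, rfl⟩ | ⟨rfl, rfl⟩ | ⟨rfl, rfl⟩
  · have h := MathieuLocalCounts.card_fixedPts_small hmem (Or.inl rfl) hord hnone
    simp only [if_true] at h
    omega
  · have h := MathieuLocalCounts.card_fixedPts_small hmem (Or.inr rfl) hord hnone
    norm_num at h
    omega
  · obtain ⟨h1, h2⟩ := IndexPoints.card_fixedPts_eq hmem hord le_rfl
    have h0 : 0 < (IndexPoints.fixedPts g).card := Finset.card_pos.2 ⟨none, IndexPoints.mem_fixedPts.2 hnone⟩
    omega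
  · obtain ⟨h1, h2⟩ := IndexPoints.card_fixedPts_eq hmem hord (by norm_num)
    omega

theorem transitive23 (a b : {q : GolayPt // q ≠ none}) : ∃ g : Cfsg.Spor.M23, act23 g a = b := by
  obtain ⟨g, h1, h2⟩ := MathieuSimple.exists_two a.2.symm b.2.symm
  exact ⟨⟨g.1, g.2, h1⟩, Subtype.ext h2⟩



/-- Generation of the Mathieu group M₂₃ (the stabiliser of a point in the Mathieu group M₂₄ acting on 24 points) by triples of prime orders. Let p ≤ q ≤ r be primes dividing |M₂₃| = 10200960 = 2⁷·3²·5·7·11·23, not both p and q equal to 2. Then M₂₃ contains elements x, y, z of orders p, q, r with xyz = 1 and ⟨x, y⟩ = M₂₃ if and only if (p, q, r) is none of: (2, 3, r) for any r, (2, 5, 5), (2, 5, 7), (3, 3, 3), (3, 3, 5), (3, 3, 7). -/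
theorem result (p q r : ℕ) (hp : p.Prime) (hq : q.Prime)
    (hr : r.Prime) (hpq : p ≤ q) (hqr : q ≤ r) (hp2 : ¬ (p = 2 ∧ q = 2))
    (hdvd : p ∣ 10200960 ∧ q ∣ 10200960 ∧ r ∣ 10200960) :
    (∃ x y z : Cfsg.Spor.M23, orderOf x = p ∧ orderOf y = q ∧ orderOf z = r ∧ x * y * z = 1 ∧
        Subgroup.closure {x, y} = ⊤) ↔
      ¬ ((p = 2 ∧ q = 3) ∨ (p = 2 ∧ q = 5 ∧ r = 5) ∨ (p = 2 ∧ q = 5 ∧ r = 7) ∨ (p = 3 ∧ q = 3 ∧ r ≤ 7)) := by
  classical
  constructor
  · rintro ⟨x, y, z, hx, hy, hz, hxyz, hgen⟩ hbad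
    have hree := Ree.ree (act23 x) (act23 y) (act23 z) (by rw [← map_mul, ← map_mul, hxyz, map_one]) fun a b => by
      obtain ⟨g, hg⟩ := transitive23 a b
      refine ⟨act23 g, ?_, hg⟩
      have h : act23 g ∈ (Subgroup.closure ({x, y} : Set Cfsg.Spor.M23)).map act23 := ⟨g, hgen ▸ trivial, rfl⟩
      rwa [MonoidHom.map_closure, Set.image_pair] at h
    rw [card_moved] at hree
    have hz1 : 1 ≤ Ree.cycles (act23 z) := by
      have : Nonempty {q : GolayPt // q ≠ none} := Fintype.card_pos_iff.1 (by rw [card_moved]; norm_num)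
      obtain ⟨a⟩ := this
      have : Nonempty (MulAction.orbitRel.Quotient (Subgroup.zpowers (act23 z)) {q : GolayPt // q ≠ none}) :=
        ⟨Quotient.mk'' a⟩
      exact Nat.card_pos
    rcases hbad with ⟨rfl, rfl⟩ | ⟨rfl, rfl, rfl⟩ | ⟨rfl, rfl, rfl⟩ | ⟨rfl, rfl, hr7⟩
    · have := cycles_lower hx hp (Or.inl ⟨rfl, rfl⟩)
      have := cycles_lower hy hq (Or.inr (Or.inl ⟨rfl, rfl⟩))
      omega
    · have := cycles_lower hx hp (Or.inl ⟨rfl, rfl⟩)
      have := cycles_lower hy hq (Or.inr (Or.inr (Or.inl ⟨rfl, rfl⟩)))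
      have := cycles_lower hz hr (Or.inr (Or.inr (Or.inl ⟨rfl, rfl⟩)))
      omega
    · have := cycles_lower hx hp (Or.inl ⟨rfl, rfl⟩)
      have := cycles_lower hy hq (Or.inr (Or.inr (Or.inl ⟨rfl, rfl⟩)))
      have := cycles_lower hz hr (Or.inr (Or.inr (Or.inr ⟨rfl, rfl⟩)))
      omega
    · have := cycles_lower hx hp (Or.inr (Or.inl ⟨rfl, rfl⟩))
      have := cycles_lower hy hq (Or.inr (Or.inl ⟨rfl, rfl⟩))
      rcases (show r = 3 ∨ r = 5 ∨ r = 7 by
        rcases (show r = 3 ∨ r = 4 ∨ r = 5 ∨ r = 6 ∨ r = 7 by omega) with h | h | h | h | h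
        · exact Or.inl h
        · exact absurd (h ▸ hr) (by norm_num)
        · exact Or.inr (Or.inl h)
        · exact absurd (h ▸ hr) (by norm_num)
        · exact Or.inr (Or.inr h)) with rfl | rfl | rfl
      · have := cycles_lower hz hr (Or.inr (Or.inl ⟨rfl, rfl⟩))
        omega
      · have := cycles_lower hz hr (Or.inr (Or.inr (Or.inl ⟨rfl, rfl⟩)))
        omega
      · have := cycles_lower hz hr (Or.inr (Or.inr (Or.inr ⟨rfl, rfl⟩)))
        omega
  · intro hgood
    have hmem : ∀ s : ℕ, s.Prime → s ∣ 10200960 → s ∈ [2, 3, 5, 7, 11, 23] := by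
      intro s hs hd
      rw [show (10200960 : ℕ) = 2 ^ 7 * 3 ^ 2 * 5 * 7 * 11 * 23 by norm_num] at hd
      simp only [Nat.Prime.dvd_mul hs] at hd
      have hpow : ∀ {t k : ℕ}, t.Prime → s ∣ t ^ k → s = t := fun ht h =>
        (Nat.prime_dvd_prime_iff_eq hs ht).1 (hs.dvd_of_dvd_pow h)
      have heq : ∀ {t : ℕ}, t.Prime → s ∣ t → s = t := fun ht h => (Nat.prime_dvd_prime_iff_eq hs ht).1 h
      rcases hd with ((((h | h) | h) | h) | h) | h
      · rw [hpow Nat.prime_two h]; decide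
      · rw [hpow Nat.prime_three h]; decide
      · rw [heq (by norm_num) h]; decide
      · rw [heq (by norm_num) h]; decide
      · rw [heq (by norm_num) h]; decide
      · rw [heq (by norm_num) h]; decide
    have hc := rows_complete
    simp only [List.all_eq_true, Bool.or_eq_true, decide_eq_true_eq, List.any_eq_true, Bool.and_eq_true,
      beq_iff_eq] at hc
    rcases hc p (hmem p hp hdvd.1) q (hmem q hq hdvd.2.1) r (hmem r hr hdvd.2.2) with
      ((h | h) | h) | ⟨t, ht, ⟨h1, h2⟩, h3⟩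
    · omega
    · omega
    · simp only [excluded, Bool.or_eq_true, Bool.and_eq_true, beq_iff_eq, decide_eq_true_eq, and_assoc] at h
      rcases h with (((h | h) | h) | h) | h
      · exact absurd (Or.inl h) hgood
      · exact absurd (Or.inr (Or.inl h)) hgood
      · exact absurd (Or.inr (Or.inr (Or.inl h))) hgood
      · exact absurd (Or.inr (Or.inr (Or.inr h))) hgood
      · exact absurd h hp2
    · have hok := List.all_eq_true.1 rows_ok t ht
      obtain ⟨p', q', r', a, b, ws⟩ := t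
      simp only at h1 h2 h3
      subst h1 h2 h3
      match ws, hok with
      | [w23, w11, w7, w5, w8, wa, wb], hok =>
        simp only [okRow, Bool.and_eq_true, beq_iff_eq, Bool.not_eq_true', bne_iff_ne] at hok
        obtain ⟨⟨⟨⟨⟨⟨⟨⟨⟨⟨⟨⟨⟨⟨⟨⟨⟨ha, ha'⟩, hb⟩, hb'⟩, hop⟩, hoq⟩, hor⟩, h23⟩, h11⟩, h7⟩, h5⟩, h8⟩,
          h8'⟩, hu⟩, hv⟩, hk⟩, hk1⟩, hk2⟩ := hok
        obtain ⟨x, hxm, hxt⟩ := exists_isTbl ha
        obtain ⟨y, hym, hyt⟩ := exists_isTbl hb
        have hnone : ∀ {g : Equiv.Perm GolayPt} {n : ℕ}, IsTbl g n → pw n 23 = 23 → g none = none := by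
          intro g n hg hn
          exact idx_injective ((hg none).trans hn)
        set X : Cfsg.Spor.M23 := ⟨x, hxm, hnone hxt ha'⟩
        set Y : Cfsg.Spor.M23 := ⟨y, hym, hnone hyt hb'⟩
        refine ⟨X, Y, (X * Y)⁻¹, ?_, ?_, ?_, mul_inv_cancel _, ?_⟩
        · rw [← Subgroup.orderOf_coe]; exact order_of_primeOrd hxt hp hop
        · rw [← Subgroup.orderOf_coe]; exact order_of_primeOrd hyt hq hoq
        · rw [orderOf_inv, ← Subgroup.orderOf_coe]; exact order_of_primeOrd (hxt.comp hyt) hr hor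
        · exact generates (x := X) (y := Y) hxt hyt h23 h11 h7 h5 h8 h8' hu hv hk hk1 hk2

end Cfsg.Agent.S5529
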