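import Cfsg.Statements.S5541
-- import your own Cfsg.Agent.* helpers here

set_option autoImplicit false
open Cfsg

namespace Cfsg.Agent.S5541

/-- Let ρ be a representation of a group H on a finite-dimensional real vector space U whose only ρ-invariant subspaces are the zero subspace and U, and suppose U carries a non-zero ρ-invariant symmetric bilinear form. Then the following are equivalent: (1) there is a non-zero ρ-equivariant commutative bilinear product on U of which every ρ-equivariant bilinear product is a scalar multiple; (2) there is a non-zero ρ-invariant trilinear form on U that is symmetric under all permutations of its arguments and of which every ρ-invariant trilinear form is a scalar multiple. -/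
theorem result {H : Type*} [Group H] {U : Type*} [AddCommGroup U] [Module ℝ U] [FiniteDimensional ℝ U] (ρ : Representation ℝ H U) (hirr : ∀ W : Submodule ℝ U, (∀ g : H, W.map (ρ g) ≤ W) → W = ⊥ ∨ W = ⊤) (B : LinearMap.BilinForm ℝ U) (hB0 : B ≠ 0) (hBs : ∀ u v, B u v = B v u) (hBi : ∀ (g : H) (u v : U), B (ρ g u) (ρ g v) = B u v) : (∃ m : U →ₗ[ℝ] U →ₗ[ℝ] U, m ≠ 0 ∧ (∀ u v, m u v = m v u) ∧ (∀ (g : H) (u v : U), m (ρ g u) (ρ g v) = ρ g (m u v)) ∧ ∀ m' : U →ₗ[ℝ] U →ₗ[ℝ] U, (∀ (g : H) (u v : U), m' (ρ g u) (ρ g v) = ρ g (m' u v)) → ∃ c : ℝ, m' = c • m) ↔ (∃ t : U →ₗ[ℝ] U →ₗ[ℝ] U →ₗ[ℝ] ℝ, t ≠ 0 ∧ (∀ u v w, t u v w = t v u w ∧ t u v w = t u w v) ∧ (∀ (g : H) (u v w : U), t (ρ g u) (ρ g v) (ρ g w) = t u v w) ∧ ∀ t' : U →ₗ[ℝ] U →ₗ[ℝ] U →ₗ[ℝ] ℝ, (∀ (g : H) (u v w : U), t' (ρ g u) (ρ g v) (ρ g w) = t' u v w) → ∃ c : ℝ, t' = c • t) := by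
  have hrad : ∀ u, (∀ v, B u v = 0) → u = 0 := by
    have hW := hirr (LinearMap.ker B) (fun g => by
      rintro _ ⟨u, hu, rfl⟩
      rw [LinearMap.mem_ker]
      ext v
      have h0 : ρ g (ρ g⁻¹ v) = v := by
        rw [← Module.End.mul_apply, ← map_mul, mul_inv_cancel, map_one, Module.End.one_apply]
      rw [← h0, hBi, (LinearMap.mem_ker.1 hu)]
      rfl)
    intro u hu
    rcases hW with h | h
    · have : u ∈ LinearMap.ker B := LinearMap.mem_ker.2 (LinearMap.ext fun v => by simpa using hu v)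
      rwa [h, Submodule.mem_bot] at this
    · exact absurd (LinearMap.ker_eq_top.1 h) hB0
  have hinj : Function.Injective B := (injective_iff_map_eq_zero B).2 fun u hu =>
    hrad u fun v => by rw [hu]; rfl
  have hdual : Function.Bijective B := by
    refine ⟨hinj, ?_⟩
    exact (LinearMap.injective_iff_surjective_of_finrank_eq_finrank
      Subspace.dual_finrank_eq.symm).1 hinj
  let E := LinearEquiv.ofBijective B hdual
  have hext : ∀ p q : U, (∀ w, B p w = B q w) → p = q := fun p q h =>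
    hinj (LinearMap.ext h)
  let T : (U →ₗ[ℝ] U →ₗ[ℝ] U) → (U →ₗ[ℝ] U →ₗ[ℝ] U →ₗ[ℝ] ℝ) := fun m => m.compr₂ B
  let M : (U →ₗ[ℝ] U →ₗ[ℝ] U →ₗ[ℝ] ℝ) → (U →ₗ[ℝ] U →ₗ[ℝ] U) := fun t =>
    t.compr₂ E.symm.toLinearMap
  have hTM : ∀ t, T (M t) = t := by
    intro t; ext u v w
    show B (E.symm (t u v)) w = t u v w
    exact congrFun (congrArg DFunLike.coe (E.apply_symm_apply (t u v))) w
  have hBM : ∀ t u v w, B (M t u v) w = t u v w := fun t u v w => by
    conv_rhs => rw [← hTM t]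
    rfl
  have hMequi : ∀ t : U →ₗ[ℝ] U →ₗ[ℝ] U →ₗ[ℝ] ℝ,
      (∀ (g : H) (u v w : U), t (ρ g u) (ρ g v) (ρ g w) = t u v w) →
      ∀ (g : H) (u v : U), M t (ρ g u) (ρ g v) = ρ g (M t u v) := by
    intro t ht g u v
    apply hext
    intro w
    obtain ⟨w', rfl⟩ : ∃ w', ρ g w' = w := ⟨ρ g⁻¹ w, by
      rw [← Module.End.mul_apply, ← map_mul, mul_inv_cancel, map_one, Module.End.one_apply]⟩
    rw [hBM, ht, hBi, hBM]
  constructor
  · rintro ⟨m, hm0, hms, hme, hmu⟩
    have hT0 : T m ≠ 0 := fun h => hm0 (by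
      ext u v
      exact hext _ _ fun w => by
        simpa [T] using LinearMap.congr_fun (LinearMap.congr_fun (LinearMap.congr_fun h u) v) w)
    have hTi : ∀ (g : H) (u v w : U), T m (ρ g u) (ρ g v) (ρ g w) = T m u v w := by
      intro g u v w
      show B (m (ρ g u) (ρ g v)) (ρ g w) = B (m u v) w
      rw [hme, hBi]
    have huniq : ∀ t' : U →ₗ[ℝ] U →ₗ[ℝ] U →ₗ[ℝ] ℝ,
        (∀ (g : H) (u v w : U), t' (ρ g u) (ρ g v) (ρ g w) = t' u v w) → ∃ c : ℝ, t' = c • T m := by
      intro t' ht'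
      obtain ⟨c, hc⟩ := hmu (M t') (hMequi t' ht')
      refine ⟨c, ?_⟩
      rw [← hTM t', hc]
      ext u v w
      simp [T]
    obtain ⟨c, hc⟩ := huniq ((LinearMap.lflip).toLinearMap ∘ₗ (T m)) (fun g u v w => hTi g u w v)
    have hc' : ∀ u v w, T m u w v = c * T m u v w := fun u v w => by
      simpa using LinearMap.congr_fun (LinearMap.congr_fun (LinearMap.congr_fun hc u) v) w
    have h12 : ∀ u v w, T m u v w = T m v u w := fun u v w => by
      show B (m u v) w = B (m v u) w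
      rw [hms]
    obtain ⟨u₀, v₀, w₀, h0⟩ : ∃ u v w, T m u v w ≠ 0 := by
      by_contra hcon
      push Not at hcon
      exact hT0 (by ext u v w; simpa using hcon u v w)
    have hc2 : c * c = 1 := by
      have := hc' u₀ w₀ v₀
      rw [hc' u₀ v₀ w₀, ← mul_assoc] at this
      exact mul_right_cancel₀ h0 (by rw [one_mul]; exact this.symm)
    have hc1 : c = 1 := by
      rcases mul_self_eq_one_iff.1 hc2 with h | h
      · exact h
      · exfalso
        have A := hc' u₀ w₀ v₀
        have B' := h12 u₀ w₀ v₀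
        have C := hc' w₀ v₀ u₀
        have D' := h12 w₀ v₀ u₀
        have E' := hc' v₀ u₀ w₀
        have F := h12 v₀ u₀ w₀
        subst h
        apply h0
        linarith
    refine ⟨T m, hT0, fun u v w => ⟨h12 u v w, ?_⟩, hTi, huniq⟩
    rw [hc' u v w, hc1, one_mul]
  · rintro ⟨t, ht0, hts, hti, htu⟩
    refine ⟨M t, fun h => ht0 (by rw [← hTM t, h]; ext; simp [T]), fun u v => hext _ _ fun w => by
      rw [hBM, hBM, (hts u v w).1], hMequi t hti, fun m' hm' => ?_⟩
    obtain ⟨c, hc⟩ := htu (T m') (fun g u v w => by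
      show B (m' (ρ g u) (ρ g v)) (ρ g w) = B (m' u v) w
      rw [hm', hBi])
    refine ⟨c, ?_⟩
    ext u v
    apply hext
    intro w
    have := LinearMap.congr_fun (LinearMap.congr_fun (LinearMap.congr_fun hc u) v) w
    rw [LinearMap.smul_apply, LinearMap.smul_apply, map_smul, LinearMap.smul_apply, hBM]
    simpa [T] using this

end Cfsg.Agent.S5541
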