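import Cfsg.Agent.Lib.ThreeTransp.Axial
import Cfsg.Statements.S5543
-- import your own Cfsg.Agent.* helpers here

set_option autoImplicit false
open Cfsg

namespace Cfsg.Agent.S5543

/-- Let V be a finite-dimensional real vector space with a commutative bilinear product and a positive-definite symmetric bilinear form that associates with the product and satisfies the Norton inequality (the Majorana setting of the definitions). Let X be a group of linear automorphisms of V in which every element squares to the identity, and suppose every non-identity element x of X is a Majorana involution with an axial vector a(x) of squared length 1, such that for any two distinct non-identity x, y the product a(x) ∘ a(y) equals (1/8)(a(x) + a(y) − a(xy)) (the dihedral subalgebra of type 2A whose third axis belongs to the involution xy). Then X has order at most 4. -/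
theorem result {V : Type*} [AddCommGroup V] [Module ℝ V] [FiniteDimensional ℝ V] (mul : V →ₗ[ℝ] V →ₗ[ℝ] V) (B : LinearMap.BilinForm ℝ V) (hV : Cfsg.Axial.IsMajoranaAmbient mul B) (X : Subgroup (V ≃ₗ[ℝ] V)) (hX : ∀ x ∈ X, x * x = 1) (ax : (V ≃ₗ[ℝ] V) → V) (hax : ∀ x ∈ X, x ≠ 1 → Cfsg.Axial.IsMajoranaPair mul B x (ax x)) (h1 : ∀ x ∈ X, x ≠ 1 → B (ax x) (ax x) = 1) (h2A : ∀ x ∈ X, ∀ y ∈ X, x ≠ 1 → y ≠ 1 → x ≠ y → mul (ax x) (ax y) = (1 / 8 : ℝ) • (ax x + ax y - ax (x * y))) : Nat.card ↥X ≤ 4 := by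
  by_contra hcard
  push Not at hcard
  classical
  have hfin : Finite X := Nat.finite_of_card_ne_zero (by omega)
  have hinv : ∀ x ∈ X, x⁻¹ = x := fun x hx => inv_eq_of_mul_eq_one_right (hX x hx)
  have hcomm : ∀ x ∈ X, ∀ y ∈ X, x * y = y * x := fun x hx y hy => by
    rw [← hinv _ (X.mul_mem hx hy), mul_inv_rev, hinv x hx, hinv y hy]
  have hbig : ∀ s : Finset (V ≃ₗ[ℝ] V), s.card ≤ 4 → ∃ z ∈ X, z ∉ s := by
    intro s hs
    by_contra hcon
    push Not at hcon
    haveI : Fintype X := Fintype.ofFinite X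
    have : Fintype.card X ≤ Fintype.card s :=
      Fintype.card_le_of_injective (fun x : X => (⟨x.1, hcon x.1 x.2⟩ : s))
        (fun u v huv => Subtype.ext (congrArg (fun w : s => (w : V ≃ₗ[ℝ] V)) huv))
    rw [Fintype.card_coe, ← Nat.card_eq_fintype_card] at this
    omega
  obtain ⟨x, hx, hx1⟩ := hbig {1} (by simp)
  simp only [Finset.mem_singleton] at hx1
  obtain ⟨y, hy, hy'⟩ := hbig {1, x} (Finset.card_le_two.trans (by norm_num))
  simp only [Finset.mem_insert, Finset.mem_singleton, not_or] at hy'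
  obtain ⟨z, hz, hz'⟩ := hbig {1, x, y, x * y} Finset.card_le_four
  simp only [Finset.mem_insert, Finset.mem_singleton, not_or] at hz'
  obtain ⟨hz1, hzx, hzy, hzxy⟩ := hz'
  have hxx := hX x hx; have hyy := hX y hy; have hzz := hX z hz
  have hxy := hcomm x hx y hy
  have hxz := hcomm x hx z hz
  have hxyne : x * y ≠ 1 := fun h => hy'.2 ((mul_eq_one_iff_eq_inv'.1 h).trans (hinv x hx))
  have hxzne : x * z ≠ 1 := fun h => hzx ((mul_eq_one_iff_eq_inv'.1 h).trans (hinv x hx))
  have hyzne : y * z ≠ 1 := fun h => hzy ((mul_eq_one_iff_eq_inv'.1 h).trans (hinv y hy))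
  have hxyzne : x * (y * z) ≠ 1 := fun h => hzxy (by
    rw [← mul_assoc] at h
    exact (mul_eq_one_iff_eq_inv'.1 h).trans (hinv _ (X.mul_mem hx hy)))
  set a := ax x with ha
  have P := hax x hx hx1
  have key : ∀ u ∈ X, u ≠ 1 → u ≠ x →
      mul a (ax u - ax (x * u)) = (1 / 4 : ℝ) • (ax u - ax (x * u)) := by
    intro u hu hu1 hux
    have hne : x * u ≠ 1 := fun h => hux ((mul_eq_one_iff_eq_inv'.1 h).trans (hinv x hx))
    have hne' : x ≠ x * u := fun h => hu1 (mul_eq_left.1 h.symm)
    rw [map_sub, h2A x hx u hu hx1 hu1 (Ne.symm hux),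
      h2A x hx (x * u) (X.mul_mem hx hu) hx1 hne hne', ← mul_assoc, hxx, one_mul]
    module
  have hv1 := key y hy hy'.1 hy'.2
  have hv2 := key z hz hz1 hzx
  obtain ⟨r, s, hs, hrs⟩ := CfsgLib.ThreeTransp.Axial.mul_quarter_quarter P hv1 hv2
  have n1 : y ≠ x * z := fun h => hzxy (by rw [h, ← mul_assoc, hxx, one_mul])
  have n2 : x * y ≠ z := fun h => hzxy h.symm
  have n3 : x * y ≠ x * z := fun h => hzy (mul_left_cancel h).symm
  have e1 : y * (x * z) = x * (y * z) := by rw [← mul_assoc, ← hxy, mul_assoc]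
  have e2 : x * y * (x * z) = y * z := by
    rw [mul_assoc, e1, ← mul_assoc x x, hxx, one_mul]
  have hprod : mul (ax y - ax (x * y)) (ax z - ax (x * z)) =
      (1 / 4 : ℝ) • (ax (x * (y * z)) - ax (y * z)) := by
    simp only [map_sub, LinearMap.sub_apply]
    rw [h2A y hy z hz hy'.1 hz1 (Ne.symm hzy),
      h2A y hy (x * z) (X.mul_mem hx hz) hy'.1 hxzne n1,
      h2A (x * y) (X.mul_mem hx hy) z hz hxyne hz1 n2,
      h2A (x * y) (X.mul_mem hx hy) (x * z) (X.mul_mem hx hz) hxyne hxzne n3, e1, e2, mul_assoc x y z]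
    module
  have hw := key (x * (y * z)) (X.mul_mem hx (X.mul_mem hy hz)) hxyzne
    (fun h => hyzne (mul_eq_left.1 h))
  rw [← mul_assoc x x, hxx, one_mul] at hw
  rw [hprod] at hrs
  set w := ax (x * (y * z)) - ax (y * z) with hwdef
  have h1 : mul a ((1 / 4 : ℝ) • w) = r • a := by
    rw [hrs, map_add, map_smul, CfsgLib.ThreeTransp.Axial.idem P, hs, add_zero]
  have h2 : mul a (r • a) = r • a := by
    rw [map_smul, CfsgLib.ThreeTransp.Axial.idem P]
  rw [← h1, map_smul, hw, smul_smul, map_smul, hw, smul_smul] at h2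
  have hw0 : w = 0 := by
    have h3 : ((1 / 4 * (1 / 4) * (1 / 4) - 1 / 4 * (1 / 4) : ℝ)) • w = 0 := by
      rw [sub_smul, h2, sub_self]
    exact (smul_eq_zero.1 h3).resolve_left (by norm_num)
  rw [hwdef, sub_eq_zero] at hw0
  have hne : x * (y * z) ≠ y * z := fun h => hx1 (mul_eq_right.1 h)
  have hp := h2A (x * (y * z)) (X.mul_mem hx (X.mul_mem hy hz)) (y * z) (X.mul_mem hy hz) hxyzne hyzne hne
  have e3 : x * (y * z) * (y * z) = x := by
    rw [mul_assoc, hX _ (X.mul_mem hy hz), mul_one]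
  rw [e3, ← ha, hw0] at hp
  have hyzP := hax (y * z) (X.mul_mem hy hz) hyzne
  rw [CfsgLib.ThreeTransp.Axial.idem hyzP] at hp
  have h5 : a = (-6 : ℝ) • ax (y * z) := by linear_combination (norm := module) (8 : ℝ) • hp
  have h6 := CfsgLib.ThreeTransp.Axial.idem P
  rw [← ha, h5] at h6
  simp only [map_smul, LinearMap.smul_apply, CfsgLib.ThreeTransp.Axial.idem hyzP, smul_smul] at h6
  rw [
    ← sub_eq_zero, ← sub_smul] at h6
  exact CfsgLib.ThreeTransp.Axial.ne_zero hyzP ((smul_eq_zero.1 h6).resolve_left (by norm_num))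

end Cfsg.Agent.S5543
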