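import Cfsg.Agent.Lib.ThreeTransp.Axial
import Cfsg.Statements.S5545
-- import your own Cfsg.Agent.* helpers here

set_option autoImplicit false
open Cfsg

namespace Cfsg.Agent.S5545

/-- Let V be a finite-dimensional real vector space with a commutative bilinear product and a positive-definite symmetric bilinear form that associates with the product and satisfies the Norton inequality (the Majorana setting of the definitions). Let μ₀, μ₁ be commuting Majorana involutions with distinct axial vectors a₀ ≠ a₁ of squared length 1, each involution having no other axial vector. Then either a₀ and a₁ are orthogonal with a₀ ∘ a₁ = 0 (type 2B), or their inner product is 1/8 and, with a₂ = a₀ + a₁ − 8 a₀ ∘ a₁, the vector a₂ is an idempotent and a₀ ∘ a₂ = (1/8)(a₀ + a₂ − a₁), a₁ ∘ a₂ = (1/8)(a₁ + a₂ − a₀) (type 2A: the three idempotents span a subalgebra with aᵢ ∘ aⱼ = (1/8)(aᵢ + aⱼ − aₖ)). -/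
theorem result {V : Type*} [AddCommGroup V] [Module ℝ V] [FiniteDimensional ℝ V] (mul : V →ₗ[ℝ] V →ₗ[ℝ] V) (B : LinearMap.BilinForm ℝ V) (hV : Cfsg.Axial.IsMajoranaAmbient mul B) (μ₀ μ₁ : V ≃ₗ[ℝ] V) (a₀ a₁ : V) (h₀ : Cfsg.Axial.IsMajoranaPair mul B μ₀ a₀) (h₁ : Cfsg.Axial.IsMajoranaPair mul B μ₁ a₁) (hu₀ : ∀ a : V, Cfsg.Axial.IsMajoranaPair mul B μ₀ a → a = a₀) (hu₁ : ∀ a : V, Cfsg.Axial.IsMajoranaPair mul B μ₁ a → a = a₁) (hn₀ : B a₀ a₀ = 1) (hn₁ : B a₁ a₁ = 1) (hc : μ₀ * μ₁ = μ₁ * μ₀) (hne : a₀ ≠ a₁) : (B a₀ a₁ = 0 ∧ mul a₀ a₁ = 0) ∨ (B a₀ a₁ = 1 / 8 ∧ mul (a₀ + a₁ - (8 : ℝ) • mul a₀ a₁) (a₀ + a₁ - (8 : ℝ) • mul a₀ a₁) = a₀ + a₁ - (8 : ℝ) • mul a₀ a₁ ∧ mul a₀ (a₀ + a₁ - (8 : ℝ) • mul a₀ a₁) = (1 / 8 : ℝ) • (a₀ + (a₀ + a₁ - (8 : ℝ) • mul a₀ a₁) - a₁) ∧ mul a₁ (a₀ + a₁ - (8 : ℝ) • mul a₀ a₁) = (1 / 8 : ℝ) • (a₁ + (a₀ + a₁ - (8 : ℝ) • mul a₀ a₁) - a₀)) := by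
  have hd : μ₀ a₁ = a₁ := CfsgLib.ThreeTransp.Axial.fixed_of_commute h₁ hu₁ h₀.1 hc
  have hd' : μ₁ a₀ = a₀ := CfsgLib.ThreeTransp.Axial.fixed_of_commute h₀ hu₀ h₁.1 hc.symm
  obtain ⟨α, z, q, hz, hq, hv⟩ := CfsgLib.ThreeTransp.Axial.decomp_fixed h₀ hd
  have i₀ := CfsgLib.ThreeTransp.Axial.idem h₀
  have i₁ := CfsgLib.ThreeTransp.Axial.idem h₁
  obtain ⟨hcm, hsym, hpos, hassoc, -⟩ := id hV
  have o1 : mul a₀ a₀ = (1 : ℝ) • a₀ := by rw [i₀, one_smul]
  have o0 : mul a₀ z = (0 : ℝ) • z := by rw [hz, zero_smul]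
  have b01 : B a₀ z = 0 := CfsgLib.ThreeTransp.Axial.orth hV o1 o0 (by norm_num)
  have b0q : B a₀ q = 0 := CfsgLib.ThreeTransp.Axial.orth hV o1 hq (by norm_num)
  have bzq : B z q = 0 := CfsgLib.ThreeTransp.Axial.orth hV o0 hq (by norm_num)
  obtain ⟨r, s, hs, hqq⟩ := CfsgLib.ThreeTransp.Axial.mul_quarter_quarter h₀ hq hq
  have hzz := CfsgLib.ThreeTransp.Axial.mul_zero_zero h₀ hz hz
  have hzq := CfsgLib.ThreeTransp.Axial.mul_zero_quarter h₀ hz hq
  -- the idempotent equation, split along the eigenspaces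
  have E0 : (α * α + r - α) • a₀ + (mul z z + s - z) + ((α / 2 - 1) • q + (2 : ℝ) • mul z q) = 0 := by
    have h := i₁
    rw [hv] at h
    simp only [map_add, map_smul, LinearMap.add_apply, LinearMap.smul_apply, i₀, hz, hq,
      hcm z a₀, hcm q a₀, hcm q z, hqq] at h
    linear_combination (norm := module) h
  have E1 : (α * α + r - α) • a₀ + (1 / 4 : ℝ) • ((α / 2 - 1) • q + (2 : ℝ) • mul z q) = 0 := by
    have h := congrArg (mul a₀) E0
    simp only [map_add, map_sub, map_smul, map_zero, i₀, hzz, hs, hz, hq, hzq] at h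
    linear_combination (norm := module) h
  have E2 : (α * α + r - α) • a₀ + (1 / 16 : ℝ) • ((α / 2 - 1) • q + (2 : ℝ) • mul z q) = 0 := by
    have h := congrArg (mul a₀) E1
    simp only [map_add, map_smul, map_zero, i₀, hq, hzq] at h
    linear_combination (norm := module) h
  have Eq : (α / 2 - 1) • q + (2 : ℝ) • mul z q = 0 := by
    linear_combination (norm := module) (16 / 3 : ℝ) • E1 - (16 / 3 : ℝ) • E2
  have Er : r = α - α * α := by
    rw [Eq, smul_zero, add_zero] at E1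
    have := (smul_eq_zero.1 E1).resolve_right (CfsgLib.ThreeTransp.Axial.ne_zero h₀)
    linarith
  subst Er
  have Ez : mul z z = z - s := by
    rw [Eq, add_zero, show α * α + (α - α * α) - α = 0 by ring, zero_smul, zero_add] at E0
    linear_combination (norm := module) E0
  have Ezq : mul z q = (1 / 2 - α / 4) • q := by
    linear_combination (norm := module) (1 / 2 : ℝ) • Eq
  have hBq : B q q = 4 * (α - α * α) := by
    have h := hassoc a₀ q q
    have o' : B a₀ s = 0 := CfsgLib.ThreeTransp.Axial.orth hV o1 (d := 0) (by rw [hs, zero_smul]) (by norm_num)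
    rw [hqq, hq, map_add, map_smul, map_smul, LinearMap.smul_apply, o', hn₀] at h
    simp only [smul_eq_mul] at h
    linarith
  have hα : B a₀ a₁ = α := by
    rw [hv, map_add, map_add, map_smul, hn₀, b01, b0q]; simp
  have hprod : mul a₀ a₁ = α • a₀ + (1 / 4 : ℝ) • q := by
    rw [hv, map_add, map_add, map_smul, i₀, hz, hq, add_zero]
  by_cases hq0 : q = 0
  · left
    subst hq0
    have : α = 0 ∨ α = 1 := by
      have h0 : α * (1 - α) = 0 := by
        simp only [map_zero] at hBq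
        linarith
      rcases mul_eq_zero.1 h0 with h | h
      · exact Or.inl h
      · exact Or.inr (by linarith)
    rcases this with rfl | rfl
    · exact ⟨hα, by rw [hprod]; simp⟩
    · exfalso
      apply hne
      have hz0 : B z z = 0 := by
        have h := hn₁
        rw [hv] at h
        simp only [map_add, map_smul, LinearMap.add_apply, LinearMap.smul_apply, map_zero,
          hn₀, b01, hsym z a₀, smul_eq_mul, LinearMap.zero_apply] at h
        linarith
      have : z = 0 := by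
        by_contra hzne
        exact (hpos z hzne).ne' hz0
      rw [hv, this, one_smul, add_zero, add_zero]
  -- the second decomposition: `q'` is a `1/4`-eigenvector of `a₁`
  right
  obtain ⟨α', z', q', hz', hq', hv'⟩ := CfsgLib.ThreeTransp.Axial.decomp_fixed h₁ hd'
  have p1 : mul a₁ a₁ = (1 : ℝ) • a₁ := by rw [i₁, one_smul]
  have hα' : α' = α := by
    have h := hsym a₁ a₀
    rw [hα, hv', map_add, map_add, map_smul, hn₁,
      CfsgLib.ThreeTransp.Axial.orth hV p1 (d := 0) (by rw [hz', zero_smul]) (by norm_num),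
      CfsgLib.ThreeTransp.Axial.orth hV p1 hq' (by norm_num)] at h
    simpa using h
  have hq'' : q' = (4 : ℝ) • mul a₀ a₁ - (4 * α) • a₁ := by
    rw [hcm a₀ a₁, hv', map_add, map_add, map_smul, i₁, hz', hq', hα']
    module
  have E3 : (1 / 4 - 2 * α) • q + (s - (3 * α) • z) = 0 := by
    have h := hq'
    rw [hq'', hprod, hv] at h
    simp only [map_add, map_sub, map_smul, LinearMap.add_apply, LinearMap.smul_apply, i₀, hz, hq,
      hcm z a₀, hcm q a₀, hcm q z, hqq, Ez, Ezq] at h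
    linear_combination (norm := module) h
  have E4 : ((1 / 4 - 2 * α) / 4) • q = 0 := by
    have h := congrArg (mul a₀) E3
    simp only [map_add, map_sub, map_smul, map_zero, hq, hs, hz] at h
    linear_combination (norm := module) h
  have hα8 : α = 1 / 8 := by
    have := (smul_eq_zero.1 E4).resolve_right hq0
    linarith
  subst hα8
  have Es : s = (3 / 8 : ℝ) • z := by linear_combination (norm := module) E3
  refine ⟨hα, ?_, ?_, ?_⟩
  all_goals
    rw [hprod, hv]
    simp only [map_add, map_sub, map_smul, LinearMap.add_apply, LinearMap.sub_apply,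
      LinearMap.smul_apply, i₀, hz, hq, hcm z a₀, hcm q a₀, hcm q z, hqq, Ez, Ezq, Es]
    module

end Cfsg.Agent.S5545
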