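import Cfsg.Agent.Lib.ThreeTransp.LeechThirteen
import Cfsg.Statements.S5546
-- import your own Cfsg.Agent.* helpers here

set_option autoImplicit false
open Cfsg

namespace Cfsg.Agent.S5546
open CfsgLib.ThreeTransp.LeechThirteen

/-- The second Conway group (the stabilizer in the Leech lattice automorphism group of the short vector fixed in the definitions) is isomorphic to a subgroup of the general linear group of degree 23 over the field with 13 elements: there is an injective homomorphism into it. -/
theorem result : ∃ f : ↥Cfsg.Spor.Co2 →* GL (Fin 23) (ZMod 13), Function.Injective f := by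
  let e : Module.End (ZMod 13) (Fin 23 → ZMod 13) →* Matrix (Fin 23) (Fin 23) (ZMod 13) :=
    (LinearMap.toMatrixAlgEquiv' : _ ≃ₐ[ZMod 13] _).toMulEquiv.toMonoidHom
  refine ⟨(e.comp rep).toHomUnits, fun a b h => rep_injective ?_⟩
  exact (LinearMap.toMatrixAlgEquiv' : _ ≃ₐ[ZMod 13] _).injective (congrArg Units.val h)

end Cfsg.Agent.S5546
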