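import Cfsg.Statements.S5549
import Cfsg.Agent.Lib.ThreeTransp.GolayRigidData
import Cfsg.Agent.Lib.SmallGroups.LeechBasic

set_option autoImplicit false
open Cfsg

set_option maxRecDepth 4000
set_option maxHeartbeats 800000
namespace Cfsg.Agent.S5549
open scoped Pointwise
open CfsgLib CfsgLib.Sporadic.GroupTables CfsgLib.ThreeTransp.GolayRigid CfsgLib.SmallGroups CfsgLib.SmallGroups.Golay CfsgLib.SmallGroups.GolayOctads CfsgLib.SmallGroups.M24Group CfsgLib.SmallGroups.Mathieu

theorem mem_cw_of_isCW {n : ℕ} (h : isCW n = true) : n ∈ cw :=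
  mem_cw.2 ⟨n % 4096, Nat.mod_lt _ (by norm_num), by simpa [isCW] using h⟩

theorem mem_code_of_isCW {n : ℕ} (h : isCW n = true) : word n ∈ golayCode := by
  rw [isCW, beq_iff_eq] at h
  rw [← h]
  exact word_enc_mem _

/-- The action on words. -/
def act (σ : Equiv.Perm GolayPt) (w : GolayPt → ZMod 2) : GolayPt → ZMod 2 := fun p => w (σ.symm p)

theorem act_add (σ : Equiv.Perm GolayPt) (v w : GolayPt → ZMod 2) : act σ (v + w) = act σ v + act σ w := rfl

theorem act_mul (σ τ : Equiv.Perm GolayPt) (w : GolayPt → ZMod 2) : act (σ * τ) w = act σ (act τ w) := rfl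

theorem act_mem {σ : Equiv.Perm GolayPt} (hσ : σ ∈ M24) {w : GolayPt → ZMod 2} (hw : w ∈ golayCode) :
    act σ w ∈ golayCode :=
  LeechBasic.comp_mem_code (inv_mem hσ) hw

/-- Equal up to the all-ones word. -/
def E (v w : GolayPt → ZMod 2) : Prop := v = w ∨ v = w + fun _ => 1

theorem one_add_one : ((fun _ => 1 : GolayPt → ZMod 2) + fun _ => 1) = 0 := by
  funext p; exact CharTwo.add_self_eq_zero 1

theorem E.add {a b c d : GolayPt → ZMod 2} (h1 : E a b) (h2 : E c d) : E (a + c) (b + d) := by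
  rcases h1 with rfl | rfl <;> rcases h2 with rfl | rfl
  · exact Or.inl rfl
  · exact Or.inr (by abel)
  · exact Or.inr (by abel)
  · refine Or.inl ?_
    rw [add_add_add_comm, one_add_one, add_zero]

theorem E.act {a b : GolayPt → ZMod 2} (σ : Equiv.Perm GolayPt) (h : E a b) : E (S5549.act σ a) (S5549.act σ b) := by
  rcases h with rfl | rfl
  · exact Or.inl rfl
  · exact Or.inr rfl

theorem E.trans {a b c : GolayPt → ZMod 2} (h1 : E a b) (h2 : E b c) : E a c := by
  rcases h1 with rfl | rfl <;> rcases h2 with rfl | rfl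
  · exact Or.inl rfl
  · exact Or.inr rfl
  · exact Or.inr rfl
  · exact Or.inl (by rw [add_assoc, one_add_one, add_zero])

/-- The kind of a word. -/
def ty (w : GolayPt → ZMod 2) : ℕ := kind (support₂ w).card

theorem ty_word (m : ℕ) : ty (word m) = typ m := by rw [ty, support₂_word, card_toSet, typ]

theorem support_act (σ : Equiv.Perm GolayPt) (w : GolayPt → ZMod 2) :
    support₂ (act σ w) = σ • support₂ w := by
  have h := support₂_comp σ⁻¹ w
  rw [inv_inv] at h
  exact h

theorem ty_act (σ : Equiv.Perm GolayPt) (w : GolayPt → ZMod 2) : ty (act σ w) = ty w := by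
  rw [ty, support_act, Finset.card_smul_finset, ty]

theorem kind_compl : ∀ n ≤ 24, kind (24 - n) = kind n := by decide +kernel

theorem ty_add_one (w : GolayPt → ZMod 2) : ty (w + fun _ => 1) = ty w := by
  have h : support₂ (w + fun _ => 1) = (support₂ w)ᶜ := by
    ext p
    simp only [support₂, Finset.mem_compl, Finset.mem_filter, Finset.mem_univ, true_and, Pi.add_apply]
    generalize w p = v
    revert v; decide
  have hle := (support₂ w).card_le_univ
  rw [card_golayPt] at hle
  rw [ty, h, Finset.card_compl, card_golayPt, kind_compl _ hle, ty]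

theorem E.ty {a b : GolayPt → ZMod 2} (h : E a b) : S5549.ty a = S5549.ty b := by
  rcases h with rfl | rfl
  · rfl
  · exact ty_add_one b

theorem act_word {g : Equiv.Perm GolayPt} {t : ℕ} (h : IsTbl g t) (m : ℕ) :
    act g (word m) = word (img (pw t) m) := by
  refine MathieuSets.support₂_injective ?_
  rw [support₂_word, ← h.smul, ← support₂_word, support_act]

theorem ones_mem : (fun _ => 1 : GolayPt → ZMod 2) ∈ golayCode :=
  Submodule.subset_span (Or.inr rfl)

/-- The induction along the steps. -/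
theorem follow (x : ↥golayCode ≃ₗ[ZMod 2] ↥golayCode)
    (hty : ∀ c : ↥golayCode, ty (x c : GolayPt → ZMod 2) = ty (c : GolayPt → ZMod 2)) :
    ∀ (rest : List (ℕ × List (ℕ × ℕ))) (prev : List ℕ), okSteps prev rest = true →
      (∀ b ∈ prev, word b ∈ golayCode) →
      (∃ σ ∈ M24, ∀ b ∈ prev, ∀ hb : word b ∈ golayCode, E (x ⟨word b, hb⟩ : GolayPt → ZMod 2) (act σ (word b))) →
      ∃ σ ∈ M24, ∀ b, (b ∈ prev ∨ b ∈ rest.map Prod.fst) →
        ∀ hb : word b ∈ golayCode, E (x ⟨word b, hb⟩ : GolayPt → ZMod 2) (act σ (word b))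
  | [], prev, _, _, ⟨σ, hσ, h⟩ => ⟨σ, hσ, fun b hb => h b (hb.resolve_right (by simp))⟩
  | (b, cands) :: rest, prev, hok, hprev, ⟨σ, hσ, h⟩ => by
    simp only [okSteps, okStep, Bool.and_eq_true, beq_iff_eq, List.all_eq_true] at hok
    obtain ⟨⟨⟨⟨hcw, hpc⟩, hfilt⟩, hcands⟩, hrest⟩ := hok
    have hbm : word b ∈ golayCode := mem_code_of_isCW hcw
    set w := act σ⁻¹ (x ⟨word b, hbm⟩ : GolayPt → ZMod 2) with hw
    have hwm : w ∈ golayCode := act_mem (inv_mem hσ) (x ⟨word b, hbm⟩).2
    have hinv : ∀ s ∈ prev, ∀ hs : word s ∈ golayCode, E (act σ⁻¹ (x ⟨word s, hs⟩ : GolayPt → ZMod 2)) (word s) := by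
      intro s hs hsm
      have h1 := (h s hs hsm).act σ⁻¹
      rwa [← act_mul, inv_mul_cancel] at h1
    have hx : ∀ c : ↥golayCode, ty (act σ⁻¹ (x c : GolayPt → ZMod 2)) = ty (c : GolayPt → ZMod 2) :=
      fun c => (ty_act _ _).trans (hty c)
    -- an octad in the class of the image
    obtain ⟨q, hqmem, hq⟩ : ∃ q ∈ cwOfWeight 8, E w (word q) := by
      have h8 : ty w = 1 := by
        rw [hw, hx, ty_word]
        simp [typ, kind, hpc]
      have hm := mem_code_iff_isCW.1 hwm
      have hm1 := mem_code_iff_isCW.1 (add_mem hwm ones_mem)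
      have hc : ∀ v, (support₂ v).card = pc (mask v) := fun v => by rw [← toSet_mask, card_toSet]
      rcases (show (support₂ w).card = 8 ∨ (support₂ w).card = 16 by
        unfold ty kind at h8
        by_cases h1 : (support₂ w).card = 8
        · exact Or.inl h1
        · by_cases h2 : (support₂ w).card = 16
          · exact Or.inr h2
          · by_cases h3 : (support₂ w).card = 12 <;> simp [h1, h2, h3] at h8) with h1 | h1
      · exact ⟨mask w, mem_cwOfWeight.2 ⟨mem_cw_of_isCW hm, (hc w).symm.trans h1⟩, Or.inl (word_mask w).symm⟩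
      · refine ⟨mask (w + fun _ => 1), mem_cwOfWeight.2 ⟨mem_cw_of_isCW hm1, ?_⟩, Or.inr ?_⟩
        · have h2 : support₂ (w + fun _ => 1) = (support₂ w)ᶜ := by
            ext p
            simp only [support₂, Finset.mem_compl, Finset.mem_filter, Finset.mem_univ, true_and, Pi.add_apply]
            generalize w p = v
            revert v; decide
          rw [← hc, h2, Finset.card_compl, card_golayPt, h1]
        · rw [word_mask, add_assoc, one_add_one, add_zero]
    have hprof : sameProf prev b q = true := by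
      simp only [sameProf, Bool.and_eq_true, List.all_eq_true, beq_iff_eq]
      have hadd : ∀ (c d : ↥golayCode), act σ⁻¹ (x (c + d) : GolayPt → ZMod 2) =
          act σ⁻¹ (x c : GolayPt → ZMod 2) + act σ⁻¹ (x d : GolayPt → ZMod 2) := fun c d => by
        rw [map_add, Submodule.coe_add, act_add]
      refine ⟨fun s hs => ?_, fun s hs t ht => ?_⟩
      · have e := (hq.add (hinv s hs (hprev s hs))).ty
        rw [hw, ← hadd, hx, Submodule.coe_add, ← word_xor, ← word_xor, ty_word, ty_word] at e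
        exact e.symm
      · have e := ((hq.add (hinv s hs (hprev s hs))).add (hinv t ht (hprev t ht))).ty
        rw [hw, ← hadd, ← hadd, hx, Submodule.coe_add, Submodule.coe_add, ← word_xor, ← word_xor, ← word_xor,
          ← word_xor, ty_word, ty_word] at e
        exact e.symm
    have hqc : q ∈ cands.map Prod.fst := hfilt ▸ List.mem_filter.2 ⟨hqmem, hprof⟩
    obtain ⟨⟨q', t⟩, hc, rfl⟩ := List.mem_map.1 hqc
    obtain ⟨⟨hokt, hbq⟩, hfix⟩ := hcands _ hc
    obtain ⟨τ, hτ, hτt⟩ := exists_isTbl hokt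
    have hfix' : ∀ s ∈ prev, act τ (word s) = word s := fun s hs => by rw [act_word hτt, hfix s hs]
    have hnew : ∀ s, (s = b ∨ s ∈ prev) → ∀ hs : word s ∈ golayCode,
        E (x ⟨word s, hs⟩ : GolayPt → ZMod 2) (act (σ * τ) (word s)) := by
      rintro s (rfl | hs) hsm
      · have h1 := hq.act σ
        rw [hw, ← act_mul, mul_inv_cancel] at h1
        rw [act_mul, act_word hτt, hbq]
        exact h1
      · rw [act_mul, hfix' s hs]
        exact h s hs hsm
    obtain ⟨σ', hσ', h'⟩ := follow x hty rest (b :: prev) hrest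
      (fun s hs => by rcases List.mem_cons.1 hs with rfl | hs
                      · exact hbm
                      · exact hprev s hs)
      ⟨σ * τ, mul_mem hσ hτ, fun s hs => hnew s (List.mem_cons.1 hs)⟩
    refine ⟨σ', hσ', fun s hs => h' s ?_⟩
    simp only [List.map_cons, List.mem_cons] at hs ⊢
    tauto

theorem mem_code_of_steps : ∀ (rest : List (ℕ × List (ℕ × ℕ))) (prev : List ℕ), okSteps prev rest = true →
    ∀ b ∈ rest.map Prod.fst, word b ∈ golayCode
  | [], _, _, b, hb => absurd hb (by simp)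
  | (b₀, cands) :: rest, prev, hok, b, hb => by
    simp only [okSteps, okStep, Bool.and_eq_true, beq_iff_eq] at hok
    rcases List.mem_cons.1 hb with rfl | hb
    · exact mem_code_of_isCW hok.1.1.1.1
    · exact mem_code_of_steps rest _ hok.2 b hb



/-- Let X be a group of linear automorphisms of the length-24 binary Golay code of the definitions that fix the all-ones word, containing the coordinate-permutation action of every element of the code's automorphism group (the Mathieu group of degree 24), and such that every element of X sends each codeword into its orbit under that Mathieu group up to adding the all-ones word (X has the same orbits as the Mathieu group on the code modulo the all-ones word). Then every element of X agrees, modulo the all-ones word, with the action of a single element of the Mathieu group: X induces exactly the Mathieu group on the code modulo the all-ones word. -/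
theorem result (X : Subgroup (↥Cfsg.golayCode ≃ₗ[ZMod 2] ↥Cfsg.golayCode)) (h1 : ∀ x ∈ X, ∀ e : ↥Cfsg.golayCode, (e : (Cfsg.GolayPt → ZMod 2)) = (fun _ => (1 : ZMod 2)) → x e = e) (hM : ∀ σ ∈ Cfsg.M24, ∃ x ∈ X, ∀ c : ↥Cfsg.golayCode, ((x c : ↥Cfsg.golayCode) : (Cfsg.GolayPt → ZMod 2)) = fun p => (c : (Cfsg.GolayPt → ZMod 2)) (σ.symm p)) (horb : ∀ x ∈ X, ∀ c : ↥Cfsg.golayCode, ∃ σ ∈ Cfsg.M24, ((x c : ↥Cfsg.golayCode) : (Cfsg.GolayPt → ZMod 2)) = (fun p => (c : (Cfsg.GolayPt → ZMod 2)) (σ.symm p)) ∨ ((x c : ↥Cfsg.golayCode) : (Cfsg.GolayPt → ZMod 2)) = (fun p => (c : (Cfsg.GolayPt → ZMod 2)) (σ.symm p)) + fun _ => (1 : ZMod 2)) (x : ↥Cfsg.golayCode ≃ₗ[ZMod 2] ↥Cfsg.golayCode) (hx : x ∈ X) : ∃ σ ∈ Cfsg.M24, ∀ c : ↥Cfsg.golayCode, ((x c : ↥Cfsg.golayCode) : (Cfsg.GolayPt → ZMod 2)) = (fun p => (c : (Cfsg.GolayPt → ZMod 2)) (σ.symm p)) ∨ ((x c : ↥Cfsg.golayCode) : (Cfsg.GolayPt → ZMod 2)) = (fun p => (c : (Cfsg.GolayPt → ZMod 2)) (σ.symm p)) + fun _ => (1 : ZMod 2) := by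
  classical
  have hty : ∀ c : ↥Cfsg.golayCode, ty (x c : GolayPt → ZMod 2) = ty (c : GolayPt → ZMod 2) := by
    intro c
    obtain ⟨σ, -, h⟩ := horb x hx c
    have h' : E (x c : GolayPt → ZMod 2) (act σ (c : GolayPt → ZMod 2)) := h
    rw [h'.ty, ty_act]
  obtain ⟨σ, hσ, h⟩ := follow x hty steps [] steps_ok (by simp) ⟨1, one_mem _, by simp⟩
  refine ⟨σ, hσ, fun c => ?_⟩
  show E (x c : GolayPt → ZMod 2) (act σ (c : GolayPt → ZMod 2))
  obtain ⟨w, hw⟩ := c
  suffices ∀ hw : w ∈ Cfsg.golayCode, E (x ⟨w, hw⟩ : GolayPt → ZMod 2) (act σ w) from this hw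
  have hadd : ∀ v v', (∃ hv : v ∈ Cfsg.golayCode, E (x ⟨v, hv⟩ : GolayPt → ZMod 2) (act σ v)) →
      (∃ hv : v' ∈ Cfsg.golayCode, E (x ⟨v', hv⟩ : GolayPt → ZMod 2) (act σ v')) →
      ∃ hv : v + v' ∈ Cfsg.golayCode, E (x ⟨v + v', hv⟩ : GolayPt → ZMod 2) (act σ (v + v')) := by
    rintro v v' ⟨hv, e⟩ ⟨hv', e'⟩
    refine ⟨add_mem hv hv', ?_⟩
    have := e.add e'
    rw [← act_add, ← Submodule.coe_add, ← map_add] at this
    exact this
  have hzero : ∃ hv : (0 : GolayPt → ZMod 2) ∈ Cfsg.golayCode, E (x ⟨0, hv⟩ : GolayPt → ZMod 2) (act σ 0) := by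
    refine ⟨zero_mem _, Or.inl ?_⟩
    rw [show (⟨0, zero_mem _⟩ : ↥Cfsg.golayCode) = 0 from rfl, map_zero]
    rfl
  have hone : ∃ hv : (fun _ => 1 : GolayPt → ZMod 2) ∈ Cfsg.golayCode,
      E (x ⟨fun _ => 1, hv⟩ : GolayPt → ZMod 2) (act σ fun _ => 1) :=
    ⟨ones_mem, Or.inl (by rw [h1 x hx ⟨_, ones_mem⟩ rfl]; rfl)⟩
  have hbas : ∀ i < 12, ∃ hv : word (bas i) ∈ Cfsg.golayCode,
      E (x ⟨word (bas i), hv⟩ : GolayPt → ZMod 2) (act σ (word (bas i))) := by
    intro i hi
    have hs := span_ok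
    simp only [okSpan, List.all_eq_true, List.mem_range] at hs
    have hi' := hs i hi
    rcases hl : spanCert[i]? with _ | l
    · rw [hl] at hi'; exact absurd hi' (by simp)
    · rw [hl] at hi'
      simp only [Bool.and_eq_true, List.all_eq_true, List.contains_iff_mem, Bool.or_eq_true, beq_iff_eq] at hi'
      have hsum : ∀ m : List ℕ, (∀ s ∈ m, s ∈ steps.map Prod.fst) → ∃ hv : word (m.foldr (fun s a => s ^^^ a) 0) ∈
          Cfsg.golayCode, E (x ⟨_, hv⟩ : GolayPt → ZMod 2) (act σ (word (m.foldr (fun s a => s ^^^ a) 0))) := by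
        intro m
        induction m with
        | nil => intro _; simpa [word_zero] using hzero
        | cons s m ih =>
          intro hm
          rw [List.foldr_cons, word_xor]
          refine hadd _ _ ?_ (ih fun t ht => hm t (List.mem_cons_of_mem _ ht))
          have hsm : word s ∈ Cfsg.golayCode := by
            obtain ⟨⟨b, cs⟩, hb, rfl⟩ := List.mem_map.1 (hm s (List.mem_cons_self ..))
            exact mem_code_of_steps _ _ steps_ok b (List.mem_map.2 ⟨_, hb, rfl⟩)
          exact ⟨hsm, h s (Or.inr (hm s (List.mem_cons_self ..))) hsm⟩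
      have hl' := hsum l hi'.1
      rcases hi'.2 with e | e
      · rw [← e]; exact hl'
      · have hfull : word (2 ^ 24 - 1) = (fun _ => 1 : GolayPt → ZMod 2) := by
          funext p
          simp only [word, testBit_full (idx_lt p), if_true]
        rw [show bas i = (bas i ^^^ (2 ^ 24 - 1)) ^^^ (2 ^ 24 - 1) by rw [Nat.xor_assoc, Nat.xor_self, Nat.xor_zero],
          word_xor, ← e, hfull]
        exact hadd _ _ hl' hone
  intro hw'
  obtain ⟨_, e⟩ := code_induction (P := fun w => ∃ hv : w ∈ Cfsg.golayCode,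
    E (x ⟨w, hv⟩ : GolayPt → ZMod 2) (act σ w)) hzero hbas hadd hw'
  exact e

end Cfsg.Agent.S5549
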