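import Cfsg.Agent.Lib.ThreeTransp.Basic
import Cfsg.Agent.Lib.Classical.PSU32
import Cfsg.Statements.S5555
-- import your own Cfsg.Agent.* helpers here

set_option autoImplicit false
open Cfsg

namespace Cfsg.Agent.S5555
open CfsgLib.ThreeTransp.Basic
open scoped Pointwise commutatorElement

set_option linter.unusedSectionVars false

variable {G : Type*} [Group G] [Finite G]

theorem swap_rel {a b : G} (h1 : (a * b⁻¹) ^ 3 = 1) (h2 : (a * b) ^ 3 = 1) (ha : a ^ 3 = 1) (hb : b ^ 3 = 1) :
    a * (b⁻¹ * a * b) = b⁻¹ * a * b * a := by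
  have ha' : a * a = a⁻¹ := eq_inv_of_mul_eq_one_left (by rw [← ha, pow_succ, pow_two])
  have hb' : b * b = b⁻¹ := eq_inv_of_mul_eq_one_left (by rw [← hb, pow_succ, pow_two])
  have e1 : a * b⁻¹ * a = b * a⁻¹ * b := by
    have : (a * b⁻¹ * a) * (b⁻¹ * a * b⁻¹) = 1 := by rw [← h1]; simp only [pow_succ, pow_zero, one_mul, mul_assoc]
    rw [eq_inv_of_mul_eq_one_left this]; simp [mul_assoc]
  have e2 : a * b * a = b⁻¹ * a⁻¹ * b⁻¹ := by
    have : (a * b * a) * (b * a * b) = 1 := by rw [← h2]; simp only [pow_succ, pow_zero, one_mul, mul_assoc]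
    rw [eq_inv_of_mul_eq_one_left this]; simp [mul_assoc]
  calc a * (b⁻¹ * a * b) = a * b⁻¹ * a * b := by simp only [mul_assoc]
    _ = b * a⁻¹ * (b * b) := by rw [e1]; simp only [mul_assoc]
    _ = b⁻¹ * (b⁻¹ * a⁻¹ * b⁻¹) := by
      rw [hb', ← mul_assoc, ← mul_assoc, ← mul_inv_rev b b, hb', inv_inv]
    _ = b⁻¹ * a * b * a := by rw [← e2]; simp only [mul_assoc]

theorem sup_bound {H K : Subgroup G} (h : K ≤ Subgroup.normalizer (H : Set G)) {m n : ℕ}
    (hH : Nat.card ↥H ≤ m) (hK : Nat.card ↥K ≤ n) : Nat.card ↥(H ⊔ K) ≤ m * n := by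
  rw [← SetLike.coe_sort_coe, Subgroup.coe_mul_of_right_le_normalizer_left H K h]
  exact (Set.natCard_mul_le).trans (Nat.mul_le_mul hH hK)

theorem zpowers_three {a : G} (ha : a ^ 3 = 1) : Nat.card ↥(Subgroup.zpowers a) ≤ 3 ∧ IsPGroup 3 ↥(Subgroup.zpowers a) := by
  refine ⟨?_, fun x => ⟨1, ?_⟩⟩
  · rw [Nat.card_zpowers]; exact Nat.le_of_dvd (by norm_num) (orderOf_dvd_of_pow_eq_one ha)
  · obtain ⟨k, hk⟩ := Subgroup.mem_zpowers_iff.1 x.2
    refine Subtype.ext ?_
    rw [pow_one, Subgroup.coe_pow, ← hk, ← zpow_natCast, ← zpow_mul, mul_comm, zpow_mul, zpow_natCast, ha, one_zpow]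
    rfl

/-- Two elements with the relations of the exponent three group of rank two. -/
theorem burnside {a b : G} (ha : a ^ 3 = 1) (hb : b ^ 3 = 1) (h1 : (a * b⁻¹) ^ 3 = 1) (h2 : (a * b) ^ 3 = 1) :
    Nat.card ↥(Subgroup.closure {a, b}) ≤ 27 ∧ IsPGroup 3 ↥(Subgroup.closure {a, b}) := by
  set a' := b⁻¹ * a * b with ha'
  have hcomm : Commute a a' := swap_rel h1 h2 ha hb
  have ha'3 : a' ^ 3 = 1 := by
    have h := conj_pow (i := 3) (a := b⁻¹) (b := a)
    rw [inv_inv, ha] at h
    rw [ha', h]; simp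
  set A := Subgroup.zpowers a ⊔ Subgroup.zpowers a' with hA
  have hn : Subgroup.zpowers a' ≤ Subgroup.normalizer (Subgroup.zpowers a : Set G) := by
    rw [Subgroup.zpowers_le]
    refine Subgroup.mem_set_normalizer_iff.2 fun x => ?_
    constructor
    · intro hx
      obtain ⟨k, rfl⟩ := Subgroup.mem_zpowers_iff.1 hx
      rw [(hcomm.symm.zpow_right k).eq, mul_inv_cancel_right]
      exact hx
    · intro hx
      obtain ⟨k, hk⟩ := Subgroup.mem_zpowers_iff.1 hx
      refine Subgroup.mem_zpowers_iff.2 ⟨k, ?_⟩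
      calc a ^ k = a'⁻¹ * (a ^ k) * a' := by rw [mul_assoc, (hcomm.zpow_left k).eq, inv_mul_cancel_left]
        _ = x := by rw [hk]; group
  obtain ⟨c1, p1⟩ := zpowers_three ha
  obtain ⟨c2, p2⟩ := zpowers_three ha'3
  obtain ⟨c3, p3⟩ := zpowers_three hb
  have hAc : Nat.card ↥A ≤ 9 := sup_bound hn c1 c2
  have hAp : IsPGroup 3 ↥A := p1.to_sup_of_normal_left' p2 hn
  -- the third conjugate
  have hb2 : b⁻¹ * a' * b = (a * a')⁻¹ := by
    refine eq_inv_of_mul_eq_one_right ?_
    rw [ha', ← h1]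
    have hbb : b * b = b⁻¹ := eq_inv_of_mul_eq_one_left (by rw [← hb, pow_succ, pow_two])
    calc a * (b⁻¹ * a * b) * (b⁻¹ * (b⁻¹ * a * b) * b) = a * b⁻¹ * (a * b⁻¹) * (a * (b * b)) := by group
      _ = (a * b⁻¹) ^ 3 := by rw [hbb, pow_succ, pow_two]
  have hamem : a ∈ A := Subgroup.mem_sup_left (Subgroup.mem_zpowers a)
  have ha'mem : a' ∈ A := Subgroup.mem_sup_right (Subgroup.mem_zpowers a')
  have hmap : A.map (MulAut.conj b⁻¹).toMonoidHom = A := by
    refine Subgroup.eq_of_le_of_card_ge ?_ (Nat.card_congr ((MulAut.conj b⁻¹).subgroupMap A).toEquiv).le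
    rw [hA, Subgroup.map_sup, MonoidHom.map_zpowers, MonoidHom.map_zpowers, sup_le_iff, Subgroup.zpowers_le,
      Subgroup.zpowers_le, ← hA]
    refine ⟨?_, ?_⟩
    · show b⁻¹ * a * b⁻¹⁻¹ ∈ A
      rw [inv_inv]; exact ha'mem
    · show b⁻¹ * a' * b⁻¹⁻¹ ∈ A
      rw [inv_inv, hb2]; exact inv_mem (mul_mem hamem ha'mem)
  have hbA : Subgroup.zpowers b ≤ Subgroup.normalizer (A : Set G) := by
    rw [Subgroup.zpowers_le, ← inv_mem_iff]
    refine Subgroup.mem_set_normalizer_iff.2 fun x => ?_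
    simp only [SetLike.mem_coe]
    conv_rhs => rw [← hmap]
    exact ⟨fun hx => ⟨x, hx, rfl⟩, fun ⟨y, hy, e⟩ => by
      rwa [← (MulAut.conj b⁻¹).injective (a₂ := x) e]⟩
  have hle : Subgroup.closure {a, b} = A ⊔ Subgroup.zpowers b := by
    refine le_antisymm (by
      rw [Subgroup.closure_le, Set.insert_subset_iff, Set.singleton_subset_iff]
      exact ⟨Subgroup.mem_sup_left hamem, Subgroup.mem_sup_right (Subgroup.mem_zpowers b)⟩) ?_
    have hbm : b ∈ Subgroup.closure {a, b} := Subgroup.subset_closure (by simp)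
    have ham : a ∈ Subgroup.closure {a, b} := Subgroup.subset_closure (by simp)
    rw [hA, sup_le_iff, sup_le_iff, Subgroup.zpowers_le, Subgroup.zpowers_le, Subgroup.zpowers_le]
    exact ⟨⟨ham, mul_mem (mul_mem (inv_mem hbm) ham) hbm⟩, hbm⟩
  rw [hle]
  exact ⟨sup_bound hbA hAc c3, hAp.to_sup_of_normal_left' p3 hbA⟩

theorem two_commuting {C : Type*} [Group C] [Finite C] (h54 : Nat.card C = 54) {u v : C} (hu : u * u = 1)
    (hv : v * v = 1) (hu1 : u ≠ 1) (hv1 : v ≠ 1) (h : Commute u v) : u = v := by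
  by_contra hne
  have hmem : ∀ {w : C}, w * w = 1 → ∀ x : ↥(Subgroup.zpowers w), (x : C) = 1 ∨ (x : C) = w := by
    intro w hw x
    obtain ⟨k, hk⟩ := Subgroup.mem_zpowers_iff.1 x.2
    rw [← hk, ← Int.mul_ediv_add_emod k 2, zpow_add, zpow_mul, show w ^ (2 : ℤ) = 1 by
      rw [zpow_two, hw], one_zpow, one_mul]
    rcases Int.emod_two_eq k with e | e <;> rw [e] <;> simp
  let ψ := (Subgroup.zpowers u).subtype.noncommCoprod (Subgroup.zpowers v).subtype (fun x y => by
    obtain ⟨i, hi⟩ := Subgroup.mem_zpowers_iff.1 x.2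
    obtain ⟨j, hj⟩ := Subgroup.mem_zpowers_iff.1 y.2
    show Commute (x : C) (y : C)
    rw [← hi, ← hj]
    exact (h.zpow_left i).zpow_right j)
  have hψ : Function.Injective ψ := by
    refine (injective_iff_map_eq_one ψ).2 fun ⟨x, y⟩ hxy => ?_
    have e : (x : C) * (y : C) = 1 := hxy
    refine Prod.ext (Subtype.ext ?_) (Subtype.ext ?_)
    · rcases hmem hu x with ex | ex
      · exact ex
      · rcases hmem hv y with ey | ey <;> rw [ex, ey] at e
        · exact absurd (by rwa [mul_one] at e) hu1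
        · exact absurd (mul_right_cancel (e.trans hv.symm)) hne
    · rcases hmem hv y with ey | ey
      · exact ey
      · rcases hmem hu x with ex | ex <;> rw [ex, ey] at e
        · exact absurd (by rwa [one_mul] at e) hv1
        · exact absurd (mul_right_cancel (e.trans hv.symm)) hne
  have hd := Subgroup.card_dvd_of_injective ψ hψ
  have o2 : ∀ {w : C}, w * w = 1 → w ≠ 1 → orderOf w = 2 := fun hw hw1 => by
    have : Fact (Nat.Prime 2) := ⟨Nat.prime_two⟩
    exact orderOf_eq_prime (by rw [sq, hw]) hw1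
  rw [h54, Nat.card_prod, Nat.card_zpowers, Nat.card_zpowers, o2 hu hu1, o2 hv hv1] at hd
  norm_num at hd

theorem complement {C : Type*} [Group C] [Finite C] (h54 : Nat.card C = 54)
    (hnon : ∃ x y : C, x ^ 3 = 1 ∧ y ^ 3 = 1 ∧ x * y ≠ y * x) {D : Set G} (hD : Cfsg.IsThreeTranspositionClass D)
    (π : G →* C) (hπ : Function.Surjective π) : ∃ K : Subgroup G, π.ker.IsComplement' K := by
  classical
  obtain ⟨x₀, y₀, hx₀, hy₀, hxy₀⟩ := hnon
  obtain ⟨d, hd, -⟩ := hD.2.1
  have hsq : ∀ x ∈ D, π x * π x = 1 := fun x hx => by rw [← map_mul, sq_one (hD.1.1 x hx), map_one]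
  have himg : ∀ x : C, x ∈ Subgroup.closure (π '' D) := by
    intro x
    rw [← MonoidHom.map_closure, hD.2.2, Subgroup.map_top_of_surjective π hπ]
    trivial
  have hne1 : ∀ x ∈ D, π x ≠ 1 := by
    intro x hx h
    have hall : Subgroup.closure (π '' D) ≤ ⊥ := by
      rw [Subgroup.closure_le]
      rintro _ ⟨y, hy, rfl⟩
      obtain ⟨g, hg⟩ := class_conj hD hx hy
      rw [SetLike.mem_coe, Subgroup.mem_bot, ← hg, map_mul, map_mul, h, mul_one, ← map_mul, mul_inv_cancel, map_one]
    have h1 : ∀ z : C, z = 1 := fun z => Subgroup.mem_bot.1 (hall (himg z))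
    exact hxy₀ (by rw [h1 x₀, h1 y₀])
  have hthree : ∀ x ∈ D, ∀ y ∈ D, π x ≠ π y → (x * y) ^ 3 = 1 := by
    intro x hx y hy hne
    refine (hD.1.2 x hx y hy).resolve_left fun h => hne ?_
    exact two_commuting h54 (hsq x hx) (hsq y hy) (hne1 x hx) (hne1 y hy)
      ((((commute_iff (sq_one (hD.1.1 x hx)) (sq_one (hD.1.1 y hy))).2 h)).map π)
  obtain ⟨e, he, f, hf, hef⟩ : ∃ e ∈ D, ∃ f ∈ D, π (d * e) * π (d * f) ≠ π (d * f) * π (d * e) := by
    by_contra hall
    push Not at hall
    set S := (fun x => π (d * x)) '' D with hS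
    have hA : ∀ x ∈ Subgroup.closure S, ∀ y ∈ Subgroup.closure S, x * y = y * x := by
      intro x hx y hy
      have : IsMulCommutative ↥(Subgroup.closure S) := Subgroup.isMulCommutative_closure (by
        rintro _ ⟨a, ha, rfl⟩ _ ⟨b, hb, rfl⟩
        exact hall a ha b hb)
      exact congrArg Subtype.val (mul_comm' (⟨x, hx⟩ : ↥(Subgroup.closure S)) ⟨y, hy⟩)
    set u := π d with hu
    have huu : u * u = 1 := hsq d hd
    have hnorm : ∀ z ∈ Subgroup.closure S, u * z * u ∈ Subgroup.closure S := by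
      intro z hz
      induction hz using Subgroup.closure_induction with
      | mem z hz =>
        obtain ⟨a, ha, rfl⟩ := hz
        have : u * π (d * a) * u = (π (d * a))⁻¹ := by
          rw [map_mul, mul_inv_rev, inv_eq_of_mul_eq_one_right (hsq a ha), inv_eq_of_mul_eq_one_right (hsq d hd),
            ← hu, ← mul_assoc, huu, one_mul]
        rw [this]
        exact inv_mem (Subgroup.subset_closure ⟨a, ha, rfl⟩)
      | one => rw [mul_one, huu]; exact one_mem _
      | mul a b _ _ iha ihb =>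
        rw [show u * (a * b) * u = u * a * u * (u * b * u) by
          simp only [mul_assoc]; rw [← mul_assoc u u, huu, one_mul]]
        exact mul_mem iha ihb
      | inv a _ iha =>
        rw [show u * a⁻¹ * u = (u * a * u)⁻¹ by
          rw [mul_inv_rev, mul_inv_rev, inv_eq_of_mul_eq_one_right huu, mul_assoc]]
        exact inv_mem iha
    have hcover : ∀ z : C, z ∈ Subgroup.closure S ∨ u * z ∈ Subgroup.closure S := by
      intro z
      induction himg z using Subgroup.closure_induction_left with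
      | one => exact Or.inl (one_mem _)
      | mul_left y hy z _ ih =>
        obtain ⟨a, ha, rfl⟩ := hy
        have ha' : π (d * a) ∈ Subgroup.closure S := Subgroup.subset_closure ⟨a, ha, rfl⟩
        rcases ih with ih | ih
        · exact Or.inr (by rw [← mul_assoc, hu, ← map_mul]; exact mul_mem ha' ih)
        · refine Or.inl ?_
          have h : u * π (d * a) * u * (u * z) ∈ Subgroup.closure S := mul_mem (hnorm _ ha') ih
          rwa [map_mul, ← hu, ← mul_assoc u u, huu, one_mul, mul_assoc, ← mul_assoc u u, huu, one_mul] at h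
      | inv_mul_cancel y hy z _ ih =>
        obtain ⟨a, ha, rfl⟩ := hy
        rw [inv_eq_of_mul_eq_one_right (hsq a ha)]
        have ha' : π (d * a) ∈ Subgroup.closure S := Subgroup.subset_closure ⟨a, ha, rfl⟩
        rcases ih with ih | ih
        · exact Or.inr (by rw [← mul_assoc, hu, ← map_mul]; exact mul_mem ha' ih)
        · refine Or.inl ?_
          have h : u * π (d * a) * u * (u * z) ∈ Subgroup.closure S := mul_mem (hnorm _ ha') ih
          rwa [map_mul, ← hu, ← mul_assoc u u, huu, one_mul, mul_assoc, ← mul_assoc u u, huu, one_mul] at h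
    have hcube : ∀ z : C, z ^ 3 = 1 → z ∈ Subgroup.closure S := by
      intro z hz
      rcases hcover z with h | h
      · exact h
      · have h2 : z * z ∈ Subgroup.closure S := by
          have := mul_mem (hnorm _ h) h
          rwa [← mul_assoc u u, huu, one_mul, ← mul_assoc, mul_assoc z u u, huu, mul_one] at this
        have e : z = (z * z)⁻¹ := eq_inv_of_mul_eq_one_left (by rw [← hz, pow_succ', pow_two])
        rw [e]; exact inv_mem h2
    exact hxy₀ (hA _ (hcube _ hx₀) _ (hcube _ hy₀))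
  have hde : π d ≠ π e := fun h => hef (by
    rw [map_mul π d e, ← h, hsq d hd, one_mul, mul_one])
  have hdf : π d ≠ π f := fun h => hef (by
    rw [map_mul π d f, ← h, hsq d hd, one_mul, mul_one])
  have hne' : π e ≠ π f := fun h => hef (by rw [map_mul, map_mul, h])
  have hcl : e * f * e ∈ D := conj_mem_mul hD.1.1 (class_isGroup hD).2.1 he hf
  have hdefe : π d ≠ π (e * f * e) := fun h => hef (by
    have hf' : π f = π e * π d * π e := by
      rw [h, map_mul, map_mul]
      simp only [mul_assoc]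
      rw [hsq e he, mul_one, ← mul_assoc, hsq e he, one_mul]
    rw [map_mul, map_mul, hf']
    simp only [mul_assoc])
  set a := d * e with ha_def
  set b := d * f with hb_def
  have dd := sq_one (hD.1.1 d hd)
  have ee := sq_one (hD.1.1 e he)
  have ff := sq_one (hD.1.1 f hf)
  have di := inv_eq_of_mul_eq_one_right dd
  have ei := inv_eq_of_mul_eq_one_right ee
  have fi := inv_eq_of_mul_eq_one_right ff
  have ha3 : a ^ 3 = 1 := hthree d hd e he hde
  have hb3 : b ^ 3 = 1 := hthree d hd f hf hdf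
  have h1 : (a * b⁻¹) ^ 3 = 1 := by
    have h : a * b⁻¹ = d * (e * f) * d⁻¹ := by rw [ha_def, hb_def, mul_inv_rev, fi]; simp only [mul_assoc]
    rw [h, conj_pow, hthree e he f hf hne', mul_one, mul_inv_cancel]
  have h2 : (a * b) ^ 3 = 1 := by
    have hbr : d * e * d = e * d * e := (braid_iff dd ee).2 ha3
    have h : a * b = e * (d * (e * f * e)) * e⁻¹ := by
      rw [ha_def, hb_def, ei, show d * e * (d * f) = d * e * d * f by simp only [mul_assoc], hbr]
      simp only [mul_assoc, ee, mul_one]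
    rw [h, conj_pow, hthree d hd _ hcl hdefe, mul_one, mul_inv_cancel]
  obtain ⟨hN27, hNp⟩ := burnside ha3 hb3 h1 h2
  set N := Subgroup.closure {a, b} with hN
  set K := N ⊔ Subgroup.zpowers d with hK
  have hmap : N.map (MulAut.conj d).toMonoidHom = N := by
    refine Subgroup.eq_of_le_of_card_ge ?_ (Nat.card_congr ((MulAut.conj d).subgroupMap N).toEquiv).le
    rw [hN, MonoidHom.map_closure, Subgroup.closure_le, Set.image_pair, Set.insert_subset_iff, Set.singleton_subset_iff]
    refine ⟨?_, ?_⟩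
    · have : d * a * d⁻¹ = a⁻¹ := by rw [ha_def, mul_inv_rev, di, ei, ← mul_assoc, dd, one_mul]
      show d * a * d⁻¹ ∈ N
      rw [this]; exact inv_mem (Subgroup.subset_closure (by simp))
    · have : d * b * d⁻¹ = b⁻¹ := by rw [hb_def, mul_inv_rev, di, fi, ← mul_assoc, dd, one_mul]
      show d * b * d⁻¹ ∈ N
      rw [this]; exact inv_mem (Subgroup.subset_closure (by simp))
  have hdN : Subgroup.zpowers d ≤ Subgroup.normalizer (N : Set G) := by
    rw [Subgroup.zpowers_le]
    refine Subgroup.mem_set_normalizer_iff.2 fun x => ?_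
    simp only [SetLike.mem_coe]
    conv_rhs => rw [← hmap]
    exact ⟨fun hx => ⟨x, hx, rfl⟩, fun ⟨y, hy, e⟩ => by
      rwa [← (MulAut.conj d).injective (a₂ := x) e]⟩
  have hKc : Nat.card ↥K ≤ 54 := sup_bound (m := 27) (n := 2) hdN hN27
    (by rw [Nat.card_zpowers, hD.1.1 d hd])
  have hKm : K.map π = ⊤ := by
    have hNm : IsPGroup 3 ↥(N.map π) := hNp.map π
    have : Fact (Nat.Prime 3) := ⟨by norm_num⟩
    obtain ⟨k, hk⟩ := IsPGroup.iff_card.1 hNm
    have hdiv := (N.map π).card_subgroup_dvd_card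
    rw [hk, h54] at hdiv
    have hk3 : k ≤ 3 := by
      by_contra hcon
      have h := (Nat.pow_dvd_pow 3 (show 4 ≤ k by omega)).trans hdiv
      norm_num at h
    have hk2 : ¬ k ≤ 2 := fun hk2 => hef (by
      have hab : π a ∈ N.map π ∧ π b ∈ N.map π :=
        ⟨Subgroup.mem_map_of_mem π (Subgroup.subset_closure (by simp)),
         Subgroup.mem_map_of_mem π (Subgroup.subset_closure (by simp))⟩
      have hcm : ∀ x y : ↥(N.map π), x * y = y * x := by
        interval_cases k
        · intro x y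
          have := (Nat.card_eq_one_iff_unique.1 (by rw [hk, pow_zero])).1
          exact Subsingleton.elim _ _
        · intro x y
          have : IsCyclic ↥(N.map π) := isCyclic_of_prime_card (p := 3) (by rw [hk, pow_one])
          exact mul_comm' x y
        · intro x y
          have := IsPGroup.isMulCommutative_of_card_eq_prime_sq (G := ↥(N.map π)) hk
          exact mul_comm' x y
      exact congrArg Subtype.val (hcm ⟨π a, hab.1⟩ ⟨π b, hab.2⟩))
    have hk' : k = 3 := by omega
    subst hk'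
    refine Subgroup.eq_top_of_card_eq _ ?_
    have h27 : 27 ∣ Nat.card ↥(K.map π) := by
      rw [show (27 : ℕ) = 3 ^ 3 by norm_num, ← hk]
      exact Subgroup.card_dvd_of_le (Subgroup.map_mono le_sup_left)
    have h2' : 2 ∣ Nat.card ↥(K.map π) := by
      have hm : π d ∈ K.map π := Subgroup.mem_map_of_mem π (Subgroup.mem_sup_right (Subgroup.mem_zpowers d))
      have h := orderOf_dvd_natCard (⟨π d, hm⟩ : ↥(K.map π))
      have : Fact (Nat.Prime 2) := ⟨Nat.prime_two⟩
      rwa [← Subgroup.orderOf_coe, orderOf_eq_prime (by rw [sq, hsq d hd]) (hne1 d hd)] at h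
    have h54' : 54 ∣ Nat.card ↥(K.map π) := Nat.Coprime.mul_dvd_of_dvd_of_dvd (m := 27) (n := 2) (by norm_num) h27 h2'
    rw [h54]
    exact Nat.dvd_antisymm (h54 ▸ Subgroup.card_subgroup_dvd_card _) h54'
  let ρ : ↥K → C := fun x => π x
  have hρ : Function.Surjective ρ := by
    intro c
    have hc : c ∈ K.map π := by rw [hKm]; trivial
    obtain ⟨x, hx, rfl⟩ := hc
    exact ⟨⟨x, hx⟩, rfl⟩
  have hρi : Function.Injective ρ :=
    (hρ.bijective_of_nat_card_le (by rw [h54]; exact hKc)).1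
  refine ⟨K, Subgroup.isComplement'_of_disjoint_and_mul_eq_univ ?_ ?_⟩
  · rw [disjoint_iff, Subgroup.eq_bot_iff_forall]
    rintro x ⟨hx, hxK⟩
    exact congrArg Subtype.val (hρi (a₁ := ⟨x, hxK⟩) (a₂ := 1) (by
      show π x = π 1
      rw [MonoidHom.mem_ker.1 hx, map_one]))
  · refine Set.eq_univ_of_forall fun g => ?_
    obtain ⟨x, hx⟩ := hρ (π g)
    exact ⟨g * (x : G)⁻¹, by
      show g * (x : G)⁻¹ ∈ π.ker
      rw [MonoidHom.mem_ker, map_mul, map_inv, show π (x : G) = π g from hx, mul_inv_cancel], x, x.2,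
      inv_mul_cancel_right _ _⟩

/-! ### The derived group of the special unitary group of degree three over four elements -/

open Matrix in
theorem su32_facts (F : Type) [Field F] [Fintype F] (hF : Fintype.card F = 4) :
    Nat.card ↥(commutator ↥(Cfsg.SU 3 F 2)) = 54 ∧
      ∃ x y : ↥(commutator ↥(Cfsg.SU 3 F 2)), x ^ 3 = 1 ∧ y ^ 3 = 1 ∧ x * y ≠ y * x := by
  classical
  have h2 : (2 : F) = 0 := by
    have h4 : (Fintype.card F : F) = 0 := Nat.cast_card_eq_zero F
    rw [hF] at h4
    exact pow_eq_zero_iff two_ne_zero |>.1 (show (2 : F) ^ 2 = 0 by rw [← h4]; norm_num)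
  obtain ⟨ω, hω0, hω1⟩ : ∃ ω : F, ω ≠ 0 ∧ ω ≠ 1 := by
    by_contra hall
    push Not at hall
    have : (Finset.univ : Finset F) ⊆ {0, 1} := fun x _ => by
      simpa using (em (x = 0)).imp_right (hall x)
    have := (Finset.card_le_card this).trans Finset.card_le_two
    rw [Finset.card_univ, hF] at this
    omega
  have hω3 : ω * ω * ω = 1 := by
    have := FiniteField.pow_card_sub_one_eq_one ω hω0
    rw [hF] at this
    linear_combination this
  have mk : ∀ (M : Matrix (Fin 3) (Fin 3) F), M.det = 1 →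
      (∀ u v : Fin 3 → F, Cfsg.hermForm 3 F 2 (M *ᵥ u) (M *ᵥ v) = Cfsg.hermForm 3 F 2 u v) →
      ∃ g : ↥(Cfsg.SU 3 F 2), (g.1.1 : Matrix (Fin 3) (Fin 3) F) = M :=
    fun M hdet hpres => ⟨⟨⟨M, hdet⟩, hpres⟩, rfl⟩
  obtain ⟨P, hP⟩ := mk !![0, 1, 0; 0, 0, 1; 1, 0, 0] (by simp [Matrix.det_fin_three]) (fun u v => by
    simp [Cfsg.hermForm, Matrix.mulVec, dotProduct, Fin.sum_univ_three]; ring)
  obtain ⟨T, hT⟩ := mk !![0, 1, 0; 1, 0, 0; 0, 0, 1] (by
      simp [Matrix.det_fin_three]; linear_combination -h2) (fun u v => by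
    simp [Cfsg.hermForm, Matrix.mulVec, dotProduct, Fin.sum_univ_three]; ring)
  obtain ⟨D, hD⟩ := mk !![ω, 0, 0; 0, ω * ω, 0; 0, 0, 1] (by
      simp [Matrix.det_fin_three]; linear_combination hω3) (fun u v => by
    simp [Cfsg.hermForm, Matrix.mulVec, dotProduct, Fin.sum_univ_three]
    linear_combination (u 0 * v 0 ^ 2 + u 1 * v 1 ^ 2 * (ω ^ 3 + 1)) * hω3)
  have cext : ∀ g k : ↥(Cfsg.SU 3 F 2), g.1.1 = k.1.1 → g = k := fun g k h => Subtype.ext (Subtype.ext h)
  have hmul : ∀ g k : ↥(Cfsg.SU 3 F 2), (g * k).1.1 = g.1.1 * k.1.1 := fun _ _ => rfl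
  have hone : (1 : ↥(Cfsg.SU 3 F 2)).1.1 = 1 := rfl
  have hP3 : P ^ 3 = 1 := cext _ _ (by
    rw [pow_succ, pow_two, hmul, hmul, hone, hP]; ext i j; fin_cases i <;> fin_cases j <;> simp [Matrix.mul_apply, Fin.sum_univ_three])
  have hD3 : D ^ 3 = 1 := cext _ _ (by
    rw [pow_succ, pow_two, hmul, hmul, hone, hD]; ext i j
    fin_cases i <;> fin_cases j <;> simp [Matrix.mul_apply, Fin.sum_univ_three]
    · linear_combination hω3
    · linear_combination (ω ^ 3 + 1) * hω3)
  have hTP : T * P * T = P⁻¹ := eq_inv_of_mul_eq_one_right (cext _ _ (by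
    rw [hmul, hmul, hmul, hone, hP, hT]; ext i j; fin_cases i <;> fin_cases j <;> simp [Matrix.mul_apply, Fin.sum_univ_three]))
  have hTD : T * D * T = D⁻¹ := eq_inv_of_mul_eq_one_right (cext _ _ (by
    rw [hmul, hmul, hmul, hone, hD, hT]; ext i j
    fin_cases i <;> fin_cases j <;> simp [Matrix.mul_apply, Fin.sum_univ_three]
    · linear_combination hω3
    · linear_combination hω3))
  have hTT : T * T = 1 := cext _ _ (by
    rw [hmul, hone, hT]; ext i j; fin_cases i <;> fin_cases j <;> simp [Matrix.mul_apply, Fin.sum_univ_three])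
  have hPD : P * D ≠ D * P := fun h => by
    have e := congrArg (fun g : ↥(Cfsg.SU 3 F 2) => g.1.1 0 1) h
    simp only [hmul, hP, hD] at e
    simp [Matrix.mul_apply, Fin.sum_univ_three] at e
    exact hω1 (mul_left_cancel₀ hω0 (by linear_combination e))
  set C := commutator ↥(Cfsg.SU 3 F 2) with hC
  have hinC : ∀ X : ↥(Cfsg.SU 3 F 2), X ^ 3 = 1 → T * X * T = X⁻¹ → X ∈ C := by
    intro X hX hTX
    have h : ⁅T, X⁆ ∈ C := by
      rw [hC, commutator_def]; exact Subgroup.commutator_mem_commutator (Subgroup.mem_top _) (Subgroup.mem_top _)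
    rw [commutatorElement_def, inv_eq_of_mul_eq_one_right hTT, hTX] at h
    have e : X⁻¹ * X⁻¹ = X := by
      rw [← _root_.mul_inv_rev, inv_eq_of_mul_eq_one_right (by rw [← hX, pow_succ, pow_two] : X * X * X = 1)]
    rwa [e] at h
  have hPC := hinC P hP3 hTP
  have hDC := hinC D hD3 hTD
  refine ⟨?_, ⟨P, hPC⟩, ⟨D, hDC⟩, Subtype.ext hP3, Subtype.ext hD3, fun h => hPD (congrArg Subtype.val h)⟩
  obtain ⟨h72, -, N, hNn, hN9, -, ⟨eQ⟩⟩ := CfsgLib.Classical.psu32_structure hF
  have hcen : Nat.card (Subgroup.center ↥(Cfsg.SU 3 F 2)) = 3 :=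
    CfsgLib.Classical.card_center_SU (show Fintype.card F = 2 ^ 2 from hF) (by norm_num)
  let π : ↥(Cfsg.SU 3 F 2) →* QuaternionGroup 2 :=
    eQ.toMonoidHom.comp ((QuotientGroup.mk' N).comp (QuotientGroup.mk' _))
  have hπ : Function.Surjective π :=
    eQ.surjective.comp ((QuotientGroup.mk'_surjective N).comp (QuotientGroup.mk'_surjective _))
  have h216 : Nat.card ↥(Cfsg.SU 3 F 2) = 216 := by
    rw [Subgroup.card_eq_card_quotient_mul_card_subgroup (Subgroup.center ↥(Cfsg.SU 3 F 2)), hcen,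
      show Nat.card (↥(Cfsg.SU 3 F 2) ⧸ Subgroup.center ↥(Cfsg.SU 3 F 2)) = 72 from h72]
  have hker : Nat.card ↥π.ker = 27 := by
    have h := π.ker.card_mul_index
    rw [Subgroup.index_ker, MonoidHom.range_eq_top.2 hπ, Subgroup.card_top, Nat.card_eq_fintype_card (α := QuaternionGroup 2),
      QuaternionGroup.card, h216] at h
    omega
  have hrange : C.map π = (commutator (QuaternionGroup 2)) := by
    rw [hC, commutator_def, Subgroup.map_commutator, Subgroup.map_top_of_surjective π hπ, commutator_def]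
  have hq2 : Nat.card ↥(commutator (QuaternionGroup 2)) = 2 := by
    have hle : commutator (QuaternionGroup 2) ≤ Subgroup.zpowers (QuaternionGroup.a 2) := by
      rw [commutator_eq_closure, Subgroup.closure_le]
      rintro _ ⟨p, q, rfl⟩
      have : ∀ p q : QuaternionGroup 2, ⁅p, q⁆ = 1 ∨ ⁅p, q⁆ = QuaternionGroup.a 2 := by decide +kernel
      rcases this p q with e | e <;> rw [e]
      · exact one_mem _
      · exact Subgroup.mem_zpowers _
    have hge : Subgroup.zpowers (QuaternionGroup.a 2) ≤ commutator (QuaternionGroup 2) := by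
      rw [Subgroup.zpowers_le, commutator_eq_closure]
      exact Subgroup.subset_closure ⟨QuaternionGroup.a 1, QuaternionGroup.xa 0, by decide +kernel⟩
    rw [le_antisymm hle hge, Nat.card_zpowers]
    exact orderOf_eq_prime (hp := ⟨Nat.prime_two⟩) (by decide +kernel) (by decide +kernel)
  have hcube : ∀ X : ↥(Cfsg.SU 3 F 2), X ^ 3 = 1 → X ∈ π.ker := fun X hX => by
    have : (π X) ^ 3 = 1 := by rw [← map_pow, hX, map_one]
    rw [MonoidHom.mem_ker]
    exact (by decide +kernel : ∀ q : QuaternionGroup 2, q ^ 3 = 1 → q = 1) _ this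
  have hle : π.ker ≤ C := by
    have : Fact (Nat.Prime 3) := ⟨by norm_num⟩
    set M := π.ker ⊓ C with hM
    have hMd : Nat.card ↥M ∣ 3 ^ 3 := by
      rw [show 3 ^ 3 = Nat.card ↥π.ker by rw [hker]; norm_num]
      exact Subgroup.card_dvd_of_le inf_le_left
    obtain ⟨k, hk, hMk⟩ := (Nat.dvd_prime_pow (by norm_num)).1 hMd
    have hk3 : k = 3 := by
      by_contra hne
      have hcm : ∀ x y : ↥M, x * y = y * x := by
        interval_cases k
        · intro x y
          have := (Nat.card_eq_one_iff_unique.1 (by rw [hMk, pow_zero])).1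
          exact Subsingleton.elim _ _
        · intro x y
          have : IsCyclic ↥M := isCyclic_of_prime_card (p := 3) (by rw [hMk, pow_one])
          exact mul_comm' x y
        · intro x y
          have := IsPGroup.isMulCommutative_of_card_eq_prime_sq (G := ↥M) hMk
          exact mul_comm' x y
        · exact absurd rfl hne
      exact hPD (congrArg Subtype.val (hcm ⟨P, hcube _ hP3, hPC⟩ ⟨D, hcube _ hD3, hDC⟩))
    have : M = π.ker := Subgroup.eq_of_le_of_card_ge inf_le_left (by rw [hker, hMk, hk3]; norm_num)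
    exact this ▸ inf_le_right
  have h := Subgroup.relIndex_mul_index hle
  have hC2 : Nat.card ↥C = Nat.card ↥π.ker * Nat.card ↥(C.map π) := by
    have e1 := (π.comp C.subtype).ker.card_mul_index
    rw [Subgroup.index_ker, MonoidHom.range_comp, Subgroup.range_subtype] at e1
    rw [← e1]
    congr 1
    exact Nat.card_congr
      { toFun := fun x => ⟨((x : ↥C) : ↥(Cfsg.SU 3 F 2)), x.2⟩
        invFun := fun y => ⟨⟨(y : ↥(Cfsg.SU 3 F 2)), hle y.2⟩, y.2⟩
        left_inv := fun x => rfl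
        right_inv := fun y => rfl }
  rw [hC2, hker, hrange, hq2]

/-- Let G be a finite group generated by a conjugacy class D of 3-transpositions, with trivial centre and with generalized Fitting subgroup F*(G) = O₂(G) (so the Fitting subgroup is O₂(G) too). If G/O₂(G) is isomorphic to the derived group of SU₃(2) (the group of order 54 generated by nine 3-transpositions), then O₂(G) has a complement in G. -/
theorem result {G : Type*} [Group G] [Finite G] {D : Set G} (hD : Cfsg.IsThreeTranspositionClass D)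
    (hZ : Subgroup.center G = ⊥) (hF : Cfsg.generalizedFittingSubgroup G = Cfsg.pCore 2 G)
    (hq : ∃ (F : Type) (_ : Field F) (_ : Fintype F), Fintype.card F = 4 ∧ Nonempty (G ⧸ Cfsg.pCore 2 G ≃* ↥(commutator ↥(Cfsg.SU 3 F 2)))) :
    ∃ K : Subgroup G, (Cfsg.pCore 2 G).IsComplement' K := by
  obtain ⟨F, _, _, hcard, ⟨e⟩⟩ := hq
  obtain ⟨h54, hnon⟩ := su32_facts F hcard
  obtain ⟨K, hK⟩ := complement h54 hnon hD (e.toMonoidHom.comp (QuotientGroup.mk' (Cfsg.pCore 2 G)))
    (e.surjective.comp (QuotientGroup.mk'_surjective _))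
  refine ⟨K, ?_⟩
  have hk : (e.toMonoidHom.comp (QuotientGroup.mk' (Cfsg.pCore 2 G))).ker = Cfsg.pCore 2 G := by
    ext x
    rw [MonoidHom.mem_ker, MonoidHom.comp_apply, MulEquiv.coe_toMonoidHom, EmbeddingLike.map_eq_one_iff,
      QuotientGroup.mk'_apply, QuotientGroup.eq_one_iff]
  rwa [hk] at hK

end Cfsg.Agent.S5555
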