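import Cfsg.Statements.S5556
import Cfsg.Agent.Lib.ThreeTransp.UnitaryRadical.Top

set_option autoImplicit false
open Cfsg

namespace Cfsg.Agent.S5556

/-- Let G be a finite group generated by a conjugacy class D of 3-transpositions, with trivial centre and with generalized Fitting subgroup F*(G) = O₂(G) (so the Fitting subgroup is O₂(G) too). If G/O₂(G) is isomorphic to SU₅(2), then O₂(G) is elementary abelian and has a complement in G. -/
theorem result {G : Type*} [Group G] [Finite G] {D : Set G} (hD : Cfsg.IsThreeTranspositionClass D)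
    (hZ : Subgroup.center G = ⊥) (hF : Cfsg.generalizedFittingSubgroup G = Cfsg.pCore 2 G)
    (hq : ∃ (F : Type) (_ : Field F) (_ : Fintype F), Fintype.card F = 4 ∧ Nonempty (G ⧸ Cfsg.pCore 2 G ≃* ↥(Cfsg.SU 5 F 2))) :
    Cfsg.IsElementaryAbelian 2 (Cfsg.pCore 2 G) ∧ ∃ K : Subgroup G, (Cfsg.pCore 2 G).IsComplement' K := by
  obtain ⟨F, _, _, hFc, ⟨e⟩⟩ := hq
  obtain ⟨σ, R, S, hk⟩ := CfsgLib.ThreeTransp.UnitaryRadical.exists_rad hD hZ hFc (n := 5) (by norm_num) e
  rw [← hk]
  exact ⟨CfsgLib.ThreeTransp.UnitaryRadical.elementary_of S R (Or.inl (Module.finrank_fin_fun F)),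
    CfsgLib.ThreeTransp.UnitaryRadical.exists_complement S R (Module.finrank_fin_fun F)⟩

end Cfsg.Agent.S5556
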