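import Cfsg.Agent.Lib.ThreeTransp.SmallWidth
import Cfsg.Agent.Lib.LocalEvenB.CharP
import Cfsg.Agent.Lib.PGroup.Frattini
import Cfsg.Agent.Lib.Coprime.Action
import Cfsg.Agent.Lib.Solvable.Cores
import Cfsg.Statements.S5559
-- import your own Cfsg.Agent.* helpers here

set_option autoImplicit false
open Cfsg

namespace Cfsg.Agent.S5559

open CfsgLib.ThreeTransp CfsgLib.ThreeTransp.Basic
open scoped commutatorElement

theorem perm_three : Nonempty (DihedralGroup 3 ≃* Equiv.Perm (Fin 3)) := by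
  have ha : orderOf (finRotate 3) = 3 :=
    orderOf_eq_prime (hp := ⟨by norm_num⟩) (by decide +kernel) (by decide +kernel)
  obtain ⟨e⟩ := CfsgLib.TwoGroups.CyclicMax.dihedral_iso (G := Equiv.Perm (Fin 3)) (a := finRotate 3)
    (b := Equiv.swap 0 1) ha (by rw [Nat.card_eq_fintype_card]; decide +kernel)
    (fun h => by
      obtain ⟨i, hi⟩ := Subgroup.mem_zpowers_iff.1 h
      have := congrArg Equiv.Perm.sign hi
      rw [map_zpow] at this
      simp at this)
    (by decide +kernel) (by decide +kernel)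
  exact ⟨e.symm⟩

theorem core {H : Type*} [Group H] [Finite H] {E : Set H} (hE : Cfsg.IsThreeTranspositionClass E)
    (hE2 : ∃ a ∈ E, ∃ b ∈ E, a ≠ b) (hF : Cfsg.generalizedFittingSubgroup H = Cfsg.pCore 2 H)
    (h232 : ∃ P : Sylow 3 (H ⧸ Cfsg.pCore 2 H), (P : Subgroup (H ⧸ Cfsg.pCore 2 H)).Normal ∧
      ∃ k : ℕ, (P : Subgroup (H ⧸ Cfsg.pCore 2 H)).index = 2 ^ k) :
    Nonempty (H ⧸ Cfsg.pCore 2 H ≃* DihedralGroup 3) ∨ Nonempty (H ⧸ Cfsg.pCore 2 H ≃* FiftyFour.Std54) := by
  classical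
  haveI : Fact (Nat.Prime 2) := ⟨Nat.prime_two⟩
  set Q := Cfsg.pCore 2 H with hQdef
  haveI : Q.Normal := inferInstance
  have hQ : IsPGroup 2 Q := CfsgLib.Solvable.Cores.isPGroup_pCore 2
  have hCQ : Subgroup.centralizer (Q : Set H) ≤ Q :=
    CfsgLib.LocalEvenB.CharP.centralizer_pCore_le_of_generalizedFitting hF
  set F : Subgroup H := (frattini Q).map Q.subtype with hFdef
  haveI : F.Normal := ConjAct.normal_of_characteristic_of_normal
  have hFQ : F ≤ Q := Subgroup.map_subtype_le _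
  set B : Subgroup (H ⧸ F) := Q.map (QuotientGroup.mk' F) with hBdef
  haveI : B.Normal := (inferInstance : Q.Normal).map _ (QuotientGroup.mk'_surjective F)
  have hexp : ∀ v : B, v * v = 1 := by
    rintro ⟨_, q, hq, rfl⟩
    refine Subtype.ext ?_
    show QuotientGroup.mk' F q * QuotientGroup.mk' F q = 1
    rw [← map_mul, QuotientGroup.mk'_apply, QuotientGroup.eq_one_iff]
    exact ⟨_, CfsgLib.PGroup.Frattini.pow_mem_frattini hQ ⟨q, hq⟩, by simp [sq]⟩
  have hBc : ∀ u ∈ B, ∀ v ∈ B, u * v = v * u := fun u hu v hv =>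
    congrArg Subtype.val (SmallWidth.vcomm hexp ⟨u, hu⟩ ⟨v, hv⟩)
  let ρ : H →* MulAut B := (MulAut.conjNormal (H := B)).comp (QuotientGroup.mk' F)
  have hρ : ∀ (h : H) (v : B), ((ρ h v : B) : H ⧸ F) = QuotientGroup.mk' F h * v * (QuotientGroup.mk' F h)⁻¹ :=
    fun h v => by
      simp only [ρ, MonoidHom.comp_apply]
      exact MulAut.conjNormal_apply _ _
  have hQle : Q ≤ ρ.ker := fun q hq => MonoidHom.mem_ker.2 (MulEquiv.ext fun v => Subtype.ext (by
    rw [hρ, MulAut.one_apply, hBc _ ⟨q, hq, rfl⟩ _ v.2, mul_inv_cancel_right]))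
  have hker : ρ.ker ≤ Q := by
    refine CfsgLib.Solvable.Cores.le_pCore fun x => ?_
    set a := (orderOf (x : H)).factorization 2
    set k := (x : H) ^ 2 ^ a with hk
    have hodd : ¬ 2 ∣ orderOf k := by
      rw [hk, orderOf_pow' _ (pow_ne_zero _ two_ne_zero), Nat.gcd_eq_right (Nat.ordProj_dvd _ 2)]
      exact Nat.not_dvd_ordCompl Nat.prime_two (orderOf_pos (x : H)).ne'
    have hcop : (Nat.card (Subgroup.zpowers k)).Coprime (Nat.card Q) := by
      obtain ⟨n, hn⟩ := hQ.exists_card_eq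
      rw [Nat.card_zpowers, hn]
      exact ((Nat.prime_two.coprime_iff_not_dvd.2 hodd).symm).pow_right n
    have hkc : k ∈ Subgroup.centralizer (Q : Set H) :=
      CfsgLib.Coprime.le_centralizer_of_frattini (A := Subgroup.zpowers k)
        (by rw [Subgroup.normalizer_eq_top]; exact le_top)
        (hcop.coprime_dvd_right (Subgroup.card_subgroup_dvd_card _))
        (fun b hb q hq => by
          have hb' : b ∈ ρ.ker := Subgroup.zpowers_le.2 (pow_mem x.2 _) hb
          have := congrArg Subtype.val (DFunLike.congr_fun (MonoidHom.mem_ker.1 hb') ⟨_, q, hq, rfl⟩)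
          rw [hρ, MulAut.one_apply] at this
          show ⁅b, q⁆ ∈ F
          rw [← QuotientGroup.eq_one_iff, ← QuotientGroup.mk'_apply, map_commutatorElement, commutatorElement_def,
            mul_inv_eq_one]
          exact this) (Subgroup.mem_zpowers k)
    obtain ⟨n, hn⟩ := hQ ⟨k, hCQ hkc⟩
    have h1 : orderOf k = 1 := Nat.eq_one_of_dvd_coprimes
      ((Nat.prime_two.coprime_iff_not_dvd.2 hodd).pow_left n)
      (orderOf_dvd_of_pow_eq_one (by simpa using congrArg Subtype.val hn)) dvd_rfl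
    exact ⟨a, Subtype.ext (by simpa [hk] using orderOf_eq_one_iff.1 h1)⟩
  set π := QuotientGroup.mk' Q with hπ
  let α : H ⧸ Q →* MulAut B := QuotientGroup.lift Q ρ hQle
  have hαπ : ∀ h : H, α (π h) = ρ h := fun h => rfl
  have hα : Function.Injective α := (injective_iff_map_eq_one α).2 fun z hz => by
    obtain ⟨h, rfl⟩ := QuotientGroup.mk'_surjective Q z
    exact (QuotientGroup.eq_one_iff h).2 (hker hz)
  set D : Set (H ⧸ Q) := π '' E with hD
  obtain ⟨e₀, he₀, hE₀⟩ := hE.2.1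
  have hEconj : ∀ g : H, ∀ a ∈ E, g * a * g⁻¹ ∈ E := (class_isGroup hE).2.1
  have hnot : ∀ a ∈ E, a ∉ Q := by
    intro a ha haQ
    have hle : Subgroup.closure E ≤ Q := by
      rw [Subgroup.closure_le]
      intro b hb
      obtain ⟨g, hg⟩ := class_conj hE ha hb
      rw [← hg]; exact (inferInstance : Q.Normal).conj_mem a haQ g
    rw [hE.2.2] at hle
    obtain ⟨P, -, -⟩ := h232
    -- the group would be a 2-group
    obtain ⟨a, ha, b, hb, hab⟩ := hE2
    rcases hE.1.2 a ha b hb with h | h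
    · have hH : IsPGroup 2 H := fun g => by
        obtain ⟨n, hn⟩ := hQ ⟨g, hle (Subgroup.mem_top g)⟩
        exact ⟨n, by simpa using congrArg Subtype.val hn⟩
      have hcm : ∀ a ∈ E, ∀ b ∈ E, a * b = b * a := fun a ha b hb => by
        rcases hE.1.2 a ha b hb with h | h
        · exact (commute_iff (sq_one (hE.1.1 a ha)) (sq_one (hE.1.1 b hb))).2 h
        · obtain ⟨n, hn⟩ := hH (a * b)
          have h1 : orderOf (a * b) = 1 := Nat.eq_one_of_dvd_coprimes ((by norm_num : Nat.Coprime 2 3).pow_left n)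
            (orderOf_dvd_of_pow_eq_one hn) (orderOf_dvd_of_pow_eq_one h)
          rw [eq_inv_of_mul_eq_one_left (orderOf_eq_one_iff.1 h1), inv_mul_cancel, mul_inv_cancel]
      obtain ⟨g, hg⟩ := class_conj hE ha hb
      refine hab ?_
      have hle' : Subgroup.closure E ≤ Subgroup.centralizer {a} := by
        rw [Subgroup.closure_le]
        intro c hc
        rw [SetLike.mem_coe, Subgroup.mem_centralizer_iff]
        intro w hw
        rw [Set.mem_singleton_iff.1 hw]
        exact hcm a ha c hc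
      rw [hE.2.2] at hle'
      have := Subgroup.mem_centralizer_iff.1 (hle' (Subgroup.mem_top g)) a rfl
      rw [← hg, ← this, mul_inv_cancel_right]
    · obtain ⟨n, hn⟩ := hQ ⟨a * b, hle (Subgroup.mem_top _)⟩
      have h1 : orderOf (a * b) = 1 := Nat.eq_one_of_dvd_coprimes ((by norm_num : Nat.Coprime 2 3).pow_left n)
        (orderOf_dvd_of_pow_eq_one (by simpa using congrArg Subtype.val hn)) (orderOf_dvd_of_pow_eq_one h)
      exact hab ((eq_inv_of_mul_eq_one_left (orderOf_eq_one_iff.1 h1)).trans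
        (inv_self (hE.1.1 b hb)))
  have hinv : ∀ z ∈ D, orderOf z = 2 := by
    rintro _ ⟨a, ha, rfl⟩
    exact orderOf_eq_prime (by rw [sq, ← map_mul, sq_one (hE.1.1 a ha), map_one])
      fun h => hnot a ha ((QuotientGroup.eq_one_iff a).1 h)
  have hS : Cfsg.IsThreeTranspositionSet D := by
    refine ⟨hinv, ?_⟩
    rintro _ ⟨a, ha, rfl⟩ _ ⟨b, hb, rfl⟩
    rcases hE.1.2 a ha b hb with h | h
    · exact Or.inl (by rw [← map_mul, ← map_pow, h, map_one])
    · exact Or.inr (by rw [← map_mul, ← map_pow, h, map_one])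
  have hgen : Subgroup.closure D = ⊤ := by
    rw [hD, ← MonoidHom.map_closure, hE.2.2, Subgroup.map_top_of_surjective _ (QuotientGroup.mk'_surjective Q)]
  have hconj : ∀ g : H ⧸ Q, ∀ a ∈ D, g * a * g⁻¹ ∈ D := by
    rintro g _ ⟨a, ha, rfl⟩
    obtain ⟨g, rfl⟩ := QuotientGroup.mk'_surjective Q g
    exact ⟨g * a * g⁻¹, hEconj g a ha, by simp [hπ]⟩
  have hcls : ∀ a ∈ D, ∀ b ∈ D, ∃ g : H ⧸ Q, g * a * g⁻¹ = b := by
    rintro _ ⟨a, ha, rfl⟩ _ ⟨b, hb, rfl⟩
    obtain ⟨g, hg⟩ := class_conj hE ha hb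
    exact ⟨π g, by rw [← map_mul, ← map_inv, ← map_mul, hg]⟩
  obtain ⟨P, hPn, k, hk⟩ := h232
  haveI := hPn
  have htwo : ∃ a ∈ D, ∃ b ∈ D, a ≠ b := by
    by_contra! hall
    set d := π e₀ with hd
    have hdD : d ∈ D := ⟨e₀, he₀, rfl⟩
    have htop : Subgroup.zpowers d = ⊤ := by
      rw [eq_top_iff, ← hgen, Subgroup.closure_le]
      intro z hz
      rw [hall z hz d hdD]; exact Subgroup.mem_zpowers d
    have hX : IsPGroup 2 (H ⧸ Q) := IsPGroup.of_card (n := 1) (by
      rw [← Subgroup.card_top, ← htop, Nat.card_zpowers, hinv d hdD, pow_one])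
    have hH : IsPGroup 2 H := fun g => by
      obtain ⟨n, hn⟩ := hX (π g)
      rw [← map_pow] at hn
      obtain ⟨m, hm⟩ := hQ ⟨g ^ 2 ^ n, (QuotientGroup.eq_one_iff _).1 hn⟩
      exact ⟨n + m, by rw [pow_add, pow_mul]; simpa using congrArg Subtype.val hm⟩
    refine hnot e₀ he₀ (CfsgLib.Solvable.Cores.le_pCore (N := (⊤ : Subgroup H)) ?_ (Subgroup.mem_top _))
    exact hH.to_subgroup ⊤
  have hfix : ∀ a ∈ D, ∀ b ∈ D, a ≠ b → ∀ v : B, α (a * b) v = v → α b v = v := by
    rintro _ ⟨a, ha, rfl⟩ _ ⟨b, hb, rfl⟩ hne v hv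
    rw [← map_mul, hαπ] at hv
    rw [hαπ]
    obtain ⟨v0, q, hq, rfl⟩ := v
    have hv' : QuotientGroup.mk' F (a * b) * QuotientGroup.mk' F q * (QuotientGroup.mk' F (a * b))⁻¹
        = QuotientGroup.mk' F q := by
      have := congrArg Subtype.val hv
      rwa [hρ] at this
    have bb := sq_one (hE.1.1 b hb)
    set b' := q * b * q⁻¹ with hb'
    have hb'E : b' ∈ E := hEconj q b hb
    have hπb : π b' = π b := by
      rw [hb', map_mul, map_mul, map_inv, show π q = 1 from (QuotientGroup.eq_one_iff q).2 hq, inv_one, one_mul,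
        mul_one]
    have h3 : ∀ c ∈ E, π c = π b → (a * c) ^ 3 = 1 := by
      intro c hc hπc
      refine (hE.1.2 a ha c hc).resolve_left fun h => hne ?_
      have h1 : (π a * π b) ^ 2 = 1 := by rw [← hπc, ← map_mul, ← map_pow, h, map_one]
      have h2 := CfsgLib.ThreeTransp.SmallWidth.pair_three hS hgen hcls (P : Subgroup (H ⧸ Q)) P.isPGroup' hk
        ⟨a, ha, rfl⟩ ⟨b, hb, rfl⟩
      have h4 : orderOf (π a * π b) = 1 := Nat.eq_one_of_dvd_coprimes (by norm_num : Nat.Coprime 2 3)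
        (orderOf_dvd_of_pow_eq_one h1) (orderOf_dvd_of_pow_eq_one h2.2)
      exact (eq_inv_of_mul_eq_one_left (orderOf_eq_one_iff.1 h4)).trans
        (inv_eq_of_mul_eq_one_right (by rw [← map_mul, bb, map_one]))
    set u := QuotientGroup.mk' F (a * b) with hu
    set w := QuotientGroup.mk' F (b * q * b * q⁻¹) with hw
    have hwB : w ∈ B := ⟨_, mul_mem (by
      have := (inferInstance : Q.Normal).conj_mem q hq b
      rwa [inv_eq_of_mul_eq_one_right bb] at this) (inv_mem hq), rfl⟩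
    have hab : a * b' = a * b * (b * q * b * q⁻¹) := by
      rw [hb']
      simp only [← mul_assoc]
      rw [mul_assoc a b b, bb, mul_one]
    have e3 : (u * w) ^ 3 = 1 := by rw [hu, hw, ← map_mul, ← map_pow, ← hab, h3 b' hb'E hπb, map_one]
    have u3 : u ^ 3 = 1 := by rw [hu, ← map_pow, h3 b hb rfl, map_one]
    have aa := sq_one (hE.1.1 a ha)
    set β := QuotientGroup.mk' F b with hβ
    set qq := QuotientGroup.mk' F q with hqq
    have hwe : w = β * qq * β * qq⁻¹ := by rw [hw, map_mul, map_mul, map_mul, map_inv]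
    have ββ : β * β = 1 := by rw [hβ, ← map_mul, bb, map_one]
    have cuq : Commute u qq := mul_inv_eq_iff_eq_mul.1 hv'
    have hβu : β * u * β = u⁻¹ := by
      rw [hu, hβ, ← map_mul, ← map_mul, ← map_inv, mul_inv_rev, inv_eq_of_mul_eq_one_right bb,
        inv_eq_of_mul_eq_one_right aa]
      simp only [mul_assoc, bb, mul_one]
    have cuw : Commute u w := by
      have h1 : u * (β * qq * β) = β * qq * β * u := by
        have h2 : β * qq * β * u⁻¹ = u⁻¹ * (β * qq * β) := by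
          rw [← hβu]
          simp only [mul_assoc, ← mul_assoc β β, ββ, one_mul]
          rw [← mul_assoc qq, ← cuq.eq, mul_assoc]
        exact ((Commute.inv_right_iff).1 (show Commute (β * qq * β) u⁻¹ from h2)).symm.eq
      rw [hwe]
      exact (show Commute u (β * qq * β) from h1).mul_right cuq.inv_right
    rw [cuw.mul_pow, u3, one_mul] at e3
    have w2 : w * w = 1 := congrArg Subtype.val (hexp ⟨w, hwB⟩)
    rw [pow_three, w2, mul_one] at e3
    refine Subtype.ext ?_
    rw [hρ]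
    show β * qq * β⁻¹ = qq
    rw [inv_eq_of_mul_eq_one_right ββ]
    exact mul_inv_eq_one.1 (hwe ▸ e3)
  exact CfsgLib.ThreeTransp.SmallWidth.main α hexp hα hS hgen hconj hcls P P.isPGroup' hk htwo hfix

/-- Let H be a finite group generated by a conjugacy class E of 3-transpositions with at least two members, with F*(H) = O₂(H), and such that H/O₂(H) has a normal Sylow 3-subgroup of 2-power index (that is, H = O_{2,3,2}(H)). Then H/O₂(H) is isomorphic to the symmetric group of degree 3 or to the derived group of SU₃(2) (of order 54). -/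
theorem result {H : Type*} [Group H] [Finite H] {E : Set H} (hE : Cfsg.IsThreeTranspositionClass E)
    (hE2 : ∃ a ∈ E, ∃ b ∈ E, a ≠ b) (hF : Cfsg.generalizedFittingSubgroup H = Cfsg.pCore 2 H)
    (h232 : ∃ P : Sylow 3 (H ⧸ Cfsg.pCore 2 H), (P : Subgroup (H ⧸ Cfsg.pCore 2 H)).Normal ∧
      ∃ k : ℕ, (P : Subgroup (H ⧸ Cfsg.pCore 2 H)).index = 2 ^ k) :
    Nonempty (H ⧸ Cfsg.pCore 2 H ≃* Equiv.Perm (Fin 3)) ∨
      ∃ (F : Type) (_ : Field F) (_ : Fintype F), Fintype.card F = 4 ∧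
        Nonempty (H ⧸ Cfsg.pCore 2 H ≃* ↥(commutator ↥(Cfsg.SU 3 F 2))) := by
  rcases core hE hE2 hF h232 with ⟨⟨e⟩⟩ | ⟨⟨e⟩⟩
  · obtain ⟨f⟩ := perm_three
    exact Or.inl ⟨e.trans f⟩
  · haveI : Fact (Nat.Prime 2) := ⟨Nat.prime_two⟩
    let ft : Fintype (GaloisField 2 2) := Fintype.ofFinite _
    have h4 : Fintype.card (GaloisField 2 2) = 4 := by
      rw [← Nat.card_eq_fintype_card, GaloisField.card 2 2 two_ne_zero]; norm_num
    obtain ⟨f⟩ := CfsgLib.ThreeTransp.FiftyFour.su32_data (GaloisField 2 2) h4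
    exact Or.inr ⟨GaloisField 2 2, inferInstance, ft, h4, ⟨e.trans f.symm⟩⟩

end Cfsg.Agent.S5559
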