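import Cfsg.Agent.Lib.Involution.Dihedral
import Cfsg.Statements.S5562
-- import your own Cfsg.Agent.* helpers here

set_option autoImplicit false
open Cfsg

namespace Cfsg.Agent.S5562

open CfsgLib.Involution.Dihedral

/-- Let G be a finite group, d an involution of G whose conjugates pairwise have products of odd order, and x any involution of G. Then the conjugacy class of d is the disjoint union, over the conjugates a of d commuting with x, of the sets of conjugates of d commuting with ax: every conjugate of d commutes with ax for exactly one conjugate a of d that commutes with x. -/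
theorem result {G : Type*} [Group G] [Finite G] (d : G) (hd : orderOf d = 2)
    (hodd : ∀ a ∈ conjugatesOf d, ∀ b ∈ conjugatesOf d, Odd (orderOf (a * b)))
    (x : G) (hx : orderOf x = 2) :
    ∀ e ∈ conjugatesOf d,
      ∃! a : G, a ∈ conjugatesOf d ∧ Commute a x ∧ Commute e (a * x) := by
  intro e he
  have hinv : ∀ a ∈ conjugatesOf d, orderOf a = 2 := by
    intro a ha; obtain ⟨g, rfl⟩ := isConj_iff.1 ha
    rw [orderOf_conj]; exact hd
  have hx2 : x * x = 1 := mul_self hx
  set f := x * e * x with hf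
  have hfD : f ∈ conjugatesOf d := by
    refine IsConj.trans he (isConj_iff.2 ⟨x, ?_⟩)
    rw [inv_eq hx]
  have E := hinv e he
  have F := hinv f hfD
  have ee := mul_self E
  set w := f * e with hw
  obtain ⟨m, hm⟩ := hodd f hfD e he
  have hwn : w ^ ((2 * m + 1 : ℕ) : ℤ) = 1 := by
    rw [zpow_natCast, ← hm]; exact pow_orderOf_eq_one _
  have hew : e * w * e⁻¹ = w⁻¹ := by
    rw [hw, mul_inv_rev, inv_eq E, inv_eq F]; simp [mul_assoc, ee]
  have hxw : x * w * x⁻¹ = w⁻¹ := by
    rw [hw, mul_inv_rev, inv_eq hx, inv_eq E, inv_eq F, hf]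
    simp only [mul_assoc, ← mul_assoc x x, hx2, one_mul]
  set j : ℤ := (m : ℤ) + 1 with hj
  have hjj : w ^ (-j) * w = w ^ j := by
    have e1 : w ^ (-j) * w = w ^ (-j + 1) := by rw [zpow_add, zpow_one]
    rw [e1, show -j + 1 = j + (-((2 * m + 1 : ℕ) : ℤ)) by rw [hj]; push_cast; ring, zpow_add,
      zpow_neg, hwn, inv_one, mul_one]
  set a := w ^ j * e with ha
  have hae : a * e = w ^ j := by rw [ha, mul_assoc, ee, mul_one]
  have haa : a * a = 1 := by
    have h' : e * w ^ j = w ^ (-j) * e := by
      have := conj_zpow hew j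
      rwa [mul_inv_eq_iff_eq_mul] at this
    rw [ha, mul_assoc, ← mul_assoc e (w ^ j) e, h', mul_assoc, ee, mul_one, ← zpow_add,
      add_neg_cancel, zpow_zero]
  have hodj : Odd (orderOf (w ^ j)) :=
    (hodd f hfD e he).of_dvd_nat (orderOf_dvd_of_mem_zpowers ⟨j, rfl⟩)
  have hA : orderOf a = 2 := by
    refine orderOf_eq_two haa fun h => ?_
    rw [← hae, h, one_mul, E] at hodj
    exact (Nat.not_odd_iff_even.2 even_two) hodj
  have haD : a ∈ conjugatesOf d :=
    IsConj.trans he (isConj_of_odd hA E (by rw [hae]; exact hodj)).symm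
  have hax : Commute a x := by
    show a * x = x * a
    have h1 : x * w ^ j = w ^ (-j) * x := by
      have := conj_zpow hxw j
      rwa [mul_inv_eq_iff_eq_mul] at this
    have h2 : x * e = w * e * x := by
      rw [hw, hf]; simp only [mul_assoc, ← mul_assoc e e, ee, one_mul, hx2, mul_one]
    rw [ha, ← mul_assoc x, h1, mul_assoc (w ^ (-j)), h2]
    simp only [← mul_assoc, hjj]
  have hafe : a * f * a = e := by
    have h1 : a * f = w ^ (j - 1) := by
      rw [ha, mul_assoc, show e * f = w⁻¹ by rw [hw, mul_inv_rev, inv_eq E, inv_eq F],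
        ← zpow_neg_one, ← zpow_add, sub_eq_add_neg]
    rw [h1, ha, ← mul_assoc, ← zpow_add, show j - 1 + j = ((2 * m + 1 : ℕ) : ℤ) by
      rw [hj]; push_cast; ring, hwn, one_mul]
  have hcomm : ∀ b : G, orderOf b = 2 → Commute b x → (Commute e (b * x) ↔ b * f * b = e) := by
    intro b hb hbx
    have hbb := mul_self hb
    show e * (b * x) = b * x * e ↔ _
    have e1 : b * x * e = b * f * b * (b * x) := by
      rw [hf]; simp only [mul_assoc, ← mul_assoc b b, hbb, one_mul, hx2, mul_one]
    rw [e1, mul_left_inj, eq_comm]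
  refine ⟨a, ⟨haD, hax, (hcomm a hA hax).2 hafe⟩, ?_⟩
  rintro b ⟨hbD, hbx, hbc⟩
  have hb := (hcomm b (hinv b hbD) hbx).1 hbc
  have hsq : (b * f) ^ 2 = (a * f) ^ 2 := by
    rw [sq, sq, ← mul_assoc (b * f), hb, ← mul_assoc (a * f), hafe]
  obtain ⟨p, hp⟩ := hodd b hbD f hfD
  obtain ⟨q, hq⟩ := hodd a haD f hfD
  have half : ∀ (u : G) (k : ℕ), u ^ (2 * k + 1) = 1 → u = (u ^ 2) ^ (k + 1) := by
    intro u k hk
    rw [← pow_mul, show 2 * (k + 1) = 2 * k + 1 + 1 by ring, pow_succ, hk, one_mul]
  have hord : orderOf (b * f) = orderOf (a * f) := by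
    have e1 := Nat.Coprime.orderOf_pow (y := b * f) (m := 2) (Nat.coprime_two_right.2 (hp ▸ odd_two_mul_add_one p))
    have e2 := Nat.Coprime.orderOf_pow (y := a * f) (m := 2) (Nat.coprime_two_right.2 (hq ▸ odd_two_mul_add_one q))
    rw [← e1, ← e2, hsq]
  have hbf := half (b * f) p (by rw [← hp]; exact pow_orderOf_eq_one _)
  have haf := half (a * f) p (by rw [← hp, hord]; exact pow_orderOf_eq_one _)
  exact mul_right_cancel (hbf.trans (hsq ▸ haf.symm))

end Cfsg.Agent.S5562
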