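import Cfsg.Statements.S5569
import Cfsg.Agent.Lib.Sporadic.J4Type.InvClasses
import Cfsg.Agent.Lib.Sporadic.J4Type.PairAut
import Cfsg.Agent.S5567
import Cfsg.Agent.S5568
-- import your own Cfsg.Agent.* helpers here

set_option autoImplicit false
open Cfsg

namespace Cfsg.Agent.S5569

open CfsgLib.Sporadic.J4Type CfsgLib.Sporadic.LargeFischer.Hexa

/-- Let G be a finite non-abelian simple group of Janko-four type (an involution z whose centralizer H has an extraspecial largest normal 2-subgroup E of order 2^13 containing its centralizer in H, a normal subgroup N ≥ E of H with N/E of order 3 and H/N the automorphism group of M₂₂, and a subgroup P ≤ N of order 3 with C_E(P) = ⟨z⟩, N_H(P) ≠ C_H(P) and P ≤ C_H(P)′). Then the centralizer of an involution t of G that is not conjugate to z is a split extension of an elementary abelian normal subgroup of order 2^11 by a complement isomorphic to the automorphism group of M₂₂. -/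
theorem result {G : Type*} [Group G] [Finite G] [IsSimpleGroup G] (hG : ¬ IsMulCommutative G) (z : G) (hJ : Cfsg.IsOfJankoFourTypeAt z) (t : G) (ht : orderOf t = 2) (hnc : ¬ IsConj z t) :
    ∃ V K : Subgroup G, V ≤ Subgroup.centralizer ({t} : Set G) ∧ K ≤ Subgroup.centralizer ({t} : Set G) ∧
    Subgroup.centralizer ({t} : Set G) ≤ Subgroup.normalizer (V : Set G) ∧ Cfsg.IsElementaryAbelian 2 V ∧ Nat.card ↥V = 2 ^ 11 ∧
    K ⊓ V = ⊥ ∧ K ⊔ V = Subgroup.centralizer ({t} : Set G) ∧ Nonempty (↥K ≃* MulAut ↥Cfsg.Spor.M22) := by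
  haveI : Fact (Nat.Prime 2) := ⟨Nat.prime_two⟩
  have ht2 : t * t = 1 := by rw [← pow_two, ← ht]; exact pow_orderOf_eq_one t
  have ht1 : t ≠ 1 := fun e => by rw [e, orderOf_one] at ht; norm_num at ht
  have hz1 : z ≠ 1 := fun e => by
    obtain ⟨P, hP⟩ := hJ
    have h2 := hP.1
    rw [e, orderOf_one] at h2
    norm_num at h2
  obtain ⟨hU, A₀, θ₀, h, hconj⟩ := exists_inv_data hJ
  obtain ⟨g, hg⟩ := hconj t ht2
  set V := A₀.map (MulAut.conj g⁻¹).toMonoidHom with hVdef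
  have hVe : Cfsg.IsElementaryAbelian 2 V := elem_map h.elem _
  have hVc : Nat.card V = 2 ^ 11 := by
    rw [hVdef, Subgroup.card_map_of_injective (f := (MulAut.conj g⁻¹).toMonoidHom) (MulAut.conj g⁻¹).injective, h.card]
  have htV : t ∈ V := ⟨_, hg, show g⁻¹ * (g * t * g⁻¹) * g⁻¹⁻¹ = t by group⟩
  obtain ⟨T, -, hVT⟩ := eq_thompson hU hVe hVc
  obtain ⟨-, -, -, -, -, -, htwo, η, hsurj, hker, hst⟩ := thompson_data hz1 hU h T V _ hVT rfl
  obtain ⟨p, q, hpq, hpqs⟩ := hst t htV ht1 hnc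
  have hJ' : Cfsg.IsOfJankoFourType G := ⟨z, hJ⟩
  obtain ⟨-, K₀, hK₀N, hK₀V, hK₀sup, -⟩ := Cfsg.Agent.S5567.result hG hJ' V hVe hVc
  obtain ⟨z', t₀, -, ht₀V, ht₀1, -, ht₀z, -, -, hC₀⟩ := Cfsg.Agent.S5568.result hG z hJ V hVe hVc
  obtain ⟨m, hm, hmt⟩ := htwo t₀ ht₀V t htV ht₀1 ht1 ⟨fun e => absurd e ht₀z, fun e => absurd e hnc⟩
  set C := Subgroup.centralizer ({t} : Set G) with hC
  have hCN : C ≤ Subgroup.normalizer (V : Set G) := by
    intro c hc
    have hc' : m⁻¹ * c * m ∈ Subgroup.centralizer ({t₀} : Set G) := by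
      rw [Subgroup.mem_centralizer_singleton_iff]
      have e : t₀ = m⁻¹ * t * m := by rw [← hmt]; group
      have hct := Subgroup.mem_centralizer_singleton_iff.1 hc
      calc m⁻¹ * c * m * t₀ = m⁻¹ * (c * t) * m := by rw [e]; group
        _ = t₀ * (m⁻¹ * c * m) := by rw [hct, e]; group
    have := mul_mem (mul_mem hm (hC₀ hc')) (inv_mem hm)
    rwa [show m * (m⁻¹ * c * m) * m⁻¹ = c by group] at this
  have hVC : V ≤ C := fun a ha => Subgroup.mem_centralizer_singleton_iff.2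
    (congrArg Subtype.val (hVe.1.is_comm.comm (⟨a, ha⟩ : ↥V) ⟨t, htV⟩))
  set K := K₀ ⊓ C with hKdef
  have hsplit : ∀ c ∈ C, ∃ k ∈ K, ∃ a ∈ V, k * a = c := by
    intro c hc
    have hmem : c ∈ ((K₀ ⊔ V : Subgroup G) : Set G) := hK₀sup.ge (hCN hc)
    rw [Subgroup.coe_mul_of_left_le_normalizer_right K₀ V hK₀N] at hmem
    obtain ⟨k, hk, a, ha, e⟩ := Set.mem_mul.1 hmem
    refine ⟨k, ⟨hk, ?_⟩, a, ha, e⟩
    show k ∈ C
    rw [show k = c * a⁻¹ by rw [← e, mul_inv_cancel_right]]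
    exact mul_mem hc (inv_mem (hVC ha))
  have hKV : K ⊓ V = ⊥ := le_bot_iff.1 ((inf_le_inf_right V inf_le_left).trans hK₀V.le)
  refine ⟨V, K, hVC, inf_le_right, hCN, hVe, hVc, hKV, ?_, ?_⟩
  · refine le_antisymm (sup_le inf_le_right hVC) fun c hc => ?_
    obtain ⟨k, hk, a, ha, rfl⟩ := hsplit c hc
    exact mul_mem (Subgroup.mem_sup_left hk) (Subgroup.mem_sup_right ha)
  · obtain ⟨hn, ⟨e⟩⟩ := duad_stabilizer hVe Subgroup.le_normalizer η hsurj hker htV hpq hpqs
    obtain ⟨e'⟩ := pair_stabilizer_aut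
    set C' := Subgroup.normalizer (V : Set G) ⊓ C with hC'
    haveI := hn
    let φ : ↥K →* ↥C' ⧸ V.subgroupOf C' :=
      (QuotientGroup.mk' (V.subgroupOf C')).comp (Subgroup.inclusion (show K ≤ C' from fun k hk => ⟨hCN hk.2, hk.2⟩))
    have hφ : Function.Bijective φ := by
      refine ⟨(injective_iff_map_eq_one φ).2 fun k hk => Subtype.ext ?_, fun y => ?_⟩
      · have hk' := (QuotientGroup.eq_one_iff (N := V.subgroupOf C') (Subgroup.inclusion _ k)).1 hk
        have hkV : (k : G) ∈ V := Subgroup.mem_subgroupOf.1 hk'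
        exact Subgroup.mem_bot.1 (hKV.le ⟨k.2, hkV⟩)
      · obtain ⟨⟨c, hc⟩, rfl⟩ := QuotientGroup.mk'_surjective _ y
        obtain ⟨k, hk, a, ha, e⟩ := hsplit c hc.2
        refine ⟨⟨k, hk⟩, (QuotientGroup.eq (s := V.subgroupOf C')).2 ?_⟩
        show k⁻¹ * c ∈ V
        rwa [← e, inv_mul_cancel_left]
    exact ⟨((MulEquiv.ofBijective φ hφ).trans e).trans e'⟩

end Cfsg.Agent.S5569
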