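import Cfsg.Statements.S5574
import Cfsg.Agent.Lib.Sporadic.J4Type.Pentad.Assemble
import Cfsg.Agent.S5567
import Cfsg.Agent.S5572
import Cfsg.Agent.S5573
-- import your own Cfsg.Agent.* helpers here

set_option autoImplicit false
open Cfsg

namespace Cfsg.Agent.S5574

open CfsgLib.Sporadic.J4Type CfsgLib.Sporadic.LargeFischer.Hexa CfsgLib.Sporadic.J4Type.Pentad

/-- Let G be a finite non-abelian simple group of Janko-four type (an involution z whose centralizer H has an extraspecial largest normal 2-subgroup E of order 2^13 containing its centralizer in H, a normal subgroup N ≥ E of H with N/E of order 3 and H/N the automorphism group of M₂₂, and a subgroup P ≤ N of order 3 with C_E(P) = ⟨z⟩, N_H(P) ≠ C_H(P) and P ≤ C_H(P)′). Then G has a special 2-subgroup L of order 2^15 with centre of order 8 whose normalizer M satisfies: M/L is isomorphic to the direct product of the symmetric group of degree 5 and L₃(2); L has no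 complement in M; M nevertheless contains subgroups isomorphic to the symmetric group of degree 5 and to L₃(2); and M contains the normalizer of some Sylow 5-subgroup and of some Sylow 7-subgroup of G. -/
theorem result {G : Type*} [Group G] [Finite G] [IsSimpleGroup G] (hG : ¬ IsMulCommutative G) (hJ : Cfsg.IsOfJankoFourType G) :
    ∃ L : Subgroup G, Cfsg.IsSpecial 2 ↥L ∧ Nat.card ↥L = 2 ^ 15 ∧ Nat.card ↥(Subgroup.center ↥L) = 8 ∧
    Nonempty (↥(Subgroup.normalizer (L : Set G)) ⧸ L.subgroupOf (Subgroup.normalizer (L : Set G)) ≃* Equiv.Perm (Fin 5) × Matrix.SpecialLinearGroup (Fin 3) (ZMod 2)) ∧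
    (∀ K : Subgroup ↥(Subgroup.normalizer (L : Set G)), ¬ (L.subgroupOf (Subgroup.normalizer (L : Set G))).IsComplement' K) ∧
    (∃ K₁ : Subgroup G, K₁ ≤ Subgroup.normalizer (L : Set G) ∧ Nonempty (↥K₁ ≃* Equiv.Perm (Fin 5))) ∧
    (∃ K₂ : Subgroup G, K₂ ≤ Subgroup.normalizer (L : Set G) ∧ Nonempty (↥K₂ ≃* Matrix.SpecialLinearGroup (Fin 3) (ZMod 2))) ∧
    (∃ Q : Sylow 5 G, Subgroup.normalizer ((Q : Subgroup G) : Set G) ≤ Subgroup.normalizer (L : Set G)) ∧
    (∃ S : Sylow 7 G, Subgroup.normalizer ((S : Subgroup G) : Set G) ≤ Subgroup.normalizer (L : Set G)) := by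
  haveI : Fact (Nat.Prime 5) := ⟨by norm_num⟩
  haveI : Fact (Nat.Prime 7) := ⟨by norm_num⟩
  have hJ' := hJ
  obtain ⟨z, hz⟩ := hJ'
  obtain ⟨π, ψ, x, J⟩ := exists_jf hz
  have hU : UniqAb G := uniqAb (Q := Cfsg.pCore 2 ↥(Subgroup.centralizer ({z} : Set G))) J.base (maxAb J)
  obtain ⟨c, L, hN⟩ := (frame J).exists_normal hU
  obtain ⟨θ, hθs, hθk, hθc⟩ := (frame J).exists_coded L hN hU
  obtain ⟨-, K₀, hK₀, hinf, hsup, -⟩ :=
    Cfsg.Agent.S5567.result hG hJ _ ((frame J).isElementaryAbelian_asub L) ((frame J).card_asub L)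
  obtain ⟨hβ, K₂, hK₂, hK₂e⟩ := exists_complement J L hθs hθk hθc hK₀ hinf hsup
  obtain ⟨hctx, h25, h49⟩ := ctx_of J L hU hβ
    (fun Q hQ hQz => by
      obtain ⟨h1, ⟨K, hK, E, hE, -, hEc, he, hns⟩, -, hc⟩ := Cfsg.Agent.S5572.result hG z hz Q hQ hQz
      exact ⟨h1, ⟨K, hK, E, hE, hEc, he, hns⟩, hc.trans (by norm_num)⟩)
    (fun S hS hSz => by
      obtain ⟨h1, h2, h3, hc⟩ := Cfsg.Agent.S5573.result hG z hz S hS hSz
      exact ⟨h1, h2, h3, hc.trans (by norm_num)⟩)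
    (seven_dvd_card J L)
  obtain ⟨Γ, hΓs, hΓk, hΓ2, -⟩ := hctx.exists_gamma
  have hp : Prd hctx Γ := ⟨hΓs, hΓk, hΓ2⟩
  obtain ⟨hspec, hcen⟩ := hp.special
  have hNeq := hp.normalizer_eq
  obtain ⟨⟨K₁, hK₁, hK₁e⟩, ⟨Q, hQ, hQN⟩, ⟨S, hS, hSN⟩⟩ := hp.normalisers
  refine ⟨lE J L, hspec, card_lE J L, ?_, quotient_of_eq hNeq Γ hΓs hΓk, nonsplit_of_eq hNeq hp.nonsplit,
    ⟨K₁, hK₁.trans hNeq.ge, hK₁e⟩, ⟨K₂, hK₂.trans hNeq.ge, hK₂e⟩, ?_, ?_⟩
  · have h := congrArg (fun W : Subgroup G => Nat.card ↥W) hcen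
    simp only [Subgroup.card_map_of_injective (lE J L).subtype_injective, card_E8 J L] at h
    exact h
  · obtain ⟨P, rfl⟩ := exists_sylow_of_prime (p := 5) h25 hQ
    exact ⟨P, hQN.trans hNeq.ge⟩
  · obtain ⟨P, rfl⟩ := exists_sylow_of_prime (p := 7) h49 hS
    exact ⟨P, hSN.trans hNeq.ge⟩

end Cfsg.Agent.S5574
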