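import Cfsg.Agent.Lib.ThreeTransp.ExtraspecialCore
import Cfsg.Statements.S5596
-- import your own Cfsg.Agent.* helpers here

set_option autoImplicit false
open Cfsg
set_option maxHeartbeats 1000000

namespace Cfsg.Agent.S5596
open CfsgLib.ThreeTransp.Extraspecial CfsgLib.ThreeTransp.ExtraspecialCore


/-- Setting: `z` is an involution of the finite group `G`; for each element `x`, `Q x` is the largest normal 2-subgroup of the centralizer of `x`; `Q z` is extraspecial and contains its own centralizer in `G`. A subgroup `U` is singular when it is elementary abelian, every non-identity element of `U` is conjugate to `z`, and any two non-identity elements `u`, `v` of `U` are orthogonal (`v ∈ Q u`). Write `QU` for the intersection of the `Q u` and `LU` for the join of the `Q u` over the non-identity `u` in `U`. If `U` is singular of order `2 ^ n` with `n ≥ 2`, then `U ≤ QU ≤ LU`, `LU` normalizes `U`, and `LU` induces on `U` its full automorphism group (the general linear group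 of dimension `n` over the field with two elements): every automorphism of `U` is conjugation by some element of `LU`. -/
theorem result {G : Type*} [Group G] [Finite G]
    (Q : G → Subgroup G)
    (hQ : ∀ x : G, Q x = (Cfsg.pCore 2 ↥(Subgroup.centralizer ({x} : Set G))).map (Subgroup.centralizer ({x} : Set G)).subtype)
    (z : G) (hz : orderOf z = 2) (hE : Cfsg.IsExtraspecial 2 ↥(Q z))
    (hC : Subgroup.centralizer ((Q z : Subgroup G) : Set G) ≤ Q z)
    (U : Subgroup G) (hU2 : ∀ u ∈ U, u * u = 1)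
    (hS : ∀ u ∈ U, u ≠ 1 → ∃ g : G, g * z * g⁻¹ = u)
    (hO : ∀ u ∈ U, ∀ v ∈ U, u ≠ 1 → v ≠ 1 → v ∈ Q u)
    (QU LU : Subgroup G) (hQU : QU = ⨅ u ∈ ((U : Set G) \ {1}), Q u) (hLU : LU = ⨆ u ∈ ((U : Set G) \ {1}), Q u)
    (n : ℕ) (hn : 2 ≤ n) (hcard : Nat.card ↥U = 2 ^ n) :
    U ≤ QU ∧ QU ≤ LU ∧ LU ≤ Subgroup.normalizer (U : Set G) ∧
      ∀ φ : ↥U ≃* ↥U, ∃ g ∈ LU, ∀ u : ↥U, g * (u : G) * g⁻¹ = ((φ u : ↥U) : G) := by
  obtain rfl : Q = core := funext hQ
  subst hQU hLU
  have hX : ∀ u ∈ U, u ≠ 1 → Extra (core u) u := fun u hu h1 => by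
    obtain ⟨g, rfl⟩ := hS u hu h1
    exact extra_core_conj hz hE hC g
  have hUQ : ∀ u ∈ U, u ≠ 1 → U ≤ core u := fun u hu hu1 v hv => by
    by_cases hv1 : v = 1
    · rw [hv1]; exact one_mem _
    · exact hO u hu v hv hu1 hv1
  obtain ⟨u₀, hu₀, hu₀1⟩ : ∃ u ∈ U, u ≠ 1 := by
    by_contra h
    push_neg at h
    have : U = ⊥ := (Subgroup.eq_bot_iff_forall U).2 h
    rw [this, Subgroup.card_bot] at hcard
    exact absurd hcard.symm (Nat.ne_of_gt (Nat.one_lt_two_pow (by omega)))
  have hN : (⨆ u ∈ ((U : Set G) \ {1}), core u) ≤ Subgroup.normalizer (U : Set G) := by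
    refine iSup₂_le fun u hu q hq => ?_
    have key : ∀ q ∈ core u, ∀ v ∈ U, q * v * q⁻¹ ∈ U := by
      intro q hq v hv
      by_cases hv1 : v = 1
      · simp [hv1]
      rcases (hX u hu.1 hu.2).conj_cases (hO u hu.1 v hv hu.2 hv1) hq with e | e <;> rw [e]
      · exact hv
      · exact mul_mem hv hu.1
    rw [Subgroup.mem_normalizer_iff]
    intro v
    refine ⟨key q hq v, fun h => ?_⟩
    have := key q⁻¹ (inv_mem hq) _ h
    simpa [mul_assoc] using this
  refine ⟨le_iInf₂ fun u hu => hUQ u hu.1 hu.2,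
    (iInf₂_le (f := fun v (_ : v ∈ ((U : Set G) \ {1})) => core v) u₀ ⟨hu₀, hu₀1⟩).trans
      (le_iSup₂ (f := fun v (_ : v ∈ ((U : Set G) \ {1})) => core v) u₀ ⟨hu₀, hu₀1⟩), hN, ?_⟩
  suffices key : ∀ m, ∀ S : Subgroup U, S.index ≤ m → ∀ φ : ↥U ≃* ↥U, (∀ s ∈ S, φ s = s) →
      ∃ g ∈ (⨆ u ∈ ((U : Set G) \ {1}), core u), ∀ u : ↥U, g * (u : G) * g⁻¹ = ((φ u : ↥U) : G) by
    intro φ
    exact key _ ⊥ le_rfl φ fun s hs => by rw [Subgroup.mem_bot.1 hs, map_one]
  intro m
  induction m with
  | zero => exact fun S h => absurd h (Nat.not_le.2 (Nat.pos_of_ne_zero S.index_ne_zero_of_finite))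
  | succ m ih =>
    intro S hSm φ hφ
    by_cases htop : S = ⊤
    · refine ⟨1, one_mem _, fun u => ?_⟩
      rw [hφ u (htop ▸ Subgroup.mem_top u)]; simp
    obtain ⟨v, hv⟩ : ∃ v : U, v ∉ S := by
      by_contra h; push_neg at h
      exact htop (eq_top_iff.2 fun x _ => h x)
    set S' := S ⊔ Subgroup.zpowers v with hS'
    have hlt : S < S' := lt_of_le_of_ne le_sup_left fun e =>
      hv (e ▸ Subgroup.mem_sup_right (Subgroup.mem_zpowers v))
    have hidx : S'.index ≤ m := by
      have := Subgroup.index_strictAnti hlt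
      omega
    have fix_sup : ∀ ψ : ↥U ≃* ↥U, (∀ s ∈ S, ψ s = s) → ψ v = v → ∀ s ∈ S', ψ s = s := by
      intro ψ h1 h2
      have : S' ≤ MonoidHom.eqLocus ψ.toMonoidHom (MonoidHom.id U) :=
        sup_le (fun s hs => h1 s hs) (Subgroup.zpowers_le.2 h2)
      exact fun s hs => this hs
    by_cases hvv : φ v = v
    · exact ih S' hidx φ (fix_sup φ hφ hvv)
    set w := φ v with hw
    set u := v * w with hu
    have hvv2 : v * v = 1 := Subtype.ext (hU2 v v.2)
    have hu1 : (u : G) ≠ 1 := fun e => hvv (by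
      have e' : v * w = 1 := Subtype.ext e
      exact (mul_left_cancel (e'.trans hvv2.symm)))
    have hcomm : ∀ a b : U, a * b = b * a := fun a b => by
      have h1 : (a * b) * (a * b) = 1 := Subtype.ext (hU2 _ (a * b).2)
      have ha : a * a = 1 := Subtype.ext (hU2 a a.2)
      have hb : b * b = 1 := Subtype.ext (hU2 b b.2)
      rw [← inv_eq_of_mul_eq_one_right h1, mul_inv_rev, inv_eq_of_mul_eq_one_right ha,
        inv_eq_of_mul_eq_one_right hb]
    let A : Subgroup G := (S ⊔ Subgroup.zpowers u).map U.subtype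
    have hAQ : A ≤ core (u : G) := (Subgroup.map_subtype_le _).trans (hUQ _ u.2 hu1)
    have huA : (u : G) ∈ A := ⟨u, Subgroup.mem_sup_right (Subgroup.mem_zpowers u), rfl⟩
    have hvA : (v : G) ∉ A := by
      rintro ⟨v', hv', e⟩
      have e' : v' = v := Subtype.ext e
      rw [e'] at hv'
      haveI : S.Normal := ⟨fun a ha g => by rw [hcomm g a, mul_inv_cancel_right]; exact ha⟩
      obtain ⟨s, hs, t, ht, hst⟩ := Subgroup.mem_sup_of_normal_left.1 (SetLike.mem_coe.1 hv')
      have huu : u * u = 1 := Subtype.ext (hU2 u u.2)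
      rcases (mem_zpowers_involution huu).1 ht with rfl | rfl
      · rw [mul_one] at hst; exact hv (hst ▸ hs)
      · -- `w` would lie in `S`
        have hwS : w ∈ S := by
          have : w = s := by
            have h0 : s * (v * w) = v := hst
            calc w = v * (v * w) := by rw [← mul_assoc, hvv2, one_mul]
              _ = s * (v * w) * (v * w) := by rw [h0]
              _ = s := by rw [mul_assoc, show v * w * (v * w) = 1 from huu, mul_one]
          rw [this]; exact hs
        have := hφ w hwS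
        exact hv ((φ.injective this) ▸ hwS)
    obtain ⟨q, hq, hqA, hqv⟩ := (hX _ u.2 hu1).sep hAQ huA (hUQ _ u.2 hu1 v.2) hvA
    have hqvw : q * (v : G) * q⁻¹ = (w : G) := by
      rw [(hX _ u.2 hu1).conj_eq_of_not_comm (hUQ _ u.2 hu1 v.2) hq hqv]
      show (v : G) * ((v : G) * (w : G)) = w
      rw [← mul_assoc, hU2 v v.2, one_mul]
    have hqL : q ∈ (⨆ u ∈ ((U : Set G) \ {1}), core u) :=
      (le_iSup₂ (f := fun v (_ : v ∈ ((U : Set G) \ {1})) => core v) (u : G) ⟨u.2, hu1⟩) hq
    have hqn := hN hqL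
    let c : ↥U ≃* ↥U :=
      { toFun := fun x => ⟨q * x * q⁻¹, (Subgroup.mem_normalizer_iff.1 hqn x).1 x.2⟩
        invFun := fun x => ⟨q⁻¹ * x * q, (Subgroup.mem_normalizer_iff''.1 hqn x).1 x.2⟩
        left_inv := fun x => Subtype.ext (by simp [mul_assoc])
        right_inv := fun x => Subtype.ext (by simp [mul_assoc])
        map_mul' := fun x y => Subtype.ext (by simp [mul_assoc]) }
    obtain ⟨g, hg, hgφ⟩ := ih S' hidx (φ.trans c.symm) (fix_sup _ (fun s hs => by
      rw [MulEquiv.trans_apply, hφ s hs, MulEquiv.symm_apply_eq]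
      exact Subtype.ext (mul_inv_eq_iff_eq_mul.2 (hqA _ ⟨s, Subgroup.mem_sup_left hs, rfl⟩)).symm) (by
      rw [MulEquiv.trans_apply, MulEquiv.symm_apply_eq]
      exact Subtype.ext hqvw.symm))
    refine ⟨q * g, mul_mem hqL hg, fun x => ?_⟩
    have h1 := hgφ x
    rw [MulEquiv.trans_apply] at h1
    calc q * g * (x : G) * (q * g)⁻¹ = q * (g * x * g⁻¹) * q⁻¹ := by group
      _ = ((c (c.symm (φ x)) : U) : G) := by rw [h1]; rfl
      _ = _ := by rw [MulEquiv.apply_symm_apply]

end Cfsg.Agent.S5596
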