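import Cfsg.Agent.Lib.ThreeTransp.ExtraspecialCore
import Cfsg.Statements.S5597
-- import your own Cfsg.Agent.* helpers here

set_option autoImplicit false
open Cfsg

namespace Cfsg.Agent.S5597
open CfsgLib.ThreeTransp.Extraspecial CfsgLib.ThreeTransp.ExtraspecialCore


/-- Setting: `z` is an involution of the finite group `G`; for each element `x`, `Q x` is the largest normal 2-subgroup of the centralizer of `x`; `Q z` is extraspecial and contains its own centralizer in `G`. A subgroup `U` is singular when it is elementary abelian, every non-identity element of `U` is conjugate to `z`, and any two non-identity elements `u`, `v` of `U` are orthogonal (`v ∈ Q u`). Write `QU` for the intersection of the `Q u` and `LU` for the join of the `Q u` over the non-identity `u` in `U`. If `U` is a non-trivial singular subgroup, then `LU` acts trivially on `QU / U` (every commutator of an element of `LU` with an element of `QU` lies in `U`), and for every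 `x` in `QU` outside `U` the centralizer of `U` in `LU` permutes the coset `x U` transitively: each `x u` with `u ∈ U` is a conjugate of `x` by an element of `LU` centralizing `U`. -/
theorem result {G : Type*} [Group G] [Finite G]
    (Q : G → Subgroup G)
    (hQ : ∀ x : G, Q x = (Cfsg.pCore 2 ↥(Subgroup.centralizer ({x} : Set G))).map (Subgroup.centralizer ({x} : Set G)).subtype)
    (z : G) (hz : orderOf z = 2) (hE : Cfsg.IsExtraspecial 2 ↥(Q z))
    (hC : Subgroup.centralizer ((Q z : Subgroup G) : Set G) ≤ Q z)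
    (U : Subgroup G) (hU2 : ∀ u ∈ U, u * u = 1)
    (hS : ∀ u ∈ U, u ≠ 1 → ∃ g : G, g * z * g⁻¹ = u)
    (hO : ∀ u ∈ U, ∀ v ∈ U, u ≠ 1 → v ≠ 1 → v ∈ Q u)
    (QU LU : Subgroup G) (hQU : QU = ⨅ u ∈ ((U : Set G) \ {1}), Q u) (hLU : LU = ⨆ u ∈ ((U : Set G) \ {1}), Q u)
    (hU : U ≠ ⊥) :
    (∀ g ∈ LU, ∀ x ∈ QU, g * x * g⁻¹ * x⁻¹ ∈ U) ∧
      ∀ x ∈ QU, x ∉ U → ∀ u ∈ U, ∃ g ∈ LU ⊓ Subgroup.centralizer (U : Set G), g * x * g⁻¹ = x * u := by
  obtain rfl : Q = core := funext hQ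
  subst hQU hLU
  have hX : ∀ u ∈ U, u ≠ 1 → Extra (core u) u := fun u hu h1 => by
    obtain ⟨g, rfl⟩ := hS u hu h1
    exact extra_core_conj hz hE hC g
  have hmemQ : ∀ u ∈ U, u ≠ 1 → ∀ x ∈ (⨅ u ∈ ((U : Set G) \ {1}), core u), x ∈ core u :=
    fun u hu h1 x hx => (iInf₂_le (f := fun v (_ : v ∈ ((U : Set G) \ {1})) => core v) u ⟨hu, h1⟩) hx
  constructor
  · suffices hle : (⨆ u ∈ ((U : Set G) \ {1}), core u) ≤ Subgroup.normalizer (U : Set G) ∧
        ∀ g ∈ (⨆ u ∈ ((U : Set G) \ {1}), core u), ∀ x ∈ (⨅ u ∈ ((U : Set G) \ {1}), core u),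
          g * x * g⁻¹ * x⁻¹ ∈ U from hle.2
    have hN : (⨆ u ∈ ((U : Set G) \ {1}), core u) ≤ Subgroup.normalizer (U : Set G) := by
      refine iSup₂_le fun u hu q hq => ?_
      have key : ∀ q ∈ core u, ∀ v ∈ U, q * v * q⁻¹ ∈ U := by
        intro q hq v hv
        by_cases hv1 : v = 1
        · simp [hv1]
        rcases (hX u hu.1 hu.2).conj_cases (hO u hu.1 v hv hu.2 hv1) hq with e | e <;> rw [e]
        · exact hv
        · exact mul_mem hv hu.1
      rw [Subgroup.mem_normalizer_iff]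
      intro v
      refine ⟨key q hq v, fun h => ?_⟩
      have := key q⁻¹ (inv_mem hq) _ h
      simpa [mul_assoc] using this
    refine ⟨hN, fun g hg x hx => ?_⟩
    let S : Subgroup G :=
      { carrier := {g | g ∈ Subgroup.normalizer (U : Set G) ∧
          ∀ x ∈ (⨅ u ∈ ((U : Set G) \ {1}), core u), g * x * g⁻¹ * x⁻¹ ∈ U}
        one_mem' := ⟨one_mem _, fun x _ => by simp⟩
        mul_mem' := fun {a b} ha hb => ⟨mul_mem ha.1 hb.1, fun x hx => by
          have h1 : a * (b * x * b⁻¹ * x⁻¹) * a⁻¹ * (a * x * a⁻¹ * x⁻¹) ∈ U :=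
            mul_mem ((Subgroup.mem_normalizer_iff.1 ha.1 _).1 (hb.2 x hx)) (ha.2 x hx)
          rw [show a * b * x * (a * b)⁻¹ * x⁻¹ =
            a * (b * x * b⁻¹ * x⁻¹) * a⁻¹ * (a * x * a⁻¹ * x⁻¹) by group]
          exact h1⟩
        inv_mem' := fun {a} ha => ⟨inv_mem ha.1, fun x hx => by
          have h1 : a⁻¹ * (a * x * a⁻¹ * x⁻¹)⁻¹ * a⁻¹⁻¹ ∈ U :=
            (Subgroup.mem_normalizer_iff.1 (inv_mem ha.1) _).1 (inv_mem (ha.2 x hx))
          rw [show a⁻¹ * x * a⁻¹⁻¹ * x⁻¹ = a⁻¹ * (a * x * a⁻¹ * x⁻¹)⁻¹ * a⁻¹⁻¹ by group]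
          exact h1⟩ }
    have hS' : (⨆ u ∈ ((U : Set G) \ {1}), core u) ≤ S := by
      refine iSup₂_le fun u hu q hq => ⟨hN ((le_iSup₂ (f := fun v (_ : v ∈ ((U : Set G) \ {1})) =>
        core v) u hu) hq), fun x hx => ?_⟩
      rcases (hX u hu.1 hu.2).conj_cases (hmemQ u hu.1 hu.2 x hx) hq with e | e <;> rw [e]
      · simp
      · rw [← (hX u hu.1 hu.2).z_comm (hmemQ u hu.1 hu.2 x hx), mul_inv_cancel_right]
        exact hu.1
    exact (hS' hg).2 x hx
  · intro x hx hxU u hu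
    by_cases hu1 : u = 1
    · exact ⟨1, one_mem _, by simp [hu1]⟩
    have hUQ : U ≤ core u := fun v hv => by
      by_cases hv1 : v = 1
      · rw [hv1]; exact one_mem _
      · exact hO u hu v hv hu1 hv1
    obtain ⟨q, hq, hqA, hqx⟩ := (hX u hu hu1).sep hUQ hu (hmemQ u hu hu1 x hx) hxU
    refine ⟨q, ⟨(le_iSup₂ (f := fun v (_ : v ∈ ((U : Set G) \ {1})) => core v) u ⟨hu, hu1⟩) hq,
      Subgroup.mem_centralizer_iff.2 fun a ha => (hqA a ha).symm⟩, ?_⟩
    exact (hX u hu hu1).conj_eq_of_not_comm (hmemQ u hu hu1 x hx) hq hqx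

end Cfsg.Agent.S5597
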