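import Cfsg.Agent.Lib.ThreeTransp.ExtraspecialCore
import Cfsg.Statements.S5598
-- import your own Cfsg.Agent.* helpers here

set_option autoImplicit false
open Cfsg

namespace Cfsg.Agent.S5598
open CfsgLib.ThreeTransp.Extraspecial CfsgLib.ThreeTransp.ExtraspecialCore


/-- Setting: `z` is an involution of the finite group `G`; for each element `x`, `Q x` is the largest normal 2-subgroup of the centralizer of `x`; `Q z` is extraspecial and contains its own centralizer in `G`. A subgroup `U` is singular when it is elementary abelian, every non-identity element of `U` is conjugate to `z`, and any two non-identity elements `u`, `v` of `U` are orthogonal (`v ∈ Q u`). Write `QU` for the intersection of the `Q u` and `LU` for the join of the `Q u` over the non-identity `u` in `U`. If the singular subgroup `U` is generated by a set `T` of non-identity elements, then `QU` is already the intersection of the `Q t` over `t ∈ T`. -/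
theorem result {G : Type*} [Group G] [Finite G]
    (Q : G → Subgroup G)
    (hQ : ∀ x : G, Q x = (Cfsg.pCore 2 ↥(Subgroup.centralizer ({x} : Set G))).map (Subgroup.centralizer ({x} : Set G)).subtype)
    (z : G) (hz : orderOf z = 2) (hE : Cfsg.IsExtraspecial 2 ↥(Q z))
    (hC : Subgroup.centralizer ((Q z : Subgroup G) : Set G) ≤ Q z)
    (U : Subgroup G) (hU2 : ∀ u ∈ U, u * u = 1)
    (hS : ∀ u ∈ U, u ≠ 1 → ∃ g : G, g * z * g⁻¹ = u)
    (hO : ∀ u ∈ U, ∀ v ∈ U, u ≠ 1 → v ≠ 1 → v ∈ Q u)
    (QU LU : Subgroup G) (hQU : QU = ⨅ u ∈ ((U : Set G) \ {1}), Q u) (hLU : LU = ⨆ u ∈ ((U : Set G) \ {1}), Q u)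
    (T : Set G) (hT : Subgroup.closure T = U) (hT1 : (1 : G) ∉ T) :
    QU = ⨅ t ∈ T, Q t := by
  obtain rfl : Q = core := funext hQ
  subst hQU
  have hTU : ∀ t ∈ T, t ∈ U := fun t ht => hT ▸ Subgroup.subset_closure ht
  refine le_antisymm (le_iInf₂ fun t ht =>
    iInf₂_le t ⟨hTU t ht, fun e => hT1 ((Set.mem_singleton_iff.1 e) ▸ ht)⟩) ?_
  refine le_iInf₂ fun w hw => ?_
  intro y hy
  simp only [Subgroup.mem_iInf] at hy
  suffices key : ∀ v ∈ Subgroup.closure T, v = 1 ∨ y ∈ core v from
    (key w (hT.symm ▸ hw.1)).resolve_left hw.2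
  intro v hv
  induction hv using Subgroup.closure_induction with
  | mem x hx => exact Or.inr (hy x hx)
  | one => exact Or.inl rfl
  | inv x hx ih =>
    have hx2 : x⁻¹ = x := inv_eq_of_mul_eq_one_right (hU2 x (hT ▸ hx))
    rwa [hx2]
  | mul a b ha hb iha ihb =>
    have haU : a ∈ U := hT ▸ ha
    have hbU : b ∈ U := hT ▸ hb
    by_cases hab : a * b = 1
    · exact Or.inl hab
    rcases iha with rfl | iha
    · rwa [one_mul]
    rcases ihb with rfl | ihb
    · rw [mul_one]; exact Or.inr iha
    right
    by_cases ha1 : a = 1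
    · subst ha1; rwa [one_mul]
    by_cases hb1 : b = 1
    · subst hb1; rwa [mul_one]
    obtain ⟨g, hg⟩ := hS a haU ha1
    obtain ⟨k, hk⟩ := hS b hbU hb1
    have hXb : Extra (core b) b := hk ▸ extra_core_conj hz hE hC k
    have hab' : a ≠ b := fun e => hab (e ▸ hU2 a haU)
    have haQ : a ∈ core b := hO b hbU a haU hb1 ha1
    obtain ⟨q, hq, hqa⟩ := hXb.exists_conj_eq haQ ha1 hab'
    rw [← hqa, mem_core_conj_iff]
    rcases hXb.conj_cases ihb (inv_mem hq) with e | e <;> rw [inv_inv] at e <;> rw [e]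
    · exact iha
    · exact mul_mem iha (hO a haU b hbU ha1 hb1)

end Cfsg.Agent.S5598
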