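import Cfsg.Agent.Lib.ThreeTransp.M24Classes
import Cfsg.Statements.S5601
-- import your own Cfsg.Agent.* helpers here

set_option autoImplicit false
open scoped Pointwise
open Cfsg

namespace Cfsg.Agent.S5601
open CfsgLib.ThreeTransp.M24Classes CfsgLib.ThreeTransp.ClassData CfsgLib.SmallGroups.Golay CfsgLib.Sporadic
open CfsgLib.Sporadic.M24Orbits
open scoped Pointwise

theorem two_facts {g : Equiv.Perm Cfsg.GolayPt} (h : orderOf g = 2) : g * g = 1 ∧ g ≠ 1 := by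
  refine ⟨?_, fun e => ?_⟩
  · rw [← sq, ← h, pow_orderOf_eq_one]
  · rw [e, orderOf_one] at h; exact absurd h (by norm_num)

theorem three_facts {g : Equiv.Perm Cfsg.GolayPt} (h : orderOf g = 3) : g ^ 3 = 1 ∧ g ≠ 1 := by
  refine ⟨?_, fun e => ?_⟩
  · rw [← h, pow_orderOf_eq_one]
  · rw [e, orderOf_one] at h; exact absurd h (by norm_num)

theorem fix_zero {g : Equiv.Perm Cfsg.GolayPt} :
    (∀ p, g p ≠ p) ↔ (Finset.univ.filter fun p => g p = p).card = 0 := by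
  rw [Finset.card_eq_zero, Finset.filter_eq_empty_iff]
  exact ⟨fun h p _ => h p, fun h p => h (Finset.mem_univ p)⟩

theorem ord3 {g : Equiv.Perm Cfsg.GolayPt} {R : List ℕ} (h : IsTbl g R)
    (h1 : powNe 3 R = false) (h2 : powNe 1 R = true) : orderOf g = 3 := by
  simp only [powNe, List.any_eq_false, List.mem_range, bne_iff_ne, ne_eq, not_not] at h1
  simp only [powNe, List.any_eq_true, List.mem_range, bne_iff_ne] at h2
  have : Fact (Nat.Prime 3) := ⟨Nat.prime_three⟩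
  refine orderOf_eq_prime (Equiv.ext fun p => idx_injective ?_) fun e => ?_
  · rw [h.idx_iter, h1 _ (idx_lt p)]; rfl
  · obtain ⟨i, hi, hne⟩ := h2
    apply hne
    have := h.idx_iter (pt i) 1
    rw [pow_one, e, Equiv.Perm.one_apply, idx_pt hi] at this
    exact this.symm

/-- The group of the length-24 code has exactly two conjugacy classes of subgroups of order 3: a subgroup of order 3 fixes either exactly 6 of the 24 points or none of them, both cases occur, and two subgroups of order 3 with the same number of fixed points are conjugate. -/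
theorem result : (∀ X : Subgroup ↥Cfsg.M24, Nat.card X = 3 → {p : Cfsg.GolayPt | ∀ x ∈ X, ((x : ↥Cfsg.M24) : Equiv.Perm Cfsg.GolayPt) p = p}.ncard = 6 ∨ {p : Cfsg.GolayPt | ∀ x ∈ X, ((x : ↥Cfsg.M24) : Equiv.Perm Cfsg.GolayPt) p = p}.ncard = 0) ∧ (∃ X : Subgroup ↥Cfsg.M24, Nat.card X = 3 ∧ {p : Cfsg.GolayPt | ∀ x ∈ X, ((x : ↥Cfsg.M24) : Equiv.Perm Cfsg.GolayPt) p = p}.ncard = 6) ∧ (∃ X : Subgroup ↥Cfsg.M24, Nat.card X = 3 ∧ {p : Cfsg.GolayPt | ∀ x ∈ X, ((x : ↥Cfsg.M24) : Equiv.Perm Cfsg.GolayPt) p = p}.ncard = 0) ∧ ∀ X Y : Subgroup ↥Cfsg.M24, Nat.card X = 3 → Nat.card Y = 3 → {p : Cfsg.GolayPt | ∀ x ∈ X, ((x : ↥Cfsg.M24) : Equiv.Perm Cfsg.GolayPt) p = p}.ncard = {p : Cfsg.GolayPt | ∀ x ∈ Y, ((x : ↥Cfsg.M24) : Equiv.Perm Cfsg.GolayPt) p = p}.ncard → ∃ k : ↥Cfsg.M24, MulAut.conj k • X = Y := by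
  classical
  have gen : ∀ X : Subgroup ↥Cfsg.M24, Nat.card X = 3 → ∃ g : Equiv.Perm Cfsg.GolayPt, ∃ hg : g ∈ Cfsg.M24,
      g ^ 3 = 1 ∧ g ≠ 1 ∧ X = Subgroup.zpowers ⟨g, hg⟩ := by
    intro X hX
    have : Fact (Nat.Prime 3) := ⟨Nat.prime_three⟩
    obtain ⟨⟨⟨g, hg⟩, hgX⟩, hne⟩ : ∃ x : X, x ≠ 1 := by
      by_contra hcon
      push Not at hcon
      have h1 : Nat.card X = 1 := Nat.card_eq_one_iff_exists.2 ⟨1, hcon⟩
      omega
    have h3 : orderOf (⟨g, hg⟩ : Cfsg.M24) = 3 := by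
      rw [show (⟨g, hg⟩ : Cfsg.M24) = ((⟨⟨g, hg⟩, hgX⟩ : X) : Cfsg.M24) from rfl, Subgroup.orderOf_coe]
      exact orderOf_eq_prime (hX ▸ pow_card_eq_one') hne
    refine ⟨g, hg, ?_, fun e => hne (Subtype.ext (Subtype.ext e)), ?_⟩
    · have := pow_orderOf_eq_one (⟨g, hg⟩ : Cfsg.M24)
      rw [h3] at this
      exact congrArg Subtype.val this
    · refine (Subgroup.eq_of_le_of_card_ge (Subgroup.zpowers_le.2 hgX) ?_).symm
      rw [hX, Nat.card_zpowers, h3]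
  have key : ∀ (X : Subgroup ↥Cfsg.M24) (g : Equiv.Perm Cfsg.GolayPt) (hg : g ∈ Cfsg.M24),
      X = Subgroup.zpowers ⟨g, hg⟩ →
      {p : Cfsg.GolayPt | ∀ x ∈ X, ((x : ↥Cfsg.M24) : Equiv.Perm Cfsg.GolayPt) p = p}.ncard =
        (Finset.univ.filter fun p => g p = p).card := by
    intro X g hg e
    rw [← Set.ncard_coe_finset]
    congr 1
    ext p
    simp only [Finset.coe_filter, Finset.mem_univ, true_and, Set.mem_ofPred_eq]
    constructor
    · exact fun h => h ⟨g, hg⟩ (e ▸ Subgroup.mem_zpowers _)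
    · intro h x hx
      rw [e] at hx
      obtain ⟨n, rfl⟩ := Subgroup.mem_zpowers_iff.1 hx
      rw [SubgroupClass.coe_zpow]
      exact Equiv.Perm.zpow_apply_eq_self_of_apply_eq_self h n
  refine ⟨fun X hX => ?_, ?_, ?_, fun X Y hX hY he => ?_⟩
  · obtain ⟨g, hg, h3, hne, e⟩ := gen X hX
    rw [key X g hg e]
    rcases three_kind hg h3 hne with ⟨h, -⟩ | ⟨h, -⟩
    · exact Or.inl h
    · exact Or.inr h
  · obtain ⟨g, hg, hidx⟩ := exists_elt reps_ok.2.2.1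
    refine ⟨Subgroup.zpowers ⟨g, hg⟩, ?_, ?_⟩
    · rw [Nat.card_zpowers, Subgroup.orderOf_mk]
      exact ord3 hidx (by decide +kernel) (by decide +kernel)
    · rw [key _ g hg rfl, Finset.filter_congr fun p _ => (show IsTbl g repThreeA from hidx).fix_iff p]
      exact fixed_card.2.2.2
  · obtain ⟨g, hg, hidx⟩ := exists_elt reps_ok.2.2.2
    refine ⟨Subgroup.zpowers ⟨g, hg⟩, ?_, ?_⟩
    · rw [Nat.card_zpowers, Subgroup.orderOf_mk]
      exact ord3 hidx (by decide +kernel) (by decide +kernel)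
    · rw [key _ g hg rfl, Finset.filter_congr fun p _ => (show IsTbl g repThreeB from hidx).fix_iff p]
      exact fix_empty fixed_card.2.1
  · obtain ⟨g, hg, h3, hne, eX⟩ := gen X hX
    obtain ⟨h, hh, h3', hne', eY⟩ := gen Y hY
    rw [key X g hg eX, key Y h hh eY] at he
    obtain ⟨k, hk, hkg⟩ : ∃ k ∈ Cfsg.M24, k * g * k⁻¹ = h := by
      rcases three_kind hg h3 hne with ⟨hc, a, ha, e⟩ | ⟨hc, a, ha, e⟩ <;>
        rcases three_kind hh h3' hne' with ⟨hc', b, hb, e'⟩ | ⟨hc', b, hb, e'⟩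
      · exact conj_of_rep ha hb e e'
      · omega
      · omega
      · exact conj_of_rep ha hb e e'
    refine ⟨⟨k, hk⟩, ?_⟩
    rw [eX, eY, ← show (MulAut.conj (⟨k, hk⟩ : Cfsg.M24)) ⟨g, hg⟩ = ⟨h, hh⟩ from Subtype.ext hkg]
    exact (MonoidHom.map_zpowers ((MulAut.conj (⟨k, hk⟩ : Cfsg.M24)).toMonoidHom) _)

end Cfsg.Agent.S5601
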