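import Cfsg.Agent.Lib.ThreeTransp.M24Classes
import Cfsg.Statements.S5602
-- import your own Cfsg.Agent.* helpers here

set_option autoImplicit false
open scoped Pointwise
open Cfsg

namespace Cfsg.Agent.S5602
open CfsgLib.ThreeTransp.M24Classes CfsgLib.ThreeTransp.ClassData CfsgLib.SmallGroups.Golay CfsgLib.Sporadic
open CfsgLib.Sporadic.M24Orbits
open scoped Pointwise

theorem two_facts {g : Equiv.Perm Cfsg.GolayPt} (h : orderOf g = 2) : g * g = 1 ∧ g ≠ 1 := by
  refine ⟨?_, fun e => ?_⟩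
  · rw [← sq, ← h, pow_orderOf_eq_one]
  · rw [e, orderOf_one] at h; exact absurd h (by norm_num)

theorem three_facts {g : Equiv.Perm Cfsg.GolayPt} (h : orderOf g = 3) : g ^ 3 = 1 ∧ g ≠ 1 := by
  refine ⟨?_, fun e => ?_⟩
  · rw [← h, pow_orderOf_eq_one]
  · rw [e, orderOf_one] at h; exact absurd h (by norm_num)

theorem fix_zero {g : Equiv.Perm Cfsg.GolayPt} :
    (∀ p, g p ≠ p) ↔ (Finset.univ.filter fun p => g p = p).card = 0 := by
  rw [Finset.card_eq_zero, Finset.filter_eq_empty_iff]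
  exact ⟨fun h p _ => h p, fun h p => h (Finset.mem_univ p)⟩

/-- An element of order 3 of the group of the length-24 code having exactly 6 fixed points maps to themselves exactly 21 octads, exactly 15 trios, exactly 16 sextets and exactly 20 dodecads. -/
theorem result (g : Equiv.Perm Cfsg.GolayPt) (hg : g ∈ Cfsg.M24) (h₃ : orderOf g = 3) (h₆ : (Finset.univ.filter fun p => g p = p).card = 6) : {o : Finset Cfsg.GolayPt | o ∈ Cfsg.octads ∧ g • o = o}.ncard = 21 ∧ {T : Finset (Finset Cfsg.GolayPt) | T ∈ Cfsg.trios ∧ g • T = T}.ncard = 15 ∧ {S : Finset (Finset Cfsg.GolayPt) | S ∈ Cfsg.sextets ∧ g • S = S}.ncard = 16 ∧ {d : Finset Cfsg.GolayPt | d ∈ Cfsg.dodecads ∧ g • d = d}.ncard = 20 := by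
  obtain ⟨h3', hne⟩ := three_facts h₃
  rcases three_kind hg h3' hne with ⟨-, k, hk, h⟩ | ⟨h0, -⟩
  · refine ⟨?_, ?_, ?_, ?_⟩
    · rw [octad_count hk h]; decide +kernel
    · rw [trio_count hg hk h]; decide +kernel
    · rw [sextet_count hg hk reps_ok.2.2.1 h]; decide +kernel
    · rw [dodecad_count hk h]; decide +kernel
  · omega

end Cfsg.Agent.S5602
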