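import Cfsg.Agent.Lib.ThreeTransp.M24Classes
import Cfsg.Statements.S5608
-- import your own Cfsg.Agent.* helpers here

set_option autoImplicit false
open scoped Pointwise
open Cfsg

namespace Cfsg.Agent.S5608
open CfsgLib.ThreeTransp.M24Classes CfsgLib.ThreeTransp.ClassData CfsgLib.SmallGroups.Golay CfsgLib.Sporadic
open CfsgLib.Sporadic.M24Orbits
open scoped Pointwise

theorem two_facts {g : Equiv.Perm Cfsg.GolayPt} (h : orderOf g = 2) : g * g = 1 ∧ g ≠ 1 := by
  refine ⟨?_, fun e => ?_⟩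
  · rw [← sq, ← h, pow_orderOf_eq_one]
  · rw [e, orderOf_one] at h; exact absurd h (by norm_num)

theorem three_facts {g : Equiv.Perm Cfsg.GolayPt} (h : orderOf g = 3) : g ^ 3 = 1 ∧ g ≠ 1 := by
  refine ⟨?_, fun e => ?_⟩
  · rw [← h, pow_orderOf_eq_one]
  · rw [e, orderOf_one] at h; exact absurd h (by norm_num)

theorem fix_zero {g : Equiv.Perm Cfsg.GolayPt} :
    (∀ p, g p ≠ p) ↔ (Finset.univ.filter fun p => g p = p).card = 0 := by
  rw [Finset.card_eq_zero, Finset.filter_eq_empty_iff]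
  exact ⟨fun h p _ => h p, fun h p => h (Finset.mem_univ p)⟩

set_option synthInstance.maxSize 4000 in
set_option synthInstance.maxHeartbeats 1000000 in
theorem six_cover : ∀ a ∈ [7, 10, 15, 18, 22], ∀ b ∈ [6, 10, 15, 18, 22], b ≠ a → ∀ c ∈ [6, 7, 15, 18, 22], c ≠ a → c ≠ b →
      ∀ d ∈ [6, 7, 10, 18, 22], d ≠ a → d ≠ b → d ≠ c → ∀ e ∈ [6, 7, 10, 15, 22], e ≠ a → e ≠ b → e ≠ c → e ≠ d →
      ∀ f ∈ [6, 7, 10, 15, 18], f ≠ a → f ≠ b → f ≠ c → f ≠ d → f ≠ e →
      (∀ j < 6, [a, b, c, d, e, f].getD ([6, 7, 10, 15, 18, 22].idxOf ([a, b, c, d, e, f].getD j 0)) 0 =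
        [6, 7, 10, 15, 18, 22].getD j 0) →
      ∃ t ∈ sixPairs, ∀ j < 6, tblNat t ([6, 7, 10, 15, 18, 22].getD j 0) = [a, b, c, d, e, f].getD j 0 := by
    decide +kernel

open CfsgLib.SmallGroups.MathieuSets in
theorem no_pairs {s x : Equiv.Perm Cfsg.GolayPt} (hs : s ∈ Cfsg.M24) (hx : IsTbl x repThreeA)
    (s2 : s * s = 1) (hfp : ∀ ⦃p⦄, p ∈ (Finset.univ : Finset Cfsg.GolayPt) → ¬ s p = p) (hc : x * s = s * x) :
    False := by
  classical
  set E : Finset Cfsg.GolayPt := Finset.univ.filter fun p => tblNat repThreeA (idx p) = idx p with hE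
  have hE6 : E.card = 6 := fixed_card.2.2.2
  have hmemE : ∀ p, p ∈ E ↔ x p = p := fun p => by
    rw [hE, Finset.mem_filter, hx.fix_iff p]; simp
  have hsE : ∀ p ∈ E, s p ∈ E := fun p hp => by
    rw [hmemE] at hp ⊢
    rw [← Equiv.Perm.mul_apply, hc, Equiv.Perm.mul_apply, hp]
  have hnot : ¬ ∃ o ∈ Cfsg.octads, E ⊆ o := by
    rintro ⟨o, ho, hEo⟩
    obtain ⟨n, hn, rfl⟩ := CfsgLib.SmallGroups.GolayOctads.mem_octads.1 ho
    have hall : ((cwOfWeight 8).all fun n => (List.range 24).any fun i =>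
        tblNat repThreeA i == i && !n.testBit i) = true := by decide +kernel
    rw [List.all_eq_true] at hall
    have h1 := hall n hn
    simp only [List.any_eq_true, List.mem_range, Bool.and_eq_true, beq_iff_eq, Bool.not_eq_true'] at h1
    obtain ⟨i, hi, e, hf⟩ := h1
    have hm : pt i ∈ E := by rw [hE, Finset.mem_filter, idx_pt hi]; exact ⟨Finset.mem_univ _, e⟩
    have := hEo hm
    rw [mem_toSet, idx_pt hi, hf] at this
    exact absurd this (by decide)
  have hfx : ((List.range 24).filter fun i => tblNat repThreeA i == i) = [6, 7, 10, 15, 18, 22] := by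
    decide +kernel
  have hcov := six_cover
  have hfxmem : ∀ i, i ∈ [6, 7, 10, 15, 18, 22] ↔ i < 24 ∧ tblNat repThreeA i = i := fun i => by
    rw [← hfx, List.mem_filter, List.mem_range, beq_iff_eq]
  let F : ℕ → ℕ := fun i => idx (s (pt i))
  have hF : ∀ i ∈ [6, 7, 10, 15, 18, 22], F i ∈ [6, 7, 10, 15, 18, 22] ∧ F i ≠ i ∧ F (F i) = i := by
    intro i hi
    obtain ⟨hi24, e⟩ := (hfxmem i).1 hi
    have hm : pt i ∈ E := by rw [hE, Finset.mem_filter, idx_pt hi24]; exact ⟨Finset.mem_univ _, e⟩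
    have := hsE _ hm
    rw [hE, Finset.mem_filter] at this
    refine ⟨(hfxmem _).2 ⟨idx_lt _, this.2⟩, fun h => hfp (Finset.mem_univ (pt i))
      (idx_injective (by rw [idx_pt hi24]; exact h)), ?_⟩
    simp only [F]
    rw [pt_idx, ← Equiv.Perm.mul_apply, s2, Equiv.Perm.one_apply, idx_pt hi24]
  have hFne : ∀ i ∈ [6, 7, 10, 15, 18, 22], ∀ j ∈ [6, 7, 10, 15, 18, 22], i ≠ j → F i ≠ F j :=
    fun i hi j hj hij e => hij (by rw [← (hF i hi).2.2, e, (hF j hj).2.2])
  have drop1 : ∀ i ∈ [6, 7, 10, 15, 18, 22], F i ∈ ([6, 7, 10, 15, 18, 22].erase i) := fun i hi =>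
    (List.mem_erase_of_ne (hF i hi).2.1).2 (hF i hi).1
  obtain ⟨t, ht, htf⟩ := hcov (F 6) (drop1 6 (by decide)) (F 7) (drop1 7 (by decide))
    (hFne 7 (by decide) 6 (by decide) (by decide)) (F 10) (drop1 10 (by decide))
    (hFne 10 (by decide) 6 (by decide) (by decide)) (hFne 10 (by decide) 7 (by decide) (by decide))
    (F 15) (drop1 15 (by decide)) (hFne 15 (by decide) 6 (by decide) (by decide))
    (hFne 15 (by decide) 7 (by decide) (by decide)) (hFne 15 (by decide) 10 (by decide) (by decide))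
    (F 18) (drop1 18 (by decide)) (hFne 18 (by decide) 6 (by decide) (by decide))
    (hFne 18 (by decide) 7 (by decide) (by decide)) (hFne 18 (by decide) 10 (by decide) (by decide))
    (hFne 18 (by decide) 15 (by decide) (by decide))
    (F 22) (drop1 22 (by decide)) (hFne 22 (by decide) 6 (by decide) (by decide))
    (hFne 22 (by decide) 7 (by decide) (by decide)) (hFne 22 (by decide) 10 (by decide) (by decide))
    (hFne 22 (by decide) 15 (by decide) (by decide)) (hFne 22 (by decide) 18 (by decide) (by decide))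
    (fun j hj => by
      have key : ∀ k ∈ [6, 7, 10, 15, 18, 22],
          [F 6, F 7, F 10, F 15, F 18, F 22].getD ([6, 7, 10, 15, 18, 22].idxOf k) 0 = F k := by
        intro k hk
        simp only [List.mem_cons, List.not_mem_nil, or_false] at hk
        rcases hk with rfl | rfl | rfl | rfl | rfl | rfl <;> rfl
      obtain rfl | rfl | rfl | rfl | rfl | rfl : j = 0 ∨ j = 1 ∨ j = 2 ∨ j = 3 ∨ j = 4 ∨ j = 5 := by omega
      all_goals exact (key _ (hF _ (by decide)).1).trans (hF _ (by decide)).2.2)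
  have hok : ∀ t ∈ sixPairs, okTbl t = true ∧ ∃ i < 24, tblNat t (tblNat repThreeA i) ≠ tblNat repThreeA (tblNat t i) := by
    decide +kernel
  obtain ⟨hokt, i, hi, hne⟩ := hok t ht
  obtain ⟨u, hu, huidx⟩ := exists_elt hokt
  have hagree : ∀ p ∈ E, u p = s p := by
    intro p hp
    refine idx_injective ?_
    rw [hE, Finset.mem_filter] at hp
    have hm := (hfxmem (idx p)).2 ⟨idx_lt p, hp.2⟩
    have e : tblNat t (idx p) = F (idx p) := by
      simp only [List.mem_cons, List.not_mem_nil, or_false] at hm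
      rcases hm with h | h | h | h | h | h <;> rw [h]
      exacts [htf 0 (by decide), htf 1 (by decide), htf 2 (by decide), htf 3 (by decide), htf 4 (by decide),
        htf 5 (by decide)]
    rw [huidx, e]
    simp only [F, pt_idx]
  -- the two elements differ by a power of `x`
  obtain ⟨xe, hxe, hxidx⟩ := exists_elt reps_ok.2.2.1
  obtain rfl : xe = x := IsTbl.unique hxidx hx
  have hP : u⁻¹ * s ∈ ptStab E := mem_ptStab.2 ⟨mul_mem (inv_mem hu) hs, fun p hp => by
    rw [Equiv.Perm.mul_apply, Equiv.Perm.inv_def, Equiv.symm_apply_eq, hagree p hp]⟩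
  have hxP : xe ∈ ptStab E := mem_ptStab.2 ⟨hxe, fun p hp => (hmemE p).1 hp⟩
  have h3 := CfsgLib.ThreeTransp.M24Six.card_ptStab_six_out hE6 hnot
  have : Fact (Nat.Prime 3) := ⟨Nat.prime_three⟩
  have hxne : (⟨xe, hxP⟩ : ptStab E) ≠ 1 := fun e => by
    have he : xe = 1 := congrArg Subtype.val e
    have hall : ¬ ∀ i < 24, tblNat repThreeA i = i := by decide +kernel
    refine hall fun i hi => ?_
    have := hxidx (pt i)
    rw [he, Equiv.Perm.one_apply, idx_pt hi] at this
    exact this.symm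
  obtain ⟨n, hn⟩ := Subgroup.mem_zpowers_iff.1 (mem_zpowers_of_prime_card h3 hxne (g' := ⟨u⁻¹ * s, hP⟩))
  have hn' : xe ^ n = u⁻¹ * s := by
    have := congrArg Subtype.val hn
    rwa [SubgroupClass.coe_zpow] at this
  have hcu : xe * u = u * xe := by
    have e : u = s * (xe ^ n)⁻¹ := by rw [hn']; group
    have hc' : Commute xe (xe ^ n)⁻¹ := ((Commute.refl xe).zpow_right n).inv_right
    rw [e]
    exact (Commute.mul_right (show Commute xe s from hc) hc').eq
  apply hne
  have := congrArg (fun g : Equiv.Perm Cfsg.GolayPt => idx (g (pt i))) hcu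
  simp only [Equiv.Perm.mul_apply] at this
  rw [hxidx, huidx, huidx, hxidx, idx_pt hi] at this
  exact this.symm

theorem no_eight {x s : Equiv.Perm Cfsg.GolayPt} (x3 : x ^ 3 = 1) (hfp : ∀ p, x p ≠ p)
    (hc : Commute x s) (h8 : (Finset.univ.filter fun p => s p = p).card = 8) : False := by
  classical
  set F := Finset.univ.filter fun p => s p = p with hF
  have hmem : ∀ p ∈ F, x p ∈ F := fun p hp => by
    simp only [hF, Finset.mem_filter, Finset.mem_univ, true_and] at hp ⊢
    rw [← Equiv.Perm.mul_apply, ← hc.eq, Equiv.Perm.mul_apply, hp]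
  have : Fact (Nat.Prime 3) := ⟨Nat.prime_three⟩
  set σ : Equiv.Perm ↥F := x.subtypePerm (fun p => ⟨fun h => by
    have h' := hmem _ (hmem _ h)
    have e : x (x (x p)) = p := by
      have := Equiv.ext_iff.1 x3 p
      rwa [show x ^ 3 = x * x * x by rw [pow_succ, pow_two]] at this
    rwa [e] at h', hmem p⟩) with hσ
  have hσ3 : σ ^ 3 = 1 := by
    rw [hσ, Equiv.Perm.subtypePerm_pow]
    ext p
    simp [x3]
  have hfix : ∀ q : ↥F, σ q ≠ q := fun q e => hfp q (congrArg Subtype.val e)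
  obtain ⟨q, hq⟩ := Equiv.Perm.exists_fixed_point_of_prime (p := 3) (n := 1)
    (by rw [Fintype.card_coe, h8]; norm_num) (by simpa using hσ3)
  exact hfix q hq

/-- If an element of order 3 and an involution of the group of the length-24 code commute, then either the element of order 3 has exactly 6 fixed points and the involution exactly 8, or both are fixed-point-free. -/
theorem result (x s : Equiv.Perm Cfsg.GolayPt) (hx : x ∈ Cfsg.M24) (hs : s ∈ Cfsg.M24) (h₃ : orderOf x = 3) (h₂ : orderOf s = 2) (hc : Commute x s) : ((Finset.univ.filter fun p => x p = p).card = 6 ∧ (Finset.univ.filter fun p => s p = p).card = 8) ∨ ((Finset.univ.filter fun p => x p = p).card = 0 ∧ (Finset.univ.filter fun p => s p = p).card = 0) := by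
  obtain ⟨x3, xne⟩ := three_facts h₃
  obtain ⟨s2, sne⟩ := two_facts h₂
  rcases three_kind hx x3 xne with ⟨xc, k, hk, hk'⟩ | ⟨xc, -⟩ <;>
    rcases two_kind hs s2 sne with ⟨sc, -⟩ | ⟨sc, -⟩
  · exact Or.inl ⟨xc, sc⟩
  · exfalso
    refine no_pairs (x := k * x * k⁻¹) (mul_mem (mul_mem hk hs) (inv_mem hk)) hk' ?_ ?_ ?_
    · rw [show k * s * k⁻¹ * (k * s * k⁻¹) = k * (s * s) * k⁻¹ by group, s2, mul_one, mul_inv_cancel]
    · rw [← Finset.card_eq_zero.trans Finset.filter_eq_empty_iff] 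
      rw [fix_conj, Finset.card_smul_finset, sc]
    · rw [show k * x * k⁻¹ * (k * s * k⁻¹) = k * (x * s) * k⁻¹ by group, hc.eq,
        show k * (s * x) * k⁻¹ = k * s * k⁻¹ * (k * x * k⁻¹) by group]
  · exfalso
    exact no_eight x3 (fix_zero.2 xc) hc sc
  · exact Or.inr ⟨xc, sc⟩

end Cfsg.Agent.S5608
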