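import Cfsg.Agent.Lib.ThreeTransp.OrbitOctTrio
import Cfsg.Agent.Lib.ThreeTransp.OrbitOctSx
import Cfsg.Statements.S5610
-- import your own Cfsg.Agent.* helpers here

set_option autoImplicit false
open scoped Pointwise
open Cfsg

namespace Cfsg.Agent.S5610
open CfsgLib.ThreeTransp.OrbitCert CfsgLib.ThreeTransp.OrbitBase CfsgLib.SmallGroups.Golay CfsgLib.SmallGroups.Mathieu
open scoped Pointwise

/-- The stabiliser of an octad in the group of the length-24 code has exactly three orbits on the 3795 trios, of sizes 15, 420 and 3360, and exactly three orbits on the 1771 sextets, of sizes 35, 840 and 896. -/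
theorem result (o : Finset Cfsg.GolayPt) (ho : o ∈ Cfsg.octads) : (∃ X₁ ∈ Cfsg.trios, ∃ X₂ ∈ Cfsg.trios, ∃ X₃ ∈ Cfsg.trios, (MulAction.orbit ↥(MulAction.stabilizer Cfsg.M24 o) X₁).ncard = 15 ∧ (MulAction.orbit ↥(MulAction.stabilizer Cfsg.M24 o) X₂).ncard = 420 ∧ (MulAction.orbit ↥(MulAction.stabilizer Cfsg.M24 o) X₃).ncard = 3360 ∧ Cfsg.trios = MulAction.orbit ↥(MulAction.stabilizer Cfsg.M24 o) X₁ ∪ MulAction.orbit ↥(MulAction.stabilizer Cfsg.M24 o) X₂ ∪ MulAction.orbit ↥(MulAction.stabilizer Cfsg.M24 o) X₃) ∧ (∃ Y₁ ∈ Cfsg.sextets, ∃ Y₂ ∈ Cfsg.sextets, ∃ Y₃ ∈ Cfsg.sextets, (MulAction.orbit ↥(MulAction.stabilizer Cfsg.M24 o) Y₁).ncard = 35 ∧ (MulAction.orbit ↥(MulAction.stabilizer Cfsg.M24 o) Y₂).ncard = 840 ∧ (MulAction.orbit ↥(MulAction.stabilizer Cfsg.M24 o) Y₃).ncard = 896 ∧ Cfsg.sextets = MulAction.orbit ↥(MulAction.stabilizer Cfsg.M24 o) Y₁ ∪ MulAction.orbit ↥(MulAction.stabilizer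 Cfsg.M24 o) Y₂ ∪ MulAction.orbit ↥(MulAction.stabilizer Cfsg.M24 o) Y₃) := by
  obtain ⟨a, haM, hao⟩ := exists_to_octB ho
  have ha : ((⟨a, haM⟩ : Cfsg.M24) : Equiv.Perm Cfsg.GolayPt) • o = toSet CfsgLib.SmallGroups.M24Group.octB := hao
  refine ⟨?_, ?_⟩
  · skip
    obtain ⟨D⟩ := octTrio
    obtain ⟨r, hr, hU⟩ := transport D ha tr_closed
    refine ⟨r 0, (hr 0).1, r 1, (hr 1).1, r 2, (hr 2).1, (hr 0).2, (hr 1).2, (hr 2).2, hU.trans ?_⟩
    ext x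
    simp [Set.mem_iUnion, Fin.exists_fin_succ, Fin.succ, or_assoc]
  · skip
    obtain ⟨D⟩ := octSx
    obtain ⟨r, hr, hU⟩ := transport D ha sx_closed
    refine ⟨r 0, (hr 0).1, r 1, (hr 1).1, r 2, (hr 2).1, (hr 0).2, (hr 1).2, (hr 2).2, hU.trans ?_⟩
    ext x
    simp [Set.mem_iUnion, Fin.exists_fin_succ, Fin.succ, or_assoc]

end Cfsg.Agent.S5610
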