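import Cfsg.Agent.Lib.ThreeTransp.OrbitSxOct
import Cfsg.Agent.Lib.ThreeTransp.OrbitSxTrio
import Cfsg.Statements.S5611
-- import your own Cfsg.Agent.* helpers here

set_option autoImplicit false
open scoped Pointwise
open Cfsg

namespace Cfsg.Agent.S5611
open CfsgLib.ThreeTransp.OrbitCert CfsgLib.ThreeTransp.OrbitBase CfsgLib.SmallGroups.Golay CfsgLib.SmallGroups.Mathieu
open scoped Pointwise

/-- The stabiliser of a sextet in the group of the length-24 code has exactly three orbits on the 759 octads, of sizes 15, 360 and 384, and exactly four orbits on the 3795 trios, of sizes 15, 180, 720 and 2880. -/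
theorem result (S : Finset (Finset Cfsg.GolayPt)) (hS : S ∈ Cfsg.sextets) : (∃ X₁ ∈ Cfsg.octads, ∃ X₂ ∈ Cfsg.octads, ∃ X₃ ∈ Cfsg.octads, (MulAction.orbit ↥(MulAction.stabilizer Cfsg.M24 S) X₁).ncard = 15 ∧ (MulAction.orbit ↥(MulAction.stabilizer Cfsg.M24 S) X₂).ncard = 360 ∧ (MulAction.orbit ↥(MulAction.stabilizer Cfsg.M24 S) X₃).ncard = 384 ∧ Cfsg.octads = MulAction.orbit ↥(MulAction.stabilizer Cfsg.M24 S) X₁ ∪ MulAction.orbit ↥(MulAction.stabilizer Cfsg.M24 S) X₂ ∪ MulAction.orbit ↥(MulAction.stabilizer Cfsg.M24 S) X₃) ∧ (∃ Y₁ ∈ Cfsg.trios, ∃ Y₂ ∈ Cfsg.trios, ∃ Y₃ ∈ Cfsg.trios, ∃ Y₄ ∈ Cfsg.trios, (MulAction.orbit ↥(MulAction.stabilizer Cfsg.M24 S) Y₁).ncard = 15 ∧ (MulAction.orbit ↥(MulAction.stabilizer Cfsg.M24 S) Y₂).ncard = 180 ∧ (MulAction.orbit ↥(MulAction.stabilizer Cfsg.M24 S) Y₃).ncard = 720 ∧ (MulAction.orbit ↥(MulAction.stabilizer Cfsg.M24 S) Y₄).ncard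 = 2880 ∧ Cfsg.trios = MulAction.orbit ↥(MulAction.stabilizer Cfsg.M24 S) Y₁ ∪ MulAction.orbit ↥(MulAction.stabilizer Cfsg.M24 S) Y₂ ∪ MulAction.orbit ↥(MulAction.stabilizer Cfsg.M24 S) Y₃ ∪ MulAction.orbit ↥(MulAction.stabilizer Cfsg.M24 S) Y₄) := by
  obtain ⟨a, ha'⟩ := CfsgLib.Sporadic.M24Sextet.exists_to_base hS
  have ha : (a : Equiv.Perm Cfsg.GolayPt) • S = CfsgLib.Sporadic.M24Sextet.sx CfsgLib.Sporadic.M24Sextet.m₀ := ha'
  refine ⟨?_, ?_⟩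
  · skip
    obtain ⟨D⟩ := sxOct
    obtain ⟨r, hr, hU⟩ := transport D ha oct_closed
    refine ⟨r 0, (hr 0).1, r 1, (hr 1).1, r 2, (hr 2).1, (hr 0).2, (hr 1).2, (hr 2).2, hU.trans ?_⟩
    ext x
    simp [Set.mem_iUnion, Fin.exists_fin_succ, Fin.succ, or_assoc]
  · skip
    obtain ⟨D⟩ := sxTrio
    obtain ⟨r, hr, hU⟩ := transport D ha tr_closed
    refine ⟨r 0, (hr 0).1, r 1, (hr 1).1, r 2, (hr 2).1, r 3, (hr 3).1, (hr 0).2, (hr 1).2, (hr 2).2, (hr 3).2, hU.trans ?_⟩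
    ext x
    simp [Set.mem_iUnion, Fin.exists_fin_succ, Fin.succ, or_assoc]

end Cfsg.Agent.S5611
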