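import Cfsg.Agent.Lib.ThreeTransp.OrbitTrioOct
import Cfsg.Agent.Lib.ThreeTransp.OrbitTrioSx
import Cfsg.Statements.S5612
-- import your own Cfsg.Agent.* helpers here

set_option autoImplicit false
open scoped Pointwise
open Cfsg

namespace Cfsg.Agent.S5612
open CfsgLib.ThreeTransp.OrbitCert CfsgLib.ThreeTransp.OrbitBase CfsgLib.SmallGroups.Golay CfsgLib.SmallGroups.Mathieu
open scoped Pointwise

/-- The stabiliser of a trio in the group of the length-24 code has exactly three orbits on the 759 octads, of sizes 3, 84 and 672, and exactly four orbits on the 1771 sextets, of sizes 7, 84, 336 and 1344. -/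
theorem result (T : Finset (Finset Cfsg.GolayPt)) (hT : T ∈ Cfsg.trios) : (∃ X₁ ∈ Cfsg.octads, ∃ X₂ ∈ Cfsg.octads, ∃ X₃ ∈ Cfsg.octads, (MulAction.orbit ↥(MulAction.stabilizer Cfsg.M24 T) X₁).ncard = 3 ∧ (MulAction.orbit ↥(MulAction.stabilizer Cfsg.M24 T) X₂).ncard = 84 ∧ (MulAction.orbit ↥(MulAction.stabilizer Cfsg.M24 T) X₃).ncard = 672 ∧ Cfsg.octads = MulAction.orbit ↥(MulAction.stabilizer Cfsg.M24 T) X₁ ∪ MulAction.orbit ↥(MulAction.stabilizer Cfsg.M24 T) X₂ ∪ MulAction.orbit ↥(MulAction.stabilizer Cfsg.M24 T) X₃) ∧ (∃ Y₁ ∈ Cfsg.sextets, ∃ Y₂ ∈ Cfsg.sextets, ∃ Y₃ ∈ Cfsg.sextets, ∃ Y₄ ∈ Cfsg.sextets, (MulAction.orbit ↥(MulAction.stabilizer Cfsg.M24 T) Y₁).ncard = 7 ∧ (MulAction.orbit ↥(MulAction.stabilizer Cfsg.M24 T) Y₂).ncard = 84 ∧ (MulAction.orbit ↥(MulAction.stabilizer Cfsg.M24 T) Y₃).ncard = 336 ∧ (MulAction.orbit ↥(MulAction.stabilizer Cfsg.M24 T) Y₄).ncard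 = 1344 ∧ Cfsg.sextets = MulAction.orbit ↥(MulAction.stabilizer Cfsg.M24 T) Y₁ ∪ MulAction.orbit ↥(MulAction.stabilizer Cfsg.M24 T) Y₂ ∪ MulAction.orbit ↥(MulAction.stabilizer Cfsg.M24 T) Y₃ ∪ MulAction.orbit ↥(MulAction.stabilizer Cfsg.M24 T) Y₄) := by
  obtain ⟨a, ha'⟩ := CfsgLib.Sporadic.M24Trio.exists_to_base hT
  have ha : (a : Equiv.Perm Cfsg.GolayPt) • T = CfsgLib.Sporadic.M24Trio.tr CfsgLib.Sporadic.TrioData.base := ha'
  refine ⟨?_, ?_⟩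
  · skip
    obtain ⟨D⟩ := trioOct
    obtain ⟨r, hr, hU⟩ := transport D ha oct_closed
    refine ⟨r 0, (hr 0).1, r 1, (hr 1).1, r 2, (hr 2).1, (hr 0).2, (hr 1).2, (hr 2).2, hU.trans ?_⟩
    ext x
    simp [Set.mem_iUnion, Fin.exists_fin_succ, Fin.succ, or_assoc]
  · skip
    obtain ⟨D⟩ := trioSx
    obtain ⟨r, hr, hU⟩ := transport D ha sx_closed
    refine ⟨r 0, (hr 0).1, r 1, (hr 1).1, r 2, (hr 2).1, r 3, (hr 3).1, (hr 0).2, (hr 1).2, (hr 2).2, (hr 3).2, hU.trans ?_⟩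
    ext x
    simp [Set.mem_iUnion, Fin.exists_fin_succ, Fin.succ, or_assoc]

end Cfsg.Agent.S5612
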