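import Cfsg.Agent.Lib.ThreeTransp.M24Six
import Cfsg.Statements.S5613
-- import your own Cfsg.Agent.* helpers here

set_option autoImplicit false
open scoped Pointwise
open Cfsg

namespace Cfsg.Agent.S5613
open CfsgLib.ThreeTransp.M24Six CfsgLib.SmallGroups.M24Group CfsgLib.SmallGroups.MathieuSets CfsgLib.SmallGroups.Steiner
open scoped Pointwise

/-- In the group of the length-24 code, the joint stabiliser of two octads has order 10752, 1152 or 720 according as the octads meet in 0, 4 or 2 points. -/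
theorem result (o o' : Finset Cfsg.GolayPt) (ho : o ∈ Cfsg.octads) (ho' : o' ∈ Cfsg.octads) : ((o ∩ o').card = 0 → Nat.card ↥(MulAction.stabilizer Cfsg.M24 o ⊓ MulAction.stabilizer Cfsg.M24 o') = 10752) ∧ ((o ∩ o').card = 4 → Nat.card ↥(MulAction.stabilizer Cfsg.M24 o ⊓ MulAction.stabilizer Cfsg.M24 o') = 1152) ∧ ((o ∩ o').card = 2 → Nat.card ↥(MulAction.stabilizer Cfsg.M24 o ⊓ MulAction.stabilizer Cfsg.M24 o') = 720) := by
  have h := card_joint ho ho'
  refine ⟨fun hk => ?_, fun hk => ?_, fun hk => ?_⟩ <;> rw [hk] at h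
  · rw [show Nat.choose 8 0 * mu24 0 = 30 from rfl] at h; omega
  · rw [show Nat.choose 8 4 * mu24 4 = 280 from rfl] at h; omega
  · rw [show Nat.choose 8 2 * mu24 2 = 448 from rfl] at h; omega

end Cfsg.Agent.S5613
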