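import Cfsg.Agent.Lib.ThreeTransp.M24Six
import Cfsg.Statements.S5614
-- import your own Cfsg.Agent.* helpers here

set_option autoImplicit false
open scoped Pointwise
open Cfsg

namespace Cfsg.Agent.S5614
open CfsgLib.ThreeTransp.M24Six CfsgLib.SmallGroups.M24Group CfsgLib.SmallGroups.MathieuSets CfsgLib.SmallGroups.Steiner
open scoped Pointwise

/-- In the group of the length-24 code, the joint stabiliser of two octads meeting in exactly two points is isomorphic to the symmetric group of degree 6. -/
theorem result (o o' : Finset Cfsg.GolayPt) (ho : o ∈ Cfsg.octads) (ho' : o' ∈ Cfsg.octads) (h₂ : (o ∩ o').card = 2) : Nonempty (↥(MulAction.stabilizer Cfsg.M24 o ⊓ MulAction.stabilizer Cfsg.M24 o') ≃* Equiv.Perm (Fin 6)) := by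
  have h720 : Nat.card ↥(MulAction.stabilizer Cfsg.M24 o ⊓ MulAction.stabilizer Cfsg.M24 o') = 720 := by
    have h := card_joint ho ho'
    rw [h₂] at h
    rw [show Nat.choose 8 2 * mu24 2 = 448 from rfl] at h
    omega
  have hE6 : (o \ o').card = 6 := by
    have := Finset.card_sdiff_add_card_inter o o'
    rw [ho.2] at this
    omega
  have hst : MulAction.stabilizer Cfsg.M24 o ⊓ MulAction.stabilizer Cfsg.M24 o' ≤
      MulAction.stabilizer Cfsg.M24 (o \ o') := fun g hg => by
    show g • (o \ o') = o \ o'
    rw [Finset.smul_finset_sdiff, show g • o = o from hg.1, show g • o' = o' from hg.2]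
  let f := (resSet (o \ o')).comp (Subgroup.inclusion hst)
  have hinj : Function.Injective f := by
    refine (injective_iff_map_eq_one f).2 fun g hg => Subtype.ext (Subtype.ext ?_)
    refine faithful_two ho ho' h₂ g.1.2 g.2.2 fun p hp => ?_
    have := congrArg (fun e : Equiv.Perm ↥(o \ o') => ((e ⟨p, hp⟩ : ↥(o \ o')) : Cfsg.GolayPt)) hg
    exact this
  have hbij : Function.Bijective f := by
    rw [Nat.bijective_iff_injective_and_card]
    exact ⟨hinj, by rw [h720, Nat.card_perm, Nat.card_eq_finsetCard, hE6]; rfl⟩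
  exact ⟨(MulEquiv.ofBijective f hbij).trans ((o \ o').equivFinOfCardEq hE6).permCongrHom⟩

end Cfsg.Agent.S5614
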