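import Cfsg.Agent.Lib.ThreeTransp.OrbitTriadSx
import Cfsg.Statements.S5616
-- import your own Cfsg.Agent.* helpers here

set_option autoImplicit false
open scoped Pointwise
open Cfsg

namespace Cfsg.Agent.S5616
open CfsgLib.ThreeTransp.OrbitCert CfsgLib.ThreeTransp.OrbitBase CfsgLib.SmallGroups.Golay CfsgLib.SmallGroups.Mathieu
open scoped Pointwise

/-- Let Y be a set of 3 of the 24 points. The sextets of the length-24 code whose tetrads meeting Y number 1, 2 or 3 are respectively 21, 630 and 1120 in number, and two sextets with the same number of tetrads meeting Y are conjugate under the setwise stabiliser of Y in the code's group. -/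
theorem result (Y : Finset Cfsg.GolayPt) (hY : Y.card = 3) : {S : Finset (Finset Cfsg.GolayPt) | S ∈ Cfsg.sextets ∧ (S.filter fun t => (t ∩ Y).Nonempty).card = 1}.ncard = 21 ∧ {S : Finset (Finset Cfsg.GolayPt) | S ∈ Cfsg.sextets ∧ (S.filter fun t => (t ∩ Y).Nonempty).card = 2}.ncard = 630 ∧ {S : Finset (Finset Cfsg.GolayPt) | S ∈ Cfsg.sextets ∧ (S.filter fun t => (t ∩ Y).Nonempty).card = 3}.ncard = 1120 ∧ ∀ S S' : Finset (Finset Cfsg.GolayPt), S ∈ Cfsg.sextets → S' ∈ Cfsg.sextets → (S.filter fun t => (t ∩ Y).Nonempty).card = (S'.filter fun t => (t ∩ Y).Nonempty).card → ∃ g ∈ Cfsg.M24, g • Y = Y ∧ g • S = S' := by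
  classical
  obtain ⟨D⟩ := triadSx
  obtain ⟨a, haM, haY⟩ : ∃ a ∈ Cfsg.M24, a • Y = toSet triB := by
    obtain ⟨y, hy, hyY⟩ : ∃ y : Fin 3 → Cfsg.GolayPt, Function.Injective y ∧ ∀ i, y i ∈ Y :=
      ⟨fun i => ((Y.equivFinOfCardEq hY).symm i : Cfsg.GolayPt),
        fun i j e => (Y.equivFinOfCardEq hY).symm.injective (Subtype.ext e), fun i => Subtype.coe_prop _⟩
    obtain ⟨a, ha, hay⟩ := CfsgLib.Sporadic.M24Config.exists_to_points (n := 3) (by norm_num) y hy
    refine ⟨a, ha, (Finset.eq_of_subset_of_card_le ?_ ?_).symm⟩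
    · intro r hr
      have hcases : ∀ r ∈ toSet triB, ∃ i : Fin 3, CfsgLib.SmallGroups.M24Group.bpt i = r := by decide +kernel
      obtain ⟨i, rfl⟩ := hcases r hr
      rw [← hay i, ← Equiv.Perm.smul_def]
      exact Finset.smul_mem_smul_finset (hyY i)
    · rw [Finset.card_smul_finset, hY, card_toSet, show pc triB = 3 by decide +kernel]
  have hcnt : ∀ S : Finset (Finset Cfsg.GolayPt),
      ((a • S).filter fun t => (t ∩ toSet triB).Nonempty).card = (S.filter fun t => (t ∩ Y).Nonempty).card := by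
    intro S
    symm
    refine Finset.card_bij (fun t _ => a • t) ?_ (fun _ _ _ _ e => smul_left_cancel a e) ?_
    · intro t ht
      rw [Finset.mem_filter] at ht ⊢
      refine ⟨Finset.smul_mem_smul_finset ht.1, ?_⟩
      rw [← haY, ← Finset.smul_finset_inter]
      exact ht.2.smul_finset
    · intro u hu
      rw [Finset.mem_filter] at hu
      obtain ⟨t, ht, rfl⟩ := Finset.mem_smul_finset.1 hu.1
      refine ⟨t, Finset.mem_filter.2 ⟨ht, ?_⟩, rfl⟩
      have := hu.2
      rw [← haY, ← Finset.smul_finset_inter] at this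
      exact Finset.image_nonempty.1 this
  have hset : ∀ i, {S : Finset (Finset Cfsg.GolayPt) | S ∈ Cfsg.sextets ∧ (S.filter fun t => (t ∩ Y).Nonempty).card = (![1, 2, 3] : Fin 3 → ℕ) i}.ncard = (![21, 630, 1120] : Fin 3 → ℕ) i := by
    intro i
    rw [← D.ncard i, D.orbit_eq i]
    refine Set.ncard_congr (fun S _ => a • S) ?_ (fun _ _ _ _ e => smul_left_cancel a e) ?_
    · exact fun S hS => ⟨sx_closed a haM S hS.1, (hcnt S).trans hS.2⟩
    · intro S hS
      refine ⟨a⁻¹ • S, ⟨sx_closed _ (inv_mem haM) S hS.1, ?_⟩, smul_inv_smul a S⟩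
      rw [← hcnt, smul_inv_smul]
      exact hS.2
  refine ⟨hset 0, hset 1, hset 2, fun S S' hS hS' he => ?_⟩
  obtain ⟨i, hi⟩ := D.cover (a • S) (sx_closed a haM S hS)
  have hmem : ∀ Z ∈ Cfsg.sextets, (Z.filter fun t => (t ∩ Y).Nonempty).card = (![1, 2, 3] : Fin 3 → ℕ) i →
      a • Z ∈ MulAction.orbit (MulAction.stabilizer Cfsg.M24 (toSet triB)) (D.rep i) := by
    intro Z hZ hz
    rw [D.orbit_eq]
    exact ⟨sx_closed a haM Z hZ, (hcnt Z).trans hz⟩
  have hSi := (hcnt S).symm.trans hi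
  obtain ⟨g, hg⟩ := hmem S hS hSi
  obtain ⟨g', hg'⟩ := hmem S' hS' (he.symm.trans hSi)
  set k : Equiv.Perm Cfsg.GolayPt := ((g' : Cfsg.M24) : Equiv.Perm Cfsg.GolayPt) * ((g : Cfsg.M24) : Equiv.Perm Cfsg.GolayPt)⁻¹ with hk
  have hkY : k • toSet triB = toSet triB := by
    have e1 : ((g : Cfsg.M24) : Equiv.Perm Cfsg.GolayPt) • toSet triB = toSet triB := g.2
    have e2 : ((g' : Cfsg.M24) : Equiv.Perm Cfsg.GolayPt) • toSet triB = toSet triB := g'.2
    rw [hk, mul_smul, inv_smul_eq_iff.2 e1.symm, e2]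
  have hkS : k • (a • S) = a • S' := by
    rw [hk, mul_smul, ← hg, ← hg']
    exact congrArg (_ • ·) (inv_smul_smul _ _)
  refine ⟨a⁻¹ * k * a, mul_mem (mul_mem (inv_mem haM) (mul_mem (g' : Cfsg.M24).2 (inv_mem (g : Cfsg.M24).2))) haM, ?_, ?_⟩
  · rw [mul_smul, mul_smul, haY, hkY, ← haY, inv_smul_smul]
  · rw [mul_smul, mul_smul, hkS, inv_smul_smul]

end Cfsg.Agent.S5616
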