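import Cfsg.Agent.Lib.ThreeTransp.OrbitDuumSx
import Cfsg.Statements.S5617
-- import your own Cfsg.Agent.* helpers here

set_option autoImplicit false
open scoped Pointwise
open Cfsg

namespace Cfsg.Agent.S5617
open CfsgLib.ThreeTransp.OrbitCert CfsgLib.ThreeTransp.OrbitBase CfsgLib.SmallGroups.Golay CfsgLib.SmallGroups.Mathieu
open scoped Pointwise

/-- The setwise stabiliser, in the group of the length-24 code, of a complementary pair of dodecads has exactly three orbits on the 1771 sextets, of sizes 396, 495 and 880. -/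
theorem result (d : Finset Cfsg.GolayPt) (hd : d ∈ Cfsg.dodecads) : ∃ X₁ ∈ Cfsg.sextets, ∃ X₂ ∈ Cfsg.sextets, ∃ X₃ ∈ Cfsg.sextets, (MulAction.orbit ↥(MulAction.stabilizer Cfsg.M24 ({d, Finset.univ \ d} : Finset (Finset Cfsg.GolayPt))) X₁).ncard = 396 ∧ (MulAction.orbit ↥(MulAction.stabilizer Cfsg.M24 ({d, Finset.univ \ d} : Finset (Finset Cfsg.GolayPt))) X₂).ncard = 495 ∧ (MulAction.orbit ↥(MulAction.stabilizer Cfsg.M24 ({d, Finset.univ \ d} : Finset (Finset Cfsg.GolayPt))) X₃).ncard = 880 ∧ Cfsg.sextets = MulAction.orbit ↥(MulAction.stabilizer Cfsg.M24 ({d, Finset.univ \ d} : Finset (Finset Cfsg.GolayPt))) X₁ ∪ MulAction.orbit ↥(MulAction.stabilizer Cfsg.M24 ({d, Finset.univ \ d} : Finset (Finset Cfsg.GolayPt))) X₂ ∪ MulAction.orbit ↥(MulAction.stabilizer Cfsg.M24 ({d, Finset.univ \ d} : Finset (Finset Cfsg.GolayPt))) X₃ := by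
  obtain ⟨a, haM, had⟩ := exists_to_dodB hd
  have ha : ((⟨a, haM⟩ : Cfsg.M24) : Equiv.Perm Cfsg.GolayPt) • ({d, Finset.univ \ d} : Finset (Finset Cfsg.GolayPt)) = duum := by
    change a • ({d, Finset.univ \ d} : Finset (Finset Cfsg.GolayPt)) = duum
    rw [Finset.smul_finset_insert, Finset.smul_finset_singleton, Finset.smul_finset_sdiff, Finset.smul_finset_univ, had]
    decide +kernel
  obtain ⟨D⟩ := duumSx
  obtain ⟨r, hr, hU⟩ := transport D ha sx_closed
  refine ⟨r 0, (hr 0).1, r 1, (hr 1).1, r 2, (hr 2).1, (hr 0).2, (hr 1).2, (hr 2).2, hU.trans ?_⟩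
  ext x
  simp [Set.mem_iUnion, Fin.exists_fin_succ, Fin.succ, or_assoc]

end Cfsg.Agent.S5617
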