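import Cfsg.Agent.Lib.SmallGroups.MathieuSets
import Cfsg.Agent.Lib.SmallGroups.Mathieu
import Cfsg.Prelude.Def_SporadicCombinatorics
import Cfsg.Statements.S5618
-- import your own Cfsg.Agent.* helpers here

set_option autoImplicit false
open scoped Pointwise
open Cfsg

namespace Cfsg.Agent.S5618
open CfsgLib.SmallGroups.Golay CfsgLib.SmallGroups.GolayOctads CfsgLib.SmallGroups.Mathieu CfsgLib.SmallGroups.M24Group
open scoped Pointwise

theorem perm_eq_of_five {α : Type*} [Fintype α] (h6 : Fintype.card α = 6) (x : Fin 5 → α)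
    (hx : Function.Injective x) {σ τ : Equiv.Perm α} (h : ∀ i, σ (x i) = τ (x i)) : σ = τ := by
  classical
  have key : ∀ z, (∀ i, x i ≠ z) → ∀ w, (∀ i, x i ≠ w) → z = w := by
    intro z hz w hw
    by_contra hne
    have h2 : (Finset.univ.image x).card + ({z, w} : Finset α).card ≤ Fintype.card α := by
      rw [← Finset.card_union_of_disjoint]
      · exact Finset.card_le_univ _
      · simp [Finset.disjoint_left, Ne.symm, hz, hw]
    rw [Finset.card_image_of_injective _ hx, Finset.card_pair hne, h6] at h2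
    simp at h2
  refine Equiv.ext fun z => ?_
  by_cases hz : ∃ i, x i = z
  · obtain ⟨i, rfl⟩ := hz; exact h i
  push Not at hz
  by_contra hne
  have hw : ∀ i, x i ≠ τ.symm (σ z) := fun i e => hz i (σ.injective (by
    rw [h i, e, Equiv.apply_symm_apply]))
  exact hne (by rw [← τ.apply_symm_apply (σ z), ← key z hz _ hw])

/-- For a dodecad d of the length-24 code and a hexad C on it (a 6-point intersection of d with an octad): the joint stabiliser of d and C in the code's group is isomorphic to the symmetric group of degree 6, and it acts faithfully both on the six points of C and on the six points of d outside C. -/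
theorem result (d : Finset Cfsg.GolayPt) (hd : d ∈ Cfsg.dodecads) (C : Finset Cfsg.GolayPt) (hC : C ∈ Cfsg.hexadsOn d) : Nonempty (↥(MulAction.stabilizer Cfsg.M24 d ⊓ MulAction.stabilizer Cfsg.M24 C) ≃* Equiv.Perm (Fin 6)) ∧ (∀ g ∈ MulAction.stabilizer Cfsg.M24 d ⊓ MulAction.stabilizer Cfsg.M24 C, (∀ p ∈ C, ((g : ↥Cfsg.M24) : Equiv.Perm Cfsg.GolayPt) p = p) → g = 1) ∧ ∀ g ∈ MulAction.stabilizer Cfsg.M24 d ⊓ MulAction.stabilizer Cfsg.M24 C, (∀ p ∈ d \ C, ((g : ↥Cfsg.M24) : Equiv.Perm Cfsg.GolayPt) p = p) → g = 1 := by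
  classical
  obtain ⟨hC6, o, ho, hod⟩ := hC
  have hCd : C ⊆ d := hod ▸ Finset.inter_subset_right
  have hCo : C ⊆ o := hod ▸ Finset.inter_subset_left
  have faith : ∀ E : Finset Cfsg.GolayPt, E ⊆ d → 5 ≤ E.card →
      ∀ g ∈ MulAction.stabilizer Cfsg.M24 d ⊓ MulAction.stabilizer Cfsg.M24 C,
        (∀ p ∈ E, ((g : ↥Cfsg.M24) : Equiv.Perm Cfsg.GolayPt) p = p) → g = 1 := by
    intro E hE h5 g hg hfix
    obtain ⟨x, hx, hxE⟩ := exists_five h5
    exact Subtype.ext (dodecad_rigid hd hx (fun i => hE (hxE i)) g.2 hg.1 fun i => hfix _ (hxE i))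
  have hDC : 5 ≤ (d \ C).card := by rw [Finset.card_sdiff_of_subset hCd, hd.2, hC6]; norm_num
  refine ⟨?_, faith C hCd (by omega), faith (d \ C) Finset.sdiff_subset hDC⟩
  have hstab : ∀ g : ↥(MulAction.stabilizer Cfsg.M24 d ⊓ MulAction.stabilizer Cfsg.M24 C), ∀ p,
      ((g : ↥Cfsg.M24) : Equiv.Perm Cfsg.GolayPt) p ∈ C ↔ p ∈ C := fun g p => by
    have e : ((g : ↥Cfsg.M24) : Equiv.Perm Cfsg.GolayPt) • C = C := g.2.2
    have h := Finset.smul_mem_smul_finset_iff ((g : ↥Cfsg.M24) : Equiv.Perm Cfsg.GolayPt) (b := p) (s := C)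
    rwa [e] at h
  let f : ↥(MulAction.stabilizer Cfsg.M24 d ⊓ MulAction.stabilizer Cfsg.M24 C) →* Equiv.Perm ↥C :=
    { toFun := fun g => ((g : ↥Cfsg.M24) : Equiv.Perm Cfsg.GolayPt).subtypePerm fun p => hstab g p
      map_one' := by ext; rfl
      map_mul' := fun _ _ => by ext; rfl }
  have hinj : Function.Injective f := (injective_iff_map_eq_one f).2 fun g hg =>
    Subtype.ext (faith C hCd (by omega) g g.2 fun p hp =>
      congrArg (fun σ : Equiv.Perm ↥C => ((σ ⟨p, hp⟩ : ↥C) : Cfsg.GolayPt)) hg)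
  have hsurj : Function.Surjective f := by
    intro σ
    obtain ⟨x, hx, hxC⟩ := exists_five (S := C) (by omega)
    let X : Fin 5 ↪ Cfsg.GolayPt := ⟨x, hx⟩
    let Y : Fin 5 ↪ Cfsg.GolayPt := ⟨fun i => (σ ⟨x i, hxC i⟩ : Cfsg.GolayPt),
      fun i j e => hx (congrArg Subtype.val (σ.injective (Subtype.ext e)))⟩
    obtain ⟨k, hk, -⟩ := dodecad_sharp hd X Y (fun i => hCd (hxC i)) fun i => hCd (σ _).2
    have hkd : ((k : ↥Cfsg.M24) : Equiv.Perm Cfsg.GolayPt) • d = d := k.2
    have hko : ((k : ↥Cfsg.M24) : Equiv.Perm Cfsg.GolayPt) • o = o := by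
      refine octad_eq_of_inter (smul_mem_weight (k : ↥Cfsg.M24).2 ho) ho
        ((le_of_eq (by rw [Finset.card_map, Finset.card_univ, Fintype.card_fin] : 5 = (Finset.univ.map Y).card)).trans
          (Finset.card_le_card fun p hp => ?_))
      obtain ⟨i, -, rfl⟩ := Finset.mem_map.1 hp
      refine Finset.mem_inter.2 ⟨?_, hCo (σ _).2⟩
      rw [← hk i, ← Equiv.Perm.smul_def]
      exact Finset.smul_mem_smul_finset (hCo (hxC i))
    have hkC : ((k : ↥Cfsg.M24) : Equiv.Perm Cfsg.GolayPt) • C = C := by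
      rw [← hod, Finset.smul_finset_inter, hko, hkd]
    refine ⟨⟨(k : ↥Cfsg.M24), k.2, hkC⟩, ?_⟩
    refine perm_eq_of_five (Fintype.card_coe C ▸ hC6) (fun i => (⟨x i, hxC i⟩ : ↥C))
      (fun i j e => hx (congrArg Subtype.val e)) fun i => Subtype.ext (hk i)
  exact ⟨(MulEquiv.ofBijective f ⟨hinj, hsurj⟩).trans (Finset.equivFinOfCardEq hC6).permCongrHom⟩

end Cfsg.Agent.S5618
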