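import Cfsg.Agent.Lib.Sporadic.DodecadPointStabilizers
import Cfsg.Statements.S5619
-- import your own Cfsg.Agent.* helpers here

set_option autoImplicit false
set_option maxRecDepth 40000
open scoped Pointwise
open Cfsg

namespace Cfsg.Agent.S5619
open CfsgLib.SmallGroups.Golay CfsgLib.SmallGroups.GolayOctads CfsgLib.SmallGroups.Mathieu CfsgLib.Sporadic.GroupTables
open CfsgLib.Sporadic.DodecadPointStabilizers
open scoped Pointwise

/-- The elements fixing the base dodecad and three of its points. -/
def tbls : List ℕ := [984818244535754528103549039458486304, 959894609041950200578829698494826528, 981916187042346593895297298477588512, 965024624361932159697558702286053408, 967779264988299885835666948766247968, 963346806056159338943243032676576288, 980702796937417700527817212908881952, 968578471582776936808094381164316704, 970314541435420813399408265622954112, 965344202215961512894109557907103872, 979290025217126392513577224938563712, 959488648784726934157066160460867712, 967108836203849983852575182709543040, 963885041967098580628657337816895616,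 980625480219980334615515041312626816, 958595574852912850745922522960222336, 978935994059595565513698360758995104, 959818912136608150605468337716136096, 966348247080595976107048009147292832, 964047817421878661518431810814745760, 982037836775830376910252337998963872, 970292975325365455975839616214901920, 980097454187542427823308797602257056, 969020129119222209088555432390809760, 981407819999408825839503387808471456, 965041222869402574086040481777195424, 967717662176433308138483248117591456, 966388649418781796629736068063997344, 978959762586585954553478776544677280, 959464880884499059543098453133970848, 969227370795216105835610228071160224, 958678656441352339189045725381351840, 980662835731208902581754091248094656, 958152055294551341366850418216897984, 981899589114197836953467593452398016, 964532854713486736508158087358195136, 984639487385577768800044579351505344, 979422431094040533236088324763625920, 966643966310213962244027436502298048, 963376715755139870995595718973205952, 981575184422594563262068524709157344, 970355168962233289661435542111918560,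 967617161155592070934493441893342688, 966419588624211223232521181131480544, 983994865815951478192326435430050272, 960154834287925099172141383694363104, 980219316614453148985885347082750432, 958558218628834318423662359234595296, 984522506754647797731288993272236544, 979447190205396952546326907597818368, 980261139157278469011020785189719552, 968414786503251888390392120936599040, 970536498742802372491448892479740416, 964659630789541498052121261562501632, 967686724085416368100236080739275264, 966319087448670130007033638320132608, 968899207914255712989127754080390688, 958842777630459750900145496993893920, 967241028507246421253490115940130336, 963214613584852226223976929290395168, 981975643116391991795650461630308896, 969892516750752144528514641187971616, 984614727818273766694750887392923168, 979330209485021928376847747824438816, 969851928257186634939992848427361952, 965122244495241065290289703567074976, 969063250231852358397111745336396448, 958514614157155774561044187090078368, 984558019520601598434247640710500000, 959331455310918617637209142647803552,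 965972864124916166551408430007145120, 963752098173200024546523281471328928]

/-- The powers of an element of order four. -/
def qA : List ℕ := [984818244535754528103549039458486304, 981975643116391991795650461630308896, 978959762586585954553478776544677280, 964659630789541498052121261562501632]

/-- A coset. -/
def qX : List ℕ := [963885041967098580628657337816895616, 980097454187542427823308797602257056, 966419588624211223232521181131480544, 958514614157155774561044187090078368]

abbrev H0 : Subgroup ↥Cfsg.M24 := MulAction.stabilizer Cfsg.M24 D ⊓ MulAction.stabilizer Cfsg.M24 P ⊓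
  MulAction.stabilizer Cfsg.M24 (pt 0) ⊓ MulAction.stabilizer Cfsg.M24 (pt 12)

/-- The table fixes the configuration. -/
def fixOK (n : ℕ) : Bool := okP n && img (pw n) dodB == dodB && pw n 23 == 23 && pw n 0 == 0 && pw n 12 == 12

theorem tbls_ok : distinct tbls = true ∧ tbls.length = 72 ∧ ∀ n ∈ tbls, fixOK n = true := by decide +kernel

theorem q_ok : (∀ n ∈ qA, fixOK n = true) ∧ (∀ n ∈ qX, fixOK n = true) := by decide +kernel

/-- The same permutation. -/
def same (a b : ℕ) : Bool := (List.range 24).all fun i => pw a i == pw b i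

theorem same_sound {a b : ℕ} (h : same a b = true) {g k : Equiv.Perm Cfsg.GolayPt} (hg : IsTbl g a)
    (hk : IsTbl k b) : g = k := Equiv.ext fun p => idx_injective (by
  rw [hg p, hk p]
  exact beq_iff_eq.1 (List.all_eq_true.1 h _ (List.mem_range.2 (idx_lt p))))

theorem same_of_eq {a b : ℕ} {g : Equiv.Perm Cfsg.GolayPt} (ha : IsTbl g a) (hb : IsTbl g b) : same a b = true :=
  List.all_eq_true.2 fun i hi => beq_iff_eq.2 (by
    rw [← idx_pt (List.mem_range.1 hi), ← ha, ← hb])

theorem mem_H0 {g : ↥Cfsg.M24} {n : ℕ} (h : fixOK n = true) (hg : IsTbl (g : Equiv.Perm Cfsg.GolayPt) n) :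
    g ∈ H0 := by
  simp only [fixOK, Bool.and_eq_true, beq_iff_eq] at h
  obtain ⟨⟨⟨⟨-, h1⟩, h2⟩, h3⟩, h4⟩ := h
  refine ⟨⟨⟨?_, ?_⟩, ?_⟩, ?_⟩
  · show (g : Equiv.Perm Cfsg.GolayPt) • D = D
    rw [hg.smul, h1]
  · exact hg.apply (by norm_num) h2
  · exact hg.apply (by norm_num) h3
  · exact hg.apply (by norm_num) h4

theorem card_H0 : Nat.card ↥H0 = 72 := by
  obtain ⟨b23, b0, b12, -⟩ := base_facts
  exact card_three dodB_mem P_mem ((pt_mem_D (by norm_num)).2 b0) ((pt_mem_D (by norm_num)).2 b12)
    (by decide +kernel) (by decide +kernel) (by decide +kernel)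

theorem listed_H0 (g : ↥H0) : ∃ n ∈ tbls, IsTbl ((g : ↥Cfsg.M24) : Equiv.Perm Cfsg.GolayPt) n :=
  listed_subgroup tbls_ok.1
    (fun n hn => by
      have := tbls_ok.2.2 n hn
      simp only [fixOK, Bool.and_eq_true] at this
      exact this.1.1.1.1)
    (card_H0.trans tbls_ok.2.1.symm) (fun g n hn hgn => mem_H0 (tbls_ok.2.2 n hn) hgn) g.2

theorem exists_H0 {n : ℕ} (h : fixOK n = true) : ∃ g : ↥H0, IsTbl ((g : ↥Cfsg.M24) : Equiv.Perm Cfsg.GolayPt) n := by
  have h' := h
  simp only [fixOK, Bool.and_eq_true] at h'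
  obtain ⟨g, hg, hgn⟩ := exists_isTbl h'.1.1.1.1
  exact ⟨⟨⟨g, hg⟩, mem_H0 h hgn⟩, hgn⟩

/-- The cube is trivial. -/
def cube1 (n : ℕ) : Bool := same (comp n (comp n n)) idT

theorem cube_iff {g : ↥H0} {n : ℕ} (hg : IsTbl ((g : ↥Cfsg.M24) : Equiv.Perm Cfsg.GolayPt) n) :
    g ^ 3 = 1 ↔ cube1 n = true := by
  have h3 : IsTbl ((((g * (g * g) : ↥H0) : ↥Cfsg.M24)) : Equiv.Perm Cfsg.GolayPt) (comp n (comp n n)) :=
    hg.comp (hg.comp hg)
  have e : g ^ 3 = g * (g * g) := by rw [pow_succ', pow_two]
  rw [e]
  refine ⟨fun h => same_of_eq h3 (by rw [h]; exact isTbl_one), fun h => ?_⟩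
  exact Subtype.ext (Subtype.ext (same_sound h h3 isTbl_one))

/-- The elements with trivial cube. -/
def cubes : List ℕ := tbls.filter cube1

theorem cubes_ok : cubes.length = 9 ∧ ∀ a ∈ cubes, ∀ b ∈ cubes, cube1 (comp a b) = true := by decide +kernel

theorem H0_cube_mul (x y : ↥H0) (hx : x ^ 3 = 1) (hy : y ^ 3 = 1) : (x * y) ^ 3 = 1 := by
  obtain ⟨a, ha, hxa⟩ := listed_H0 x
  obtain ⟨b, hb, hyb⟩ := listed_H0 y
  have hxy : IsTbl (((x * y : ↥H0) : ↥Cfsg.M24) : Equiv.Perm Cfsg.GolayPt) (comp a b) := hxa.comp hyb
  exact (cube_iff hxy).2 (cubes_ok.2 a (List.mem_filter.2 ⟨ha, (cube_iff hxa).1 hx⟩)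
    b (List.mem_filter.2 ⟨hb, (cube_iff hyb).1 hy⟩))

theorem cubes_distinct : distinct cubes = true := by decide +kernel

theorem H0_cube_card : 9 ≤ {x : ↥H0 | x ^ 3 = 1}.ncard := by
  classical
  have hmem : ∀ n ∈ cubes, ∃ g : ↥H0, IsTbl ((g : ↥Cfsg.M24) : Equiv.Perm Cfsg.GolayPt) n := fun n hn =>
    exists_H0 (tbls_ok.2.2 n (List.mem_filter.1 hn).1)
  choose f hf using fun i : Fin 9 => hmem (cubes.getD i 0) (by
    rw [List.getD_eq_getElem _ _ (by rw [cubes_ok.1]; exact i.2)]; exact List.getElem_mem _)
  have hdiff : ∀ i j : Fin 9, same (cubes.getD i 0) (cubes.getD j 0) = true → i = j := by decide +kernel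
  have hfi : Function.Injective f := fun i j e => hdiff i j (same_of_eq (hf i) (e ▸ hf j))
  have hsub : Set.range f ⊆ {x : ↥H0 | x ^ 3 = 1} := by
    rintro _ ⟨i, rfl⟩
    refine (cube_iff (hf i)).2 ?_
    have hi : cubes.getD i 0 ∈ cubes := by
      rw [List.getD_eq_getElem _ _ (by rw [cubes_ok.1]; exact i.2)]; exact List.getElem_mem _
    exact (List.mem_filter.1 hi).2
  have := Set.ncard_le_ncard hsub (Set.toFinite _)
  rwa [Set.ncard_range_of_injective hfi, Nat.card_eq_fintype_card, Fintype.card_fin] at this

/-- The table of an element of the quaternion group. -/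
def qT : QuaternionGroup 2 → ℕ
  | .a i => qA.getD i.val 0
  | .xa i => qX.getD i.val 0

theorem qT_ok : (∀ g, fixOK (qT g) = true) ∧ (∀ g h, same (comp (qT g) (qT h)) (qT (g * h)) = true) ∧
    ∀ g, same (qT g) idT = true → g = 1 := by decide +kernel

theorem exists_quat : ∃ φ : QuaternionGroup 2 →* ↥H0, Function.Injective φ := by
  choose f hf using fun g => exists_H0 (qT_ok.1 g)
  let φ : QuaternionGroup 2 →* ↥H0 := MonoidHom.mk' f fun g h => by
    have hgh : IsTbl (((f g * f h : ↥H0) : ↥Cfsg.M24) : Equiv.Perm Cfsg.GolayPt) (comp (qT g) (qT h)) :=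
      (hf g).comp (hf h)
    exact (Subtype.ext (Subtype.ext (same_sound (qT_ok.2.1 g h) hgh (hf (g * h))))).symm
  refine ⟨φ, (injective_iff_map_eq_one φ).2 fun g hg => qT_ok.2.2 g (same_of_eq (hf g) ?_)⟩
  rw [show f g = 1 from hg]
  exact isTbl_one

/-- What is used about the group. -/
def Good (G : Type) [Group G] : Prop :=
  Nat.card G = 72 ∧ (∀ x y : G, x ^ 3 = 1 → y ^ 3 = 1 → (x * y) ^ 3 = 1) ∧
    9 ≤ {x : G | x ^ 3 = 1}.ncard ∧ ∃ φ : QuaternionGroup 2 →* G, Function.Injective φ

theorem good_of_equiv {G G' : Type} [Group G] [Group G'] (e : G ≃* G') (h : Good G) : Good G' := by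
  obtain ⟨hc, hm, h9, φ, hφ⟩ := h
  refine ⟨(Nat.card_congr e.toEquiv).symm.trans hc, fun x y hx hy => ?_, h9.trans (le_of_eq ?_),
    e.toMonoidHom.comp φ, e.injective.comp hφ⟩
  · have := congrArg e (hm (e.symm x) (e.symm y) (by rw [← map_pow, hx, map_one]) (by rw [← map_pow, hy, map_one]))
    simpa using this
  · rw [← Set.ncard_image_of_injective {x : G | x ^ 3 = 1} e.injective]
    congr 1
    ext y
    simp only [Set.mem_image, Set.mem_ofPred_eq]
    constructor
    · rintro ⟨x, hx, rfl⟩; rw [← map_pow, hx, map_one]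
    · intro hy; exact ⟨e.symm y, by rw [← map_pow, hy, map_one], e.apply_symm_apply y⟩

theorem good_sylow {G : Type} [Group G] (h : Good G) :
    (∀ Q : Sylow 3 G, (Q : Subgroup G).Normal ∧ Nat.card ↥Q = 9 ∧ ∀ x ∈ (Q : Subgroup G), x ^ 3 = 1) ∧
      ∀ P : Sylow 2 G, Nonempty (↥P ≃* QuaternionGroup 2) := by
  obtain ⟨hc, hm, h9, φ, hφ⟩ := h
  have : Finite G := Nat.finite_of_card_ne_zero (by rw [hc]; norm_num)
  have : Fact (Nat.Prime 3) := ⟨by norm_num⟩
  have : Fact (Nat.Prime 2) := ⟨by norm_num⟩
  have hf3 : Nat.factorization 72 3 = 2 := by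
    rw [show 72 = 8 * 3 ^ 2 by norm_num, Nat.factorization_mul (by norm_num) (by norm_num),
      Nat.Prime.factorization_pow (by norm_num)]
    simp [Nat.factorization_eq_zero_of_not_dvd (show ¬ 3 ∣ 8 by norm_num)]
  have hf2 : Nat.factorization 72 2 = 3 := by
    rw [show 72 = 9 * 2 ^ 3 by norm_num, Nat.factorization_mul (by norm_num) (by norm_num),
      Nat.Prime.factorization_pow (by norm_num)]
    simp [Nat.factorization_eq_zero_of_not_dvd (show ¬ 2 ∣ 9 by norm_num)]
  let K : Subgroup G :=
    { carrier := {x | x ^ 3 = 1}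
      one_mem' := one_pow _
      mul_mem' := fun hx hy => hm _ _ hx hy
      inv_mem' := fun {x} hx => by
        show x⁻¹ ^ 3 = 1
        rw [inv_pow, (hx : x ^ 3 = 1), inv_one] }
  have hK : IsPGroup 3 K := fun x => ⟨1, Subtype.ext (by rw [pow_one]; exact x.2)⟩
  have hKn : K.Normal := ⟨fun x hx g => by
    show (g * x * g⁻¹) ^ 3 = 1
    rw [conj_pow, (hx : x ^ 3 = 1), mul_one, mul_inv_cancel]⟩
  refine ⟨fun Q => ?_, fun P => ?_⟩
  · have hQ : Nat.card ↥Q = 9 := by
      show Nat.card ↥(Q : Subgroup G) = 9
      rw [Sylow.card_eq_multiplicity, hc, hf3]; rfl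
    obtain ⟨R, hR⟩ := hK.exists_le_sylow
    have hRK : (R : Subgroup G) = K := (Subgroup.eq_of_le_of_card_ge hR (by
      rw [show Nat.card ↥(R : Subgroup G) = 9 from (by rw [Sylow.card_eq_multiplicity, hc, hf3]; rfl)]
      rw [← SetLike.coe_sort_coe, Nat.card_coe_set_eq]
      exact h9)).symm
    obtain ⟨g, hg⟩ := MulAction.exists_smul_eq G R Q
    have hQK : (Q : Subgroup G) = K := by
      have hRn : (R : Subgroup G).Normal := hRK ▸ hKn
      rw [← hg, Sylow.smul_eq_of_normal]
      exact hRK
    exact ⟨hQK ▸ hKn, hQ, fun x hx => (hQK ▸ hx : x ∈ K)⟩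
  · have hP : Nat.card ↥(P : Subgroup G) = 8 := by rw [Sylow.card_eq_multiplicity, hc, hf2]; rfl
    have hq : Nat.card ↥φ.range = 8 := by
      rw [← Nat.card_congr (MonoidHom.ofInjective hφ).toEquiv, Nat.card_eq_fintype_card, QuaternionGroup.card]
    have hp : IsPGroup 2 φ.range := IsPGroup.of_card (n := 3) (by rw [hq]; norm_num)
    obtain ⟨R, hR⟩ := hp.exists_le_sylow
    have hRφ : φ.range = (R : Subgroup G) := Subgroup.eq_of_le_of_card_ge hR (by
      rw [hq, show Nat.card ↥(R : Subgroup G) = 8 from (by rw [Sylow.card_eq_multiplicity, hc, hf2]; rfl)])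
    obtain ⟨g, hg⟩ := MulAction.exists_smul_eq G P R
    refine ⟨((Sylow.equiv P R).trans (MulEquiv.subgroupCongr hRφ.symm)).trans (MonoidHom.ofInjective hφ).symm⟩

/-- In the group of the length-24 code, the subgroup fixing a dodecad setwise and three of its points individually (a group of order 72) has a normal Sylow 3-subgroup that is elementary abelian of order 9, and its Sylow 2-subgroups are quaternion of order 8. -/
theorem result (d : Finset Cfsg.GolayPt) (hd : d ∈ Cfsg.dodecads) (p q r : Cfsg.GolayPt) (hp : p ∈ d) (hq : q ∈ d) (hr : r ∈ d) (hpq : p ≠ q) (hpr : p ≠ r) (hqr : q ≠ r) : (∀ Q : Sylow 3 ↥(MulAction.stabilizer Cfsg.M24 d ⊓ MulAction.stabilizer Cfsg.M24 p ⊓ MulAction.stabilizer Cfsg.M24 q ⊓ MulAction.stabilizer Cfsg.M24 r), (Q : Subgroup ↥(MulAction.stabilizer Cfsg.M24 d ⊓ MulAction.stabilizer Cfsg.M24 p ⊓ MulAction.stabilizer Cfsg.M24 q ⊓ MulAction.stabilizer Cfsg.M24 r)).Normal ∧ Nat.card ↥Q = 9 ∧ ∀ x ∈ (Q : Subgroup ↥(MulAction.stabilizer Cfsg.M24 d ⊓ MulAction.stabilizer Cfsg.M24 p ⊓ MulAction.stabilizer Cfsg.M24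 q ⊓ MulAction.stabilizer Cfsg.M24 r)), x ^ 3 = 1) ∧ ∀ P : Sylow 2 ↥(MulAction.stabilizer Cfsg.M24 d ⊓ MulAction.stabilizer Cfsg.M24 p ⊓ MulAction.stabilizer Cfsg.M24 q ⊓ MulAction.stabilizer Cfsg.M24 r), Nonempty (↥P ≃* QuaternionGroup 2) := by
  obtain ⟨b23, b0, b12, -⟩ := base_facts
  obtain ⟨a, had, ha⟩ := to_base_one hd (k := 3) (by norm_num) ![p, q, r] ![CfsgLib.Sporadic.DodecadPointStabilizers.P, pt 0, pt 12]
    (fun i j e => by fin_cases i <;> fin_cases j <;> simp_all) (by decide +kernel)
    (fun i => by fin_cases i; exacts [hp, hq, hr])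
    (fun i => by
      fin_cases i
      exacts [P_mem, (pt_mem_D (by norm_num)).2 b0, (pt_mem_D (by norm_num)).2 b12])
  have e0 : a • p = CfsgLib.Sporadic.DodecadPointStabilizers.P := ha 0
  have e1 : a • q = pt 0 := ha 1
  have e2 : a • r = pt 12 := ha 2
  have hH : Good ↥H0 := ⟨card_H0, H0_cube_mul, H0_cube_card, exists_quat⟩
  have heq : ((MulAction.stabilizer Cfsg.M24 d ⊓ MulAction.stabilizer Cfsg.M24 p ⊓ MulAction.stabilizer Cfsg.M24 q ⊓
      MulAction.stabilizer Cfsg.M24 r).map (MulAut.conj a).toMonoidHom) = H0 := by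
    rw [Subgroup.map_inf _ _ _ (MulAut.conj a).injective, Subgroup.map_inf _ _ _ (MulAut.conj a).injective,
      Subgroup.map_inf _ _ _ (MulAut.conj a).injective, H0, ← (had : a • d = D), ← e0, ← e1, ← e2,
      MulAction.stabilizer_smul_eq_stabilizer_map_conj, MulAction.stabilizer_smul_eq_stabilizer_map_conj,
      MulAction.stabilizer_smul_eq_stabilizer_map_conj, MulAction.stabilizer_smul_eq_stabilizer_map_conj]
  exact good_sylow (good_of_equiv (((MulAut.conj a).subgroupMap _).trans (MulEquiv.subgroupCongr heq)).symm hH)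

end Cfsg.Agent.S5619
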