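import Cfsg.Agent.Lib.ThreeTransp.CodeLeaders
import Cfsg.Statements.S5623
-- import your own Cfsg.Agent.* helpers here

set_option autoImplicit false
open Cfsg

namespace Cfsg.Agent.S5623
open CfsgLib.ThreeTransp.CodeLeaders CfsgLib.SmallGroups.CodeUnique CfsgLib.SmallGroups.SteinerCode

/-- Let C be a self-dual binary code of length 24 with minimum weight at least 8 (a 12-dimensional subspace of the 24-dimensional space over the field with two elements, any two of whose words have dot product zero, with no non-zero word of weight below 8 — an abstract extended binary Golay code). Then every coset w + C of C in the ambient space contains either exactly one word of weight at most 4, which then has weight at most 3, or exactly six words of weight at most 4, all of weight exactly 4 and with pairwise disjoint supports (a sextet). -/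
theorem result (C : Submodule (ZMod 2) (Fin 24 → ZMod 2)) (hdim : Module.finrank (ZMod 2) C = 12) (horth : ∀ v ∈ C, ∀ w ∈ C, ∑ i, v i * w i = 0) (hmin : ∀ w ∈ C, w ≠ 0 → 8 ≤ hammingNorm w) (w : Fin 24 → ZMod 2) : (∃ u : Fin 24 → ZMod 2, {u : Fin 24 → ZMod 2 | u - w ∈ C ∧ hammingNorm u ≤ 4} = {u} ∧ hammingNorm u ≤ 3) ∨ ({u : Fin 24 → ZMod 2 | u - w ∈ C ∧ hammingNorm u ≤ 4}.ncard = 6 ∧ ∀ u ∈ {u : Fin 24 → ZMod 2 | u - w ∈ C ∧ hammingNorm u ≤ 4}, hammingNorm u = 4 ∧ ∀ u' ∈ {u : Fin 24 → ZMod 2 | u - w ∈ C ∧ hammingNorm u ≤ 4}, u ≠ u' → Disjoint (Finset.univ.filter fun i => u i ≠ 0) (Finset.univ.filter fun i => u' i ≠ 0)) := by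
  classical
  have h : IsBig C := ⟨hdim, hmin⟩
  have key : ∀ u : Fin 24 → ZMod 2, u - w ∈ C ↔ cls C (supp u) = Submodule.Quotient.mk w := fun u => by
    rw [cls, ind_supp, Submodule.Quotient.eq]
  rcases h.dichotomy (Submodule.Quotient.mk w) with ⟨T, hT, e⟩ | h6
  · refine Or.inl ⟨ind T, Set.eq_singleton_iff_unique_mem.2 ⟨⟨(key _).2 (by rwa [supp_ind]), ?_⟩, ?_⟩, ?_⟩
    · rw [hammingNorm_eq, supp_ind]; omega
    · rintro u ⟨hu, hun⟩
      rw [hammingNorm_eq] at hun
      by_contra hne
      have := (h.four_four (e.trans ((key u).1 hu).symm) (fun h0 => hne (by rw [h0, ind_supp]))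
        (by omega) hun).1
      omega
    · rw [hammingNorm_eq, supp_ind]; omega
  · have hset : {u : Fin 24 → ZMod 2 | u - w ∈ C ∧ hammingNorm u ≤ 4} =
        ↑((quads C (Submodule.Quotient.mk w)).image ind) := by
      ext u
      simp only [Set.mem_ofPred_eq, Finset.coe_image, Set.mem_image, Finset.mem_coe, mem_quads]
      constructor
      · rintro ⟨hu, hun⟩
        refine ⟨supp u, ⟨?_, (key u).1 hu⟩, ind_supp u⟩
        rw [hammingNorm_eq] at hun
        obtain ⟨T, hTq, -⟩ := h.quads_cover h6 0
        rw [mem_quads] at hTq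
        by_cases he : supp u = T
        · rw [he, hTq.1]
        · exact (h.four_four (((key u).1 hu).trans hTq.2.symm) he hun hTq.1.le).1
      · rintro ⟨T, ⟨hT4, hTc⟩, rfl⟩
        exact ⟨(key _).2 (by rwa [supp_ind]), by rw [hammingNorm_eq, supp_ind]; omega⟩
    refine Or.inr ⟨?_, ?_⟩
    · rw [hset, Set.ncard_coe_finset, Finset.card_image_of_injective _ (fun a b e => ind_inj e), h6]
    · rw [hset]
      intro u hu
      rw [Finset.mem_coe, Finset.mem_image] at hu
      obtain ⟨T, hT, rfl⟩ := hu
      rw [mem_quads] at hT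
      refine ⟨by rw [hammingNorm_eq, supp_ind, hT.1], fun u' hu' hne => ?_⟩
      rw [Finset.mem_coe, Finset.mem_image] at hu'
      obtain ⟨T', hT', rfl⟩ := hu'
      rw [mem_quads] at hT'
      change Disjoint (supp (ind T)) (supp (ind T'))
      rw [supp_ind, supp_ind]
      exact (h.four_four (hT.2.trans hT'.2.symm) (fun h0 => hne (by rw [h0])) hT.1.le hT'.1.le).2.2

end Cfsg.Agent.S5623
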