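import Cfsg.Agent.Lib.SmallGroups.Steiner
import Cfsg.Statements.S5625
-- import your own Cfsg.Agent.* helpers here

set_option autoImplicit false
open Cfsg

namespace Cfsg.Agent.S5625
open CfsgLib.SmallGroups.Steiner

/-- In any Steiner system S(5, 8, 24) and for any set Y of three points, the blocks meeting Y in exactly 3, 2, 1 and 0 points number 21, 168, 360 and 210 respectively (so there are 759 blocks in all). -/
theorem result (α : Type*) [Fintype α] [DecidableEq α] (hα : Fintype.card α = 24) (B : Set (Finset α)) (hB : Cfsg.IsSteinerSystem 5 8 B) (Y : Finset α) (hY : Y.card = 3) : {b : Finset α | b ∈ B ∧ (b ∩ Y).card = 3}.ncard = 21 ∧ {b : Finset α | b ∈ B ∧ (b ∩ Y).card = 2}.ncard = 168 ∧ {b : Finset α | b ∈ B ∧ (b ∩ Y).card = 1}.ncard = 360 ∧ {b : Finset α | b ∈ B ∧ (b ∩ Y).card = 0}.ncard = 210 := by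
  classical
  have hf : ∀ n, ∀ s ⊆ Y, 3 - s.card = n →
      ((blocks B).filter fun c => c ∩ Y = s).card = [210, 120, 56, 21].getD s.card 0 := by
    intro n
    induction n using Nat.strong_induction_on with
    | _ n ih =>
      intro s hs hn
      have h3 : s.card ≤ 3 := hY ▸ Finset.card_le_card hs
      have hl : ∀ i ≤ 3, lam24 i * (8 - i).choose (5 - i) = (24 - i).choose (5 - i) := by decide
      have h0 := count_eq hB (by norm_num) hα rfl (by omega) (hl _ h3)
      rw [powerset_fiber Y s hs, ← Finset.sum_erase_add _ _ (Finset.empty_mem_powerset (Y \ s))] at h0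
      have e : ∀ V ∈ (Y \ s).powerset.erase ∅, ((blocks B).filter fun c => c ∩ Y = s ∪ V).card =
          [210, 120, 56, 21].getD (s.card + V.card) 0 := by
        intro V hV
        rw [Finset.mem_erase, Finset.mem_powerset, Finset.subset_sdiff] at hV
        have hne : 0 < V.card := Finset.card_pos.mpr (Finset.nonempty_of_ne_empty hV.1)
        have hc : (s ∪ V).card = s.card + V.card := Finset.card_union_of_disjoint hV.2.2.symm
        have := Finset.card_le_card (Finset.union_subset hs hV.2.1)
        rw [← hc]
        exact ih _ (by omega) _ (Finset.union_subset hs hV.2.1) rfl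
      rw [Finset.sum_congr rfl e] at h0
      have hs' := Finset.sum_erase_add _ (fun V => [210, 120, 56, 21].getD (s.card + V.card) 0)
        (Finset.empty_mem_powerset (Y \ s))
      rw [Finset.sum_powerset_apply_card (fun m => [210, 120, 56, 21].getD (s.card + m) 0),
        Finset.card_sdiff_of_subset hs, hY] at hs'
      have hg : ∀ i ≤ 3, lam24 i = ∑ m ∈ Finset.range (3 - i + 1),
          (3 - i).choose m • [210, 120, 56, 21].getD (i + m) 0 := by decide
      rw [← hg _ h3] at hs'
      simp only [Finset.union_empty, Finset.card_empty, add_zero] at h0 hs'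
      omega
  have key : ∀ i, {b : Finset α | b ∈ B ∧ (b ∩ Y).card = i}.ncard =
      (Nat.choose 3 i) * [210, 120, 56, 21].getD i 0 := by
    intro i
    rw [ncard_sep (fun b => (b ∩ Y).card = i),
      Finset.card_eq_sum_card_fiberwise (f := (· ∩ Y)) (t := Y.powersetCard i)]
    · rw [← hY, ← Finset.card_powersetCard, ← smul_eq_mul, ← Finset.sum_const]
      refine Finset.sum_congr rfl fun T hT => ?_
      rw [Finset.mem_powersetCard] at hT
      rw [← hT.2, ← hf _ T hT.1 rfl, Finset.filter_filter]
      refine congrArg Finset.card (Finset.filter_congr fun c _ => ⟨fun h => h.2, fun h => ⟨?_, h⟩⟩)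
      rw [h]
    · intro c hc
      simp only [Finset.mem_coe, Finset.mem_powersetCard, Finset.mem_filter] at hc ⊢
      exact ⟨Finset.inter_subset_right, hc.2⟩
  exact ⟨(key 3).trans rfl, (key 2).trans rfl, (key 1).trans rfl, (key 0).trans rfl⟩

end Cfsg.Agent.S5625
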