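import Cfsg.Statements.S5632
import Cfsg.Agent.Lib.Classical.ParabolicGL

set_option autoImplicit false
open Cfsg

namespace Cfsg.Agent.S5632

/-- For a finite field F and subspaces 0 < W < U of F^n with dim W + dim U = n, the elements of SL_n(F) stabilising both W and U form a subgroup that is not maximal in SL_n(F): some subgroup lies strictly between it and SL_n(F). -/
theorem result {F : Type*} [Field F] [Fintype F] (n : ℕ) (W U : Submodule F (Fin n → F)) (hW0 : W ≠ ⊥) (hWU : W < U) (hdim : Module.finrank F W + Module.finrank F U = n) : ∃ K : Subgroup (Matrix.GeneralLinearGroup (Fin n) F), Cfsg.Geo.subspaceStabilizer W ⊓ Cfsg.Geo.subspaceStabilizer U ⊓ Cfsg.Geo.specialLinear (Fin n) F < K ∧ K < Cfsg.Geo.specialLinear (Fin n) F := by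
  have hU : U ≠ ⊤ := by
    rintro rfl
    rw [finrank_top, Module.finrank_fin_fun] at hdim
    exact hW0 (Submodule.finrank_eq_zero.1 (by omega))
  have hW1 : W ≠ ⊤ := ne_top_of_lt hWU
  refine ⟨Cfsg.Geo.subspaceStabilizer W ⊓ Cfsg.Geo.specialLinear (Fin n) F, ?_,
    (CfsgLib.Classical.stab_sl_isMaximalIn hW0 hW1).1⟩
  refine lt_of_le_not_ge (le_inf (inf_le_left.trans inf_le_left) inf_le_right) fun h => ?_
  obtain ⟨u, hu, huW⟩ := SetLike.exists_of_lt hWU
  obtain ⟨v, -, hv⟩ := SetLike.exists_of_lt hU.lt_top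
  have hux : u ∉ W ⊔ Submodule.span F {v} := by
    intro hc
    obtain ⟨w, hw, z, hz, hwz⟩ := Submodule.mem_sup.1 hc
    obtain ⟨c, rfl⟩ := Submodule.mem_span_singleton.1 hz
    rcases eq_or_ne c 0 with rfl | hc0
    · exact huW (by rw [← hwz]; simpa using hw)
    · refine hv ?_
      have : c • v ∈ U := by
        rw [show c • v = u - w from eq_sub_of_add_eq' hwz]
        exact U.sub_mem hu (hWU.le hw)
      simpa [smul_smul, hc0] using U.smul_mem c⁻¹ this
  obtain ⟨f, hf1, hf0⟩ := CfsgLib.Classical.exists_dual_vec hux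
  have hfv := hf0 v (Submodule.mem_sup_right (Submodule.mem_span_singleton_self v))
  have hm := (h ⟨CfsgLib.Classical.trGL_mem_stab (W := W) v f hfv (Or.inr fun w hw => hf0 w (Submodule.mem_sup_left hw)),
    CfsgLib.Classical.trGL_mem_sl v f hfv⟩).1.2
  have := CfsgLib.Classical.mem_subspaceStabilizer_iff.1 hm u hu
  rw [CfsgLib.Classical.trGL_mulVec, hf1, one_smul] at this
  exact hv (by simpa using U.sub_mem this hu)

end Cfsg.Agent.S5632
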