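import Cfsg.Statements.S5633
import Cfsg.Agent.Lib.Classical.ParabolicGL

set_option autoImplicit false
open Cfsg

namespace Cfsg.Agent.S5633

/-- For a finite field F and complementary non-zero subspaces W ⊕ U = F^n with dim W < dim U, the elements of SL_n(F) stabilising both W and U form a subgroup that is not maximal in SL_n(F): some subgroup lies strictly between it and SL_n(F). -/
theorem result {F : Type*} [Field F] [Fintype F] (n : ℕ) (W U : Submodule F (Fin n → F)) (hW0 : W ≠ ⊥) (hWU : W ⊓ U = ⊥) (hWU' : W ⊔ U = ⊤) (hdim : Module.finrank F W < Module.finrank F U) : ∃ K : Subgroup (Matrix.GeneralLinearGroup (Fin n) F), Cfsg.Geo.subspaceStabilizer W ⊓ Cfsg.Geo.subspaceStabilizer U ⊓ Cfsg.Geo.specialLinear (Fin n) F < K ∧ K < Cfsg.Geo.specialLinear (Fin n) F := by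
  have hW1 : W ≠ ⊤ := by
    rintro rfl
    rw [top_inf_eq] at hWU
    subst hWU
    simp at hdim
  refine ⟨Cfsg.Geo.subspaceStabilizer W ⊓ Cfsg.Geo.specialLinear (Fin n) F, ?_,
    (CfsgLib.Classical.stab_sl_isMaximalIn hW0 hW1).1⟩
  refine lt_of_le_not_ge (le_inf (inf_le_left.trans inf_le_left) inf_le_right) fun h => ?_
  obtain ⟨w, hw, hw0⟩ := (Submodule.ne_bot_iff W).1 hW0
  obtain ⟨u, hu, hu0⟩ : ∃ u ∈ U, u ≠ 0 := by
    refine (Submodule.ne_bot_iff U).1 ?_
    rintro rfl
    simp at hdim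
  have hwU : w ∉ U := fun hc => hw0 ((Submodule.eq_bot_iff _).1 hWU w ⟨hw, hc⟩)
  have huw : u ∉ Submodule.span F {w} := fun hc => by
    have : u ∈ W := (Submodule.span_singleton_le_iff_mem w W).2 hw hc
    exact hu0 ((Submodule.eq_bot_iff _).1 hWU u ⟨this, hu⟩)
  obtain ⟨f, hf1, hf0⟩ := CfsgLib.Classical.exists_dual_vec huw
  have hfw := hf0 w (Submodule.mem_span_singleton_self w)
  have hm := (h ⟨CfsgLib.Classical.trGL_mem_stab (W := W) w f hfw (Or.inl hw),
    CfsgLib.Classical.trGL_mem_sl w f hfw⟩).1.2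
  have := CfsgLib.Classical.mem_subspaceStabilizer_iff.1 hm u hu
  rw [CfsgLib.Classical.trGL_mulVec, hf1, one_smul] at this
  exact hwU (by simpa using U.sub_mem this hu)

end Cfsg.Agent.S5633
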