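import Cfsg.Statements.S5635
import Cfsg.Agent.Lib.Classical.DecompNonMax
import Cfsg.Agent.Lib.Classical.HermField

set_option autoImplicit false
open Cfsg

namespace Cfsg.Agent.S5635

/-- For a finite field F with q elements and n ≥ 13, let D be a decomposition of F^n into t ≥ 2 independent subspaces of equal dimension m spanning F^n, where m = 1 and q ≤ 4, or m = 2 and q = 2. Then the elements of SL_n(F) permuting the members of D form a subgroup that is not maximal: some subgroup lies strictly between it and SL_n(F). -/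
theorem result {F : Type*} [Field F] [Fintype F] (n : ℕ) (hn : 13 ≤ n) {t : ℕ} (m : ℕ) (D : Fin t → Submodule F (Fin n → F)) (hD : Cfsg.Geo.IsMDecomposition m D) (h : (m = 1 ∧ Fintype.card F ≤ 4) ∨ (m = 2 ∧ Fintype.card F = 2)) : ∃ K : Subgroup (Matrix.GeneralLinearGroup (Fin n) F), Cfsg.Geo.decompositionStabilizer D ⊓ Cfsg.Geo.specialLinear (Fin n) F < K ∧ K < Cfsg.Geo.specialLinear (Fin n) F := by
  classical
  obtain ⟨E, hE1, hE2⟩ := CfsgLib.Classical.DecompNonMax.exists_adapted hD
  have hdim : n = t * m := by
    have := E.finrank_eq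
    simpa [Module.finrank_fintype_fun_eq_card] using this
  have ht : 2 ≤ t := hD.two_le
  rcases h with ⟨rfl, hq⟩ | ⟨rfl, hq⟩
  · have hq2 : 2 ≤ Fintype.card F := Fintype.one_lt_card
    have ht8 : 13 ≤ t := by omega
    let c : Fin 8 → Fin t × Fin 1 := fun i => (⟨i, by omega⟩, 0)
    have hci : ∀ i j, c i = c j ↔ i = j := fun i j => by simp [c, Prod.ext_iff, Fin.ext_iff]
    have hblock : ∀ (x : Fin t × Fin 1 → F) i, ((fun a => x (i, a)) = 0) ↔ x (i, 0) = 0 := fun x i =>
      ⟨fun h => congrFun h 0, fun h => funext fun a => by rw [Subsingleton.elim a 0]; exact h⟩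
    by_cases hq3 : Fintype.card F = 2
    · have h01 : ∀ a : F, a = 0 ∨ a = 1 := by
        intro a
        by_contra hc
        push Not at hc
        have h3 : Finset.card ({0, 1, a} : Finset F) = 3 :=
          Finset.card_eq_three.2 ⟨0, 1, a, zero_ne_one, fun e => hc.1 e.symm, fun e => hc.2 e.symm, rfl⟩
        have := Finset.card_le_univ ({0, 1, a} : Finset F)
        omega
      have h2 : (1 : F) + 1 = 0 := (h01 (1 + 1)).resolve_right fun e => one_ne_zero (α := F) (by linear_combination e)
      let φ : (Fin t × Fin 1 → F) →ₗ[F] F := LinearMap.proj (c 2)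
      let v : Fin t × Fin 1 → F := Pi.single (c 0) 1 + Pi.single (c 1) 1
      have hφv : φ v = 0 := by simp [φ, v, hci]
      refine CfsgLib.Classical.DecompNonMax.not_maximal hD E hE1 hE2 one_pos ht
        (f := LinearMap.transvection φ v) (by rw [LinearMap.transvection.det, hφv, add_zero]) (fun x => ?_)
        (p := c 2) (j := (c 0).1) (j' := (c 1).1) (a := 0) (a' := 0) (by simp [c, Fin.ext_iff]) ?_ ?_
      · have hs : ∀ y : Fin t × Fin 1 → F, (∑ i, if (fun a => y (i, a)) = 0 then (0 : F) else 1) = ∑ p, y p := by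
          intro y
          rw [Fintype.sum_prod_type]
          refine Finset.sum_congr rfl fun i _ => ?_
          rw [Fin.sum_univ_one]
          simp only [hblock]
          rcases h01 (y (i, 0)) with e | e <;> simp [e]
        rw [hs, hs]
        simp only [LinearMap.transvection.apply, Pi.add_apply, Pi.smul_apply, smul_eq_mul, Finset.sum_add_distrib,
          ← Finset.mul_sum, v]
        simp [h2]
      · show LinearMap.transvection φ v (Pi.single (c 2) 1) (c 0) ≠ 0
        simp [LinearMap.transvection.apply, φ, v, hci]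
      · show LinearMap.transvection φ v (Pi.single (c 2) 1) (c 1) ≠ 0
        simp [LinearMap.transvection.apply, φ, v, hci]
    -- three or four elements: an hermitian or quadratic form
    obtain ⟨σ, hσσ, hσn⟩ : ∃ σ : F →+* F, (∀ a, σ (σ a) = a) ∧ ∀ a : F, a ≠ 0 → σ a * a = 1 := by
      rcases (show Fintype.card F = 3 ∨ Fintype.card F = 4 by omega) with hc | hc
      · exact ⟨RingHom.id F, fun a => rfl, fun a ha => by
          have := FiniteField.pow_card_sub_one_eq_one a ha
          rw [hc] at this
          simpa [pow_two] using this⟩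
      · obtain ⟨σ, hσ, hcj⟩ := CfsgLib.Classical.exists_frob (F := F) (q := 2) (by rw [hc]; norm_num)
        exact ⟨σ, hcj.invol, fun a ha => by
          have := FiniteField.pow_card_sub_one_eq_one a ha
          rw [hc] at this
          rw [hσ, ← pow_succ]
          exact this⟩
    let f := fun x y : Fin t × Fin 1 → F => ∑ p, σ (x p) * y p
    have hsym : ∀ x y, σ (f x y) = f y x := fun x y => by simp [f, map_sum, hσσ, mul_comm]
    let s : Finset (Fin 8) := Finset.univ.erase 7
    let v : Fin t × Fin 1 → F := ∑ i ∈ s, Pi.single (c i) 1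
    let w : Fin t × Fin 1 → F := Pi.single (c 7) 1
    let L : (Fin t × Fin 1 → F) → (Fin t × Fin 1 → F) →ₗ[F] F := fun z => ∑ p, σ (z p) • LinearMap.proj p
    have hL : ∀ z x, L z x = f z x := fun z x => by simp [L, f]
    have hv : ∀ i, v (c i) = if i = 7 then 0 else 1 := fun i => by
      rcases eq_or_ne i 7 with rfl | h <;> simp [v, s, Finset.sum_apply, Pi.single_apply, hci, *]
    have hone : f v v = 1 ∧ f w w = 1 ∧ f v w = 0 := by
      have hw : f w w = 1 := by simp [f, w, Pi.single_apply]
      have hvw : f v w = 0 := by simp [f, w, Pi.single_apply, hv]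
      refine ⟨?_, hw, hvw⟩
      have h0 : ∀ p, (∀ i, p ≠ c i) → v p = 0 := fun p hp => by simp [v, Finset.sum_apply, Pi.single_apply, hp]
      show ∑ p, σ (v p) * v p = 1
      rw [← Fintype.sum_of_injective c (fun i j e => (hci i j).1 e) (fun i => σ (v (c i)) * v (c i))
        (fun p => σ (v p) * v p) (fun p hp => by
          rw [h0 p fun i e => hp ⟨i, e.symm⟩]; simp) (fun i => rfl)]
      simp only [hv]
      have h7 : (7 : F) = 1 := by
        rcases (show Fintype.card F = 3 ∨ Fintype.card F = 4 by omega) with hc | hc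
        · have h3 : ((3 : ℕ) : F) = 0 := by rw [← hc]; exact Nat.cast_card_eq_zero F
          push_cast at h3
          linear_combination (2 : F) * h3
        · have h4 : ((4 : ℕ) : F) = 0 := by rw [← hc]; exact Nat.cast_card_eq_zero F
          push_cast at h4
          have h2 : (2 : F) = 0 := mul_self_eq_zero.1 (by linear_combination h4)
          linear_combination (3 : F) * h2
      simp [Fin.sum_univ_succ, Fin.ext_iff]
      linear_combination h7
    obtain ⟨ζ, hζ0, hζ1⟩ : ∃ ζ : F, ζ ≠ 0 ∧ ζ ≠ 1 := by
      by_contra! hc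
      have : (Finset.univ : Finset F) ⊆ {0, 1} := fun a _ => by
        rcases eq_or_ne a 0 with rfl | ha
        · simp
        · simp [hc a ha]
      have := (Finset.card_le_card this).trans Finset.card_le_two
      rw [Finset.card_univ] at this
      omega
    let r := fun (z : F) (u : Fin t × Fin 1 → F) => LinearMap.transvection ((z - 1) • L u) u
    have hr : ∀ z u x, f u u = 1 → z ≠ 0 → f (r z u x) (r z u x) = f x x := by
      intro z u x hu hz
      have e : r z u x = x + ((z - 1) * f u x) • u := by simp [r, LinearMap.transvection.apply, hL]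
      rw [e]
      have hexp : ∀ a : F, f (x + a • u) (x + a • u) = f x x + a * f x u + σ a * f u x + σ a * a * f u u := fun a => by
        simp only [f, Pi.add_apply, Pi.smul_apply, smul_eq_mul, map_add, map_mul, Finset.mul_sum,
          ← Finset.sum_add_distrib]
        exact Finset.sum_congr rfl fun p _ => by ring
      rw [hexp, hu, map_mul, hsym, map_sub, map_one]
      linear_combination (f x u * f u x) * hσn z hz
    obtain ⟨hvv, hww, hvw⟩ := hone
    refine CfsgLib.Classical.DecompNonMax.not_maximal hD E hE1 hE2 one_pos ht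
      (f := r ζ v ∘ₗ r ζ⁻¹ w) ?_ (fun x => ?_)
      (p := c 0) (j := (c 1).1) (j' := (c 2).1) (a := 0) (a' := 0) (by simp [c, Fin.ext_iff]) ?_ ?_
    · simp only [r, LinearMap.det_comp, LinearMap.transvection.det, LinearMap.smul_apply, hL, hvv, hww, smul_eq_mul]
      field_simp
      ring
    · have hs : ∀ y : Fin t × Fin 1 → F, (∑ i, if (fun a => y (i, a)) = 0 then (0 : F) else 1) = f y y := by
        intro y
        simp only [f, Fintype.sum_prod_type, Fin.sum_univ_one, hblock]
        refine Finset.sum_congr rfl fun i _ => ?_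
        by_cases e : y (i, 0) = 0
        · simp [e]
        · rw [if_neg e, hσn _ e]
      rw [hs, hs, LinearMap.comp_apply, hr _ _ _ hvv hζ0, hr _ _ _ hww (inv_ne_zero hζ0)]
    all_goals
      have hfix : r ζ⁻¹ w (Pi.single (c 0) 1) = Pi.single (c 0) 1 := by
        simp [r, LinearMap.transvection.apply, hL, f, w, Pi.single_apply, hci]
      rw [LinearMap.comp_apply, hfix]
    · show r ζ v (Pi.single (c 0) 1) (c 1) ≠ 0
      simpa [r, LinearMap.transvection.apply, hL, f, hv, Pi.single_apply, hci, Finset.sum_apply, sub_eq_zero] using hζ1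
    · show r ζ v (Pi.single (c 0) 1) (c 2) ≠ 0
      simpa [r, LinearMap.transvection.apply, hL, f, hv, Pi.single_apply, hci, Finset.sum_apply, sub_eq_zero] using hζ1
  · have ht3 : 3 ≤ t := by omega
    have h01 : ∀ a : F, a = 0 ∨ a = 1 := by
      intro a
      by_contra hc
      push Not at hc
      have h3 : Finset.card ({0, 1, a} : Finset F) = 3 :=
        Finset.card_eq_three.2 ⟨0, 1, a, zero_ne_one, fun e => hc.1 e.symm, fun e => hc.2 e.symm, rfl⟩
      have := Finset.card_le_univ ({0, 1, a} : Finset F)
      omega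
    have h2 : (2 : F) = 0 := (h01 2).resolve_right fun e => one_ne_zero (α := F) (by linear_combination e)
    let c : Fin 3 → Fin t := fun i => ⟨i, by omega⟩
    have hc : ∀ i j, c i = c j ↔ i = j := fun i j => by simp [c, Fin.ext_iff]
    let φ : (Fin t × Fin 2 → F) →ₗ[F] F := ∑ i, LinearMap.proj (c i, (1 : Fin 2))
    let v : Fin t × Fin 2 → F := ∑ i, Pi.single (c i, (0 : Fin 2)) 1
    have hφv : φ v = 0 := by simp [φ, v, Finset.sum_apply]
    have hblock : ∀ (x : Fin t × Fin 2 → F) i, (if (fun a => x (i, a)) = 0 then (0 : F) else 1) =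
        x (i, 0) * x (i, 0) + x (i, 0) * x (i, 1) + x (i, 1) * x (i, 1) := by
      intro x i
      have hiff : ((fun a => x (i, a)) = 0) ↔ x (i, 0) = 0 ∧ x (i, 1) = 0 :=
        ⟨fun h => ⟨congrFun h 0, congrFun h 1⟩, fun h => funext (Fin.forall_fin_two.2 h)⟩
      rcases h01 (x (i, 0)) with e | e <;> rcases h01 (x (i, 1)) with e' | e' <;> simp [hiff, e, e']
      linear_combination h2
    refine CfsgLib.Classical.DecompNonMax.not_maximal hD E hE1 hE2 two_pos ht
      (f := LinearMap.transvection φ v) (by rw [LinearMap.transvection.det, hφv, add_zero]) (fun x => ?_)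
      (p := (c 0, 1)) (j := c 1) (j' := c 2) (a := 0) (a' := 0) (by simp [c, Fin.ext_iff]) ?_ ?_
    · rw [Finset.sum_congr rfl fun i _ => hblock (LinearMap.transvection φ v x) i, Finset.sum_congr rfl fun i _ => hblock x i]
      simp only [LinearMap.transvection.apply, Pi.add_apply, Pi.smul_apply, smul_eq_mul]
      have hv1 : ∀ i, v (i, 1) = 0 := fun i => by simp [v, Finset.sum_apply]
      have hs0 : ∀ g : Fin t → F, ∑ i, g i * v (i, 0) = g (c 0) + g (c 1) + g (c 2) := fun g => by
        simp [v, Finset.sum_apply, Pi.single_apply, Prod.ext_iff, Finset.mul_sum, Fin.sum_univ_three, mul_add,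
          Finset.sum_add_distrib]
      have hvv : ∀ i, v (i, 0) * v (i, 0) = v (i, 0) := fun i => by rcases h01 (v (i, 0)) with e | e <;> simp [e]
      have hφ : φ x = x (c 0, 1) + x (c 1, 1) + x (c 2, 1) := by simp [φ, Fin.sum_univ_three]
      have key : ∀ i, (x (i, 0) + φ x * v (i, 0)) * (x (i, 0) + φ x * v (i, 0)) +
          (x (i, 0) + φ x * v (i, 0)) * (x (i, 1) + φ x * v (i, 1)) +
          (x (i, 1) + φ x * v (i, 1)) * (x (i, 1) + φ x * v (i, 1)) =
          (x (i, 0) * x (i, 0) + x (i, 0) * x (i, 1) + x (i, 1) * x (i, 1)) +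
            (φ x * x (i, 1) + φ x * φ x) * v (i, 0) := fun i => by
        rw [hv1]
        linear_combination (φ x * φ x) * hvv i + (φ x * x (i, 0) * v (i, 0)) * h2
      rw [Finset.sum_congr rfl fun i _ => key i, Finset.sum_add_distrib, hs0]
      rw [hφ]
      linear_combination (2 * (x (c 0, 1) + x (c 1, 1) + x (c 2, 1)) ^ 2) * h2
    · show LinearMap.transvection φ v (Pi.single (c 0, 1) 1) (c 1, 0) ≠ 0
      simp [LinearMap.transvection.apply, φ, v, hc, Finset.sum_apply, Pi.single_apply, Prod.ext_iff]
    · show LinearMap.transvection φ v (Pi.single (c 0, 1) 1) (c 2, 0) ≠ 0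
      simp [LinearMap.transvection.apply, φ, v, hc, Finset.sum_apply, Pi.single_apply, Prod.ext_iff]

end Cfsg.Agent.S5635
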