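import Cfsg.Statements.S5638
import Mathlib
import Cfsg.Prelude.Def_GeometricClasses

set_option autoImplicit false
open Cfsg
open scoped Kronecker MatrixGroups

namespace Cfsg.Agent.S5638

/-- Over the field with 2 elements, for n = 2 n₂ ≥ 13, the stabiliser in SL_n of a tensor decomposition with factors of dimensions 2 and n₂ (the conjugate by any P of the Kronecker-product subgroup transported along any bijection Fin n ≃ Fin 2 × Fin n₂, intersected with SL_n) is not a maximal subgroup: some subgroup lies strictly between it and SL_n. -/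
theorem result {F : Type*} [Field F] [Fintype F] (n : ℕ) (hn : 13 ≤ n) (hq : Fintype.card F = 2) (n₂ : ℕ) (e : Fin n ≃ Fin 2 × Fin n₂) (P : Matrix.GeneralLinearGroup (Fin n) F) : ∃ K : Subgroup (Matrix.GeneralLinearGroup (Fin n) F), Cfsg.Geo.tensorProductSubgroup 2 n₂ e P ⊓ Cfsg.Geo.specialLinear (Fin n) F < K ∧ K < Cfsg.Geo.specialLinear (Fin n) F := by
  classical
  have hn2 : n = 2 * n₂ := by simpa using Fintype.card_congr e
  let i₀ : Fin n₂ := ⟨0, by omega⟩
  let i₁ : Fin n₂ := ⟨1, by omega⟩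
  have hne : i₀ ≠ i₁ := by simp [i₀, i₁, Fin.ext_iff]
  have hF : ∀ x : F, x = 0 ∨ x = 1 := by
    intro x
    have h : ({0, 1} : Finset F) = Finset.univ := Finset.eq_univ_of_card _ (by simp [hq])
    have := h.ge (Finset.mem_univ x)
    simpa using this
  have h11 : (1 : F) + 1 = 0 := by
    rcases hF (1 + 1) with h | h
    · exact h
    · exact absurd (add_eq_left.mp h) one_ne_zero
  have htop : Cfsg.Geo.specialLinear (Fin n) F = ⊤ := by
    refine eq_top_iff.mpr fun g _ => ?_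
    show Matrix.GeneralLinearGroup.det g = 1
    refine Units.ext ((hF _).resolve_left (Units.ne_zero _))
  let φ : GL (Fin 2 × Fin n₂) F ≃* GL (Fin n) F :=
    (Cfsg.Geo.glReindex e.symm).trans (MulAut.conj P)
  have hT : Cfsg.Geo.tensorProductSubgroup 2 n₂ e P =
      (Cfsg.Geo.kroneckerSubgroup 2 n₂ F).map φ.toMonoidHom := by
    rw [Cfsg.Geo.tensorProductSubgroup, Subgroup.map_map]
    rfl
  let τ : Matrix (Fin 2) (Fin 2) F := !![0, 1; 1, 1]
  let J : Matrix (Fin 2 × Fin n₂) (Fin 2 × Fin n₂) F := τ ⊗ₖ (1 : Matrix (Fin n₂) (Fin n₂) F)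
  have hdouble : ∀ M : Matrix (Fin 2 × Fin n₂) (Fin 2 × Fin n₂) F, M + M = 0 := fun M => by
    ext a b
    rw [Matrix.add_apply, Matrix.zero_apply, ← one_mul (M a b), ← add_mul, h11, zero_mul]
  have hJJ : ∀ M : Matrix (Fin 2 × Fin n₂) (Fin 2 × Fin n₂) F, (J + 1) * M + M = J * M := fun M => by
    rw [add_mul, one_mul, add_assoc, hdouble, add_zero]
  let K' : Subgroup (GL (Fin 2 × Fin n₂) F) :=
    { carrier := {g | g.val * J = J * g.val ∨ g.val * J = (J + 1) * g.val}
      one_mem' := Or.inl (by simp)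
      mul_mem' := by
        intro g h hg hh
        simp only [Set.mem_ofPred_eq, Units.val_mul] at hg hh ⊢
        rcases hh with hh | hh
        · rw [mul_assoc, hh, ← mul_assoc]
          rcases hg with hg | hg
          · left; rw [hg, mul_assoc]
          · right; rw [hg, mul_assoc]
        · rw [mul_assoc, hh, ← mul_assoc, mul_add, mul_one]
          rcases hg with hg | hg
          · right; rw [hg, ← mul_assoc, add_mul J (1 : Matrix _ _ F), one_mul]
          · left; rw [hg, hJJ, mul_assoc]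
      inv_mem' := by
        intro g hg
        simp only [Set.mem_ofPred_eq] at hg ⊢
        rcases hg with hg | hg
        · left
          calc g⁻¹.val * J = g⁻¹.val * (J * g.val) * g⁻¹.val := by
                rw [mul_assoc, mul_assoc, Units.mul_inv, mul_one]
            _ = J * g⁻¹.val := by rw [← hg, ← mul_assoc, Units.inv_mul, one_mul]
        · right
          have h1 : g⁻¹.val * (J + 1) = J * g⁻¹.val := by
            calc g⁻¹.val * (J + 1) = g⁻¹.val * ((J + 1) * g.val) * g⁻¹.val := by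
                  rw [mul_assoc, mul_assoc, Units.mul_inv, mul_one]
              _ = J * g⁻¹.val := by rw [← hg, ← mul_assoc, Units.inv_mul, one_mul]
          rw [mul_add, mul_one] at h1
          rw [add_mul, one_mul, ← h1, add_assoc, hdouble, add_zero] }
  have hle : Cfsg.Geo.kroneckerSubgroup 2 n₂ F ≤ K' := by
    rintro g ⟨a, b, hg⟩
    show g.val * J = J * g.val ∨ g.val * J = (J + 1) * g.val
    have key : (a : Matrix (Fin 2) (Fin 2) F) * τ = τ * a ∨ (a : Matrix (Fin 2) (Fin 2) F) * τ = (τ + 1) * a := by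
      have hdet : Matrix.det (a : Matrix (Fin 2) (Fin 2) F) ≠ 0 :=
        ((Matrix.isUnit_iff_isUnit_det _).mp a.isUnit).ne_zero
      revert hdet
      generalize (a : Matrix (Fin 2) (Fin 2) F) = m
      rw [Matrix.eta_fin_two m]
      rcases hF (m 0 0) with h00 | h00 <;> rcases hF (m 0 1) with h01 | h01 <;>
        rcases hF (m 1 0) with h10 | h10 <;> rcases hF (m 1 1) with h11' | h11' <;>
        simp [τ, h00, h01, h10, h11', Matrix.det_fin_two, Matrix.one_fin_two, h11]
    rcases key with k | k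
    · left
      rw [hg]
      show _ ⊗ₖ _ * (τ ⊗ₖ 1) = (τ ⊗ₖ 1) * _
      rw [← Matrix.mul_kronecker_mul, ← Matrix.mul_kronecker_mul, k, mul_one, one_mul]
    · right
      rw [hg]
      show _ ⊗ₖ _ * (τ ⊗ₖ 1) = (τ ⊗ₖ 1 + 1) * _
      rw [← Matrix.one_kronecker_one, ← Matrix.add_kronecker, ← Matrix.mul_kronecker_mul,
        ← Matrix.mul_kronecker_mul, k, mul_one, one_mul]
  have hinvol : ∀ N : Matrix (Fin 2 × Fin n₂) (Fin 2 × Fin n₂) F, N * N = 0 → (1 + N) * (1 + N) = 1 := by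
    intro N hN
    rw [add_mul, one_mul, mul_add, mul_one, hN, add_zero, add_assoc, hdouble, add_zero]
  let E : Matrix (Fin n₂) (Fin n₂) F := Matrix.single i₀ i₁ 1
  have hEE : E * E = 0 := by simp [E, Matrix.single_mul_single_of_ne, hne.symm]
  let g₀ : GL (Fin 2 × Fin n₂) F :=
    ⟨1 + τ ⊗ₖ E, 1 + τ ⊗ₖ E, hinvol _ (by rw [← Matrix.mul_kronecker_mul, hEE, Matrix.kronecker_zero]),
      hinvol _ (by rw [← Matrix.mul_kronecker_mul, hEE, Matrix.kronecker_zero])⟩
  let D : Matrix (Fin 2) (Fin 2) F := Matrix.single 0 0 1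
  let h₀ : GL (Fin 2 × Fin n₂) F :=
    ⟨1 + D ⊗ₖ E, 1 + D ⊗ₖ E, hinvol _ (by rw [← Matrix.mul_kronecker_mul, hEE, Matrix.kronecker_zero]),
      hinvol _ (by rw [← Matrix.mul_kronecker_mul, hEE, Matrix.kronecker_zero])⟩
  have hg₀ : g₀ ∈ K' := Or.inl (by
    show (1 + τ ⊗ₖ E) * (τ ⊗ₖ 1) = (τ ⊗ₖ 1) * (1 + τ ⊗ₖ E)
    rw [add_mul, mul_add, one_mul, mul_one, ← Matrix.mul_kronecker_mul, ← Matrix.mul_kronecker_mul,
      one_mul, mul_one])
  have hg₀' : g₀ ∉ Cfsg.Geo.kroneckerSubgroup 2 n₂ F := by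
    rintro ⟨a, b, hg⟩
    have e1 := congrFun (congrFun hg ((0 : Fin 2), i₀)) ((0 : Fin 2), i₀)
    have e2 := congrFun (congrFun hg ((0 : Fin 2), i₀)) ((0 : Fin 2), i₁)
    have e3 := congrFun (congrFun hg ((0 : Fin 2), i₀)) ((1 : Fin 2), i₁)
    simp [g₀, τ, E, Matrix.kroneckerMap_apply, Matrix.one_apply, hne, hne.symm] at e1 e2 e3
    rcases e2 with h | h
    · rw [h, zero_mul] at e1; exact one_ne_zero e1
    · rw [h, mul_zero] at e3; exact one_ne_zero e3
  have hh₀ : h₀ ∉ K' := by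
    rintro (h | h)
    · change (1 + D ⊗ₖ E) * (τ ⊗ₖ 1) = (τ ⊗ₖ 1) * (1 + D ⊗ₖ E) at h
      rw [add_mul, mul_add, one_mul, mul_one, ← Matrix.mul_kronecker_mul, ← Matrix.mul_kronecker_mul,
        one_mul, mul_one] at h
      have e1 := congrFun ((congrFun ((add_right_inj (τ ⊗ₖ (1 : Matrix (Fin n₂) (Fin n₂) F))).mp h)) ((0 : Fin 2), i₀)) ((1 : Fin 2), i₁)
      simp [τ, D, E, Matrix.kroneckerMap_apply, Matrix.mul_apply, Fin.sum_univ_two, Matrix.vecMul, dotProduct] at e1
    · change (1 + D ⊗ₖ E) * (τ ⊗ₖ 1) = (τ ⊗ₖ 1 + 1) * (1 + D ⊗ₖ E) at h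
      rw [add_mul, one_mul, add_mul, one_mul, mul_add, mul_one, ← Matrix.mul_kronecker_mul,
        ← Matrix.mul_kronecker_mul, one_mul, mul_one] at h
      have e1 := congrFun (congrFun h ((0 : Fin 2), i₀)) ((0 : Fin 2), i₀)
      simp [τ, D, E, Matrix.kroneckerMap_apply, Matrix.mul_apply, Matrix.one_apply, Fin.sum_univ_two,
        hne, hne.symm] at e1
  refine ⟨K'.map φ.toMonoidHom, ?_, ?_⟩
  · rw [htop, inf_top_eq, hT]
    refine lt_of_le_of_ne (Subgroup.map_mono hle) fun h => hg₀' ?_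
    rw [Subgroup.map_injective φ.injective h]
    exact hg₀
  · rw [htop]
    refine lt_top_iff_ne_top.mpr fun h => hh₀ ?_
    obtain ⟨y, hy, e'⟩ := h.ge (Subgroup.mem_top (φ h₀))
    rwa [← φ.injective e']

end Cfsg.Agent.S5638
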