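import Cfsg.Statements.S5645
import Cfsg.Agent.Lib.Classical.SympMax

set_option autoImplicit false
open Cfsg

namespace Cfsg.Agent.S5645

/-- For a finite field F and m ≥ 7, in the symplectic group Sp_2m(F) of the standard alternating form on F^(2m) (as a subgroup of GL_2m(F)), the stabiliser of any non-zero subspace on which the form vanishes identically is a maximal subgroup. -/
theorem result {F : Type*} [Field F] [Fintype F] (m : ℕ) (hm : 7 ≤ m) (W : Submodule F (Fin m ⊕ Fin m → F)) (hW0 : W ≠ ⊥) (hW : Cfsg.Geo.IsTotallySingularFor (Cfsg.sympForm m F) W) : Cfsg.Geo.IsMaximalIn (Cfsg.spGL m F) (Cfsg.Geo.subspaceStabilizer W ⊓ Cfsg.spGL m F) := by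
  have hW' : ∀ a ∈ W, ∀ b ∈ W, CfsgLib.Classical.sympBil F m a b = 0 := fun a ha b hb => by
    rw [CfsgLib.Classical.sympBil_apply]; exact hW a ha b hb
  refine CfsgLib.Classical.spGL_isMaximalIn m W hW0 ?_ fun M hM g hg hgW =>
    CfsgLib.Classical.top_of_stab_isotropic (CfsgLib.Classical.sympBil_isAlt m)
      (CfsgLib.Classical.sympBil_nondegenerate m) hW' hM hg hgW
  rintro rfl
  obtain ⟨v, hv⟩ := CfsgLib.Classical.alt_exists_partner (CfsgLib.Classical.sympBil_nondegenerate (F := F) m).1
    (show (Pi.single (Sum.inl ⟨0, by omega⟩) 1 : Fin m ⊕ Fin m → F) ≠ 0 by simp)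
  exact zero_ne_one ((hW' _ Submodule.mem_top v Submodule.mem_top).symm.trans hv)

end Cfsg.Agent.S5645
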