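import Cfsg.Statements.S5646
import Cfsg.Agent.Lib.Classical.SympMax

set_option autoImplicit false
open Cfsg

namespace Cfsg.Agent.S5646

/-- For a finite field F and m ≥ 7, in the symplectic group Sp_2m(F) of the standard alternating form on F^(2m), the stabiliser of any non-zero subspace W on which the form is non-degenerate and with dim W < m is a maximal subgroup. -/
theorem result {F : Type*} [Field F] [Fintype F] (m : ℕ) (hm : 7 ≤ m) (W : Submodule F (Fin m ⊕ Fin m → F)) (hW0 : W ≠ ⊥) (hW : Cfsg.Geo.IsNondegenerateOn (Cfsg.sympForm m F) W) (hdim : Module.finrank F W < m) : Cfsg.Geo.IsMaximalIn (Cfsg.spGL m F) (Cfsg.Geo.subspaceStabilizer W ⊓ Cfsg.spGL m F) := by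
  have hN : CfsgLib.Classical.NondegOn (CfsgLib.Classical.sympBil F m) W := by
    rw [CfsgLib.Classical.nondegOn_iff]
    intro x hx hx'
    by_contra hne
    obtain ⟨y, hy, hyx⟩ := (hW x hx hne).1
    exact hyx (by rw [← CfsgLib.Classical.sympBil_apply]; exact hx' y hy)
  have hfr : Module.finrank F (Fin m ⊕ Fin m → F) = 2 * m := by simp [two_mul]
  refine CfsgLib.Classical.spGL_isMaximalIn m W hW0 ?_ fun M hM g hg hgW =>
    CfsgLib.Classical.top_of_stab_nondeg (CfsgLib.Classical.sympBil_isAlt m)
      (CfsgLib.Classical.sympBil_nondegenerate m) hN (by omega) hM hg hgW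
  rintro rfl
  rw [finrank_top] at hdim
  omega

end Cfsg.Agent.S5646
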