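import Cfsg.Statements.S5647
import Cfsg.Agent.Lib.Classical.SympDecomp

set_option autoImplicit false
open Cfsg

namespace Cfsg.Agent.S5647

/-- For a finite field F with q elements and m ≥ 7, let D be a decomposition of F^(2m) into t ≥ 2 pairwise orthogonal subspaces of equal dimension k on each of which the standard alternating form is non-degenerate, spanning F^(2m). Unless k = 2 and q = 2, the elements of Sp_2m(F) permuting the members of D form a maximal subgroup of Sp_2m(F). -/
theorem result {F : Type*} [Field F] [Fintype F] (m : ℕ) (hm : 7 ≤ m) {t : ℕ} (k : ℕ) (D : Fin t → Submodule F (Fin m ⊕ Fin m → F)) (hD : Cfsg.Geo.IsNondegenerateMDecomposition (Cfsg.sympForm m F) k D) (hex : ¬ (k = 2 ∧ Fintype.card F = 2)) : Cfsg.Geo.IsMaximalIn (Cfsg.spGL m F) (Cfsg.Geo.decompositionStabilizer D ⊓ Cfsg.spGL m F) := by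
  classical
  let B := CfsgLib.Classical.sympBil F m
  have hA := CfsgLib.Classical.sympBil_isAlt (F := F) m
  have hN := CfsgLib.Classical.sympBil_nondegenerate (F := F) m
  have hdec : CfsgLib.Classical.OrthDecomp B D k :=
    ⟨fun i => CfsgLib.Classical.nondegOn_iff.2 fun x hx hx' => by
        by_contra hne
        obtain ⟨y, hy, hyx⟩ := (hD.nondegenerate i x hx hne).1
        exact hyx (by rw [← CfsgLib.Classical.sympBil_apply]; exact hx' y hy),
      fun i j hij u hu v hv => by rw [CfsgLib.Classical.sympBil_apply]; exact hD.orthogonal i j hij u hu v hv,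
      hD.decomp.iSup_eq_top, hD.decomp.finrank_eq⟩
  have hfield : k = 2 → ∃ μ : F, μ ≠ 0 ∧ μ + 1 ≠ 0 := by
    intro hk2
    by_contra hc
    push Not at hc
    have hle : (Finset.univ : Finset F) ⊆ {0, -1} := fun a _ => by
      rcases eq_or_ne a 0 with rfl | ha
      · simp
      · simp [eq_neg_of_add_eq_zero_left (hc a ha)]
    have h1 := (Finset.card_le_card hle).trans Finset.card_le_two
    rw [Finset.card_univ] at h1
    have h2 : 1 < Fintype.card F := Fintype.one_lt_card
    exact hex ⟨hk2, by omega⟩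
  let e := ((CfsgLib.Classical.spEquiv (F := F) m).symm.trans (CfsgLib.Classical.spGLEquiv m))
  let ψ : CfsgLib.Classical.isomGroup B →* Matrix.GeneralLinearGroup (Fin m ⊕ Fin m) F :=
    (Cfsg.spGL m F).subtype.comp e.toMonoidHom
  have hψ : ∀ g, Matrix.toLin' (ψ g : Matrix (Fin m ⊕ Fin m) (Fin m ⊕ Fin m) F) = g.1.toLinearMap := fun g =>
    LinearMap.ext fun x => by
      rw [Matrix.toLin'_apply]
      change ((CfsgLib.Classical.spEquiv (F := F) m).symm g).1.mulVec x = g.1 x
      rw [← CfsgLib.Classical.spEquiv_apply, MulEquiv.apply_symm_apply]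
  have hψs : ∀ t ∈ Cfsg.spGL m F, ∃ g, ψ g = t := fun t ht => ⟨e.symm ⟨t, ht⟩, by
    simp only [ψ, MonoidHom.coe_comp, Function.comp_apply, MulEquiv.coe_toMonoidHom, MulEquiv.apply_symm_apply,
      Subgroup.coe_subtype]⟩
  have hiff : ∀ g, ψ g ∈ Cfsg.Geo.decompositionStabilizer D ↔ CfsgLib.Classical.IsDecompSym D g := fun g => by
    change (∃ σ : Equiv.Perm (Fin t), ∀ i, (D i).map (Matrix.toLin' (ψ g : Matrix (Fin m ⊕ Fin m) (Fin m ⊕ Fin m) F)) = D (σ i)) ↔ _
    rw [hψ]
    rfl
  refine ⟨lt_of_le_not_ge inf_le_right fun h => ?_, fun M hM hMS => ?_⟩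
  · obtain ⟨g, hg⟩ := hdec.exists_not_sym hA hD.decomp.pos hD.decomp.two_le
    exact hg ((hiff g).1 (h (Subtype.prop (e g))).1)
  · by_cases hMQ : M ≤ Cfsg.Geo.decompositionStabilizer D
    · exact Or.inl (le_antisymm (le_inf hMQ hMS) hM)
    obtain ⟨s, hs, hsD⟩ := SetLike.not_le_iff_exists.1 hMQ
    obtain ⟨g, rfl⟩ := hψs s (hMS hs)
    have htop := hdec.maximal hA hN hD.decomp.pos hfield
      (M := M.comap ψ) (fun t ht => hM ⟨(hiff t).2 ht, Subtype.prop (e t)⟩) (g := g) hs (fun h => hsD ((hiff g).2 h))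
    refine Or.inr (le_antisymm hMS fun t ht => ?_)
    obtain ⟨g', rfl⟩ := hψs t ht
    exact (htop ▸ Subgroup.mem_top g' : g' ∈ M.comap ψ)

end Cfsg.Agent.S5647
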