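import Cfsg.Statements.S5648
import Cfsg.Agent.Lib.Classical.SympDecomp

set_option autoImplicit false
open Cfsg

namespace Cfsg.Agent.S5648

/-- Over the field with 2 elements and for m ≥ 7, let D be a decomposition of F^(2m) into t pairwise orthogonal non-degenerate 2-dimensional subspaces for the standard alternating form (t = m ≥ 2). Then the elements of Sp_2m(2) permuting the members of D form a subgroup that is not maximal: some subgroup lies strictly between it and Sp_2m(2). -/
theorem result {F : Type*} [Field F] [Fintype F] (m : ℕ) (hm : 7 ≤ m) (hq : Fintype.card F = 2) {t : ℕ} (D : Fin t → Submodule F (Fin m ⊕ Fin m → F)) (hD : Cfsg.Geo.IsNondegenerateMDecomposition (Cfsg.sympForm m F) 2 D) : ∃ K : Subgroup (Matrix.GeneralLinearGroup (Fin m ⊕ Fin m) F), Cfsg.Geo.decompositionStabilizer D ⊓ Cfsg.spGL m F < K ∧ K < Cfsg.spGL m F := by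
  classical
  let B := CfsgLib.Classical.sympBil F m
  have hA := CfsgLib.Classical.sympBil_isAlt (F := F) m
  have hN := CfsgLib.Classical.sympBil_nondegenerate (F := F) m
  have hdec : CfsgLib.Classical.OrthDecomp B D 2 :=
    ⟨fun i => CfsgLib.Classical.nondegOn_iff.2 fun x hx hx' => by
        by_contra hne
        obtain ⟨y, hy, hyx⟩ := (hD.nondegenerate i x hx hne).1
        exact hyx (by rw [← CfsgLib.Classical.sympBil_apply]; exact hx' y hy),
      fun i j hij u hu v hv => by rw [CfsgLib.Classical.sympBil_apply]; exact hD.orthogonal i j hij u hu v hv,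
      hD.decomp.iSup_eq_top, hD.decomp.finrank_eq⟩
  have h01 : ∀ a : F, a = 0 ∨ a = 1 := by
    intro a
    by_contra hc
    push Not at hc
    have h3 : Finset.card ({0, 1, a} : Finset F) = 3 :=
      Finset.card_eq_three.2 ⟨0, 1, a, zero_ne_one, fun e => hc.1 e.symm, fun e => hc.2 e.symm, rfl⟩
    have := Finset.card_le_univ ({0, 1, a} : Finset F)
    omega
  have h2 : (2 : F) = 0 := (h01 2).resolve_right fun e => one_ne_zero (α := F) (by linear_combination e)
  let c := fun i => hdec.comp i
  let Φ : (Fin m ⊕ Fin m → F) → F := fun v => ∑ i, if c i v = 0 then 0 else 1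
  -- the weight is a quadratic form polarising to the symplectic form
  have hpl : ∀ i, ∀ x ∈ D i, ∀ y ∈ D i, (if x + y = 0 then (0 : F) else 1) =
      (if x = 0 then (0 : F) else 1) + (if y = 0 then (0 : F) else 1) + B x y := by
    intro i x hx y hy
    by_cases hx0 : x = 0
    · simp [hx0]
    by_cases hy0 : y = 0
    · simp [hy0]
    by_cases hxy : x + y = 0
    · have : y = -x := eq_neg_of_add_eq_zero_right hxy
      rw [if_pos hxy, if_neg hx0, if_neg hy0, this, map_neg, hA x]
      linear_combination -h2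
    rw [if_neg hxy, if_neg hx0, if_neg hy0]
    rcases h01 (B x y) with e | e
    swap
    · rw [e]; linear_combination -h2
    exfalso
    -- two independent vectors of a plane are not orthogonal
    have hli : LinearIndependent F ![x, y] := by
      rw [LinearIndependent.pair_iff]
      intro a b hab
      rcases h01 a with rfl | rfl <;> rcases h01 b with rfl | rfl
      · exact ⟨rfl, rfl⟩
      · simp [hy0] at hab
      · simp [hx0] at hab
      · simp [hxy] at hab
    have hspan : Submodule.span F (Set.range ![x, y]) = D i := by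
      refine Submodule.eq_of_le_of_finrank_eq (Submodule.span_le.2 (by
        rintro _ ⟨j, rfl⟩; fin_cases j <;> assumption)) ?_
      rw [finrank_span_eq_card hli, hD.decomp.finrank_eq]; rfl
    refine hx0 (hdec.ext_comp fun j => ?_)
    have : x = 0 := hN.1 x fun z => by
      rw [hdec.form_eq, Finset.sum_eq_single i (fun j _ hj => by
        rw [hdec.comp_other hj hx, map_zero, LinearMap.zero_apply]) (by simp), hdec.comp_self hx]
      have hz := hdec.comp_mem i z
      rw [← hspan, Matrix.range_cons_cons_empty, Submodule.mem_span_pair] at hz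
      obtain ⟨p, q, hpq⟩ := hz
      rw [← hpq, map_add, map_smul, map_smul, hA x, e, smul_zero, smul_zero, add_zero]
    rw [this]
  have hΦ : ∀ x y, Φ (x + y) = Φ x + Φ y + B x y := fun x y => by
    rw [hdec.form_eq x y]
    simp only [Φ, ← Finset.sum_add_distrib, map_add]
    exact Finset.sum_congr rfl fun i _ => hpl i _ (hdec.comp_mem i x) _ (hdec.comp_mem i y)
  have hΦa : ∀ (a : F) x, Φ (a • x) = a * Φ x := fun a x => by
    rcases h01 a with rfl | rfl <;> simp [Φ]
  let e := ((CfsgLib.Classical.spEquiv (F := F) m).symm.trans (CfsgLib.Classical.spGLEquiv m))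
  let ψ : CfsgLib.Classical.isomGroup B →* Matrix.GeneralLinearGroup (Fin m ⊕ Fin m) F :=
    (Cfsg.spGL m F).subtype.comp e.toMonoidHom
  have hψ : ∀ g, Matrix.toLin' (ψ g : Matrix (Fin m ⊕ Fin m) (Fin m ⊕ Fin m) F) = g.1.toLinearMap := fun g =>
    LinearMap.ext fun x => by
      rw [Matrix.toLin'_apply]
      change ((CfsgLib.Classical.spEquiv (F := F) m).symm g).1.mulVec x = g.1 x
      rw [← CfsgLib.Classical.spEquiv_apply, MulEquiv.apply_symm_apply]
  have hψi : Function.Injective ψ := (Cfsg.spGL m F).subtype_injective.comp e.injective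
  have hψs : ∀ t ∈ Cfsg.spGL m F, ∃ g, ψ g = t := fun t ht => ⟨e.symm ⟨t, ht⟩, by
    simp only [ψ, MonoidHom.coe_comp, Function.comp_apply, MulEquiv.coe_toMonoidHom, MulEquiv.apply_symm_apply,
      Subgroup.coe_subtype]⟩
  have hiff : ∀ g, ψ g ∈ Cfsg.Geo.decompositionStabilizer D ↔ CfsgLib.Classical.IsDecompSym D g := fun g => by
    change (∃ σ : Equiv.Perm (Fin t), ∀ i, (D i).map (Matrix.toLin' (ψ g : Matrix (Fin m ⊕ Fin m) (Fin m ⊕ Fin m) F)) = D (σ i)) ↔ _
    rw [hψ]
    rfl
  let K₀ : Subgroup (CfsgLib.Classical.isomGroup B) :=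
    { carrier := {g | ∀ v, Φ (g.1 v) = Φ v}
      one_mem' := fun v => rfl
      mul_mem' := fun {a b} ha hb v => (ha (b.1 v)).trans (hb v)
      inv_mem' := fun {a} ha v => by
        have := ha ((a⁻¹ : CfsgLib.Classical.isomGroup B).1 v)
        rw [show a.1 ((a⁻¹ : CfsgLib.Classical.isomGroup B).1 v) = v from a.1.apply_symm_apply v] at this
        exact this.symm }
  -- one partner in each of three planes
  have htm : t * 2 = 2 * m := by
    have := congrArg (fun W : Submodule F (Fin m ⊕ Fin m → F) => Module.finrank F W) hdec.top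
    have h' := DirectSum.isInternal_submodule_of_iSupIndep_of_iSup_eq_top hD.decomp.indep hD.decomp.iSup_eq_top
    have hb := Module.finrank_eq_card_basis (h'.collectedBasis fun i => Module.finBasisOfFinrankEq F (D i) (hD.decomp.finrank_eq i))
    simp [Module.finrank_fintype_fun_eq_card] at hb
    omega
  have hpair : ∀ i, ∃ a b, a ∈ D i ∧ b ∈ D i ∧ B a b = 1 := by
    intro i
    obtain ⟨a, ha, ha0⟩ := Submodule.exists_mem_ne_zero_of_ne_bot (p := D i) (fun h' => by
      have h1 := hD.decomp.finrank_eq i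
      rw [h', finrank_bot] at h1; omega)
    obtain ⟨b, hb, hab⟩ := (hD.nondegenerate i a ha ha0).2
    rw [← CfsgLib.Classical.sympBil_apply] at hab
    exact ⟨a, b, ha, hb, (h01 _).resolve_left hab⟩
  choose pa pb hpa hpb hab using hpair
  let i₀ : Fin t := ⟨0, by omega⟩
  let i₁ : Fin t := ⟨1, by omega⟩
  let i₂ : Fin t := ⟨2, by omega⟩
  have h10 : i₁ ≠ i₀ := by simp [i₀, i₁, Fin.ext_iff]
  have h20 : i₂ ≠ i₀ := by simp [i₀, i₂, Fin.ext_iff]
  have h21 : i₂ ≠ i₁ := by simp [i₁, i₂, Fin.ext_iff]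
  have hΦp : ∀ i, Φ (pa i) = 1 := fun i => by
    have hne : pa i ≠ 0 := fun h' => by simpa [h'] using hab i
    simp only [Φ]
    rw [Finset.sum_eq_single i (fun j _ hj => by simp [c, hdec.comp_other hj (hpa i)]) (by simp)]
    simp [c, hdec.comp_self (hpa i), hne]
  have horth : ∀ i j, i ≠ j → ∀ x ∈ D i, ∀ y ∈ D j, B x y = 0 := hdec.orth
  let u := pa i₀ + pa i₁
  let v := u + pa i₂
  have hΦu : Φ u = 0 := by
    simp only [u, hΦ, hΦp, horth _ _ h10.symm _ (hpa _) _ (hpa _)]; linear_combination h2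
  have hΦv : Φ v = 1 := by
    simp only [v, hΦ, hΦu, hΦp]
    simp [u, horth _ _ h20.symm _ (hpa _) _ (hpa _), horth _ _ h21.symm _ (hpa _) _ (hpa _)]
  have hmul : ∀ a : F, a * a = a := fun a => by rcases h01 a with rfl | rfl <;> simp
  have hkey : ∀ (w : Fin m ⊕ Fin m → F) x, Φ ((CfsgLib.Classical.tv hA w (1 : F)).1 x) = Φ x + B x w * Φ w + B x w := by
    intro w x
    rw [CfsgLib.Classical.tv_apply, one_mul, hΦ, hΦa, map_smul, smul_eq_mul, hmul]
  have hba : ∀ i, B (pb i) (pa i) = -1 := fun i => by rw [CfsgLib.Classical.alt_swap hA, hab]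
  have hxv : B (pb i₀) v = -1 := by
    simp only [v, u, map_add, horth _ _ h10.symm _ (hpb _) _ (hpa _), horth _ _ h20.symm _ (hpb _) _ (hpa _),
      hba]
    ring
  refine ⟨K₀.map ψ, lt_of_le_not_ge ?_ ?_, lt_of_le_not_ge ?_ ?_⟩
  · rintro s ⟨hs, hs'⟩
    obtain ⟨g, rfl⟩ := hψs s hs'
    obtain ⟨σ, hσ⟩ := (hiff g).1 hs
    refine ⟨g, fun x => ?_, rfl⟩
    have hc : ∀ i, hdec.comp (σ i) (g.1 x) = g.1 (hdec.comp i x) := fun i => by
      have hmem : ∀ j, g.1 (hdec.comp j x) ∈ D (σ j) := fun j => hσ j ▸ ⟨_, hdec.comp_mem j x, rfl⟩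
      conv_lhs => rw [← hdec.sum_comp x, map_sum, map_sum]
      rw [Finset.sum_eq_single i (fun j _ hj => hdec.comp_other (σ.injective.ne (Ne.symm hj)) (hmem j)) (by simp)]
      exact hdec.comp_self (hmem i)
    simp only [Φ, c]
    rw [← Equiv.sum_comp σ]
    simp only [hc, map_eq_zero_iff _ g.1.injective]
  · intro hle
    have hmem : CfsgLib.Classical.tv hA v (1 : F) ∈ K₀ := fun x => by
      rw [hkey, hΦv]; linear_combination (B x v) * h2
    obtain ⟨σ, hσ⟩ := (hiff _).1 (hle ⟨_, hmem, rfl⟩).1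
    have himg : (CfsgLib.Classical.tv hA v (1 : F)).1 (pb i₀) ∈ D (σ i₀) := hσ i₀ ▸ ⟨_, hpb i₀, rfl⟩
    rw [CfsgLib.Classical.tv_apply, one_mul, hxv] at himg
    have hne : ∀ i, i ≠ i₀ → (i = i₁ ∨ i = i₂) → i = σ i₀ := by
      intro i hi hi'
      by_contra hne
      have h0 := hdec.comp_other hne himg
      have hpa0 : ∀ j, pa j ≠ 0 := fun j h' => by simpa [h'] using hab j
      have hp : ∀ j, j ≠ i → hdec.comp i (pa j) = 0 := fun j hj => hdec.comp_other (Ne.symm hj) (hpa j)
      rw [map_add, map_smul, hdec.comp_other hi (hpb i₀), zero_add, neg_one_smul, neg_eq_zero] at h0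
      rcases hi' with rfl | rfl
      · simp only [v, u, map_add, hp _ h10.symm, hp _ h21, hdec.comp_self (hpa _), zero_add, add_zero] at h0
        exact hpa0 _ h0
      · simp only [v, u, map_add, hp _ h20.symm, hp _ h21.symm, hdec.comp_self (hpa _), zero_add] at h0
        exact hpa0 _ h0
    exact h21 ((hne i₂ h20 (Or.inr rfl)).trans (hne i₁ h10 (Or.inl rfl)).symm)
  · rintro s ⟨g, -, rfl⟩
    exact Subtype.prop (e g)
  · intro hle
    obtain ⟨g, hg, hge⟩ := hle (Subtype.prop (e (CfsgLib.Classical.tv hA u (1 : F))))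
    have := hg (pb i₀)
    rw [hψi hge, hkey, hΦu] at this
    have hbu : B (pb i₀) u = -1 := by
      simp only [u, map_add, horth _ _ h10.symm _ (hpb _) _ (hpa _),
        hba]
      ring
    rw [hbu] at this
    exact one_ne_zero (α := F) (by linear_combination -this)

end Cfsg.Agent.S5648
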