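import Cfsg.Statements.S5652
import Cfsg.Agent.Lib.Classical.SympOrthMax

set_option autoImplicit false
open Cfsg

namespace Cfsg.Agent.S5652

/-- For a finite field F of characteristic two and m ≥ 7, let Q be a non-degenerate quadratic form on F^(2m) whose polar form is the standard alternating form. Then the elements of Sp_2m(F) that are similarities of Q (they are exactly the isometries of Q) form a maximal subgroup of Sp_2m(F). -/
theorem result {F : Type*} [Field F] [Fintype F] (m : ℕ) (hm : 7 ≤ m) (heven : ¬ Odd (Fintype.card F)) (Q : (Fin m ⊕ Fin m → F) → F) (hQ : Cfsg.Geo.IsNondegenerateQuadraticForm Q) (hpol : ∀ u v, QuadraticMap.polar Q u v = Cfsg.sympForm m F u v) : Cfsg.Geo.IsMaximalIn (Cfsg.spGL m F) (Cfsg.Geo.quadSimilarityGroup Q ⊓ Cfsg.spGL m F) := by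
  classical
  haveI : CharP F 2 := by
    have h : Fintype.card F % 2 = 0 := Nat.not_odd_iff.1 heven
    exact ringChar.of_eq (FiniteField.even_card_iff_char_two.2 h)
  have hA := CfsgLib.Classical.sympBil_isAlt (F := F) m
  have hN := CfsgLib.Classical.sympBil_nondegenerate (F := F) m
  have hq : CfsgLib.Classical.QuadOf (CfsgLib.Classical.sympBil F m) Q :=
    ⟨fun x y => by
      rw [CfsgLib.Classical.sympBil_apply, ← hpol x y]
      simp only [QuadraticMap.polar]
      ring, hQ.smul⟩
  have hn : 8 ≤ Module.finrank F (Fin m ⊕ Fin m → F) := by simp; omega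
  let e := ((CfsgLib.Classical.spEquiv (F := F) m).symm.trans (CfsgLib.Classical.spGLEquiv m))
  let ψ : CfsgLib.Classical.isomGroup (CfsgLib.Classical.sympBil F m) →* Matrix.GeneralLinearGroup (Fin m ⊕ Fin m) F :=
    (Cfsg.spGL m F).subtype.comp e.toMonoidHom
  have hψ : ∀ g x, (ψ g : Matrix (Fin m ⊕ Fin m) (Fin m ⊕ Fin m) F).mulVec x = g.1 x := fun g x => by
    change ((CfsgLib.Classical.spEquiv (F := F) m).symm g).1.mulVec x = _
    rw [← CfsgLib.Classical.spEquiv_apply, MulEquiv.apply_symm_apply]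
  have hψs : ∀ t ∈ Cfsg.spGL m F, ∃ g, ψ g = t := fun t ht => ⟨e.symm ⟨t, ht⟩, by
    simp only [ψ, MonoidHom.coe_comp, Function.comp_apply, MulEquiv.coe_toMonoidHom, MulEquiv.apply_symm_apply,
      Subgroup.coe_subtype]⟩
  have hiff : ∀ g, ψ g ∈ Cfsg.Geo.quadSimilarityGroup Q ↔
      g ∈ CfsgLib.Classical.quadStab (CfsgLib.Classical.sympBil F m) Q := by
    intro g
    constructor
    · rintro ⟨c, hc⟩ x
      simp only [hψ] at hc
      have hc1 : (c : F) = 1 := by
        have : Nontrivial (Fin m ⊕ Fin m → F) := Module.finrank_pos_iff.1 (by omega : 0 < Module.finrank F (Fin m ⊕ Fin m → F))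
        obtain ⟨u, hu⟩ := exists_ne (0 : Fin m ⊕ Fin m → F)
        obtain ⟨v, hv⟩ := CfsgLib.Classical.alt_exists_partner hN.1 hu
        have h1 := hq.add (g.1 u) (g.1 v)
        rw [← map_add, hc, hc, hc, g.2, hq.add, hv] at h1
        linear_combination h1
      rw [hc, hc1, one_mul]
    · intro h
      exact ⟨1, fun v => by rw [hψ, h, Units.val_one, one_mul]⟩
  refine ⟨lt_of_le_not_ge inf_le_right fun h => ?_, fun M hM hMS => ?_⟩
  · obtain ⟨g, hg⟩ := CfsgLib.Classical.exists_not_mem_quadStab hA hN hq hn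
    exact hg ((hiff g).1 (h (Subtype.prop (e g))).1)
  · by_cases hMQ : M ≤ Cfsg.Geo.quadSimilarityGroup Q
    · exact Or.inl (le_antisymm (le_inf hMQ hMS) hM)
    obtain ⟨t, ht, htQ⟩ := SetLike.not_le_iff_exists.1 hMQ
    obtain ⟨g, rfl⟩ := hψs t (hMS ht)
    have htop := CfsgLib.Classical.quadStab_maximal hA hN hq hn
      (M := M.comap ψ) (fun s hs => hM ⟨(hiff s).2 hs, Subtype.prop (e s)⟩) (g := g) ht (fun h => htQ ((hiff g).2 h))
    refine Or.inr (le_antisymm hMS fun s hs => ?_)
    obtain ⟨g', rfl⟩ := hψs s hs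
    exact (htop ▸ Subgroup.mem_top g' : g' ∈ M.comap ψ)

end Cfsg.Agent.S5652
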