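import Cfsg.Statements.S5653
import Cfsg.Agent.Lib.Classical.HermMax

set_option autoImplicit false
open Cfsg

namespace Cfsg.Agent.S5653

/-- Let F be the field with q² elements and n ≥ 13, and let SU_n(q) be the group of matrices of determinant one preserving the standard unitary form Σ u_i v_i^q on F^n (the intersection of the unitary group GU_n with the kernel of the determinant). The elements of SU_n(q) stabilising a non-zero subspace on which the form vanishes identically form a maximal subgroup of SU_n(q). -/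
theorem result {F : Type*} [Field F] [Fintype F] (n q : ℕ) (hF : Fintype.card F = q ^ 2) (hn : 13 ≤ n) (W : Submodule F (Fin n → F)) (hW0 : W ≠ ⊥) (hW : Cfsg.Geo.IsTotallySingularFor (Cfsg.hermForm n F q) W) : Cfsg.Geo.IsMaximalIn (Cfsg.GU n F q ⊓ Cfsg.Geo.specialLinear (Fin n) F) (Cfsg.Geo.subspaceStabilizer W ⊓ (Cfsg.GU n F q ⊓ Cfsg.Geo.specialLinear (Fin n) F)) := by
  obtain ⟨σ, hσ, hc⟩ := CfsgLib.Classical.exists_frob hF
  have h := CfsgLib.Classical.stdHerm_isHermitian hc n
  have hN := CfsgLib.Classical.stdHerm_sepRight (σ := σ) n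
  have hW' : ∀ a ∈ W, ∀ b ∈ W, CfsgLib.Classical.stdHerm σ n a b = 0 := fun a ha b hb => by
    rw [← CfsgLib.Classical.hermForm_eq_stdHerm hσ]; exact hW b hb a ha
  refine CfsgLib.Classical.gu_isMaximalIn hσ _ (· ∈ CfsgLib.Classical.isomStab _ W)
    (CfsgLib.Classical.mem_stab_iff_isomStab W) ?_ fun M hM g hg hgW =>
      h.top_of_stab_ts hN (by rw [Module.finrank_fin_fun]; omega) hW' hM hg hgW
  obtain ⟨w, hw, hw0⟩ := (Submodule.ne_bot_iff W).1 hW0
  obtain ⟨s, -, hs, hws⟩ := h.exists_partner (CfsgLib.Classical.nondegOn_iff.2 fun y _ hy =>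
    hN y fun z => hy z trivial : CfsgLib.Classical.NondegOn _ (⊤ : Submodule F (Fin n → F))) trivial hw0 (hW' w hw w hw)
  have hs0 : s ≠ 0 := fun e => by simp [e] at hws
  obtain ⟨g, l, hgl⟩ := h.move_point hN (hW' w hw w hw) hs hw0 hs0
  refine ⟨g.1, MonoidHom.mem_ker.1 g.2, fun hg => ?_⟩
  have h1 : g.1.1 w ∈ W := (CfsgLib.Classical.mem_isomStab.1 hg).le ⟨w, hw, rfl⟩
  have h2 := hW' w hw _ h1
  rw [hgl, map_smul, hws, smul_eq_mul, mul_one] at h2
  rw [h2, zero_smul] at hgl
  exact hw0 (g.1.1.injective (hgl.trans (map_zero _).symm))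

end Cfsg.Agent.S5653
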