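import Cfsg.Statements.S5654
import Cfsg.Agent.Lib.Classical.HermMax

set_option autoImplicit false
open Cfsg

namespace Cfsg.Agent.S5654

/-- Let F be the field with q² elements and n ≥ 13. In SU_n(q) (determinant-one isometries of the standard unitary form on F^n) the stabiliser of a non-zero subspace W on which the form is non-degenerate and with 2 dim W < n is a maximal subgroup. -/
theorem result {F : Type*} [Field F] [Fintype F] (n q : ℕ) (hF : Fintype.card F = q ^ 2) (hn : 13 ≤ n) (W : Submodule F (Fin n → F)) (hW0 : W ≠ ⊥) (hW : Cfsg.Geo.IsNondegenerateOn (Cfsg.hermForm n F q) W) (hdim : 2 * Module.finrank F W < n) : Cfsg.Geo.IsMaximalIn (Cfsg.GU n F q ⊓ Cfsg.Geo.specialLinear (Fin n) F) (Cfsg.Geo.subspaceStabilizer W ⊓ (Cfsg.GU n F q ⊓ Cfsg.Geo.specialLinear (Fin n) F)) := by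
  obtain ⟨σ, hσ, hc⟩ := CfsgLib.Classical.exists_frob hF
  have h := CfsgLib.Classical.stdHerm_isHermitian hc n
  have hN := CfsgLib.Classical.stdHerm_sepRight (σ := σ) n
  have hNW : CfsgLib.Classical.NondegOn (CfsgLib.Classical.stdHerm σ n) W := by
    rw [CfsgLib.Classical.nondegOn_iff]
    intro x hx hx'
    by_contra hne
    obtain ⟨y, hy, hyx⟩ := (hW x hx hne).1
    exact hyx (by rw [CfsgLib.Classical.hermForm_eq_stdHerm hσ]; exact h.isRefl _ _ (hx' y hy))
  have hfr := hNW.finrank_perp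
  have hn' : Module.finrank F (Fin n → F) = n := Module.finrank_fin_fun F
  refine CfsgLib.Classical.gu_isMaximalIn hσ _ (· ∈ CfsgLib.Classical.isomStab _ W)
    (CfsgLib.Classical.mem_stab_iff_isomStab W) ?_ fun M hM g hg hgW =>
      h.top_of_stab_nondeg_herm hN (by omega) hNW (by omega) (by omega) hM hg hgW
  have hU := CfsgLib.Classical.nondegOn_perp hN hNW
  obtain ⟨e, f, he, -, hee, -, hef⟩ := h.exists_hyp_in hU (by omega)
  have hpos : 0 < Module.finrank F W := by
    refine Nat.pos_of_ne_zero fun h0 => hW0 ?_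
    rwa [Submodule.finrank_eq_zero] at h0
  obtain ⟨w, hw, hww⟩ := h.exists_unit_in hNW hpos (map_one σ)
  obtain ⟨u, hu, huu⟩ := h.exists_unit_in hU (by omega) (a := -1) (by rw [map_neg, map_one])
  have he0 : e ≠ 0 := fun e' => by simp [e'] at hef
  have hwu : w + u ∉ CfsgLib.Classical.perp (CfsgLib.Classical.stdHerm σ n) W := fun hm => by
    have h1 := CfsgLib.Classical.mem_perp.1 hm w hw
    rw [map_add, hww, CfsgLib.Classical.mem_perp.1 hu w hw, add_zero] at h1
    exact one_ne_zero h1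
  have hwu0 : w + u ≠ 0 := fun e' => hwu (by rw [e']; exact zero_mem _)
  have hwuu : CfsgLib.Classical.stdHerm σ n (w + u) (w + u) = 0 := by
    rw [h.add_self, hww, huu, CfsgLib.Classical.mem_perp.1 hu w hw]; simp
  obtain ⟨g, l, hgl⟩ := h.move_point hN hee hwuu he0 hwu0
  refine ⟨g.1, MonoidHom.mem_ker.1 g.2, fun hg => hwu ?_⟩
  have h2 : g.1.1 e ∈ CfsgLib.Classical.perp (CfsgLib.Classical.stdHerm σ n) W := by
    have h3 := CfsgLib.Classical.map_perp g.1.2 W
    rw [CfsgLib.Classical.mem_isomStab.1 hg] at h3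
    exact h3.le ⟨e, he, rfl⟩
  rw [hgl] at h2
  have hl : l ≠ 0 := fun e' => by
    rw [e', zero_smul] at hgl
    exact he0 (g.1.1.injective (hgl.trans (map_zero _).symm))
  exact (Submodule.smul_mem_iff _ hl).1 h2

end Cfsg.Agent.S5654
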