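import Cfsg.Statements.S5656
import Cfsg.Agent.Lib.Classical.HermMax

set_option autoImplicit false
open Cfsg

namespace Cfsg.Agent.S5656

/-- Let F be the field with 4 elements (q = 2) and n ≥ 13. Let D be a decomposition of F^n into t pairwise orthogonal 2-dimensional subspaces, each non-degenerate for the standard unitary form Σ u_i v_i². Then the elements of SU_n(2) permuting the members of D form a subgroup that is not maximal: some subgroup lies strictly between it and SU_n(2). -/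
theorem result {F : Type*} [Field F] [Fintype F] (n : ℕ) (hF : Fintype.card F = 4) (hn : 13 ≤ n) {t : ℕ} (D : Fin t → Submodule F (Fin n → F)) (hD : Cfsg.Geo.IsNondegenerateMDecomposition (Cfsg.hermForm n F 2) 2 D) : ∃ K : Subgroup (Matrix.GeneralLinearGroup (Fin n) F), Cfsg.Geo.decompositionStabilizer D ⊓ (Cfsg.GU n F 2 ⊓ Cfsg.Geo.specialLinear (Fin n) F) < K ∧ K < (Cfsg.GU n F 2 ⊓ Cfsg.Geo.specialLinear (Fin n) F) := by
  classical
  have hF' : Fintype.card F = 2 ^ 2 := hF
  obtain ⟨σ, hσ, hc⟩ := CfsgLib.Classical.exists_frob hF'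
  set B := CfsgLib.Classical.stdHerm σ n with hBdef
  have h : CfsgLib.Classical.IsHermitian B := CfsgLib.Classical.stdHerm_isHermitian hc n
  have hN : B.SeparatingRight := CfsgLib.Classical.stdHerm_sepRight (σ := σ) n
  have hnorm : ∀ a : F, a ≠ 0 → a * σ a = 1 := fun a ha => by
    have := FiniteField.pow_card_sub_one_eq_one a ha
    rw [hF] at this
    rw [hσ]; linear_combination this
  have h2 : (2 : F) = 0 := by
    have h4 : (Fintype.card F : F) = 0 := Nat.cast_card_eq_zero F
    rw [hF] at h4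
    exact (pow_eq_zero_iff two_ne_zero).1 (show (2 : F) ^ 2 = 0 by rw [← h4]; norm_num)
  have horth : ∀ i j, i ≠ j → ∀ u ∈ D i, ∀ v ∈ D j, B u v = 0 := fun i j hij u hu v hv => by
    rw [hBdef, ← CfsgLib.Classical.hermForm_eq_stdHerm hσ]; exact hD.orthogonal j i (Ne.symm hij) v hv u hu
  have hND : ∀ i, CfsgLib.Classical.NondegOn B (D i) := fun i => by
    rw [CfsgLib.Classical.nondegOn_iff]
    intro x hx hx'
    by_contra hne
    obtain ⟨y, hy, hyx⟩ := (hD.nondegenerate i x hx hne).1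
    exact hyx (by rw [CfsgLib.Classical.hermForm_eq_stdHerm hσ]; exact h.isRefl _ _ (hx' y hy))
  have hunique : ∀ i j, ∀ x ∈ D i, x ∈ D j → B x x ≠ 0 → i = j := fun i j x hi hj hx => by
    by_contra hij
    exact hx (horth i j hij x hi x hj)
  -- unit bases of the planes
  have hbasis : ∀ i, ∃ e f, e ∈ D i ∧ f ∈ D i ∧ B e e = 1 ∧ B f f = 1 ∧ B e f = 0 ∧
      ∀ x ∈ D i, ∃ a b : F, x = a • e + b • f := by
    intro i
    have hd : Module.finrank F (D i) = 2 := hD.decomp.finrank_eq i
    obtain ⟨e, he, hee⟩ := h.exists_unit_in (hND i) (by omega) (map_one σ)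
    have he0 : e ≠ 0 := fun e' => by simp [e'] at hee
    obtain ⟨hnd, hr⟩ := h.finrank_inf_perp (h.nondegOn_span_singleton (x := e) (by rw [hee]; exact one_ne_zero)) (hND i)
      (Submodule.span_le.2 (by simpa using he))
    rw [finrank_span_singleton he0, hd] at hr
    obtain ⟨f, hf, hff⟩ := h.exists_unit_in hnd (by omega) (map_one σ)
    have hef : B e f = 0 := CfsgLib.Classical.mem_perp.1 hf.2 e (Submodule.mem_span_singleton_self e)
    have hfe : B f e = 0 := h.isRefl _ _ hef
    refine ⟨e, f, he, hf.1, hee, hff, hef, fun x hx => ⟨B e x, B f x, ?_⟩⟩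
    by_contra hne
    have hy : x - B e x • e - B f x • f ∈ D i :=
      sub_mem (sub_mem hx ((D i).smul_mem _ he)) ((D i).smul_mem _ hf.1)
    have hli : LinearIndependent F ![(⟨e, he⟩ : D i), ⟨f, hf.1⟩] := by
      rw [LinearIndependent.pair_iff]
      intro a b hab
      have hab' : a • e + b • f = 0 := congrArg Subtype.val hab
      have e1 := congrArg (B e) hab'
      have e2 := congrArg (B f) hab'
      simp [hee, hef] at e1
      simp [hff, hfe] at e2
      exact ⟨e1, e2⟩
    obtain ⟨a, b, hab⟩ := Submodule.mem_span_pair.1 (show (⟨x, hx⟩ : D i) ∈ Submodule.span F {⟨e, he⟩, ⟨f, hf.1⟩} by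
      have hs := hli.span_eq_top_of_card_eq_finrank (by rw [hd]; rfl)
      rw [show Set.range ![(⟨e, he⟩ : D i), ⟨f, hf.1⟩] = {⟨e, he⟩, ⟨f, hf.1⟩} by
        simp [Matrix.range_cons, Matrix.range_empty, Set.pair_comm]] at hs
      rw [hs]; trivial)
    have hab' : a • e + b • f = x := congrArg Subtype.val hab
    refine hne ?_
    rw [← hab']
    simp [hee, hef, hff, hfe]
  choose e f he hf hee hff hef hsp using hbasis
  have hfe : ∀ i, B (f i) (e i) = 0 := fun i => h.isRefl _ _ (hef i)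
  set S : Set (Fin n → F) := {x | ∃ i, x ∈ D i ∧ B x x ≠ 0}
  set K := Cfsg.stabilizing (Cfsg.glToMat (Fin n) F) S ⊓ (Cfsg.GU n F 2 ⊓ Cfsg.Geo.specialLinear (Fin n) F)
  have hto : ∀ v : Fin n → F, B v v = 0 → ∃ t : GL (Fin n) F, t ∈ Cfsg.GU n F 2 ⊓ Cfsg.Geo.specialLinear (Fin n) F ∧
      ∀ x, (t : Matrix (Fin n) (Fin n) F).mulVec x = x + B v x • v := fun v hv => by
    obtain ⟨g, hg⟩ := h.exists_uTv hN hv (c := 1) (by rw [map_one, one_add_one_eq_two, h2])
    refine ⟨CfsgLib.Classical.linToGL g.1, ⟨((CfsgLib.Classical.guEquiv hσ).symm g).2, ?_⟩, fun x => ?_⟩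
    · refine CfsgLib.Classical.mem_specialLinear_iff.2 ?_
      change (LinearMap.toMatrix' (g.1 : (Fin n → F) →ₗ[F] (Fin n → F))).det = 1
      rw [LinearMap.det_toMatrix']
      exact h.idet_uTv hg
    · rw [CfsgLib.Classical.linToGL_mulVec, hg.2.2, one_mul]
  have ht2 := hD.decomp.two_le
  set i₀ : Fin t := ⟨0, by omega⟩
  set i₁ : Fin t := ⟨1, by omega⟩
  have h01 : i₀ ≠ i₁ := by simp [i₀, i₁, Fin.ext_iff]
  have o01 : ∀ {u v}, u ∈ D i₀ → v ∈ D i₁ → B u v = 0 ∧ B v u = 0 := fun hu hv =>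
    ⟨horth _ _ h01 _ hu _ hv, horth _ _ h01.symm _ hv _ hu⟩
  refine ⟨K, lt_of_le_not_ge (fun g hg => ?_) fun hle => ?_, lt_of_le_not_ge inf_le_right fun hle => ?_⟩
  · obtain ⟨⟨τ, hτ⟩, hgK⟩ := Subgroup.mem_inf.1 hg
    refine Subgroup.mem_inf.2 ⟨fun x => ?_, hgK⟩
    have hlen : ∀ y, B ((g : Matrix (Fin n) (Fin n) F).mulVec y) ((g : Matrix (Fin n) (Fin n) F).mulVec y) = B y y :=
      fun y => (CfsgLib.Classical.mem_GU_iff hσ).1 hgK.1 y y
    constructor
    · rintro ⟨i, hi, hx⟩
      exact ⟨τ i, (hτ i).le ⟨x, hi, rfl⟩, (hlen x).symm ▸ hx⟩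
    · rintro ⟨i, hi, hx⟩
      obtain ⟨y, hy, hyx⟩ := (hτ (τ.symm i)).ge (by rw [Equiv.apply_symm_apply]; exact hi :
        (g : Matrix (Fin n) (Fin n) F).mulVec x ∈ D (τ (τ.symm i)))
      have : y = x := Matrix.mulVec_injective_iff_isUnit.2 g.isUnit hyx
      exact ⟨τ.symm i, this ▸ hy, fun e' => hx ((hlen x).trans e')⟩
  · -- a transposition of two lines from different members
    set v := e i₀ + e i₁ with hv
    have hvv : B v v = 0 := by
      simp only [hv, map_add, LinearMap.add_apply, hee, (o01 (he i₀) (he i₁)).1, (o01 (he i₀) (he i₁)).2]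
      linear_combination h2
    obtain ⟨s, hs, hsx⟩ := hto v hvv
    have hinv : ∀ x, (s : Matrix (Fin n) (Fin n) F).mulVec ((s : Matrix (Fin n) (Fin n) F).mulVec x) = x := fun x => by
      rw [hsx x, Matrix.mulVec_add, Matrix.mulVec_smul, hsx, hsx, hvv, zero_smul, add_zero, add_assoc, ← add_smul,
        ← two_mul, h2, zero_mul, zero_smul, add_zero]
    have hsS : ∀ x ∈ S, (s : Matrix (Fin n) (Fin n) F).mulVec x ∈ S := by
      rintro x ⟨i, hi, hx⟩
      rw [hsx]
      obtain ⟨a, b, rfl⟩ := hsp i x hi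
      by_cases ha : a = 0
      · subst ha
        have h0 : B v (f i) = 0 := by
          simp only [hv, map_add, LinearMap.add_apply]
          by_cases hi0 : i = i₀
          · subst hi0; rw [hef, horth _ _ h01.symm _ (he _) _ (hf _), add_zero]
          · by_cases hi1 : i = i₁
            · subst hi1; rw [hef, horth _ _ h01 _ (he _) _ (hf _), add_zero]
            · rw [horth _ _ (Ne.symm hi0) _ (he _) _ (hf _), horth _ _ (Ne.symm hi1) _ (he _) _ (hf _), add_zero]
        refine ⟨i, ?_, ?_⟩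
        · simpa [h0] using hi
        · simpa [h0] using hx
      · have hb : b = 0 := by
          by_contra hb
          apply hx
          rw [h.add_self, h.smul_self, h.smul_self, hee, hff, map_smul, map_smulₛₗ, LinearMap.smul_apply, hef]
          simp [hnorm a ha, hnorm b hb, one_add_one_eq_two, h2]
        subst hb
        rw [zero_smul, add_zero] at hi hx ⊢
        by_cases hi0 : i = i₀
        · subst hi0
          have key : a • e i₀ + B v (a • e i₀) • v = a • e i₁ := by
            have h1 : B v (e i₀) = 1 := by simp [hv, hee, (o01 (he i₀) (he i₁)).2]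
            rw [map_smul, h1, smul_eq_mul, mul_one, hv, smul_add, ← add_assoc, ← add_smul, ← two_mul, h2, zero_mul,
              zero_smul, zero_add]
          rw [key]
          exact ⟨i₁, (D i₁).smul_mem _ (he i₁), by rw [h.smul_self, hnorm a ha, hee, one_mul]; exact one_ne_zero⟩
        · by_cases hi1 : i = i₁
          · subst hi1
            have key : a • e i₁ + B v (a • e i₁) • v = a • e i₀ := by
              have h1 : B v (e i₁) = 1 := by simp [hv, hee, (o01 (he i₀) (he i₁)).1]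
              rw [map_smul, h1, smul_eq_mul, mul_one, hv, smul_add, add_left_comm, ← add_smul, ← two_mul, h2, zero_mul,
                zero_smul, add_zero]
            rw [key]
            exact ⟨i₀, (D i₀).smul_mem _ (he i₀), by rw [h.smul_self, hnorm a ha, hee, one_mul]; exact one_ne_zero⟩
          · have h0 : B v (e i) = 0 := by
              simp only [hv, map_add, LinearMap.add_apply]
              rw [horth _ _ (Ne.symm hi0) _ (he _) _ (he _), horth _ _ (Ne.symm hi1) _ (he _) _ (he _), add_zero]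
            exact ⟨i, by simpa [h0] using hi, by simpa [h0] using hx⟩
    have hsK : s ∈ K := Subgroup.mem_inf.2 ⟨fun x => ⟨hsS x, fun hx => hinv x ▸ hsS _ hx⟩, hs⟩
    obtain ⟨⟨τ, hτ⟩, -⟩ := Subgroup.mem_inf.1 (hle hsK)
    have e1 : Matrix.toLin' (s : Matrix (Fin n) (Fin n) F) (f i₀) = f i₀ := by
      rw [Matrix.toLin'_apply, hsx]
      simp [hv, hef, horth _ _ h01.symm _ (he i₁) _ (hf i₀)]
    have e2 : Matrix.toLin' (s : Matrix (Fin n) (Fin n) F) (e i₀) = e i₁ := by
      rw [Matrix.toLin'_apply, hsx]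
      simp only [hv, map_add, LinearMap.add_apply, hee, horth _ _ h01.symm _ (he i₁) _ (he i₀), add_zero, one_smul]
      rw [← add_assoc, ← two_smul F (e i₀), h2, zero_smul, zero_add]
    have m1 := hunique _ _ _ (e1 ▸ (hτ i₀).le ⟨_, hf i₀, rfl⟩) (hf i₀) (by rw [hff]; exact one_ne_zero)
    have m2 := hunique _ _ _ (e2 ▸ (hτ i₀).le ⟨_, he i₀, rfl⟩) (he i₁) (by rw [hee]; exact one_ne_zero)
    exact h01 (m1.symm.trans m2)
  · set w := e i₀ + f i₀ + (e i₁ + f i₁) with hw
    have hsum : B w (e i₀) = 1 := by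
      simp [hw, hee, hfe, horth _ _ h01.symm _ (he i₁) _ (he i₀), horth _ _ h01.symm _ (hf i₁) _ (he i₀)]
    have hww : B w w = 0 := by
      simp only [hw, map_add, LinearMap.add_apply, hee, hff, hef, hfe, (o01 (he i₀) (he i₁)).1, (o01 (he i₀) (he i₁)).2,
        (o01 (he i₀) (hf i₁)).1, (o01 (he i₀) (hf i₁)).2, (o01 (hf i₀) (he i₁)).1, (o01 (hf i₀) (he i₁)).2,
        (o01 (hf i₀) (hf i₁)).1, (o01 (hf i₀) (hf i₁)).2]
      linear_combination (2 : F) * h2
    obtain ⟨s, hs, hsx⟩ := hto w hww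
    obtain ⟨i, hi, -⟩ := ((Subgroup.mem_inf.1 (hle hs)).1 (e i₀)).1 ⟨i₀, he i₀, by rw [hee]; exact one_ne_zero⟩
    change (s : Matrix (Fin n) (Fin n) F).mulVec (e i₀) ∈ D i at hi
    rw [hsx, hsum, one_smul, hw] at hi
    by_cases hi0 : i = i₀
    · subst hi0
      have := horth _ _ h01.symm _ (he i₁) _ hi
      simp [hee, hef, (o01 (he i₀) (he i₁)).2, (o01 (hf i₀) (he i₁)).2] at this
    · have := horth _ _ (Ne.symm hi0) _ (hf i₀) _ hi
      simp [hff, hfe, (o01 (hf i₀) (he i₁)).1, (o01 (hf i₀) (hf i₁)).1] at this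

end Cfsg.Agent.S5656
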