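import Cfsg.Statements.S5657
import Cfsg.Agent.Lib.Classical.RootPair

set_option autoImplicit false
open Cfsg

namespace Cfsg.Agent.S5657

/-- Let F be the field with q² elements and n = 2k ≥ 13. Let D be a decomposition of F^n into two complementary subspaces of dimension k on each of which the standard unitary form vanishes identically. Then the elements of SU_n(q) preserving or interchanging the two subspaces form a maximal subgroup of SU_n(q). -/
theorem result {F : Type*} [Field F] [Fintype F] (n q : ℕ) (hF : Fintype.card F = q ^ 2) (hn : 13 ≤ n) (k : ℕ) (hk : 2 * k = n) (D : Fin 2 → Submodule F (Fin n → F)) (hD : Cfsg.Geo.IsMDecomposition k D) (hts : ∀ i, Cfsg.Geo.IsTotallySingularFor (Cfsg.hermForm n F q) (D i)) : Cfsg.Geo.IsMaximalIn (Cfsg.GU n F q ⊓ Cfsg.Geo.specialLinear (Fin n) F) (Cfsg.Geo.decompositionStabilizer D ⊓ (Cfsg.GU n F q ⊓ Cfsg.Geo.specialLinear (Fin n) F)) := by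
  classical
  obtain ⟨σ, hσ, hc⟩ := CfsgLib.Classical.exists_frob hF
  have hh := CfsgLib.Classical.stdHerm_isHermitian hc n
  have hN := CfsgLib.Classical.stdHerm_sepRight (σ := σ) n
  set B := CfsgLib.Classical.stdHerm σ n with hBdef
  have h : CfsgLib.Classical.IsEpsForm B (-1 : F) := by
    refine ⟨hc.invol, by ring, by simp, fun x y => by rw [hh.symm x y]; ring, hN, ?_, ?_⟩
    · obtain ⟨μ, hμ⟩ := hc.exists_trace_eq (a := (1 : F)) (map_one σ)
      exact ⟨μ, by rw [hμ]; exact one_ne_zero⟩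
    · obtain ⟨c, hc0, hc'⟩ := hc.exists_trace_zero
      exact ⟨c, hc0, by linear_combination hc'⟩
  have hts' : ∀ i, ∀ x ∈ D i, ∀ y ∈ D i, B x y = 0 := fun i x hx y hy => by
    rw [hBdef, ← CfsgLib.Classical.hermForm_eq_stdHerm hσ]; exact hts i y hy x hx
  have hP : CfsgLib.Classical.IsoPair B (D 0) (D 1) :=
    ⟨hts' 0, hts' 1,
      eq_top_iff.2 (hD.iSup_eq_top ▸ iSup_le (Fin.forall_fin_two.2 ⟨le_sup_left, le_sup_right⟩)),
      disjoint_iff.1 (hD.indep.pairwiseDisjoint (by decide : (0 : Fin 2) ≠ 1)),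
      (hD.finrank_eq 0).trans (hD.finrank_eq 1).symm⟩
  have hk5 : 5 ≤ Module.finrank F (D 0) := by rw [hD.finrank_eq]; omega
  have hS : ∀ (g : CfsgLib.Classical.isomGroup B) a b c, CfsgLib.Classical.IsRt (-1 : F) g a b c → B b b = 0 →
      g ∈ CfsgLib.Classical.sIsom B := fun g a b c hg hb =>
    MonoidHom.mem_ker.2 (hg.det_eq_one hb (h.orth_symm' hg.2.1))
  refine CfsgLib.Classical.gu_isMaximalIn hσ _ (fun g : CfsgLib.Classical.isomGroup B =>
      (((D 0).map g.1.toLinearMap = D 0 ∧ (D 1).map g.1.toLinearMap = D 1) ∨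
        ((D 0).map g.1.toLinearMap = D 1 ∧ (D 1).map g.1.toLinearMap = D 0))) (fun g => ?_) ?_ ?_
  · have e : Matrix.toLin' (CfsgLib.Classical.linToGL g.1 : Matrix (Fin n) (Fin n) F) = g.1.toLinearMap :=
      LinearMap.ext fun x => by rw [Matrix.toLin'_apply]; exact CfsgLib.Classical.linToGL_mulVec g.1 x
    change (∃ τ : Equiv.Perm (Fin 2), ∀ i,
      (D i).map (Matrix.toLin' (CfsgLib.Classical.linToGL g.1 : Matrix (Fin n) (Fin n) F)) = D (τ i)) ↔ _
    rw [e]
    exact CfsgLib.Classical.perm_two_iff D g.1.toLinearMap hP.inf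
  · obtain ⟨g, hg, hgP⟩ := h.exists_not_perm hP (by omega) hS
    exact ⟨g, MonoidHom.mem_ker.1 hg, hgP⟩
  · intro M hM g hg hgP
    have hax := h.pair_axes hP hk5 hS (M := M) (fun t ht hp => hM t (MonoidHom.mem_ker.1 ht) hp) hg hgP
    refine hh.sIsom_le_of_axes hN (by rw [Module.finrank_fin_fun]; omega) fun v _ t c ht => hax v c t
      ⟨ht.1, by simp, ?_, fun x => ?_⟩
    · simp only [map_zero, add_zero, neg_one_mul, sub_neg_eq_add]
      linear_combination ht.2.1
    · rw [ht.2.2]; simp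

end Cfsg.Agent.S5657
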