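import Cfsg.Statements.S5658
import Cfsg.Agent.Lib.Classical.SubfieldMax.HermReduce
import Cfsg.Agent.Lib.Classical.SubfieldMax.Member

set_option autoImplicit false
open Cfsg

namespace Cfsg.Agent.S5658

/-- Let F be the field with q² elements, n ≥ 13, and F₀ a subfield with |F| = |F₀| ^ r for an odd prime r. Let P be an invertible matrix such that the standard unitary form takes values in F₀ on the F₀-span of the columns of P. Then the elements of SU_n(q) lying in the subfield group of P (the conjugate by P of the product of GL_n(F₀) with the scalars) form a maximal subgroup of SU_n(q). -/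
theorem result {F : Type*} [Field F] [Fintype F] (n q : ℕ) (hF : Fintype.card F = q ^ 2) (hn : 13 ≤ n) (F₀ : Subfield F) (r : ℕ) (hr : r.Prime) (hro : Odd r) (hcard : Fintype.card F = Nat.card F₀ ^ r) (P : Matrix.GeneralLinearGroup (Fin n) F) (hP : Cfsg.Geo.IsFormRationalStructure (Cfsg.hermForm n F q) F₀ 1 P) : Cfsg.Geo.IsMaximalIn (Cfsg.GU n F q ⊓ Cfsg.Geo.specialLinear (Fin n) F) (Cfsg.Geo.subfieldSubgroup F₀ P ⊓ (Cfsg.GU n F q ⊓ Cfsg.Geo.specialLinear (Fin n) F)) := by
  classical
  obtain ⟨σ, hσ, hc⟩ := CfsgLib.Classical.exists_frob hF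
  have hr2 : r ≠ 2 := by rintro rfl; exact absurd hro (by decide)
  have hr3 : 3 ≤ r := by have := hr.two_le; omega
  -- the fixed elements of `σ`
  have hfixcard : Nat.card {x : F // σ x = x} = q := by
    have h1 := (CfsgLib.Classical.frob_cards hF hσ hc).1
    have h2 : 1 ≤ q := by have := CfsgLib.Classical.two_le_of_card_sq hF; omega
    let K : Subfield F := σ.eqLocusField (RingHom.id F)
    have e1 : Nat.card {x : F // σ x = x} = Nat.card K := Nat.card_congr (Equiv.subtypeEquivRight fun x => Iff.rfl)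
    haveI := Fintype.ofFinite K
    have e2 : Nat.card Kˣ = Nat.card (CfsgLib.Classical.fixedUnits σ) := by
      refine Nat.card_congr
        { toFun := fun u => ⟨Units.map (K.subtype : K →* F) u, (u : K).2⟩
          invFun := fun u => ⟨⟨(u.1 : F), u.2⟩, ⟨((u.1⁻¹ : Fˣ) : F), (inv_mem u.2 : u.1⁻¹ ∈ CfsgLib.Classical.fixedUnits σ)⟩,
            Subtype.ext (by simp), Subtype.ext (by simp)⟩
          left_inv := fun u => Units.ext (Subtype.ext rfl)
          right_inv := fun u => Subtype.ext (Units.ext rfl) }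
    rw [Nat.card_units, h1] at e2
    have := Nat.card_pos (α := K)
    omega
  obtain ⟨lam, hlamfix, hlam⟩ : ∃ lam : F, σ lam = lam ∧ lam ∉ F₀ := by
    by_contra h
    push Not at h
    have h1 : q ≤ Nat.card F₀ := hfixcard ▸ Nat.card_le_card_of_injective
      (fun x : {x : F // σ x = x} => (⟨x.1, h x.1 x.2⟩ : F₀)) (fun a b e => Subtype.ext (congrArg (fun z : F₀ => (z : F)) e))
    have h2 : q ^ r ≤ q ^ 2 := hF ▸ hcard ▸ Nat.pow_le_pow_left h1 r
    have h3 := (Nat.pow_le_pow_iff_right (CfsgLib.Classical.two_le_of_card_sq hF)).1 h2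
    omega
  have hstable : ∀ c ∈ F₀, σ c ∈ F₀ := fun c hc' => by rw [hσ]; exact pow_mem hc' q
  have htw : ∃ c ∈ F₀, σ c ≠ c := by
    by_contra h
    push Not at h
    have hall : ∀ x : F, σ x = x := CfsgLib.Classical.SubfieldMax.eq_top_of_prime_degree hr hcard
      (σ.eqLocus (RingHom.id F)) (fun c hc' => h c hc') (μ := lam) hlamfix hlam
    exact hc.ne_id (RingHom.ext hall)
  obtain ⟨d, hd, hd'⟩ := htw
  let B := CfsgLib.Classical.stdHerm σ n
  let Pm : Matrix (Fin n) (Fin n) F := P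
  let Pi' : Matrix (Fin n) (Fin n) F := ((P⁻¹ : GL (Fin n) F) : Matrix _ _ F)
  have hPP : ∀ x, Pm.mulVec (Pi'.mulVec x) = x := fun x => by
    rw [Matrix.mulVec_mulVec, ← Units.val_mul, mul_inv_cancel, Units.val_one, Matrix.one_mulVec]
  have hPP' : ∀ x, Pi'.mulVec (Pm.mulVec x) = x := fun x => by
    rw [Matrix.mulVec_mulVec, ← Units.val_mul, inv_mul_cancel, Units.val_one, Matrix.one_mulVec]
  let V₀ : Submodule F₀ (Fin n → F) :=
    { carrier := {x | ∀ i, Pi'.mulVec x i ∈ F₀}
      add_mem' := fun {a b} ha hb i => by rw [Matrix.mulVec_add]; exact add_mem (ha i) (hb i)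
      zero_mem' := fun i => by rw [Matrix.mulVec_zero]; exact zero_mem F₀
      smul_mem' := fun c a ha i => by
        rw [CfsgLib.Classical.SubfieldMax.coe_smul_eq, Matrix.mulVec_smul]; exact mul_mem c.2 (ha i) }
  have hcol : ∀ j, Pm.mulVec (Pi.single j 1) ∈ V₀ := fun j i => by
    rw [hPP', Pi.single_apply]; split_ifs <;> [exact one_mem F₀; exact zero_mem F₀]
  have hR : CfsgLib.Classical.SubfieldMax.IsHFrame B V₀ (d - σ d) := by
    refine ⟨CfsgLib.Classical.stdHerm_isHermitian hc n, CfsgLib.Classical.stdHerm_sepRight n, hstable, ⟨d, hd, hd'⟩,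
      sub_mem hd (hstable d hd), sub_ne_zero.2 (Ne.symm hd'), by rw [map_sub, hc.invol, neg_sub], fun u hu v hv => ?_,
      eq_top_iff.2 fun x _ => ?_⟩
    · have h := hP _ _ hv hu
      rw [one_mul] at h
      rwa [hPP, hPP, CfsgLib.Classical.hermForm_eq_stdHerm hσ] at h
    · rw [show x = ∑ j, Pi'.mulVec x j • Pm.mulVec (Pi.single j 1) by
        rw [← (Finset.sum_congr rfl fun j _ => Matrix.mulVec_smul Pm (Pi'.mulVec x j) (Pi.single j 1)),
          ← Matrix.mulVec_sum]
        conv_lhs => rw [← hPP x]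
        congr 1
        ext i; simp [Finset.sum_apply, Pi.single_apply]]
      exact Submodule.sum_mem _ fun j _ => Submodule.smul_mem _ _ (Submodule.subset_span (hcol j))
  have hdim : 13 ≤ Module.finrank F₀ V₀ :=
    le_trans (by rw [Module.finrank_fin_fun]; omega) hR.finrank_le
  have hP' : ∀ g : CfsgLib.Classical.isomGroup B, CfsgLib.Classical.linToGL g.1 ∈ Geo.subfieldSubgroup F₀ P ↔
      ∃ s : F, s ≠ 0 ∧ ∀ f ∈ V₀, s • g.1 f ∈ V₀ := by
    intro g
    rw [CfsgLib.Classical.SubfieldMax.mem_subfieldSubgroup_iff]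
    refine exists_congr fun c => and_congr_right fun _ => ⟨fun h f hf i => ?_, fun h a b => ?_⟩
    · have e : Pi'.mulVec (c • g.1 f) =
          (c • ((P⁻¹ * CfsgLib.Classical.linToGL g.1 * P : GL (Fin n) F) : Matrix _ _ F)).mulVec (Pi'.mulVec f) := by
        rw [Matrix.mulVec_smul, Matrix.smul_mulVec, Units.val_mul, Units.val_mul, ← Matrix.mulVec_mulVec,
          ← Matrix.mulVec_mulVec, show (P : Matrix _ _ F).mulVec (Pi'.mulVec f) = f from hPP f,
          CfsgLib.Classical.linToGL_mulVec]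
      rw [e]
      simp only [Matrix.mulVec, dotProduct]
      refine Subfield.sum_mem _ fun j _ => mul_mem ?_ (hf j)
      exact h i j
    · have := h _ (hcol b) a
      rw [Matrix.mulVec_smul, Pi.smul_apply, ← CfsgLib.Classical.linToGL_mulVec, Matrix.mulVec_mulVec,
        Matrix.mulVec_mulVec, Matrix.mulVec_single_one] at this
      rw [Units.val_mul, Units.val_mul]
      exact this
  refine CfsgLib.Classical.gu_isMaximalIn hσ _ (fun g => ∃ s : F, s ≠ 0 ∧ ∀ f ∈ V₀, s • g.1 f ∈ V₀) hP' ?_ ?_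
  · obtain ⟨u, -, hu0, huu⟩ := hR.exists_iso_in ⊤ (by rw [finrank_top]; omega)
    obtain ⟨v, hvv, huv, -⟩ := hR.exists_iso_partner huu [] (by simp) (by simpa using hu0)
    have hvu : B (v : _ → F) (u : _ → F) = 1 := by rw [← hR.symm, huv, map_one]
    refine ⟨hR.hTv (u : _ → F) lam, hR.herm.idet_uTv (hR.hTv_isUTv huu hlamfix), fun ⟨s, hs, hsV⟩ => ?_⟩
    have h1 := hR.form _ v.2 _ (hsV _ u.2)
    rw [hR.hTv_apply huu hlamfix, huu, mul_zero, zero_smul, add_zero, map_smul, hvu, smul_eq_mul, mul_one] at h1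
    have h2 := hR.form _ v.2 _ (hsV _ v.2)
    rw [hR.hTv_apply huu hlamfix, huv, mul_one, map_smul, map_add, map_smul, hvv, hvu, zero_add, smul_eq_mul,
      smul_eq_mul, mul_one] at h2
    have h3 := div_mem h2 (mul_mem h1 hR.eps_mem)
    refine hlam ?_
    rwa [← mul_assoc, mul_div_cancel_left₀ _ (mul_ne_zero hs hR.eps_ne)] at h3
  · intro M hM g hg hgP
    refine CfsgLib.Classical.SubfieldMax.herm_top (hR := hR) (M := M) ?_ (by omega) hr hcard
      (by rw [Module.finrank_fin_fun]; omega) hg hgP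
    intro u hu huu t ht htf
    refine hM _ (hR.herm.idet_uTv (hR.hTv_isUTv huu htf)) ⟨1, one_ne_zero, fun f hf => ?_⟩
    rw [one_smul, hR.hTv_apply huu htf]
    exact add_mem hf (CfsgLib.Classical.SubfieldMax.smul_mem' (mul_mem (mul_mem hR.eps_mem ht) (hR.form u hu f hf)) hu)

end Cfsg.Agent.S5658
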