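import Cfsg.Statements.S5660
import Cfsg.Agent.Lib.Classical.SubfieldOrth.Symp
import Cfsg.Agent.Lib.Classical.SubfieldMax.Main
import Cfsg.Agent.Lib.Classical.SubfieldMax.Member
-- import your own Cfsg.Agent.* helpers here

set_option autoImplicit false
open Cfsg

namespace Cfsg.Agent.S5660

/-- Let F be the field with q² elements, n ≥ 13 even, and F₀ the subfield with q elements. Let ζ be a non-zero element with ζ + ζ^q = 0 and P an invertible matrix such that ζ times the standard unitary form takes values in F₀ on the F₀-span of the columns of P and the form vanishes on every pair (u, u) of that span (so ζ times the form restricts to a non-degenerate alternating form there). Then the elements of SU_n(q) lying in the subfield group of P form a maximal subgroup of SU_n(q). -/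
theorem result {F : Type*} [Field F] [Fintype F] (n q : ℕ) (hF : Fintype.card F = q ^ 2) (hn : 13 ≤ n) (heven : Even n) (F₀ : Subfield F) (hcard : Fintype.card F = Nat.card F₀ ^ 2) (ζ : F) (hζ0 : ζ ≠ 0) (hζ : ζ + ζ ^ q = 0) (P : Matrix.GeneralLinearGroup (Fin n) F) (hP : Cfsg.Geo.IsFormRationalStructure (Cfsg.hermForm n F q) F₀ ζ P) (halt : ∀ u : Fin n → F, (∀ i, u i ∈ F₀) → Cfsg.hermForm n F q (Matrix.mulVec (P : Matrix (Fin n) (Fin n) F) u) (Matrix.mulVec (P : Matrix (Fin n) (Fin n) F) u) = 0) : Cfsg.Geo.IsMaximalIn (Cfsg.GU n F q ⊓ Cfsg.Geo.specialLinear (Fin n) F) (Cfsg.Geo.subfieldSubgroup F₀ P ⊓ (Cfsg.GU n F q ⊓ Cfsg.Geo.specialLinear (Fin n) F)) := by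
  classical
  obtain ⟨σ, hσ, hc⟩ := CfsgLib.Classical.exists_frob hF
  -- the subfield is the fixed field
  have hq : Nat.card F₀ = q := by
    have h1 : Nat.card F₀ ^ 2 = q ^ 2 := hcard ▸ hF
    exact Nat.pow_left_injective (by norm_num) h1
  haveI := Fintype.ofFinite F₀
  have hfix₁ : ∀ c ∈ F₀, σ c = c := fun c hc' => by
    have h := FiniteField.pow_card (⟨c, hc'⟩ : F₀)
    rw [← Nat.card_eq_fintype_card, hq] at h
    rw [hσ]
    exact congrArg Subtype.val h
  have hfix : ∀ c, c ∈ F₀ ↔ σ c = c := by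
    refine fun c => ⟨hfix₁ c, fun hc' => ?_⟩
    by_contra hcn
    refine hc.ne_id (RingHom.ext fun x => ?_)
    exact CfsgLib.Classical.SubfieldMax.eq_top_of_prime_degree Nat.prime_two hcard
      (σ.eqLocus (RingHom.id F)) (fun c hc' => hfix₁ c hc') (μ := c) hc' hcn x
  obtain ⟨d, hd⟩ : ∃ d, σ d ≠ d := by
    by_contra h
    push Not at h
    exact hc.ne_id (RingHom.ext h)
  let B := CfsgLib.Classical.stdHerm σ n
  let Pm : Matrix (Fin n) (Fin n) F := P
  let Pi' : Matrix (Fin n) (Fin n) F := ((P⁻¹ : GL (Fin n) F) : Matrix _ _ F)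
  have hPP : ∀ x, Pm.mulVec (Pi'.mulVec x) = x := fun x => by
    rw [Matrix.mulVec_mulVec, ← Units.val_mul, mul_inv_cancel, Units.val_one, Matrix.one_mulVec]
  have hPP' : ∀ x, Pi'.mulVec (Pm.mulVec x) = x := fun x => by
    rw [Matrix.mulVec_mulVec, ← Units.val_mul, inv_mul_cancel, Units.val_one, Matrix.one_mulVec]
  let V₀ : Submodule F₀ (Fin n → F) :=
    { carrier := {x | ∀ i, Pi'.mulVec x i ∈ F₀}
      add_mem' := fun {a b} ha hb i => by rw [Matrix.mulVec_add]; exact add_mem (ha i) (hb i)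
      zero_mem' := fun i => by rw [Matrix.mulVec_zero]; exact zero_mem F₀
      smul_mem' := fun c a ha i => by
        rw [CfsgLib.Classical.SubfieldMax.coe_smul_eq, Matrix.mulVec_smul]; exact mul_mem c.2 (ha i) }
  have hcol : ∀ j, Pm.mulVec (Pi.single j 1) ∈ V₀ := fun j i => by
    rw [hPP', Pi.single_apply]; split_ifs <;> [exact one_mem F₀; exact zero_mem F₀]
  have hR : CfsgLib.Classical.SubfieldOrth.IsAFrame B V₀ ζ d := by
    refine ⟨CfsgLib.Classical.stdHerm_isHermitian hc n, CfsgLib.Classical.stdHerm_sepRight n, hfix, hd, hζ0,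
      by rw [hσ]; linear_combination hζ, fun u hu v hv => ?_, fun u hu => ?_, eq_top_iff.2 fun x _ => ?_⟩
    · have h := hP _ _ hv hu
      rwa [hPP, hPP, CfsgLib.Classical.hermForm_eq_stdHerm hσ] at h
    · have h := halt (Pi'.mulVec u) hu
      rwa [hPP, CfsgLib.Classical.hermForm_eq_stdHerm hσ] at h
    · rw [show x = ∑ j, Pi'.mulVec x j • Pm.mulVec (Pi.single j 1) by
        rw [← (Finset.sum_congr rfl fun j _ => Matrix.mulVec_smul Pm (Pi'.mulVec x j) (Pi.single j 1)),
          ← Matrix.mulVec_sum]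
        conv_lhs => rw [← hPP x]
        congr 1
        ext i; simp [Finset.sum_apply, Pi.single_apply]]
      exact Submodule.sum_mem _ fun j _ => Submodule.smul_mem _ _ (Submodule.subset_span (hcol j))
  have hP' : ∀ g : CfsgLib.Classical.isomGroup B, CfsgLib.Classical.linToGL g.1 ∈ Geo.subfieldSubgroup F₀ P ↔
      ∃ s : F, s ≠ 0 ∧ ∀ f ∈ V₀, s • g.1 f ∈ V₀ := by
    intro g
    rw [CfsgLib.Classical.SubfieldMax.mem_subfieldSubgroup_iff]
    refine exists_congr fun c => and_congr_right fun _ => ⟨fun h f hf i => ?_, fun h a b => ?_⟩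
    · have e : Pi'.mulVec (c • g.1 f) =
          (c • ((P⁻¹ * CfsgLib.Classical.linToGL g.1 * P : GL (Fin n) F) : Matrix _ _ F)).mulVec (Pi'.mulVec f) := by
        rw [Matrix.mulVec_smul, Matrix.smul_mulVec, Units.val_mul, Units.val_mul, ← Matrix.mulVec_mulVec,
          ← Matrix.mulVec_mulVec, show (P : Matrix _ _ F).mulVec (Pi'.mulVec f) = f from hPP f,
          CfsgLib.Classical.linToGL_mulVec]
      rw [e]
      simp only [Matrix.mulVec, dotProduct]
      refine Subfield.sum_mem _ fun j _ => mul_mem ?_ (hf j)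
      exact h i j
    · have := h _ (hcol b) a
      rw [Matrix.mulVec_smul, Pi.smul_apply, ← CfsgLib.Classical.linToGL_mulVec, Matrix.mulVec_mulVec,
        Matrix.mulVec_mulVec, Matrix.mulVec_single_one] at this
      rw [Units.val_mul, Units.val_mul]
      exact this
  refine CfsgLib.Classical.gu_isMaximalIn hσ _ (fun g => ∃ s : F, s ≠ 0 ∧ ∀ f ∈ V₀, s • g.1 f ∈ V₀) hP' ?_ ?_
  · obtain ⟨a, ha⟩ : ∃ a : V₀, a ≠ 0 := ⟨⟨_, hcol ⟨0, by omega⟩⟩, fun e => by
      have e' : Pm.mulVec (Pi.single (⟨0, by omega⟩ : Fin n) 1) = 0 := congrArg Subtype.val e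
      have := hPP' (Pi.single (⟨0, by omega⟩ : Fin n) 1)
      rw [e', Matrix.mulVec_zero] at this
      simpa using congrFun this (⟨0, by omega⟩ : Fin n)⟩
    obtain ⟨b, hab⟩ : ∃ b : V₀, B (a : _ → F) (b : _ → F) ≠ 0 := by
      by_contra h
      push Not at h
      exact ha (Subtype.ext (hR.sep fun u hu => hR.herm.isRefl _ _ (h ⟨u, hu⟩)))
    -- a transvection at a nonrational isotropic vector
    obtain ⟨x₁, hx₁, hax₁⟩ : ∃ x₁ : V₀, x₁ ∉ Submodule.span F₀ {a} ∧ B (a : _ → F) (x₁ : _ → F) = 0 := by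
      by_contra h
      push Not at h
      have h1 := (hR.pair a).finrank_range_add_finrank_ker
      have h2 : Module.finrank F₀ (LinearMap.range (hR.pair a)) ≤ 1 := (Submodule.finrank_le _).trans (by simp)
      have h3 : LinearMap.ker (hR.pair a) ≤ Submodule.span F₀ {a} := fun x hx => by
        by_contra hx'
        exact h x hx' (hR.pair_eq_zero.1 hx)
      have h4 := Submodule.finrank_mono h3
      rw [finrank_span_singleton ha] at h4
      have h5 : n ≤ Module.finrank F₀ V₀ := by
        have hsub : (V₀ : Set (Fin n → F)) ⊆ Submodule.span F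
            (Set.range fun i => ((Module.finBasis F₀ V₀ i : V₀) : Fin n → F)) := by
          intro u hu
          have e := congrArg Subtype.val ((Module.finBasis F₀ V₀).sum_repr ⟨u, hu⟩)
          simp only [Submodule.coe_sum, SetLike.val_smul] at e
          rw [← e]
          exact Submodule.sum_mem _ fun i _ => Submodule.smul_mem _ _ (Submodule.subset_span ⟨i, rfl⟩)
        have htop := eq_top_iff.2 (hR.spans ▸ Submodule.span_le.2 hsub)
        have := finrank_range_le_card (R := F) fun i => ((Module.finBasis F₀ V₀ i : V₀) : Fin n → F)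
        rw [Set.finrank, htop, finrank_top, Fintype.card_fin, Module.finrank_fin_fun] at this
        exact this
      omega
    set x : Fin n → F := (a : _ → F) + d • (x₁ : _ → F) with hx
    have hxx : B x x = 0 := by
      simp [hx, hR.alt _ a.2, hR.alt _ x₁.2, hax₁, hR.herm.isRefl _ _ hax₁]
    obtain ⟨t, ht⟩ := hR.herm.exists_uTv hR.nondeg (v := x) (c := ζ) hxx (by rw [hR.zeta_tr, add_neg_cancel])
    refine ⟨t, hR.herm.idet_uTv ht, fun ⟨s, hs, hsV⟩ => ?_⟩
    obtain ⟨b', hab', hxb'⟩ : ∃ b' : V₀, B (a : _ → F) (b' : _ → F) = 0 ∧ B (x₁ : _ → F) (b' : _ → F) ≠ 0 := by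
      have h0 : x₁ ∉ Submodule.span F₀ {a} := hx₁
      obtain ⟨c', h1, h2, -⟩ := hR.exists_common h0 h0
      exact ⟨c', h1, h2⟩
    -- a fixed vector makes the scalar rational
    have hperp : B x (a : _ → F) = 0 := by
      simp [hx, hR.alt _ a.2, hR.herm.isRefl _ _ hax₁]
    have h1 := hsV _ a.2
    rw [ht.2.2, hperp, mul_zero, zero_smul, add_zero] at h1
    have hs' : s ∈ F₀ := by
      have h := hR.form _ h1 _ b.2
      rw [map_smulₛₗ, LinearMap.smul_apply, smul_eq_mul, ← mul_assoc, mul_comm ζ, mul_assoc] at h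
      have h0 := div_mem h (hR.form _ a.2 _ b.2)
      rw [mul_div_cancel_right₀ _ (mul_ne_zero hR.zeta_ne hab)] at h0
      exact (hfix _).2 (by have := (hfix _).1 h0; rw [hc.invol] at this; exact this.symm)
    have h2 := hsV _ b'.2
    have h3 : (ζ * B x (b' : _ → F)) • x ∈ V₀ := by
      have e : s • t.1 (b' : _ → F) - s • (b' : _ → F) = s • ((ζ * B x (b' : _ → F)) • x) := by
        rw [ht.2.2, smul_add, add_sub_cancel_left]
      have h4 := V₀.sub_mem h2 (CfsgLib.Classical.SubfieldMax.smul_mem' hs' b'.2)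
      rw [e] at h4
      have h5 := CfsgLib.Classical.SubfieldMax.smul_mem' (inv_mem hs') h4
      rwa [inv_smul_smul₀ hs] at h5
    -- the coefficient is a nonzero multiple of the moved scalar
    have hk : ζ * B x (b' : _ → F) = σ d * (ζ * B (x₁ : _ → F) (b' : _ → F)) := by
      simp [hx, hab']; ring
    obtain ⟨k₀, k₁, hk01⟩ := hR.scalar_decomp (ζ * B x (b' : _ → F))
    obtain ⟨l₀, l₁, hl⟩ := hR.scalar_decomp (ζ * B x (b' : _ → F) * d)
    have hz := hR.vec_zero (a := k₀ • a + l₀ • x₁ - ⟨_, h3⟩) (b := k₁ • a + l₁ • x₁) (by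
      simp only [Submodule.coe_add, Submodule.coe_sub, SetLike.val_smul, CfsgLib.Classical.SubfieldMax.coe_smul_eq]
      rw [hx, smul_add, smul_smul, ← hl, ← hk01]
      module)
    have hk1 : k₁ = 0 := by
      by_contra hk1
      refine hx₁ ?_
      by_cases hl1 : l₁ = 0
      · rw [hl1, zero_smul, add_zero] at hz
        exact absurd ((smul_eq_zero.1 hz.2).resolve_left hk1) ha
      · exact Submodule.mem_span_singleton.2 ⟨-(k₁ / l₁), by
          rw [neg_smul, div_eq_inv_mul, mul_smul, eq_neg_of_add_eq_zero_left hz.2, smul_neg, inv_smul_smul₀ hl1, neg_neg]⟩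
    have hmem : ζ * B x (b' : _ → F) ∈ F₀ := by
      rw [← hk01, hk1]
      simp
    rw [hk] at hmem
    have h6 := div_mem hmem (hR.form _ x₁.2 _ b'.2)
    rw [mul_div_cancel_right₀ _ (mul_ne_zero hR.zeta_ne hxb')] at h6
    exact hd ((hfix d).1 ((hfix d).2 (hc.invol d ▸ (hfix _).1 h6).symm))
  · intro M hM g hg hgP
    refine hR.symp_top (M := M) (fun u hu g' c hg' => ?_) (by rw [Module.finrank_fin_fun]; omega) hg hgP
    refine hM g' (hR.herm.idet_uTv hg') ⟨1, one_ne_zero, fun f hf => ?_⟩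
    rw [one_smul, hg'.2.2]
    exact add_mem hf (CfsgLib.Classical.SubfieldMax.smul_mem' (hR.coeff_mem hg'.2.1 hu hf) hu)

end Cfsg.Agent.S5660
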