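import Cfsg.Statements.S5662
import Cfsg.Agent.Lib.Classical.AschSp.Classes

set_option autoImplicit false
open Cfsg

namespace Cfsg.Agent.S5662

/-- Subgroup structure of the finite symplectic groups. Let F be a finite field and m ≥ 2 with (m, |F|) ≠ (2, 2), and let Sp_2m(F) be the group of invertible matrices preserving the standard alternating form on F^(2m). Let H be a subgroup of Sp_2m(F) whose product with the scalar matrices ±1 is not all of Sp_2m(F) (H does not cover PSp_2m(F)). Then either H is contained in a member of one of the eight geometric classes of subgroups of Sp_2m(F) (with the conditions built into InSymplecticClass), or H is in the residual class: modulo scalars it is almost simple, and the perfect preimage of its socle acts absolutely irreducibly, is realisable over no proper subfield, and fixes no non-degenerate quadratic form and no non-degenerate unitary form on F^(2m).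 -/
theorem result {F : Type*} [Field F] [Fintype F] (m : ℕ) (hm : 2 ≤ m) (hex : ¬ (m = 2 ∧ Fintype.card F = 2)) (H : Subgroup (Matrix.GeneralLinearGroup (Fin m ⊕ Fin m) F)) (hH : H ≤ Cfsg.spGL m F) (hproper : H ⊔ (Cfsg.Geo.scalars (Fin m ⊕ Fin m) F ⊓ Cfsg.spGL m F) ≠ Cfsg.spGL m F) : (∃ M : Subgroup (Matrix.GeneralLinearGroup (Fin m ⊕ Fin m) F), Cfsg.Geo.InSymplecticClass m F M ∧ H ≤ M) ∨ Cfsg.Geo.InSymplecticResidualClass H := by
  classical
  rcases CfsgLib.Classical.AschSp.sp_le (d := 2 * m) (by simp [two_mul])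
      (CfsgLib.Classical.AschSp.sympForm_symplectic m) (by omega) hH with
    ⟨W, h0, hts, hl⟩ | ⟨W, h0, hnd, hlt, hl⟩ | ⟨t, k, D, hk, hk2, ht, htk, hq3, hD, hl⟩ |
    ⟨ho, k, D, hk, hD, hts, hl⟩ | ⟨r, K, hr, hdvd, hK, hsa, halt, hl⟩ | ⟨ho, K, hK, hac, hnsa, hl⟩ |
    ⟨ho, n₁, n₂, e, P, f₁, f₂, h1, hev, h2, h12, h5, hf1, hf2, hst, hl⟩ |
    ⟨F₀, r, P, ζ, hr, hc, hζ, hrs, hl⟩ | ⟨ho, Q, hQ, hpol, hl⟩ |
    ⟨R, p, k, hdk, hsym, habs, hsim, hp, hpo, hq, hcard, hcen, hmin, hl⟩ |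
    ⟨k, t, e, P, f₁, ho, hto, ht, hk, hkt, hne, hf1, hst, hl⟩ | hres
  · exact .inl ⟨Geo.subspaceStabilizer W ⊓ spGL m F, .inl (.inl ⟨W, h0, hts, rfl⟩), le_inf hl.1 hH⟩
  · exact .inl ⟨Geo.subspaceStabilizer W ⊓ spGL m F, .inl (.inr (.inl ⟨W, h0, hnd, by omega, rfl⟩)), le_inf hl.1 hH⟩
  · exact .inl ⟨Geo.decompositionStabilizer D ⊓ spGL m F, .inl (.inr (.inr (.inl ⟨t, k, D, hD, rfl⟩))), le_inf hl.1 hH⟩
  · exact .inl ⟨Geo.decompositionStabilizer D ⊓ spGL m F, .inl (.inr (.inr (.inr (.inl ⟨D, ho, (show k = m by omega) ▸ hD, hts, rfl⟩)))), le_inf hl.1 hH⟩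
  · exact .inl ⟨Geo.subalgebraNormalizer K ⊓ spGL m F, .inr (.inl ⟨r, K, hr, hK, hsa, halt, rfl⟩), le_inf hl.1 hH⟩
  · exact .inl ⟨Geo.subalgebraNormalizer K ⊓ spGL m F, .inr (.inr (.inl ⟨K, ho, hK, hac, hnsa, rfl⟩)), le_inf hl.1 hH⟩
  · exact .inl ⟨Geo.tensorProductSubgroup n₁ n₂ e P ⊓ spGL m F, .inr (.inr (.inr (.inl ⟨n₁, n₂, e, P, f₁, f₂, ho, h2, hf1, hf2, hst, rfl⟩))), le_inf hl.1 hH⟩
  · exact .inl ⟨Geo.subfieldSubgroup F₀ P ⊓ spGL m F, .inl (.inr (.inr (.inr (.inr (.inl ⟨F₀, r, P, ζ, hr, hc, hζ, hrs, rfl⟩))))), le_inf hl.1 hH⟩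
  · exact .inl ⟨Geo.quadSimilarityGroup Q ⊓ spGL m F, .inl (.inr (.inr (.inr (.inr (.inr (.inr (⟨Q, ho, hQ, hpol, rfl⟩))))))), le_inf hl.1 hH⟩
  · exact .inl ⟨Geo.subgroupNormalizer R ⊓ spGL m F, .inl (.inr (.inr (.inr (.inr (.inr (.inl ⟨R, p, k, hsym, habs, hsim, hp, hpo, hq, hcard, hcen, hmin, rfl⟩)))))), le_inf hl.1 hH⟩
  · exact .inl ⟨Geo.tensorWreathSubgroup k t e P ⊓ spGL m F, .inr (.inr (.inr (.inr (⟨k, t, e, P, f₁, ho, hto, ht, hne, hf1, hst, rfl⟩)))), le_inf hl.1 hH⟩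
  · exact .inr hres

end Cfsg.Agent.S5662
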