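import Cfsg.Statements.S5674
import Cfsg.Agent.Lib.Classical.OrthMaxTS
import Cfsg.Agent.Lib.KnownC.OrthTools

set_option autoImplicit false
open Cfsg

namespace Cfsg.Agent.S5674

/-- Let F be a finite field of odd order, m ≥ 6, Q the standard quadratic form x₀² + Σ x_i y_i on F^(2m+1) and Ω the commutator subgroup of its isometry group inside GL_(2m+1)(F). The elements of Ω stabilising a non-zero subspace on which Q vanishes form a maximal subgroup of Ω. -/
theorem result {F : Type*} [Field F] [Fintype F] (hodd : Odd (Fintype.card F)) (m : ℕ) (hm : 6 ≤ m) (W : Submodule F (Unit ⊕ (Fin m ⊕ Fin m) → F)) (hW0 : W ≠ ⊥) (hW : Cfsg.Geo.IsTotallySingularQuad (Cfsg.quadFormOdd m F) W) : Cfsg.Geo.IsMaximalIn (Cfsg.Geo.omegaGL (Cfsg.quadFormOdd m F)) (Cfsg.Geo.subspaceStabilizer W ⊓ Cfsg.Geo.omegaGL (Cfsg.quadFormOdd m F)) := by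
  classical
  have h2 : (2 : F) ≠ 0 := CfsgLib.KnownC.OrthTools.two_ne_zero_of_odd rfl hodd
  have hQf := CfsgLib.Orth.oddForm_apply (F := F) m
  have hQ' := CfsgLib.Orth.oddForm_nondeg (F := F) m h2
  have hV : Module.finrank F (Unit ⊕ (Fin m ⊕ Fin m) → F) = 2 * m + 1 := by
    simp [Module.finrank_pi]; omega
  have hW' : ∀ w ∈ W, CfsgLib.Orth.oddForm F m w = 0 := fun w hw => (hQf w).symm.trans (hW w hw)
  refine CfsgLib.Classical.singular_isMaximalIn _ hQf hQ' (CfsgLib.Orth.good_of_two_ne h2) (by omega) W hW' hW0 ?_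
  by_cases hk : 2 * Module.finrank F W + 3 ≤ Module.finrank F (Unit ⊕ (Fin m ⊕ Fin m) → F)
  · exact Or.inl hk
  · exact Or.inr fun u hu hup => CfsgLib.Classical.singular_perp_mem_of_top hW'
      (fun U hU => by have := CfsgLib.Orth.singular_finrank_le hQ' U hU; omega) hu hup

end Cfsg.Agent.S5674
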