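import Cfsg.Statements.S5676
import Cfsg.Agent.Lib.Classical.OrthMaxBasic

set_option autoImplicit false
open Cfsg

namespace Cfsg.Agent.S5676

/-- Let F be the field with 3 elements, m ≥ 6, Q the standard quadratic form on F^(2m+1) and Ω the commutator subgroup of its isometry group. Let W be a 2-dimensional subspace on which the polar form is non-degenerate and which contains a line on which Q vanishes. Then the elements of Ω stabilising W form a subgroup that is not maximal: some subgroup lies strictly between it and Ω. -/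
theorem result {F : Type*} [Field F] [Fintype F] (hq : Fintype.card F = 3) (m : ℕ) (hm : 6 ≤ m) (W : Submodule F (Unit ⊕ (Fin m ⊕ Fin m) → F)) (hdim : Module.finrank F W = 2) (hW : Cfsg.Geo.IsNondegenerateOn (QuadraticMap.polar (Cfsg.quadFormOdd m F)) W) (hplus : Cfsg.Geo.IsPlusTypeOn (Cfsg.quadFormOdd m F) W) : ∃ K : Subgroup (Matrix.GeneralLinearGroup (Unit ⊕ (Fin m ⊕ Fin m)) F), Cfsg.Geo.subspaceStabilizer W ⊓ Cfsg.Geo.omegaGL (Cfsg.quadFormOdd m F) < K ∧ K < Cfsg.Geo.omegaGL (Cfsg.quadFormOdd m F) := by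
  classical
  have hodd : Odd (Fintype.card F) := by rw [hq]; decide
  have h2 : (2 : F) ≠ 0 := CfsgLib.KnownC.OrthTools.two_ne_zero_of_odd rfl hodd
  have hQf := CfsgLib.Orth.oddForm_apply (F := F) m
  have hQ' := CfsgLib.Orth.oddForm_nondeg (F := F) m h2
  have hp := CfsgLib.Classical.hypPairs_odd (F := F) m (by omega)
  obtain ⟨U, hUW, hU, hUd⟩ := hplus
  obtain ⟨e, he, he0⟩ := Submodule.exists_mem_ne_zero_of_ne_bot (p := U) (by
    rintro rfl; rw [finrank_bot] at hUd; omega)
  obtain ⟨⟨z, hz, hez⟩, -⟩ := hW e (hUW he) he0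
  obtain ⟨K, h1, h3⟩ := CfsgLib.Classical.plane_not_maximal hQ' (CfsgLib.Orth.good_of_two_ne h2) hp
    (by simp [Module.finrank_pi]; omega) (by omega)
    (hUW he) ((hQf e).symm.trans (hU e he)) hdim hz (by
      rw [QuadraticMap.polar_comm, show ⇑(CfsgLib.Orth.oddForm F m) = Cfsg.quadFormOdd m F from
        funext fun v => (hQf v).symm]
      exact hez)
  exact CfsgLib.Classical.exists_between_of _ hQf (CfsgLib.Classical.stab_inf_omegaGL _ hQf W) h1 h3

end Cfsg.Agent.S5676
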