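import Cfsg.Statements.S5677
import Cfsg.Agent.Lib.Classical.OrthDecompMax.Matrix
import Cfsg.Agent.Lib.KnownC.OrthTools
import Cfsg.Agent.Lib.Classical.OrthPrime.Odd

set_option autoImplicit false
open Cfsg

namespace Cfsg.Agent.S5677

/-- Let F be a finite field of odd order q, m ≥ 6, Q the standard quadratic form on F^(2m+1) and Ω the commutator subgroup of its isometry group. Let D be a decomposition of F^(2m+1) into t ≥ 2 pairwise orthogonal, pairwise Q-isometric subspaces of equal dimension k > 1 on which the polar form is non-degenerate. Unless q = 3 and k = 3, the elements of Ω permuting the members of D form a maximal subgroup of Ω. -/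
theorem result {F : Type*} [Field F] [Fintype F] (hodd : Odd (Fintype.card F)) (m : ℕ) (hm : 6 ≤ m) {t : ℕ} (k : ℕ) (hk : 1 < k) (D : Fin t → Submodule F (Unit ⊕ (Fin m ⊕ Fin m) → F)) (hD : Cfsg.Geo.IsOrthogonalMDecomposition (Cfsg.quadFormOdd m F) k D) (hex : ¬ (Fintype.card F = 3 ∧ k = 3)) : Cfsg.Geo.IsMaximalIn (Cfsg.Geo.omegaGL (Cfsg.quadFormOdd m F)) (Cfsg.Geo.decompositionStabilizer D ⊓ Cfsg.Geo.omegaGL (Cfsg.quadFormOdd m F)) := by
  classical
  have h2 := CfsgLib.KnownC.OrthTools.two_ne_zero_of_odd rfl hodd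
  have hQ := CfsgLib.Classical.OrthPrime.odd_isNondegenerate (F := F) m h2
  have hn := CfsgLib.Classical.OrthDecompMax.finrank_decomposition hQ hD
  simp only [Fintype.card_sum, Fintype.card_unit, Fintype.card_fin] at hn
  have ht := hD.decomp.decomp.two_le
  obtain ⟨a, rfl⟩ := (Nat.odd_mul.1 (show Odd (t * k) from ⟨m, by omega⟩)).1
  obtain ⟨b, rfl⟩ := (Nat.odd_mul.1 (show Odd ((2 * a + 1) * k) from ⟨m, by omega⟩)).2
  refine CfsgLib.Classical.OrthDecompMax.omega_isMaximal hQ h2 hD (by omega) ?_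
  rcases Nat.lt_or_ge b 2 with hb | hb
  · left
    obtain rfl : b = 1 := by omega
    have hq := Nat.odd_iff.1 hodd
    have h1 : 1 < Fintype.card F := Fintype.one_lt_card
    have h3 : Fintype.card F ≠ 3 := fun h => hex ⟨h, rfl⟩
    refine ⟨rfl, ?_, ?_⟩ <;> omega
  · exact Or.inr (by omega)

end Cfsg.Agent.S5677
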