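import Cfsg.Statements.S5680
import Cfsg.Agent.Lib.Classical.FieldExtOrth3.Matrix
import Cfsg.Agent.Lib.Classical.OrthPrime.Odd
import Cfsg.Agent.Lib.KnownC.OrthTools

set_option autoImplicit false
open Cfsg

namespace Cfsg.Agent.S5680

/-- Let F be a finite field of odd order, m ≥ 6, Q the standard quadratic form on F^(2m+1) and Ω the commutator subgroup of its isometry group. Let K be a subfield of the algebra of (2m+1) × (2m+1) matrices over F containing the scalars, of prime degree r over F with r ≠ 2m + 1, whose elements are self-adjoint for the polar form of Q. Then the elements of Ω normalising K form a maximal subgroup of Ω. -/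
theorem result {F : Type*} [Field F] [Fintype F] (hodd : Odd (Fintype.card F)) (m : ℕ) (hm : 6 ≤ m) (r : ℕ) (hr : r.Prime) (hrn : 2 * m + 1 ≠ r) (K : Subalgebra F (Matrix (Unit ⊕ (Fin m ⊕ Fin m)) (Unit ⊕ (Fin m ⊕ Fin m)) F)) (hK : Cfsg.Geo.IsFieldSubalgebra r K) (hsa : Cfsg.Geo.IsSelfAdjointFor (QuadraticMap.polar (Cfsg.quadFormOdd m F)) K) : Cfsg.Geo.IsMaximalIn (Cfsg.Geo.omegaGL (Cfsg.quadFormOdd m F)) (Cfsg.Geo.subalgebraNormalizer K ⊓ Cfsg.Geo.omegaGL (Cfsg.quadFormOdd m F)) := by
  classical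
  have h2 : (2 : F) ≠ 0 := CfsgLib.KnownC.OrthTools.two_ne_zero_of_odd rfl hodd
  have hQ := CfsgLib.Classical.OrthPrime.odd_isNondegenerate (F := F) m h2
  have hcard : Fintype.card (Unit ⊕ (Fin m ⊕ Fin m)) = 2 * m + 1 := by simp; ring
  obtain ⟨t, ht⟩ := CfsgLib.Classical.FieldExtOrth.dvd_of_isField hK hr
  rw [hcard] at ht
  have ht1 : t ≠ 1 := fun e => hrn (by rw [ht, e, mul_one])
  have ht2 : t ≠ 2 := fun e => by rw [e] at ht; omega
  have ht0 : t ≠ 0 := fun e => by rw [e, mul_zero] at ht; omega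
  rcases Nat.lt_or_ge t 4 with h4 | h4
  · have e : t = 3 := by omega
    subst e
    refine CfsgLib.Classical.FieldExtOrth3.omega_isMaximal hQ h2 hr hK hsa ?_ (by rw [hcard, ht, mul_comm])
    by_contra hlt
    omega
  · refine CfsgLib.Classical.FieldExtOrth.omega_isMaximal hQ h2 hr hK hsa ?_ (fun e => ?_)
    · rw [hcard, ht, mul_comm 4]
      exact Nat.mul_le_mul_left r h4
    · subst e
      omega

end Cfsg.Agent.S5680
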