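import Cfsg.Statements.S5681
import Cfsg.Agent.Lib.Classical.TensorMaxO.Matrix
import Cfsg.Agent.Lib.Classical.OrthPrime.Odd

set_option autoImplicit false
open Cfsg

namespace Cfsg.Agent.S5681

/-- Let F be a finite field of odd order q, m ≥ 6, Q the standard quadratic form on F^(2m+1) and Ω the commutator subgroup of its isometry group. Suppose the polar form of Q is similar, through a change of basis P and a bijection of index sets e, to the tensor product of non-degenerate symmetric bilinear forms f₁ on F^(n₁) and f₂ on F^(n₂) with 3 ≤ n₁ < n₂. Unless q = 3 and n₁ = 3, the elements of Ω in the stabiliser of this tensor decomposition form a maximal subgroup of Ω. -/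
theorem result {F : Type*} [Field F] [Fintype F] (hodd : Odd (Fintype.card F)) (m : ℕ) (hm : 6 ≤ m) (n₁ n₂ : ℕ) (h1 : 3 ≤ n₁) (h12 : n₁ < n₂) (hex : ¬ (Fintype.card F = 3 ∧ n₁ = 3)) (e : (Unit ⊕ (Fin m ⊕ Fin m)) ≃ Fin n₁ × Fin n₂) (P : Matrix.GeneralLinearGroup (Unit ⊕ (Fin m ⊕ Fin m)) F) (f₁ : (Fin n₁ → F) → (Fin n₁ → F) → F) (f₂ : (Fin n₂ → F) → (Fin n₂ → F) → F) (hf₁ : Cfsg.Geo.IsSymmetricForm f₁) (hf₂ : Cfsg.Geo.IsSymmetricForm f₂) (hT : Cfsg.Geo.IsTensorFormStructure id (QuadraticMap.polar (Cfsg.quadFormOdd m F)) f₁ f₂ e P) : Cfsg.Geo.IsMaximalIn (Cfsg.Geo.omegaGL (Cfsg.quadFormOdd m F)) (Cfsg.Geo.tensorProductSubgroup n₁ n₂ e P ⊓ Cfsg.Geo.omegaGL (Cfsg.quadFormOdd m F)) := by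
  classical
  have h2 : (2 : F) ≠ 0 := Ring.two_ne_zero fun h => by
    have := FiniteField.even_card_of_char_two h
    have := Nat.odd_iff.1 hodd
    omega
  have hcard : n₁ * n₂ = 2 * m + 1 := by
    have h := Fintype.card_congr e
    simp only [Fintype.card_sum, Fintype.card_unit, Fintype.card_fin, Fintype.card_prod] at h
    omega
  obtain ⟨ho₁, ho₂⟩ : Odd n₁ ∧ Odd n₂ := Nat.odd_mul.1 (hcard ▸ odd_two_mul_add_one m)
  have hab : n₁ + 2 ≤ n₂ := by
    obtain ⟨i, rfl⟩ := ho₁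
    obtain ⟨j, rfl⟩ := ho₂
    omega
  refine CfsgLib.Classical.TensorMaxO.omega_isMaximal
    (CfsgLib.Classical.OrthPrime.odd_isNondegenerate m h2) h2 hf₁ hf₂ hT h1 (by omega) (by omega) (Or.inl ho₁)
    (fun h4 => absurd ho₁ (by rw [h4]; decide)) ?_
  refine or_iff_not_imp_right.2 fun h4 => ?_
  by_contra! hall
  refine hex ⟨?_, by omega⟩
  have hsub : (Finset.univ : Finset F) ⊆ {0, 1, -1} := fun x _ => by
    by_cases hx : x = 0
    · simp [hx]
    · rcases mul_self_eq_one_iff.1 (hall x hx) with h | h <;> simp [h]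
  have hle := (Finset.card_le_card hsub).trans Finset.card_le_three
  rw [Finset.card_univ] at hle
  have := Fintype.one_lt_card (α := F)
  obtain ⟨j, hj⟩ := hodd
  omega

end Cfsg.Agent.S5681
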