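import Cfsg.Statements.S5685
import Cfsg.Agent.Lib.Classical.OrthMaxTS

set_option autoImplicit false
open Cfsg

namespace Cfsg.Agent.S5685

/-- Let F be a finite field with q elements, n ≥ 13 even, Q a non-degenerate quadratic form on F^n of plus type (some subspace of dimension n/2 is totally singular), and Ω the commutator subgroup of the isometry group of Q, viewed inside GL_n(F). The elements of Ω stabilising a non-zero subspace W on which Q vanishes, with dim W ≠ n/2 − 1, form a maximal subgroup of Ω. -/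
theorem result {F : Type*} [Field F] [Fintype F] {n : ℕ} (hn : 13 ≤ n) (heven : Even n) (Q : (Fin n → F) → F) (hQ : Cfsg.Geo.IsNondegenerateQuadraticForm Q) (hplus : Cfsg.Geo.IsPlusTypeOn Q ⊤) (W : Submodule F (Fin n → F)) (hW0 : W ≠ ⊥) (hW : Cfsg.Geo.IsTotallySingularQuad Q W) (hdim : 2 * (Module.finrank F W + 1) ≠ n) : Cfsg.Geo.IsMaximalIn (Cfsg.Geo.omegaGL Q) (Cfsg.Geo.subspaceStabilizer W ⊓ Cfsg.Geo.omegaGL Q) := by
  classical
  obtain ⟨Q', hQf, hQ'⟩ := CfsgLib.Classical.exists_quadOf hQ
  have hn' : Module.finrank F (Fin n → F) = n := Module.finrank_fin_fun F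
  have hW' : ∀ w ∈ W, Q' w = 0 := fun w hw => (hQf w).symm.trans (hW w hw)
  refine CfsgLib.Classical.singular_isMaximalIn Q' hQf hQ' (Or.inr (by omega)) (by omega) W hW' hW0 ?_
  obtain ⟨k, rfl⟩ := heven
  by_cases hk : 2 * Module.finrank F W + 3 ≤ Module.finrank F (Fin (k + k) → F)
  · exact Or.inl hk
  · exact Or.inr fun u hu hup => CfsgLib.Classical.singular_perp_mem_of_top hW'
      (fun U hU => by have := CfsgLib.Orth.singular_finrank_le hQ' U hU; omega) hu hup

end Cfsg.Agent.S5685
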