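import Cfsg.Statements.S5690
import Cfsg.Agent.Lib.Classical.OrthMaxBasic

set_option autoImplicit false
open Cfsg

namespace Cfsg.Agent.S5690

/-- Let F be a finite field with q elements, n ≥ 13 even, Q a non-degenerate quadratic form on F^n (of either type), and Ω the commutator subgroup of the isometry group of Q, viewed inside GL_n(F). Suppose q ≤ 3 and W is a plane on which the polar form is non-degenerate and which contains a line on which Q vanishes. Then the elements of Ω stabilising W form a subgroup that is not maximal: some subgroup lies strictly between it and Ω. -/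
theorem result {F : Type*} [Field F] [Fintype F] {n : ℕ} (hn : 13 ≤ n) (heven : Even n) (Q : (Fin n → F) → F) (hQ : Cfsg.Geo.IsNondegenerateQuadraticForm Q) (hq : Fintype.card F ≤ 3) (W : Submodule F (Fin n → F)) (hdim : Module.finrank F W = 2) (hW : Cfsg.Geo.IsNondegenerateOn (QuadraticMap.polar Q) W) (hWp : Cfsg.Geo.IsPlusTypeOn Q W) : ∃ K : Subgroup (Matrix.GeneralLinearGroup (Fin n) F), Cfsg.Geo.subspaceStabilizer W ⊓ Cfsg.Geo.omegaGL Q < K ∧ K < Cfsg.Geo.omegaGL Q := by
  classical
  obtain ⟨Q', hQf, hQ'⟩ := CfsgLib.Classical.exists_quadOf hQ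
  have hn' : Module.finrank F (Fin n → F) = n := Module.finrank_fin_fun F
  obtain ⟨hp⟩ := CfsgLib.Classical.exists_hypPairs hQ' (by omega)
  obtain ⟨U, hUW, hU, hUd⟩ := hWp
  obtain ⟨e, he, he0⟩ := Submodule.exists_mem_ne_zero_of_ne_bot (p := U) (by
    rintro rfl; rw [finrank_bot] at hUd; omega)
  obtain ⟨⟨z, hz, hez⟩, -⟩ := hW e (hUW he) he0
  obtain ⟨K, h1, h2⟩ := CfsgLib.Classical.plane_not_maximal hQ' (Or.inr (by omega)) hp (by omega) hq
    (hUW he) ((hQf e).symm.trans (hU e he)) hdim hz (by
      rw [QuadraticMap.polar_comm, show ⇑Q' = Q from funext fun v => (hQf v).symm]; exact hez)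
  exact CfsgLib.Classical.exists_between_of Q' hQf (CfsgLib.Classical.stab_inf_omegaGL Q' hQf W) h1 h2

end Cfsg.Agent.S5690
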