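import Cfsg.Statements.S5691
import Cfsg.Agent.Lib.Classical.PointMax
-- import your own Cfsg.Agent.* helpers here

set_option autoImplicit false
open Cfsg

namespace Cfsg.Agent.S5691

/-- Let F be a finite field with q elements, n ≥ 13 even, Q a non-degenerate quadratic form on F^n (of either type), and Ω the commutator subgroup of the isometry group of Q, viewed inside GL_n(F). Suppose q is even and v is a vector with Q(v) ≠ 0. Then the elements of Ω stabilising the line spanned by v form a maximal subgroup of Ω. -/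
theorem result {F : Type*} [Field F] [Fintype F] {n : ℕ} (hn : 13 ≤ n) (heven : Even n) (Q : (Fin n → F) → F) (hQ : Cfsg.Geo.IsNondegenerateQuadraticForm Q) (hchar : ¬ Odd (Fintype.card F)) (v : (Fin n → F)) (hv : Q v ≠ 0) : Cfsg.Geo.IsMaximalIn (Cfsg.Geo.omegaGL Q) (Cfsg.Geo.subspaceStabilizer (Submodule.span F {v}) ⊓ Cfsg.Geo.omegaGL Q) := by
  classical
  obtain ⟨Q', hQf, hQ'⟩ := CfsgLib.Classical.exists_quadOf hQ
  have hn' : Module.finrank F (Fin n → F) = n := Module.finrank_fin_fun F
  obtain ⟨hp⟩ := CfsgLib.Classical.exists_hypPairs hQ' (by omega)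
  have h4 : CfsgLib.Orth.Good F (Fin n → F) := Or.inr (by omega)
  have hv' : Q' v ≠ 0 := by rw [← hQf]; exact hv
  have h2 : (2 : F) = 0 := by
    have hev := Nat.not_odd_iff_even.1 hchar
    obtain ⟨p, hpc⟩ := CharP.exists F
    obtain ⟨k, hk, hc⟩ := FiniteField.card F p
    have hp2 : p = 2 := by
      rw [hc] at hev
      exact ((Nat.even_pow.1 hev).1 |> even_iff_two_dvd.1 |> (Nat.prime_dvd_prime_iff_eq Nat.prime_two hk).1).symm
    subst hp2
    exact_mod_cast (CharP.cast_eq_zero F 2)
  exact CfsgLib.Classical.omega_isMaximalIn Q' hQf _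
    (CfsgLib.Classical.PointMax.exists_not_stab_point hQ' h4 hp (by omega)
      (fun h => hv' (by rw [h, QuadraticMap.map_zero])))
    fun M hM g hg _ hgW => CfsgLib.Classical.PointMax.point_top hQ' h4 hp (by omega) h2 hv' hM hg hgW

end Cfsg.Agent.S5691
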