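import Cfsg.Statements.S5698
import Cfsg.Agent.Lib.Classical.OrthMaxBasic

set_option autoImplicit false
open Cfsg

namespace Cfsg.Agent.S5698

/-- Let F be a finite field with q elements, n ≥ 13 even, Q a non-degenerate quadratic form on F^n of plus type (some subspace of dimension n/2 is totally singular), and Ω the commutator subgroup of the isometry group of Q, viewed inside GL_n(F). Suppose n/2 is odd and let D be a decomposition of F^n into two complementary subspaces of dimension n/2 on each of which Q vanishes. Then the elements of Ω preserving or interchanging the two subspaces form a subgroup that is not maximal: some subgroup lies strictly between it and Ω. -/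
theorem result {F : Type*} [Field F] [Fintype F] {n : ℕ} (hn : 13 ≤ n) (heven : Even n) (Q : (Fin n → F) → F) (hQ : Cfsg.Geo.IsNondegenerateQuadraticForm Q) (hplus : Cfsg.Geo.IsPlusTypeOn Q ⊤) (k : ℕ) (hk : 2 * k = n) (hko : Odd k) (D : Fin 2 → Submodule F (Fin n → F)) (hD : Cfsg.Geo.IsMDecomposition k D) (hts : ∀ i, Cfsg.Geo.IsTotallySingularQuad Q (D i)) : ∃ K : Subgroup (Matrix.GeneralLinearGroup (Fin n) F), Cfsg.Geo.decompositionStabilizer D ⊓ Cfsg.Geo.omegaGL Q < K ∧ K < Cfsg.Geo.omegaGL Q := by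
  classical
  obtain ⟨Q', hQf, hQ'⟩ := CfsgLib.Classical.exists_quadOf hQ
  have hn' : Module.finrank F (Fin n → F) = n := Module.finrank_fin_fun F
  obtain ⟨hp⟩ := CfsgLib.Classical.exists_hypPairs hQ' (by omega)
  have hL : ∀ i, CfsgLib.Orth.IsLagrangian Q' (D i) := fun i => CfsgLib.Orth.isLagrangian_of_finrank hQ'
    (fun u hu => (hQf u).symm.trans (hts i u hu)) (by rw [hD.finrank_eq i]; omega)
  have hAB : D 0 ⊓ D 1 = ⊥ := disjoint_iff.1 (hD.indep.pairwiseDisjoint (show (0 : Fin 2) ≠ 1 by decide))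
  let ι := CfsgLib.Classical.orthToGL Q' hQf
  let H : Subgroup (CfsgLib.Orth.orthGroup Q') :=
    (Cfsg.Geo.decompositionStabilizer D).comap ι ⊓ commutator (CfsgLib.Orth.orthGroup Q')
  have hmap : Cfsg.Geo.decompositionStabilizer D ⊓ Cfsg.Geo.omegaGL Q = H.map ι := by
    rw [CfsgLib.Classical.omegaGL_eq Q' hQf]
    ext g
    constructor
    · rintro ⟨h1, y, hy, rfl⟩
      exact ⟨y, ⟨h1, hy⟩, rfl⟩
    · rintro ⟨y, ⟨h1, h2⟩, rfl⟩
      exact ⟨h1, y, h2, rfl⟩
  have hperm : ∀ g ∈ H, ∃ σ : Equiv.Perm (Fin 2), ∀ i,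
      (D i).map (g.1 : (Fin n → F) →ₗ[F] (Fin n → F)) = D (σ i) := fun g hg => by
    obtain ⟨σ, hσ⟩ := hg.1
    exact ⟨σ, fun i => by rw [← hσ i, CfsgLib.Classical.toLin'_orthToGL Q' hQf g]⟩
  obtain ⟨K, h1, h2⟩ := CfsgLib.Classical.lag_pair_not_maximal hQ' (Or.inr (by omega)) hp (by omega) (hL 0)
    (hL 1).1 hAB (by rw [hD.finrank_eq 0]; exact hko) (by rw [hD.finrank_eq 0, hD.finrank_eq 1]) (H := H) inf_le_right
    (fun g hg => by
      obtain ⟨σ, hσ⟩ := hperm g hg
      rw [hσ 0]
      generalize σ 0 = j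
      fin_cases j <;> simp)
    (fun g hg hgA => by
      obtain ⟨σ, hσ⟩ := hperm g hg
      show (D 1).map _ = D 1
      rw [hσ 1]
      have h0 : D (σ 0) = D 0 := by rw [← hσ 0]; exact hgA
      have hne : D 0 ≠ D 1 := fun e => by
        rw [e, inf_idem] at hAB
        have := hD.finrank_eq 1
        rw [hAB, finrank_bot] at this
        omega
      have hj : σ 0 = 0 := by
        revert h0
        generalize σ 0 = j
        intro h0
        fin_cases j
        · rfl
        · exact absurd h0.symm hne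
      have : σ 1 ≠ 0 := fun e => absurd (σ.injective (e.trans hj.symm)) (by decide)
      rw [show σ 1 = 1 by omega])
  exact CfsgLib.Classical.exists_between_of Q' hQf hmap h1 h2

end Cfsg.Agent.S5698
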