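import Cfsg.Statements.S5699
import Cfsg.Agent.Lib.Classical.OrthMaxND

set_option autoImplicit false
open Cfsg

namespace Cfsg.Agent.S5699

/-- Let F be a finite field with q elements, n ≥ 13 even, Q a non-degenerate quadratic form on F^n (of either type), and Ω the commutator subgroup of the isometry group of Q, viewed inside GL_n(F). Let D be a decomposition of F^n into two orthogonal subspaces of odd dimension n/2 on which the polar form is non-degenerate and which are not Q-isometric to each other. Then the elements of Ω permuting (necessarily fixing) the two subspaces form a maximal subgroup of Ω. -/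
theorem result {F : Type*} [Field F] [Fintype F] {n : ℕ} (hn : 13 ≤ n) (heven : Even n) (Q : (Fin n → F) → F) (hQ : Cfsg.Geo.IsNondegenerateQuadraticForm Q) (k : ℕ) (hk : 2 * k = n) (hko : Odd k) (D : Fin 2 → Submodule F (Fin n → F)) (hD : Cfsg.Geo.IsNondegenerateMDecomposition (QuadraticMap.polar Q) k D) (hni : ¬ Cfsg.Geo.AreIsometricFor Q (D 0) (D 1)) : Cfsg.Geo.IsMaximalIn (Cfsg.Geo.omegaGL Q) (Cfsg.Geo.decompositionStabilizer D ⊓ Cfsg.Geo.omegaGL Q) := by
  classical
  obtain ⟨Q', hQf, hQ'⟩ := CfsgLib.Classical.exists_quadOf hQ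
  obtain rfl : Q = ⇑Q' := funext hQf
  have hn' : Module.finrank F (Fin n → F) = n := Module.finrank_fin_fun F
  have hd := hD.decomp.finrank_eq
  have hU : CfsgLib.Classical.NdSub Q' (D 0) :=
    CfsgLib.Classical.ndSub_of_on fun w hw hw0 => (hD.nondegenerate 0 w hw hw0).2
  have hle1 : D 1 ≤ CfsgLib.Classical.qperp Q' (D 0) := fun x hx y hy => hD.orthogonal 0 1 (by decide) y hy x hx
  have hperp : CfsgLib.Classical.qperp Q' (D 0) = D 1 := (Submodule.eq_of_le_of_finrank_eq hle1 (by
      have := CfsgLib.Classical.finrank_qperp hQ' (D 0)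
      have := hd 0; have := hd 1; omega)).symm
  have hno : ∀ g : CfsgLib.Orth.orthGroup Q',
      ¬ (D 0).map (g.1 : (Fin n → F) →ₗ[F] (Fin n → F)) ≤ CfsgLib.Classical.qperp Q' (D 0) := by
    intro g hle
    rw [hperp] at hle
    have he : (D 0).map (g.1 : (Fin n → F) →ₗ[F] (Fin n → F)) = D 1 := Submodule.eq_of_le_of_finrank_eq hle
      (by rw [LinearEquiv.finrank_map_eq, hd, hd])
    exact hni ⟨g.1.ofSubmodules _ _ he, fun x => CfsgLib.Orth.apply_quad g (x : Fin n → F)⟩
  have hstab : Cfsg.Geo.decompositionStabilizer D ⊓ Cfsg.Geo.omegaGL ⇑Q' =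
      Cfsg.Geo.subspaceStabilizer (D 0) ⊓ Cfsg.Geo.omegaGL ⇑Q' := by
    ext x
    constructor
    · rintro ⟨⟨σ, hσ⟩, hx⟩
      refine ⟨?_, hx⟩
      rw [CfsgLib.Classical.omegaGL_eq Q' (fun _ => rfl)] at hx
      obtain ⟨g, hg, rfl⟩ := hx
      simp only [CfsgLib.Classical.toLin'_orthToGL] at hσ
      refine (CfsgLib.Classical.orthToGL_mem_stab Q' (fun _ => rfl) (D 0) g).2 ?_
      show (D 0).map _ = D 0
      rcases Fin.exists_fin_two.1 (⟨σ 0, rfl⟩ : ∃ i, σ 0 = i) with h | h
      · exact (hσ 0).trans (congrArg D h)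
      · exact absurd (le_of_eq ((hσ 0).trans ((congrArg D h).trans hperp.symm))) (hno g)
    · rintro ⟨hs, hx⟩
      refine ⟨?_, hx⟩
      rw [CfsgLib.Classical.omegaGL_eq Q' (fun _ => rfl)] at hx
      obtain ⟨g, hg, rfl⟩ := hx
      have h0 := (CfsgLib.Classical.orthToGL_mem_stab Q' (fun _ => rfl) (D 0) g).1 hs
      have h1 := CfsgLib.Classical.stab_le_stab_qperp (D 0) h0
      rw [hperp] at h1
      refine ⟨1, Fin.forall_fin_two.2 ⟨?_, ?_⟩⟩ <;> rw [CfsgLib.Classical.toLin'_orthToGL]
      · exact h0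
      · exact h1
  rw [hstab]
  have h0 := hd 0
  obtain ⟨w, hw, hw0⟩ := Submodule.exists_mem_ne_zero_of_ne_bot (p := D 1) (fun e => by
    have h1 := hd 1
    rw [e, finrank_bot] at h1
    omega)
  rw [← hperp] at hw
  refine CfsgLib.Classical.omega_isMaximalIn Q' (fun _ => rfl) (D 0)
    (CfsgLib.Classical.exists_not_stab_nondeg hQ' (Or.inr (by omega)) (by omega) hU (by omega) hw hw0)
    fun M hM g hg hgΩ hgW => CfsgLib.Classical.top_of_stab_ndSub hQ' (Or.inr (by omega)) (by omega) hU (by omega)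
      (by omega) (Or.inr (Or.inl (by rw [hperp, hd 1]; omega))) (fun g _ => hno g) hM hg hgΩ hgW

end Cfsg.Agent.S5699
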