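import Cfsg.Statements.S5701
import Cfsg.Agent.Lib.Classical.FieldExtOrth.Matrix
import Cfsg.Agent.Lib.KnownC.OrthTools

set_option autoImplicit false
open Cfsg

namespace Cfsg.Agent.S5701

/-- Let F be a finite field with q elements, n ≥ 13 even, Q a non-degenerate quadratic form on F^n (of either type), and Ω the commutator subgroup of the isometry group of Q, viewed inside GL_n(F). Suppose q is odd. Let K be a subfield of the algebra of n × n matrices over F containing the scalars, of prime degree r over F with n/r ≥ 3, whose elements are self-adjoint for the polar form of Q. Then the elements of Ω normalising K form a maximal subgroup of Ω. -/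
theorem result {F : Type*} [Field F] [Fintype F] {n : ℕ} (hn : 13 ≤ n) (heven : Even n) (Q : (Fin n → F) → F) (hQ : Cfsg.Geo.IsNondegenerateQuadraticForm Q) (hodd : Odd (Fintype.card F)) (r : ℕ) (hr : r.Prime) (hnr : 3 * r ≤ n) (K : Subalgebra F (Matrix (Fin n) (Fin n) F)) (hK : Cfsg.Geo.IsFieldSubalgebra r K) (hsa : Cfsg.Geo.IsSelfAdjointFor (QuadraticMap.polar Q) K) : Cfsg.Geo.IsMaximalIn (Cfsg.Geo.omegaGL Q) (Cfsg.Geo.subalgebraNormalizer K ⊓ Cfsg.Geo.omegaGL Q) := by
  classical
  refine CfsgLib.Classical.FieldExtOrth.omega_isMaximal hQ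
    (CfsgLib.KnownC.OrthTools.two_ne_zero_of_odd rfl hodd) hr hK hsa ?_ (fun _ => ?_)
  all_goals rw [Fintype.card_fin]
  · obtain ⟨t, ht⟩ := CfsgLib.Classical.FieldExtOrth.dvd_of_isField hK hr
    rw [Fintype.card_fin] at ht
    subst ht
    obtain ⟨k, hk⟩ := heven
    by_contra hlt
    have h1 : t = 3 := by nlinarith [hr.two_le]
    subst h1
    obtain ⟨j, rfl⟩ : Even r := ⟨k / 3, by omega⟩
    have := (Nat.prime_dvd_prime_iff_eq Nat.prime_two hr).1 (Dvd.intro j (by ring))
    omega
  · obtain ⟨k, hk⟩ := heven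
    omega

end Cfsg.Agent.S5701
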