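import Cfsg.Statements.S5706
import Cfsg.Agent.Lib.Classical.WreathMaxSp.OmegaMain

set_option autoImplicit false
open Cfsg

namespace Cfsg.Agent.S5706

/-- Let F be a finite field with q elements, n ≥ 13 even, Q a non-degenerate quadratic form on F^n of plus type (some subspace of dimension n/2 is totally singular), and Ω the commutator subgroup of the isometry group of Q, viewed inside GL_n(F). Suppose that, through a change of basis P and a bijection of index sets e, the polar form of Q is similar to the t-fold tensor power (t ≥ 2) of a non-degenerate symplectic form f₁ on F^k, that Q vanishes on the images of all pure tensors, that t is even if q is odd, that (q, k) is neither (2, 2) nor (3, 2), and that k ≥ 6 if q is even. Then the elements of Ω in the stabiliser of this decomposition form a maximal subgroup of Ω. -/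
theorem result {F : Type*} [Field F] [Fintype F] {n : ℕ} (hn : 13 ≤ n) (heven : Even n) (Q : (Fin n → F) → F) (hQ : Cfsg.Geo.IsNondegenerateQuadraticForm Q) (hplus : Cfsg.Geo.IsPlusTypeOn Q ⊤) (k t : ℕ) (ht : 2 ≤ t) (hqt : Odd (Fintype.card F) → Even t) (hex1 : ¬ (Fintype.card F = 2 ∧ k = 2)) (hex2 : ¬ (Fintype.card F = 3 ∧ k = 2)) (hex3 : ¬ Odd (Fintype.card F) → 6 ≤ k) (e : (Fin n) ≃ (Fin t → Fin k)) (P : Matrix.GeneralLinearGroup (Fin n) F) (f₁ : (Fin k → F) → (Fin k → F) → F) (hf₁ : Cfsg.Geo.IsSymplecticForm f₁) (hT : Cfsg.Geo.IsTensorPowerFormStructure id (QuadraticMap.polar Q) f₁ e P) (hpure : (∀ xs : Fin t → (Fin k → F), Q (Matrix.mulVec (P : Matrix (Fin n) (Fin n) F) ((fun a : Fin t → Fin k => ∏ i, xs i (a i)) ∘ e)) = 0)) : Cfsg.Geo.IsMaximalIn (Cfsg.Geo.omegaGL Q) (Cfsg.Geo.tensorWreathSubgroup k t e P ⊓ Cfsg.Geo.omegaGL Q) := by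
  have h2 : (2 : F) = 0 → ¬ Odd (Fintype.card F) := fun h hodd => by
    obtain ⟨r, hr⟩ := hodd
    have h1 : ((Fintype.card F : ℕ) : F) = 0 := FiniteField.cast_card_eq_zero F
    rw [hr, Nat.cast_add, Nat.cast_mul, Nat.cast_ofNat, h, zero_mul, zero_add, Nat.cast_one] at h1
    exact one_ne_zero h1
  have hodd : (2 : F) ≠ 0 → Odd (Fintype.card F) := fun h => by
    rcases Nat.even_or_odd (Fintype.card F) with he | ho
    · have hc : ringChar F = 2 := FiniteField.even_card_iff_char_two.2 (Nat.even_iff.1 he)
      have := CharP.cast_eq_zero F (ringChar F)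
      rw [hc] at this
      exact absurd (by exact_mod_cast this) h
    · exact ho
  refine CfsgLib.Classical.WreathMaxSp.isMaximal_omega (by omega) hQ ht (fun h => hqt (hodd h))
    (fun h => hex3 (h2 h)) ?_ e P hf₁ hT hpure
  by_cases h3 : 3 ≤ k
  · exact Or.inl h3
  · refine Or.inr ?_
    have hk : 2 ≤ k := by
      by_contra hk
      have hcard : n = k ^ t := by simpa using Fintype.card_congr e
      have : k ^ t ≤ 1 := (Nat.pow_le_pow_left (show k ≤ 1 by omega) t).trans (one_pow t).le
      omega
    have := Fintype.one_lt_card (α := F)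
    have : Fintype.card F ≠ 2 := fun h => hex1 ⟨h, by omega⟩
    have : Fintype.card F ≠ 3 := fun h => hex2 ⟨h, by omega⟩
    omega

end Cfsg.Agent.S5706
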