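import Cfsg.Statements.S5707
import Cfsg.Agent.Lib.Classical.TensorPower.Main
import Cfsg.Agent.Lib.Classical.TensorNonMax
-- import your own Cfsg.Agent.* helpers here

set_option autoImplicit false
open Cfsg

namespace Cfsg.Agent.S5707

open Matrix CfsgLib.Classical CfsgLib.Classical.TensorPower

/-- The form on pure tensors. -/
theorem pure_form {F : Type*} [Field F] {n k t : ℕ} {B : (Fin n → F) → (Fin n → F) → F}
    {f : (Fin k → F) → (Fin k → F) → F} {e : Fin n ≃ (Fin t → Fin k)} {P : Matrix.GeneralLinearGroup (Fin n) F}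
    (hf : Cfsg.Geo.IsSymplecticForm f) (hT : Cfsg.Geo.IsTensorPowerFormStructure id B f e P) :
    ∃ c : F, c ≠ 0 ∧ ∀ u w, B (TensorPower.pure e P u) (TensorPower.pure e P w) = c * ∏ l, f (u l) (w l) := by
  obtain ⟨c, hc, h⟩ := hT
  refine ⟨c, hc, fun u w => ?_⟩
  rw [TensorPower.pure, TensorPower.pure, h, Finset.prod_congr rfl fun l _ => (TensorNonMax.gram_expand (g := f)
    (τ := id) hf.bilinear.add_left hf.bilinear.smul_left hf.bilinear.add_right hf.bilinear.smul_right (u l) (w l)).symm]
  congr 1
  simp only [Cfsg.Geo.formOfGram, id_eq]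
  rw [Fintype.prod_sum]
  refine Finset.sum_congr rfl fun a _ => ?_
  rw [Fintype.prod_sum]
  refine Finset.sum_congr rfl fun b _ => ?_
  rw [Finset.prod_mul_distrib, Finset.prod_mul_distrib]

/-- There is no non-degenerate alternating form in dimension three. -/
theorem not_three {F : Type*} [Field F] {f : (Fin 3 → F) → (Fin 3 → F) → F} (hf : Cfsg.Geo.IsSymplecticForm f) :
    False := by
  set v : Fin 3 → F := ![f (Pi.single 1 1) (Pi.single 2 1), -f (Pi.single 0 1) (Pi.single 2 1),
    f (Pi.single 0 1) (Pi.single 1 1)] with hv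
  by_cases h0 : v = 0
  · have a := congrFun h0 0
    have b := congrFun h0 1
    have c := congrFun h0 2
    simp [hv] at a b c
    obtain ⟨x, hx⟩ := (hf.nondegenerate (Pi.single 0 (1 : F)) (by simp)).2
    apply hx
    rw [TensorPower.f_eq hf]
    simp [dotProduct, Matrix.mulVec, Cfsg.Geo.gramMatrix, Fin.sum_univ_three, hf.alternating, b, c]
  · obtain ⟨x, hx⟩ := (hf.nondegenerate v h0).2
    apply hx
    rw [TensorPower.f_eq hf]
    simp [hv, dotProduct, Matrix.mulVec, Cfsg.Geo.gramMatrix, Fin.sum_univ_three, hf.alternating,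
      hf.skew (Pi.single 1 1) (Pi.single 0 1), hf.skew (Pi.single 2 1) (Pi.single 0 1),
      hf.skew (Pi.single 2 1) (Pi.single 1 1)]
    ring

/-- Let F be a finite field with q elements, n ≥ 13 even, Q a non-degenerate quadratic form on F^n of plus type (some subspace of dimension n/2 is totally singular), and Ω the commutator subgroup of the isometry group of Q, viewed inside GL_n(F). Suppose q is even and that, through P and e, the polar form of Q is similar to the t-fold tensor power (t ≥ 2) of a non-degenerate symplectic form f₁ on F^k with k ≤ 4 and (q, k) ≠ (2, 2), Q vanishing on the images of all pure tensors. Then the elements of Ω in the stabiliser of this decomposition form a subgroup that is not maximal: some subgroup lies strictly between it and Ω. -/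
theorem result {F : Type*} [Field F] [Fintype F] {n : ℕ} (hn : 13 ≤ n) (heven : Even n) (Q : (Fin n → F) → F) (hQ : Cfsg.Geo.IsNondegenerateQuadraticForm Q) (hplus : Cfsg.Geo.IsPlusTypeOn Q ⊤) (hchar : ¬ Odd (Fintype.card F)) (k t : ℕ) (ht : 2 ≤ t) (hk : k ≤ 4) (hex1 : ¬ (Fintype.card F = 2 ∧ k = 2)) (e : (Fin n) ≃ (Fin t → Fin k)) (P : Matrix.GeneralLinearGroup (Fin n) F) (f₁ : (Fin k → F) → (Fin k → F) → F) (hf₁ : Cfsg.Geo.IsSymplecticForm f₁) (hT : Cfsg.Geo.IsTensorPowerFormStructure id (QuadraticMap.polar Q) f₁ e P) (hpure : (∀ xs : Fin t → (Fin k → F), Q (Matrix.mulVec (P : Matrix (Fin n) (Fin n) F) ((fun a : Fin t → Fin k => ∏ i, xs i (a i)) ∘ e)) = 0)) : ∃ K : Subgroup (Matrix.GeneralLinearGroup (Fin n) F), Cfsg.Geo.tensorWreathSubgroup k t e P ⊓ Cfsg.Geo.omegaGL Q < K ∧ K < Cfsg.Geo.omegaGL Q := by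
  classical
  obtain ⟨Q', hQf, hnd⟩ := exists_quadOf hQ
  have h2 : (2 : F) = 0 := by
    have h : ringChar F = 2 := FiniteField.even_card_iff_char_two.2 (Nat.even_iff.1 (Nat.not_odd_iff_even.1 hchar))
    have h' := ringChar.Nat.cast_ringChar (R := F)
    rw [h] at h'
    exact_mod_cast h'
  obtain rfl : Q = ⇑Q' := funext hQf
  obtain ⟨c, hc, hform⟩ := pure_form hf₁ hT
  have hcard : n = k ^ t := by simpa using Fintype.card_congr e
  have hn' : 13 ≤ Fintype.card (Fin n) := by simpa using hn
  have hk' : k = 2 ∨ k = 4 := by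
    rcases (by omega : k = 0 ∨ k = 1 ∨ k = 2 ∨ k = 3 ∨ k = 4) with h | h | h | h | h
    · subst h
      rw [zero_pow (by omega)] at hcard
      omega
    · subst h
      rw [one_pow] at hcard
      omega
    · exact Or.inl h
    · subst h
      exact (not_three hf₁).elim
    · exact Or.inr h
  rcases hk' with rfl | rfl
  · have h3 : 3 ≤ t := by
      by_contra h
      interval_cases t
      simp [hcard] at hn
    exact Setup.exists_between (alt := False) (c := c)
      ⟨h2, hc, hf₁, hform, hpure, factorData_two hf₁ h2, ht, Or.inr h3⟩ hQf hnd hn'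
  · exact Setup.exists_between (alt := True) (c := c)
      ⟨h2, hc, hf₁, hform, hpure, factorData_four hf₁ h2, ht, Or.inl trivial⟩ hQf hnd hn'

end Cfsg.Agent.S5707
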