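import Cfsg.Statements.S5709
import Cfsg.Agent.Lib.Classical.TensorMaxO.Matrix

set_option autoImplicit false
open Cfsg

namespace Cfsg.Agent.S5709

/-- Let F be a finite field with q elements, n ≥ 13 even, Q a non-degenerate quadratic form on F^n of minus type (no subspace of dimension n/2 is totally singular), and Ω the commutator subgroup of the isometry group of Q, viewed inside GL_n(F). Suppose q is odd and that, through a change of basis P and a bijection of index sets e, the polar form of Q is similar to the tensor product of non-degenerate symmetric bilinear forms f₁ on F^(n₁), n₁ odd and at least 3, and f₂ on F^(n₂), n₂ even and at least 4 with no totally isotropic subspace of dimension n₂/2 (minus type). Unless q = 3 and n₁ = 3, the elements of Ω in the stabiliser of this tensor decomposition form a maximal subgroup of Ω. -/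
theorem result {F : Type*} [Field F] [Fintype F] {n : ℕ} (hn : 13 ≤ n) (heven : Even n) (Q : (Fin n → F) → F) (hQ : Cfsg.Geo.IsNondegenerateQuadraticForm Q) (hminus : ¬ Cfsg.Geo.IsPlusTypeOn Q ⊤) (hodd : Odd (Fintype.card F)) (n₁ n₂ : ℕ) (h1 : 3 ≤ n₁) (h1o : Odd n₁) (h2 : 4 ≤ n₂) (h2e : Even n₂) (hex : ¬ (Fintype.card F = 3 ∧ n₁ = 3)) (e : (Fin n) ≃ Fin n₁ × Fin n₂) (P : Matrix.GeneralLinearGroup (Fin n) F) (f₁ : (Fin n₁ → F) → (Fin n₁ → F) → F) (f₂ : (Fin n₂ → F) → (Fin n₂ → F) → F) (hf₁ : Cfsg.Geo.IsSymmetricForm f₁) (hf₂ : Cfsg.Geo.IsSymmetricForm f₂) (hf₂m : ¬ Cfsg.Geo.IsPlusTypeOn (fun v : Fin n₂ → F => f₂ v v) ⊤) (hT : Cfsg.Geo.IsTensorFormStructure id (QuadraticMap.polar Q) f₁ f₂ e P) : Cfsg.Geo.IsMaximalIn (Cfsg.Geo.omegaGL Q) (Cfsg.Geo.tensorProductSubgroup n₁ n₂ e P ⊓ Cfsg.Geo.omegaGL Q) := by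
  classical
  have h2' : (2 : F) ≠ 0 := Ring.two_ne_zero fun h => by
    have := FiniteField.even_card_of_char_two h
    have := Nat.odd_iff.1 hodd
    omega
  have hcard : n = n₁ * n₂ := by simpa using Fintype.card_congr e
  have hne : n₁ ≠ n₂ := fun h => Nat.not_even_iff_odd.2 h1o (h ▸ h2e)
  have hq : (∃ s : F, s ≠ 0 ∧ s * s ≠ 1) ∨ 4 ≤ n₁ := by
    refine or_iff_not_imp_right.2 fun h4 => ?_
    by_contra! hall
    refine hex ⟨?_, by omega⟩
    have hsub : (Finset.univ : Finset F) ⊆ {0, 1, -1} := fun x _ => by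
      by_cases hx : x = 0
      · simp [hx]
      · rcases mul_self_eq_one_iff.1 (hall x hx) with h | h <;> simp [h]
    have hle := (Finset.card_le_card hsub).trans Finset.card_le_three
    rw [Finset.card_univ] at hle
    have := Fintype.one_lt_card (α := F)
    obtain ⟨j, hj⟩ := hodd
    omega
  rcases Nat.lt_or_gt_of_ne hne with hlt | hlt
  · refine CfsgLib.Classical.TensorMaxO.omega_isMaximal hQ h2' hf₁ hf₂ hT h1 hlt ?_ (Or.inl h1o)
      (fun h4 => absurd h1o (by rw [h4]; decide)) hq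
    by_contra hb
    interval_cases n₂ <;> omega
  · rw [← CfsgLib.Classical.TensorMaxO.tensorProductSubgroup_swap]
    refine CfsgLib.Classical.TensorMaxO.omega_isMaximal hQ h2' hf₂ hf₁
      (CfsgLib.Classical.TensorMaxO.isTensorFormStructure_swap hT) (by omega) hlt ?_ (Or.inr h1o)
      (CfsgLib.Classical.TensorMaxO.noPlane_of_minus hf₂ hf₂m) (Or.inr h2)
    omega

end Cfsg.Agent.S5709
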