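import Cfsg.Statements.S5712
import Cfsg.Agent.Lib.Classical.SiegelOver.Stab
import Cfsg.Agent.Lib.Classical.SympMatrix
import Cfsg.Agent.Lib.Solvable.Cores

set_option autoImplicit false
set_option linter.unusedSectionVars false
open Cfsg Module CfsgLib.Classical CfsgLib.Classical.SiegelOver

namespace Cfsg.Agent.S5712

section Bridge

variable {F : Type*} [Field F] {n : ℕ}

/-- Invertible matrices as linear automorphisms. -/
noncomputable def toAut : GL (Fin n ⊕ Fin n) F ≃* ((Fin n ⊕ Fin n → F) ≃ₗ[F] (Fin n ⊕ Fin n → F)) :=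
  Matrix.GeneralLinearGroup.toLin.trans (LinearMap.GeneralLinearGroup.generalLinearEquiv _ _)

theorem toAut_apply (g : GL (Fin n ⊕ Fin n) F) (x : Fin n ⊕ Fin n → F) :
    toAut g x = Matrix.mulVec (g : Matrix (Fin n ⊕ Fin n) (Fin n ⊕ Fin n) F) x :=
  Matrix.toLin'_apply _ x

theorem rank_sub_one (g : GL (Fin n ⊕ Fin n) F) :
    ((g : Matrix (Fin n ⊕ Fin n) (Fin n ⊕ Fin n) F) - 1).rank =
      finrank F (LinearMap.range (((toAut g) : (Fin n ⊕ Fin n → F) →ₗ[F] _) - LinearMap.id)) := by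
  have e : (((g : Matrix (Fin n ⊕ Fin n) (Fin n ⊕ Fin n) F) - 1).mulVecLin) =
      ((toAut g : (Fin n ⊕ Fin n → F) ≃ₗ[F] _) : (Fin n ⊕ Fin n → F) →ₗ[F] _) - LinearMap.id := by
    refine LinearMap.ext fun x => ?_
    simp [Matrix.sub_mulVec, toAut_apply]
  rw [Matrix.rank, e]

theorem form_eq [CharP F 2] (u v : Fin n ⊕ Fin n → F) :
    sympBil F n u v = ∑ i : Fin n, (u (Sum.inl i) * v (Sum.inr i) + u (Sum.inr i) * v (Sum.inl i)) := by
  rw [sympBil_apply, sympForm_eq]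
  exact Finset.sum_congr rfl fun i _ => by rw [CharTwo.sub_eq_add, add_comm]

end Bridge

/-- Let F be a finite field of characteristic two, n ≥ 2, V = F^{2n} with the non-degenerate alternating form f(u, v) = Σ (u_i v_{n+i} + u_{n+i} v_i), and G the group of invertible matrices preserving f. Let a ≠ 0 be a vector, H its stabilizer in G, and X a subgroup of O₂(H) of order |F|^{2n−2} no element of which is a transvection (no element g has g − 1 of rank one). If L is a subgroup of G containing X that acts irreducibly on V (no proper non-zero L-invariant subspace), then L = G, or, for some quadratic form Q on V whose polar form is f, L is the isometry group of Q or its subgroup of the isometries g for which g − 1 has even rank, or |F| = 2, n = 2 and L is isomorphic to the alternating group of degree 6 or to the symmetric group of degree 5. -/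
theorem result {F : Type*} [Field F] [Fintype F] [CharP F 2] {n : ℕ} (hn : 2 ≤ n) (a : (Fin n ⊕ Fin n → F)) (ha : a ≠ 0)
    (X : Subgroup (GL (Fin n ⊕ Fin n) F)) (hXG : X ≤ Cfsg.preserving (Units.coeHom (Matrix (Fin n ⊕ Fin n) (Fin n ⊕ Fin n) F)) (fun u v : (Fin n ⊕ Fin n → F) => ∑ i : Fin n, (u (Sum.inl i) * v (Sum.inr i) + u (Sum.inr i) * v (Sum.inl i))))
    (hXO : ∀ H : Subgroup (GL (Fin n ⊕ Fin n) F),
      (∀ g : GL (Fin n ⊕ Fin n) F, g ∈ H ↔ (g ∈ Cfsg.preserving (Units.coeHom (Matrix (Fin n ⊕ Fin n) (Fin n ⊕ Fin n) F)) (fun u v : (Fin n ⊕ Fin n → F) => ∑ i : Fin n, (u (Sum.inl i) * v (Sum.inr i) + u (Sum.inr i) * v (Sum.inl i))) ∧ Matrix.mulVec (g : Matrix (Fin n ⊕ Fin n) (Fin n ⊕ Fin n) F) a = a)) →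
      X ≤ (Cfsg.pCore 2 ↥H).map H.subtype)
    (hcard : Nat.card ↥X = Fintype.card F ^ (2 * n - 2))
    (hntv : ∀ x ∈ X, ((x : Matrix (Fin n ⊕ Fin n) (Fin n ⊕ Fin n) F) - 1).rank ≠ 1)
    (L : Subgroup (GL (Fin n ⊕ Fin n) F)) (hXL : X ≤ L) (hLG : L ≤ Cfsg.preserving (Units.coeHom (Matrix (Fin n ⊕ Fin n) (Fin n ⊕ Fin n) F)) (fun u v : (Fin n ⊕ Fin n → F) => ∑ i : Fin n, (u (Sum.inl i) * v (Sum.inr i) + u (Sum.inr i) * v (Sum.inl i))))
    (hirr : ∀ W : Submodule F (Fin n ⊕ Fin n → F), (∀ g ∈ L, ∀ w ∈ W, Matrix.mulVec (g : Matrix (Fin n ⊕ Fin n) (Fin n ⊕ Fin n) F) w ∈ W) → W = ⊥ ∨ W = ⊤) :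
    L = Cfsg.preserving (Units.coeHom (Matrix (Fin n ⊕ Fin n) (Fin n ⊕ Fin n) F)) (fun u v : (Fin n ⊕ Fin n → F) => ∑ i : Fin n, (u (Sum.inl i) * v (Sum.inr i) + u (Sum.inr i) * v (Sum.inl i))) ∨
    (∃ Q : QuadraticForm F (Fin n ⊕ Fin n → F), (∀ u v, QuadraticMap.polar ⇑Q u v = (fun u v : (Fin n ⊕ Fin n → F) => ∑ i : Fin n, (u (Sum.inl i) * v (Sum.inr i) + u (Sum.inr i) * v (Sum.inl i))) u v) ∧
      (L = Cfsg.isometryGroup F ⇑Q ∨
        ∀ g : GL (Fin n ⊕ Fin n) F, g ∈ L ↔ (g ∈ Cfsg.isometryGroup F ⇑Q ∧ Even ((g : Matrix (Fin n ⊕ Fin n) (Fin n ⊕ Fin n) F) - 1).rank))) ∨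
    (Fintype.card F = 2 ∧ n = 2 ∧ (Nonempty (↥L ≃* ↥(alternatingGroup (Fin 6))) ∨ Nonempty (↥L ≃* Equiv.Perm (Fin 5)))) := by
  classical
  set P := Cfsg.preserving (Units.coeHom (Matrix (Fin n ⊕ Fin n) (Fin n ⊕ Fin n) F)) (fun u v : (Fin n ⊕ Fin n → F) => ∑ i : Fin n, (u (Sum.inl i) * v (Sum.inr i) + u (Sum.inr i) * v (Sum.inl i))) with hP
  set E := toAut (F := F) (n := n)
  set B := sympBil F n
  have hA : B.IsAlt := sympBil_isAlt n
  have hN : B.Nondegenerate := sympBil_nondegenerate n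
  have hPiff : ∀ g, g ∈ P ↔ E g ∈ isomGroup B := fun g => by
    rw [mem_isomGroup]
    exact forall₂_congr fun u v => by
      simp only [B, E, form_eq, toAut_apply, Units.coeHom_apply]
  -- transport a subgroup of `P`
  let T : Subgroup (GL (Fin n ⊕ Fin n) F) → Subgroup (isomGroup B) :=
    fun K => (K.map E.toMonoidHom).comap (isomGroup B).subtype
  have hT : ∀ K g, g ∈ T K ↔ E.symm g.1 ∈ K := fun K g => by
    show g.1 ∈ K.map E.toMonoidHom ↔ _
    exact Subgroup.mem_map_equiv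
  let up : ∀ g, g ∈ P → isomGroup B := fun g h => ⟨E g, (hPiff g).1 h⟩
  have hup : ∀ K g (h : g ∈ P), up g h ∈ T K ↔ g ∈ K := fun K g h => by
    rw [hT]; simp [up]
  have hTeq : ∀ K ≤ P, Nonempty (K ≃* T K) := fun K hK => by
    have hle : K.map E.toMonoidHom ≤ isomGroup B := by
      rintro _ ⟨g, hg, rfl⟩
      exact (hPiff g).1 (hK hg)
    exact ⟨(K.equivMapOfInjective E.toMonoidHom E.injective).trans
      (Subgroup.subgroupOfEquivOfLe hle).symm⟩
  -- the stabiliser and its two-core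
  set H : Subgroup (GL (Fin n ⊕ Fin n) F) :=
    P ⊓ (MulAction.stabilizer ((Fin n ⊕ Fin n → F) ≃ₗ[F] (Fin n ⊕ Fin n → F)) a).comap E.toMonoidHom
  have hH : ∀ g, g ∈ H ↔ (g ∈ P ∧
      Matrix.mulVec (g : Matrix (Fin n ⊕ Fin n) (Fin n ⊕ Fin n) F) a = a) := fun g => by
    simp [H, E, MulAction.mem_stabilizer_iff, toAut_apply]
  set C := (Cfsg.pCore 2 ↥H).map H.subtype
  have hXC : X ≤ C := hXO H hH
  have hCH : C ≤ H := Subgroup.map_subtype_le _
  have hCP : C ≤ P := hCH.trans inf_le_left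
  obtain ⟨eC⟩ := hTeq C hCP
  have h2 : IsPGroup 2 (T C) :=
    ((CfsgLib.Solvable.Cores.isPGroup_pCore (G := ↥H) 2).map H.subtype).of_equiv eC
  have hfix : ∀ g ∈ T C, g.1 a = a := fun g hg => by
    have := ((hH _).1 (hCH ((hT C g).1 hg))).2
    rw [← toAut_apply] at this
    simpa [E] using this
  have hnorm : ∀ k : isomGroup B, k.1 a = a → ∀ g ∈ T C, k * g * k⁻¹ ∈ T C := by
    intro k hk g hg
    rw [hT] at hg ⊢
    have hkH : E.symm k.1 ∈ H := (hH _).2 ⟨(hPiff _).2 (by simp [k.2]), by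
      rw [← toAut_apply]; simpa [E] using hk⟩
    obtain ⟨c, hc, hce⟩ := Subgroup.mem_map.1 hg
    have hnc : (Cfsg.pCore 2 ↥H).Normal := inferInstance
    refine Subgroup.mem_map.2 ⟨⟨_, hkH⟩ * c * ⟨_, hkH⟩⁻¹, hnc.conj_mem c hc _, ?_⟩
    simp only [Subgroup.coe_subtype] at hce
    simp [hce]
  have hd : finrank F (Fin n ⊕ Fin n → F) = 2 * n := by simp; ring
  obtain ⟨b, hab⟩ := alt_exists_partner hN.1 ha
  have hXP : X ≤ P := hXG
  obtain ⟨eX⟩ := hTeq X hXP
  have hXcard : Nat.card (T X) = Fintype.card F ^ (finrank F (Fin n ⊕ Fin n → F) - 2) := by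
    rw [← Nat.card_congr eX.toEquiv, hcard, hd]
  have htv : ∀ c : F, tv hA a c ∈ T X → c = 0 := by
    intro c hc
    by_contra hc0
    refine hntv _ ((hT X _).1 hc) ?_
    rw [rank_sub_one, show toAut (E.symm (tv hA a c).1) = (tv hA a c).1 from E.apply_symm_apply _]
    have e : LinearMap.range (((tv hA a c).1 : (Fin n ⊕ Fin n → F) →ₗ[F] _) - LinearMap.id) =
        Submodule.span F {a} := by
      refine le_antisymm ?_ ?_
      · rintro _ ⟨x, rfl⟩
        rw [LinearMap.sub_apply, LinearMap.id_apply, LinearEquiv.coe_coe, tv_apply,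
          add_sub_cancel_left]
        exact Submodule.smul_mem _ _ (Submodule.mem_span_singleton_self a)
      · rw [Submodule.span_singleton_le_iff_mem]
        refine ⟨c⁻¹ • b, ?_⟩
        rw [LinearMap.sub_apply, LinearMap.id_apply, LinearEquiv.coe_coe, tv_apply,
          add_sub_cancel_left, map_smul, LinearMap.smul_apply, symm2 hA b a, hab, smul_eq_mul,
          mul_one, mul_inv_cancel₀ hc0, one_smul]
    rw [e, finrank_span_singleton ha]
  have S : Setting hA (T L) a :=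
    { nd := hN
      irr := fun W hW => hirr W fun g hg w hw => by
        have h : toAut g w ∈ W := hW (up g (hLG hg)) ((hup L g (hLG hg)).2 hg) w hw
        rwa [toAut_apply] at h
      ne := ha
      siegel := fun w hw => by
        obtain ⟨c, hc⟩ := siegel_of_card hA hN (by omega) hab h2 hfix hnorm (X := T X)
          (fun g hg => (hT C g).2 (hXC ((hT X g).1 hg))) hXcard htv hw
        exact ⟨c, (hT L _).2 (hXL ((hT X _).1 hc))⟩
      dim := by omega }
  -- translate the conclusion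
  have top_case : T L = ⊤ → L = P := fun h => le_antisymm hLG fun g hg =>
    (hup L g hg).1 (h ▸ Subgroup.mem_top _)
  have orth_case : ∀ Q : QuadraticForm F (Fin n ⊕ Fin n → F),
      (∀ x y, QuadraticMap.polar (⇑Q) x y = B x y) →
      ((∀ g : isomGroup B, g ∈ T L ↔ ∀ x, Q (g.1 x) = Q x) ∨
        ∀ g : isomGroup B, g ∈ T L ↔ (∀ x, Q (g.1 x) = Q x) ∧ par g = 0) →
      ∃ Q : QuadraticForm F (Fin n ⊕ Fin n → F), (∀ u v, QuadraticMap.polar ⇑Q u v = (fun u v : (Fin n ⊕ Fin n → F) => ∑ i : Fin n, (u (Sum.inl i) * v (Sum.inr i) + u (Sum.inr i) * v (Sum.inl i))) u v) ∧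
      (L = Cfsg.isometryGroup F ⇑Q ∨
        ∀ g : GL (Fin n ⊕ Fin n) F, g ∈ L ↔ (g ∈ Cfsg.isometryGroup F ⇑Q ∧ Even ((g : Matrix (Fin n ⊕ Fin n) (Fin n ⊕ Fin n) F) - 1).rank)) := by
    intro Q hQ h
    have hiso : ∀ g, g ∈ Cfsg.isometryGroup F ⇑Q ↔ ∀ x, Q (toAut g x) = Q x := fun g => by
      refine ⟨fun h x => ?_, fun h u v => ?_⟩
      · rw [toAut_apply]; exact h x x
      · have := h u; rwa [toAut_apply] at this
    have hQP : ∀ g, g ∈ Cfsg.isometryGroup F ⇑Q → g ∈ P := fun g hg => by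
      rw [hiso] at hg
      refine (hPiff g).2 fun x y => ?_
      rw [← hQ, ← hQ]
      simp only [QuadraticMap.polar, ← map_add, E, hg]
    refine ⟨Q, fun u v => by rw [hQ]; exact form_eq u v, h.imp (fun h => ?_) fun h g => ?_⟩
    · ext g
      constructor
      · intro hg
        exact (hiso g).2 ((h (up g (hLG hg))).1 ((hup L g (hLG hg)).2 hg))
      · intro hg
        exact (hup L g (hQP g hg)).1 ((h _).2 ((hiso g).1 hg))
    · have hpar : ∀ (h : g ∈ P), par (up g h) = 0 ↔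
          Even ((g : Matrix (Fin n ⊕ Fin n) (Fin n ⊕ Fin n) F) - 1).rank := fun h => by
        rw [Nat.even_iff, rank_sub_one]; rfl
      constructor
      · intro hg
        obtain ⟨h1, h2⟩ := (h (up g (hLG hg))).1 ((hup L g (hLG hg)).2 hg)
        exact ⟨(hiso g).2 h1, (hpar (hLG hg)).1 h2⟩
      · rintro ⟨h1, h2⟩
        exact (hup L g (hQP g h1)).1 ((h _).2 ⟨(hiso g).1 h1, (hpar (hQP g h1)).2 h2⟩)
  by_cases hcase : Fintype.card F = 2 ∧ n = 2
  · rcases small_case hcase.1 (by rw [hd, hcase.2]) S with h | ⟨Q, hQ, h⟩ | h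
    · exact Or.inl (top_case h)
    · exact Or.inr (Or.inl (orth_case Q hQ h))
    · obtain ⟨eL⟩ := hTeq L hLG
      exact Or.inr (Or.inr ⟨hcase.1, hcase.2,
        h.imp (fun f => f.map eL.trans) fun f => f.map eL.trans⟩)
  · have hbig : (∃ e : F, e ≠ 0 ∧ e ≠ 1) ∨ 6 ≤ finrank F (Fin n ⊕ Fin n → F) := by
      by_cases h : ∃ e : F, e ≠ 0 ∧ e ≠ 1
      · exact Or.inl h
      right
      have hle : (Finset.univ : Finset F) ⊆ {0, 1} := fun x _ => by
        by_contra hx
        simp only [Finset.mem_insert, Finset.mem_singleton, not_or] at hx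
        exact h ⟨x, hx⟩
      have h1 := Finset.card_le_card hle
      rw [Finset.card_pair zero_ne_one, Finset.card_univ] at h1
      have h2 := Fintype.one_lt_card (α := F)
      have : n ≠ 2 := fun e => hcase ⟨by omega, e⟩
      omega
    rcases eq_top_or_orth S hbig with h | ⟨Q, hQ, h⟩
    · exact Or.inl (top_case h)
    · exact Or.inr (Or.inl (orth_case Q hQ h))

end Cfsg.Agent.S5712
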