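import Cfsg.Statements.S5713
import Cfsg.Agent.Lib.Perm.BabaiMinimalDegree

set_option autoImplicit false
open Cfsg

namespace Cfsg.Agent.S5713

/-- A classification-free minimal-degree bound. Let G be a finite group acting faithfully and primitively on a finite set Ω with n elements, and suppose that the image of G in the symmetric group on Ω does not contain the alternating group on Ω. Then every non-identity element of G moves at least (√n − 1)/2 points of Ω, that is, it fixes at most n − (√n − 1)/2 points. -/
theorem result {G Ω : Type*} [Group G] [Finite G] [MulAction G Ω] [FaithfulSMul G Ω] [Fintype Ω] [DecidableEq Ω]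
    (hprim : MulAction.IsPreprimitive G Ω)
    (hA : ¬ alternatingGroup Ω ≤ (MulAction.toPermHom G Ω).range)
    (g : G) (hg : g ≠ 1) :
    (Real.sqrt (Fintype.card Ω) - 1) / 2 ≤ (Fintype.card Ω : ℝ) - Nat.card (MulAction.fixedBy Ω g) := by
  classical
  obtain ⟨a, ha⟩ : ∃ a : Ω, g • a ≠ a := by
    by_contra hne
    push Not at hne
    exact hg (FaithfulSMul.eq_of_smul_eq_smul (α := Ω) fun x => by rw [hne x, one_smul])
  set S : Finset Ω := Finset.univ.filter fun x => g • x ≠ x with hSdef
  have hcard : Nat.card (MulAction.fixedBy Ω g) + S.card = Fintype.card Ω := by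
    rw [← Finset.card_univ, ← Finset.card_filter_add_card_filter_not (s := Finset.univ) (fun x => g • x = x),
      Nat.card_eq_fintype_card, Fintype.card_congr (Equiv.refl (MulAction.fixedBy Ω g))]
    congr 1
    rw [← Set.toFinset_card]
    congr 1
    ext x
    simp [MulAction.mem_fixedBy]
  suffices key : Fintype.card Ω ≤ (2 * S.card + 1) ^ 2 by
    have h1 : Real.sqrt (Fintype.card Ω) ≤ ((2 * S.card + 1 : ℕ) : ℝ) :=
      Real.sqrt_le_iff.2 ⟨Nat.cast_nonneg _, by exact_mod_cast key⟩
    rw [← hcard] at *
    push_cast at h1 ⊢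
    linarith
  by_cases h2t : ∀ a b a' b' : Ω, a ≠ b → a' ≠ b' →
      CfsgLib.Perm.Babai.col G a b = CfsgLib.Perm.Babai.col G a' b'
  · by_contra hlt
    push Not at hlt
    obtain ⟨k, hk⟩ := CfsgLib.Perm.Babai.exists_threeCycle h2t ha (S := S)
      (fun x hx => by simp [hSdef, hx]) (by nlinarith)
    haveI := hprim
    let f : Ω →ₑ[(MulAction.toPermHom G Ω).rangeRestrict] Ω := ⟨id, fun _ _ => rfl⟩
    have hP : MulAction.IsPreprimitive (MulAction.toPermHom G Ω).range Ω :=
      MulAction.IsPreprimitive.of_surjective (f := f) Function.surjective_id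
    exact hA (Equiv.Perm.alternatingGroup_le_of_isPreprimitive_of_isThreeCycle_mem hP hk ⟨k, rfl⟩)
  · haveI := hprim
    refine (CfsgLib.Perm.Babai.dset_bound h2t (Ne.symm ha)).trans (Nat.pow_le_pow_left ?_ 2)
    have hsub : CfsgLib.Perm.Babai.dset G a (g • a) ⊆ S := by
      intro z hz
      rw [CfsgLib.Perm.Babai.mem_dset] at hz
      simp only [hSdef, Finset.mem_filter, Finset.mem_univ, true_and]
      intro hzfix
      exact hz ((CfsgLib.Perm.Babai.col_smul g z a).symm.trans (by rw [hzfix]))
    have := Finset.card_le_card hsub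
    omega

end Cfsg.Agent.S5713
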