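import Cfsg.Statements.S5726

set_option autoImplicit false
open Cfsg

namespace Cfsg.Agent.S5726

/-- If a finite group acts faithfully and transitively on a set with p^k elements, p a prime and k ≥ 1, then some element of order p fixes no point. -/
theorem result {G Ω : Type*} [Group G] [Finite G] [MulAction G Ω] [FaithfulSMul G Ω] [Fintype Ω] (htr : MulAction.IsPretransitive G Ω)
    (p k : ℕ) (hp : p.Prime) (hk : 1 ≤ k) (hΩ : Fintype.card Ω = p ^ k) :
    ∃ g : G, orderOf g = p ∧ ∀ ω : Ω, g • ω ≠ ω := by
  classical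
  haveI := Fact.mk hp
  haveI := htr
  haveI : Nonempty Ω := Fintype.card_pos_iff.1 (by rw [hΩ]; exact pow_pos hp.pos k)
  obtain ⟨P⟩ : Nonempty (Sylow p G) := inferInstance
  have htrP : ∀ x y : Ω, ∃ g : (P : Subgroup G), (g : G) • x = y := by
    intro x y
    have hsize : p ^ k ≤ Nat.card (MulAction.orbit (P : Subgroup G) x) := by
      have h1 : (MulAction.stabilizer G x).index = p ^ k := by
        rw [MulAction.index_stabilizer_of_transitive, Nat.card_eq_fintype_card, hΩ]
      have h2 : Nat.card (MulAction.orbit (P : Subgroup G) x) = (MulAction.stabilizer G x).relIndex (P : Subgroup G) := by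
        rw [Subgroup.relIndex, Nat.card_coe_set_eq, ← MulAction.index_stabilizer]
        rfl
      have h3 : (MulAction.stabilizer G x ⊓ (P : Subgroup G)).index =
          (MulAction.stabilizer G x).relIndex (P : Subgroup G) * (P : Subgroup G).index := by
        rw [← Subgroup.inf_relIndex_right, Subgroup.relIndex_mul_index inf_le_right]
      have h4 : p ^ k ∣ (MulAction.stabilizer G x).relIndex (P : Subgroup G) * (P : Subgroup G).index := by
        rw [← h3, ← h1]
        exact Subgroup.index_dvd_of_le inf_le_left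
      have h5 : Nat.Coprime (p ^ k) (P : Subgroup G).index :=
        Nat.Coprime.pow_left k ((Nat.Prime.coprime_iff_not_dvd hp).2 P.not_dvd_index)
      rw [h2]
      refine Nat.le_of_dvd ?_ (h5.dvd_of_dvd_mul_right h4)
      exact Nat.pos_of_ne_zero Subgroup.index_ne_zero_of_finite
    have huniv : MulAction.orbit (P : Subgroup G) x = Set.univ := by
      apply Set.eq_of_subset_of_ncard_le (Set.subset_univ _) ?_ (Set.toFinite _)
      rw [Set.ncard_univ, Nat.card_eq_fintype_card, hΩ, ← Nat.card_coe_set_eq]
      exact hsize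
    obtain ⟨g, hg⟩ := (huniv ▸ Set.mem_univ y : y ∈ MulAction.orbit (P : Subgroup G) x)
    exact ⟨g, hg⟩
  haveI : Nontrivial Ω := Fintype.one_lt_card_iff_nontrivial.1 (by rw [hΩ]; exact Nat.one_lt_pow (by omega) hp.one_lt)
  haveI : Nontrivial (P : Subgroup G) := by
    obtain ⟨x, y, hxy⟩ := exists_pair_ne Ω
    obtain ⟨g, hg⟩ := htrP x y
    exact ⟨g, 1, fun h => hxy (by simpa [h] using hg)⟩
  haveI := P.isPGroup'.center_nontrivial
  have hc := P.isPGroup'.to_subgroup (Subgroup.center (P : Subgroup G))
  obtain ⟨e, he, hcard⟩ := hc.nontrivial_iff_card.1 inferInstance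
  obtain ⟨z, hz⟩ := exists_prime_orderOf_dvd_card' (G := Subgroup.center (P : Subgroup G)) p (by rw [hcard]; exact dvd_pow_self p (by omega))
  refine ⟨((z : (P : Subgroup G)) : G), by rw [Subgroup.orderOf_coe, Subgroup.orderOf_coe, hz], fun ω hω => ?_⟩
  have : ((z : (P : Subgroup G)) : G) = 1 := by
    apply eq_of_smul_eq_smul (α := Ω)
    intro y
    obtain ⟨g, rfl⟩ := htrP ω y
    rw [one_smul, ← mul_smul, ← Subgroup.coe_mul, ← Subgroup.mem_center_iff.1 z.2 g, Subgroup.coe_mul, mul_smul, hω]
  have : z = 1 := Subtype.ext (Subtype.ext this)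
  rw [this, orderOf_one] at hz
  exact hp.ne_one hz.symm

end Cfsg.Agent.S5726
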