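import Cfsg.Statements.S5727
import Cfsg.Agent.S5726

set_option autoImplicit false
set_option linter.style.haveILetI false
open Cfsg

namespace Cfsg.Agent.S5727

/-- If a finite group acts faithfully and transitively on a set with m·p elements, where p is a prime and 1 ≤ m ≤ p, then some element of order p fixes no point. -/
theorem result {G Ω : Type*} [Group G] [Finite G] [MulAction G Ω] [FaithfulSMul G Ω] [Fintype Ω] (htr : MulAction.IsPretransitive G Ω)
    (p m : ℕ) (hp : p.Prime) (hm : 1 ≤ m) (hmp : m ≤ p) (hΩ : Fintype.card Ω = m * p) :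
    ∃ g : G, orderOf g = p ∧ ∀ ω : Ω, g • ω ≠ ω := by
  classical
  haveI := Fact.mk hp
  haveI := htr
  rcases hmp.lt_or_eq with hlt | rfl
  swap
  · exact Cfsg.Agent.S5726.result htr m 2 hp (by norm_num) (by rw [hΩ, pow_two])
  haveI : Nonempty Ω := Fintype.card_pos_iff.1 (by rw [hΩ]; exact Nat.mul_pos hm hp.pos)
  obtain ⟨P⟩ : Nonempty (Sylow p G) := inferInstance
  obtain ⟨e, hPcard⟩ := IsPGroup.iff_card.1 P.isPGroup'
  let S : Ω → Subgroup (P : Subgroup G) := fun x => MulAction.stabilizer (P : Subgroup G) x
  have horb : ∀ x : Ω, (S x).index = p := by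
    intro x
    have hdvd : p ∣ (S x).index := by
      have h1 : (MulAction.stabilizer G x).index = m * p := by
        rw [MulAction.index_stabilizer_of_transitive, Nat.card_eq_fintype_card, hΩ]
      have hS : (S x).index = (MulAction.stabilizer G x).relIndex (P : Subgroup G) := rfl
      have h3 : (MulAction.stabilizer G x ⊓ (P : Subgroup G)).index =
          (MulAction.stabilizer G x).relIndex (P : Subgroup G) * (P : Subgroup G).index := by
        rw [← Subgroup.inf_relIndex_right, Subgroup.relIndex_mul_index inf_le_right]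
      have h4 : p ∣ (S x).index * (P : Subgroup G).index := by
        rw [hS, ← h3]
        exact (dvd_mul_left p m).trans (h1 ▸ Subgroup.index_dvd_of_le inf_le_left)
      exact (hp.dvd_mul.1 h4).resolve_right P.not_dvd_index
    have hd2 : (S x).index ∣ p ^ e := hPcard ▸ Subgroup.index_dvd_card _
    obtain ⟨i, hi, hieq⟩ := (Nat.dvd_prime_pow hp).1 hd2
    have hle : (S x).index ≤ m * p := by
      rw [← hΩ, MulAction.index_stabilizer, ← Nat.card_eq_fintype_card]
      exact Set.ncard_le_card _
    rw [hieq] at hle hdvd ⊢
    rcases i with - | - | i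
    · simp [hp.ne_one] at hdvd
    · simp
    · exfalso
      have : p ^ 2 ≤ p ^ (i + 1 + 1) := Nat.pow_le_pow_right hp.pos (by omega)
      nlinarith [hp.pos]
  have hnorm : ∀ x : Ω, (S x).Normal := fun x => by
    have he : e ≠ 0 := by
      intro he
      have := Subgroup.index_dvd_card (S x)
      rw [horb x, hPcard, he, pow_zero] at this
      exact hp.ne_one (Nat.dvd_one.1 this)
    refine Subgroup.normal_of_index_eq_minFac_card ?_
    rw [horb x, hPcard, Nat.pow_minFac he, hp.minFac_eq]
  have hSconj : ∀ (g : (P : Subgroup G)) (x : Ω), S (g • x) = S x := by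
    intro g x
    haveI := hnorm x
    ext h
    simp only [S, MulAction.mem_stabilizer_iff]
    constructor
    · intro hh
      have : g⁻¹ * h * g ∈ S x := by
        simp [S, MulAction.mem_stabilizer_iff, mul_smul, hh]
      have := (hnorm x).conj_mem _ this g
      simpa [mul_assoc, S, MulAction.mem_stabilizer_iff] using this
    · intro hh
      have : g⁻¹ * h * g ∈ S x := by
        have := (hnorm x).conj_mem h hh g⁻¹
        simpa using this
      simpa [S, MulAction.mem_stabilizer_iff, mul_smul, inv_smul_eq_iff] using this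
  set Q := Quotient (MulAction.orbitRel (P : Subgroup G) Ω)
  haveI : Fintype Q := Fintype.ofFinite _
  let rep : Q → Ω := fun q => q.out
  have hrep : ∀ x : Ω, ∃ q : Q, S x = S (rep q) := fun x => by
    refine ⟨Quotient.mk'' x, ?_⟩
    obtain ⟨g, hg⟩ := Quotient.mk_out (s := MulAction.orbitRel (P : Subgroup G) Ω) x
    rw [show rep (Quotient.mk'' x) = g • x from hg.symm, hSconj]
  have hQ : Fintype.card Q * p = m * p := by
    rw [← hΩ, Fintype.card_congr (MulAction.selfEquivSigmaOrbits (P : Subgroup G) Ω), Fintype.card_sigma,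
      Finset.sum_congr rfl fun q _ => show Fintype.card (MulAction.orbit (P : Subgroup G) q.out) = p by
        rw [← Nat.card_eq_fintype_card, Nat.card_coe_set_eq, ← MulAction.index_stabilizer]; exact horb _]
    simp [mul_comm]
    exact Or.inl (Fintype.card_congr (Equiv.refl _))
  have hQm : Fintype.card Q = m := Nat.eq_of_mul_eq_mul_right hp.pos hQ
  haveI := Fintype.ofFinite G
  have hex : ∃ g : (P : Subgroup G), ∀ x : Ω, g ∉ S x := by
    by_contra h
    push Not at h
    have hcov : (Finset.univ : Finset (P : Subgroup G)) ⊆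
        (Finset.univ : Finset Q).biUnion fun q => Finset.univ.filter fun g => g ∈ S (rep q) := by
      intro g _
      obtain ⟨x, hx⟩ := h g
      obtain ⟨q, hq⟩ := hrep x
      simp only [Finset.mem_biUnion, Finset.mem_filter, Finset.mem_univ, true_and]
      exact ⟨q, hq ▸ hx⟩
    have hle := (Finset.card_le_card hcov).trans Finset.card_biUnion_le
    have hsz : ∀ q : Q, (Finset.univ.filter fun g : (P : Subgroup G) => g ∈ S (rep q)).card * p = Fintype.card (P : Subgroup G) := fun q => by
      rw [← Fintype.card_subtype, ← Nat.card_eq_fintype_card, ← Nat.card_eq_fintype_card]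
      have h := Subgroup.card_mul_index (S (rep q))
      rwa [horb] at h
    have := Nat.mul_le_mul_right p hle
    rw [Finset.sum_mul, Finset.sum_congr rfl fun q _ => hsz q, Finset.sum_const, smul_eq_mul,
      Finset.card_univ, Finset.card_univ, hQm] at this
    have hpos : 0 < Fintype.card (P : Subgroup G) := Fintype.card_pos
    nlinarith
  obtain ⟨g, hg⟩ := hex
  refine ⟨(g : G), ?_, fun x hx => hg x hx⟩
  rw [Subgroup.orderOf_coe]
  apply orderOf_eq_prime
  · have hpow : ∀ x : Ω, g ^ p ∈ S x := fun x => by
      have := hnorm x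
      have h := Subgroup.pow_index_mem (S x) g
      rwa [horb x] at h
    apply Subtype.ext
    apply eq_of_smul_eq_smul (α := Ω)
    intro x
    rw [Subgroup.coe_one, one_smul]
    exact hpow x
  · intro h
    exact hg (Classical.arbitrary Ω) (h ▸ one_mem _)

end Cfsg.Agent.S5727
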