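import Cfsg.Statements.S5728

set_option autoImplicit false
open Cfsg

namespace Cfsg.Agent.S5728

/-- An elusive transitive action. Let p = 2^s − 1 be a prime and let F be the field with p² elements. Inside the group of affine maps x ↦ a·x + b of F (a ≠ 0), consider the subgroup of maps with both coefficients in the prime field. Then every element of prime order of the affine group is conjugate, within the affine group, to an element of that subgroup; equivalently, in the transitive action of the affine group on the cosets of that subgroup (of degree p(p + 1)) every element of prime order fixes a point. -/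
theorem result (p s : ℕ) [Fact p.Prime] (hs : p = 2 ^ s - 1)
    (g : Equiv.Perm (GaloisField p 2)) (hg : g ∈ Cfsg.affineGroup (GaloisField p 2)) (hord : (orderOf g).Prime) :
    ∃ x ∈ Cfsg.affineGroup (GaloisField p 2), ∃ a b : ZMod p, a ≠ 0 ∧
      ∀ y : GaloisField p 2, (x * g * x⁻¹) y = algebraMap (ZMod p) (GaloisField p 2) a * y + algebraMap (ZMod p) (GaloisField p 2) b := by
  classical
  have hg' := hg
  obtain ⟨a, b, hab⟩ := hg'
  have mkA : ∀ (c : (GaloisField p 2)ˣ) (d : GaloisField p 2), ∃ x ∈ Cfsg.affineGroup (GaloisField p 2),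
      ∀ y, x y = (c : GaloisField p 2) * y + d := fun c d =>
    ⟨(c.mulLeft).trans (Equiv.addRight d), ⟨c, d, fun y => rfl⟩, fun y => rfl⟩
  have hcj : ∀ (x : Equiv.Perm (GaloisField p 2)) y, (x * g * x⁻¹) (x y) = x (g y) := fun x y => by simp
  by_cases ha1 : (a : GaloisField p 2) = 1
  · have hb : b ≠ 0 := fun hb => hord.ne_one (orderOf_eq_one_iff.2 (Equiv.ext fun y => by
      rw [hab, ha1, hb, one_mul, add_zero]; rfl))
    obtain ⟨x, hx, hxe⟩ := mkA (Units.mk0 b⁻¹ (inv_ne_zero hb)) 0
    refine ⟨x, hx, 1, 1, one_ne_zero, fun y => ?_⟩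
    obtain ⟨z, rfl⟩ := x.surjective y
    rw [hcj, hxe, hxe, hab, ha1, map_one, Units.val_mk0]
    field_simp
    ring
  have h1a : (1 : GaloisField p 2) - a ≠ 0 := sub_ne_zero.2 (Ne.symm ha1)
  obtain ⟨x, hx, hxe⟩ := mkA 1 (-(b / (1 - a)))
  have hconj : ∀ y, (x * g * x⁻¹) y = (a : GaloisField p 2) * y := fun y => by
    obtain ⟨z, rfl⟩ := x.surjective y
    rw [hcj, hxe, hxe, hab, Units.val_one]
    field_simp
    ring
  -- the multiplier has prime order
  set r := orderOf g
  have har : (a : GaloisField p 2) ^ r = 1 := by
    have hpow : ∀ (k : ℕ) y, ((x * g * x⁻¹) ^ k) y = (a : GaloisField p 2) ^ k * y := by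
      intro k
      induction k with
      | zero => intro y; simp
      | succ k ih => intro y; rw [pow_succ', Equiv.Perm.mul_apply, ih, hconj, pow_succ']; ring
    have h1 := hpow r 1
    rw [conj_pow, pow_orderOf_eq_one, mul_one, mul_inv_cancel, mul_one] at h1
    exact h1.symm
  have hp : p.Prime := Fact.out
  haveI : Finite (GaloisField p 2) := inferInstance
  letI : Fintype (GaloisField p 2) := Fintype.ofFinite _
  have hcard : Fintype.card (GaloisField p 2) = p ^ 2 := by
    rw [← Nat.card_eq_fintype_card, GaloisField.card p 2 two_ne_zero]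
  have hsuff : (a : GaloisField p 2) ^ (p - 1) = 1 := by
    by_cases hr2 : r = 2
    · have hsq : ((a : GaloisField p 2) - 1) * ((a : GaloisField p 2) + 1) = 0 := by
        rw [hr2] at har; linear_combination har
      rw [eq_neg_of_add_eq_zero_left ((mul_eq_zero.1 hsq).resolve_left (sub_ne_zero.2 ha1))]
      have h2le := hp.two_le
      rcases Nat.even_or_odd (p - 1) with he | ho
      · exact he.neg_one_pow
      · exfalso
        have hev : Even p := by
          rcases Nat.even_or_odd p with h | ⟨j, hj⟩
          · exact h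
          · obtain ⟨i, hi⟩ := ho; omega
        rw [hp.even_iff.1 hev] at hs
        rcases s with _ | s
        · simp at hs
        · rw [pow_succ] at hs; omega
    · have hdiv : r ∣ p ^ 2 - 1 := by
        have h1 : orderOf (a : GaloisField p 2) ∣ p ^ 2 - 1 :=
          orderOf_dvd_of_pow_eq_one (by rw [← hcard]; exact FiniteField.pow_card_sub_one_eq_one _ a.ne_zero)
        rwa [(Nat.prime_dvd_prime_iff_eq (by
          rcases hord.eq_one_or_self_of_dvd _ (orderOf_dvd_of_pow_eq_one har) with h | h
          · exact absurd (orderOf_eq_one_iff.1 h) ha1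
          · rw [h]; exact hord) hord).1 (orderOf_dvd_of_pow_eq_one har)] at h1
      have hfac : p ^ 2 - 1 = (p - 1) * 2 ^ s := by
        have : 2 ^ s = p + 1 := by have := Nat.one_le_two_pow (n := s); omega
        rw [this, mul_comm, ← Nat.sq_sub_sq]
      rw [hfac] at hdiv
      rcases hord.dvd_mul.1 hdiv with h | h
      · obtain ⟨j, hj⟩ := h
        rw [hj, pow_mul, har, one_pow]
      · exact absurd ((Nat.prime_dvd_prime_iff_eq hord Nat.prime_two).1 (hord.dvd_of_dvd_pow h)) hr2
  -- hence it lies in the prime field
  obtain ⟨c, hc⟩ : ∃ c : ZMod p, algebraMap (ZMod p) (GaloisField p 2) c = a := by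
    have h2le := hp.two_le
    have hpc : (a : GaloisField p 2) ^ p = a := by
      have e : p - 1 + 1 = p := by omega
      have h := pow_succ (a : GaloisField p 2) (p - 1)
      rw [hsuff, one_mul] at h
      exact (congrArg (fun k => (a : GaloisField p 2) ^ k) e).symm.trans h
    let P : Polynomial (GaloisField p 2) := Polynomial.X ^ p - Polynomial.X
    have hP : P ≠ 0 := FiniteField.X_pow_card_sub_X_ne_zero _ hp.one_lt
    by_contra! hne
    have hinj := (algebraMap (ZMod p) (GaloisField p 2)).injective
    have hsub : insert (a : GaloisField p 2) (Finset.univ.image (algebraMap (ZMod p) (GaloisField p 2))) ⊆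
        P.roots.toFinset := by
      intro y hy
      rw [Multiset.mem_toFinset, Polynomial.mem_roots hP]
      rcases Finset.mem_insert.1 hy with rfl | hy
      · simp [P, hpc]
      · obtain ⟨c, -, rfl⟩ := Finset.mem_image.1 hy
        simp [P, ← map_pow, ZMod.pow_card]
    have h1 := (Finset.card_le_card hsub).trans (P.roots.toFinset_card_le.trans (Polynomial.card_roots' P))
    rw [Finset.card_insert_of_notMem (by simpa using hne), Finset.card_image_of_injective _ hinj,
      Finset.card_univ, ZMod.card, FiniteField.X_pow_card_sub_X_natDegree_eq _ hp.one_lt] at h1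
    omega
  refine ⟨x, hx, c, 0, fun h0 => a.ne_zero (by rw [← hc, h0, map_zero]), fun y => ?_⟩
  rw [hconj, hc, map_zero, add_zero]

end Cfsg.Agent.S5728
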