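import Cfsg.Statements.S5729

set_option autoImplicit false
set_option linter.style.haveILetI false
open Cfsg

namespace Cfsg.Agent.S5729

/-- Let a finite group G act faithfully and transitively on a set with n ≥ 3 points. Then either G is a Frobenius permutation group (Frobenius as a permutation group: transitive, some non-identity element fixes a point, and no non-identity element fixes two points) of order n(n − 1) and exactly |G|/n of its elements are derangements (fix no point), or the number of derangements is greater than |G|/n. -/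
theorem result {G Ω : Type*} [Group G] [Finite G] [MulAction G Ω] [FaithfulSMul G Ω] [Fintype Ω] (htr : MulAction.IsPretransitive G Ω) (hn : 3 ≤ Fintype.card Ω) :
    ((MulAction.IsPretransitive G Ω ∧ (∃ g : G, g ≠ 1 ∧ ∃ ω : Ω, g • ω = ω) ∧ ∀ g : G, g ≠ 1 → Nat.card (MulAction.fixedBy Ω g) ≤ 1) ∧ Nat.card G = Fintype.card Ω * (Fintype.card Ω - 1) ∧ Fintype.card Ω * Nat.card {g : G // ∀ ω : Ω, g • ω ≠ ω} = Nat.card G) ∨
    Nat.card G < Fintype.card Ω * Nat.card {g : G // ∀ ω : Ω, g • ω ≠ ω} := by
  classical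
  haveI : Nonempty Ω := Fintype.card_pos_iff.1 (by omega)
  haveI := Fintype.ofFinite G
  haveI := htr
  set n := Fintype.card Ω with hn_def
  set π : G → ℕ := fun g => Fintype.card (MulAction.fixedBy Ω g) with hπ
  have h1 : ∑ g : G, π g = Fintype.card G := by
    have h := MulAction.sum_card_fixedBy_eq_card_orbits_mul_card_group G Ω
    rw [show Fintype.card (Quotient (MulAction.orbitRel G Ω)) = 1 from
      Fintype.card_eq_one_iff.2 ⟨Quotient.mk'' (Classical.arbitrary Ω), fun q => ?_⟩, one_mul] at h
    · exact h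
    · induction q using Quotient.inductionOn' with | _ x => ?_
      exact Quotient.sound' (MulAction.exists_smul_eq G (Classical.arbitrary Ω) x)
  set r := Fintype.card (Quotient (MulAction.orbitRel G (Ω × Ω))) with hr
  have h2 : ∑ g : G, π g * π g = r * Fintype.card G := by
    rw [hr, ← MulAction.sum_card_fixedBy_eq_card_orbits_mul_card_group G (Ω × Ω)]
    refine Finset.sum_congr rfl fun g _ => ?_
    rw [← Fintype.card_prod]
    exact Fintype.card_congr
      { toFun := fun x => ⟨(x.1.1, x.2.1), Prod.ext x.1.2 x.2.2⟩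
        invFun := fun x => (⟨x.1.1, congrArg Prod.fst x.2⟩, ⟨x.1.2, congrArg Prod.snd x.2⟩)
        left_inv := fun x => rfl
        right_inv := fun x => rfl }
  obtain ⟨a, b, hab⟩ := Fintype.exists_pair_of_one_lt_card (show 1 < Fintype.card Ω by omega)
  have hne : (Quotient.mk'' (a, a) : Quotient (MulAction.orbitRel G (Ω × Ω))) ≠ Quotient.mk'' (a, b) := by
    intro h
    obtain ⟨g, hg⟩ := Quotient.exact' h
    simp only [Prod.smul_mk, Prod.mk.injEq] at hg
    exact hab (MulAction.injective g (hg.1.trans hg.2.symm))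
  have hr2 : 2 ≤ r := Fintype.one_lt_card_iff.2 ⟨_, _, hne⟩
  set D := Finset.univ.filter fun g : G => ∀ ω : Ω, g • ω ≠ ω with hD
  have hDc : Nat.card {g : G // ∀ ω : Ω, g • ω ≠ ω} = D.card := by
    rw [Nat.card_eq_fintype_card, Fintype.card_subtype]
  have hπ0 : ∀ g : G, (∀ ω : Ω, g • ω ≠ ω) → π g = 0 := fun g hg =>
    Fintype.card_eq_zero_iff.2 ⟨fun x => hg x.1 x.2⟩
  have hπ1 : ∀ g : G, ¬ (∀ ω : Ω, g • ω ≠ ω) → 1 ≤ π g := fun g hg => by
    push Not at hg
    obtain ⟨ω, hω⟩ := hg
    exact Fintype.card_pos_iff.2 ⟨⟨ω, hω⟩⟩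
  have hπn : ∀ g : G, π g ≤ n := fun g => Fintype.card_subtype_le _
  set T : G → ℤ := fun g => ((π g : ℤ) - 1) * ((π g : ℤ) - n) with hT
  have hsum : ∑ g : G, T g = (Fintype.card G : ℤ) * (r - 1) := by
    have e1 : (∑ g : G, (π g : ℤ)) = Fintype.card G := by exact_mod_cast h1
    have e2 : (∑ g : G, (π g : ℤ) * π g) = r * Fintype.card G := by exact_mod_cast h2
    have : ∀ g : G, T g = (π g : ℤ) * π g - ((n : ℤ) + 1) * π g + n := fun g => by simp only [hT]; ring
    rw [Finset.sum_congr rfl fun g _ => this g, Finset.sum_add_distrib, Finset.sum_sub_distrib,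
      ← Finset.mul_sum, e1, e2, Finset.sum_const, Finset.card_univ, nsmul_eq_mul]
    ring
  have hle : ∀ g : G, T g ≤ if g ∈ D then (n : ℤ) else 0 := fun g => by
    by_cases hg : ∀ ω : Ω, g • ω ≠ ω
    · rw [if_pos (by simpa [hD] using hg)]
      simp [hT, hπ0 g hg]
    · rw [if_neg (by simpa [hD] using hg)]
      have := hπ1 g hg
      have := hπn g
      exact mul_nonpos_of_nonneg_of_nonpos (by omega) (by omega)
  have hrhs : (∑ g : G, if g ∈ D then (n : ℤ) else 0) = (n : ℤ) * D.card := by
    rw [Finset.sum_ite_mem, Finset.univ_inter, Finset.sum_const, nsmul_eq_mul, mul_comm]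
  have hineq : (Fintype.card G : ℤ) * (r - 1) ≤ n * D.card := by
    rw [← hsum, ← hrhs]
    exact Finset.sum_le_sum fun g _ => hle g
  have hG : 0 < Fintype.card G := Fintype.card_pos
  rw [hDc, Nat.card_eq_fintype_card]
  by_cases hlt : Fintype.card G < n * D.card
  · exact Or.inr hlt
  left
  have hGz : (Fintype.card G : ℤ) ≤ (Fintype.card G : ℤ) * (r - 1) := le_mul_of_one_le_right (by positivity) (by omega)
  have hup : (n : ℤ) * D.card ≤ Fintype.card G := by exact_mod_cast Nat.le_of_not_lt hlt
  have hr_eq : r = 2 := by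
    have : (Fintype.card G : ℤ) * (r - 1) ≤ (Fintype.card G : ℤ) * 1 := by linarith
    have := le_of_mul_le_mul_left this (by exact_mod_cast hG)
    omega
  have hEq : n * D.card = Fintype.card G := by
    have : (n : ℤ) * D.card = Fintype.card G := le_antisymm hup (hGz.trans hineq)
    exact_mod_cast this
  have hall : ∀ g ∈ (Finset.univ : Finset G), T g = if g ∈ D then (n : ℤ) else 0 :=
    (Finset.sum_eq_sum_iff_of_le fun g _ => hle g).1 (by rw [hsum, hrhs, hr_eq]; push_cast; linarith [hineq, hup, hGz])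
  have hfix : ∀ g : G, g ≠ 1 → π g ≤ 1 := by
    intro g hg
    by_contra h
    push Not at h
    have hD' : g ∉ D := fun hd => by
      rw [hπ0 g (by simpa [hD] using hd)] at h
      omega
    have := hall g (Finset.mem_univ g)
    rw [if_neg hD'] at this
    rcases mul_eq_zero.1 this with h' | h'
    · omega
    · apply hg
      apply eq_of_smul_eq_smul (α := Ω)
      intro ω
      have hfull : (MulAction.fixedBy Ω g).toFinset = Finset.univ :=
        Finset.eq_univ_of_card _ (by rw [Set.toFinset_card]; show π g = n; omega)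
      have : ω ∈ MulAction.fixedBy Ω g := Set.mem_toFinset.1 (hfull ▸ Finset.mem_univ ω)
      rw [one_smul]
      exact this
  have hfree : ∀ g : G, ∀ x y : Ω, x ≠ y → g • x = x → g • y = y → g = 1 := by
    intro g x y hxy hx hy
    by_contra hg
    have := hfix g hg
    exact hxy (congrArg Subtype.val (Fintype.card_le_one_iff.1 this ⟨x, hx⟩ ⟨y, hy⟩))
  have h2t : ∀ c : Ω, c ≠ a → ∃ g : G, g • a = a ∧ g • b = c := by
    intro c hc
    have : (Quotient.mk'' (a, c) : Quotient (MulAction.orbitRel G (Ω × Ω))) = Quotient.mk'' (a, b) := by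
      by_contra h
      have hne2 : (Quotient.mk'' (a, a) : Quotient (MulAction.orbitRel G (Ω × Ω))) ≠ Quotient.mk'' (a, c) := by
        intro h'
        obtain ⟨g, hg⟩ := Quotient.exact' h'
        simp only [Prod.smul_mk, Prod.mk.injEq] at hg
        exact hc (MulAction.injective g (hg.1.trans hg.2.symm)).symm
      have : 3 ≤ r := by
        rw [hr]
        refine le_trans (le_of_eq ?_) (Finset.card_le_univ ({Quotient.mk'' (a, a), Quotient.mk'' (a, b), Quotient.mk'' (a, c)} : Finset (Quotient (MulAction.orbitRel G (Ω × Ω)))))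
        rw [Finset.card_insert_of_notMem (by simp [hne, hne2]), Finset.card_pair (Ne.symm h)]
      omega
    obtain ⟨g, hg⟩ := Quotient.exact' this
    simp only [Prod.smul_mk, Prod.mk.injEq] at hg
    exact ⟨g, hg.1, hg.2⟩
  have hstab : Fintype.card (MulAction.stabilizer G a) = n - 1 := by
    rw [show n - 1 = Fintype.card {c : Ω // c ≠ a} by rw [Fintype.card_subtype_compl]; simp [hn_def]]
    refine Fintype.card_of_bijective (f := fun g : MulAction.stabilizer G a =>
      (⟨(g : G) • b, fun h => hab (MulAction.injective (g : G) (h.trans g.2.symm)).symm⟩ : {c : Ω // c ≠ a})) ⟨?_, ?_⟩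
    · intro g g' h
      have h' : (g : G) • b = (g' : G) • b := congrArg Subtype.val h
      have e : ((g : G)⁻¹ * g' : G) = 1 := hfree _ a b hab
        (by rw [mul_smul, g'.2, inv_smul_eq_iff, g.2]) (by rw [mul_smul, ← h', inv_smul_smul])
      exact Subtype.ext (inv_mul_eq_one.1 e)
    · rintro ⟨c, hc⟩
      obtain ⟨g, hg1, hg2⟩ := h2t c hc
      exact ⟨⟨g, hg1⟩, Subtype.ext hg2⟩
  refine ⟨⟨htr, ?_, fun g hg => by rw [Nat.card_eq_fintype_card]; exact hfix g hg⟩, ?_, hEq⟩
  · haveI : Nontrivial (MulAction.stabilizer G a) := Fintype.one_lt_card_iff_nontrivial.1 (by omega)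
    obtain ⟨g, hg⟩ := exists_ne (1 : MulAction.stabilizer G a)
    exact ⟨g, fun h => hg (Subtype.ext h), a, g.2⟩
  · rw [← MulAction.card_orbit_mul_card_stabilizer_eq_card_group G a, hstab]
    congr 1
    rw [hn_def]
    exact Fintype.card_congr ((Equiv.setCongr (MulAction.orbit_eq_univ G a)).trans (Equiv.Set.univ Ω))

end Cfsg.Agent.S5729
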