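import Cfsg.Statements.S5730
import Cfsg.Agent.S5729
import Cfsg.Agent.Lib.Derangements.PairStabCases

set_option autoImplicit false
open Cfsg
open CfsgLib.Derangements.PairStab

namespace Cfsg.Agent.S5730

/-- Let a finite group G act faithfully and transitively on a set with n ≥ 7 points. Then either G is a Frobenius permutation group (Frobenius as a permutation group: transitive, some non-identity element fixes a point, and no non-identity element fixes two points) of order n(n − 1)/a with a ∈ {1, 2}, in which case exactly a|G|/n of its elements are derangements, or the number of derangements is at least 2|G|/n. (Equality does occur: PSL₃(2) acting on the 7 points of the Fano plane has exactly 2|G|/7 derangements.) -/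
theorem result {G Ω : Type*} [Group G] [Finite G] [MulAction G Ω] [FaithfulSMul G Ω] [Fintype Ω] (htr : MulAction.IsPretransitive G Ω) (hn : 7 ≤ Fintype.card Ω) :
    (∃ a : ℕ, (a = 1 ∨ a = 2) ∧ (MulAction.IsPretransitive G Ω ∧ (∃ g : G, g ≠ 1 ∧ ∃ ω : Ω, g • ω = ω) ∧ ∀ g : G, g ≠ 1 → Nat.card (MulAction.fixedBy Ω g) ≤ 1) ∧ a * Nat.card G = Fintype.card Ω * (Fintype.card Ω - 1) ∧ Fintype.card Ω * Nat.card {g : G // ∀ ω : Ω, g • ω ≠ ω} = a * Nat.card G) ∨
    2 * Nat.card G ≤ Fintype.card Ω * Nat.card {g : G // ∀ ω : Ω, g • ω ≠ ω} := by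
  rcases Cfsg.Agent.S5729.result htr (by omega : 3 ≤ Fintype.card Ω) with h1 | hstrict
  · exact Or.inl ⟨1, Or.inl rfl, h1.1, by rw [one_mul]; exact h1.2.1,
      by rw [one_mul]; exact h1.2.2⟩
  right
  classical
  haveI : Nonempty Ω := Fintype.card_pos_iff.1 (by omega)
  haveI := Fintype.ofFinite G
  haveI := htr
  set n := Fintype.card Ω with hn'
  have hfx : ∀ g : G, fx Ω g = Fintype.card (MulAction.fixedBy Ω g) := fun g => by
    rw [fx, Fintype.card_subtype]
    exact congrArg Finset.card (Finset.filter_congr fun c _ => Iff.rfl)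
  -- orbits on points and on pairs
  have h1 : ∑ g : G, fx Ω g = Fintype.card G := by
    have h := MulAction.sum_card_fixedBy_eq_card_orbits_mul_card_group G Ω
    rw [show Fintype.card (Quotient (MulAction.orbitRel G Ω)) = 1 from
      Fintype.card_eq_one_iff.2 ⟨Quotient.mk'' (Classical.arbitrary Ω), fun q => ?_⟩, one_mul] at h
    · rw [← h]; exact Finset.sum_congr rfl fun g _ => hfx g
    · induction q using Quotient.inductionOn' with | _ x => ?_
      exact Quotient.sound' (MulAction.exists_smul_eq G (Classical.arbitrary Ω) x)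
  set r := Fintype.card (Quotient (MulAction.orbitRel G (Ω × Ω))) with hr
  have h2 : ∑ g : G, fx Ω g * fx Ω g = r * Fintype.card G := by
    rw [hr, ← MulAction.sum_card_fixedBy_eq_card_orbits_mul_card_group G (Ω × Ω)]
    refine Finset.sum_congr rfl fun g _ => ?_
    rw [hfx, ← Fintype.card_prod]
    exact Fintype.card_congr
      { toFun := fun x => ⟨(x.1.1, x.2.1), Prod.ext x.1.2 x.2.2⟩
        invFun := fun x => (⟨x.1.1, congrArg Prod.fst x.2⟩, ⟨x.1.2, congrArg Prod.snd x.2⟩)
        left_inv := fun x => rfl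
        right_inv := fun x => rfl }
  have hsum : ∑ g : G, ((fx Ω g : ℤ) - 1) * ((fx Ω g : ℤ) - n) =
      (Nat.card G : ℤ) * ((r : ℤ) - 1) := by
    have e1 : (∑ g : G, (fx Ω g : ℤ)) = Fintype.card G := by exact_mod_cast h1
    have e2 : (∑ g : G, (fx Ω g : ℤ) * fx Ω g) = r * Fintype.card G := by exact_mod_cast h2
    rw [Finset.sum_congr rfl (g := fun g => (fx Ω g : ℤ) * fx Ω g - ((n : ℤ) + 1) * fx Ω g + n)
      fun g _ => by ring, Finset.sum_add_distrib, Finset.sum_sub_distrib, ← Finset.mul_sum, e1,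
      e2, Finset.sum_const, Finset.card_univ, nsmul_eq_mul, Nat.card_eq_fintype_card]
    ring
  have hD : Nat.card {g : G // ∀ ω : Ω, g • ω ≠ ω} =
      (Finset.univ.filter fun g : G => ∀ ω : Ω, g • ω ≠ ω).card := by
    rw [Nat.card_eq_fintype_card, Fintype.card_subtype]
  have hle : ∀ g : G, ((fx Ω g : ℤ) - 1) * ((fx Ω g : ℤ) - n) ≤
      if ∀ ω : Ω, g • ω ≠ ω then (n : ℤ) else 0 := fun g => by
    split_ifs with hg
    · rw [show fx Ω g = 0 by simp [fx, hg]]
      simp
    · push Not at hg
      obtain ⟨w, hw⟩ := hg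
      have : 0 < fx Ω g := Finset.card_pos.2 ⟨w, by simp [hw]⟩
      have := fx_le (Ω := Ω) g
      exact mul_nonpos_of_nonneg_of_nonpos (by omega) (by omega)
  have hrhs : (∑ g : G, if ∀ ω : Ω, g • ω ≠ ω then (n : ℤ) else 0) =
      n * (Nat.card {g : G // ∀ ω : Ω, g • ω ≠ ω} : ℤ) := by
    rw [Finset.sum_ite, Finset.sum_const_zero, add_zero, Finset.sum_const, nsmul_eq_mul, hD,
      mul_comm]
  have hineq : (Nat.card G : ℤ) * ((r : ℤ) - 1) ≤
      n * (Nat.card {g : G // ∀ ω : Ω, g • ω ≠ ω} : ℤ) := by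
    rw [← hsum, ← hrhs]
    exact Finset.sum_le_sum fun g _ => hle g
  rcases le_or_gt 3 r with hr3 | hr3
  · -- at least three orbits on pairs
    have h2le : (Nat.card G : ℤ) * 2 ≤ (Nat.card G : ℤ) * ((r : ℤ) - 1) :=
      mul_le_mul_of_nonneg_left (by omega) (Int.natCast_nonneg _)
    have : ((2 * Nat.card G : ℕ) : ℤ) ≤
        ((n * Nat.card {g : G // ∀ ω : Ω, g • ω ≠ ω} : ℕ) : ℤ) := by push_cast; linarith
    exact_mod_cast this
  -- doubly transitive
  obtain ⟨a, b, hab⟩ := Fintype.exists_pair_of_one_lt_card (show 1 < Fintype.card Ω by omega)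
  have hneq : ∀ x c d : Ω, c ≠ d →
      (Quotient.mk'' (x, x) : Quotient (MulAction.orbitRel G (Ω × Ω))) ≠ Quotient.mk'' (c, d) := by
    intro x c d hcd h
    obtain ⟨g, hg⟩ := Quotient.exact' h
    simp only [Prod.smul_mk, Prod.mk.injEq] at hg
    exact hcd (MulAction.injective g (hg.1.trans hg.2.symm))
  have hr2 : r = 2 := by
    have : 2 ≤ r := Fintype.one_lt_card_iff.2 ⟨_, _, hneq a a b hab⟩
    omega
  have htwo : Two G Ω := by
    intro x y c d hxy hcd
    have he : (Quotient.mk'' (c, d) : Quotient (MulAction.orbitRel G (Ω × Ω))) =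
        Quotient.mk'' (x, y) := by
      by_contra hne
      have : 3 ≤ r := by
        refine le_trans (le_of_eq ?_) (Finset.card_le_univ ({Quotient.mk'' (a, a),
          Quotient.mk'' (x, y), Quotient.mk'' (c, d)} :
            Finset (Quotient (MulAction.orbitRel G (Ω × Ω)))))
        rw [Finset.card_insert_of_notMem (by simp [hneq a x y hxy, hneq a c d hcd]),
          Finset.card_pair (Ne.symm hne)]
      omega
    obtain ⟨g, hg⟩ := Quotient.exact' he
    simp only [Prod.smul_mk, Prod.mk.injEq] at hg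
    exact ⟨g, hg.1, hg.2⟩
  have hid : ∑ g : G, ((fx Ω g : ℤ) - 1) * ((fx Ω g : ℤ) - n) = Nat.card G := by
    rw [hsum, hr2]
    norm_num
  have hcard : Nat.card G = n * (n - 1) * Nat.card (pst G a b) := by
    have hS : Nat.card (MulAction.stabilizer G (a, b)) = Nat.card (pst G a b) := by
      refine Nat.card_congr (Equiv.subtypeEquiv (Equiv.refl G) fun g => ?_)
      simp [mem_pst, Prod.ext_iff]
    have horb : Nat.card (MulAction.orbit G (a, b)) = n * (n - 1) := by
      rw [Nat.card_congr (Equiv.subtypeEquiv (q := fun p : Ω × Ω => p ∈ (Finset.univ : Finset Ω).offDiag)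
        (Equiv.refl _) fun p => ?_), Nat.card_eq_fintype_card, Fintype.card_coe,
        Finset.offDiag_card, Finset.card_univ, Nat.mul_sub, mul_one]
      simp only [Equiv.refl_apply, Finset.mem_offDiag, Finset.mem_univ, true_and]
      constructor
      · rintro ⟨g, rfl⟩ h
        exact hab (MulAction.injective g h)
      · intro hp
        obtain ⟨g, hg1, hg2⟩ := htwo a b p.1 p.2 hab hp
        exact ⟨g, Prod.ext hg1 hg2⟩
    rw [← horb, ← hS, ← Nat.card_prod]
    exact (Nat.card_congr (MulAction.orbitProdStabilizerEquivGroup G (a, b))).symm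
  -- the pair stabiliser is non-trivial
  have hh : 2 ≤ Nat.card (pst G a b) := by
    by_contra hlt
    have hsharp : ∀ g : G, g ≠ 1 → fx Ω g ≤ 1 := by
      intro g hg
      by_contra h
      obtain ⟨x, hx, y, hy, hxy⟩ := Finset.one_lt_card.1 (not_le.1 h)
      simp only [Finset.mem_filter, Finset.mem_univ, true_and] at hx hy
      have hc := card_pst_const htwo hab hxy
      have hbot : pst G x y = ⊥ := Subgroup.eq_bot_of_card_eq _ (by
        have := pos_pst (G := G) x y
        omega)
      exact hg (Subgroup.mem_bot.1 (hbot ▸ mem_pst.2 ⟨hx, hy⟩))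
    have heq : ∀ g : G, ((fx Ω g : ℤ) - 1) * ((fx Ω g : ℤ) - n) =
        if ∀ ω : Ω, g • ω ≠ ω then (n : ℤ) else 0 := by
      intro g
      split_ifs with hg
      · rw [show fx Ω g = 0 by simp [fx, hg]]
        simp
      · push Not at hg
        obtain ⟨w, hw⟩ := hg
        rcases eq_or_ne g 1 with rfl | hg1
        · rw [show fx Ω (1 : G) = n by simp [fx, hn']]
          simp
        · have h0 : 0 < fx Ω g := Finset.card_pos.2 ⟨w, by simp [hw]⟩
          rw [show fx Ω g = 1 by have := hsharp g hg1; omega]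
          simp
    rw [Finset.sum_congr rfl fun g _ => heq g, hrhs] at hid
    have : n * Nat.card {g : G // ∀ ω : Ω, g • ω ≠ ω} = Nat.card G := by exact_mod_cast hid
    omega
  refine two_le_of_moments htwo hab hcard ?_ hid (moments_le htwo hab hn hh)
  by_contra hcon
  push Not at hcon
  have hbot : pst G a b = ⊥ := (Subgroup.eq_bot_iff_forall _).2 fun g hg =>
    eq_of_smul_eq_smul fun c : Ω => by rw [one_smul]; exact hcon g hg c
  rw [hbot, Subgroup.card_bot] at hh
  omega

end Cfsg.Agent.S5730
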