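import Cfsg.Statements.S5738

set_option autoImplicit false
open Cfsg

namespace Cfsg.Agent.S5738

/-- Let F ⊆ K be finite fields with |F| = q and [K : F] = n ≥ 2, so |K| = q^n. Regard K as an n-dimensional F-vector space; the multiplications by non-zero elements of K form a cyclic subgroup of GL_F(K) of order q^n − 1 acting regularly on the non-zero vectors (a Singer group). Its normaliser in GL_F(K) has order n·(q^n − 1). -/
theorem result {F K : Type*} [Field F] [Fintype F] [Field K] [Fintype K] [Algebra F K] (n : ℕ) (hn : 2 ≤ n) (hdim : Module.finrank F K = n) :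
    Nat.card (Subgroup.normalizer (((Units.map ((Algebra.lmul F K : K →ₐ[F] Module.End F K) : K →* Module.End F K)).range : Subgroup (Module.End F K)ˣ) : Set (Module.End F K)ˣ)) = n * (Fintype.card K - 1) := by
  classical
  set μ := Units.map ((Algebra.lmul F K : K →ₐ[F] Module.End F K) : K →* Module.End F K) with hμ
  have happ : ∀ (k : Kˣ) (x : K), (μ k).1 x = k.1 * x := fun k x => rfl
  let ν : (K ≃ₐ[F] K) → (Module.End F K)ˣ := fun e =>
    ⟨e.toLinearMap, e.symm.toLinearMap, LinearMap.ext fun x => e.apply_symm_apply x,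
      LinearMap.ext fun x => e.symm_apply_apply x⟩
  have hν : ∀ e x, (ν e).1 x = e x := fun e x => rfl
  have hnorm : ∀ e, ν e ∈ Subgroup.normalizer ((μ.range : Subgroup (Module.End F K)ˣ) : Set (Module.End F K)ˣ) := by
    intro e
    have key : ∀ k, ν e * μ k * (ν e)⁻¹ = μ (Units.map (e : K →* K) k) := fun k => by
      rw [mul_inv_eq_iff_eq_mul]
      refine Units.ext (LinearMap.ext fun x => ?_)
      simp [Units.val_mul, Module.End.mul_apply, happ, hν]
    rw [Subgroup.mem_normalizer_iff]
    intro h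
    constructor
    · rintro ⟨k, rfl⟩; exact ⟨_, (key k).symm⟩
    · rintro ⟨k, hk⟩
      refine ⟨Units.map (e.symm : K →* K) k, ?_⟩
      have h1 := key (Units.map (e.symm : K →* K) k)
      rw [show Units.map (e : K →* K) (Units.map (e.symm : K →* K) k) = k from
        Units.ext (e.apply_symm_apply k.1), hk] at h1
      exact mul_left_cancel (mul_right_cancel h1)
  let Φ : Kˣ × (K ≃ₐ[F] K) → ↥(Subgroup.normalizer ((μ.range : Subgroup (Module.End F K)ˣ) : Set (Module.End F K)ˣ)) :=
    fun p => ⟨μ p.1 * ν p.2, Subgroup.mul_mem _ (Subgroup.le_normalizer ⟨p.1, rfl⟩) (hnorm p.2)⟩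
  have hbij : Function.Bijective Φ := by
    constructor
    · rintro ⟨a, e⟩ ⟨b, e'⟩ h
      have h' : ∀ x, (a : K) * e x = (b : K) * e' x := fun x =>
        LinearMap.congr_fun (congrArg (fun u => (Subtype.val u).1) h) x
      have hab : a = b := Units.ext (by simpa using h' 1)
      subst hab
      exact Prod.ext rfl (AlgEquiv.ext fun x => mul_left_cancel₀ a.ne_zero (h' x))
    · rintro ⟨g, hg⟩
      have hbij := (Module.End.isUnit_iff g.1).1 g.isUnit
      have hg1 : g.1 1 ≠ 0 := fun h0 => one_ne_zero (hbij.1 (h0.trans (map_zero g.1).symm))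
      set a := g.1 1
      let L : K →ₗ[F] K := (a⁻¹) • g.1
      have hLm : ∀ x y, L (x * y) = L x * L y := by
        intro x y
        rcases eq_or_ne x 0 with rfl | hx
        · simp
        obtain ⟨k', hk'⟩ := (Subgroup.mem_normalizer_iff.1 hg (μ (Units.mk0 x hx))).1 ⟨_, rfl⟩
        have h1 : μ k' * g = g * μ (Units.mk0 x hx) := by rw [hk', inv_mul_cancel_right]
        have h2 : ∀ z, (k' : K) * g.1 z = g.1 (x * z) := fun z => LinearMap.congr_fun (congrArg Units.val h1) z
        have h3 : (k' : K) * a = g.1 x := by simpa using h2 1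
        show a⁻¹ * g.1 (x * y) = (a⁻¹ * g.1 x) * (a⁻¹ * g.1 y)
        rw [← h2 y, ← h3]
        field_simp
      have hLb : Function.Bijective L := by
        refine ⟨fun x y h => hbij.1 (mul_left_cancel₀ (inv_ne_zero hg1) h), fun y => ?_⟩
        obtain ⟨x, hx⟩ := hbij.2 (a * y)
        exact ⟨x, by show a⁻¹ * g.1 x = y; rw [hx, inv_mul_cancel_left₀ hg1]⟩
      let e : K ≃ₐ[F] K := AlgEquiv.ofLinearEquiv (LinearEquiv.ofBijective L hLb)
        (inv_mul_cancel₀ hg1) (fun x y => hLm x y)
      refine ⟨(Units.mk0 a hg1, e), Subtype.ext (Units.ext (LinearMap.ext fun x => ?_))⟩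
      show a * (a⁻¹ * g.1 x) = g.1 x
      rw [mul_inv_cancel_left₀ hg1]
  rw [← Nat.card_congr (Equiv.ofBijective Φ hbij), Nat.card_prod, Nat.card_units, Nat.card_eq_fintype_card (α := K),
    IsGalois.card_aut_eq_finrank, hdim, mul_comm]

end Cfsg.Agent.S5738
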