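import Cfsg.Statements.S5739

set_option autoImplicit false
open Cfsg

namespace Cfsg.Agent.S5739

/-- Let F ⊆ K be finite fields with |F| = q and [K : F] = n ≥ 2, and let M ≤ GL_F(K) be the Singer group of multiplications by non-zero elements of K. If g ∈ GL_F(K) does not normalise M, then the order of M ∩ gMg⁻¹ divides q^r − 1 for some proper divisor r of n. In particular, when n is prime, that order divides q − 1. -/
theorem result {F K : Type*} [Field F] [Fintype F] [Field K] [Fintype K] [Algebra F K] (n : ℕ) (hn : 2 ≤ n) (hdim : Module.finrank F K = n)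
    (g : (Module.End F K)ˣ) (hg : ((Units.map ((Algebra.lmul F K : K →ₐ[F] Module.End F K) : K →* Module.End F K)).range).map (MulAut.conj g).toMonoidHom ≠ (Units.map ((Algebra.lmul F K : K →ₐ[F] Module.End F K) : K →* Module.End F K)).range) :
    ∃ r : ℕ, 1 ≤ r ∧ r ∣ n ∧ r < n ∧ Nat.card ↥(((Units.map ((Algebra.lmul F K : K →ₐ[F] Module.End F K) : K →* Module.End F K)).range).map (MulAut.conj g).toMonoidHom ⊓ (Units.map ((Algebra.lmul F K : K →ₐ[F] Module.End F K) : K →* Module.End F K)).range) ∣ Fintype.card F ^ r - 1 := by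
  classical
  set μ := Units.map ((Algebra.lmul F K : K →ₐ[F] Module.End F K) : K →* Module.End F K) with hμ
  have happ : ∀ (k : Kˣ) (x : K), (μ k).1 x = k.1 * x := fun k x => rfl
  let S : Subalgebra F K :=
    { carrier := {k | ∃ k' : K, ∀ x, g.1 (k' * x) = k * g.1 x}
      mul_mem' := fun {a b} ha hb => by
        obtain ⟨a', ha⟩ := ha; obtain ⟨b', hb⟩ := hb
        exact ⟨a' * b', fun x => by rw [mul_assoc, ha, hb, mul_assoc]⟩
      one_mem' := ⟨1, fun x => by rw [one_mul, one_mul]⟩
      add_mem' := fun {a b} ha hb => by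
        obtain ⟨a', ha⟩ := ha; obtain ⟨b', hb⟩ := hb
        exact ⟨a' + b', fun x => by rw [add_mul, add_mul, map_add, ha, hb]⟩
      zero_mem' := ⟨0, fun x => by rw [zero_mul, zero_mul, map_zero]⟩
      algebraMap_mem' := fun c => ⟨algebraMap F K c, fun x => by rw [← Algebra.smul_def, ← Algebra.smul_def, map_smul]⟩ }
  have hK : 2 ≤ Fintype.card K := Fintype.one_lt_card
  let E : IntermediateField F K := S.toIntermediateField fun x hx => by
    rcases eq_or_ne x 0 with rfl | hx0
    · rw [inv_zero]; exact S.zero_mem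
    · rw [inv_eq_of_mul_eq_one_right (show x * x ^ (Fintype.card K - 2) = 1 by
        rw [← pow_succ', show Fintype.card K - 2 + 1 = Fintype.card K - 1 by omega]
        exact FiniteField.pow_card_sub_one_eq_one x hx0)]
      exact S.pow_mem hx _
  have hmem : ∀ {k : Kˣ}, μ k ∈ μ.range.map (MulAut.conj g).toMonoidHom → (k : K) ∈ E := by
    rintro k ⟨_, ⟨k', rfl⟩, he⟩
    refine ⟨k'.1, fun x => ?_⟩
    have h1 : g * μ k' = μ k * g := mul_inv_eq_iff_eq_mul.1 he
    have h2 := LinearMap.congr_fun (congrArg Units.val h1) x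
    simpa [Units.val_mul, Module.End.mul_apply, happ] using h2
  haveI : Finite (Module.End F K) := Module.finite_of_finite F
  haveI : Finite E := Finite.of_injective _ Subtype.val_injective
  letI : Fintype E := Fintype.ofFinite E
  refine ⟨Module.finrank F E, Module.finrank_pos, ?_, ?_, ?_⟩
  · exact ⟨Module.finrank E K, by rw [← hdim]; exact (Module.finrank_mul_finrank F E K).symm⟩
  · refine lt_of_le_of_ne ?_ fun he => hg ?_
    · rw [← hdim]; exact Submodule.finrank_le E.toSubalgebra.toSubmodule
    have htop : E.toSubalgebra.toSubmodule = ⊤ := Submodule.eq_top_of_finrank_eq (he.trans hdim.symm)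
    refine (Subgroup.eq_of_le_of_card_ge ?_ ?_).symm
    · rintro _ ⟨k, rfl⟩
      obtain ⟨k', hk'⟩ : (k : K) ∈ E.toSubalgebra.toSubmodule := htop ▸ Submodule.mem_top
      have hk0 : k' ≠ 0 := fun h0 => by
        obtain ⟨x, hx⟩ := ((Module.End.isUnit_iff g.1).1 g.isUnit).2 1
        have := hk' x
        rw [h0, zero_mul, map_zero, hx, mul_one] at this
        exact k.ne_zero this.symm
      refine ⟨μ (Units.mk0 k' hk0), ⟨_, rfl⟩, ?_⟩
      show g * μ (Units.mk0 k' hk0) * g⁻¹ = μ k
      rw [mul_inv_eq_iff_eq_mul]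
      refine Units.ext (LinearMap.ext fun x => ?_)
      simpa [Units.val_mul, Module.End.mul_apply, happ] using hk' x
    · exact (Subgroup.card_map_of_injective (f := (MulAut.conj g).toMonoidHom) (MulAut.conj g).injective).le
  · set C := μ.range.map (MulAut.conj g).toMonoidHom ⊓ μ.range
    have hμi : Function.Injective μ := fun a b h => Units.ext (by
      have := LinearMap.congr_fun (congrArg Units.val h) 1
      simpa [happ] using this)
    have hC : C = (C.comap μ).map μ := (Subgroup.map_comap_eq_self inf_le_right).symm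
    rw [hC, Subgroup.card_map_of_injective hμi]
    let f : C.comap μ →* Eˣ :=
      { toFun := fun k => Units.mk0 ⟨(k.1 : K), hmem k.2.1⟩ (fun h0 => k.1.ne_zero (congrArg Subtype.val h0))
        map_one' := Units.ext (Subtype.ext rfl)
        map_mul' := fun a b => Units.ext (Subtype.ext rfl) }
    have hfi : Function.Injective f := fun a b h => Subtype.ext (Units.ext (congrArg (fun u : Eˣ => ((u : E) : K)) h))
    refine (Subgroup.card_dvd_of_injective f hfi).trans (dvd_of_eq ?_)
    rw [Nat.card_units, Nat.card_eq_fintype_card, Module.card_eq_pow_finrank (K := F)]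

end Cfsg.Agent.S5739
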