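import Cfsg.Statements.S5743
import Cfsg.Agent.Lib.Chevalley.F4InE6.Twisted

set_option autoImplicit false
open Cfsg

namespace Cfsg.Agent.S5743

/-- The simple group ²E₆(2) (the twisted group of type E₆ over the field with 4 elements) contains at least three pairwise non-conjugate subgroups isomorphic to the Chevalley group F₄(2). -/
theorem result {K : Type*} [Field K] [Fintype K] (hK : Fintype.card K = 4) :
    ∃ H : Fin 3 → Subgroup (Cfsg.Lie.twistedE6 K 2),
      (∀ i, Nonempty ((H i) ≃* Cfsg.Lie.chevF4.group (ZMod 2))) ∧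
      (∀ i j, i ≠ j → ∀ g : (Cfsg.Lie.twistedE6 K 2), (H i).map (MulAut.conj g).toMonoidHom ≠ H j) := by
  have hK' : Nat.card K = 4 := Nat.card_eq_fintype_card.trans hK
  have h4 : ((4 : ℕ) : K) = 0 := by rw [← hK, Nat.cast_card_eq_zero]
  have h2 : (2 : K) = 0 := by
    rw [show ((4 : ℕ) : K) = 2 * 2 by norm_num] at h4
    exact mul_self_eq_zero.mp h4
  show ∃ H : Fin 3 → Subgroup ↥(Cfsg.Lie.chevE6.genSubgroup K (Cfsg.Lie.e6Words K 2)),
      (∀ i, Nonempty ((H i) ≃* Cfsg.Lie.chevF4.group (ZMod 2))) ∧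
      (∀ i j, i ≠ j → ∀ g : ↥(Cfsg.Lie.chevE6.genSubgroup K (Cfsg.Lie.e6Words K 2)),
        (H i).map (MulAut.conj g).toMonoidHom ≠ H j)
  rw [← CfsgLib.Chevalley.Data.E6.datum_eq, ← CfsgLib.Chevalley.Data.F4.datum_eq]
  exact CfsgLib.Chevalley.F4InE6.exists_three h2 hK'

end Cfsg.Agent.S5743
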