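import Cfsg.Statements.S5747

set_option autoImplicit false
open Cfsg

namespace Cfsg.Agent.S5747

/-- Let a finite group G act on a finite set Ω. An irredundant base is a sequence of points ω₁, …, ω_t whose pointwise stabiliser is trivial and in which each ω_i is moved by some element fixing ω₁, …, ω_{i−1}. Then all irredundant bases have the same length if and only if every reordering of an irredundant base is again an irredundant base. -/
theorem result {G Ω : Type*} [Group G] [Finite G] [MulAction G Ω] [Fintype Ω] :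
    (∀ (t t' : ℕ) (f : Fin t → Ω) (f' : Fin t' → Ω), ((∀ g : G, (∀ i : Fin t, g • f i = f i) → g = 1) ∧ ∀ i : Fin t, ∃ g : G, (∀ j : Fin t, j < i → g • f j = f j) ∧ g • f i ≠ f i) → ((∀ g : G, (∀ i : Fin t', g • f' i = f' i) → g = 1) ∧ ∀ i : Fin t', ∃ g : G, (∀ j : Fin t', j < i → g • f' j = f' j) ∧ g • f' i ≠ f' i) → t = t') ↔
    (∀ (t : ℕ) (f : Fin t → Ω) (σ : Equiv.Perm (Fin t)), ((∀ g : G, (∀ i : Fin t, g • f i = f i) → g = 1) ∧ ∀ i : Fin t, ∃ g : G, (∀ j : Fin t, j < i → g • f j = f j) ∧ g • f i ≠ f i) → ((∀ g : G, (∀ i : Fin t, g • (f ∘ σ) i = (f ∘ σ) i) → g = 1) ∧ ∀ i : Fin t, ∃ g : G, (∀ j : Fin t, j < i → g • (f ∘ σ) j = (f ∘ σ) j) ∧ g • (f ∘ σ) i ≠ (f ∘ σ) i)) := by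
  classical
  let Base : ∀ {t : ℕ}, (Fin t → Ω) → Prop := fun {t} f => ∀ g : G, (∀ i : Fin t, g • f i = f i) → g = 1
  let Irr : ∀ {t : ℕ}, (Fin t → Ω) → Prop := fun {t} f => ∀ i : Fin t, ∃ g : G, (∀ j : Fin t, j < i → g • f j = f j) ∧ g • f i ≠ f i
  change (∀ (t t' : ℕ) (f : Fin t → Ω) (f' : Fin t' → Ω), (Base f ∧ Irr f) → (Base f' ∧ Irr f') → t = t') ↔
    (∀ (t : ℕ) (f : Fin t → Ω) (σ : Equiv.Perm (Fin t)), (Base f ∧ Irr f) → (Base (f ∘ σ) ∧ Irr (f ∘ σ)))
  constructor
  · intro hsize t f σ ⟨hb, hi⟩
    have hb' : Base (f ∘ σ) := fun g hg => hb g fun i => by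
      have := hg (σ.symm i)
      simpa using this
    refine ⟨hb', ?_⟩
    set s : Finset (Fin t) := Finset.univ.filter fun i => ∃ g : G, (∀ j : Fin t, j < i → g • (f ∘ σ) j = (f ∘ σ) j) ∧ g • (f ∘ σ) i ≠ (f ∘ σ) i with hs
    let e := s.orderEmbOfFin rfl
    have hmem : ∀ j : Fin t, j ∈ s → ∃ i, e i = j := fun j hj => by
      have : j ∈ Set.range e := by rw [Finset.range_orderEmbOfFin]; exact hj
      exact this
    have hsub : ∀ (g : G) (j : Fin t), (∀ i, e i ≤ j → g • (f ∘ σ) (e i) = (f ∘ σ) (e i)) → g • (f ∘ σ) j = (f ∘ σ) j := by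
      intro g j
      induction hj : (j : ℕ) using Nat.strong_induction_on generalizing j with
      | _ d ih =>
        intro hg
        by_cases hjs : j ∈ s
        · obtain ⟨i, rfl⟩ := hmem j hjs
          exact hg i le_rfl
        · by_contra hne
          exact hjs (Finset.mem_filter.2 ⟨Finset.mem_univ _, g, fun j' hj' => ih (j' : ℕ) (by subst hj; exact hj') j' rfl
            (fun i hi => hg i (hi.trans hj'.le)), hne⟩)
    have hb2 : Base (fun i => (f ∘ σ) (e i)) := fun g hg => hb' g fun j => hsub g j fun i _ => hg i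
    have hi2 : Irr (fun i => (f ∘ σ) (e i)) := fun i => by
      obtain ⟨g, hg1, hg2⟩ := (Finset.mem_filter.1 (s.orderEmbOfFin_mem rfl i)).2
      exact ⟨g, fun j hj => hg1 _ (e.strictMono hj), hg2⟩
    have hts : t = s.card := hsize t s.card f _ ⟨hb, hi⟩ ⟨hb2, hi2⟩
    have hsu : s = Finset.univ := Finset.eq_univ_of_card _ (by rw [Fintype.card_fin, ← hts])
    intro i
    exact (Finset.mem_filter.1 (hsu ▸ Finset.mem_univ i : i ∈ s)).2
  · intro hre
    have inj : ∀ {t : ℕ} (f : Fin t → Ω), Irr f → Function.Injective f := by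
      intro t f hi a b hab
      rcases lt_trichotomy a b with h | h | h
      · obtain ⟨g, hg1, hg2⟩ := hi b
        exact absurd (hab ▸ hg1 a h) hg2
      · exact h
      · obtain ⟨g, hg1, hg2⟩ := hi a
        exact absurd (hab.symm ▸ hg1 b h) hg2
    have key : ∀ (t t' : ℕ) (f : Fin t → Ω) (f' : Fin t' → Ω), Base f ∧ Irr f → Base f' ∧ Irr f' → t ≤ t' := by
      intro t t' f f' hf hf'
      induction hd : (Finset.univ.image f \ Finset.univ.image f').card using Nat.strong_induction_on generalizing f with
      | _ d ih =>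
        by_cases hsub : Finset.univ.image f ⊆ Finset.univ.image f'
        · have := Finset.card_le_card hsub
          rw [Finset.card_image_of_injective _ (inj f hf.2), Finset.card_image_of_injective _ (inj f' hf'.2)] at this
          simpa using this
        obtain ⟨x, hx, hx'⟩ := Finset.not_subset.1 hsub
        obtain ⟨i₀, -, rfl⟩ := Finset.mem_image.1 hx
        obtain ⟨n, rfl⟩ : ∃ n, t = n + 1 := ⟨t - 1, by have := i₀.pos; omega⟩
        obtain ⟨f₁, hf₁⟩ : ∃ f₁ : Fin (n + 1) → Ω, f₁ = f ∘ Equiv.swap i₀ (Fin.last n) := ⟨_, rfl⟩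
        have h₁ : Base f₁ ∧ Irr f₁ := by rw [hf₁]; exact hre _ f (Equiv.swap i₀ (Fin.last n)) hf
        have hlast : f₁ (Fin.last n) = f i₀ := by simp [hf₁]
        obtain ⟨g, hg1, hg2⟩ := h₁.2 (Fin.last n)
        obtain ⟨i', hi'⟩ : ∃ i', g • f' i' ≠ f' i' := by
          by_contra h
          push Not at h
          exact hg2 (by rw [hf'.1 g h, one_smul])
        set f₂ : Fin (n + 1) → Ω := Fin.snoc (fun j : Fin n => f₁ j.castSucc) (f' i') with hf₂
        have hi2 : Irr f₂ := by
          intro j
          induction j using Fin.lastCases with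
          | last =>
            refine ⟨g, fun k hk => ?_, by simpa [hf₂] using hi'⟩
            obtain ⟨k, rfl⟩ := Fin.exists_castSucc_eq.2 hk.ne
            simpa [hf₂] using hg1 _ hk
          | cast j =>
            obtain ⟨h, hh1, hh2⟩ := h₁.2 j.castSucc
            refine ⟨h, fun k hk => ?_, by simpa [hf₂] using hh2⟩
            obtain ⟨k, rfl⟩ := Fin.exists_castSucc_eq.2 (ne_of_lt (hk.trans (Fin.castSucc_lt_last j)))
            simpa [hf₂] using hh1 _ hk
        have hb2 : Base f₂ := by
          intro h hh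
          by_contra hne
          have hmove : h • f₁ (Fin.last n) ≠ f₁ (Fin.last n) := fun he => hne <| h₁.1 h fun j => by
            induction j using Fin.lastCases with
            | last => exact he
            | cast j => simpa [hf₂] using hh j.castSucc
          set f₃ : Fin (n + 2) → Ω := Fin.snoc f₂ (f₁ (Fin.last n)) with hf₃
          have hb3 : Base f₃ := fun k hk => h₁.1 k fun j => by
            induction j using Fin.lastCases with
            | last => simpa [hf₃] using hk (Fin.last (n + 1))
            | cast j => simpa [hf₃, hf₂] using hk j.castSucc.castSucc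
          have hi3 : Irr f₃ := by
            intro j
            induction j using Fin.lastCases with
            | last =>
              refine ⟨h, fun k hk => ?_, by simpa [hf₃] using hmove⟩
              obtain ⟨k, rfl⟩ := Fin.exists_castSucc_eq.2 hk.ne
              simpa [hf₃] using hh k
            | cast j =>
              obtain ⟨k, hk1, hk2⟩ := hi2 j
              refine ⟨k, fun l hl => ?_, by simpa [hf₃] using hk2⟩
              obtain ⟨l, rfl⟩ := Fin.exists_castSucc_eq.2 (ne_of_lt (hl.trans (Fin.castSucc_lt_last j)))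
              simpa [hf₃] using hk1 l hl
          obtain ⟨k, hk1, hk2⟩ := (hre _ f₃ (Equiv.swap (Fin.last n).castSucc (Fin.last (n + 1))) ⟨hb3, hi3⟩).2 (Fin.last (n + 1))
          have hk : k = 1 := h₁.1 k fun j => by
            induction j using Fin.lastCases with
            | last => simpa [hf₃] using hk1 (Fin.last n).castSucc (Fin.castSucc_lt_last _)
            | cast j =>
              have hne1 : j.castSucc.castSucc ≠ (Fin.last n).castSucc := by simp [Fin.ext_iff, j.2.ne]
              have hne2 : j.castSucc.castSucc ≠ Fin.last (n + 1) := (Fin.castSucc_lt_last _).ne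
              simpa [hf₃, hf₂, Equiv.swap_apply_of_ne_of_ne hne1 hne2] using hk1 j.castSucc.castSucc (Fin.castSucc_lt_last _)
          exact hk2 (by rw [hk, one_smul])
        refine ih _ ?_ f₂ ⟨hb2, hi2⟩ rfl
        rw [← hd]
        refine Finset.card_lt_card ?_
        rw [Finset.ssubset_iff_subset_ne]
        have hxn : f i₀ ∉ Finset.univ.image f₂ := by
          intro h
          obtain ⟨j, -, hj⟩ := Finset.mem_image.1 h
          induction j using Fin.lastCases with
          | last => exact hx' (Finset.mem_image.2 ⟨i', Finset.mem_univ _, by simpa [hf₂] using hj⟩)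
          | cast j =>
            simp [hf₂] at hj
            rw [← hlast] at hj
            exact (Fin.castSucc_lt_last j).ne (inj f₁ h₁.2 hj)
        refine ⟨fun y hy => ?_, fun h => hxn (Finset.mem_sdiff.1 (h ▸ Finset.mem_sdiff.2 ⟨hx, hx'⟩)).1⟩
        obtain ⟨hy1, hy2⟩ := Finset.mem_sdiff.1 hy
        obtain ⟨j, -, rfl⟩ := Finset.mem_image.1 hy1
        refine Finset.mem_sdiff.2 ⟨?_, hy2⟩
        induction j using Fin.lastCases with
        | last => exact absurd (Finset.mem_image.2 ⟨i', Finset.mem_univ _, by simp [hf₂]⟩) hy2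
        | cast j => simp [hf₂, hf₁]
    exact fun t t' f f' hf hf' => le_antisymm (key t t' f f' hf hf') (key t' t f' f hf' hf)

end Cfsg.Agent.S5747
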