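import Cfsg.Statements.S5752
import Cfsg.Agent.Lib.ThompsonWielandt.Basic

set_option autoImplicit false
open Cfsg

namespace Cfsg.Agent.S5752

/-- A form of the Thompson–Wielandt Theorem on primitive permutation groups. Let G be a finite group and M₁, M₂ two distinct conjugate maximal subgroups of G with trivial core in G; define two descending sequences of subgroups by A₀ = M₁, B₀ = M₂ and, for every i, A_{i+1} = the core in M₁ of A_i ∩ B_i and B_{i+1} = the core in M₂ of A_i ∩ B_i (the core in M of a subgroup Y ≤ M is the largest normal subgroup of M contained in Y). If A₂ and B₂ are both non-trivial, then for some prime p the subgroup generated by A₂ and B₂ is a p-group, and for each j the generalized Fitting subgroups of M_j and of its first core (A₁, resp. B₁) are their largest normal p-subgroups. -/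
theorem result {G : Type*} [Group G] [Finite G] (M₁ M₂ : Subgroup G) (hmax : IsCoatom M₁) (g : G)
    (hconj : M₂ = M₁.map (MulAut.conj g).toMonoidHom) (hne : M₁ ≠ M₂) (hcore : M₁.normalCore = ⊥)
    (A B : ℕ → Subgroup G) (hA0 : A 0 = M₁) (hB0 : B 0 = M₂)
    (hA : ∀ i, A (i + 1) = ((A i ⊓ B i).subgroupOf M₁).normalCore.map M₁.subtype)
    (hB : ∀ i, B (i + 1) = ((A i ⊓ B i).subgroupOf M₂).normalCore.map M₂.subtype) (hA2 : A 2 ≠ ⊥) (hB2 : B 2 ≠ ⊥) :
    ∃ p : ℕ, p.Prime ∧ IsPGroup p ↥(A 2 ⊔ B 2) ∧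
      Cfsg.generalizedFittingSubgroup ↥M₁ = Cfsg.pCore p ↥M₁ ∧ Cfsg.generalizedFittingSubgroup ↥(A 1) = Cfsg.pCore p ↥(A 1) ∧
      Cfsg.generalizedFittingSubgroup ↥M₂ = Cfsg.pCore p ↥M₂ ∧ Cfsg.generalizedFittingSubgroup ↥(B 1) = Cfsg.pCore p ↥(B 1) := by
  open CfsgLib.ThompsonWielandt CfsgLib.Solvable CfsgLib.Components CfsgLib.Components.Bender in
  classical
  have hcoeq : ∀ (M S : Subgroup G), (S.subgroupOf M).normalCore.map M.subtype = co M S := by
    intro M S
    ext x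
    rw [mem_co]
    constructor
    · rintro ⟨y, hy, rfl⟩
      exact ⟨y.2, fun z hz => hy ⟨z, hz⟩⟩
    · rintro ⟨hx, h⟩
      exact ⟨⟨x, hx⟩, fun b => h b b.2, rfl⟩
  have huniq : ∀ M : Subgroup G, IsCoatom M → M.normalCore = ⊥ → IsUniq M := by
    intro M hM hc U hU hUM hMU
    rcases hM.le_iff.mp hMU with h | h
    · haveI : U.Normal := Subgroup.normalizer_eq_top_iff.mp h
      exact absurd (le_bot_iff.1 (hc ▸ Subgroup.normal_le_normalCore.2 hUM)) hU
    · exact h.le
  have hmax2 : IsCoatom M₂ := hconj ▸ (OrderIso.isCoatom_iff (MulAut.conj g).mapSubgroup M₁).2 hmax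
  have hcore2 : M₂.normalCore = ⊥ := by
    refine le_bot_iff.1 (hcore ▸ Subgroup.normal_le_normalCore.2 fun x hx => ?_)
    have hgx := M₂.normalCore_normal.conj_mem x hx g
    have hgx' := M₂.normalCore_le hgx
    rw [hconj] at hgx'
    obtain ⟨y, hy, hye⟩ := hgx'
    change g * y * g⁻¹ = g * x * g⁻¹ at hye
    exact mul_left_cancel (mul_right_cancel hye) ▸ hy
  have hP : Pair M₁ M₂ := ⟨huniq M₁ hmax hcore, huniq M₂ hmax2 hcore2, hne,
    ⟨(MulEquiv.subgroupMap (MulAut.conj g) M₁).trans (MulEquiv.subgroupCongr hconj.symm)⟩⟩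
  have hA1 : A 1 = co M₁ M₂ := by
    rw [hA 0, hA0, hB0, hcoeq]
    exact le_antisymm (co_mono inf_le_right)
      (fun x hx => mem_co.2 ⟨(mem_co.1 hx).1, fun z hz =>
        ⟨M₁.mul_mem (M₁.mul_mem hz (mem_co.1 hx).1) (M₁.inv_mem hz), (mem_co.1 hx).2 z hz⟩⟩)
  have hB1 : B 1 = co M₂ M₁ := by
    rw [hB 0, hA0, hB0, hcoeq]
    exact le_antisymm (co_mono inf_le_left)
      (fun x hx => mem_co.2 ⟨(mem_co.1 hx).1, fun z hz =>
        ⟨(mem_co.1 hx).2 z hz, M₂.mul_mem (M₂.mul_mem hz (mem_co.1 hx).1) (M₂.inv_mem hz)⟩⟩)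
  have hinner : ∀ X Y : Subgroup G, co X (co X Y ⊓ co Y X) = co X (co Y X) := by
    intro X Y
    refine le_antisymm (co_mono inf_le_right) fun x hx => mem_co.2 ⟨(mem_co.1 hx).1, fun z hz =>
      ⟨mem_co.2 ⟨X.mul_mem (X.mul_mem hz (mem_co.1 hx).1) (X.inv_mem hz), fun w hw => ?_⟩,
        (mem_co.1 hx).2 z hz⟩⟩
    have := co_le_left Y X ((mem_co.1 hx).2 (w * z) (X.mul_mem hw hz))
    simpa [mul_assoc] using this
  have hA2e : A 2 = co M₁ (co M₂ M₁) := by
    rw [hA 1, hA1, hB1, hcoeq, hinner]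
  have hB2e : B 2 = co M₂ (co M₁ M₂) := by
    rw [hB 1, hA1, hB1, hcoeq, inf_comm, hinner]
  rw [hA2e] at hA2
  rw [hB2e] at hB2
  obtain ⟨p, hp, hAp, hFX⟩ := hP.exists_isPGroup hA2 hB2
  obtain ⟨q, hq, hBq, hFY⟩ := hP.symm.exists_isPGroup hB2 hA2
  haveI := Fact.mk hp
  haveI := Fact.mk hq
  -- the generalized Fitting subgroup equals the core
  have hgen : ∀ {r : ℕ} [Fact r.Prime] (M : Subgroup G), IsPGroup r ↥(Cfsg.generalizedFittingSubgroup ↥M) →
      Cfsg.generalizedFittingSubgroup ↥M = Cfsg.pCore r ↥M := by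
    intro r _ M hr
    exact le_antisymm (Cores.le_pCore hr)
      ((Cores.pCore_le_fittingSubgroup r).trans le_sup_right)
  have hnontriv : ∀ (M : Subgroup G), M ≠ ⊥ → Cfsg.generalizedFittingSubgroup ↥M ≠ ⊥ := by
    intro M hM hF
    apply hM
    have hc := centralizer_generalizedFitting_le (G := M)
    rw [hF] at hc
    refine le_bot_iff.1 fun x hx => Subgroup.mem_bot.2 ?_
    have h1 : (⟨x, hx⟩ : M) ∈ (⊥ : Subgroup M) := hc (by
      rw [Subgroup.mem_centralizer_iff]
      intro y hy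
      simp [Subgroup.mem_bot.mp hy])
    exact congrArg Subtype.val (Subgroup.mem_bot.1 h1)
  have hne1 : ∀ X : Subgroup G, ∀ S : Subgroup G, co X S ≠ ⊥ → X ≠ ⊥ := fun X S h =>
    P_ne_le h (co_le_left _ _)
  have hqp : q = p := by
    by_contra hqp
    have hX := hgen M₁ hFX
    obtain ⟨e⟩ := hP.iso
    have hcard := card_pCore_congr p e
    have h1 : Cfsg.pCore p ↥M₂ = ⊥ := by
      have hle : Cfsg.pCore p ↥M₂ ≤ Cfsg.generalizedFittingSubgroup ↥M₂ :=
        (Cores.pCore_le_fittingSubgroup p).trans le_sup_right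
      exact disjoint_self.1 ((Cores.isPGroup_pCore p).disjoint_of_ne p q (Ne.symm hqp) _ _ (hFY.to_le hle))
    rw [h1, Subgroup.card_bot, ← hX, Subgroup.card_eq_one] at hcard
    exact hnontriv M₁ (hne1 _ _ hA2) hcard
  subst hqp
  -- the first cores
  have hfirst : ∀ {X Y : Subgroup G}, Pair X Y → co X (co Y X) ≠ ⊥ → co Y (co X Y) ≠ ⊥ →
      IsPGroup q (co X (co Y X)) → IsPGroup q ↥(Cfsg.generalizedFittingSubgroup ↥(co X Y)) := by
    intro X Y h hX hY hXq
    have hn : X ≤ Subgroup.normalizer (co X Y : Set G) := le_normalizer_co X Y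
    refine isPGroup_generalizedFitting ?_ fun s hs hne' => ?_
    · refine le_bot_iff.1 ?_
      rw [← h.layerIn_eq_bot hX hY]
      haveI : ((co X Y).subgroupOf X).Normal :=
        (Subgroup.normal_subgroupOf_iff_le_normalizer (co_le_left X Y)).mpr hn
      rintro _ ⟨t, ht, rfl⟩
      refine ⟨⟨t, co_le_left X Y t.2⟩, ?_, rfl⟩
      have := layer_map_subtype_le (H := (co X Y).subgroupOf X) (Subgroup.Normal.isSubnormal inferInstance)
      refine this ⟨(Subgroup.subgroupOfEquivOfLe (co_le_left X Y)).symm t, ?_, rfl⟩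
      rw [← layer_map_mulEquiv (Subgroup.subgroupOfEquivOfLe (co_le_left X Y)).symm]
      exact Subgroup.mem_map_of_mem _ ht
    · haveI := Fact.mk hs
      by_contra hsq
      refine hne' (le_bot_iff.1 ((coreIn_le_coreIn_of_normal (co_le_left X Y) hn).trans
        (h.coreIn_eq_bot fun hPs => hX ?_).le))
      exact disjoint_self.1 (hPs.disjoint_of_ne s q hsq _ _ hXq)
  refine ⟨q, hq, ?_, hgen M₁ hFX, ?_, hgen M₂ hFY, ?_⟩
  · rw [hA2e, hB2e]
    refine hAp.to_sup_of_normal_left' hBq ((co_le_right _ _).trans ((co_le_left M₁ M₂).trans ?_))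
    exact le_normalizer_co M₁ _
  · exact hgen _ (hA1 ▸ hfirst hP hA2 hB2 hAp)
  · exact hgen _ (hB1 ▸ hfirst hP.symm hB2 hA2 hBq)

end Cfsg.Agent.S5752
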