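import Cfsg.Statements.S5753
import Cfsg.Agent.Lib.Perm.Normal
import Cfsg.Agent.Lib.Perm.BinaryAffine.Setting

/-! The classification does not use the classification of the finite simple groups: an elementary
argument is given in `Cfsg.Agent.Lib.Perm.BinaryAffine`. -/

set_option autoImplicit false
open Cfsg

namespace Cfsg.Agent.S5753

/-- The binary primitive permutation groups of affine type (the known proof uses the classification of the finite simple groups). Let a finite group G act faithfully and primitively on a finite set Ω, with a non-trivial abelian normal subgroup, and suppose the action is binary: for every n ≥ 2 and all n-tuples I, J of points, if for every pair of positions some element of G carries the corresponding pair of entries of I to those of J, then a single element carries I to J. Then either Ω has a prime number of points and every point stabilizer has order at most 2, or Ω can be identified with a field E that is a quadratic extension of a subfield F in such a way that the permutations induced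 by G are exactly the maps x ↦ a·φ(x) + b with a ∈ E of norm 1 over F, φ an automorphism of E over F and b ∈ E (the affine group of the anisotropic plane orthogonal group). -/
theorem result {G Ω : Type*} [Group G] [Finite G] [MulAction G Ω] [FaithfulSMul G Ω] [Fintype Ω]
    (hprim : MulAction.IsPreprimitive G Ω)
    (haff : ∃ N : Subgroup G, N.Normal ∧ N ≠ ⊥ ∧ IsMulCommutative ↥N)
    (hbin : ∀ (n : ℕ) (I J : Fin n → Ω), 2 ≤ n →
      (∀ i j : Fin n, i ≠ j → ∃ g : G, g • I i = J i ∧ g • I j = J j) → ∃ g : G, ∀ i, g • I i = J i) :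
    ((Fintype.card Ω).Prime ∧ ∀ ω : Ω, Nat.card ↥(MulAction.stabilizer G ω) ≤ 2) ∨
    (∃ (F E : Type) (_ : Field F) (_ : Fintype F) (_ : Field E) (_ : Fintype E) (_ : Algebra F E) (e : Ω ≃ E),
        Module.finrank F E = 2 ∧
        ∀ σ : Equiv.Perm Ω, σ ∈ (MulAction.toPermHom G Ω).range ↔
          ∃ (a b : E) (φ : E ≃ₐ[F] E), Algebra.norm F a = 1 ∧ ∀ ω : Ω, e (σ ω) = a * φ (e ω) + b) := by
  classical
  obtain ⟨N, hN, hne, hc⟩ := haff
  haveI := hN
  haveI := hprim
  haveI : Nontrivial Ω := by
    by_contra h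
    rw [not_nontrivial_iff_subsingleton] at h
    refine hne ((Subgroup.eq_bot_iff_forall _).mpr fun n _ => ?_)
    exact eq_of_smul_eq_smul (α := Ω) fun x => Subsingleton.elim _ _
  haveI := CfsgLib.Perm.Normal.isPretransitive_normal (Ω := Ω) N hne
  have hreg := fun x : Ω => CfsgLib.Perm.Normal.stabilizer_eq_bot_of_comm N hc x
  obtain ⟨a⟩ : Nonempty Ω := inferInstance
  letI : CommGroup N := { (inferInstance : Group N) with mul_comm := fun x y => hc.1.comm x y }
  let V := Shrink.{0} (Additive N)
  let ι : V ≃+ Additive N := Shrink.addEquiv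
  haveI : Finite V := Finite.of_equiv _ ι.symm.toEquiv
  let n : V → G := fun v => ((Additive.toMul (ι v) : N) : G)
  let pt : V → Ω := fun v => n v • a
  have hn_add : ∀ v w, n (v + w) = n v * n w := fun v w => by
    simp only [n, map_add, toMul_add, Subgroup.coe_mul]
  have hn0 : n 0 = 1 := by simp only [n, map_zero, toMul_zero, Subgroup.coe_one]
  have hn_inj : Function.Injective n := fun v w h =>
    ι.injective (Additive.toMul.injective (Subtype.ext h))
  have hpt0 : pt 0 = a := by simp only [pt, hn0, one_smul]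
  have hpt : Function.Bijective pt := by
    refine ⟨fun v w h => hn_inj (congrArg Subtype.val
      (CfsgLib.Perm.Normal.regular_inj hreg (x := a) h)), fun x => ?_⟩
    obtain ⟨k, hk⟩ := MulAction.exists_smul_eq N a x
    exact ⟨ι.symm (Additive.ofMul k), by simpa [pt, n, Subgroup.smul_def] using hk⟩
  have htrans : ∀ t v, n t • pt v = pt (t + v) := fun t v => by
    simp only [pt, hn_add, mul_smul]
  let cj : G → AddMonoid.End V := fun g => ι.symm.toAddMonoidHom.comp
    ((MonoidHom.toAdditive (MulAut.conjNormal (H := N) g).toMonoidHom).comp ι.toAddMonoidHom)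
  have hcj : ∀ g v, n (cj g v) = g * n v * g⁻¹ := fun g v => by
    show ((Additive.toMul (ι (ι.symm _)) : N) : G) = _
    rw [ι.apply_symm_apply]
    exact MulAut.conjNormal_apply g _
  let ρ : MulAction.stabilizer G a →* AddMonoid.End V :=
    { toFun := fun m => cj m
      map_one' := DFunLike.ext _ _ fun v => hn_inj (by
        rw [hcj, Subgroup.coe_one, one_mul, inv_one, mul_one]; rfl)
      map_mul' := fun m k => DFunLike.ext _ _ fun v => hn_inj (by
        show n (cj ((m * k : MulAction.stabilizer G a) : G) v) = n (cj m (cj k v))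
        rw [hcj, hcj, hcj, Subgroup.coe_mul]; group) }
  have hact : ∀ (m : MulAction.stabilizer G a) v, (m : G) • pt v = pt (ρ m v) := fun m v => by
    show (m : G) • n v • a = n (cj m v) • a
    rw [hcj, mul_smul, mul_smul, inv_smul_eq_iff.mpr (show a = (m : G) • a from m.2.symm)]
  have hdecomp : ∀ g : G, ∃ (t : V) (m : MulAction.stabilizer G a), g = n t * m := fun g => by
    obtain ⟨t, ht⟩ := hpt.2 (g • a)
    refine ⟨t, ⟨(n t)⁻¹ * g, ?_⟩, by simp⟩
    rw [MulAction.mem_stabilizer_iff, mul_smul, inv_smul_eq_iff]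
    exact ht.symm
  have hgact : ∀ t (m : MulAction.stabilizer G a) v, (n t * (m : G)) • pt v = pt (t + ρ m v) :=
    fun t m v => by rw [mul_smul, hact, htrans]
  have hga : ∀ t (m : MulAction.stabilizer G a), (n t * (m : G)) • a = pt t := fun t m => by
    rw [mul_smul, show (m : G) • a = a from m.2]
  let e : Ω ≃ V := (Equiv.ofBijective pt hpt).symm
  have hpte : ∀ ω, pt (e ω) = ω := fun ω => (Equiv.ofBijective pt hpt).apply_symm_apply ω
  have hept : ∀ v, e (pt v) = v := fun v => (Equiv.ofBijective pt hpt).symm_apply_apply v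
  haveI : Nontrivial V := e.symm.nontrivial
  have hirr : ∀ W : AddSubgroup V, (∀ (m : MulAction.stabilizer G a), ∀ x ∈ W, ρ m x ∈ W) →
      W = ⊥ ∨ W = ⊤ := by
    intro W hW
    let K : Subgroup G :=
      { carrier := {g | ∃ w ∈ W, g • a = pt w}
        one_mem' := ⟨0, W.zero_mem, by rw [hpt0, one_smul]⟩
        mul_mem' := fun {g k} hg hk => by
          obtain ⟨w, hw, hgw⟩ := hg
          obtain ⟨w', hw', hkw⟩ := hk
          obtain ⟨t, m, rfl⟩ := hdecomp g
          rw [hga] at hgw
          refine ⟨t + ρ m w', W.add_mem (hpt.1 hgw ▸ hw) (hW m _ hw'), ?_⟩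
          rw [mul_smul, hkw, hgact]
        inv_mem' := fun {g} hg => by
          obtain ⟨w, hw, hgw⟩ := hg
          obtain ⟨t, m, rfl⟩ := hdecomp g
          rw [hga] at hgw
          obtain ⟨u, hu⟩ := hpt.2 ((n t * (m : G))⁻¹ • a)
          refine ⟨u, ?_, hu.symm⟩
          rw [eq_inv_smul_iff, hgact] at hu
          have h1 : ρ m u = -w := by
            have := hpt.1 (hu.trans hpt0.symm)
            rw [← hpt.1 hgw, eq_neg_iff_add_eq_zero, add_comm]
            exact this
          have h2 : ρ m⁻¹ (ρ m u) = u := by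
            show (ρ m⁻¹ * ρ m) u = u
            rw [← map_mul, inv_mul_cancel, map_one]; rfl
          rw [← h2, h1]
          exact hW _ _ (W.neg_mem hw) }
    have hle : MulAction.stabilizer G a ≤ K := fun g hg => ⟨0, W.zero_mem, by rw [hpt0]; exact hg⟩
    rcases (MulAction.IsPreprimitive.isCoatom_stabilizer_of_isPreprimitive G a).le_iff.mp hle with h | h
    · right
      refine eq_top_iff.mpr fun x _ => ?_
      obtain ⟨w, hw, hwx⟩ : n x ∈ K := h ▸ Subgroup.mem_top _
      exact hpt.1 hwx ▸ hw
    · left
      refine (AddSubgroup.eq_bot_iff_forall _).mpr fun x hx => hpt.1 ?_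
      have : n x ∈ K := ⟨x, hx, rfl⟩
      rw [h, MulAction.mem_stabilizer_iff] at this
      rw [hpt0]
      exact this
  have hbin' : ∀ (S : Finset V) (f : V → V), (∀ x ∈ S, ∃ m, ρ m x = f x) →
      (∀ x ∈ S, ∀ y ∈ S, ∃ m, ρ m (x - y) = f x - f y) → ∃ m, ∀ x ∈ S, ρ m x = f x := by
    intro S f h1 h2
    let f' : V → V := fun x => if x = 0 then 0 else f x
    have hf' : ∀ x ∈ S, f' x = f x := fun x hx => by
      by_cases h : x = 0
      · obtain ⟨m, hm⟩ := h1 x hx
        rw [h, map_zero] at hm
        simp [f', h, ← hm]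
      · simp [f', h]
    let T : Finset V := insert 0 S
    let I : Fin (T.card + 1) → V := Fin.cons 0 fun i => (T.equivFin.symm i : V)
    have hI : ∀ i, I i ∈ T := fun i => by
      refine Fin.cases ?_ (fun j => ?_) i
      · exact Finset.mem_insert_self _ _
      · exact (T.equivFin.symm j).2
    have hpair : ∀ x ∈ T, ∀ y ∈ T, ∃ m, ρ m (x - y) = f' x - f' y := by
      intro x hx y hy
      rcases Finset.mem_insert.mp hx with rfl | hx <;> rcases Finset.mem_insert.mp hy with rfl | hy
      · exact ⟨1, by simp⟩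
      · obtain ⟨m, hm⟩ := h1 y hy
        exact ⟨m, by rw [zero_sub, map_neg, hm, hf' y hy]; simp [f']⟩
      · obtain ⟨m, hm⟩ := h1 x hx
        exact ⟨m, by rw [sub_zero, hm, hf' x hx]; simp [f']⟩
      · obtain ⟨m, hm⟩ := h2 x hx y hy
        exact ⟨m, by rw [hm, hf' x hx, hf' y hy]⟩
    obtain ⟨g, hg⟩ := hbin (T.card + 1) (fun i => pt (I i)) (fun i => pt (f' (I i)))
      (by have : 0 < T.card := Finset.card_pos.mpr ⟨0, Finset.mem_insert_self 0 S⟩; omega)
      (fun i j _ => by
        obtain ⟨m, hm⟩ := hpair _ (hI i) _ (hI j)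
        refine ⟨n (f' (I j) - ρ m (I j)) * m, ?_, ?_⟩
        · rw [hgact]
          congr 1
          rw [map_sub] at hm
          calc f' (I j) - ρ m (I j) + ρ m (I i) = (ρ m (I i) - ρ m (I j)) + f' (I j) := by abel
            _ = f' (I i) := by rw [hm]; abel
        · rw [hgact]
          congr 1
          abel)
    obtain ⟨t, m, rfl⟩ := hdecomp g
    have hall : ∀ x ∈ T, t + ρ m x = f' x := fun x hx => by
      have := hg (T.equivFin ⟨x, hx⟩).succ
      simp only [I, Fin.cons_succ, Equiv.symm_apply_apply, hgact] at this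
      exact hpt.1 this
    have ht : t = 0 := by simpa [f'] using hall 0 (Finset.mem_insert_self _ _)
    refine ⟨m, fun x hx => ?_⟩
    rw [← hf' x hx, ← hall x (Finset.mem_insert_of_mem hx), ht, zero_add]
  have hcard : Fintype.card Ω = Nat.card V := by
    rw [← Nat.card_eq_fintype_card, Nat.card_congr e]
  have hρinj : Function.Injective ρ := fun m k h => Subtype.ext <| eq_of_smul_eq_smul (α := Ω) fun x => by
    rw [← hpte x, hact, hact, h]
  rcases CfsgLib.Perm.BinaryAffine.classify_end ρ hirr hbin' with ⟨hp, hpm⟩ |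
    ⟨F, K, iF, iF', iK, iK', iA, ψ, hr, hψ⟩
  · refine Or.inl ⟨hcard ▸ hp, fun ω => ?_⟩
    have h2 : Nat.card (MulAction.stabilizer G a) ≤ 2 := by
      let b : MulAction.stabilizer G a → Bool := fun m => decide (∀ x, ρ m x = x)
      have hb : Function.Injective b := by
        intro m k h
        simp only [b, decide_eq_decide] at h
        refine hρinj (DFunLike.ext _ _ fun x => ?_)
        by_cases hm : ∀ x, ρ m x = x
        · rw [hm x, h.mp hm x]
        · rw [(hpm m).resolve_left hm x, (hpm k).resolve_left (fun hk => hm (h.mpr hk)) x]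
      exact (Nat.card_le_card_of_injective b hb).trans (by simp)
    obtain ⟨g, rfl⟩ := MulAction.exists_smul_eq G a ω
    rw [MulAction.stabilizer_smul_eq_stabilizer_map_conj]
    exact (Subgroup.card_map_of_injective (MulEquiv.injective _)).trans_le h2
  · refine Or.inr ⟨F, K, iF, iF', iK, iK', iA, e.trans ψ.toEquiv, hr, fun σ => ⟨?_, ?_⟩⟩
    · rintro ⟨g, rfl⟩
      obtain ⟨t, m, rfl⟩ := hdecomp g
      obtain ⟨c, φ, hc, hφ⟩ := (hψ fun x => ρ m x).mp ⟨m, fun x => rfl⟩
      refine ⟨c, ψ t, φ, hc, fun ω => ?_⟩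
      show ψ (e ((n t * (m : G)) • ω)) = c * φ (ψ (e ω)) + ψ t
      conv_lhs => rw [← hpte ω, hgact, hept, map_add, hφ, add_comm]
    · rintro ⟨c, b, φ, hc, hσ⟩
      obtain ⟨m, hm⟩ := (hψ fun x => ψ.symm (c * φ (ψ x))).mpr ⟨c, φ, hc, fun x => ψ.apply_symm_apply _⟩
      refine ⟨n (ψ.symm b) * m, Equiv.ext fun ω => ?_⟩
      apply (e.trans ψ.toEquiv).injective
      rw [hσ ω]
      show ψ (e ((n (ψ.symm b) * (m : G)) • ω)) = c * φ (ψ (e ω)) + b
      conv_lhs => rw [← hpte ω, hgact, hept, map_add, hm, ψ.apply_symm_apply, ψ.apply_symm_apply, add_comm]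

end Cfsg.Agent.S5753
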