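import Cfsg.Statements.S5754
import Mathlib

set_option autoImplicit false
open Cfsg

namespace Cfsg.Agent.S5754

variable {F V : Type*} [Field F] [AddCommGroup V] [Module F V]

/-- A reflection of an anisotropic form. -/
noncomputable def refl (Q : QuadraticForm F V) (a : V) (ha : Q a ≠ 0) : Q.IsometryEquiv Q :=
  let r : V →ₗ[F] V :=
    { toFun := fun x => x - (QuadraticMap.polar Q x a / Q a) • a
      map_add' := fun x y => by
        rw [QuadraticMap.polar_add_left, add_div, add_smul]; abel
      map_smul' := fun t x => by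
        rw [QuadraticMap.polar_smul_left, RingHom.id_apply, smul_sub, smul_smul, smul_eq_mul, mul_div_assoc] }
  have hr : Function.Involutive r := fun x => by
    show x - (QuadraticMap.polar Q x a / Q a) • a -
      (QuadraticMap.polar Q (x - (QuadraticMap.polar Q x a / Q a) • a) a / Q a) • a = x
    rw [QuadraticMap.polar_sub_left, QuadraticMap.polar_smul_left, QuadraticMap.polar_self, smul_eq_mul, sub_sub,
      ← add_smul]
    have : QuadraticMap.polar Q x a / Q a +
        (QuadraticMap.polar Q x a - QuadraticMap.polar Q x a / Q a * (2 • Q a)) / Q a = 0 := by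
      rw [two_nsmul]; field_simp; ring
    rw [this, zero_smul, sub_zero]
  { LinearEquiv.ofInvolutive r hr with
    map_app' := fun x => by
      show Q (x - (QuadraticMap.polar Q x a / Q a) • a) = Q x
      rw [sub_eq_add_neg, ← neg_smul, QuadraticMap.map_add (⇑Q), QuadraticMap.map_smul, QuadraticMap.polar_smul_right,
        smul_eq_mul, smul_eq_mul]
      field_simp
      ring }

theorem refl_apply (Q : QuadraticForm F V) (a : V) (ha : Q a ≠ 0) (x : V) :
    refl Q a ha x = x - (QuadraticMap.polar Q x a / Q a) • a := rfl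

theorem extend (Q : QuadraticForm F V) (hQ : Q.Anisotropic) {ι : Type*} (v v' : ι → V)
    (hn : ∀ i, Q (v' i) = Q (v i)) (hp : ∀ i j, QuadraticMap.polar Q (v' i) (v' j) = QuadraticMap.polar Q (v i) (v j))
    (s : Finset ι) : ∃ φ : Q.IsometryEquiv Q, ∀ i ∈ s, φ (v i) = v' i := by
  classical
  induction s using Finset.induction_on with
  | empty => exact ⟨QuadraticMap.IsometryEquiv.refl Q, fun i hi => absurd hi (Finset.notMem_empty i)⟩
  | @insert k s _ ih =>
    obtain ⟨φ, hφ⟩ := ih
    by_cases hw : φ (v k) = v' k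
    · exact ⟨φ, fun i hi => (Finset.mem_insert.mp hi).elim (fun h => h ▸ hw) (hφ i)⟩
    have hne : φ (v k) - v' k ≠ 0 := sub_ne_zero.mpr hw
    have ha : Q (φ (v k) - v' k) ≠ 0 := fun h => hne (hQ _ h)
    have hpp : ∀ x y, QuadraticMap.polar Q (φ x) (φ y) = QuadraticMap.polar Q x y := fun x y => by
      have h1 : φ x + φ y = φ (x + y) := (map_add φ.toLinearEquiv x y).symm
      unfold QuadraticMap.polar
      rw [h1, φ.map_app, φ.map_app, φ.map_app]
    refine ⟨φ.trans (refl Q _ ha), fun i hi => ?_⟩
    show refl Q _ ha (φ (v i)) = v' i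
    rw [refl_apply]
    rcases Finset.mem_insert.mp hi with rfl | hi
    · have e : QuadraticMap.polar Q (φ (v i)) (φ (v i) - v' i) = Q (φ (v i) - v' i) := by
        have h2 : Q (φ (v i) - v' i) = Q (φ (v i)) + Q (v' i) - QuadraticMap.polar Q (φ (v i)) (v' i) := by
          rw [sub_eq_add_neg, QuadraticMap.map_add (⇑Q), QuadraticMap.map_neg, QuadraticMap.polar_neg_right]
          ring
        rw [h2, QuadraticMap.polar_sub_right, QuadraticMap.polar_self, φ.map_app, hn, two_nsmul]
      rw [e, div_self ha, one_smul, sub_sub_cancel]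
    · rw [hφ i hi]
      have e : QuadraticMap.polar Q (v' i) (φ (v k) - v' k) = 0 := by
        rw [QuadraticMap.polar_sub_right, hp, ← hφ i hi, hpp, sub_self]
      rw [e, zero_div, zero_smul, sub_zero]

/-- Let V be a finite-dimensional vector space over a finite field F carrying an anisotropic quadratic form Q (Q(v) = 0 only for v = 0). Then the group of all maps v ↦ φ(v) + c, with φ an isometry of Q and c ∈ V, acts on V as a binary permutation group: given n ≥ 2 and two n-tuples u, u' of vectors such that every pair of corresponding entries of u is carried to that of u' by such a map, one such map carries u to u'. -/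
theorem result {F V : Type*} [Field F] [Finite F] [AddCommGroup V] [Module F V] [Module.Finite F V]
    (Q : QuadraticForm F V) (hQ : Q.Anisotropic) (n : ℕ) (hn : 2 ≤ n) (u u' : Fin n → V)
    (h2 : ∀ i j : Fin n, i ≠ j → ∃ (φ : Q.IsometryEquiv Q) (c : V), φ (u i) + c = u' i ∧ φ (u j) + c = u' j) :
    ∃ (φ : Q.IsometryEquiv Q) (c : V), ∀ i, φ (u i) + c = u' i := by
  let i0 : Fin n := ⟨0, by omega⟩
  have hd : ∀ i j : Fin n, Q (u' i - u' j) = Q (u i - u j) := by
    intro i j
    by_cases h : i = j
    · rw [h, sub_self, sub_self]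
    · obtain ⟨φ, c, h1, h3⟩ := h2 i j h
      have e : φ (u i - u j) = φ (u i) - φ (u j) := map_sub φ.toLinearEquiv _ _
      rw [← h1, ← h3, add_sub_add_right_eq_sub, ← e, φ.map_app]
  have hp : ∀ i j : Fin n, QuadraticMap.polar Q (u' i - u' i0) (u' j - u' i0) =
      QuadraticMap.polar Q (u i - u i0) (u j - u i0) := by
    intro i j
    have key : ∀ x y : V, QuadraticMap.polar Q x y = Q x + Q y - Q (x - y) := fun x y => by
      rw [sub_eq_add_neg x y, QuadraticMap.map_add (⇑Q), QuadraticMap.map_neg, QuadraticMap.polar_neg_right]; ring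
    rw [key, key, sub_sub_sub_cancel_right, sub_sub_sub_cancel_right, hd, hd, hd]
  obtain ⟨φ, hφ⟩ := extend Q hQ (fun i => u i - u i0) (fun i => u' i - u' i0) (fun i => hd i i0) hp Finset.univ
  refine ⟨φ, u' i0 - φ (u i0), fun i => ?_⟩
  have h : φ (u i - u i0) = u' i - u' i0 := hφ i (Finset.mem_univ i)
  have e : φ (u i - u i0) = φ (u i) - φ (u i0) := map_sub φ.toLinearEquiv _ _
  rw [e] at h
  rw [← sub_eq_zero] at h ⊢
  rw [← h]; abel

end Cfsg.Agent.S5754
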