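import Cfsg.Statements.S5769
import Cfsg.Agent.Lib.Chevalley.E7SixtyFive.Main
import Cfsg.Agent.Lib.Classical.SixtyFiveElements

set_option autoImplicit false
open Cfsg

namespace Cfsg.Agent.S5769

/-- An isomorphism moves the orders into the ambient group. -/
theorem excluded {G : Type*} [Group G] {H : Subgroup G} {X : Type*} [Group X] (key : ∀ g : G, orderOf g ≠ 65)
    (hx : ∃ x : X, orderOf x = 65) : IsEmpty (↥H ≃* X) := by
  obtain ⟨x, hx⟩ := hx
  refine ⟨fun φ => key (φ.symm x : ↥H) ?_⟩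
  rw [Subgroup.orderOf_coe, MulEquiv.orderOf_eq, hx]

/-- The Chevalley group of type E₇ over the field with two elements (generated by its root elements in the adjoint representation) has no subgroup isomorphic to any of PSL₂(64), PSp₄(8), PSL₄(8), PSU₄(8) or PSp₆(8). Here F₈ and F₆₄ denote fields with 8 and 64 elements. -/
theorem result {F₈ F₆₄ : Type*} [Field F₈] [Fintype F₈] (h8 : Fintype.card F₈ = 8) [Field F₆₄] [Fintype F₆₄] (h64 : Fintype.card F₆₄ = 64)
    (H : Subgroup ↥(Cfsg.Lie.chevE7.group (ZMod 2))) :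
    IsEmpty (↥H ≃* Matrix.ProjectiveSpecialLinearGroup (Fin 2) F₆₄) ∧ IsEmpty (↥H ≃* Cfsg.PSp 2 F₈) ∧
    IsEmpty (↥H ≃* Matrix.ProjectiveSpecialLinearGroup (Fin 4) F₈) ∧ IsEmpty (↥H ≃* Cfsg.PSU 4 F₆₄ 8) ∧ IsEmpty (↥H ≃* Cfsg.PSp 3 F₈) := by
  have key : ∀ g : ↥(Cfsg.Lie.chevE7.group (ZMod 2)), orderOf g ≠ 65 := by
    rw [← CfsgLib.Chevalley.Data.E7.datum_eq]
    intro g hg
    exact CfsgLib.Chevalley.E7SixtyFive.no_sixty_five g.2 (by rw [Subgroup.orderOf_coe, hg])
  exact ⟨excluded key (CfsgLib.Classical.SixtyFive.psl2 h64), excluded key (CfsgLib.Classical.SixtyFive.psp4 h8),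
    excluded key (CfsgLib.Classical.SixtyFive.psl4 h8), excluded key (CfsgLib.Classical.SixtyFive.psu4 h8 h64),
    excluded key (CfsgLib.Classical.SixtyFive.psp6 h8)⟩

end Cfsg.Agent.S5769
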