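import Cfsg.Statements.S5775
import Cfsg.Agent.Lib.Classical.AschPrime.LinearCases
import Cfsg.Agent.Lib.Classical.AschPrime.FieldFour
-- import your own Cfsg.Agent.* helpers here

set_option autoImplicit false
open Cfsg

namespace Cfsg.Agent.S5775

/-- Every maximal subgroup of SL_3(q) is of one of the listed geometric types or lies in the residual class. Let F be a finite field with q elements and H a maximal subgroup of SL_3(F) (viewed inside GL_3(F)). Then H is the intersection with SL_3(F) of one of: the stabiliser of a proper non-zero subspace; for q ≥ 5, the stabiliser of a decomposition of F^3 into three independent lines; for q ≠ 4, the normaliser of a degree-3 subfield of the matrix algebra; a subfield group for a subfield F₀ with |F| = |F₀|^r, r prime; for q = p ≡ 1 mod 3 prime, the normaliser of an absolutely irreducible 3-subgroup R of exponent 3 with centre of order 3, all of whose characteristic abelian subgroups are cyclic, of order 3^(1+2m) for some m ≥ 1, with F the smallest field of characteristic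 p containing the cube roots of unity (so R is extraspecial of order 27); for q odd, the similarity group of a non-degenerate quadratic form; the similarity group of a non-degenerate unitary form — or else H lies in the residual class of the linear case (modulo scalars H is almost simple, with absolutely irreducible perfect socle preimage realisable over no proper subfield and fixing no non-degenerate quadratic, symplectic or unitary form). -/
theorem result {F : Type*} [Field F] [Fintype F] (H : Subgroup (Matrix.GeneralLinearGroup (Fin 3) F)) (hH : Cfsg.Geo.IsMaximalIn (Cfsg.Geo.specialLinear (Fin 3) F) H) :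
    (∃ W : Submodule F (Fin 3 → F), W ≠ ⊥ ∧ W ≠ ⊤ ∧ H = Cfsg.Geo.subspaceStabilizer W ⊓ Cfsg.Geo.specialLinear (Fin 3) F) ∨
    (5 ≤ Fintype.card F ∧ ∃ D : Fin 3 → Submodule F (Fin 3 → F), Cfsg.Geo.IsMDecomposition 1 D ∧ H = Cfsg.Geo.decompositionStabilizer D ⊓ Cfsg.Geo.specialLinear (Fin 3) F) ∨
    (Fintype.card F ≠ 4 ∧ ∃ K : Subalgebra F (Matrix (Fin 3) (Fin 3) F), Cfsg.Geo.IsFieldSubalgebra 3 K ∧ H = Cfsg.Geo.subalgebraNormalizer K ⊓ Cfsg.Geo.specialLinear (Fin 3) F) ∨
    (∃ (F₀ : Subfield F) (r : ℕ) (P : Matrix.GeneralLinearGroup (Fin 3) F), r.Prime ∧ Fintype.card F = Nat.card F₀ ^ r ∧ H = Cfsg.Geo.subfieldSubgroup F₀ P ⊓ Cfsg.Geo.specialLinear (Fin 3) F) ∨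
    (∃ (p : ℕ) (R : Subgroup (Matrix.GeneralLinearGroup (Fin 3) F)), p.Prime ∧ Fintype.card F = p ∧ p % 3 = 1 ∧ Cfsg.Geo.IsLinearSymplecticTypeData 3 R ∧ H = Cfsg.Geo.subgroupNormalizer R ⊓ Cfsg.Geo.specialLinear (Fin 3) F) ∨
    (Odd (Fintype.card F) ∧ ∃ Q : (Fin 3 → F) → F, Cfsg.Geo.IsNondegenerateQuadraticForm Q ∧ H = Cfsg.Geo.quadSimilarityGroup Q ⊓ Cfsg.Geo.specialLinear (Fin 3) F) ∨
    (∃ (σ : F ≃+* F) (f : (Fin 3 → F) → (Fin 3 → F) → F), Cfsg.Geo.IsUnitaryForm σ f ∧ H = Cfsg.Geo.similarityGroup f ⊓ Cfsg.Geo.specialLinear (Fin 3) F) ∨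
    Cfsg.Geo.InLinearResidualClass H := by
  have hn : Nat.Prime 3 := by norm_num
  rcases CfsgLib.Classical.AschPrime.maximal_cases hn le_rfl hH with h | h | ⟨K, hK, hHK⟩ | h |
    ⟨p, e, R, hp, hc, hcard, he, hen, hnd, hdata, hR⟩ | h | h | h
  · exact .inl h
  · exact .inr (.inl h)
  · by_cases h4 : Fintype.card F = 4
    · obtain ⟨F₀, P, hF₀, hle⟩ := CfsgLib.Classical.AschPrime.field_four h4 hK
      have hne : F₀ ≠ ⊤ := by
        intro htop
        have hcard : Nat.card F₀ = Fintype.card F := by
          rw [← Nat.card_eq_fintype_card]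
          exact Nat.card_congr (Equiv.subtypeUnivEquiv fun x => htop ▸ Subfield.mem_top x)
        rw [hcard, h4] at hF₀
        norm_num at hF₀
      exact .inr (.inr (.inr (.inl ⟨F₀, 2, P, Nat.prime_two, hF₀,
        CfsgLib.Classical.AschPrime.maximal_eq hH (hHK.le.trans hle)
          (CfsgLib.Classical.AschPrime.not_sl_le_subfield le_rfl hne P)⟩)))
    · exact .inr (.inr (.inl ⟨h4, K, hK, hHK⟩))
  · exact .inr (.inr (.inr (.inl h)))
  · obtain rfl := CfsgLib.Classical.AschPrime.odd_divisor_two he hen
    rw [pow_one] at hcard hnd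
    exact .inr (.inr (.inr (.inr (.inl ⟨p, R, hp, hcard,
      CfsgLib.Classical.AschPrime.mod_one_of_dvd hp.pos (by norm_num) hnd, hdata, hR⟩))))
  · exact .inr (.inr (.inr (.inr (.inr (.inl h)))))
  · exact .inr (.inr (.inr (.inr (.inr (.inr (.inl h))))))
  · exact .inr (.inr (.inr (.inr (.inr (.inr (.inr h))))))

end Cfsg.Agent.S5775
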