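import Cfsg.Statements.S5778
import Cfsg.Agent.Lib.Classical.AschPrime.SU3Small
-- import your own Cfsg.Agent.* helpers here

set_option autoImplicit false
open Cfsg

namespace Cfsg.Agent.S5778

/-- Every maximal subgroup of SU_3(q), q ≥ 3, is of one of the listed geometric types or lies in the residual class. Let F be the field with q² elements, f the standard unitary form Σ u_i v_i^q on F^3, and H a maximal subgroup of SU_3(q) (the determinant-one isometries of f, inside GL_3(F)). Then H is the intersection with SU_3(q) of one of: the stabiliser of a non-zero subspace on which f vanishes; the stabiliser of a non-degenerate 1-space; for q ≠ 5, the stabiliser of a decomposition into three mutually orthogonal non-degenerate 1-spaces; for q ≠ 3, 5, the normaliser of an adjoint-closed degree-3 subfield of the matrix algebra; a subfield group of odd prime index whose F₀-structure carries f; for q odd, q ≥ 7, a subfield group of index 2 whose F₀-structure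 carries f; for q = p ≡ 2 mod 3 prime with p ≥ 11, the normaliser of an absolutely irreducible subgroup of order 27 with centre of order 3, exponent 3 and all characteristic abelian subgroups cyclic, contained in the similarity group of f — or else H lies in the residual class of the unitary case. -/
theorem result {F : Type*} [Field F] [Fintype F] (q : ℕ) (hF : Fintype.card F = q ^ 2) (hq : 3 ≤ q) (H : Subgroup (Matrix.GeneralLinearGroup (Fin 3) F)) (hH : Cfsg.Geo.IsMaximalIn (Cfsg.GU 3 F q ⊓ Cfsg.Geo.specialLinear (Fin 3) F) H) :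
    (∃ W : Submodule F (Fin 3 → F), W ≠ ⊥ ∧ Cfsg.Geo.IsTotallySingularFor (Cfsg.hermForm 3 F q) W ∧ H = Cfsg.Geo.subspaceStabilizer W ⊓ (Cfsg.GU 3 F q ⊓ Cfsg.Geo.specialLinear (Fin 3) F)) ∨
    (∃ W : Submodule F (Fin 3 → F), W ≠ ⊥ ∧ Cfsg.Geo.IsNondegenerateOn (Cfsg.hermForm 3 F q) W ∧ 2 * Module.finrank F W < 3 ∧ H = Cfsg.Geo.subspaceStabilizer W ⊓ (Cfsg.GU 3 F q ⊓ Cfsg.Geo.specialLinear (Fin 3) F)) ∨
    (q ≠ 5 ∧ ∃ D : Fin 3 → Submodule F (Fin 3 → F), Cfsg.Geo.IsNondegenerateMDecomposition (Cfsg.hermForm 3 F q) 1 D ∧ H = Cfsg.Geo.decompositionStabilizer D ⊓ (Cfsg.GU 3 F q ⊓ Cfsg.Geo.specialLinear (Fin 3) F)) ∨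
    (q ≠ 3 ∧ q ≠ 5 ∧ ∃ K : Subalgebra F (Matrix (Fin 3) (Fin 3) F), Cfsg.Geo.IsFieldSubalgebra 3 K ∧ Cfsg.Geo.IsAdjointClosedFor (Cfsg.hermForm 3 F q) K ∧ H = Cfsg.Geo.subalgebraNormalizer K ⊓ (Cfsg.GU 3 F q ⊓ Cfsg.Geo.specialLinear (Fin 3) F)) ∨
    (∃ (F₀ : Subfield F) (r : ℕ) (P : Matrix.GeneralLinearGroup (Fin 3) F), r.Prime ∧ Odd r ∧ Fintype.card F = Nat.card F₀ ^ r ∧ Cfsg.Geo.IsFormRationalStructure (Cfsg.hermForm 3 F q) F₀ 1 P ∧ H = Cfsg.Geo.subfieldSubgroup F₀ P ⊓ (Cfsg.GU 3 F q ⊓ Cfsg.Geo.specialLinear (Fin 3) F)) ∨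
    (Odd q ∧ 7 ≤ q ∧ ∃ (F₀ : Subfield F) (P : Matrix.GeneralLinearGroup (Fin 3) F), Fintype.card F = Nat.card F₀ ^ 2 ∧ Cfsg.Geo.IsFormRationalStructure (Cfsg.hermForm 3 F q) F₀ 1 P ∧ H = Cfsg.Geo.subfieldSubgroup F₀ P ⊓ (Cfsg.GU 3 F q ⊓ Cfsg.Geo.specialLinear (Fin 3) F)) ∨
    (∃ (p : ℕ) (R : Subgroup (Matrix.GeneralLinearGroup (Fin 3) F)), p.Prime ∧ q = p ∧ p % 3 = 2 ∧ 11 ≤ p ∧ Cfsg.Geo.IsSymplecticTypeGroup 3 R ∧ Cfsg.Geo.ActsAbsolutelyIrreducibly (Cfsg.Geo.matrixSet R) ∧ R ≤ Cfsg.Geo.similarityGroup (Cfsg.hermForm 3 F q) ∧ Nat.card R = 27 ∧ Nat.card (Subgroup.center R) = 3 ∧ H = Cfsg.Geo.subgroupNormalizer R ⊓ (Cfsg.GU 3 F q ⊓ Cfsg.Geo.specialLinear (Fin 3) F)) ∨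
    Cfsg.Geo.InUnitaryResidualClass H := by
  have hn : Nat.Prime 3 := by norm_num
  have hn3 : 3 ≤ 3 := le_rfl
  have hd : 3 ≤ q ∨ 4 ≤ 3 := .inl hq
  have hsize : Nat.factorial 3 * 3 < q ^ (3 * (3 - 1) / 2) :=
    lt_of_lt_of_le (by decide : Nat.factorial 3 * 3 < 3 ^ (3 * (3 - 1) / 2)) (Nat.pow_le_pow_left hq _)
  rcases CfsgLib.Classical.AschPrime.unitary_outcome hF hn hn3 H hH.1.le with ⟨W, h0, h1, hts, hle⟩ |
    ⟨W, h0, h1, hnd, hdim, hle⟩ | ⟨D, hD, hle⟩ | ⟨K, hK, hadj, hle⟩ |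
    ⟨F₀, l, P, hl, hlq, hcard, hP, hle⟩ |
    ⟨p, k, R, hp, hc, hqk, hk, hkn, hnd, hmin, hR, hsymp, hRH, hle⟩ | hres
  · exact .inl ⟨W, h0, hts, CfsgLib.Classical.AschPrime.maximal_eq_inf hH hle
      (CfsgLib.Classical.AschPrime.suG_not_le_subspace hF hn3 h0 h1)⟩
  · exact .inr (.inl ⟨W, h0, hnd, hdim, CfsgLib.Classical.AschPrime.maximal_eq_inf hH hle
      (CfsgLib.Classical.AschPrime.suG_not_le_subspace hF hn3 h0 h1)⟩)
  · refine .inr (.inr (.inl ⟨?_, D, hD, CfsgLib.Classical.AschPrime.maximal_eq_inf hH hle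
      (CfsgLib.Classical.AschPrime.suG_not_le_decomp hF hn3 hd hsize hD.decomp)⟩))
    rintro rfl
    exact CfsgLib.Classical.AschPrime.SU3Code.decomposition_not_maximal hF hH hD hle
  · refine .inr (.inr (.inr (.inl ⟨?_, ?_, K, hK, hadj, CfsgLib.Classical.AschPrime.maximal_eq_inf hH hle
      (CfsgLib.Classical.AschPrime.suG_not_le_field hF hn3 hd hK)⟩)))
    all_goals
      rintro rfl
      obtain ⟨S⟩ := CfsgLib.Classical.AschPrime.SU3Code.nonempty_setting (by norm_num) hF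
      exact CfsgLib.Classical.AschPrime.SU3Code.field_not_maximal S (by norm_num) hH hK hadj hle
  · have hne : F₀ ≠ ⊤ := by
      intro htop
      have h' : Nat.card F₀ = Fintype.card F := by
        rw [← Nat.card_eq_fintype_card]
        exact Nat.card_congr (Equiv.subtypeUnivEquiv fun x => htop ▸ Subfield.mem_top x)
      rw [h'] at hcard
      exact hl.one_lt.ne (Nat.pow_right_injective Fintype.one_lt_card ((pow_one _).trans hcard))
    have he := CfsgLib.Classical.AschPrime.maximal_eq_inf hH hle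
      (CfsgLib.Classical.AschPrime.suG_not_le_subfield hF hn3 hd hne P)
    rcases hlq with h | ⟨rfl, hoq⟩
    · exact .inr (.inr (.inr (.inr (.inl ⟨F₀, l, P, hl, h, hcard, hP, he⟩))))
    · by_cases h7 : 7 ≤ q
      · exact .inr (.inr (.inr (.inr (.inr (.inl ⟨hoq, h7, F₀, P, hcard, hP, he⟩)))))
      · obtain ⟨m, rfl⟩ := hoq
        rcases (show m = 1 ∨ m = 2 by omega) with rfl | rfl
        · obtain ⟨D, hD, hle'⟩ :=
            CfsgLib.Classical.AschPrime.SU3Code.subfield_le_decomposition hF hH hcard hP hle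
          exact .inr (.inr (.inl ⟨by norm_num, D, hD, CfsgLib.Classical.AschPrime.maximal_eq_inf hH hle'
            (CfsgLib.Classical.AschPrime.suG_not_le_decomp hF hn3 hd hsize hD.decomp)⟩))
        · exact (CfsgLib.Classical.AschPrime.SU3Code.subfield_not_maximal hF hH hcard hP hle).elim
  · have hk1 : k = 1 := by
      have := Nat.le_of_dvd (by norm_num) hkn
      omega
    subst hk1
    rw [pow_one] at hqk
    subst hqk
    have hp3 : q % 3 = 2 := by
      have h2 : q % 3 < 3 := Nat.mod_lt _ (by norm_num)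
      have hconv : ∀ d : ℕ, 3 ∣ q ^ d - 1 ↔ (q % 3) ^ d % 3 = 1 := by
        intro d
        have := Nat.one_le_pow d q hp.pos
        rw [← Nat.pow_mod]
        omega
      have h3 := (hconv 2).mp hnd
      have h4 : ¬ (q % 3) ^ 1 % 3 = 1 := fun h => hmin 1 (by norm_num) (by norm_num) ((hconv 1).mpr h)
      generalize q % 3 = r at h2 h3 h4 ⊢
      interval_cases r <;> simp_all
    have h11 : 11 ≤ q := by
      by_contra h
      interval_cases q <;> first
        | omega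
        | (exfalso; revert hp; decide)
        | exact CfsgLib.Classical.AschPrime.SU3Code.extraspecial_not_maximal hF hH hR hRH hle
    have hRG : R ≤ CfsgLib.Classical.AschPrime.suG 3 F q := hRH.trans hH.1.le
    exact .inr (.inr (.inr (.inr (.inr (.inr (.inl ⟨q, R, hp, rfl, hp3, h11, hsymp, hR.absIrr,
      (hRG.trans inf_le_left).trans fun g hg => ⟨1, fun u v => by rw [Units.val_one, one_mul]; exact hg u v⟩,
      (hR.card_eq hn).trans (by norm_num), hR.card_center hn,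
      CfsgLib.Classical.AschPrime.maximal_eq_inf hH hle
        (CfsgLib.Classical.AschPrime.suG_not_le_normalizer hF hn3 hd hR hRG)⟩))))))
  · exact .inr (.inr (.inr (.inr (.inr (.inr (.inr hres))))))

end Cfsg.Agent.S5778
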