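import Cfsg.Statements.S5781
import Cfsg.Agent.Lib.Classical.AschGen.FiveFour
-- import your own Cfsg.Agent.* helpers here

set_option autoImplicit false
open Cfsg

namespace Cfsg.Agent.S5781

open CfsgLib.Classical.AschGen

/-- Every maximal subgroup of SL_4(q) is of one of the listed geometric types or lies in the residual class. Let F be a finite field with q elements and H a maximal subgroup of SL_4(F) (inside GL_4(F)). Then H is the intersection with SL_4(F) of one of: the stabiliser of a proper non-zero subspace; for q ≥ 7, the stabiliser of a decomposition into four independent lines; for q ≥ 4, the stabiliser of a decomposition into two independent planes; the normaliser of a degree-2 subfield of the matrix algebra; a subfield group for a subfield F₀ with |F| = |F₀|^r, r prime; for q = p ≡ 1 mod 4 prime, the normaliser of an absolutely irreducible 2-subgroup R of exponent 4 with centre of order 4, all of whose characteristic abelian subgroups are cyclic, of order 2^(2+2m) for some m (here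 |R| = 64), with 4 dividing p − 1; for q odd, the similarity group of a non-degenerate quadratic form; the similarity group of a non-degenerate symplectic form; the similarity group of a non-degenerate unitary form — or else H lies in the residual class of the linear case. -/
theorem result {F : Type*} [Field F] [Fintype F] (H : Subgroup (Matrix.GeneralLinearGroup (Fin 4) F)) (hH : Cfsg.Geo.IsMaximalIn (Cfsg.Geo.specialLinear (Fin 4) F) H) :
    (∃ W : Submodule F (Fin 4 → F), W ≠ ⊥ ∧ W ≠ ⊤ ∧ H = Cfsg.Geo.subspaceStabilizer W ⊓ Cfsg.Geo.specialLinear (Fin 4) F) ∨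
    (7 ≤ Fintype.card F ∧ ∃ D : Fin 4 → Submodule F (Fin 4 → F), Cfsg.Geo.IsMDecomposition 1 D ∧ H = Cfsg.Geo.decompositionStabilizer D ⊓ Cfsg.Geo.specialLinear (Fin 4) F) ∨
    (4 ≤ Fintype.card F ∧ ∃ D : Fin 2 → Submodule F (Fin 4 → F), Cfsg.Geo.IsMDecomposition 2 D ∧ H = Cfsg.Geo.decompositionStabilizer D ⊓ Cfsg.Geo.specialLinear (Fin 4) F) ∨
    (∃ K : Subalgebra F (Matrix (Fin 4) (Fin 4) F), Cfsg.Geo.IsFieldSubalgebra 2 K ∧ H = Cfsg.Geo.subalgebraNormalizer K ⊓ Cfsg.Geo.specialLinear (Fin 4) F) ∨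
    (∃ (F₀ : Subfield F) (r : ℕ) (P : Matrix.GeneralLinearGroup (Fin 4) F), r.Prime ∧ Fintype.card F = Nat.card F₀ ^ r ∧ H = Cfsg.Geo.subfieldSubgroup F₀ P ⊓ Cfsg.Geo.specialLinear (Fin 4) F) ∨
    (∃ (p : ℕ) (R : Subgroup (Matrix.GeneralLinearGroup (Fin 4) F)), p.Prime ∧ Fintype.card F = p ∧ p % 4 = 1 ∧ Cfsg.Geo.IsLinearSymplecticTypeData 2 R ∧ H = Cfsg.Geo.subgroupNormalizer R ⊓ Cfsg.Geo.specialLinear (Fin 4) F) ∨
    (Odd (Fintype.card F) ∧ ∃ Q : (Fin 4 → F) → F, Cfsg.Geo.IsNondegenerateQuadraticForm Q ∧ H = Cfsg.Geo.quadSimilarityGroup Q ⊓ Cfsg.Geo.specialLinear (Fin 4) F) ∨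
    (∃ f : (Fin 4 → F) → (Fin 4 → F) → F, Cfsg.Geo.IsSymplecticForm f ∧ H = Cfsg.Geo.similarityGroup f ⊓ Cfsg.Geo.specialLinear (Fin 4) F) ∨
    (∃ (σ : F ≃+* F) (f : (Fin 4 → F) → (Fin 4 → F) → F), Cfsg.Geo.IsUnitaryForm σ f ∧ H = Cfsg.Geo.similarityGroup f ⊓ Cfsg.Geo.specialLinear (Fin 4) F) ∨
    Cfsg.Geo.InLinearResidualClass H := by
  have hn : 3 ≤ 4 := by norm_num
  by_cases hform : FormEq H
  · rcases hform with h | h | h
    · exact .inr (.inr (.inr (.inr (.inr (.inr (.inl h))))))
    · exact .inr (.inr (.inr (.inr (.inr (.inr (.inr (.inl h)))))))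
    · exact .inr (.inr (.inr (.inr (.inr (.inr (.inr (.inr (.inl h))))))))
  rcases maximal_cases hn hH with h | ⟨t, m, D, hD, htm, heq⟩ | ⟨r, K, hr, hrn, hK, heq⟩ |
    ⟨n₁, n₂, e, P, h1, h2, hprod, heq⟩ | h | ⟨r, m, R, hr, hm, hnm, hdata, heq⟩ |
    ⟨m, t, e, P, hm, ht, hpow, heq⟩ | h | h
  · exact .inl h
  · have htle : t ≤ 4 := Nat.le_of_dvd (by norm_num) ⟨m, htm.symm⟩
    have := hD.two_le
    interval_cases t <;> try omega
    · obtain rfl : m = 2 := by omega
      by_cases h4 : 4 ≤ Fintype.card F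
      · exact .inr (.inr (.inl ⟨h4, D, hD, heq⟩))
      · have h2 := Fintype.one_lt_card (α := F)
        have hq : Fintype.card F = 2 ∨ (Fintype.card F = 3 ∧ (2 : ℕ) = 2) := by omega
        exact absurd (formEq_of hn hH (two_block_symp hn hH.1.le hD (heq.le.trans inf_le_left) hq)) hform
    · obtain rfl : m = 1 := by omega
      by_cases h7 : 7 ≤ Fintype.card F
      · exact .inr (.inl ⟨h7, D, hD, heq⟩)
      by_cases h5 : 5 ≤ Fintype.card F
      · have h56 : Fintype.card F = 5 := by
          have := card_ne_six (F := F)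
          omega
        exact (monomial_four_five h56 hH hD heq).elim
      rcases lines_cases hn hH hD heq with h | h | h
      · omega
      · exact .inl h
      · exact absurd h hform
  · have := Nat.le_of_dvd (by norm_num) hrn
    have := hr.two_le
    interval_cases r <;> try omega
    · exact .inr (.inr (.inr (.inl ⟨K, hK, heq⟩)))
    · exact absurd hr (by decide)
  · have h4 : 2 * 3 ≤ n₁ * n₂ := Nat.mul_le_mul (by omega) (by omega)
    omega
  · exact .inr (.inr (.inr (.inr (.inl h))))
  · obtain rfl := prime_base (k := 2) Nat.prime_two hr hm hnm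
    obtain ⟨p, hp, hcard, hmod⟩ := data_two hn hdata
    exact .inr (.inr (.inr (.inr (.inr (.inl ⟨p, R, hp, hcard, hmod, hdata, heq⟩)))))
  · have := wreath_bound hm ht hpow
    omega
  · exact absurd h hform
  · exact .inr (.inr (.inr (.inr (.inr (.inr (.inr (.inr (.inr h))))))))

end Cfsg.Agent.S5781
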