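import Cfsg.Statements.S5784
import Cfsg.Agent.Lib.Classical.AschForm.UnitaryPauli
import Cfsg.Agent.Lib.Classical.AschForm.UnitaryPair

set_option autoImplicit false
open Cfsg

namespace Cfsg.Agent.S5784

open CfsgLib.Classical.AschForm CfsgLib.Classical.AschGen CfsgLib.Classical.AschPrime

/-- Every maximal subgroup of SU_4(q) is of one of the listed geometric types or lies in the residual class. Let F be the field with q² elements, f the standard unitary form Σ u_i v_i^q on F^4, and H a maximal subgroup of SU_4(q) (inside GL_4(F)). Then H is the intersection with SU_4(q) of one of: the stabiliser of a non-zero subspace on which f vanishes; the stabiliser of a non-degenerate 1-space; for q ≠ 3, the stabiliser of a decomposition into four mutually orthogonal non-degenerate 1-spaces; for q ≥ 3, of a decomposition into two orthogonal non-degenerate 2-spaces; for q ≥ 4, of a decomposition into two totally isotropic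 2-spaces; a subfield group of odd prime index whose F₀-structure carries f; a subfield group of index 2 whose F₀-structure carries ζ f, vanishing on pairs (u, u), for some non-zero ζ with ζ + ζ^q = 0; for q odd, a subfield group of index 2 whose F₀-structure carries f; for q = p ≡ 3 mod 4 prime, the normaliser of an absolutely irreducible symplectic-type 2-group of exponent 4, order 64 and centre of order 4 inside the similarity group of f — or else H lies in the residual class of the unitary case. -/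
theorem result {F : Type*} [Field F] [Fintype F] (q : ℕ) (hF : Fintype.card F = q ^ 2) (H : Subgroup (Matrix.GeneralLinearGroup (Fin 4) F)) (hH : Cfsg.Geo.IsMaximalIn (Cfsg.GU 4 F q ⊓ Cfsg.Geo.specialLinear (Fin 4) F) H) :
    (∃ W : Submodule F (Fin 4 → F), W ≠ ⊥ ∧ Cfsg.Geo.IsTotallySingularFor (Cfsg.hermForm 4 F q) W ∧ H = Cfsg.Geo.subspaceStabilizer W ⊓ (Cfsg.GU 4 F q ⊓ Cfsg.Geo.specialLinear (Fin 4) F)) ∨
    (∃ W : Submodule F (Fin 4 → F), W ≠ ⊥ ∧ Cfsg.Geo.IsNondegenerateOn (Cfsg.hermForm 4 F q) W ∧ 2 * Module.finrank F W < 4 ∧ H = Cfsg.Geo.subspaceStabilizer W ⊓ (Cfsg.GU 4 F q ⊓ Cfsg.Geo.specialLinear (Fin 4) F)) ∨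
    (q ≠ 3 ∧ ∃ D : Fin 4 → Submodule F (Fin 4 → F), Cfsg.Geo.IsNondegenerateMDecomposition (Cfsg.hermForm 4 F q) 1 D ∧ H = Cfsg.Geo.decompositionStabilizer D ⊓ (Cfsg.GU 4 F q ⊓ Cfsg.Geo.specialLinear (Fin 4) F)) ∨
    (3 ≤ q ∧ ∃ D : Fin 2 → Submodule F (Fin 4 → F), Cfsg.Geo.IsNondegenerateMDecomposition (Cfsg.hermForm 4 F q) 2 D ∧ H = Cfsg.Geo.decompositionStabilizer D ⊓ (Cfsg.GU 4 F q ⊓ Cfsg.Geo.specialLinear (Fin 4) F)) ∨
    (4 ≤ q ∧ ∃ D : Fin 2 → Submodule F (Fin 4 → F), Cfsg.Geo.IsMDecomposition 2 D ∧ (∀ i, Cfsg.Geo.IsTotallySingularFor (Cfsg.hermForm 4 F q) (D i)) ∧ H = Cfsg.Geo.decompositionStabilizer D ⊓ (Cfsg.GU 4 F q ⊓ Cfsg.Geo.specialLinear (Fin 4) F)) ∨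
    (∃ (F₀ : Subfield F) (r : ℕ) (P : Matrix.GeneralLinearGroup (Fin 4) F), r.Prime ∧ Odd r ∧ Fintype.card F = Nat.card F₀ ^ r ∧ Cfsg.Geo.IsFormRationalStructure (Cfsg.hermForm 4 F q) F₀ 1 P ∧ H = Cfsg.Geo.subfieldSubgroup F₀ P ⊓ (Cfsg.GU 4 F q ⊓ Cfsg.Geo.specialLinear (Fin 4) F)) ∨
    (∃ (F₀ : Subfield F) (P : Matrix.GeneralLinearGroup (Fin 4) F) (ζ : F), Fintype.card F = Nat.card F₀ ^ 2 ∧ ζ ≠ 0 ∧ ζ + ζ ^ q = 0 ∧ Cfsg.Geo.IsFormRationalStructure (Cfsg.hermForm 4 F q) F₀ ζ P ∧ (∀ u : Fin 4 → F, (∀ i, u i ∈ F₀) → (Cfsg.hermForm 4 F q) (Matrix.mulVec (P : Matrix (Fin 4) (Fin 4) F) u) (Matrix.mulVec (P : Matrix (Fin 4) (Fin 4) F) u) = 0) ∧ H = Cfsg.Geo.subfieldSubgroup F₀ P ⊓ (Cfsg.GU 4 F q ⊓ Cfsg.Geo.specialLinear (Fin 4) F)) ∨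
    (Odd q ∧ ∃ (F₀ : Subfield F) (P : Matrix.GeneralLinearGroup (Fin 4) F), Fintype.card F = Nat.card F₀ ^ 2 ∧ Cfsg.Geo.IsFormRationalStructure (Cfsg.hermForm 4 F q) F₀ 1 P ∧ H = Cfsg.Geo.subfieldSubgroup F₀ P ⊓ (Cfsg.GU 4 F q ⊓ Cfsg.Geo.specialLinear (Fin 4) F)) ∨
    (∃ (p : ℕ) (R : Subgroup (Matrix.GeneralLinearGroup (Fin 4) F)), p.Prime ∧ q = p ∧ p % 4 = 3 ∧ Cfsg.Geo.IsSymplecticTypeGroup 2 R ∧ Cfsg.Geo.ActsAbsolutelyIrreducibly (Cfsg.Geo.matrixSet R) ∧ R ≤ Cfsg.Geo.similarityGroup (Cfsg.hermForm 4 F q) ∧ Nat.card R = 64 ∧ Nat.card (Subgroup.center R) = 4 ∧ H = Cfsg.Geo.subgroupNormalizer R ⊓ (Cfsg.GU 4 F q ⊓ Cfsg.Geo.specialLinear (Fin 4) F)) ∨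
    Cfsg.Geo.InUnitaryResidualClass H := by
  have hn : 4 ≤ 4 := by norm_num
  have hsize := size_fixed (n := 4) hF (by norm_num) (by norm_num [Nat.factorial])
  rcases unitary_max hF hn hsize hH with ⟨W, h0, hts, heq⟩ | ⟨W, h0, hnd, hdim, heq⟩ |
    ⟨t, k, D, ht, hk, htk, hD, heq⟩ | ⟨k, D, hk, hD, hts, heq⟩ | ⟨r, K, hr, hodd, hrn, hK, hadj, heq⟩ |
    ⟨n₁, n₂, e, P, f₁, f₂, h1, h2, hprod, hf₁, hf₂, hT, heq⟩ |
    ⟨k, t, e, P, f₁, hk, ht, hpow, hex, hf₁, hT, hle⟩ | h | ⟨F₀, P, hodd, hcard, hP, heq⟩ |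
    ⟨F₀, P, ζ, hev, hcard, hζ, hζq, hP, halt, heq⟩ |
    ⟨r, k, p, R, hr, hnk, hp, hrp, hST, habs, hsim, htwo, hthree, heq⟩ | hres
  · exact .inl ⟨W, h0, hts, heq⟩
  · exact .inr (.inl ⟨W, h0, hnd, hdim, heq⟩)
  · have htle : t ≤ 4 := Nat.le_of_dvd (by norm_num) ⟨k, htk.symm⟩
    have lines : ∀ D' : Fin 4 → Submodule F (Fin 4 → F),
        Cfsg.Geo.IsNondegenerateMDecomposition (Cfsg.hermForm 4 F q) 1 D' →
        H = Cfsg.Geo.decompositionStabilizer D' ⊓ suG 4 F q → q ≠ 3 ∨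
          (∃ R : Subgroup (Matrix.GeneralLinearGroup (Fin 4) F), q = 3 ∧ Cfsg.Geo.IsSymplecticTypeGroup 2 R ∧
            Cfsg.Geo.ActsAbsolutelyIrreducibly (Cfsg.Geo.matrixSet R) ∧
            R ≤ Cfsg.Geo.similarityGroup (Cfsg.hermForm 4 F q) ∧ Nat.card R = 64 ∧
            Nat.card (Subgroup.center R) = 4 ∧ H = Cfsg.Geo.subgroupNormalizer R ⊓ suG 4 F q) := fun D' hD' heq' => by
      by_cases h3 : q = 3
      · subst h3
        obtain ⟨R, hST, habs, hsim, hcard, hz, heqR⟩ :=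
          lines_to_symType hF hH hD' (heq'.le.trans inf_le_left)
        exact .inr ⟨R, rfl, hST, habs, hsim, hcard, hz, heqR⟩
      · exact .inl h3
    interval_cases t <;> try omega
    · obtain rfl : k = 2 := by omega
      rcases planes_or_lines hF hn hsize hH hD (by norm_num) heq with h3 | ⟨D', hD', heq'⟩
      · exact .inr (.inr (.inr (.inl ⟨h3, D, hD, heq⟩)))
      · rcases lines D' hD' heq' with h | ⟨R, hq, hrest⟩
        · exact .inr (.inr (.inl ⟨h, D', hD', heq'⟩))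
        · exact .inr (.inr (.inr (.inr (.inr (.inr (.inr (.inr (.inl ⟨q, R, hq ▸ Nat.prime_three, rfl, by omega, hrest⟩))))))))
    · obtain rfl : k = 1 := by omega
      rcases lines D hD heq with h | ⟨R, hq, hrest⟩
      · exact .inr (.inr (.inl ⟨h, D, hD, heq⟩))
      · exact .inr (.inr (.inr (.inr (.inr (.inr (.inr (.inr (.inl ⟨q, R, hq ▸ Nat.prime_three, rfl, by omega, hrest⟩))))))))
  · obtain rfl : k = 2 := by omega
    by_cases h4 : 4 ≤ q
    · exact .inr (.inr (.inr (.inr (.inl ⟨h4, D, hD, hts, heq⟩))))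
    · have := q_cases hF
      exact .inr (.inr (.inr (.inr (.inr (.inr (.inl (pair_symp hF (by omega) hH hD hts (heq.le.trans inf_le_left))))))))
  · have := Nat.le_of_dvd (by norm_num) hrn
    have := hr.two_le
    interval_cases r <;> first
      | omega
      | exact absurd hodd (by decide)
      | exact absurd hr (by decide)
  · exfalso
    have := Nat.mul_le_mul h1 (show 3 ≤ n₂ by omega)
    omega
  · have := wreath_bound hk ht hpow
    omega
  · exact .inr (.inr (.inr (.inr (.inr (.inl h)))))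
  · exact .inr (.inr (.inr (.inr (.inr (.inr (.inr (.inl ⟨hodd, F₀, P, hcard, hP, heq⟩)))))))
  · exact .inr (.inr (.inr (.inr (.inr (.inr (.inl ⟨F₀, P, ζ, hcard, hζ, hζq, hP, halt, heq⟩))))))
  · have hk1 : 1 ≤ k := by
      by_contra h
      rw [show k = 0 by omega, pow_zero] at hnk
      omega
    obtain rfl : r = 2 := prime_base (k := 2) Nat.prime_two hr hk1 (by rw [← hnk]; norm_num)
    obtain rfl : k = 2 := Nat.pow_right_injective le_rfl (hnk.symm.trans (by norm_num : 4 = 2 ^ 2))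
    obtain ⟨hq, h4, hz, hc⟩ := htwo rfl
    exact .inr (.inr (.inr (.inr (.inr (.inr (.inr (.inr (.inl ⟨p, R, hp, hq, h4, hST, habs, hsim, hc, hz, heq⟩))))))))
  · exact .inr (.inr (.inr (.inr (.inr (.inr (.inr (.inr (.inr (hres)))))))))


end Cfsg.Agent.S5784
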