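import Cfsg.Statements.S5787
import Cfsg.Agent.Lib.Classical.AschSp.PairThree
import Cfsg.Agent.Lib.Classical.AschSp.Rows
import Cfsg.Agent.Lib.Classical.AschSp.Small

set_option autoImplicit false
open Cfsg

namespace Cfsg.Agent.S5787

/-- Every maximal subgroup of Sp_4(q), q odd, is of one of the listed geometric types or lies in the residual class. Let F be a finite field of odd order q, f the standard alternating form on F^4 (coordinates Fin 2 ⊕ Fin 2), and H a maximal subgroup of the isometry group Sp_4(F) (inside GL_4(F)). Then H is the intersection with Sp_4(F) of one of: the stabiliser of a non-zero totally isotropic subspace; the stabiliser of a decomposition into two orthogonal non-degenerate 2-spaces; for q ≥ 5, of a decomposition into two totally isotropic 2-spaces; the normaliser of a degree-2 subfield K of the matrix algebra, self-adjoint with f(k v, v) = 0; for q ≥ 5, the normaliser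 of a degree-2 subfield closed under adjoints but not self-adjoint; a subfield group whose F₀-structure carries a non-zero multiple of f, |F| = |F₀|^r with r prime; for q = p prime, the normaliser of an absolutely irreducible symplectic-type 2-group of exponent 4, order 32, centre of order 2 and minus type inside the similarity group of f — or else H lies in the residual class of the symplectic case. -/
theorem result {F : Type*} [Field F] [Fintype F] (hodd : Odd (Fintype.card F)) (H : Subgroup (Matrix.GeneralLinearGroup (Fin 2 ⊕ Fin 2) F)) (hH : Cfsg.Geo.IsMaximalIn (Cfsg.spGL 2 F) H) :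
    (∃ W : Submodule F (Fin 2 ⊕ Fin 2 → F), W ≠ ⊥ ∧ Cfsg.Geo.IsTotallySingularFor (Cfsg.sympForm 2 F) W ∧ H = Cfsg.Geo.subspaceStabilizer W ⊓ Cfsg.spGL 2 F) ∨
    (∃ D : Fin 2 → Submodule F (Fin 2 ⊕ Fin 2 → F), Cfsg.Geo.IsNondegenerateMDecomposition (Cfsg.sympForm 2 F) 2 D ∧ H = Cfsg.Geo.decompositionStabilizer D ⊓ Cfsg.spGL 2 F) ∨
    (5 ≤ Fintype.card F ∧ ∃ D : Fin 2 → Submodule F (Fin 2 ⊕ Fin 2 → F), Cfsg.Geo.IsMDecomposition 2 D ∧ (∀ i, Cfsg.Geo.IsTotallySingularFor (Cfsg.sympForm 2 F) (D i)) ∧ H = Cfsg.Geo.decompositionStabilizer D ⊓ Cfsg.spGL 2 F) ∨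
    (∃ K : Subalgebra F (Matrix (Fin 2 ⊕ Fin 2) (Fin 2 ⊕ Fin 2) F), Cfsg.Geo.IsFieldSubalgebra 2 K ∧ Cfsg.Geo.IsSelfAdjointFor (Cfsg.sympForm 2 F) K ∧ (∀ k ∈ K, ∀ v : (Fin 2 ⊕ Fin 2 → F), (Cfsg.sympForm 2 F) (Matrix.mulVec k v) v = 0) ∧ H = Cfsg.Geo.subalgebraNormalizer K ⊓ Cfsg.spGL 2 F) ∨
    (5 ≤ Fintype.card F ∧ ∃ K : Subalgebra F (Matrix (Fin 2 ⊕ Fin 2) (Fin 2 ⊕ Fin 2) F), Cfsg.Geo.IsFieldSubalgebra 2 K ∧ Cfsg.Geo.IsAdjointClosedFor (Cfsg.sympForm 2 F) K ∧ ¬ Cfsg.Geo.IsSelfAdjointFor (Cfsg.sympForm 2 F) K ∧ H = Cfsg.Geo.subalgebraNormalizer K ⊓ Cfsg.spGL 2 F) ∨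
    (∃ (F₀ : Subfield F) (r : ℕ) (P : Matrix.GeneralLinearGroup (Fin 2 ⊕ Fin 2) F) (ζ : F), r.Prime ∧ Fintype.card F = Nat.card F₀ ^ r ∧ ζ ≠ 0 ∧ Cfsg.Geo.IsFormRationalStructure (Cfsg.sympForm 2 F) F₀ ζ P ∧ H = Cfsg.Geo.subfieldSubgroup F₀ P ⊓ Cfsg.spGL 2 F) ∨
    (∃ (p : ℕ) (R : Subgroup (Matrix.GeneralLinearGroup (Fin 2 ⊕ Fin 2) F)), p.Prime ∧ Fintype.card F = p ∧ Cfsg.Geo.IsSymplecticTypeGroup 2 R ∧ Cfsg.Geo.ActsAbsolutelyIrreducibly (Cfsg.Geo.matrixSet R) ∧ R ≤ Cfsg.Geo.similarityGroup (Cfsg.sympForm 2 F) ∧ Nat.card R = 32 ∧ Nat.card (Subgroup.center R) = 2 ∧ Cfsg.Geo.IsOfMinusType 2 R ∧ H = Cfsg.Geo.subgroupNormalizer R ⊓ Cfsg.spGL 2 F) ∨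
    Cfsg.Geo.InSymplecticResidualClass H := by
  classical
  have hf := CfsgLib.Classical.AschSp.sympForm_symplectic (F := F) 2
  rcases CfsgLib.Classical.AschSp.sp_le (d := 4) (by simp) hf (by omega) hH.1.le with
    ⟨W, h0, hts, hl⟩ | ⟨W, h0, hnd, hlt, hl⟩ | ⟨t, k, D, hk, hk2, ht, htk, hq3, hD, hl⟩ |
    ⟨-, k, D, hk, hD, hts, hl⟩ | ⟨r, K, hr, hdvd, hK, hsa, halt, hl⟩ | ⟨-, K, hK, hac, hnsa, hl⟩ |
    ⟨-, n₁, n₂, e, P, f₁, f₂, h1, -, h2, hprod, -⟩ |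
    ⟨F₀, r, P, ζ, hr, hc, hζ, hrs, hl⟩ | ⟨ho, -⟩ |
    ⟨R, p, k, hdk, hsym, habs, hRs, hp, hpo, hq, hcard, hcen, hmin, hl⟩ |
    ⟨k, t, e, P, f₁, -, hto, ht, hk, hkt, -⟩ | hres
  · exact .inl ⟨W, h0, hts, hl.eq hH⟩
  · exact absurd hlt fun hlt => CfsgLib.Classical.AschSp.no_nondeg_line hf h0 hnd (by omega)
  · obtain ⟨htd, rfl⟩ := CfsgLib.Classical.AschSp.factor_cases (by omega) htk
    obtain rfl : t = 2 := by fin_cases htd <;> simp_all +decide [Nat.even_iff]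
    exact .inr (.inl ⟨D, hD, hl.eq hH⟩)
  · obtain rfl : k = 2 := by omega
    by_cases h5 : 5 ≤ Fintype.card F
    · exact .inr (.inr (.inl ⟨h5, D, hD, hts, hl.eq hH⟩))
    have hq : Fintype.card F = 3 := by
      have := Fintype.one_lt_card (α := F)
      obtain ⟨c, hc⟩ := hodd
      omega
    obtain ⟨D', hD', hle'⟩ := CfsgLib.Classical.AschSp.nd_of_ts_pair hf hq hD hts hH.1.le hl.1
    exact .inr (.inl ⟨D', hD', CfsgLib.Classical.AschSp.LiesIn.eq ⟨hle',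
      CfsgLib.Classical.AschSp.not_le_decomp_of (Fintype.equivFinOfCardEq (n := 4) (by simp)) hf
        hD'.decomp le_rfl⟩ hH⟩)
  · obtain rfl : r = 2 := by
      have := Nat.le_of_dvd (by omega) hdvd
      have := hr.two_le
      omega
    exact .inr (.inr (.inr (.inl ⟨K, hK, hsa, halt, hl.eq hH⟩)))
  · by_cases h5 : 5 ≤ Fintype.card F
    · exact .inr (.inr (.inr (.inr (.inl ⟨h5, K, hK, hac, hnsa, hl.eq hH⟩))))
    have hq : Fintype.card F = 3 := by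
      have := Fintype.one_lt_card (α := F)
      obtain ⟨c, hc⟩ := hodd
      omega
    obtain ⟨R, hsym, habs, hRs, hcard, hcen, hmin, hl'⟩ := CfsgLib.Classical.AschSp.field_symType_back
      (Fintype.equivFinOfCardEq (n := 4) (by simp)) rfl hf hq hK hac hnsa hH.1.le hl.1
    exact .inr (.inr (.inr (.inr (.inr (.inr (.inl ⟨3, R, Nat.prime_three, hq, hsym, habs, hRs, hcard,
      hcen, hmin, hl'.eq hH⟩))))))
  · exfalso
    have := Nat.mul_le_mul h1 h2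
    omega
  · exact .inr (.inr (.inr (.inr (.inr (.inl ⟨F₀, r, P, ζ, hr, hc, hζ, hrs, hl.eq hH⟩)))))
  · exact absurd hodd ho
  · obtain rfl : k = 2 := Nat.pow_right_injective le_rfl (show 2 ^ k = 2 ^ 2 by rw [← hdk])
    exact .inr (.inr (.inr (.inr (.inr (.inr (.inl ⟨p, R, hp, hq, hsym, habs, hRs, by rw [hcard]; rfl,
      hcen, hmin, hl.eq hH⟩))))))
  · exfalso
    have h1 : k ^ 3 ≤ k ^ t := Nat.pow_le_pow_right (by omega) ht
    have h2 : 2 ^ 3 ≤ k ^ 3 := Nat.pow_le_pow_left hk 3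
    omega
  · exact .inr (.inr (.inr (.inr (.inr (.inr (.inr hres))))))

end Cfsg.Agent.S5787
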