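import Cfsg.Statements.S5796
import Cfsg.Agent.Lib.Classical.AschPrime.FiveTwo
-- import your own Cfsg.Agent.* helpers here

set_option autoImplicit false
open Cfsg

namespace Cfsg.Agent.S5796

/-- Every maximal subgroup of SU_5(q) is of one of the listed geometric types or lies in the residual class. Let F be the field with q² elements (characteristic p), f the standard unitary form Σ u_i v_i^q on F^5, and H a maximal subgroup of SU_5(q) (inside GL_5(F)). Then H is the intersection with SU_5(q) of one of: the stabiliser of a non-zero totally isotropic subspace; the stabiliser of a non-degenerate 1-space or 2-space; the stabiliser of a decomposition into five mutually orthogonal non-degenerate 1-spaces; for q ≥ 3, the normaliser of an adjoint-closed degree-5 subfield of the matrix algebra; a subfield group of odd prime index whose F₀-structure carries f; for q odd, a subfield group of index 2 whose F₀-structure carries f; for q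 = p ≡ 4 mod 5 or q = p² with p ≡ 2, 3 mod 5, the normaliser of an absolutely irreducible 5-group of exponent 5, order 125 and centre of order 5 with all characteristic abelian subgroups cyclic inside the similarity group of f — or else H lies in the residual class of the unitary case. -/
theorem result {F : Type*} [Field F] [Fintype F] (q : ℕ) (hF : Fintype.card F = q ^ 2) (H : Subgroup (Matrix.GeneralLinearGroup (Fin 5) F)) (hH : Cfsg.Geo.IsMaximalIn (Cfsg.GU 5 F q ⊓ Cfsg.Geo.specialLinear (Fin 5) F) H) :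
    (∃ W : Submodule F (Fin 5 → F), W ≠ ⊥ ∧ Cfsg.Geo.IsTotallySingularFor (Cfsg.hermForm 5 F q) W ∧ H = Cfsg.Geo.subspaceStabilizer W ⊓ (Cfsg.GU 5 F q ⊓ Cfsg.Geo.specialLinear (Fin 5) F)) ∨
    (∃ W : Submodule F (Fin 5 → F), W ≠ ⊥ ∧ Cfsg.Geo.IsNondegenerateOn (Cfsg.hermForm 5 F q) W ∧ 2 * Module.finrank F W < 5 ∧ H = Cfsg.Geo.subspaceStabilizer W ⊓ (Cfsg.GU 5 F q ⊓ Cfsg.Geo.specialLinear (Fin 5) F)) ∨
    (∃ D : Fin 5 → Submodule F (Fin 5 → F), Cfsg.Geo.IsNondegenerateMDecomposition (Cfsg.hermForm 5 F q) 1 D ∧ H = Cfsg.Geo.decompositionStabilizer D ⊓ (Cfsg.GU 5 F q ⊓ Cfsg.Geo.specialLinear (Fin 5) F)) ∨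
    (3 ≤ q ∧ ∃ K : Subalgebra F (Matrix (Fin 5) (Fin 5) F), Cfsg.Geo.IsFieldSubalgebra 5 K ∧ Cfsg.Geo.IsAdjointClosedFor (Cfsg.hermForm 5 F q) K ∧ H = Cfsg.Geo.subalgebraNormalizer K ⊓ (Cfsg.GU 5 F q ⊓ Cfsg.Geo.specialLinear (Fin 5) F)) ∨
    (∃ (F₀ : Subfield F) (r : ℕ) (P : Matrix.GeneralLinearGroup (Fin 5) F), r.Prime ∧ Odd r ∧ Fintype.card F = Nat.card F₀ ^ r ∧ Cfsg.Geo.IsFormRationalStructure (Cfsg.hermForm 5 F q) F₀ 1 P ∧ H = Cfsg.Geo.subfieldSubgroup F₀ P ⊓ (Cfsg.GU 5 F q ⊓ Cfsg.Geo.specialLinear (Fin 5) F)) ∨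
    (Odd q ∧ ∃ (F₀ : Subfield F) (P : Matrix.GeneralLinearGroup (Fin 5) F), Fintype.card F = Nat.card F₀ ^ 2 ∧ Cfsg.Geo.IsFormRationalStructure (Cfsg.hermForm 5 F q) F₀ 1 P ∧ H = Cfsg.Geo.subfieldSubgroup F₀ P ⊓ (Cfsg.GU 5 F q ⊓ Cfsg.Geo.specialLinear (Fin 5) F)) ∨
    (∃ (p : ℕ) (R : Subgroup (Matrix.GeneralLinearGroup (Fin 5) F)), p.Prime ∧ CharP F p ∧ ((q = p ∧ p % 5 = 4) ∨ (q = p ^ 2 ∧ (p % 5 = 2 ∨ p % 5 = 3))) ∧ Cfsg.Geo.IsSymplecticTypeGroup 5 R ∧ Cfsg.Geo.ActsAbsolutelyIrreducibly (Cfsg.Geo.matrixSet R) ∧ R ≤ Cfsg.Geo.similarityGroup (Cfsg.hermForm 5 F q) ∧ Nat.card R = 125 ∧ Nat.card (Subgroup.center R) = 5 ∧ H = Cfsg.Geo.subgroupNormalizer R ⊓ (Cfsg.GU 5 F q ⊓ Cfsg.Geo.specialLinear (Fin 5) F)) ∨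
    Cfsg.Geo.InUnitaryResidualClass H := by
  have hq := CfsgLib.Classical.two_le_of_card_sq hF
  have hsize : Nat.factorial 5 * 5 < q ^ (5 * (5 - 1) / 2) :=
    lt_of_lt_of_le (by decide : Nat.factorial 5 * 5 < 2 ^ (5 * (5 - 1) / 2))
      (Nat.pow_le_pow_left hq _)
  rcases CfsgLib.Classical.AschPrime.unitary_maximal (n := 5) hF (by norm_num) (by norm_num)
      (.inr (by norm_num)) hsize hH with h | h | h | h | h | h |
    ⟨p, k, R, hp, hc, hqk, hk, hkn, hnd, hmin, hsymp, habs, hRG, hcardR, hcen, hR⟩ | h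
  · exact .inl h
  · exact .inr (.inl h)
  · exact .inr (.inr (.inl h))
  · refine .inr (.inr (.inr (.inl ⟨?_, h⟩)))
    by_contra h3
    obtain rfl : q = 2 := by omega
    obtain ⟨K, hK, hadj, hHK⟩ := h
    exact CfsgLib.Classical.AschPrime.FiveTwo.field_not_maximal (by rw [hF]; norm_num) hH hK hadj
      (hHK.le.trans inf_le_left)
  · exact .inr (.inr (.inr (.inr (.inl h))))
  · exact .inr (.inr (.inr (.inr (.inr (.inl h)))))
  · refine .inr (.inr (.inr (.inr (.inr (.inr (.inl ⟨p, R, hp, hc, ?_, hsymp, habs, hRG.trans fun g hg => ⟨1, fun u v => by rw [Units.val_one, one_mul]; exact hg u v⟩,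
      hcardR.trans (by norm_num), hcen, hR⟩))))))
    have hcases : k = 1 ∨ k = 2 := by
      have := Nat.le_of_dvd (by norm_num) hkn
      omega
    have h2 : p % 5 < 5 := Nat.mod_lt _ (by norm_num)
    have hconv : ∀ d : ℕ, 5 ∣ p ^ d - 1 ↔ (p % 5) ^ d % 5 = 1 := by
      intro d
      have := Nat.one_le_pow d p hp.pos
      rw [← Nat.pow_mod]
      omega
    rcases hcases with rfl | rfl
    · rw [pow_one] at hqk
      refine .inl ⟨hqk, ?_⟩
      have h3 := (hconv 2).mp hnd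
      have h4 : ¬ (p % 5) ^ 1 % 5 = 1 := fun h => hmin 1 (by norm_num) (by norm_num) ((hconv 1).mpr h)
      generalize p % 5 = r at h2 h3 h4 ⊢
      interval_cases r <;> simp_all
    · refine .inr ⟨hqk, ?_⟩
      have h3 := (hconv (2 * 2)).mp hnd
      have h4 : ¬ (p % 5) ^ 1 % 5 = 1 := fun h => hmin 1 (by norm_num) (by norm_num) ((hconv 1).mpr h)
      have h5 : ¬ (p % 5) ^ 2 % 5 = 1 := fun h => hmin 2 (by norm_num) (by norm_num) ((hconv 2).mpr h)
      generalize p % 5 = r at h2 h3 h4 h5 ⊢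
      interval_cases r <;> simp_all
  · exact .inr (.inr (.inr (.inr (.inr (.inr (.inr h))))))

end Cfsg.Agent.S5796
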