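import Cfsg.Statements.S5802
import Cfsg.Agent.Lib.Classical.AschForm.UnitaryRows
import Cfsg.Agent.Lib.Classical.AschForm.UnitaryLinesSix

set_option autoImplicit false
open Cfsg

namespace Cfsg.Agent.S5802

open CfsgLib.Classical.AschForm CfsgLib.Classical.AschGen CfsgLib.Classical.AschPrime

/-- Every maximal subgroup of SU_6(q) is of one of the listed geometric types or lies in the residual class. Let F be the field with q² elements, f the standard unitary form Σ u_i v_i^q on F^6, and H a maximal subgroup of SU_6(q) (inside GL_6(F)). Then H is the intersection with SU_6(q) of one of: the stabiliser of a non-zero totally isotropic subspace; the stabiliser of a non-degenerate 1- or 2-space; for q ≥ 3, the stabiliser of a decomposition into six mutually orthogonal non-degenerate 1-spaces; for q ≥ 3, of a decomposition into three mutually orthogonal non-degenerate 2-spaces; of a decomposition into two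 orthogonal non-degenerate 3-spaces; of a decomposition into two totally isotropic 3-spaces; for q ≥ 3, the normaliser of an adjoint-closed degree-3 subfield of the matrix algebra; for q ≥ 3, the stabiliser of a tensor decomposition of f into unitary forms on F^2 and F^3; a subfield group of odd prime index whose F₀-structure carries f; a subfield group of index 2 and symplectic type; for q odd, a subfield group of index 2 and orthogonal type — or else H lies in the residual class of the unitary case. -/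
theorem result {F : Type*} [Field F] [Fintype F] (q : ℕ) (hF : Fintype.card F = q ^ 2) (H : Subgroup (Matrix.GeneralLinearGroup (Fin 6) F)) (hH : Cfsg.Geo.IsMaximalIn (Cfsg.GU 6 F q ⊓ Cfsg.Geo.specialLinear (Fin 6) F) H) :
    (∃ W : Submodule F (Fin 6 → F), W ≠ ⊥ ∧ Cfsg.Geo.IsTotallySingularFor (Cfsg.hermForm 6 F q) W ∧ H = Cfsg.Geo.subspaceStabilizer W ⊓ (Cfsg.GU 6 F q ⊓ Cfsg.Geo.specialLinear (Fin 6) F)) ∨
    (∃ W : Submodule F (Fin 6 → F), W ≠ ⊥ ∧ Cfsg.Geo.IsNondegenerateOn (Cfsg.hermForm 6 F q) W ∧ 2 * Module.finrank F W < 6 ∧ H = Cfsg.Geo.subspaceStabilizer W ⊓ (Cfsg.GU 6 F q ⊓ Cfsg.Geo.specialLinear (Fin 6) F)) ∨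
    (3 ≤ q ∧ ∃ D : Fin 6 → Submodule F (Fin 6 → F), Cfsg.Geo.IsNondegenerateMDecomposition (Cfsg.hermForm 6 F q) 1 D ∧ H = Cfsg.Geo.decompositionStabilizer D ⊓ (Cfsg.GU 6 F q ⊓ Cfsg.Geo.specialLinear (Fin 6) F)) ∨
    (3 ≤ q ∧ ∃ D : Fin 3 → Submodule F (Fin 6 → F), Cfsg.Geo.IsNondegenerateMDecomposition (Cfsg.hermForm 6 F q) 2 D ∧ H = Cfsg.Geo.decompositionStabilizer D ⊓ (Cfsg.GU 6 F q ⊓ Cfsg.Geo.specialLinear (Fin 6) F)) ∨
    (∃ D : Fin 2 → Submodule F (Fin 6 → F), Cfsg.Geo.IsNondegenerateMDecomposition (Cfsg.hermForm 6 F q) 3 D ∧ H = Cfsg.Geo.decompositionStabilizer D ⊓ (Cfsg.GU 6 F q ⊓ Cfsg.Geo.specialLinear (Fin 6) F)) ∨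
    (∃ D : Fin 2 → Submodule F (Fin 6 → F), Cfsg.Geo.IsMDecomposition 3 D ∧ (∀ i, Cfsg.Geo.IsTotallySingularFor (Cfsg.hermForm 6 F q) (D i)) ∧ H = Cfsg.Geo.decompositionStabilizer D ⊓ (Cfsg.GU 6 F q ⊓ Cfsg.Geo.specialLinear (Fin 6) F)) ∨
    (3 ≤ q ∧ ∃ K : Subalgebra F (Matrix (Fin 6) (Fin 6) F), Cfsg.Geo.IsFieldSubalgebra 3 K ∧ Cfsg.Geo.IsAdjointClosedFor (Cfsg.hermForm 6 F q) K ∧ H = Cfsg.Geo.subalgebraNormalizer K ⊓ (Cfsg.GU 6 F q ⊓ Cfsg.Geo.specialLinear (Fin 6) F)) ∨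
    (3 ≤ q ∧ ∃ (e : Fin 6 ≃ Fin 2 × Fin 3) (P : Matrix.GeneralLinearGroup (Fin 6) F) (f₁ : (Fin 2 → F) → (Fin 2 → F) → F) (f₂ : (Fin 3 → F) → (Fin 3 → F) → F), Cfsg.Geo.IsUnitaryFormPow q f₁ ∧ Cfsg.Geo.IsUnitaryFormPow q f₂ ∧ Cfsg.Geo.IsTensorFormStructure (fun x : F => x ^ q) (Cfsg.hermForm 6 F q) f₁ f₂ e P ∧ H = Cfsg.Geo.tensorProductSubgroup 2 3 e P ⊓ (Cfsg.GU 6 F q ⊓ Cfsg.Geo.specialLinear (Fin 6) F)) ∨
    (∃ (F₀ : Subfield F) (r : ℕ) (P : Matrix.GeneralLinearGroup (Fin 6) F), r.Prime ∧ Odd r ∧ Fintype.card F = Nat.card F₀ ^ r ∧ Cfsg.Geo.IsFormRationalStructure (Cfsg.hermForm 6 F q) F₀ 1 P ∧ H = Cfsg.Geo.subfieldSubgroup F₀ P ⊓ (Cfsg.GU 6 F q ⊓ Cfsg.Geo.specialLinear (Fin 6) F)) ∨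
    (∃ (F₀ : Subfield F) (P : Matrix.GeneralLinearGroup (Fin 6) F) (ζ : F), Fintype.card F = Nat.card F₀ ^ 2 ∧ ζ ≠ 0 ∧ ζ + ζ ^ q = 0 ∧ Cfsg.Geo.IsFormRationalStructure (Cfsg.hermForm 6 F q) F₀ ζ P ∧ (∀ u : Fin 6 → F, (∀ i, u i ∈ F₀) → (Cfsg.hermForm 6 F q) (Matrix.mulVec (P : Matrix (Fin 6) (Fin 6) F) u) (Matrix.mulVec (P : Matrix (Fin 6) (Fin 6) F) u) = 0) ∧ H = Cfsg.Geo.subfieldSubgroup F₀ P ⊓ (Cfsg.GU 6 F q ⊓ Cfsg.Geo.specialLinear (Fin 6) F)) ∨
    (Odd q ∧ ∃ (F₀ : Subfield F) (P : Matrix.GeneralLinearGroup (Fin 6) F), Fintype.card F = Nat.card F₀ ^ 2 ∧ Cfsg.Geo.IsFormRationalStructure (Cfsg.hermForm 6 F q) F₀ 1 P ∧ H = Cfsg.Geo.subfieldSubgroup F₀ P ⊓ (Cfsg.GU 6 F q ⊓ Cfsg.Geo.specialLinear (Fin 6) F)) ∨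
    Cfsg.Geo.InUnitaryResidualClass H := by
  have hn : 4 ≤ 6 := by norm_num
  have hsize := size_fixed (n := 6) hF (by norm_num) (by norm_num [Nat.factorial])
  rcases unitary_max hF hn hsize hH with ⟨W, h0, hts, heq⟩ | ⟨W, h0, hnd, hdim, heq⟩ |
    ⟨t, k, D, ht, hk, htk, hD, heq⟩ | ⟨k, D, hk, hD, hts, heq⟩ | ⟨r, K, hr, hodd, hrn, hK, hadj, heq⟩ |
    ⟨n₁, n₂, e, P, f₁, f₂, h1, h2, hprod, hf₁, hf₂, hT, heq⟩ |
    ⟨k, t, e, P, f₁, hk, ht, hpow, hex, hf₁, hT, hle⟩ | h | ⟨F₀, P, hodd, hcard, hP, heq⟩ |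
    ⟨F₀, P, ζ, hev, hcard, hζ, hζq, hP, halt, heq⟩ |
    ⟨r, k, p, R, hr, hnk, hp, hrp, hST, habs, hsim, htwo, hthree, heq⟩ | hres
  · exact .inl ⟨W, h0, hts, heq⟩
  · exact .inr (.inl ⟨W, h0, hnd, hdim, heq⟩)
  · have htle : t ≤ 6 := Nat.le_of_dvd (by norm_num) ⟨k, htk.symm⟩
    have lines : ∀ D' : Fin 6 → Submodule F (Fin 6 → F),
        Cfsg.Geo.IsNondegenerateMDecomposition (Cfsg.hermForm 6 F q) 1 D' →
        H = Cfsg.Geo.decompositionStabilizer D' ⊓ suG 6 F q → 3 ≤ q := fun D' hD' heq' => by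
      rcases q_cases hF with h | rfl
      · exact h
      · exact (lines_not_maximal hF hH hD' (heq'.le.trans inf_le_left)).elim
    interval_cases t <;> try omega
    · obtain rfl : k = 3 := by omega
      exact .inr (.inr (.inr (.inr (.inl ⟨D, hD, heq⟩))))
    · obtain rfl : k = 2 := by omega
      rcases planes_or_lines hF hn hsize hH hD (by norm_num) heq with h3 | ⟨D', hD', heq'⟩
      · exact .inr (.inr (.inr (.inl ⟨h3, D, hD, heq⟩)))
      · exact .inr (.inr (.inl ⟨lines D' hD' heq', D', hD', heq'⟩))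
    · obtain rfl : k = 1 := by omega
      exact .inr (.inr (.inl ⟨lines D hD heq, D, hD, heq⟩))
  · obtain rfl : k = 3 := by omega
    exact .inr (.inr (.inr (.inr (.inr (.inl ⟨D, hD, hts, heq⟩)))))
  · have := Nat.le_of_dvd (by norm_num) hrn
    have := hr.two_le
    interval_cases r <;> first
      | (rcases q_cases hF with h3 | rfl
         · exact .inr (.inr (.inr (.inr (.inr (.inr (.inl ⟨h3, K, hK, hadj, heq⟩))))))
         · exact .inr (.inr (.inr (.inr (.inr (.inr (.inr (.inr (.inr (.inl (field_symp hF hH hK hadj (heq.le.trans inf_le_left))))))))))))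
      | omega
      | exact absurd hodd (by decide)
      | exact absurd hr (by decide)
  · obtain ⟨rfl, rfl⟩ := factor_unique (a := 3) hprod h1 h2 (by norm_num) rfl
    rcases tensor_or_blocks hF hn hsize hH (by norm_num) hf₁ hf₂ hT heq with h3 | h
    · exact .inr (.inr (.inr (.inr (.inr (.inr (.inr (.inl ⟨h3, e, P, f₁, f₂, hf₁, hf₂, hT, heq⟩)))))))
    · exact .inr (.inr (.inr (.inr (.inl h))))
  · have := wreath_bound hk ht hpow
    omega
  · exact .inr (.inr (.inr (.inr (.inr (.inr (.inr (.inr (.inl h))))))))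
  · exact .inr (.inr (.inr (.inr (.inr (.inr (.inr (.inr (.inr (.inr (.inl ⟨hodd, F₀, P, hcard, hP, heq⟩))))))))))
  · exact .inr (.inr (.inr (.inr (.inr (.inr (.inr (.inr (.inr (.inl ⟨F₀, P, ζ, hcard, hζ, hζq, hP, halt, heq⟩)))))))))
  · exact (not_prime_pow hr hnk Nat.prime_two Nat.prime_three (by norm_num) (by norm_num) (by norm_num)).elim
  · exact .inr (.inr (.inr (.inr (.inr (.inr (.inr (.inr (.inr (.inr (.inr (hres)))))))))))


end Cfsg.Agent.S5802
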