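import Cfsg.Statements.S5804
import Cfsg.Agent.Lib.Classical.SympMax
import Cfsg.Agent.Lib.Classical.SympPairThree
import Cfsg.Agent.Lib.Classical.SpFourEven.Matrix
import Cfsg.Agent.Lib.Classical.UnitarySubSympMatrix
import Cfsg.Agent.Lib.Classical.FieldExtSymp.Matrix
import Cfsg.Agent.Lib.Classical.SpTensorSix.Matrix
import Cfsg.Agent.Lib.KnownC.OrthTools
-- import your own Cfsg.Agent.* helpers here

set_option autoImplicit false
open Cfsg

namespace Cfsg.Agent.S5804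

theorem nondeg_part {F : Type*} [Field F] [Fintype F] (m : ℕ) (W : Submodule F (Fin m ⊕ Fin m → F)) (hW0 : W ≠ ⊥) (hW : Cfsg.Geo.IsNondegenerateOn (Cfsg.sympForm m F) W) (hdim : Module.finrank F W < m) : Cfsg.Geo.IsMaximalIn (Cfsg.spGL m F) (Cfsg.Geo.subspaceStabilizer W ⊓ Cfsg.spGL m F) := by
  have hN : CfsgLib.Classical.NondegOn (CfsgLib.Classical.sympBil F m) W := by
    rw [CfsgLib.Classical.nondegOn_iff]
    intro x hx hx'
    by_contra hne
    obtain ⟨y, hy, hyx⟩ := (hW x hx hne).1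
    exact hyx (by rw [← CfsgLib.Classical.sympBil_apply]; exact hx' y hy)
  have hfr : Module.finrank F (Fin m ⊕ Fin m → F) = 2 * m := by simp [two_mul]
  refine CfsgLib.Classical.spGL_isMaximalIn m W hW0 ?_ fun M hM g hg hgW =>
    CfsgLib.Classical.top_of_stab_nondeg (CfsgLib.Classical.sympBil_isAlt m)
      (CfsgLib.Classical.sympBil_nondegenerate m) hN (by omega) hM hg hgW
  rintro rfl
  rw [finrank_top] at hdim
  omega

theorem pair_part {F : Type*} [Field F] [Fintype F] (m : ℕ) (hm : 3 ≤ m) (hodd : Odd (Fintype.card F)) (D : Fin 2 → Submodule F (Fin m ⊕ Fin m → F)) (hD : Cfsg.Geo.IsMDecomposition m D) (hts : ∀ i, Cfsg.Geo.IsTotallySingularFor (Cfsg.sympForm m F) (D i)) : Cfsg.Geo.IsMaximalIn (Cfsg.spGL m F) (Cfsg.Geo.decompositionStabilizer D ⊓ Cfsg.spGL m F) := by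
  classical
  let B := CfsgLib.Classical.sympBil F m
  have hA := CfsgLib.Classical.sympBil_isAlt (F := F) m
  have hN := CfsgLib.Classical.sympBil_nondegenerate (F := F) m
  have h2 : (2 : F) ≠ 0 := CfsgLib.KnownC.OrthTools.two_ne_zero_of_odd rfl hodd
  have h : CfsgLib.Classical.IsEpsForm B (1 : F) :=
    ⟨fun a => rfl, one_mul 1, rfl, fun x y => by rw [RingHom.id_apply, one_mul]; exact CfsgLib.Classical.alt_swap hA y x, hN.2,
      ⟨1, by simpa [one_add_one_eq_two] using h2⟩, ⟨1, one_ne_zero, by simp⟩⟩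
  have hP : CfsgLib.Classical.IsoPair B (D 0) (D 1) :=
    ⟨fun x hx y hy => by rw [CfsgLib.Classical.sympBil_apply]; exact hts 0 x hx y hy,
      fun x hx y hy => by rw [CfsgLib.Classical.sympBil_apply]; exact hts 1 x hx y hy,
      eq_top_iff.2 (hD.iSup_eq_top ▸ iSup_le (Fin.forall_fin_two.2 ⟨le_sup_left, le_sup_right⟩)),
      disjoint_iff.1 (hD.indep.pairwiseDisjoint (by decide : (0 : Fin 2) ≠ 1)),
      (hD.finrank_eq 0).trans (hD.finrank_eq 1).symm⟩
  have hS : ∀ (g : CfsgLib.Classical.isomGroup B) a b c, CfsgLib.Classical.IsRt (1 : F) g a b c → B b b = 0 →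
      g ∈ (⊤ : Subgroup (CfsgLib.Classical.isomGroup B)) := fun g _ _ _ _ _ => Subgroup.mem_top g
  have hk : 3 ≤ Module.finrank F (D 0) := by rw [hD.finrank_eq]; omega
  let e := ((CfsgLib.Classical.spEquiv (F := F) m).symm.trans (CfsgLib.Classical.spGLEquiv m))
  let ψ : CfsgLib.Classical.isomGroup B →* Matrix.GeneralLinearGroup (Fin m ⊕ Fin m) F :=
    (Cfsg.spGL m F).subtype.comp e.toMonoidHom
  have hψ : ∀ g, Matrix.toLin' (ψ g : Matrix (Fin m ⊕ Fin m) (Fin m ⊕ Fin m) F) = g.1.toLinearMap := fun g =>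
    LinearMap.ext fun x => by
      rw [Matrix.toLin'_apply]
      change ((CfsgLib.Classical.spEquiv (F := F) m).symm g).1.mulVec x = g.1 x
      rw [← CfsgLib.Classical.spEquiv_apply, MulEquiv.apply_symm_apply]
  have hψs : ∀ t ∈ Cfsg.spGL m F, ∃ g, ψ g = t := fun t ht => ⟨e.symm ⟨t, ht⟩, by
    simp only [ψ, MonoidHom.coe_comp, Function.comp_apply, MulEquiv.coe_toMonoidHom, MulEquiv.apply_symm_apply,
      Subgroup.coe_subtype]⟩
  have hiff : ∀ g : CfsgLib.Classical.isomGroup B, ψ g ∈ Cfsg.Geo.decompositionStabilizer D ↔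
      (((D 0).map g.1.toLinearMap = D 0 ∧ (D 1).map g.1.toLinearMap = D 1) ∨
        ((D 0).map g.1.toLinearMap = D 1 ∧ (D 1).map g.1.toLinearMap = D 0)) := fun g => by
    change (∃ σ : Equiv.Perm (Fin 2), ∀ i,
      (D i).map (Matrix.toLin' (ψ g : Matrix (Fin m ⊕ Fin m) (Fin m ⊕ Fin m) F)) = D (σ i)) ↔ _
    rw [hψ]
    exact CfsgLib.Classical.perm_two_iff D g.1.toLinearMap hP.inf
  refine ⟨lt_of_le_not_ge inf_le_right fun hle => ?_, fun M hM hMS => ?_⟩
  · obtain ⟨g, -, hg⟩ := h.exists_not_perm hP (by omega) hS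
    exact hg ((hiff g).1 (hle (Subtype.prop (e g))).1)
  · by_cases hMQ : M ≤ Cfsg.Geo.decompositionStabilizer D
    · exact Or.inl (le_antisymm (le_inf hMQ hMS) hM)
    obtain ⟨s, hs, hsD⟩ := SetLike.not_le_iff_exists.1 hMQ
    obtain ⟨g, rfl⟩ := hψs s (hMS hs)
    have hax := CfsgLib.Classical.IsoPair.pair_axes_three hP h hA h2 hk (M := M.comap ψ)
      (fun t ht => hM ⟨(hiff t).2 ht, Subtype.prop (e t)⟩) (g := g) hs (fun hh => hsD ((hiff g).2 hh))
    have htop : M.comap ψ = ⊤ := CfsgLib.Classical.eq_top_of_isAxis hA hN fun v c => hax v (-c) _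
      ⟨hA v, by simp, by simp, fun x => by
        rw [CfsgLib.Classical.tv_apply, CfsgLib.Classical.alt_swap hA x v]
        simp [B]⟩
    refine Or.inr (le_antisymm hMS fun t ht => ?_)
    obtain ⟨g', rfl⟩ := hψs t ht
    exact (htop ▸ Subgroup.mem_top g' : g' ∈ M.comap ψ)

/-- Maximal subgroups of Sp_6(q) of geometric type (any q). Let F be a finite field with q elements, f the standard alternating form on F^6 (coordinates Fin 3 ⊕ Fin 3) and Sp_6(F) its isometry group inside GL_6(F). Each of the following, intersected with Sp_6(F), is a maximal subgroup of Sp_6(F): (1) the stabiliser of any non-zero totally isotropic subspace (dimensions 1, 2, 3); (2) the stabiliser of any non-degenerate 2-space; (3) for q ≥ 3, the stabiliser of any decomposition of F^6 into three mutually orthogonal non-degenerate 2-spaces; (4) for q odd, the stabiliser of any decomposition into two totally isotropic 3-spaces; (5) the normaliser of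 any degree-3 subfield K of the matrix algebra whose elements are self-adjoint for f with f(k v, v) = 0 (f is the trace of an alternating form over K); (6) for q odd, the normaliser of any degree-2 subfield of the matrix algebra that is closed under adjoints but not self-adjoint (f is the trace of a multiple of a unitary form over K); (7) for q odd with q ≥ 5, the stabiliser of any tensor decomposition of f as (alternating form on F^2) ⊗ (non-degenerate symmetric bilinear form on F^3) up to a scalar; (8) every subfield group for a subfield F₀ with |F| = |F₀|^r, r prime, whose F₀-structure carries a non-zero scalar multiple of f; (9) for q even, the similarity group of any non-degenerate quadratic form whose polar form is f (either Witt type); its intersection with Sp_6(F) is the orthogonal group of that form. -/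
theorem result {F : Type*} [Field F] [Fintype F] :
    (∀ W : Submodule F (Fin 3 ⊕ Fin 3 → F), W ≠ ⊥ → Cfsg.Geo.IsTotallySingularFor (Cfsg.sympForm 3 F) W → Cfsg.Geo.IsMaximalIn (Cfsg.spGL 3 F) (Cfsg.Geo.subspaceStabilizer W ⊓ Cfsg.spGL 3 F)) ∧
    (∀ W : Submodule F (Fin 3 ⊕ Fin 3 → F), W ≠ ⊥ → Cfsg.Geo.IsNondegenerateOn (Cfsg.sympForm 3 F) W → Module.finrank F W < 3 → Cfsg.Geo.IsMaximalIn (Cfsg.spGL 3 F) (Cfsg.Geo.subspaceStabilizer W ⊓ Cfsg.spGL 3 F)) ∧
    (3 ≤ Fintype.card F → ∀ D : Fin 3 → Submodule F (Fin 3 ⊕ Fin 3 → F), Cfsg.Geo.IsNondegenerateMDecomposition (Cfsg.sympForm 3 F) 2 D → Cfsg.Geo.IsMaximalIn (Cfsg.spGL 3 F) (Cfsg.Geo.decompositionStabilizer D ⊓ Cfsg.spGL 3 F)) ∧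
    (Odd (Fintype.card F) → ∀ D : Fin 2 → Submodule F (Fin 3 ⊕ Fin 3 → F), Cfsg.Geo.IsMDecomposition 3 D → (∀ i, Cfsg.Geo.IsTotallySingularFor (Cfsg.sympForm 3 F) (D i)) → Cfsg.Geo.IsMaximalIn (Cfsg.spGL 3 F) (Cfsg.Geo.decompositionStabilizer D ⊓ Cfsg.spGL 3 F)) ∧
    (∀ K : Subalgebra F (Matrix (Fin 3 ⊕ Fin 3) (Fin 3 ⊕ Fin 3) F), Cfsg.Geo.IsFieldSubalgebra 3 K → Cfsg.Geo.IsSelfAdjointFor (Cfsg.sympForm 3 F) K → (∀ k ∈ K, ∀ v : (Fin 3 ⊕ Fin 3 → F), (Cfsg.sympForm 3 F) (Matrix.mulVec k v) v = 0) → Cfsg.Geo.IsMaximalIn (Cfsg.spGL 3 F) (Cfsg.Geo.subalgebraNormalizer K ⊓ Cfsg.spGL 3 F)) ∧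
    (Odd (Fintype.card F) → ∀ K : Subalgebra F (Matrix (Fin 3 ⊕ Fin 3) (Fin 3 ⊕ Fin 3) F), Cfsg.Geo.IsFieldSubalgebra 2 K → Cfsg.Geo.IsAdjointClosedFor (Cfsg.sympForm 3 F) K → ¬ Cfsg.Geo.IsSelfAdjointFor (Cfsg.sympForm 3 F) K → Cfsg.Geo.IsMaximalIn (Cfsg.spGL 3 F) (Cfsg.Geo.subalgebraNormalizer K ⊓ Cfsg.spGL 3 F)) ∧
    (Odd (Fintype.card F) → 5 ≤ Fintype.card F → ∀ (e : (Fin 3 ⊕ Fin 3) ≃ Fin 2 × Fin 3) (P : Matrix.GeneralLinearGroup (Fin 3 ⊕ Fin 3) F) (f₁ : (Fin 2 → F) → (Fin 2 → F) → F) (f₂ : (Fin 3 → F) → (Fin 3 → F) → F), Cfsg.Geo.IsSymplecticForm f₁ → Cfsg.Geo.IsSymmetricForm f₂ → Cfsg.Geo.IsTensorFormStructure id (Cfsg.sympForm 3 F) f₁ f₂ e P → Cfsg.Geo.IsMaximalIn (Cfsg.spGL 3 F) (Cfsg.Geo.tensorProductSubgroup 2 3 e P ⊓ Cfsg.spGL 3 F)) ∧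
    (∀ (F₀ : Subfield F) (r : ℕ) (P : Matrix.GeneralLinearGroup (Fin 3 ⊕ Fin 3) F) (ζ : F), r.Prime → Fintype.card F = Nat.card F₀ ^ r → ζ ≠ 0 → Cfsg.Geo.IsFormRationalStructure (Cfsg.sympForm 3 F) F₀ ζ P → Cfsg.Geo.IsMaximalIn (Cfsg.spGL 3 F) (Cfsg.Geo.subfieldSubgroup F₀ P ⊓ Cfsg.spGL 3 F)) ∧
    (¬ Odd (Fintype.card F) → ∀ Q : (Fin 3 ⊕ Fin 3 → F) → F, Cfsg.Geo.IsNondegenerateQuadraticForm Q → (∀ u v : (Fin 3 ⊕ Fin 3 → F), QuadraticMap.polar Q u v = (Cfsg.sympForm 3 F) u v) → Cfsg.Geo.IsMaximalIn (Cfsg.spGL 3 F) (Cfsg.Geo.quadSimilarityGroup Q ⊓ Cfsg.spGL 3 F)) := by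
  refine ⟨fun W h0 hW => CfsgLib.Classical.SpFourEven.singular_maximal (by norm_num) W h0 hW,
    fun W h0 hW hd => nondeg_part 3 W h0 hW hd,
    fun h3 D hD => CfsgLib.Classical.SpFourEven.decomp_maximal 2 D hD (fun h => by omega),
    fun hodd D hD hts => pair_part 3 le_rfl hodd D hD hts,
    fun K hK hsa halt => CfsgLib.Classical.FieldExtSymp.spGL_isMaximal_of (by norm_num) (by norm_num)
      Nat.prime_three hK hsa halt,
    fun hodd K hK hac hnsa => CfsgLib.Classical.UnitarySubSymp.spGL_isMaximal_of 3 le_rfl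
      (CfsgLib.KnownC.OrthTools.two_ne_zero_of_odd rfl hodd) K hK hac hnsa,
    fun hodd h5 e P f₁ f₂ hf₁ hf₂ hT => CfsgLib.Classical.SpTensorSix.tensor_maximal hodd h5 e P hf₁ hf₂ hT,
    fun F₀ r P ζ hr hc hζ hP => ?_,
    fun hev Q hQ hpol => CfsgLib.Classical.SpFourEven.quad_maximal_of (by norm_num) (Or.inr le_rfl) hev Q hQ hpol⟩
  by_cases h2 : (2 : F) = 0
  · exact CfsgLib.Classical.SpFourEven.subfield_maximal (by norm_num) h2 F₀ r hr hc P ζ hζ hP
  · exact CfsgLib.Classical.SpFourEven.subfield_maximal_odd le_rfl h2 F₀ r hr hc P ζ hζ hP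

end Cfsg.Agent.S5804
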