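import Cfsg.Statements.S5805
import Cfsg.Agent.Lib.Classical.AschSp.Rows

set_option autoImplicit false
open Cfsg

namespace Cfsg.Agent.S5805

/-- Every maximal subgroup of Sp_6(q) is of one of the listed geometric types or lies in the residual class. Let F be a finite field with q elements, f the standard alternating form on F^6 (coordinates Fin 3 ⊕ Fin 3), and H a maximal subgroup of Sp_6(F) (inside GL_6(F)). Then H is the intersection with Sp_6(F) of one of: the stabiliser of a non-zero totally isotropic subspace; the stabiliser of a non-degenerate 2-space; for q ≥ 3, the stabiliser of a decomposition into three mutually orthogonal non-degenerate 2-spaces; for q odd, of a decomposition into two totally isotropic 3-spaces; the normaliser of a degree-3 subfield K of the matrix algebra, self-adjoint with f(k v, v) = 0; for q odd, the normaliser of a degree-2 subfield closed under adjoints but not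 self-adjoint; for q odd, q ≥ 5, the stabiliser of a tensor decomposition of f into an alternating form on F^2 and a symmetric form on F^3; a subfield group (|F| = |F₀|^r, r prime) whose F₀-structure carries a non-zero multiple of f; for q even, the similarity group of a non-degenerate quadratic form polarising to f — or else H lies in the residual class of the symplectic case. -/
theorem result {F : Type*} [Field F] [Fintype F] (H : Subgroup (Matrix.GeneralLinearGroup (Fin 3 ⊕ Fin 3) F)) (hH : Cfsg.Geo.IsMaximalIn (Cfsg.spGL 3 F) H) :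
    (∃ W : Submodule F (Fin 3 ⊕ Fin 3 → F), W ≠ ⊥ ∧ Cfsg.Geo.IsTotallySingularFor (Cfsg.sympForm 3 F) W ∧ H = Cfsg.Geo.subspaceStabilizer W ⊓ Cfsg.spGL 3 F) ∨
    (∃ W : Submodule F (Fin 3 ⊕ Fin 3 → F), W ≠ ⊥ ∧ Cfsg.Geo.IsNondegenerateOn (Cfsg.sympForm 3 F) W ∧ Module.finrank F W < 3 ∧ H = Cfsg.Geo.subspaceStabilizer W ⊓ Cfsg.spGL 3 F) ∨
    (3 ≤ Fintype.card F ∧ ∃ D : Fin 3 → Submodule F (Fin 3 ⊕ Fin 3 → F), Cfsg.Geo.IsNondegenerateMDecomposition (Cfsg.sympForm 3 F) 2 D ∧ H = Cfsg.Geo.decompositionStabilizer D ⊓ Cfsg.spGL 3 F) ∨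
    (Odd (Fintype.card F) ∧ ∃ D : Fin 2 → Submodule F (Fin 3 ⊕ Fin 3 → F), Cfsg.Geo.IsMDecomposition 3 D ∧ (∀ i, Cfsg.Geo.IsTotallySingularFor (Cfsg.sympForm 3 F) (D i)) ∧ H = Cfsg.Geo.decompositionStabilizer D ⊓ Cfsg.spGL 3 F) ∨
    (∃ K : Subalgebra F (Matrix (Fin 3 ⊕ Fin 3) (Fin 3 ⊕ Fin 3) F), Cfsg.Geo.IsFieldSubalgebra 3 K ∧ Cfsg.Geo.IsSelfAdjointFor (Cfsg.sympForm 3 F) K ∧ (∀ k ∈ K, ∀ v : (Fin 3 ⊕ Fin 3 → F), (Cfsg.sympForm 3 F) (Matrix.mulVec k v) v = 0) ∧ H = Cfsg.Geo.subalgebraNormalizer K ⊓ Cfsg.spGL 3 F) ∨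
    (Odd (Fintype.card F) ∧ ∃ K : Subalgebra F (Matrix (Fin 3 ⊕ Fin 3) (Fin 3 ⊕ Fin 3) F), Cfsg.Geo.IsFieldSubalgebra 2 K ∧ Cfsg.Geo.IsAdjointClosedFor (Cfsg.sympForm 3 F) K ∧ ¬ Cfsg.Geo.IsSelfAdjointFor (Cfsg.sympForm 3 F) K ∧ H = Cfsg.Geo.subalgebraNormalizer K ⊓ Cfsg.spGL 3 F) ∨
    (Odd (Fintype.card F) ∧ 5 ≤ Fintype.card F ∧ ∃ (e : (Fin 3 ⊕ Fin 3) ≃ Fin 2 × Fin 3) (P : Matrix.GeneralLinearGroup (Fin 3 ⊕ Fin 3) F) (f₁ : (Fin 2 → F) → (Fin 2 → F) → F) (f₂ : (Fin 3 → F) → (Fin 3 → F) → F), Cfsg.Geo.IsSymplecticForm f₁ ∧ Cfsg.Geo.IsSymmetricForm f₂ ∧ Cfsg.Geo.IsTensorFormStructure id (Cfsg.sympForm 3 F) f₁ f₂ e P ∧ H = Cfsg.Geo.tensorProductSubgroup 2 3 e P ⊓ Cfsg.spGL 3 F) ∨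
    (∃ (F₀ : Subfield F) (r : ℕ) (P : Matrix.GeneralLinearGroup (Fin 3 ⊕ Fin 3) F) (ζ : F), r.Prime ∧ Fintype.card F = Nat.card F₀ ^ r ∧ ζ ≠ 0 ∧ Cfsg.Geo.IsFormRationalStructure (Cfsg.sympForm 3 F) F₀ ζ P ∧ H = Cfsg.Geo.subfieldSubgroup F₀ P ⊓ Cfsg.spGL 3 F) ∨
    (¬ Odd (Fintype.card F) ∧ ∃ Q : (Fin 3 ⊕ Fin 3 → F) → F, Cfsg.Geo.IsNondegenerateQuadraticForm Q ∧ (∀ u v : (Fin 3 ⊕ Fin 3 → F), QuadraticMap.polar Q u v = (Cfsg.sympForm 3 F) u v) ∧ H = Cfsg.Geo.quadSimilarityGroup Q ⊓ Cfsg.spGL 3 F) ∨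
    Cfsg.Geo.InSymplecticResidualClass H := by
  classical
  rcases CfsgLib.Classical.AschSp.sp_cases (d := 6) (by simp)
      (CfsgLib.Classical.AschSp.sympForm_symplectic 3) (by omega)
      (CfsgLib.Classical.AschSp.not_prime_power (p := 2) (s := 3) Nat.prime_two (by norm_num)
        (by omega) (by norm_num) (by norm_num))
      (CfsgLib.Classical.AschSp.not_power_small (by omega)) hH with
    ⟨W, h0, hts, h⟩ | ⟨W, h0, hnd, hlt, h⟩ | ⟨t, k, D, hk, hk2, ht, htk, hq, hD, h⟩ |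
    ⟨ho, k, D, hk, hD, hts, h⟩ | ⟨r, K, hr, hdvd, hK, hsa, halt, h⟩ | ⟨ho, K, hK, hac, hnsa, h⟩ |
    ⟨ho, n₁, n₂, e, P, f₁, f₂, h1, hev, h2, h12, h5, hf1, hf2, hst, h⟩ |
    hsub | hquad | hres
  · exact .inl ⟨W, h0, hts, h⟩
  · exact .inr (.inl ⟨W, h0, hnd, by omega, h⟩)
  · obtain ⟨htd, rfl⟩ := CfsgLib.Classical.AschSp.factor_cases (by omega) htk
    have : t = 3 := by
      fin_cases htd <;> simp_all +decide [Nat.even_iff]
    subst this
    exact .inr (.inr (.inl ⟨hq (by norm_num), D, hD, h⟩))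
  · obtain rfl : k = 3 := by omega
    exact .inr (.inr (.inr (.inl ⟨ho, D, hD, hts, h⟩)))
  · obtain rfl : r = 3 := by
      have hmem := CfsgLib.Classical.AschSp.prime_dvd_cases (by omega) hdvd
      fin_cases hmem <;> simp_all +decide
    exact .inr (.inr (.inr (.inr (.inl ⟨K, hK, hsa, halt, h⟩))))
  · exact .inr (.inr (.inr (.inr (.inr (.inl ⟨ho, K, hK, hac, hnsa, h⟩)))))
  · obtain ⟨hmem, rfl⟩ := CfsgLib.Classical.AschSp.factor_cases (by omega) h12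
    have : n₁ = 2 := by
      fin_cases hmem <;> simp_all +decide [Nat.even_iff]
    subst this
    exact .inr (.inr (.inr (.inr (.inr (.inr (.inl ⟨ho, h5 (by norm_num), e, P, f₁, f₂, hf1, hf2, hst, h⟩))))))
  · exact .inr (.inr (.inr (.inr (.inr (.inr (.inr (.inl hsub)))))))
  · exact .inr (.inr (.inr (.inr (.inr (.inr (.inr (.inr (.inl hquad))))))))
  · exact .inr (.inr (.inr (.inr (.inr (.inr (.inr (.inr (.inr hres))))))))

end Cfsg.Agent.S5805
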