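import Cfsg.Statements.S5811
import Cfsg.Agent.Lib.Classical.AschPrime.UnitaryCases
-- import your own Cfsg.Agent.* helpers here

set_option autoImplicit false
open Cfsg

namespace Cfsg.Agent.S5811

/-- Every maximal subgroup of SU_7(q) is of one of the listed geometric types or lies in the residual class. Let F be the field with q² elements (characteristic p), f the standard unitary form Σ u_i v_i^q on F^7, and H a maximal subgroup of SU_7(q) (inside GL_7(F)). Then H is the intersection with SU_7(q) of one of: the stabiliser of a non-zero totally isotropic subspace; the stabiliser of a non-degenerate 1-, 2- or 3-space; the stabiliser of a decomposition into seven mutually orthogonal non-degenerate 1-spaces; the normaliser of an adjoint-closed degree-7 subfield of the matrix algebra; a subfield group of odd prime index whose F₀-structure carries f; for q odd, a subfield group of index 2 whose F₀-structure carries f; for q = p prime with p ≡ 6 mod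 7, or q = p³ with p ≡ 3 or 5 mod 7, the normaliser of an absolutely irreducible 7-group R of exponent 7, order 343 and centre of order 7, all of whose characteristic abelian subgroups are cyclic, contained in the similarity group of f — or else H lies in the residual class of the unitary case (modulo scalars H is almost simple, with absolutely irreducible perfect socle preimage realisable over no proper subfield and fixing no non-degenerate quadratic or symplectic form). -/
theorem result {F : Type*} [Field F] [Fintype F] (q : ℕ) (hF : Fintype.card F = q ^ 2) (H : Subgroup (Matrix.GeneralLinearGroup (Fin 7) F)) (hH : Cfsg.Geo.IsMaximalIn (Cfsg.GU 7 F q ⊓ Cfsg.Geo.specialLinear (Fin 7) F) H) :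
    (∃ W : Submodule F (Fin 7 → F), W ≠ ⊥ ∧ Cfsg.Geo.IsTotallySingularFor (Cfsg.hermForm 7 F q) W ∧ H = Cfsg.Geo.subspaceStabilizer W ⊓ (Cfsg.GU 7 F q ⊓ Cfsg.Geo.specialLinear (Fin 7) F)) ∨
    (∃ W : Submodule F (Fin 7 → F), W ≠ ⊥ ∧ Cfsg.Geo.IsNondegenerateOn (Cfsg.hermForm 7 F q) W ∧ 2 * Module.finrank F W < 7 ∧ H = Cfsg.Geo.subspaceStabilizer W ⊓ (Cfsg.GU 7 F q ⊓ Cfsg.Geo.specialLinear (Fin 7) F)) ∨
    (∃ D : Fin 7 → Submodule F (Fin 7 → F), Cfsg.Geo.IsNondegenerateMDecomposition (Cfsg.hermForm 7 F q) 1 D ∧ H = Cfsg.Geo.decompositionStabilizer D ⊓ (Cfsg.GU 7 F q ⊓ Cfsg.Geo.specialLinear (Fin 7) F)) ∨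
    (∃ K : Subalgebra F (Matrix (Fin 7) (Fin 7) F), Cfsg.Geo.IsFieldSubalgebra 7 K ∧ Cfsg.Geo.IsAdjointClosedFor (Cfsg.hermForm 7 F q) K ∧ H = Cfsg.Geo.subalgebraNormalizer K ⊓ (Cfsg.GU 7 F q ⊓ Cfsg.Geo.specialLinear (Fin 7) F)) ∨
    (∃ (F₀ : Subfield F) (r : ℕ) (P : Matrix.GeneralLinearGroup (Fin 7) F), r.Prime ∧ Odd r ∧ Fintype.card F = Nat.card F₀ ^ r ∧ Cfsg.Geo.IsFormRationalStructure (Cfsg.hermForm 7 F q) F₀ 1 P ∧ H = Cfsg.Geo.subfieldSubgroup F₀ P ⊓ (Cfsg.GU 7 F q ⊓ Cfsg.Geo.specialLinear (Fin 7) F)) ∨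
    (Odd q ∧ ∃ (F₀ : Subfield F) (P : Matrix.GeneralLinearGroup (Fin 7) F), Fintype.card F = Nat.card F₀ ^ 2 ∧ Cfsg.Geo.IsFormRationalStructure (Cfsg.hermForm 7 F q) F₀ 1 P ∧ H = Cfsg.Geo.subfieldSubgroup F₀ P ⊓ (Cfsg.GU 7 F q ⊓ Cfsg.Geo.specialLinear (Fin 7) F)) ∨
    (∃ (p : ℕ) (R : Subgroup (Matrix.GeneralLinearGroup (Fin 7) F)), p.Prime ∧ CharP F p ∧ ((q = p ∧ p % 7 = 6) ∨ (q = p ^ 3 ∧ (p % 7 = 3 ∨ p % 7 = 5))) ∧ Cfsg.Geo.IsSymplecticTypeGroup 7 R ∧ Cfsg.Geo.ActsAbsolutelyIrreducibly (Cfsg.Geo.matrixSet R) ∧ R ≤ Cfsg.Geo.similarityGroup (Cfsg.hermForm 7 F q) ∧ Nat.card R = 343 ∧ Nat.card (Subgroup.center R) = 7 ∧ H = Cfsg.Geo.subgroupNormalizer R ⊓ (Cfsg.GU 7 F q ⊓ Cfsg.Geo.specialLinear (Fin 7) F)) ∨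
    Cfsg.Geo.InUnitaryResidualClass H := by
  have hq := CfsgLib.Classical.two_le_of_card_sq hF
  have hsize : Nat.factorial 7 * 7 < q ^ (7 * (7 - 1) / 2) :=
    lt_of_lt_of_le (by decide : Nat.factorial 7 * 7 < 2 ^ (7 * (7 - 1) / 2))
      (Nat.pow_le_pow_left hq _)
  rcases CfsgLib.Classical.AschPrime.unitary_maximal (n := 7) hF (by norm_num) (by norm_num)
      (.inr (by norm_num)) hsize hH with h | h | h | h | h | h |
    ⟨p, k, R, hp, hc, hqk, hk, hkn, hnd, hmin, hsymp, habs, hRG, hcardR, hcen, hR⟩ | h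
  · exact .inl h
  · exact .inr (.inl h)
  · exact .inr (.inr (.inl h))
  · exact .inr (.inr (.inr (.inl h)))
  · exact .inr (.inr (.inr (.inr (.inl h))))
  · exact .inr (.inr (.inr (.inr (.inr (.inl h)))))
  · refine .inr (.inr (.inr (.inr (.inr (.inr (.inl ⟨p, R, hp, hc, ?_, hsymp, habs, hRG.trans fun g hg => ⟨1, fun u v => by rw [Units.val_one, one_mul]; exact hg u v⟩,
      hcardR.trans (by norm_num), hcen, hR⟩))))))
    have hcases : k = 1 ∨ k = 3 := by
      have := Nat.le_of_dvd (by norm_num) hkn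
      have hkle : k ≤ 3 := by omega
      interval_cases k <;> omega
    have h2 : p % 7 < 7 := Nat.mod_lt _ (by norm_num)
    have hconv : ∀ d : ℕ, 7 ∣ p ^ d - 1 ↔ (p % 7) ^ d % 7 = 1 := by
      intro d
      have := Nat.one_le_pow d p hp.pos
      rw [← Nat.pow_mod]
      omega
    rcases hcases with rfl | rfl
    · rw [pow_one] at hqk
      refine .inl ⟨hqk, ?_⟩
      have h3 := (hconv 2).mp hnd
      have h4 : ¬ (p % 7) ^ 1 % 7 = 1 := fun h => hmin 1 (by norm_num) (by norm_num) ((hconv 1).mpr h)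
      generalize p % 7 = r at h2 h3 h4 ⊢
      interval_cases r <;> simp_all
    · refine .inr ⟨hqk, ?_⟩
      have h3 := (hconv (2 * 3)).mp hnd
      have h4 : ¬ (p % 7) ^ 1 % 7 = 1 := fun h => hmin 1 (by norm_num) (by norm_num) ((hconv 1).mpr h)
      have h5 : ¬ (p % 7) ^ 2 % 7 = 1 := fun h => hmin 2 (by norm_num) (by norm_num) ((hconv 2).mpr h)
      have h6 : ¬ (p % 7) ^ 3 % 7 = 1 := fun h =>
        hmin 3 (by norm_num) (by norm_num) ((hconv 3).mpr h)
      generalize p % 7 = r at h2 h3 h4 h5 h6 ⊢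
      interval_cases r <;> simp_all
  · exact .inr (.inr (.inr (.inr (.inr (.inr (.inr h))))))

end Cfsg.Agent.S5811
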