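import Cfsg.Statements.S5813
import Cfsg.Agent.Lib.Classical.OrthMaxTS
import Cfsg.Agent.Lib.Classical.OrthNDOdd
import Cfsg.Agent.Lib.Classical.FrameMax.Matrix
import Cfsg.Agent.Lib.Classical.SubfieldOrth.QuadMax
import Cfsg.Agent.Lib.KnownC.OrthTools
import Cfsg.Agent.Lib.Orth.Standard

set_option autoImplicit false
open Cfsg

namespace Cfsg.Agent.S5813

/-- Maximal subgroups of Ω_7(q) of geometric type, q odd. Let F be a finite field of odd order q, Q the standard quadratic form x₀² + Σ x_i y_i on F^7 (coordinates Unit ⊕ (Fin 3 ⊕ Fin 3)), and Ω = Ω_7(q) the commutator subgroup of its isometry group, inside GL_7(F). Each of the following, intersected with Ω, is a maximal subgroup of Ω: (1) the stabiliser of any non-zero subspace on which Q vanishes identically (totally singular 1-, 2- and 3-spaces); (2) the stabiliser of any non-zero even-dimensional subspace W on which the polar form of Q is non-degenerate (equivalently of its odd-dimensional orthogonal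 complement), except when q = 3 and W is a 2-space containing a non-zero singular vector (a plus-type plane); (3) for q = p prime, the stabiliser of any decomposition of F^7 into seven pairwise orthogonal, pairwise Q-isometric non-degenerate 1-spaces; (4) every subfield group for a subfield F₀ with |F| = |F₀|^r, r prime, whose F₀-structure carries Q. -/
theorem result {F : Type*} [Field F] [Fintype F] (hodd : Odd (Fintype.card F)) :
    (∀ W : Submodule F (Unit ⊕ (Fin 3 ⊕ Fin 3) → F), W ≠ ⊥ → Cfsg.Geo.IsTotallySingularQuad (Cfsg.quadFormOdd 3 F) W → Cfsg.Geo.IsMaximalIn (Cfsg.Geo.omegaGL (Cfsg.quadFormOdd 3 F)) (Cfsg.Geo.subspaceStabilizer W ⊓ Cfsg.Geo.omegaGL (Cfsg.quadFormOdd 3 F))) ∧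
    (∀ W : Submodule F (Unit ⊕ (Fin 3 ⊕ Fin 3) → F), W ≠ ⊥ → Even (Module.finrank F W) → Cfsg.Geo.IsNondegenerateOn (QuadraticMap.polar (Cfsg.quadFormOdd 3 F)) W → ¬ (Fintype.card F = 3 ∧ Module.finrank F W = 2 ∧ Cfsg.Geo.IsPlusTypeOn (Cfsg.quadFormOdd 3 F) W) → Cfsg.Geo.IsMaximalIn (Cfsg.Geo.omegaGL (Cfsg.quadFormOdd 3 F)) (Cfsg.Geo.subspaceStabilizer W ⊓ Cfsg.Geo.omegaGL (Cfsg.quadFormOdd 3 F))) ∧
    ((Fintype.card F).Prime → ∀ D : Fin 7 → Submodule F (Unit ⊕ (Fin 3 ⊕ Fin 3) → F), Cfsg.Geo.IsOrthogonalMDecomposition (Cfsg.quadFormOdd 3 F) 1 D → Cfsg.Geo.IsMaximalIn (Cfsg.Geo.omegaGL (Cfsg.quadFormOdd 3 F)) (Cfsg.Geo.decompositionStabilizer D ⊓ Cfsg.Geo.omegaGL (Cfsg.quadFormOdd 3 F))) ∧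
    (∀ (F₀ : Subfield F) (r : ℕ) (P : Matrix.GeneralLinearGroup (Unit ⊕ (Fin 3 ⊕ Fin 3)) F), r.Prime → Fintype.card F = Nat.card F₀ ^ r → Cfsg.Geo.IsQuadFormRationalStructure (Cfsg.quadFormOdd 3 F) F₀ P → Cfsg.Geo.IsMaximalIn (Cfsg.Geo.omegaGL (Cfsg.quadFormOdd 3 F)) (Cfsg.Geo.subfieldSubgroup F₀ P ⊓ Cfsg.Geo.omegaGL (Cfsg.quadFormOdd 3 F))) := by
  classical
  have h2 : (2 : F) ≠ 0 := CfsgLib.KnownC.OrthTools.two_ne_zero_of_odd rfl hodd
  have hQf := CfsgLib.Orth.oddForm_apply (F := F) 3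
  have hQ' := CfsgLib.Orth.oddForm_nondeg (F := F) 3 h2
  have h4 := CfsgLib.Orth.good_of_two_ne (V := Unit ⊕ (Fin 3 ⊕ Fin 3) → F) h2
  have hV : Module.finrank F (Unit ⊕ (Fin 3 ⊕ Fin 3) → F) = 7 := by
    simp [Module.finrank_pi]
  refine ⟨fun W hW0 hW => ?_, fun W hW0 hev hW hex => ?_, fun hp D hD => ?_, fun F₀ r P hr hcard hP => ?_⟩
  · have hW' : ∀ w ∈ W, CfsgLib.Orth.oddForm F 3 w = 0 := fun w hw => (hQf w).symm.trans (hW w hw)
    refine CfsgLib.Classical.singular_isMaximalIn _ hQf hQ' h4 (by omega) W hW' hW0 ?_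
    by_cases hk : 2 * Module.finrank F W + 3 ≤ Module.finrank F (Unit ⊕ (Fin 3 ⊕ Fin 3) → F)
    · exact Or.inl hk
    · exact Or.inr fun u hu hup => CfsgLib.Classical.singular_perp_mem_of_top hW'
        (fun U hU => by have := CfsgLib.Orth.singular_finrank_le hQ' U hU; omega) hu hup
  · obtain ⟨k, hk⟩ := hev
    set Q := CfsgLib.Orth.oddForm F 3 with hQdef
    have hQe : (Cfsg.quadFormOdd 3 F : (Unit ⊕ (Fin 3 ⊕ Fin 3) → F) → F) = ⇑Q := funext hQf
    rw [hQe] at hW hex ⊢
    have hWn : CfsgLib.Classical.NdSub Q W :=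
      CfsgLib.Classical.ndSub_of_on fun w hw hw0 => (hW w hw hw0).2
    have hd := CfsgLib.Classical.finrank_qperp hQ' W
    have hWne : 1 ≤ Module.finrank F W := Submodule.one_le_finrank_iff.2 hW0
    suffices H : ∀ U, CfsgLib.Classical.NdSub Q U → 4 ≤ Module.finrank F U → Module.finrank F U < 7 →
        CfsgLib.Orth.stab (Q := Q) U = CfsgLib.Orth.stab (Q := Q) W →
        (4 ≤ Fintype.card F ∨ 3 ≤ Module.finrank F (CfsgLib.Classical.qperp Q U) ∨
          ∀ v ∈ CfsgLib.Classical.qperp Q U, Q v = 0 → v = 0) →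
        Cfsg.Geo.IsMaximalIn (Cfsg.Geo.omegaGL ⇑Q) (Cfsg.Geo.subspaceStabilizer W ⊓ Cfsg.Geo.omegaGL ⇑Q) by
      by_cases hbig : 4 ≤ Module.finrank F W
      · refine H W hWn hbig (by omega) rfl ?_
        by_cases h : 3 ≤ Module.finrank F (CfsgLib.Classical.qperp Q W)
        · exact Or.inr (Or.inl h)
        refine Or.inr (Or.inr fun v hv hv0 => by_contra fun hne => hne ?_)
        have hspan : F ∙ v = CfsgLib.Classical.qperp Q W := Submodule.eq_of_le_of_finrank_le
          ((Submodule.span_singleton_le_iff_mem _ _).2 hv) (by rw [finrank_span_singleton hne]; omega)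
        refine CfsgLib.Classical.ndSub_eq_zero (CfsgLib.Classical.ndSub_qperp hQ' hWn) hv fun x hx => ?_
        rw [← hspan] at hx
        obtain ⟨t, rfl⟩ := Submodule.mem_span_singleton.1 hx
        show QuadraticMap.polar Q (t • v) v = 0
        rw [CfsgLib.Orth.polar_smul_l', CfsgLib.Orth.polar_self', hv0]; ring
      · refine H (CfsgLib.Classical.qperp Q W) (CfsgLib.Classical.ndSub_qperp hQ' hWn) (by omega) (by omega)
          (CfsgLib.Classical.stab_qperp_eq hQ' W) ?_
        rw [CfsgLib.Classical.qperp_qperp hQ' W]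
        by_cases hq : 4 ≤ Fintype.card F
        · exact Or.inl hq
        refine Or.inr (Or.inr fun v hv hv0 => by_contra fun hne => hex ?_)
        obtain ⟨j, hj⟩ := hodd
        have := Fintype.one_lt_card (α := F)
        refine ⟨by omega, by omega, F ∙ v, (Submodule.span_singleton_le_iff_mem _ _).2 hv, fun x hx => ?_,
          by rw [finrank_span_singleton hne]; omega⟩
        obtain ⟨t, rfl⟩ := Submodule.mem_span_singleton.1 hx
        rw [CfsgLib.Orth.quad_smul', hv0, mul_zero]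
    intro U hU hU4 hU7 hstab hgood
    have hUd := CfsgLib.Classical.finrank_qperp hQ' U
    obtain ⟨w, hw, hw0⟩ := Submodule.exists_mem_ne_zero_of_ne_bot
      (Submodule.one_le_finrank_iff.1 (show 1 ≤ Module.finrank F (CfsgLib.Classical.qperp Q U) by omega))
    refine CfsgLib.Classical.omega_isMaximalIn Q (fun _ => rfl) W ?_ fun M hM g hg hgΩ hgW => ?_
    · obtain ⟨g, hg, hgU⟩ := CfsgLib.Classical.NDOdd.exists_moving hQ' h2 h4 (by omega) hU (by omega) hw hw0
      exact ⟨g, hg, hstab ▸ hgU⟩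
    · refine CfsgLib.Classical.NDOdd.top_of_stab hQ' h2 h4 (by omega) hU hU4 hgood (fun g' _ hle => ?_)
        (hstab ▸ hM) hg hgΩ (hstab ▸ hgW)
      have h1 := Submodule.finrank_mono hle
      rw [LinearEquiv.finrank_map_eq] at h1
      omega
  · exact CfsgLib.Classical.FrameMax.frame_isMaximal _ hQf hp h2 (by simp) (by simp) hD
  · refine CfsgLib.Classical.SubfieldOrth.subfield_isMaximalIn _ hQf hQ' h4 (by simp) F₀ hr hcard P one_ne_zero ?_
    simpa only [one_mul] using hP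

end Cfsg.Agent.S5813
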