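import Cfsg.Statements.S5820
import Cfsg.Agent.Lib.Classical.AschForm.UnitaryRows

set_option autoImplicit false
open Cfsg

namespace Cfsg.Agent.S5820

open CfsgLib.Classical.AschForm CfsgLib.Classical.AschGen CfsgLib.Classical.AschPrime

/-- Every maximal subgroup of SU_8(q) is of one of the listed geometric types or lies in the residual class. Let F be the field with q² elements, f the standard unitary form Σ u_i v_i^q on F^8, and H a maximal subgroup of SU_8(q) (inside GL_8(F)). Then H is the intersection with SU_8(q) of one of: the stabiliser of a non-zero totally isotropic subspace; the stabiliser of a non-degenerate 1-, 2- or 3-space; the stabiliser of a decomposition into eight mutually orthogonal non-degenerate 1-spaces; for q ≥ 3, of a decomposition into four mutually orthogonal non-degenerate 2-spaces; of a decomposition into two orthogonal non-degenerate 4-spaces; of a decomposition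 into two totally isotropic 4-spaces; for q ≥ 3, the stabiliser of a tensor decomposition of f into unitary forms on F^2 and F^4; a subfield group of odd prime index whose F₀-structure carries f; a subfield group of index 2 and symplectic type; for q odd, a subfield group of index 2 and orthogonal type; for q = p ≡ 3 mod 4 prime, the normaliser of an absolutely irreducible symplectic-type 2-group of order 2^8 with centre of order 4 inside the similarity group of f — or else H lies in the residual class of the unitary case. -/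
theorem result {F : Type*} [Field F] [Fintype F] (q : ℕ) (hF : Fintype.card F = q ^ 2) (H : Subgroup (Matrix.GeneralLinearGroup (Fin 8) F)) (hH : Cfsg.Geo.IsMaximalIn (Cfsg.GU 8 F q ⊓ Cfsg.Geo.specialLinear (Fin 8) F) H) :
    (∃ W : Submodule F (Fin 8 → F), W ≠ ⊥ ∧ Cfsg.Geo.IsTotallySingularFor (Cfsg.hermForm 8 F q) W ∧ H = Cfsg.Geo.subspaceStabilizer W ⊓ (Cfsg.GU 8 F q ⊓ Cfsg.Geo.specialLinear (Fin 8) F)) ∨
    (∃ W : Submodule F (Fin 8 → F), W ≠ ⊥ ∧ Cfsg.Geo.IsNondegenerateOn (Cfsg.hermForm 8 F q) W ∧ 2 * Module.finrank F W < 8 ∧ H = Cfsg.Geo.subspaceStabilizer W ⊓ (Cfsg.GU 8 F q ⊓ Cfsg.Geo.specialLinear (Fin 8) F)) ∨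
    (∃ D : Fin 8 → Submodule F (Fin 8 → F), Cfsg.Geo.IsNondegenerateMDecomposition (Cfsg.hermForm 8 F q) 1 D ∧ H = Cfsg.Geo.decompositionStabilizer D ⊓ (Cfsg.GU 8 F q ⊓ Cfsg.Geo.specialLinear (Fin 8) F)) ∨
    (3 ≤ q ∧ ∃ D : Fin 4 → Submodule F (Fin 8 → F), Cfsg.Geo.IsNondegenerateMDecomposition (Cfsg.hermForm 8 F q) 2 D ∧ H = Cfsg.Geo.decompositionStabilizer D ⊓ (Cfsg.GU 8 F q ⊓ Cfsg.Geo.specialLinear (Fin 8) F)) ∨
    (∃ D : Fin 2 → Submodule F (Fin 8 → F), Cfsg.Geo.IsNondegenerateMDecomposition (Cfsg.hermForm 8 F q) 4 D ∧ H = Cfsg.Geo.decompositionStabilizer D ⊓ (Cfsg.GU 8 F q ⊓ Cfsg.Geo.specialLinear (Fin 8) F)) ∨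
    (∃ D : Fin 2 → Submodule F (Fin 8 → F), Cfsg.Geo.IsMDecomposition 4 D ∧ (∀ i, Cfsg.Geo.IsTotallySingularFor (Cfsg.hermForm 8 F q) (D i)) ∧ H = Cfsg.Geo.decompositionStabilizer D ⊓ (Cfsg.GU 8 F q ⊓ Cfsg.Geo.specialLinear (Fin 8) F)) ∨
    (3 ≤ q ∧ ∃ (e : Fin 8 ≃ Fin 2 × Fin 4) (P : Matrix.GeneralLinearGroup (Fin 8) F) (f₁ : (Fin 2 → F) → (Fin 2 → F) → F) (f₂ : (Fin 4 → F) → (Fin 4 → F) → F), Cfsg.Geo.IsUnitaryFormPow q f₁ ∧ Cfsg.Geo.IsUnitaryFormPow q f₂ ∧ Cfsg.Geo.IsTensorFormStructure (fun x : F => x ^ q) (Cfsg.hermForm 8 F q) f₁ f₂ e P ∧ H = Cfsg.Geo.tensorProductSubgroup 2 4 e P ⊓ (Cfsg.GU 8 F q ⊓ Cfsg.Geo.specialLinear (Fin 8) F)) ∨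
    (∃ (F₀ : Subfield F) (r : ℕ) (P : Matrix.GeneralLinearGroup (Fin 8) F), r.Prime ∧ Odd r ∧ Fintype.card F = Nat.card F₀ ^ r ∧ Cfsg.Geo.IsFormRationalStructure (Cfsg.hermForm 8 F q) F₀ 1 P ∧ H = Cfsg.Geo.subfieldSubgroup F₀ P ⊓ (Cfsg.GU 8 F q ⊓ Cfsg.Geo.specialLinear (Fin 8) F)) ∨
    (∃ (F₀ : Subfield F) (P : Matrix.GeneralLinearGroup (Fin 8) F) (ζ : F), Fintype.card F = Nat.card F₀ ^ 2 ∧ ζ ≠ 0 ∧ ζ + ζ ^ q = 0 ∧ Cfsg.Geo.IsFormRationalStructure (Cfsg.hermForm 8 F q) F₀ ζ P ∧ (∀ u : Fin 8 → F, (∀ i, u i ∈ F₀) → (Cfsg.hermForm 8 F q) (Matrix.mulVec (P : Matrix (Fin 8) (Fin 8) F) u) (Matrix.mulVec (P : Matrix (Fin 8) (Fin 8) F) u) = 0) ∧ H = Cfsg.Geo.subfieldSubgroup F₀ P ⊓ (Cfsg.GU 8 F q ⊓ Cfsg.Geo.specialLinear (Fin 8) F)) ∨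
    (Odd q ∧ ∃ (F₀ : Subfield F) (P : Matrix.GeneralLinearGroup (Fin 8) F), Fintype.card F = Nat.card F₀ ^ 2 ∧ Cfsg.Geo.IsFormRationalStructure (Cfsg.hermForm 8 F q) F₀ 1 P ∧ H = Cfsg.Geo.subfieldSubgroup F₀ P ⊓ (Cfsg.GU 8 F q ⊓ Cfsg.Geo.specialLinear (Fin 8) F)) ∨
    (∃ (p : ℕ) (R : Subgroup (Matrix.GeneralLinearGroup (Fin 8) F)), p.Prime ∧ q = p ∧ p % 4 = 3 ∧ Cfsg.Geo.IsSymplecticTypeGroup 2 R ∧ Cfsg.Geo.ActsAbsolutelyIrreducibly (Cfsg.Geo.matrixSet R) ∧ R ≤ Cfsg.Geo.similarityGroup (Cfsg.hermForm 8 F q) ∧ Nat.card R = 256 ∧ Nat.card (Subgroup.center R) = 4 ∧ H = Cfsg.Geo.subgroupNormalizer R ⊓ (Cfsg.GU 8 F q ⊓ Cfsg.Geo.specialLinear (Fin 8) F)) ∨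
    Cfsg.Geo.InUnitaryResidualClass H := by
  have hn : 4 ≤ 8 := by norm_num
  have hsize := size_fixed (n := 8) hF (by norm_num) (by norm_num [Nat.factorial])
  rcases unitary_max hF hn hsize hH with ⟨W, h0, hts, heq⟩ | ⟨W, h0, hnd, hdim, heq⟩ |
    ⟨t, k, D, ht, hk, htk, hD, heq⟩ | ⟨k, D, hk, hD, hts, heq⟩ | ⟨r, K, hr, hodd, hrn, hK, hadj, heq⟩ |
    ⟨n₁, n₂, e, P, f₁, f₂, h1, h2, hprod, hf₁, hf₂, hT, heq⟩ |
    ⟨k, t, e, P, f₁, hk, ht, hpow, hex, hf₁, hT, hle⟩ | h | ⟨F₀, P, hodd, hcard, hP, heq⟩ |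
    ⟨F₀, P, ζ, hev, hcard, hζ, hζq, hP, halt, heq⟩ |
    ⟨r, k, p, R, hr, hnk, hp, hrp, hST, habs, hsim, htwo, hthree, heq⟩ | hres
  · exact .inl ⟨W, h0, hts, heq⟩
  · exact .inr (.inl ⟨W, h0, hnd, hdim, heq⟩)
  · have htle : t ≤ 8 := Nat.le_of_dvd (by norm_num) ⟨k, htk.symm⟩
    interval_cases t <;> try omega
    · obtain rfl : k = 4 := by omega
      exact .inr (.inr (.inr (.inr (.inl ⟨D, hD, heq⟩))))
    · obtain rfl : k = 2 := by omega
      rcases planes_or_lines hF hn hsize hH hD (by norm_num) heq with h3 | h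
      · exact .inr (.inr (.inr (.inl ⟨h3, D, hD, heq⟩)))
      · exact .inr (.inr (.inl h))
    · obtain rfl : k = 1 := by omega
      exact .inr (.inr (.inl ⟨D, hD, heq⟩))
  · obtain rfl : k = 4 := by omega
    exact .inr (.inr (.inr (.inr (.inr (.inl ⟨D, hD, hts, heq⟩)))))
  · have := Nat.le_of_dvd (by norm_num) hrn
    have := hr.two_le
    interval_cases r <;> first
      | omega
      | exact absurd hodd (by decide)
      | exact absurd hr (by decide)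
  · obtain ⟨rfl, rfl⟩ := factor_unique (a := 4) hprod h1 h2 (by norm_num) rfl
    rcases tensor_or_blocks hF hn hsize hH (by norm_num) hf₁ hf₂ hT heq with h3 | h
    · exact .inr (.inr (.inr (.inr (.inr (.inr (.inl ⟨h3, e, P, f₁, f₂, hf₁, hf₂, hT, heq⟩))))))
    · exact .inr (.inr (.inr (.inr (.inl h))))
  · have := wreath_bound hk ht hpow
    omega
  · exact .inr (.inr (.inr (.inr (.inr (.inr (.inr (.inl h)))))))
  · exact .inr (.inr (.inr (.inr (.inr (.inr (.inr (.inr (.inr (.inl ⟨hodd, F₀, P, hcard, hP, heq⟩)))))))))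
  · exact .inr (.inr (.inr (.inr (.inr (.inr (.inr (.inr (.inl ⟨F₀, P, ζ, hcard, hζ, hζq, hP, halt, heq⟩))))))))
  · have hk1 : 1 ≤ k := by
      by_contra h
      rw [show k = 0 by omega, pow_zero] at hnk
      omega
    obtain rfl : r = 2 := prime_base (k := 3) Nat.prime_two hr hk1 (by rw [← hnk]; norm_num)
    obtain rfl : k = 3 := Nat.pow_right_injective le_rfl (hnk.symm.trans (by norm_num : 8 = 2 ^ 3))
    obtain ⟨hq, h4, hz, hc⟩ := htwo rfl
    exact .inr (.inr (.inr (.inr (.inr (.inr (.inr (.inr (.inr (.inr (.inl ⟨p, R, hp, hq, h4, hST, habs, hsim, hc, hz, heq⟩))))))))))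
  · exact .inr (.inr (.inr (.inr (.inr (.inr (.inr (.inr (.inr (.inr (.inr (hres)))))))))))


end Cfsg.Agent.S5820
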