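import Cfsg.Statements.S5823
import Cfsg.Agent.Lib.Classical.AschSp.CubeBack
import Cfsg.Agent.Lib.Classical.AschSp.Rows

set_option autoImplicit false
open Cfsg

namespace Cfsg.Agent.S5823

/-- Every maximal subgroup of Sp_8(q) is of one of the listed geometric types or lies in the residual class. Let F be a finite field with q elements, f the standard alternating form on F^8 (coordinates Fin 4 ⊕ Fin 4), and H a maximal subgroup of Sp_8(F) (inside GL_8(F)). Then H is the intersection with Sp_8(F) of one of: the stabiliser of a non-zero totally isotropic subspace; the stabiliser of a non-degenerate 2-space; for q ≥ 3, the stabiliser of a decomposition into four mutually orthogonal non-degenerate 2-spaces; of a decomposition into two orthogonal non-degenerate 4-spaces; for q odd, of a decomposition into two totally isotropic 4-spaces; the normaliser of a degree-2 subfield K,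 self-adjoint with f(k v, v) = 0; for q odd, the normaliser of a degree-2 subfield closed under adjoints but not self-adjoint; for q odd, the stabiliser of a tensor decomposition of f into an alternating form on F^2 and a minus-type symmetric form on F^4; a subfield group (|F| = |F₀|^r, r prime) whose F₀-structure carries a non-zero multiple of f; for q = p an odd prime, the normaliser of an absolutely irreducible extraspecial group 2_-^(1+6) of exponent 4 inside the similarity group of f; for q odd, q ≥ 5, the stabiliser of a tensor decomposition of f as a third tensor power of an alternating form on F^2; for q even, the similarity group of a non-degenerate quadratic form polarising to f — or else H lies in the residual class of the symplectic case. -/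
theorem result {F : Type*} [Field F] [Fintype F] (H : Subgroup (Matrix.GeneralLinearGroup (Fin 4 ⊕ Fin 4) F)) (hH : Cfsg.Geo.IsMaximalIn (Cfsg.spGL 4 F) H) :
    (∃ W : Submodule F (Fin 4 ⊕ Fin 4 → F), W ≠ ⊥ ∧ Cfsg.Geo.IsTotallySingularFor (Cfsg.sympForm 4 F) W ∧ H = Cfsg.Geo.subspaceStabilizer W ⊓ Cfsg.spGL 4 F) ∨
    (∃ W : Submodule F (Fin 4 ⊕ Fin 4 → F), W ≠ ⊥ ∧ Cfsg.Geo.IsNondegenerateOn (Cfsg.sympForm 4 F) W ∧ Module.finrank F W < 4 ∧ H = Cfsg.Geo.subspaceStabilizer W ⊓ Cfsg.spGL 4 F) ∨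
    (3 ≤ Fintype.card F ∧ ∃ D : Fin 4 → Submodule F (Fin 4 ⊕ Fin 4 → F), Cfsg.Geo.IsNondegenerateMDecomposition (Cfsg.sympForm 4 F) 2 D ∧ H = Cfsg.Geo.decompositionStabilizer D ⊓ Cfsg.spGL 4 F) ∨
    (∃ D : Fin 2 → Submodule F (Fin 4 ⊕ Fin 4 → F), Cfsg.Geo.IsNondegenerateMDecomposition (Cfsg.sympForm 4 F) 4 D ∧ H = Cfsg.Geo.decompositionStabilizer D ⊓ Cfsg.spGL 4 F) ∨
    (Odd (Fintype.card F) ∧ ∃ D : Fin 2 → Submodule F (Fin 4 ⊕ Fin 4 → F), Cfsg.Geo.IsMDecomposition 4 D ∧ (∀ i, Cfsg.Geo.IsTotallySingularFor (Cfsg.sympForm 4 F) (D i)) ∧ H = Cfsg.Geo.decompositionStabilizer D ⊓ Cfsg.spGL 4 F) ∨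
    (∃ K : Subalgebra F (Matrix (Fin 4 ⊕ Fin 4) (Fin 4 ⊕ Fin 4) F), Cfsg.Geo.IsFieldSubalgebra 2 K ∧ Cfsg.Geo.IsSelfAdjointFor (Cfsg.sympForm 4 F) K ∧ (∀ k ∈ K, ∀ v : (Fin 4 ⊕ Fin 4 → F), (Cfsg.sympForm 4 F) (Matrix.mulVec k v) v = 0) ∧ H = Cfsg.Geo.subalgebraNormalizer K ⊓ Cfsg.spGL 4 F) ∨
    (Odd (Fintype.card F) ∧ ∃ K : Subalgebra F (Matrix (Fin 4 ⊕ Fin 4) (Fin 4 ⊕ Fin 4) F), Cfsg.Geo.IsFieldSubalgebra 2 K ∧ Cfsg.Geo.IsAdjointClosedFor (Cfsg.sympForm 4 F) K ∧ ¬ Cfsg.Geo.IsSelfAdjointFor (Cfsg.sympForm 4 F) K ∧ H = Cfsg.Geo.subalgebraNormalizer K ⊓ Cfsg.spGL 4 F) ∨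
    (Odd (Fintype.card F) ∧ ∃ (e : (Fin 4 ⊕ Fin 4) ≃ Fin 2 × Fin 4) (P : Matrix.GeneralLinearGroup (Fin 4 ⊕ Fin 4) F) (f₁ : (Fin 2 → F) → (Fin 2 → F) → F) (f₂ : (Fin 4 → F) → (Fin 4 → F) → F), Cfsg.Geo.IsSymplecticForm f₁ ∧ Cfsg.Geo.IsSymmetricForm f₂ ∧ ¬ Cfsg.Geo.IsPlusTypeOn (fun v : Fin 4 → F => f₂ v v) ⊤ ∧ Cfsg.Geo.IsTensorFormStructure id (Cfsg.sympForm 4 F) f₁ f₂ e P ∧ H = Cfsg.Geo.tensorProductSubgroup 2 4 e P ⊓ Cfsg.spGL 4 F) ∨
    (∃ (F₀ : Subfield F) (r : ℕ) (P : Matrix.GeneralLinearGroup (Fin 4 ⊕ Fin 4) F) (ζ : F), r.Prime ∧ Fintype.card F = Nat.card F₀ ^ r ∧ ζ ≠ 0 ∧ Cfsg.Geo.IsFormRationalStructure (Cfsg.sympForm 4 F) F₀ ζ P ∧ H = Cfsg.Geo.subfieldSubgroup F₀ P ⊓ Cfsg.spGL 4 F) ∨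
    (∃ (p : ℕ) (R : Subgroup (Matrix.GeneralLinearGroup (Fin 4 ⊕ Fin 4) F)), p.Prime ∧ Odd p ∧ Fintype.card F = p ∧ Cfsg.Geo.IsSymplecticTypeGroup 2 R ∧ Cfsg.Geo.ActsAbsolutelyIrreducibly (Cfsg.Geo.matrixSet R) ∧ R ≤ Cfsg.Geo.similarityGroup (Cfsg.sympForm 4 F) ∧ Nat.card R = 128 ∧ Nat.card (Subgroup.center R) = 2 ∧ Cfsg.Geo.IsOfMinusType 3 R ∧ H = Cfsg.Geo.subgroupNormalizer R ⊓ Cfsg.spGL 4 F) ∨
    (Odd (Fintype.card F) ∧ 5 ≤ Fintype.card F ∧ ∃ (e : (Fin 4 ⊕ Fin 4) ≃ (Fin 3 → Fin 2)) (P : Matrix.GeneralLinearGroup (Fin 4 ⊕ Fin 4) F) (f₁ : (Fin 2 → F) → (Fin 2 → F) → F), Cfsg.Geo.IsSymplecticForm f₁ ∧ Cfsg.Geo.IsTensorPowerFormStructure id (Cfsg.sympForm 4 F) f₁ e P ∧ H = Cfsg.Geo.tensorWreathSubgroup 2 3 e P ⊓ Cfsg.spGL 4 F) ∨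
    (¬ Odd (Fintype.card F) ∧ ∃ Q : (Fin 4 ⊕ Fin 4 → F) → F, Cfsg.Geo.IsNondegenerateQuadraticForm Q ∧ (∀ u v : (Fin 4 ⊕ Fin 4 → F), QuadraticMap.polar Q u v = (Cfsg.sympForm 4 F) u v) ∧ H = Cfsg.Geo.quadSimilarityGroup Q ⊓ Cfsg.spGL 4 F) ∨
    Cfsg.Geo.InSymplecticResidualClass H := by
  classical
  have hf := CfsgLib.Classical.AschSp.sympForm_symplectic (F := F) 4
  rcases CfsgLib.Classical.AschSp.sp_le (d := 8) (by simp) hf (by omega) hH.1.le with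
    ⟨W, h0, hts, hl⟩ | ⟨W, h0, hnd, hlt, hl⟩ | ⟨t, k, D, hk, hk2, ht, htk, hq3, hD, hl⟩ |
    ⟨ho, k, D, hk, hD, hts, hl⟩ | ⟨r, K, hr, hdvd, hK, hsa, halt, hl⟩ | ⟨ho, K, hK, hac, hnsa, hl⟩ |
    ⟨ho, n₁, n₂, e, P, f₁, f₂, h1, he, h2, hprod, -, hf1, hf2, hst, hl⟩ |
    ⟨F₀, r, P, ζ, hr, hc, hζ, hrs, hl⟩ | ⟨ho, Q, hQ, hpol, hl⟩ |
    ⟨R, p, k, hdk, hsym, habs, hRs, hp, hpo, hq, hcard, hcen, hmin, hl⟩ |
    ⟨k, t, e, P, f₁, ho, hto, ht, hk, hkt, hne, hf1, hst, hl⟩ | hres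
  · exact .inl ⟨W, h0, hts, hl.eq hH⟩
  · exact .inr (.inl ⟨W, h0, hnd, by omega, hl.eq hH⟩)
  · obtain ⟨htd, rfl⟩ := CfsgLib.Classical.AschSp.factor_cases (by omega) htk
    obtain rfl | rfl : t = 2 ∨ t = 4 := by fin_cases htd <;> simp_all +decide [Nat.even_iff]
    · exact .inr (.inr (.inr (.inl ⟨D, hD, hl.eq hH⟩)))
    · exact .inr (.inr (.inl ⟨hq3 (by norm_num), D, hD, hl.eq hH⟩))
  · obtain rfl : k = 4 := by omega
    exact .inr (.inr (.inr (.inr (.inl ⟨ho, D, hD, hts, hl.eq hH⟩))))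
  · obtain rfl : r = 2 := by
      have := CfsgLib.Classical.AschSp.prime_dvd_cases (by omega) hdvd
      fin_cases this <;> simp_all +decide
    exact .inr (.inr (.inr (.inr (.inr (.inl ⟨K, hK, hsa, halt, hl.eq hH⟩)))))
  · exact .inr (.inr (.inr (.inr (.inr (.inr (.inl ⟨ho, K, hK, hac, hnsa, hl.eq hH⟩))))))
  · obtain ⟨hn, rfl⟩ := CfsgLib.Classical.AschSp.factor_cases (by omega) hprod
    obtain rfl : n₁ = 2 := by
      fin_cases hn <;> simp_all +decide [Nat.even_iff]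
    by_cases hplus : Cfsg.Geo.IsPlusTypeOn (fun v : Fin 4 → F => f₂ v v) ⊤
    · rcases CfsgLib.Classical.AschSp.plus_back (Fintype.equivFinOfCardEq (n := 8) (by simp)) hf ho
          hf1 hf2 hplus hst hH.1.le hl.1 with
        ⟨h5, eW, P', g, hg, hgs, hl'⟩ | ⟨R, hq, hsym, habs, hRs, hcard, hcen, hmin, hl'⟩
      · exact .inr (.inr (.inr (.inr (.inr (.inr (.inr (.inr (.inr (.inr (.inl ⟨ho, h5, eW, P', g, hg,
          hgs, hl'.eq hH⟩))))))))))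
      · exact .inr (.inr (.inr (.inr (.inr (.inr (.inr (.inr (.inr (.inl ⟨3, R, Nat.prime_three,
          by decide, hq, hsym, habs, hRs, hcard, hcen, hmin, hl'.eq hH⟩)))))))))
    · exact .inr (.inr (.inr (.inr (.inr (.inr (.inr (.inl ⟨ho, e, P, f₁, f₂, hf1, hf2, hplus, hst,
        hl.eq hH⟩)))))))
  · exact .inr (.inr (.inr (.inr (.inr (.inr (.inr (.inr (.inl
      ⟨F₀, r, P, ζ, hr, hc, hζ, hrs, hl.eq hH⟩))))))))
  · exact .inr (.inr (.inr (.inr (.inr (.inr (.inr (.inr (.inr (.inr (.inr (.inl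
      ⟨ho, Q, hQ, hpol, hl.eq hH⟩)))))))))))
  · obtain rfl : k = 3 := Nat.pow_right_injective le_rfl (show 2 ^ k = 2 ^ 3 by rw [← hdk])
    exact .inr (.inr (.inr (.inr (.inr (.inr (.inr (.inr (.inr (.inl ⟨p, R, hp, hpo, hq, hsym, habs,
      hRs, by rw [hcard]; rfl, hcen, hmin, hl.eq hH⟩)))))))))
  · have hk2 : k = 2 := by
      by_contra h
      have h1 : k ^ 3 ≤ k ^ t := Nat.pow_le_pow_right (by omega) ht
      have h2 : 3 ^ 3 ≤ k ^ 3 := Nat.pow_le_pow_left (by omega) 3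
      omega
    subst hk2
    obtain rfl : t = 3 := Nat.pow_right_injective le_rfl (show 2 ^ t = 2 ^ 3 by rw [hkt])
    have h5 : 5 ≤ Fintype.card F := by
      have := Fintype.one_lt_card (α := F)
      obtain ⟨c, hc⟩ := ho
      have : Fintype.card F ≠ 3 := fun h => hne ⟨h, rfl⟩
      omega
    exact .inr (.inr (.inr (.inr (.inr (.inr (.inr (.inr (.inr (.inr (.inl ⟨ho, h5, e, P, f₁, hf1, hst,
      hl.eq hH⟩))))))))))
  · exact .inr (.inr (.inr (.inr (.inr (.inr (.inr (.inr (.inr (.inr (.inr (.inr hres)))))))))))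

end Cfsg.Agent.S5823
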