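import Cfsg.Statements.S5825
import Cfsg.Agent.Lib.Classical.OrthND8
import Cfsg.Agent.Lib.Classical.PointMax
import Cfsg.Agent.Lib.Classical.FieldExtOrth.Matrix
import Cfsg.Agent.Lib.Classical.SubfieldOrth.QuadMax
import Cfsg.Agent.Lib.KnownC.OrthTools

set_option autoImplicit false
open Cfsg

namespace Cfsg.Agent.S5825

/-- Maximal subgroups of Ω_8^-(q) of geometric type (any q). Let F be a finite field with q elements, Q a non-degenerate quadratic form on F^8 (non-degenerate polar form) of minus type (Witt index 3: no totally singular 4-space), and Ω = Ω_8^-(q) the commutator subgroup of the isometry group of Q, inside GL_8(F). Each of the following, intersected with Ω, is a maximal subgroup of Ω: (1) the stabiliser of any non-zero subspace on which Q vanishes identically (totally singular 1-, 2- and 3-spaces); (2) for q odd, the stabiliser of any proper subspace of odd dimension (1, 3, 5 or 7) on which the polar form of Q is non-degenerate; (3) the stabiliser of any non-degenerate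 2-space of minus type (containing no non-zero singular vector); (4) for q ≥ 4, the stabiliser of any non-degenerate 2-space of plus type (containing a non-zero singular vector); (5) the stabiliser of any non-degenerate 4-space (its orthogonal complement is then a non-degenerate 4-space of the opposite type); (6) for q even, the stabiliser of the 1-space spanned by any non-singular vector v (Q(v) ≠ 0); (7) for q odd, the normaliser of any degree-2 subfield K of the matrix algebra whose elements are self-adjoint for the polar form of Q (Q is then the trace of a quadratic form over K); (8) every subfield group for a subfield F₀ of odd prime index r in F whose F₀-structure carries a non-zero scalar multiple of Q. -/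
theorem result {F : Type*} [Field F] [Fintype F] (Q : (Fin 8 → F) → F) (hQ : Cfsg.Geo.IsNondegenerateQuadraticForm Q) (hminus : ¬ Cfsg.Geo.IsPlusTypeOn Q ⊤) :
    (∀ W : Submodule F (Fin 8 → F), W ≠ ⊥ → Cfsg.Geo.IsTotallySingularQuad Q W → Cfsg.Geo.IsMaximalIn (Cfsg.Geo.omegaGL Q) (Cfsg.Geo.subspaceStabilizer W ⊓ Cfsg.Geo.omegaGL Q)) ∧
    (Odd (Fintype.card F) → ∀ W : Submodule F (Fin 8 → F), W ≠ ⊥ → W ≠ ⊤ → Odd (Module.finrank F W) → Cfsg.Geo.IsNondegenerateOn (QuadraticMap.polar Q) W → Cfsg.Geo.IsMaximalIn (Cfsg.Geo.omegaGL Q) (Cfsg.Geo.subspaceStabilizer W ⊓ Cfsg.Geo.omegaGL Q)) ∧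
    (∀ W : Submodule F (Fin 8 → F), Module.finrank F W = 2 → Cfsg.Geo.IsNondegenerateOn (QuadraticMap.polar Q) W → ¬ Cfsg.Geo.IsPlusTypeOn Q W → Cfsg.Geo.IsMaximalIn (Cfsg.Geo.omegaGL Q) (Cfsg.Geo.subspaceStabilizer W ⊓ Cfsg.Geo.omegaGL Q)) ∧
    (4 ≤ Fintype.card F → ∀ W : Submodule F (Fin 8 → F), Module.finrank F W = 2 → Cfsg.Geo.IsNondegenerateOn (QuadraticMap.polar Q) W → Cfsg.Geo.IsPlusTypeOn Q W → Cfsg.Geo.IsMaximalIn (Cfsg.Geo.omegaGL Q) (Cfsg.Geo.subspaceStabilizer W ⊓ Cfsg.Geo.omegaGL Q)) ∧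
    (∀ W : Submodule F (Fin 8 → F), Module.finrank F W = 4 → Cfsg.Geo.IsNondegenerateOn (QuadraticMap.polar Q) W → Cfsg.Geo.IsMaximalIn (Cfsg.Geo.omegaGL Q) (Cfsg.Geo.subspaceStabilizer W ⊓ Cfsg.Geo.omegaGL Q)) ∧
    (¬ Odd (Fintype.card F) → ∀ v : (Fin 8 → F), Q v ≠ 0 → Cfsg.Geo.IsMaximalIn (Cfsg.Geo.omegaGL Q) (Cfsg.Geo.subspaceStabilizer (Submodule.span F {v}) ⊓ Cfsg.Geo.omegaGL Q)) ∧
    (Odd (Fintype.card F) → ∀ K : Subalgebra F (Matrix (Fin 8) (Fin 8) F), Cfsg.Geo.IsFieldSubalgebra 2 K → Cfsg.Geo.IsSelfAdjointFor (QuadraticMap.polar Q) K → Cfsg.Geo.IsMaximalIn (Cfsg.Geo.omegaGL Q) (Cfsg.Geo.subalgebraNormalizer K ⊓ Cfsg.Geo.omegaGL Q)) ∧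
    (∀ (F₀ : Subfield F) (r : ℕ) (P : Matrix.GeneralLinearGroup (Fin 8) F) (ζ : F), r.Prime → Odd r → Fintype.card F = Nat.card F₀ ^ r → ζ ≠ 0 → Cfsg.Geo.IsQuadFormRationalStructure (fun v : Fin 8 → F => ζ * Q v) F₀ P → Cfsg.Geo.IsMaximalIn (Cfsg.Geo.omegaGL Q) (Cfsg.Geo.subfieldSubgroup F₀ P ⊓ Cfsg.Geo.omegaGL Q)) := by
  classical
  obtain ⟨Q', hQf, hQ'⟩ := CfsgLib.Classical.exists_quadOf hQ
  have hQ0 := hQ
  obtain rfl : Q = ⇑Q' := funext hQf
  have hn : Module.finrank F (Fin 8 → F) = 8 := Module.finrank_fin_fun F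
  have h4 : CfsgLib.Orth.Good F (Fin 8 → F) := Or.inr (by omega)
  have hno : ∀ S : Submodule F (Fin 8 → F), (∀ v ∈ S, Q' v = 0) → Module.finrank F S < 4 := fun S hS => by
    have h1 := CfsgLib.Orth.singular_finrank_le hQ' S hS
    refine lt_of_le_of_ne (by omega) fun h => hminus ⟨S, le_top, hS, ?_⟩
    rw [finrank_top]; omega
  have nd : ∀ W : Submodule F (Fin 8 → F), Cfsg.Geo.IsNondegenerateOn (QuadraticMap.polar ⇑Q') W →
      CfsgLib.Classical.NdSub Q' W := fun W hW => CfsgLib.Classical.ndSub_of_on fun w hw hw0 => (hW w hw hw0).2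
  have hPd := CfsgLib.Classical.finrank_qperp hQ'
  refine ⟨fun W hW0 hW => ?_, fun _ W hW0 hW1 hWo hW => ?_, fun W hW2 hW hWm => ?_, fun hq W hW2 hW _ => ?_,
    fun W hW4 hW => ?_, fun hchar v hv => ?_, fun hodd K hK hsa => ?_, fun F₀ r P ζ hr _ hcard hζ hP => ?_⟩
  · refine CfsgLib.Classical.singular_isMaximalIn Q' hQf hQ' h4 (by omega) W hW hW0 ?_
    by_cases hk : 2 * Module.finrank F W + 3 ≤ Module.finrank F (Fin 8 → F)
    · exact Or.inl hk
    · exact Or.inr fun u hu hup => CfsgLib.Classical.singular_perp_mem_of_top hW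
        (fun U hU => by have := hno U hU; have := hno W hW; omega) hu hup
  · refine CfsgLib.Classical.nondeg8_isMaximalIn Q' hQf hQ' h4 hn hno W (nd W hW) hW0 hW1 fun P hP hP2 => ?_
    right
    have hPn : CfsgLib.Classical.NdSub Q' P := by
      rcases hP with rfl | rfl
      · exact nd _ hW
      · exact CfsgLib.Classical.ndSub_qperp hQ' (nd W hW)
    have hP1 : Module.finrank F P ≤ 1 := by
      obtain ⟨j, hj⟩ := hWo
      have h1 := hPd W
      rcases hP with rfl | rfl <;> omega
    intro v hv hv0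
    by_contra hne
    have hspan : F ∙ v = P := Submodule.eq_of_le_of_finrank_le ((Submodule.span_singleton_le_iff_mem _ _).2 hv)
      (by rw [finrank_span_singleton hne]; exact hP1)
    refine hne (CfsgLib.Classical.ndSub_eq_zero hPn hv fun x hx => ?_)
    rw [← hspan] at hx
    obtain ⟨t, rfl⟩ := Submodule.mem_span_singleton.1 hx
    show QuadraticMap.polar Q' (t • v) v = 0
    rw [CfsgLib.Orth.polar_smul_l', CfsgLib.Orth.polar_self', hv0]; ring
  · refine CfsgLib.Classical.nondeg8_isMaximalIn Q' hQf hQ' h4 hn hno W (nd W hW)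
      (fun e => by rw [e, finrank_bot] at hW2; omega) (fun e => by rw [e, finrank_top] at hW2; omega) fun P hP hP2 => ?_
    rcases hP with rfl | rfl
    · refine Or.inr fun v hv hv0 => by_contra fun hne => hWm ⟨F ∙ v, (Submodule.span_singleton_le_iff_mem _ _).2 hv,
        fun x hx => ?_, by rw [finrank_span_singleton hne, hW2]⟩
      obtain ⟨t, rfl⟩ := Submodule.mem_span_singleton.1 hx
      rw [CfsgLib.Orth.quad_smul', hv0, mul_zero]
    · have h1 := hPd W; omega
  · exact CfsgLib.Classical.nondeg8_isMaximalIn Q' hQf hQ' h4 hn hno W (nd W hW)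
      (fun e => by rw [e, finrank_bot] at hW2; omega) (fun e => by rw [e, finrank_top] at hW2; omega)
      fun P _ _ => Or.inl hq
  · refine CfsgLib.Classical.nondeg8_isMaximalIn Q' hQf hQ' h4 hn hno W (nd W hW)
      (fun e => by rw [e, finrank_bot] at hW4; omega) (fun e => by rw [e, finrank_top] at hW4; omega) fun P hP hP2 => ?_
    have h1 := hPd W
    rcases hP with rfl | rfl <;> omega
  · obtain ⟨hp⟩ := CfsgLib.Classical.exists_hypPairs hQ' (by omega)
    have h2 : (2 : F) = 0 := by
      have hev := Nat.not_odd_iff_even.1 hchar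
      obtain ⟨p, hpc⟩ := CharP.exists F
      obtain ⟨k, hk, hc⟩ := FiniteField.card F p
      have hp2 : p = 2 := by
        rw [hc] at hev
        exact ((Nat.even_pow.1 hev).1 |> even_iff_two_dvd.1 |> (Nat.prime_dvd_prime_iff_eq Nat.prime_two hk).1).symm
      subst hp2
      exact_mod_cast (CharP.cast_eq_zero F 2)
    exact CfsgLib.Classical.omega_isMaximalIn Q' hQf _
      (CfsgLib.Classical.PointMax.exists_not_stab_point hQ' h4 hp (by omega)
        (fun h => hv (by rw [h, QuadraticMap.map_zero])))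
      fun M hM g hg _ hgW => CfsgLib.Classical.PointMax.point_top hQ' h4 hp (by omega) h2 hv hM hg hgW
  · exact CfsgLib.Classical.FieldExtOrth.omega_isMaximal' hQ0
      (CfsgLib.KnownC.OrthTools.two_ne_zero_of_odd rfl hodd) Nat.prime_two hK hsa (by rw [Fintype.card_fin])
  · exact CfsgLib.Classical.SubfieldOrth.subfield_isMaximalIn Q' hQf hQ' h4 (by rw [Fintype.card_fin]; omega) F₀ hr hcard P
      hζ hP

end Cfsg.Agent.S5825
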