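import Cfsg.Statements.S5832
import Cfsg.Agent.Lib.Classical.AschForm.UnitaryRows

set_option autoImplicit false
open Cfsg

namespace Cfsg.Agent.S5832

open CfsgLib.Classical.AschForm CfsgLib.Classical.AschGen CfsgLib.Classical.AschPrime

/-- Every maximal subgroup of SU_9(q) is of one of the listed geometric types or lies in the residual class. Let F be the field with q² elements, f the standard unitary form Σ u_i v_i^q on F^9, and H a maximal subgroup of SU_9(q) (inside GL_9(F)). Then H is the intersection with SU_9(q) of one of: the stabiliser of a non-zero totally isotropic subspace; the stabiliser of a non-degenerate 1-, 2-, 3- or 4-space; the stabiliser of a decomposition into nine mutually orthogonal non-degenerate 1-spaces; of a decomposition into three mutually orthogonal non-degenerate 3-spaces; the normaliser of an adjoint-closed degree-3 subfield of the matrix algebra; a subfield group of odd prime index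 whose F₀-structure carries f; for q odd, a subfield group of index 2 whose F₀-structure carries f; for q = p ≡ 2 mod 3 prime, the normaliser of an absolutely irreducible extraspecial group 3_+^(1+4) of exponent 3 inside the similarity group of f; for q ≥ 3, the stabiliser of a tensor decomposition of f as a tensor square of a unitary form on F^3 — or else H lies in the residual class of the unitary case. -/
theorem result {F : Type*} [Field F] [Fintype F] (q : ℕ) (hF : Fintype.card F = q ^ 2) (H : Subgroup (Matrix.GeneralLinearGroup (Fin 9) F)) (hH : Cfsg.Geo.IsMaximalIn (Cfsg.GU 9 F q ⊓ Cfsg.Geo.specialLinear (Fin 9) F) H) :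
    (∃ W : Submodule F (Fin 9 → F), W ≠ ⊥ ∧ Cfsg.Geo.IsTotallySingularFor (Cfsg.hermForm 9 F q) W ∧ H = Cfsg.Geo.subspaceStabilizer W ⊓ (Cfsg.GU 9 F q ⊓ Cfsg.Geo.specialLinear (Fin 9) F)) ∨
    (∃ W : Submodule F (Fin 9 → F), W ≠ ⊥ ∧ Cfsg.Geo.IsNondegenerateOn (Cfsg.hermForm 9 F q) W ∧ 2 * Module.finrank F W < 9 ∧ H = Cfsg.Geo.subspaceStabilizer W ⊓ (Cfsg.GU 9 F q ⊓ Cfsg.Geo.specialLinear (Fin 9) F)) ∨
    (∃ D : Fin 9 → Submodule F (Fin 9 → F), Cfsg.Geo.IsNondegenerateMDecomposition (Cfsg.hermForm 9 F q) 1 D ∧ H = Cfsg.Geo.decompositionStabilizer D ⊓ (Cfsg.GU 9 F q ⊓ Cfsg.Geo.specialLinear (Fin 9) F)) ∨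
    (∃ D : Fin 3 → Submodule F (Fin 9 → F), Cfsg.Geo.IsNondegenerateMDecomposition (Cfsg.hermForm 9 F q) 3 D ∧ H = Cfsg.Geo.decompositionStabilizer D ⊓ (Cfsg.GU 9 F q ⊓ Cfsg.Geo.specialLinear (Fin 9) F)) ∨
    (∃ K : Subalgebra F (Matrix (Fin 9) (Fin 9) F), Cfsg.Geo.IsFieldSubalgebra 3 K ∧ Cfsg.Geo.IsAdjointClosedFor (Cfsg.hermForm 9 F q) K ∧ H = Cfsg.Geo.subalgebraNormalizer K ⊓ (Cfsg.GU 9 F q ⊓ Cfsg.Geo.specialLinear (Fin 9) F)) ∨
    (∃ (F₀ : Subfield F) (r : ℕ) (P : Matrix.GeneralLinearGroup (Fin 9) F), r.Prime ∧ Odd r ∧ Fintype.card F = Nat.card F₀ ^ r ∧ Cfsg.Geo.IsFormRationalStructure (Cfsg.hermForm 9 F q) F₀ 1 P ∧ H = Cfsg.Geo.subfieldSubgroup F₀ P ⊓ (Cfsg.GU 9 F q ⊓ Cfsg.Geo.specialLinear (Fin 9) F)) ∨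
    (Odd q ∧ ∃ (F₀ : Subfield F) (P : Matrix.GeneralLinearGroup (Fin 9) F), Fintype.card F = Nat.card F₀ ^ 2 ∧ Cfsg.Geo.IsFormRationalStructure (Cfsg.hermForm 9 F q) F₀ 1 P ∧ H = Cfsg.Geo.subfieldSubgroup F₀ P ⊓ (Cfsg.GU 9 F q ⊓ Cfsg.Geo.specialLinear (Fin 9) F)) ∨
    (∃ (p : ℕ) (R : Subgroup (Matrix.GeneralLinearGroup (Fin 9) F)), p.Prime ∧ q = p ∧ p % 3 = 2 ∧ Cfsg.Geo.IsSymplecticTypeGroup 3 R ∧ Cfsg.Geo.ActsAbsolutelyIrreducibly (Cfsg.Geo.matrixSet R) ∧ R ≤ Cfsg.Geo.similarityGroup (Cfsg.hermForm 9 F q) ∧ Nat.card R = 243 ∧ Nat.card (Subgroup.center R) = 3 ∧ H = Cfsg.Geo.subgroupNormalizer R ⊓ (Cfsg.GU 9 F q ⊓ Cfsg.Geo.specialLinear (Fin 9) F)) ∨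
    (3 ≤ q ∧ ∃ (e : Fin 9 ≃ (Fin 2 → Fin 3)) (P : Matrix.GeneralLinearGroup (Fin 9) F) (f₁ : (Fin 3 → F) → (Fin 3 → F) → F), Cfsg.Geo.IsUnitaryFormPow q f₁ ∧ Cfsg.Geo.IsTensorPowerFormStructure (fun x : F => x ^ q) (Cfsg.hermForm 9 F q) f₁ e P ∧ H = Cfsg.Geo.tensorWreathSubgroup 3 2 e P ⊓ (Cfsg.GU 9 F q ⊓ Cfsg.Geo.specialLinear (Fin 9) F)) ∨
    Cfsg.Geo.InUnitaryResidualClass H := by
  have hn : 4 ≤ 9 := by norm_num
  have hsize := size_fixed (n := 9) hF (by norm_num) (by norm_num [Nat.factorial])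
  rcases unitary_max hF hn hsize hH with ⟨W, h0, hts, heq⟩ | ⟨W, h0, hnd, hdim, heq⟩ |
    ⟨t, k, D, ht, hk, htk, hD, heq⟩ | ⟨k, D, hk, hD, hts, heq⟩ | ⟨r, K, hr, hodd, hrn, hK, hadj, heq⟩ |
    ⟨n₁, n₂, e, P, f₁, f₂, h1, h2, hprod, hf₁, hf₂, hT, heq⟩ |
    ⟨k, t, e, P, f₁, hk, ht, hpow, hex, hf₁, hT, hle⟩ | h | ⟨F₀, P, hodd, hcard, hP, heq⟩ |
    ⟨F₀, P, ζ, hev, hcard, hζ, hζq, hP, halt, heq⟩ |
    ⟨r, k, p, R, hr, hnk, hp, hrp, hST, habs, hsim, htwo, hthree, heq⟩ | hres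
  · exact .inl ⟨W, h0, hts, heq⟩
  · exact .inr (.inl ⟨W, h0, hnd, hdim, heq⟩)
  · have htle : t ≤ 9 := Nat.le_of_dvd (by norm_num) ⟨k, htk.symm⟩
    interval_cases t <;> try omega
    · obtain rfl : k = 3 := by omega
      exact .inr (.inr (.inr (.inl ⟨D, hD, heq⟩)))
    · obtain rfl : k = 1 := by omega
      exact .inr (.inr (.inl ⟨D, hD, heq⟩))
  · omega
  · have := Nat.le_of_dvd (by norm_num) hrn
    have := hr.two_le
    interval_cases r <;> first
      | exact .inr (.inr (.inr (.inr (.inl ⟨K, hK, hadj, heq⟩))))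
      | omega
      | exact absurd hr (by decide)
  · exfalso
    have h11 := Nat.mul_le_mul_left n₁ h2.le
    have hle : n₁ ≤ 3 := by nlinarith
    interval_cases n₁ <;> omega
  · have := wreath_bound hk ht hpow
    obtain rfl : k = 3 := by nlinarith
    obtain rfl : t = 2 := Nat.pow_right_injective (by norm_num) (hpow.trans (by norm_num : 9 = 3 ^ 2))
    have h3 : 3 ≤ q := by
      rcases q_cases hF with h | h
      · exact h
      · exact absurd ⟨h, rfl⟩ hex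
    refine .inr (.inr (.inr (.inr (.inr (.inr (.inr (.inr (.inl ⟨h3, e, P, f₁, hf₁, hT, maximal_eq_inf hH hle (suG_not_le_wreath hF e P ?_)⟩))))))))
    refine lt_of_lt_of_le ?_ (suG_card_ge_three hF (by norm_num))
    norm_num
    have : 0 < q ^ 36 := pow_pos (by omega) _
    omega
  · exact .inr (.inr (.inr (.inr (.inr (.inl h)))))
  · exact .inr (.inr (.inr (.inr (.inr (.inr (.inl ⟨hodd, F₀, P, hcard, hP, heq⟩))))))
  · exact absurd hev (by decide)
  · have hk1 : 1 ≤ k := by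
      by_contra h
      rw [show k = 0 by omega, pow_zero] at hnk
      omega
    obtain rfl : r = 3 := prime_base (k := 2) Nat.prime_three hr hk1 (by rw [← hnk]; norm_num)
    obtain rfl : k = 2 := Nat.pow_right_injective (by norm_num) (hnk.symm.trans (by norm_num : 9 = 3 ^ 2))
    obtain ⟨hq, h4, hz, hc⟩ := hthree rfl
    exact .inr (.inr (.inr (.inr (.inr (.inr (.inr (.inl ⟨p, R, hp, hq, h4, hST, habs, hsim, hc, hz, heq⟩)))))))
  · exact .inr (.inr (.inr (.inr (.inr (.inr (.inr (.inr (.inr (hres)))))))))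


end Cfsg.Agent.S5832
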