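import Cfsg.Statements.S5838
import Cfsg.Agent.Lib.Classical.AschGen.Rows
-- import your own Cfsg.Agent.* helpers here

set_option autoImplicit false
open Cfsg

namespace Cfsg.Agent.S5838

open CfsgLib.Classical.AschGen

/-- Every maximal subgroup of SL_10(q) is of one of the listed geometric types or lies in the residual class. Let F be a finite field with q elements (p its characteristic) and H a maximal subgroup of SL_10(F) (inside GL_10(F)). Then H is the intersection with SL_10(F) of one of: the stabiliser of a proper non-zero subspace; for q ≥ 5, the stabiliser of a decomposition into 10 independent 1-spaces; for q ≥ 3, the stabiliser of a decomposition into 5 independent 2-spaces; the stabiliser of a decomposition into 2 independent 5-spaces; the normaliser of a degree-5 subfield of the matrix algebra; the normaliser of a degree-2 subfield of the matrix algebra; for q ≥ 3, the stabiliser of a tensor decomposition F^2 ⊗ F^5; a subfield group for a subfield F₀ with |F| = |F₀|^r, r prime; for q odd,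 the similarity group of a non-degenerate quadratic form; the similarity group of a non-degenerate symplectic form; the similarity group of a non-degenerate unitary form — or else H lies in the residual class of the linear case (modulo scalars H is almost simple, with absolutely irreducible perfect socle preimage realisable over no proper subfield and fixing no non-degenerate quadratic, symplectic or unitary form). -/
theorem result {F : Type*} [Field F] [Fintype F] (H : Subgroup (Matrix.GeneralLinearGroup (Fin 10) F)) (hH : Cfsg.Geo.IsMaximalIn (Cfsg.Geo.specialLinear (Fin 10) F) H) :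
    (∃ W : Submodule F (Fin 10 → F), W ≠ ⊥ ∧ W ≠ ⊤ ∧ H = Cfsg.Geo.subspaceStabilizer W ⊓ Cfsg.Geo.specialLinear (Fin 10) F) ∨
    (5 ≤ Fintype.card F ∧ ∃ D : Fin 10 → Submodule F (Fin 10 → F), Cfsg.Geo.IsMDecomposition 1 D ∧ H = Cfsg.Geo.decompositionStabilizer D ⊓ Cfsg.Geo.specialLinear (Fin 10) F) ∨
    (3 ≤ Fintype.card F ∧ ∃ D : Fin 5 → Submodule F (Fin 10 → F), Cfsg.Geo.IsMDecomposition 2 D ∧ H = Cfsg.Geo.decompositionStabilizer D ⊓ Cfsg.Geo.specialLinear (Fin 10) F) ∨
    (∃ D : Fin 2 → Submodule F (Fin 10 → F), Cfsg.Geo.IsMDecomposition 5 D ∧ H = Cfsg.Geo.decompositionStabilizer D ⊓ Cfsg.Geo.specialLinear (Fin 10) F) ∨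
    (∃ K : Subalgebra F (Matrix (Fin 10) (Fin 10) F), Cfsg.Geo.IsFieldSubalgebra 5 K ∧ H = Cfsg.Geo.subalgebraNormalizer K ⊓ Cfsg.Geo.specialLinear (Fin 10) F) ∨
    (∃ K : Subalgebra F (Matrix (Fin 10) (Fin 10) F), Cfsg.Geo.IsFieldSubalgebra 2 K ∧ H = Cfsg.Geo.subalgebraNormalizer K ⊓ Cfsg.Geo.specialLinear (Fin 10) F) ∨
    (3 ≤ Fintype.card F ∧ ∃ (e : Fin 10 ≃ Fin 2 × Fin 5) (P : Matrix.GeneralLinearGroup (Fin 10) F), H = Cfsg.Geo.tensorProductSubgroup 2 5 e P ⊓ Cfsg.Geo.specialLinear (Fin 10) F) ∨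
    (∃ (F₀ : Subfield F) (r : ℕ) (P : Matrix.GeneralLinearGroup (Fin 10) F), r.Prime ∧ Fintype.card F = Nat.card F₀ ^ r ∧ H = Cfsg.Geo.subfieldSubgroup F₀ P ⊓ Cfsg.Geo.specialLinear (Fin 10) F) ∨
    (Odd (Fintype.card F) ∧ ∃ Q : (Fin 10 → F) → F, Cfsg.Geo.IsNondegenerateQuadraticForm Q ∧ H = Cfsg.Geo.quadSimilarityGroup Q ⊓ Cfsg.Geo.specialLinear (Fin 10) F) ∨
    (∃ f : (Fin 10 → F) → (Fin 10 → F) → F, Cfsg.Geo.IsSymplecticForm f ∧ H = Cfsg.Geo.similarityGroup f ⊓ Cfsg.Geo.specialLinear (Fin 10) F) ∨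
    (∃ (σ : F ≃+* F) (f : (Fin 10 → F) → (Fin 10 → F) → F), Cfsg.Geo.IsUnitaryForm σ f ∧ H = Cfsg.Geo.similarityGroup f ⊓ Cfsg.Geo.specialLinear (Fin 10) F) ∨
    Cfsg.Geo.InLinearResidualClass H := by
  have hn : 3 ≤ 10 := by norm_num
  by_cases hform : FormEq H
  · rcases hform with h | h | h
    · exact .inr (.inr (.inr (.inr (.inr (.inr (.inr (.inr (.inl h))))))))
    · exact .inr (.inr (.inr (.inr (.inr (.inr (.inr (.inr (.inr (.inl h)))))))))
    · exact .inr (.inr (.inr (.inr (.inr (.inr (.inr (.inr (.inr (.inr (.inl h))))))))))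
  rcases maximal_cases hn hH with h | ⟨t, m, D, hD, htm, heq⟩ | ⟨r, K, hr, hrn, hK, heq⟩ |
    ⟨n₁, n₂, e, P, h1, h2, hprod, heq⟩ | h | ⟨r, m, R, hr, hm, hnm, hdata, heq⟩ |
    ⟨m, t, e, P, hm, ht, hpow, heq⟩ | h | h
  · exact .inl h
  · have htle : t ≤ 10 := Nat.le_of_dvd (by norm_num) ⟨m, htm.symm⟩
    have := hD.two_le
    interval_cases t <;> try omega
    · obtain rfl : m = 5 := by omega
      exact .inr (.inr (.inr (.inl ⟨D, hD, heq⟩)))
    · obtain rfl : m = 2 := by omega
      rcases planes_cases hn hH hD heq with h3 | h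
      · exact .inr (.inr (.inl ⟨h3, D, hD, heq⟩))
      · exact absurd h hform
    · obtain rfl : m = 1 := by omega
      rcases lines_cases hn hH hD heq with h5 | h | h
      · exact .inr (.inl ⟨h5, D, hD, heq⟩)
      · exact .inl h
      · exact absurd h hform
  · have := Nat.le_of_dvd (by norm_num) hrn
    have := hr.two_le
    interval_cases r <;> first
      | exact .inr (.inr (.inr (.inr (.inl ⟨K, hK, heq⟩))))
      | exact .inr (.inr (.inr (.inr (.inr (.inl ⟨K, hK, heq⟩)))))
      | exact absurd hr (by decide)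
      | omega
  · have hle : n₁ ≤ 3 := by
      by_contra hc
      have h9 : 4 * 5 ≤ n₁ * n₂ := Nat.mul_le_mul (by omega) (by omega)
      omega
    interval_cases n₁
    · obtain rfl : n₂ = 5 := by omega
      rcases tensor_two_cases hn hH (by norm_num) heq with h3 | h
      · exact .inr (.inr (.inr (.inr (.inr (.inr (.inl ⟨h3, e, P, heq⟩))))))
      · exact .inr (.inr (.inr (.inr (.inr (.inl h)))))
    · omega
  · exact .inr (.inr (.inr (.inr (.inr (.inr (.inr (.inl h)))))))
  · exact (not_prime_pow hr hnm Nat.prime_two (by norm_num : Nat.Prime 5) (by norm_num) (by norm_num)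
      (by norm_num)).elim
  · exfalso
    have := wreath_bound hm ht hpow
    obtain rfl : m = 3 := by nlinarith
    have ht3 : t < 3 := by
      by_contra hc
      have := Nat.pow_le_pow_right (show 0 < 3 by norm_num) (show 3 ≤ t by omega)
      omega
    interval_cases t
    omega
  · exact absurd h hform
  · exact .inr (.inr (.inr (.inr (.inr (.inr (.inr (.inr (.inr (.inr (.inr (h)))))))))))

end Cfsg.Agent.S5838
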