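import Cfsg.Statements.S5849
import Cfsg.Agent.Lib.Classical.GeometricTen
import Cfsg.Agent.Lib.Classical.FrameMax.Matrix
import Cfsg.Agent.Lib.Classical.FieldExtOrth.Matrix
import Cfsg.Agent.Lib.Classical.SubfieldOrth.QuadMax
import Cfsg.Agent.Lib.KnownC.OrthTools
import Cfsg.Agent.Lib.Classical.UnitarySubOrthMatrix

set_option autoImplicit false
open Cfsg

namespace Cfsg.Agent.S5849

/-- Maximal subgroups of Ω_10^-(q) of geometric type (any q). Let F be a finite field with q elements (characteristic p), Q a non-degenerate quadratic form on F^10 (non-degenerate polar form) of minus type (Witt index 4: no totally singular 5-space), and Ω = Ω_10^-(q) the commutator subgroup of the isometry group of Q, inside GL_10(F). Each of the following, intersected with Ω, is a maximal subgroup of Ω: (1) the stabiliser of any non-zero subspace on which Q vanishes identically (totally singular subspaces, dimensions 1 to 4); (2) for q odd, the stabiliser of any proper subspace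 of odd dimension other than 5 on which the polar form of Q is non-degenerate; (3) the stabiliser of any non-degenerate 2-space of minus type (containing no non-zero singular vector); (4) for q ≥ 4, the stabiliser of any non-degenerate 2-space of plus type (containing a non-zero singular vector); (5) the stabiliser of any non-degenerate 4-space (either type); (6) for q even, the stabiliser of the 1-space spanned by any non-singular vector v (Q(v) ≠ 0); (7) for q = p prime with p ≡ 3 mod 4, the stabiliser of any decomposition of F^10 into 10 pairwise orthogonal, pairwise Q-isometric non-degenerate 1-spaces; (8) for q ≠ 3, the stabiliser of any decomposition of F^10 into 5 pairwise orthogonal, pairwise Q-isometric non-degenerate 2-spaces; (9) for q ≡ 3 mod 4, the stabiliser of any decomposition of F^10 into 2 pairwise orthogonal, pairwise Q-isometric non-degenerate 5-spaces; (10) for q ≡ 1 mod 4, the stabiliser of any decomposition of F^10 into two orthogonal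 non-degenerate 5-spaces that are not Q-isometric; (11) for q odd, the normaliser of any degree-2 subfield K of the matrix algebra whose elements are self-adjoint for the polar form of Q (Q is then the trace of a quadratic form over K); (12) the normaliser of any degree-2 subfield K of the matrix algebra, closed under adjoints for the polar form but not self-adjoint, whose elements act as similarities of Q (so F^10 becomes a 5-dimensional space over K with a hermitian form, and the subgroup is of the type of the unitary group GU_5(q)); (13) every subfield group for a subfield F₀ with |F| = |F₀|^r, r an odd prime, whose F₀-structure carries a non-zero scalar multiple of Q. -/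
theorem result {F : Type*} [Field F] [Fintype F] (Q : (Fin 10 → F) → F) (hQ : Cfsg.Geo.IsNondegenerateQuadraticForm Q) (hminus : ¬ Cfsg.Geo.IsPlusTypeOn Q ⊤) :
    (∀ W : Submodule F (Fin 10 → F), W ≠ ⊥ → Cfsg.Geo.IsTotallySingularQuad Q W → Cfsg.Geo.IsMaximalIn (Cfsg.Geo.omegaGL Q) (Cfsg.Geo.subspaceStabilizer W ⊓ Cfsg.Geo.omegaGL Q)) ∧
    (Odd (Fintype.card F) → ∀ W : Submodule F (Fin 10 → F), W ≠ ⊥ → W ≠ ⊤ → Odd (Module.finrank F W) → 2 * Module.finrank F W ≠ 10 → Cfsg.Geo.IsNondegenerateOn (QuadraticMap.polar Q) W → Cfsg.Geo.IsMaximalIn (Cfsg.Geo.omegaGL Q) (Cfsg.Geo.subspaceStabilizer W ⊓ Cfsg.Geo.omegaGL Q)) ∧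
    (∀ W : Submodule F (Fin 10 → F), Module.finrank F W = 2 → Cfsg.Geo.IsNondegenerateOn (QuadraticMap.polar Q) W → ¬ Cfsg.Geo.IsPlusTypeOn Q W → Cfsg.Geo.IsMaximalIn (Cfsg.Geo.omegaGL Q) (Cfsg.Geo.subspaceStabilizer W ⊓ Cfsg.Geo.omegaGL Q)) ∧
    (4 ≤ Fintype.card F → ∀ W : Submodule F (Fin 10 → F), Module.finrank F W = 2 → Cfsg.Geo.IsNondegenerateOn (QuadraticMap.polar Q) W → Cfsg.Geo.IsPlusTypeOn Q W → Cfsg.Geo.IsMaximalIn (Cfsg.Geo.omegaGL Q) (Cfsg.Geo.subspaceStabilizer W ⊓ Cfsg.Geo.omegaGL Q)) ∧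
    (∀ W : Submodule F (Fin 10 → F), Module.finrank F W = 4 → Cfsg.Geo.IsNondegenerateOn (QuadraticMap.polar Q) W → Cfsg.Geo.IsMaximalIn (Cfsg.Geo.omegaGL Q) (Cfsg.Geo.subspaceStabilizer W ⊓ Cfsg.Geo.omegaGL Q)) ∧
    (¬ Odd (Fintype.card F) → ∀ v : (Fin 10 → F), Q v ≠ 0 → Cfsg.Geo.IsMaximalIn (Cfsg.Geo.omegaGL Q) (Cfsg.Geo.subspaceStabilizer (Submodule.span F {v}) ⊓ Cfsg.Geo.omegaGL Q)) ∧
    ((∃ p : ℕ, p.Prime ∧ Fintype.card F = p ∧ (p % 4 = 3)) → ∀ D : Fin 10 → Submodule F (Fin 10 → F), Cfsg.Geo.IsOrthogonalMDecomposition Q 1 D → Cfsg.Geo.IsMaximalIn (Cfsg.Geo.omegaGL Q) (Cfsg.Geo.decompositionStabilizer D ⊓ Cfsg.Geo.omegaGL Q)) ∧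
    (Fintype.card F ≠ 3 → ∀ D : Fin 5 → Submodule F (Fin 10 → F), Cfsg.Geo.IsOrthogonalMDecomposition Q 2 D → Cfsg.Geo.IsMaximalIn (Cfsg.Geo.omegaGL Q) (Cfsg.Geo.decompositionStabilizer D ⊓ Cfsg.Geo.omegaGL Q)) ∧
    (Fintype.card F % 4 = 3 → ∀ D : Fin 2 → Submodule F (Fin 10 → F), Cfsg.Geo.IsOrthogonalMDecomposition Q 5 D → Cfsg.Geo.IsMaximalIn (Cfsg.Geo.omegaGL Q) (Cfsg.Geo.decompositionStabilizer D ⊓ Cfsg.Geo.omegaGL Q)) ∧
    (Fintype.card F % 4 = 1 → ∀ D : Fin 2 → Submodule F (Fin 10 → F), Cfsg.Geo.IsNondegenerateMDecomposition (QuadraticMap.polar Q) 5 D → ¬ Cfsg.Geo.AreIsometricFor Q (D 0) (D 1) → Cfsg.Geo.IsMaximalIn (Cfsg.Geo.omegaGL Q) (Cfsg.Geo.decompositionStabilizer D ⊓ Cfsg.Geo.omegaGL Q)) ∧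
    (Odd (Fintype.card F) → ∀ K : Subalgebra F (Matrix (Fin 10) (Fin 10) F), Cfsg.Geo.IsFieldSubalgebra 2 K → Cfsg.Geo.IsSelfAdjointFor (QuadraticMap.polar Q) K → Cfsg.Geo.IsMaximalIn (Cfsg.Geo.omegaGL Q) (Cfsg.Geo.subalgebraNormalizer K ⊓ Cfsg.Geo.omegaGL Q)) ∧
    (∀ K : Subalgebra F (Matrix (Fin 10) (Fin 10) F), Cfsg.Geo.IsFieldSubalgebra 2 K → Cfsg.Geo.IsAdjointClosedFor (QuadraticMap.polar Q) K → ¬ Cfsg.Geo.IsSelfAdjointFor (QuadraticMap.polar Q) K → (∀ k ∈ K, ∃ c : F, ∀ v : (Fin 10 → F), Q (Matrix.mulVec k v) = c * Q v) → Cfsg.Geo.IsMaximalIn (Cfsg.Geo.omegaGL Q) (Cfsg.Geo.subalgebraNormalizer K ⊓ Cfsg.Geo.omegaGL Q)) ∧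
    (∀ (F₀ : Subfield F) (r : ℕ) (P : Matrix.GeneralLinearGroup (Fin 10) F) (ζ : F), r.Prime → Odd r → Fintype.card F = Nat.card F₀ ^ r → ζ ≠ 0 → Cfsg.Geo.IsQuadFormRationalStructure (fun v : Fin 10 → F => ζ * Q v) F₀ P → Cfsg.Geo.IsMaximalIn (Cfsg.Geo.omegaGL Q) (Cfsg.Geo.subfieldSubgroup F₀ P ⊓ Cfsg.Geo.omegaGL Q)) := by
  classical
  obtain ⟨Q', hQf, hQ'⟩ := CfsgLib.Classical.exists_quadOf hQ
  have hQ0 := hQ
  obtain rfl : Q = ⇑Q' := funext hQf
  have hn : Module.finrank F (Fin 10 → F) = 10 := Module.finrank_fin_fun F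
  have h4 : CfsgLib.Orth.Good F (Fin 10 → F) := Or.inr (by omega)
  have hno : ∀ S : Submodule F (Fin 10 → F), (∀ v ∈ S, Q' v = 0) → Module.finrank F S < 5 := fun S hS => by
    have h1 := CfsgLib.Orth.singular_finrank_le hQ' S hS
    refine lt_of_le_of_ne (by omega) fun h => hminus ⟨S, le_top, hS, ?_⟩
    rw [finrank_top]; omega
  refine ⟨fun W hW0 hW => ?_, fun _ W h0 h1 ho h5 hW => CfsgLib.Classical.GeometricTen.odd_nondeg Q' hQ' W h0 h1 ho h5 hW,
    CfsgLib.Classical.GeometricTen.minus_plane Q' hQ',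
    fun hq W hW2 hW _ => CfsgLib.Classical.GeometricTen.plus_plane Q' hQ' hq W hW2 hW,
    CfsgLib.Classical.GeometricTen.four_space Q' hQ', CfsgLib.Classical.GeometricTen.point Q' hQ',
    fun hpex D hD => ?_, fun hq D hD => ?_, fun _ D hD => ?_, fun _ D hD hni => ?_, fun hodd K hK hsa => ?_,
    fun K hK hac hnsa hsc => ?_, fun F₀ r P ζ hr _ hcard hζ hP => ?_⟩
  · refine CfsgLib.Classical.singular_isMaximalIn Q' hQf hQ' h4 (by omega) W hW hW0 ?_
    by_cases hk : 2 * Module.finrank F W + 3 ≤ Module.finrank F (Fin 10 → F)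
    · exact Or.inl hk
    · exact Or.inr fun u hu hup => CfsgLib.Classical.singular_perp_mem_of_top hW
        (fun U hU => by have := hno U hU; have := hno W hW; omega) hu hup
  · obtain ⟨p, hp, hcard, hp4⟩ := hpex
    exact CfsgLib.Classical.FrameMax.frame_isMaximal Q' (fun _ => rfl) (hcard ▸ hp)
      (CfsgLib.KnownC.OrthTools.two_ne_zero_of_odd rfl (Nat.odd_iff.2 (by omega))) (by simp) (by simp) hD
  · exact CfsgLib.Classical.DecompOrth.decomp_isMaximalIn hQ0 (by simp) le_rfl D hD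
      (fun _ => ⟨hq, fun hall => absurd (CfsgLib.Classical.GeometricTen.plus_of_planes Q' hD hall) hminus⟩)
      (fun h => by omega) (fun h => by omega) (fun h => by omega)
  · refine CfsgLib.Classical.DecompOrth.decomp_isMaximalIn hQ0 (by simp) (by norm_num) D hD ?_ ?_ ?_ ?_ <;>
      intro h <;> omega
  · exact CfsgLib.Classical.nonisometric_pair_isMaximalIn Q' hQ' (by norm_num) 5 (by norm_num) D hD hni
  · exact CfsgLib.Classical.FieldExtOrth.omega_isMaximal' hQ0
      (CfsgLib.KnownC.OrthTools.two_ne_zero_of_odd rfl hodd) Nat.prime_two hK hsa (by rw [Fintype.card_fin]; norm_num)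
  · exact CfsgLib.Classical.UnitarySubOrth.omegaGL_isMaximal (by norm_num) (by decide) _ hQ0 K hK hac hnsa hsc
  · exact CfsgLib.Classical.SubfieldOrth.subfield_isMaximalIn Q' hQf hQ' h4 (by rw [Fintype.card_fin]; norm_num) F₀ hr
      hcard P hζ hP

end Cfsg.Agent.S5849
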