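import Cfsg.Statements.S5856
import Cfsg.Agent.Lib.Classical.AschPrime.UnitaryCases
-- import your own Cfsg.Agent.* helpers here

set_option autoImplicit false
open Cfsg

namespace Cfsg.Agent.S5856

/-- Every maximal subgroup of SU_11(q) is of one of the listed geometric types or lies in the residual class. Let F be the field with q² elements (characteristic p), f the standard unitary form Σ u_i v_i^q on F^11, and H a maximal subgroup of SU_11(q) (inside GL_11(F)). Then H is the intersection with SU_11(q) of one of: the stabiliser of a non-zero totally isotropic subspace; the stabiliser of a non-zero non-degenerate subspace W with 2 dim W < 11; the stabiliser of a decomposition into 11 mutually orthogonal non-degenerate 1-spaces; the normaliser of an adjoint-closed degree-11 subfield of the matrix algebra; a subfield group of odd prime index whose F₀-structure carries f; for q odd, a subfield group of index 2 whose F₀-structure carries f; for q = p with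 p ≡ 10 mod 11, or q = p⁵ with p ≡ 2, 6, 7 or 8 mod 11, the normaliser of an absolutely irreducible 11-group of exponent 11, order 11³ and centre of order 11 with all characteristic abelian subgroups cyclic consisting of isometries of f — or else H lies in the residual class of the unitary case (modulo scalars H is almost simple, with absolutely irreducible perfect socle preimage realisable over no proper subfield and fixing no non-degenerate quadratic or symplectic form). -/
theorem result {F : Type*} [Field F] [Fintype F] (q : ℕ) (hF : Fintype.card F = q ^ 2) (H : Subgroup (Matrix.GeneralLinearGroup (Fin 11) F)) (hH : Cfsg.Geo.IsMaximalIn (Cfsg.GU 11 F q ⊓ Cfsg.Geo.specialLinear (Fin 11) F) H) :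
    (∃ W : Submodule F (Fin 11 → F), W ≠ ⊥ ∧ Cfsg.Geo.IsTotallySingularFor (Cfsg.hermForm 11 F q) W ∧ H = Cfsg.Geo.subspaceStabilizer W ⊓ (Cfsg.GU 11 F q ⊓ Cfsg.Geo.specialLinear (Fin 11) F)) ∨
    (∃ W : Submodule F (Fin 11 → F), W ≠ ⊥ ∧ Cfsg.Geo.IsNondegenerateOn (Cfsg.hermForm 11 F q) W ∧ 2 * Module.finrank F W < 11 ∧ H = Cfsg.Geo.subspaceStabilizer W ⊓ (Cfsg.GU 11 F q ⊓ Cfsg.Geo.specialLinear (Fin 11) F)) ∨
    (∃ D : Fin 11 → Submodule F (Fin 11 → F), Cfsg.Geo.IsNondegenerateMDecomposition (Cfsg.hermForm 11 F q) 1 D ∧ H = Cfsg.Geo.decompositionStabilizer D ⊓ (Cfsg.GU 11 F q ⊓ Cfsg.Geo.specialLinear (Fin 11) F)) ∨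
    (∃ K : Subalgebra F (Matrix (Fin 11) (Fin 11) F), Cfsg.Geo.IsFieldSubalgebra 11 K ∧ Cfsg.Geo.IsAdjointClosedFor (Cfsg.hermForm 11 F q) K ∧ H = Cfsg.Geo.subalgebraNormalizer K ⊓ (Cfsg.GU 11 F q ⊓ Cfsg.Geo.specialLinear (Fin 11) F)) ∨
    (∃ (F₀ : Subfield F) (r : ℕ) (P : Matrix.GeneralLinearGroup (Fin 11) F), r.Prime ∧ Odd r ∧ Fintype.card F = Nat.card F₀ ^ r ∧ Cfsg.Geo.IsFormRationalStructure (Cfsg.hermForm 11 F q) F₀ 1 P ∧ H = Cfsg.Geo.subfieldSubgroup F₀ P ⊓ (Cfsg.GU 11 F q ⊓ Cfsg.Geo.specialLinear (Fin 11) F)) ∨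
    (Odd q ∧ ∃ (F₀ : Subfield F) (P : Matrix.GeneralLinearGroup (Fin 11) F), Fintype.card F = Nat.card F₀ ^ 2 ∧ Cfsg.Geo.IsFormRationalStructure (Cfsg.hermForm 11 F q) F₀ 1 P ∧ H = Cfsg.Geo.subfieldSubgroup F₀ P ⊓ (Cfsg.GU 11 F q ⊓ Cfsg.Geo.specialLinear (Fin 11) F)) ∨
    (∃ (p : ℕ) (R : Subgroup (Matrix.GeneralLinearGroup (Fin 11) F)), p.Prime ∧ CharP F p ∧ ((q = p ∧ p % 11 = 10) ∨ (q = p ^ 5 ∧ (p % 11 = 2 ∨ p % 11 = 6 ∨ p % 11 = 7 ∨ p % 11 = 8))) ∧ Cfsg.Geo.IsSymplecticTypeGroup 11 R ∧ Cfsg.Geo.ActsAbsolutelyIrreducibly (Cfsg.Geo.matrixSet R) ∧ R ≤ Cfsg.GU 11 F q ∧ Nat.card R = 1331 ∧ Nat.card (Subgroup.center R) = 11 ∧ H = Cfsg.Geo.subgroupNormalizer R ⊓ (Cfsg.GU 11 F q ⊓ Cfsg.Geo.specialLinear (Fin 11) F)) ∨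
    Cfsg.Geo.InUnitaryResidualClass H := by
  have hq := CfsgLib.Classical.two_le_of_card_sq hF
  have hsize : Nat.factorial 11 * 11 < q ^ (11 * (11 - 1) / 2) :=
    lt_of_lt_of_le (by decide : Nat.factorial 11 * 11 < 2 ^ (11 * (11 - 1) / 2))
      (Nat.pow_le_pow_left hq _)
  rcases CfsgLib.Classical.AschPrime.unitary_maximal (n := 11) hF (by norm_num) (by norm_num)
      (.inr (by norm_num)) hsize hH with h | h | h | h | h | h |
    ⟨p, k, R, hp, hc, hqk, hk, hkn, hnd, hmin, hsymp, habs, hRG, hcardR, hcen, hR⟩ | h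
  · exact .inl h
  · exact .inr (.inl h)
  · exact .inr (.inr (.inl h))
  · exact .inr (.inr (.inr (.inl h)))
  · exact .inr (.inr (.inr (.inr (.inl h))))
  · exact .inr (.inr (.inr (.inr (.inr (.inl h)))))
  · refine .inr (.inr (.inr (.inr (.inr (.inr (.inl ⟨p, R, hp, hc, ?_, hsymp, habs, hRG,
      hcardR.trans (by norm_num), hcen, hR⟩))))))
    have hcases : k = 1 ∨ k = 5 := by
      have := Nat.le_of_dvd (by norm_num) hkn
      have hkle : k ≤ 5 := by omega
      interval_cases k <;> omega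
    have h2 : p % 11 < 11 := Nat.mod_lt _ (by norm_num)
    have hconv : ∀ d : ℕ, 11 ∣ p ^ d - 1 ↔ (p % 11) ^ d % 11 = 1 := by
      intro d
      have := Nat.one_le_pow d p hp.pos
      rw [← Nat.pow_mod]
      omega
    rcases hcases with rfl | rfl
    · rw [pow_one] at hqk
      refine .inl ⟨hqk, ?_⟩
      have h3 := (hconv 2).mp hnd
      have h4 : ¬ (p % 11) ^ 1 % 11 = 1 := fun h => hmin 1 (by norm_num) (by norm_num) ((hconv 1).mpr h)
      generalize p % 11 = r at h2 h3 h4 ⊢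
      interval_cases r <;> simp_all
    · refine .inr ⟨hqk, ?_⟩
      have h3 := (hconv (2 * 5)).mp hnd
      have h4 : ¬ (p % 11) ^ 1 % 11 = 1 := fun h => hmin 1 (by norm_num) (by norm_num) ((hconv 1).mpr h)
      have h5 : ¬ (p % 11) ^ 2 % 11 = 1 := fun h => hmin 2 (by norm_num) (by norm_num) ((hconv 2).mpr h)
      have h6 : ¬ (p % 11) ^ 5 % 11 = 1 := fun h =>
        hmin 5 (by norm_num) (by norm_num) ((hconv 5).mpr h)
      generalize p % 11 = r at h2 h3 h4 h5 h6 ⊢
      interval_cases r <;> simp_all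
  · exact .inr (.inr (.inr (.inr (.inr (.inr (.inr h))))))

end Cfsg.Agent.S5856
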