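import Cfsg.Statements.S5858
import Cfsg.Agent.Lib.Classical.OrthMaxTS
import Cfsg.Agent.Lib.Classical.OrthMaxND
import Cfsg.Agent.Lib.Classical.FrameMax.Matrix
import Cfsg.Agent.Lib.Classical.SubfieldOrth.QuadMax
import Cfsg.Agent.Lib.KnownC.OrthTools
import Cfsg.Agent.Lib.Orth.Standard

set_option autoImplicit false
open Cfsg

namespace Cfsg.Agent.S5858

/-- Maximal subgroups of Ω_11(q) of geometric type, q odd. Let F be a finite field of odd order q, Q the standard quadratic form x₀² + Σ x_i y_i on F^11 (coordinates Unit ⊕ (Fin 5 ⊕ Fin 5)), and Ω = Ω_11(q) the commutator subgroup of its isometry group, inside GL_11(F). Each of the following, intersected with Ω, is a maximal subgroup of Ω: (1) the stabiliser of any non-zero subspace on which Q vanishes identically (totally singular 1- to 5-spaces); (2) the stabiliser of any non-zero even-dimensional subspace W (dimension 2 to 10) on which the polar form of Q is non-degenerate (equivalently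 of its odd-dimensional orthogonal complement), except when q = 3 and W is a 2-space containing a non-zero singular vector (a plus-type plane); (3) for q = p prime, the stabiliser of any decomposition of F^11 into eleven pairwise orthogonal, pairwise Q-isometric non-degenerate 1-spaces; (4) every subfield group for a subfield F₀ with |F| = |F₀|^r, r prime, whose F₀-structure carries Q. -/
theorem result {F : Type*} [Field F] [Fintype F] (hodd : Odd (Fintype.card F)) :
    (∀ W : Submodule F (Unit ⊕ (Fin 5 ⊕ Fin 5) → F), W ≠ ⊥ → Cfsg.Geo.IsTotallySingularQuad (Cfsg.quadFormOdd 5 F) W → Cfsg.Geo.IsMaximalIn (Cfsg.Geo.omegaGL (Cfsg.quadFormOdd 5 F)) (Cfsg.Geo.subspaceStabilizer W ⊓ Cfsg.Geo.omegaGL (Cfsg.quadFormOdd 5 F))) ∧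
    (∀ W : Submodule F (Unit ⊕ (Fin 5 ⊕ Fin 5) → F), W ≠ ⊥ → Even (Module.finrank F W) → Cfsg.Geo.IsNondegenerateOn (QuadraticMap.polar (Cfsg.quadFormOdd 5 F)) W → ¬ (Fintype.card F = 3 ∧ Module.finrank F W = 2 ∧ Cfsg.Geo.IsPlusTypeOn (Cfsg.quadFormOdd 5 F) W) → Cfsg.Geo.IsMaximalIn (Cfsg.Geo.omegaGL (Cfsg.quadFormOdd 5 F)) (Cfsg.Geo.subspaceStabilizer W ⊓ Cfsg.Geo.omegaGL (Cfsg.quadFormOdd 5 F))) ∧
    ((Fintype.card F).Prime → ∀ D : Fin 11 → Submodule F (Unit ⊕ (Fin 5 ⊕ Fin 5) → F), Cfsg.Geo.IsOrthogonalMDecomposition (Cfsg.quadFormOdd 5 F) 1 D → Cfsg.Geo.IsMaximalIn (Cfsg.Geo.omegaGL (Cfsg.quadFormOdd 5 F)) (Cfsg.Geo.decompositionStabilizer D ⊓ Cfsg.Geo.omegaGL (Cfsg.quadFormOdd 5 F))) ∧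
    (∀ (F₀ : Subfield F) (r : ℕ) (P : Matrix.GeneralLinearGroup (Unit ⊕ (Fin 5 ⊕ Fin 5)) F), r.Prime → Fintype.card F = Nat.card F₀ ^ r → Cfsg.Geo.IsQuadFormRationalStructure (Cfsg.quadFormOdd 5 F) F₀ P → Cfsg.Geo.IsMaximalIn (Cfsg.Geo.omegaGL (Cfsg.quadFormOdd 5 F)) (Cfsg.Geo.subfieldSubgroup F₀ P ⊓ Cfsg.Geo.omegaGL (Cfsg.quadFormOdd 5 F))) := by
  classical
  have h2 : (2 : F) ≠ 0 := CfsgLib.KnownC.OrthTools.two_ne_zero_of_odd rfl hodd
  have hQf := CfsgLib.Orth.oddForm_apply (F := F) 5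
  have hQ' := CfsgLib.Orth.oddForm_nondeg (F := F) 5 h2
  have hV : Module.finrank F (Unit ⊕ (Fin 5 ⊕ Fin 5) → F) = 11 := by
    simp [Module.finrank_pi]
  refine ⟨fun W hW0 hW => ?_, fun W hW0 hev hW hex => ?_, fun hp D hD => ?_, fun F₀ r P hr hcard hP => ?_⟩
  · have hW' : ∀ w ∈ W, CfsgLib.Orth.oddForm F 5 w = 0 := fun w hw => (hQf w).symm.trans (hW w hw)
    refine CfsgLib.Classical.singular_isMaximalIn _ hQf hQ' (CfsgLib.Orth.good_of_two_ne h2) (by omega) W hW' hW0 ?_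
    by_cases hk : 2 * Module.finrank F W + 3 ≤ Module.finrank F (Unit ⊕ (Fin 5 ⊕ Fin 5) → F)
    · exact Or.inl hk
    · exact Or.inr fun u hu hup => CfsgLib.Classical.singular_perp_mem_of_top hW'
        (fun U hU => by have := CfsgLib.Orth.singular_finrank_le hQ' U hU; omega) hu hup
  · obtain ⟨k, hk⟩ := hev
    refine CfsgLib.Classical.nondeg_isMaximalIn _ hQf hQ'
      (CfsgLib.Orth.good_of_two_ne h2) (by omega) W hW hW0 (fun e => ?_) ?_ (fun h => by omega)
    · subst e; rw [finrank_top] at hk; omega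
    · rintro ⟨hq, U, hU2, hUnd, hUp, hUW | ⟨-, hd⟩⟩
      · subst hUW
        obtain ⟨j, hj⟩ := hodd
        exact hex ⟨by have := Fintype.one_lt_card (α := F); omega, hU2, hUp⟩
      · omega
  · exact CfsgLib.Classical.FrameMax.frame_isMaximal _ hQf hp h2 (by simp) (by simp) hD
  · refine CfsgLib.Classical.SubfieldOrth.subfield_isMaximalIn _ hQf hQ'
      (CfsgLib.Orth.good_of_two_ne h2) (by simp) F₀ hr hcard P one_ne_zero ?_
    simpa only [one_mul] using hP

end Cfsg.Agent.S5858
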