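import Cfsg.Statements.S5861
import Cfsg.Agent.Lib.Classical.GeoMaxSmall.SL
import Cfsg.Agent.Lib.Classical.DecompMax.Main
import Cfsg.Agent.Lib.Classical.FieldExtMax.Matrix
import Cfsg.Agent.Lib.Classical.TensorMax.Matrix
import Cfsg.Agent.Lib.Classical.ParabolicGL

set_option autoImplicit false
open Cfsg

namespace Cfsg.Agent.S5861

/-- Maximal subgroups of SL_12(q) of geometric type, for a finite field F with q elements (any q); p denotes the characteristic. Each of the following subgroups of GL_12(F), intersected with SL_12(F), is a maximal subgroup of SL_12(F): (1) the stabiliser of any proper non-zero subspace of F^12; (2) for q ≥ 5, the stabiliser of any decomposition of F^12 into 12 independent 1-spaces; (3) for q ≥ 3, the stabiliser of any decomposition of F^12 into 6 independent 2-spaces; (4) the stabiliser of any decomposition of F^12 into 4 independent 3-spaces; (5) the stabiliser of any decomposition of F^12 into 3 independent 4-spaces; (6) the stabiliser of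 any decomposition of F^12 into 2 independent 6-spaces; (7) the normaliser of any degree-2 subfield of the 12 × 12 matrix algebra over F (a commutative subalgebra of dimension 2 in which every non-zero element is invertible); (8) the normaliser of any degree-3 subfield of the 12 × 12 matrix algebra over F (a commutative subalgebra of dimension 3 in which every non-zero element is invertible); (9) for q ≥ 3, the stabiliser of any tensor decomposition F^12 = F^2 ⊗ F^6 (a conjugate of the Kronecker-product subgroup); (10) the stabiliser of any tensor decomposition F^12 = F^3 ⊗ F^4 (a conjugate of the Kronecker-product subgroup); (11) every subfield group (a conjugate of GL_12(F₀) times the scalars of F) for a subfield F₀ with |F| = |F₀|^r, r prime; (12) for q odd, the group of similarities of any non-degenerate quadratic form on F^12 (either sign); (13) the group of similarities of any non-degenerate symplectic form on F^12; (14) the group of similarities of any non-degenerate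 unitary form on F^12 (these exist exactly when q is a square). -/
theorem result {F : Type*} [Field F] [Fintype F] :
    (∀ W : Submodule F (Fin 12 → F), W ≠ ⊥ → W ≠ ⊤ → Cfsg.Geo.IsMaximalIn (Cfsg.Geo.specialLinear (Fin 12) F) (Cfsg.Geo.subspaceStabilizer W ⊓ Cfsg.Geo.specialLinear (Fin 12) F)) ∧
    (5 ≤ Fintype.card F → ∀ D : Fin 12 → Submodule F (Fin 12 → F), Cfsg.Geo.IsMDecomposition 1 D → Cfsg.Geo.IsMaximalIn (Cfsg.Geo.specialLinear (Fin 12) F) (Cfsg.Geo.decompositionStabilizer D ⊓ Cfsg.Geo.specialLinear (Fin 12) F)) ∧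
    (3 ≤ Fintype.card F → ∀ D : Fin 6 → Submodule F (Fin 12 → F), Cfsg.Geo.IsMDecomposition 2 D → Cfsg.Geo.IsMaximalIn (Cfsg.Geo.specialLinear (Fin 12) F) (Cfsg.Geo.decompositionStabilizer D ⊓ Cfsg.Geo.specialLinear (Fin 12) F)) ∧
    (∀ D : Fin 4 → Submodule F (Fin 12 → F), Cfsg.Geo.IsMDecomposition 3 D → Cfsg.Geo.IsMaximalIn (Cfsg.Geo.specialLinear (Fin 12) F) (Cfsg.Geo.decompositionStabilizer D ⊓ Cfsg.Geo.specialLinear (Fin 12) F)) ∧
    (∀ D : Fin 3 → Submodule F (Fin 12 → F), Cfsg.Geo.IsMDecomposition 4 D → Cfsg.Geo.IsMaximalIn (Cfsg.Geo.specialLinear (Fin 12) F) (Cfsg.Geo.decompositionStabilizer D ⊓ Cfsg.Geo.specialLinear (Fin 12) F)) ∧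
    (∀ D : Fin 2 → Submodule F (Fin 12 → F), Cfsg.Geo.IsMDecomposition 6 D → Cfsg.Geo.IsMaximalIn (Cfsg.Geo.specialLinear (Fin 12) F) (Cfsg.Geo.decompositionStabilizer D ⊓ Cfsg.Geo.specialLinear (Fin 12) F)) ∧
    (∀ K : Subalgebra F (Matrix (Fin 12) (Fin 12) F), Cfsg.Geo.IsFieldSubalgebra 2 K → Cfsg.Geo.IsMaximalIn (Cfsg.Geo.specialLinear (Fin 12) F) (Cfsg.Geo.subalgebraNormalizer K ⊓ Cfsg.Geo.specialLinear (Fin 12) F)) ∧
    (∀ K : Subalgebra F (Matrix (Fin 12) (Fin 12) F), Cfsg.Geo.IsFieldSubalgebra 3 K → Cfsg.Geo.IsMaximalIn (Cfsg.Geo.specialLinear (Fin 12) F) (Cfsg.Geo.subalgebraNormalizer K ⊓ Cfsg.Geo.specialLinear (Fin 12) F)) ∧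
    (3 ≤ Fintype.card F → ∀ (e : Fin 12 ≃ Fin 2 × Fin 6) (P : Matrix.GeneralLinearGroup (Fin 12) F), Cfsg.Geo.IsMaximalIn (Cfsg.Geo.specialLinear (Fin 12) F) (Cfsg.Geo.tensorProductSubgroup 2 6 e P ⊓ Cfsg.Geo.specialLinear (Fin 12) F)) ∧
    (∀ (e : Fin 12 ≃ Fin 3 × Fin 4) (P : Matrix.GeneralLinearGroup (Fin 12) F), Cfsg.Geo.IsMaximalIn (Cfsg.Geo.specialLinear (Fin 12) F) (Cfsg.Geo.tensorProductSubgroup 3 4 e P ⊓ Cfsg.Geo.specialLinear (Fin 12) F)) ∧
    (∀ (F₀ : Subfield F) (r : ℕ) (P : Matrix.GeneralLinearGroup (Fin 12) F), r.Prime → Fintype.card F = Nat.card F₀ ^ r → Cfsg.Geo.IsMaximalIn (Cfsg.Geo.specialLinear (Fin 12) F) (Cfsg.Geo.subfieldSubgroup F₀ P ⊓ Cfsg.Geo.specialLinear (Fin 12) F)) ∧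
    (Odd (Fintype.card F) → ∀ Q : (Fin 12 → F) → F, Cfsg.Geo.IsNondegenerateQuadraticForm Q → Cfsg.Geo.IsMaximalIn (Cfsg.Geo.specialLinear (Fin 12) F) (Cfsg.Geo.quadSimilarityGroup Q ⊓ Cfsg.Geo.specialLinear (Fin 12) F)) ∧
    (∀ f : (Fin 12 → F) → (Fin 12 → F) → F, Cfsg.Geo.IsSymplecticForm f → Cfsg.Geo.IsMaximalIn (Cfsg.Geo.specialLinear (Fin 12) F) (Cfsg.Geo.similarityGroup f ⊓ Cfsg.Geo.specialLinear (Fin 12) F)) ∧
    (∀ (σ : F ≃+* F) (f : (Fin 12 → F) → (Fin 12 → F) → F), Cfsg.Geo.IsUnitaryForm σ f → Cfsg.Geo.IsMaximalIn (Cfsg.Geo.specialLinear (Fin 12) F) (Cfsg.Geo.similarityGroup f ⊓ Cfsg.Geo.specialLinear (Fin 12) F)) := by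
  exact ⟨fun W h0 h1 => CfsgLib.Classical.stab_sl_isMaximalIn h0 h1,
    fun hq D hD => CfsgLib.Classical.DecompMax.isMaximalIn (by norm_num) hD (by omega) (by omega),
    fun hq D hD => CfsgLib.Classical.DecompMax.isMaximalIn (by norm_num) hD (by omega) (by omega),
    fun D hD => CfsgLib.Classical.DecompMax.isMaximalIn (by norm_num) hD (by omega) (by omega),
    fun D hD => CfsgLib.Classical.DecompMax.isMaximalIn (by norm_num) hD (by omega) (by omega),
    fun D hD => CfsgLib.Classical.DecompMax.isMaximalIn (by norm_num) hD (by omega) (by omega),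
    fun K hK => (CfsgLib.Classical.FieldExtMax.maximal_of_degree_lt (by norm_num) (by norm_num) hK).2,
    fun K hK => (CfsgLib.Classical.FieldExtMax.maximal_of_degree_lt (by norm_num) (by norm_num) hK).2,
    fun hq e P => CfsgLib.Classical.TensorMax.isMaximal (by norm_num) (by norm_num) (Or.inr (CfsgLib.Classical.GeoMaxSmall.exists_ne_zero_one hq)) e P,
    fun e P => CfsgLib.Classical.TensorMax.isMaximal (by norm_num) (by norm_num) (Or.inl le_rfl) e P,
    fun F₀ r P hr hc => CfsgLib.Classical.GeoMaxSmall.subfield_maximal _ (by norm_num) F₀ r hr hc P,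
    fun ho Q hQ => CfsgLib.Classical.GeoMaxSmall.orth_maximal _ (by norm_num) ho Q hQ,
    fun f hf => CfsgLib.Classical.GeoMaxSmall.symplectic_maximal _ (by norm_num) f hf,
    fun σ f hf => CfsgLib.Classical.GeoMaxSmall.unitary_maximal _ (by norm_num) σ f hf⟩

end Cfsg.Agent.S5861
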