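import Cfsg.Statements.S5870
import Cfsg.Agent.Lib.Classical.OrthMaxTS
import Cfsg.Agent.Lib.Classical.OrthMaxND
import Cfsg.Agent.Lib.Classical.OrthMaxPair
import Cfsg.Agent.Lib.Classical.PointMax
import Cfsg.Agent.Lib.Classical.DecompOrth.Main
import Cfsg.Agent.Lib.Classical.FrameMax.Matrix
import Cfsg.Agent.Lib.Classical.FieldExtOrth.Matrix
import Cfsg.Agent.Lib.Classical.UnitarySubOrthMatrix
import Cfsg.Agent.Lib.Classical.TensorMaxS.Matrix
import Cfsg.Agent.Lib.Classical.SubfieldOrth.QuadMax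
import Cfsg.Agent.Lib.KnownC.OrthTools

set_option autoImplicit false
open Cfsg

namespace Cfsg.Agent.S5870

/-- Maximal subgroups of Ω_12^+(q) of geometric type (any q). Let F be a finite field with q elements (characteristic p), Q a non-degenerate quadratic form on F^12 (non-degenerate polar form) of plus type (Witt index 6: some totally singular 6-space), and Ω = Ω_12^+(q) the commutator subgroup of the isometry group of Q, inside GL_12(F). Each of the following, intersected with Ω, is a maximal subgroup of Ω: (1) the stabiliser of any non-zero subspace on which Q vanishes identically other than those of dimension 5 (totally singular subspaces, dimensions 1, 2, 3, 4 and 6); (2) for q odd, the stabiliser of any subspace of odd dimension on which the polar form of Q is non-degenerate; (3) the stabiliser of any non-degenerate 2-space of minus type (containing no non-zero singular vector); (4) for q ≥ 4, the stabiliser of any non-degenerate 2-space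 of plus type (containing a non-zero singular vector); (5) the stabiliser of any non-degenerate 4-space (either type); (6) for q even, the stabiliser of the 1-space spanned by any non-singular vector v (Q(v) ≠ 0); (7) for q = p an odd prime, the stabiliser of any decomposition of F^12 into 12 pairwise orthogonal, pairwise Q-isometric non-degenerate 1-spaces; (8) for q ≥ 7, the stabiliser of any decomposition of F^12 into 6 pairwise orthogonal, pairwise Q-isometric non-degenerate 2-spaces of plus type; (9) for q ≠ 3, the stabiliser of any decomposition of F^12 into 6 pairwise orthogonal, pairwise Q-isometric non-degenerate 2-spaces of minus type; (10) for q odd with q ≥ 5, the stabiliser of any decomposition of F^12 into 4 pairwise orthogonal, pairwise Q-isometric non-degenerate 3-spaces; (11) for q ≥ 3, the stabiliser of any decomposition of F^12 into 3 pairwise orthogonal, pairwise Q-isometric non-degenerate 4-spaces; (12) the stabiliser of any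 decomposition of F^12 into 2 pairwise orthogonal, pairwise Q-isometric non-degenerate 6-spaces; (13) the stabiliser of any decomposition into two totally singular 6-spaces; (14) for q odd, the normaliser of any degree-2 subfield K of the matrix algebra whose elements are self-adjoint for the polar form of Q (Q is then the trace of a quadratic form over K); (15) for q odd, the normaliser of any degree-3 subfield K of the matrix algebra whose elements are self-adjoint for the polar form of Q (Q is then the trace of a quadratic form over K); (16) the normaliser of any degree-2 subfield K of the matrix algebra, closed under adjoints for the polar form but not self-adjoint, whose elements act as similarities of Q (so F^12 becomes a 6-dimensional space over K with a hermitian form, and the subgroup is of the type of the unitary group GU_6(q)); (17) for q ≥ 3, the stabiliser of any tensor decomposition F^12 = F^2 ⊗ F^6 in which the polar form of Q is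 (alternating form) ⊗ (alternating form) up to a scalar and Q vanishes on all pure tensors; (18) every subfield group for a subfield F₀ with |F| = |F₀|^r, r prime, whose F₀-structure carries a non-zero scalar multiple of Q. -/
theorem result {F : Type*} [Field F] [Fintype F] (Q : (Fin 12 → F) → F) (hQ : Cfsg.Geo.IsNondegenerateQuadraticForm Q) (hplus : Cfsg.Geo.IsPlusTypeOn Q ⊤) :
    (∀ W : Submodule F (Fin 12 → F), W ≠ ⊥ → Cfsg.Geo.IsTotallySingularQuad Q W → Module.finrank F W ≠ 5 → Cfsg.Geo.IsMaximalIn (Cfsg.Geo.omegaGL Q) (Cfsg.Geo.subspaceStabilizer W ⊓ Cfsg.Geo.omegaGL Q)) ∧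
    (Odd (Fintype.card F) → ∀ W : Submodule F (Fin 12 → F), W ≠ ⊥ → W ≠ ⊤ → Odd (Module.finrank F W) → 2 * Module.finrank F W ≠ 12 → Cfsg.Geo.IsNondegenerateOn (QuadraticMap.polar Q) W → Cfsg.Geo.IsMaximalIn (Cfsg.Geo.omegaGL Q) (Cfsg.Geo.subspaceStabilizer W ⊓ Cfsg.Geo.omegaGL Q)) ∧
    (∀ W : Submodule F (Fin 12 → F), Module.finrank F W = 2 → Cfsg.Geo.IsNondegenerateOn (QuadraticMap.polar Q) W → ¬ Cfsg.Geo.IsPlusTypeOn Q W → Cfsg.Geo.IsMaximalIn (Cfsg.Geo.omegaGL Q) (Cfsg.Geo.subspaceStabilizer W ⊓ Cfsg.Geo.omegaGL Q)) ∧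
    (4 ≤ Fintype.card F → ∀ W : Submodule F (Fin 12 → F), Module.finrank F W = 2 → Cfsg.Geo.IsNondegenerateOn (QuadraticMap.polar Q) W → Cfsg.Geo.IsPlusTypeOn Q W → Cfsg.Geo.IsMaximalIn (Cfsg.Geo.omegaGL Q) (Cfsg.Geo.subspaceStabilizer W ⊓ Cfsg.Geo.omegaGL Q)) ∧
    (∀ W : Submodule F (Fin 12 → F), Module.finrank F W = 4 → Cfsg.Geo.IsNondegenerateOn (QuadraticMap.polar Q) W → Cfsg.Geo.IsMaximalIn (Cfsg.Geo.omegaGL Q) (Cfsg.Geo.subspaceStabilizer W ⊓ Cfsg.Geo.omegaGL Q)) ∧
    (¬ Odd (Fintype.card F) → ∀ v : (Fin 12 → F), Q v ≠ 0 → Cfsg.Geo.IsMaximalIn (Cfsg.Geo.omegaGL Q) (Cfsg.Geo.subspaceStabilizer (Submodule.span F {v}) ⊓ Cfsg.Geo.omegaGL Q)) ∧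
    ((∃ p : ℕ, p.Prime ∧ Odd p ∧ Fintype.card F = p) → ∀ D : Fin 12 → Submodule F (Fin 12 → F), Cfsg.Geo.IsOrthogonalMDecomposition Q 1 D → Cfsg.Geo.IsMaximalIn (Cfsg.Geo.omegaGL Q) (Cfsg.Geo.decompositionStabilizer D ⊓ Cfsg.Geo.omegaGL Q)) ∧
    (7 ≤ Fintype.card F → ∀ D : Fin 6 → Submodule F (Fin 12 → F), Cfsg.Geo.IsOrthogonalMDecomposition Q 2 D → (∀ i, Cfsg.Geo.IsPlusTypeOn Q (D i)) → Cfsg.Geo.IsMaximalIn (Cfsg.Geo.omegaGL Q) (Cfsg.Geo.decompositionStabilizer D ⊓ Cfsg.Geo.omegaGL Q)) ∧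
    (Fintype.card F ≠ 3 → ∀ D : Fin 6 → Submodule F (Fin 12 → F), Cfsg.Geo.IsOrthogonalMDecomposition Q 2 D → (∀ i, ¬ Cfsg.Geo.IsPlusTypeOn Q (D i)) → Cfsg.Geo.IsMaximalIn (Cfsg.Geo.omegaGL Q) (Cfsg.Geo.decompositionStabilizer D ⊓ Cfsg.Geo.omegaGL Q)) ∧
    (Odd (Fintype.card F) ∧ 5 ≤ Fintype.card F → ∀ D : Fin 4 → Submodule F (Fin 12 → F), Cfsg.Geo.IsOrthogonalMDecomposition Q 3 D → Cfsg.Geo.IsMaximalIn (Cfsg.Geo.omegaGL Q) (Cfsg.Geo.decompositionStabilizer D ⊓ Cfsg.Geo.omegaGL Q)) ∧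
    (3 ≤ Fintype.card F → ∀ D : Fin 3 → Submodule F (Fin 12 → F), Cfsg.Geo.IsOrthogonalMDecomposition Q 4 D → Cfsg.Geo.IsMaximalIn (Cfsg.Geo.omegaGL Q) (Cfsg.Geo.decompositionStabilizer D ⊓ Cfsg.Geo.omegaGL Q)) ∧
    (∀ D : Fin 2 → Submodule F (Fin 12 → F), Cfsg.Geo.IsOrthogonalMDecomposition Q 6 D → Cfsg.Geo.IsMaximalIn (Cfsg.Geo.omegaGL Q) (Cfsg.Geo.decompositionStabilizer D ⊓ Cfsg.Geo.omegaGL Q)) ∧
    (∀ D : Fin 2 → Submodule F (Fin 12 → F), Cfsg.Geo.IsMDecomposition 6 D → (∀ i, Cfsg.Geo.IsTotallySingularQuad Q (D i)) → Cfsg.Geo.IsMaximalIn (Cfsg.Geo.omegaGL Q) (Cfsg.Geo.decompositionStabilizer D ⊓ Cfsg.Geo.omegaGL Q)) ∧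
    (Odd (Fintype.card F) → ∀ K : Subalgebra F (Matrix (Fin 12) (Fin 12) F), Cfsg.Geo.IsFieldSubalgebra 2 K → Cfsg.Geo.IsSelfAdjointFor (QuadraticMap.polar Q) K → Cfsg.Geo.IsMaximalIn (Cfsg.Geo.omegaGL Q) (Cfsg.Geo.subalgebraNormalizer K ⊓ Cfsg.Geo.omegaGL Q)) ∧
    (Odd (Fintype.card F) → ∀ K : Subalgebra F (Matrix (Fin 12) (Fin 12) F), Cfsg.Geo.IsFieldSubalgebra 3 K → Cfsg.Geo.IsSelfAdjointFor (QuadraticMap.polar Q) K → Cfsg.Geo.IsMaximalIn (Cfsg.Geo.omegaGL Q) (Cfsg.Geo.subalgebraNormalizer K ⊓ Cfsg.Geo.omegaGL Q)) ∧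
    (∀ K : Subalgebra F (Matrix (Fin 12) (Fin 12) F), Cfsg.Geo.IsFieldSubalgebra 2 K → Cfsg.Geo.IsAdjointClosedFor (QuadraticMap.polar Q) K → ¬ Cfsg.Geo.IsSelfAdjointFor (QuadraticMap.polar Q) K → (∀ k ∈ K, ∃ c : F, ∀ v : (Fin 12 → F), Q (Matrix.mulVec k v) = c * Q v) → Cfsg.Geo.IsMaximalIn (Cfsg.Geo.omegaGL Q) (Cfsg.Geo.subalgebraNormalizer K ⊓ Cfsg.Geo.omegaGL Q)) ∧
    (3 ≤ Fintype.card F → ∀ (e : Fin 12 ≃ Fin 2 × Fin 6) (P : Matrix.GeneralLinearGroup (Fin 12) F) (f₁ : (Fin 2 → F) → (Fin 2 → F) → F) (f₂ : (Fin 6 → F) → (Fin 6 → F) → F), Cfsg.Geo.IsSymplecticForm f₁ → Cfsg.Geo.IsSymplecticForm f₂ → Cfsg.Geo.IsTensorFormStructure id (QuadraticMap.polar Q) f₁ f₂ e P → (∀ (x₁ : Fin 2 → F) (x₂ : Fin 6 → F), Q (Matrix.mulVec (P : Matrix (Fin 12) (Fin 12) F) ((fun a : Fin 2 × Fin 6 => x₁ a.1 * x₂ a.2) ∘ e)) = 0) → Cfsg.Geo.IsMaximalIn (Cfsg.Geo.omegaGL Q) (Cfsg.Geo.tensorProductSubgroup 2 6 e P ⊓ Cfsg.Geo.omegaGL Q)) ∧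
    (∀ (F₀ : Subfield F) (r : ℕ) (P : Matrix.GeneralLinearGroup (Fin 12) F) (ζ : F), r.Prime → Fintype.card F = Nat.card F₀ ^ r → ζ ≠ 0 → Cfsg.Geo.IsQuadFormRationalStructure (fun v : Fin 12 → F => ζ * Q v) F₀ P → Cfsg.Geo.IsMaximalIn (Cfsg.Geo.omegaGL Q) (Cfsg.Geo.subfieldSubgroup F₀ P ⊓ Cfsg.Geo.omegaGL Q)) := by
  classical
  obtain ⟨Q', hQf, hQ'⟩ := CfsgLib.Classical.exists_quadOf hQ
  have hn : Module.finrank F (Fin 12 → F) = 12 := Module.finrank_fin_fun F
  have h4 : CfsgLib.Orth.Good F (Fin 12 → F) := Or.inr (by omega)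
  have hcard : 12 ≤ Fintype.card (Fin 12) := by simp
  have h1 := Fintype.one_lt_card (α := F)
  have hnd : ∀ W : Submodule F (Fin 12 → F), W ≠ ⊥ → W ≠ ⊤ → 2 * Module.finrank F W ≠ 12 →
      Cfsg.Geo.IsNondegenerateOn (QuadraticMap.polar Q) W →
      (Module.finrank F W ≠ 2 ∧ Module.finrank F W ≠ 10 ∨ 4 ≤ Fintype.card F ∨
        (Module.finrank F W = 2 ∧ ¬ Cfsg.Geo.IsPlusTypeOn Q W)) →
      Cfsg.Geo.IsMaximalIn (Cfsg.Geo.omegaGL Q) (Cfsg.Geo.subspaceStabilizer W ⊓ Cfsg.Geo.omegaGL Q) := by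
    intro W hW0 hW1 hdim hW hor
    refine CfsgLib.Classical.nondeg_isMaximalIn Q' hQf hQ' h4 (by omega) W hW hW0 hW1 ?_
      fun h => absurd (h.trans hn) hdim
    rintro ⟨hq, U, hU2, -, hUp, rfl | ⟨-, hsum⟩⟩
    · rcases hor with h | h | h
      · exact h.1 hU2
      · omega
      · exact h.2 hUp
    · rw [hn] at hsum
      rcases hor with h | h | h <;> omega
  have hne : ∀ W : Submodule F (Fin 12 → F), 0 < Module.finrank F W → Module.finrank F W < 12 → W ≠ ⊥ ∧ W ≠ ⊤ :=
    fun W h0 h12 => ⟨fun h => by rw [h, finrank_bot] at h0; omega, fun h => by rw [h, finrank_top] at h12; omega⟩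
  refine ⟨fun W hW0 hW hdim => ?_, fun _ W hW0 hW1 hodd hdim hW => hnd W hW0 hW1 hdim hW (Or.inl ?_),
    fun W h2 hW hm => ?_, fun hq W h2 hW _ => ?_, fun W h4' hW => ?_, fun hev v hv => ?_, ?_, fun hq D hD hp => ?_,
    fun hq D hD hm => ?_, fun hq D hD => ?_, fun hq D hD => ?_, fun D hD => ?_, fun D hD hts => ?_,
    fun hodd K hK hsa => ?_, fun hodd K hK hsa => ?_, fun K hK hac hnsa hsc => ?_,
    fun hq e P f₁ f₂ hf₁ hf₂ hT hpure => ?_, fun F₀ r P ζ hr hc hζ hP => ?_⟩
  · have hW' : ∀ w ∈ W, Q' w = 0 := fun w hw => (hQf w).symm.trans (hW w hw)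
    refine CfsgLib.Classical.singular_isMaximalIn Q' hQf hQ' h4 (by omega) W hW' hW0 ?_
    by_cases hk : 2 * Module.finrank F W + 3 ≤ Module.finrank F (Fin 12 → F)
    · exact Or.inl hk
    · exact Or.inr fun u hu hup => CfsgLib.Classical.singular_perp_mem_of_top hW'
        (fun U hU => by have := CfsgLib.Orth.singular_finrank_le hQ' U hU; omega) hu hup
  · obtain ⟨a, ha⟩ := hodd
    omega
  · obtain ⟨hW0, hW1⟩ := hne W (by omega) (by omega)
    exact hnd W hW0 hW1 (by omega) hW (Or.inr (Or.inr ⟨h2, hm⟩))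
  · obtain ⟨hW0, hW1⟩ := hne W (by omega) (by omega)
    exact hnd W hW0 hW1 (by omega) hW (Or.inr (Or.inl hq))
  · obtain ⟨hW0, hW1⟩ := hne W (by omega) (by omega)
    exact hnd W hW0 hW1 (by omega) hW (Or.inl (by omega))
  · obtain ⟨hp⟩ := CfsgLib.Classical.exists_hypPairs hQ' (by omega)
    have hv' : Q' v ≠ 0 := by rw [← hQf]; exact hv
    have h2 : (2 : F) = 0 := by
      by_contra h2
      exact hev (Nat.odd_iff.2 (FiniteField.odd_card_of_char_ne_two fun hc => h2 (by
        haveI := ringChar.of_eq hc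
        exact_mod_cast (CharP.cast_eq_zero F 2))))
    exact CfsgLib.Classical.omega_isMaximalIn Q' hQf _
      (CfsgLib.Classical.PointMax.exists_not_stab_point hQ' h4 hp (by omega)
        (fun h => hv' (by rw [h, QuadraticMap.map_zero])))
      fun M hM g hg _ hgW => CfsgLib.Classical.PointMax.point_top hQ' h4 hp (by omega) h2 hv' hM hg hgW
  · rintro ⟨p, hp, hodd, hc⟩ D hD
    exact CfsgLib.Classical.FrameMax.frame_isMaximal Q' hQf (hc.symm ▸ hp)
      (CfsgLib.KnownC.OrthTools.two_ne_zero_of_odd rfl (hc.symm ▸ hodd)) (by simp) (by simp) hD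
  · exact CfsgLib.Classical.DecompOrth.decomp_isMaximalIn hQ (by simp) (by norm_num) D hD
      (fun _ => ⟨by omega, fun _ => hq⟩) (fun h => by omega) (fun h => by omega) (fun _ => by simp)
  · exact CfsgLib.Classical.DecompOrth.decomp_isMaximalIn hQ (by simp) (by norm_num) D hD
      (fun _ => ⟨hq, fun hp => absurd (hp 0) (hm 0)⟩) (fun h => by omega) (fun h => by omega) (fun _ => by simp)
  · exact CfsgLib.Classical.DecompOrth.decomp_isMaximalIn hQ (by simp) (by norm_num) D hD (fun h => by omega)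
      (fun _ => ⟨CfsgLib.Classical.DecompOrth.two_ne_zero_of_odd hq.1, hq.2⟩) (fun h => by omega) (fun _ => by simp)
  · exact CfsgLib.Classical.DecompOrth.decomp_isMaximalIn hQ (by simp) (by norm_num) D hD (fun h => by omega)
      (fun h => by omega) (fun _ h => by omega) (fun _ => by simp)
  · exact CfsgLib.Classical.DecompOrth.decomp_isMaximalIn hQ (by simp) (by norm_num) D hD (fun h => by omega)
      (fun h => by omega) (fun h => by omega) (fun _ => by simp)
  · have h : CfsgLib.Classical.LagPair Q' (D 0) (D 1) := by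
      refine ⟨fun x hx => (hQf x).symm.trans (hts 0 x hx), fun x hx => (hQf x).symm.trans (hts 1 x hx), ?_, ?_⟩
      · refine eq_top_iff.2 (hD.iSup_eq_top ▸ iSup_le ?_)
        exact Fin.forall_fin_two.2 ⟨le_sup_left, le_sup_right⟩
      · exact disjoint_iff.1 (hD.indep.pairwiseDisjoint (by decide : (0 : Fin 2) ≠ 1))
    exact CfsgLib.Classical.lagPair_isMaximalIn Q' hQf hQ' h4 (by omega) D h
      (by rw [hD.finrank_eq]; decide)
  · exact CfsgLib.Classical.FieldExtOrth.omega_isMaximal' hQ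
      (CfsgLib.KnownC.OrthTools.two_ne_zero_of_odd rfl hodd) Nat.prime_two hK hsa (by simp)
  · exact CfsgLib.Classical.FieldExtOrth.omega_isMaximal' hQ
      (CfsgLib.KnownC.OrthTools.two_ne_zero_of_odd rfl hodd) Nat.prime_three hK hsa (by simp)
  · exact CfsgLib.Classical.UnitarySubOrth.omegaGL_isMaximal (by norm_num) (by decide) Q hQ K hK hac hnsa hsc
  · exact CfsgLib.Classical.TensorMaxS.omega_isMaximal (by norm_num) hQ (by norm_num) (fun h => by omega)
      hf₁ hf₂ hT hpure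
  · exact CfsgLib.Classical.SubfieldOrth.subfield_isMaximalIn Q' hQf hQ' h4 (by simp) F₀ hr hc P hζ hP

end Cfsg.Agent.S5870
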