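import Cfsg.Statements.S5876
import Mathlib

set_option linter.style.haveILetI false

set_option autoImplicit false
open Cfsg

namespace Cfsg.Agent.S5876

open Matrix

variable {F : Type*} [Field F] [Fintype F] {n : ℕ}

/-- Fixed vectors of a matrix. -/
def fixSub (M : Matrix (Fin n) (Fin n) F) : Submodule F (Fin n → F) :=
  LinearMap.ker (Matrix.toLin' (M - 1))

lemma mem_fixSub {M : Matrix (Fin n) (Fin n) F} {v : Fin n → F} : v ∈ fixSub M ↔ M *ᵥ v = v := by
  rw [fixSub, LinearMap.mem_ker, Matrix.toLin'_apply, Matrix.sub_mulVec, Matrix.one_mulVec, sub_eq_zero]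

/-- Dimension of the space of fixed vectors. -/
noncomputable def fixDim (M : Matrix (Fin n) (Fin n) F) : ℕ := Module.finrank F (fixSub M)

variable {Γ : Type*} [Group Γ] (ρ : Γ →* GL (Fin n) F)

lemma mv_mul (a b : Γ) (v : Fin n → F) :
    (ρ (a * b)).1 *ᵥ v = (ρ a).1 *ᵥ ((ρ b).1 *ᵥ v) := by
  rw [map_mul, Units.val_mul, Matrix.mulVec_mulVec]

lemma mv_one (v : Fin n → F) : (ρ 1).1 *ᵥ v = v := by
  rw [map_one, Units.val_one, Matrix.one_mulVec]

/-- A commutator fixes at least `2d - n` dimensions. -/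
lemma two_mul_le (g x : Γ) :
    2 * fixDim (ρ g).1 ≤ n + fixDim (ρ (g * x * g⁻¹ * x⁻¹)).1 := by
  let L : (Fin n → F) →ₗ[F] (Fin n → F) := Matrix.toLin' (ρ x).1
  have hL : Function.Injective L := by
    intro u v huv
    have := congrArg (fun w => (ρ x⁻¹).1 *ᵥ w) huv
    simpa only [L, Matrix.toLin'_apply, ← mv_mul, inv_mul_cancel, mv_one] using this
  have hle : fixSub (ρ g).1 ⊓ (fixSub (ρ g).1).map L ≤ fixSub (ρ (g * x * g⁻¹ * x⁻¹)).1 := by
    rintro v ⟨hv, u, hu, rfl⟩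
    have hu' : (ρ g).1 *ᵥ u = u := mem_fixSub.1 hu
    have hg' : (ρ g⁻¹).1 *ᵥ u = u := by
      conv_lhs => rw [← hu']
      rw [← mv_mul, inv_mul_cancel, mv_one]
    rw [mem_fixSub]
    have hv' : (ρ g).1 *ᵥ (L u) = L u := mem_fixSub.1 hv
    simp only [L, Matrix.toLin'_apply] at hv' ⊢
    rw [mv_mul, ← mv_mul ρ x⁻¹ x, inv_mul_cancel, mv_one, mv_mul, hg', mv_mul, hv']
  have h1 := Submodule.finrank_sup_add_finrank_inf_eq (fixSub (ρ g).1) ((fixSub (ρ g).1).map L)
  have h2 := Submodule.finrank_le (fixSub (ρ g).1 ⊔ (fixSub (ρ g).1).map L)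
  have h3 := Submodule.finrank_mono hle
  have h4 : Module.finrank F ((fixSub (ρ g).1).map L) = fixDim (ρ g).1 :=
    (Submodule.equivMapOfInjective L hL _).finrank_eq.symm
  rw [Module.finrank_fin_fun] at h2
  unfold fixDim at *
  omega

variable (hirr : ∀ W : Submodule F (Fin n → F),
    (∀ h : Γ, W.map (Matrix.toLin' (ρ h).1) ≤ W) → W = ⊥ ∨ W = ⊤)
  (hprim : ∀ (t m : ℕ) (D : Fin t → Submodule F (Fin n → F)), Cfsg.Geo.IsMDecomposition m D →
    (∀ h : Γ, ∃ σ : Equiv.Perm (Fin t), ∀ i, (D i).map (Matrix.toLin' (ρ h).1) = D (σ i)) → False)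

include hirr in
lemma not_dvd [Finite Γ] [Nonempty (Fin n)] (hinj : Function.Injective ρ) (p : ℕ) [Fact p.Prime]
    [CharP F p] (A : Subgroup Γ) [A.Normal] (hA : ∀ a ∈ A, ∀ b ∈ A, a * b = b * a) :
    ¬ p ∣ Nat.card A := by
  intro hdvd
  let P : Subgroup Γ :=
    { carrier := {a | a ∈ A ∧ ∃ k : ℕ, a ^ p ^ k = 1}
      mul_mem' := fun {a b} ⟨ha, k, hk⟩ ⟨hb, l, hl⟩ => ⟨A.mul_mem ha hb, k + l, by
        rw [(show Commute a b from hA a ha b hb).mul_pow, pow_add, pow_mul, hk, one_pow, one_mul,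
          mul_comm (p ^ k), pow_mul, hl, one_pow]⟩
      one_mem' := ⟨A.one_mem, 0, one_pow _⟩
      inv_mem' := fun {a} ⟨ha, k, hk⟩ => ⟨A.inv_mem ha, k, by rw [inv_pow, hk, inv_one]⟩ }
  have hPn : P.Normal := ⟨fun a ⟨ha, k, hk⟩ g => ⟨Subgroup.Normal.conj_mem inferInstance a ha g, k, by
    rw [conj_pow, hk]; group⟩⟩
  have hPp : IsPGroup p P := fun a => ⟨a.2.2.choose, Subtype.ext a.2.2.choose_spec⟩
  letI act : MulAction P (Fin n → F) :=
    { smul := fun a v => (ρ a.1).1 *ᵥ v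
      one_smul := fun v => mv_one ρ v
      mul_smul := fun a b v => mv_mul ρ a.1 b.1 v }
  have hcard : p ∣ Nat.card (Fin n → F) := by
    obtain ⟨k, -, hk⟩ := FiniteField.card F p
    rw [Nat.card_fun, Nat.card_eq_fintype_card (α := Fin n), Fintype.card_fin,
      Nat.card_eq_fintype_card, hk, ← pow_mul]
    exact dvd_pow_self p (Nat.mul_ne_zero k.ne_zero (Fin.pos (Classical.arbitrary (Fin n))).ne')
  obtain ⟨v, hv, hv0⟩ := hPp.exists_fixed_point_of_prime_dvd_card_of_fixed_point (Fin n → F) hcard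
    (a := 0) (fun a => Matrix.mulVec_zero _)
  let W : Submodule F (Fin n → F) := ⨅ a : P, fixSub (ρ a.1).1
  have hW : W = ⊤ := by
    refine (hirr W fun h => ?_).resolve_left fun hb => ?_
    · rintro _ ⟨w, hw, rfl⟩
      simp only [W, SetLike.mem_coe, Submodule.mem_iInf, mem_fixSub] at hw ⊢
      intro a
      have ha := hw ⟨h⁻¹ * a.1 * h, by simpa using hPn.conj_mem a.1 a.2 h⁻¹⟩
      simp only [Matrix.toLin'_apply]
      conv_rhs => rw [← ha]
      rw [← mv_mul, ← mv_mul]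
      congr 3
      group
    · apply hv0
      have : v ∈ W := by
        simp only [W, Submodule.mem_iInf, mem_fixSub]
        exact hv
      rw [hb, Submodule.mem_bot] at this
      exact this.symm
  obtain ⟨a, ha⟩ := exists_prime_orderOf_dvd_card' (G := A) p hdvd
  have haP : (a : Γ) ∈ P := ⟨a.2, 1, by
    rw [pow_one, ← Subgroup.coe_pow, ← ha, pow_orderOf_eq_one, Subgroup.coe_one]⟩
  have hone : ρ a.1 = 1 := by
    apply Units.ext
    apply Matrix.toLin'.injective
    apply LinearMap.ext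
    intro w
    rw [Units.val_one, Matrix.toLin'_one, LinearMap.id_apply, Matrix.toLin'_apply]
    have hw : w ∈ W := hW ▸ Submodule.mem_top
    simp only [W, Submodule.mem_iInf, mem_fixSub] at hw
    exact hw ⟨a.1, haP⟩
  have : a = 1 := Subtype.ext (hinj (hone.trans (map_one ρ).symm))
  rw [this, orderOf_one] at ha
  exact (Fact.out : p.Prime).one_lt.ne ha

include hirr hprim in
lemma fix_eq_zero [Finite Γ] [Nonempty (Fin n)] (hinj : Function.Injective ρ)
    (A : Subgroup Γ) [A.Normal] (hA : ∀ a ∈ A, ∀ b ∈ A, a * b = b * a)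
    (z : Γ) (hz : z ∈ A) (hz1 : z ≠ 1) : fixDim (ρ z).1 = 0 := by
  classical
  obtain ⟨p, hp⟩ := CharP.exists F
  obtain ⟨k, hpp, hk⟩ := FiniteField.card F p
  haveI := Fact.mk hpp
  have hnd := not_dvd ρ hirr hinj p A hA
  set f := Nat.totient (Nat.card A) with hf
  set Q := Fintype.card F ^ f with hQdef
  have hQ2 : 2 ≤ Q := (Fintype.one_lt_card (α := F)).trans_le (Nat.le_self_pow
    (Nat.totient_pos.2 Nat.card_pos).ne' _)
  have hmod : Q ≡ 1 [MOD Nat.card A] :=
    Nat.ModEq.pow_totient (hk ▸ Nat.Coprime.pow_left _ (hpp.coprime_iff_not_dvd.2 hnd))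
  have hQp : Q = p ^ ((k : ℕ) * f) := by rw [hQdef, hk, ← pow_mul]
  let S : Set (Matrix (Fin n) (Fin n) F) := {M | ∃ a ∈ A, (ρ a).1 = M}
  let B : Subalgebra F (Matrix (Fin n) (Fin n) F) := Algebra.adjoin F S
  have hcomm : ∀ x ∈ B, ∀ y ∈ B, x * y = y * x := by
    intro x hx y hy
    refine Algebra.adjoin_induction₂ (R := F) (p := fun u v _ _ => u * v = v * u) ?_ ?_ ?_ ?_ ?_ ?_ ?_ ?_ hx hy
    · rintro _ _ ⟨a, ha, rfl⟩ ⟨b, hb, rfl⟩
      rw [← Units.val_mul, ← map_mul, hA a ha b hb, map_mul, Units.val_mul]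
    · intro r1 r2; exact (Algebra.commutes r1 _)
    · intro r x _; exact Algebra.commutes r x
    · intro r x _; exact (Algebra.commutes r x).symm
    · intro a b c _ _ _ h1 h2; rw [add_mul, mul_add, h1, h2]
    · intro a b c _ _ _ h1 h2; rw [add_mul, mul_add, h1, h2]
    · intro a b c _ _ _ h1 h2; rw [mul_assoc, h2, ← mul_assoc, h1, mul_assoc]
    · intro a b c _ _ _ h1 h2; rw [← mul_assoc, h1, mul_assoc, h2, mul_assoc]
  have hfrob : ∀ x ∈ B, x ^ Q = x := by
    intro x hx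
    induction hx using Algebra.adjoin_induction with
    | mem x hx =>
      obtain ⟨a, ha, rfl⟩ := hx
      have h1 : a ^ Q = a := by
        have h2 : (⟨a, ha⟩ : A) ^ Q = (⟨a, ha⟩ : A) ^ 1 :=
          pow_eq_pow_iff_modEq.2 (hmod.of_dvd (orderOf_dvd_natCard _))
        rw [pow_one] at h2
        exact congrArg Subtype.val h2
      rw [← Units.val_pow_eq_pow_val, ← map_pow, h1]
    | algebraMap r => rw [← map_pow, hQdef, FiniteField.pow_card_pow]
    | add u v hu hv h1 h2 =>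
      rw [hQp, add_pow_char_pow_of_commute _ _ (show Commute u v from hcomm u hu v hv), ← hQp, h1, h2]
    | mul u v hu hv h1 h2 =>
      rw [(show Commute u v from hcomm u hu v hv).mul_pow, h1, h2]
  let E : Set (Matrix (Fin n) (Fin n) F) := {e | e ∈ B ∧ e * e = e}
  let Atom : Matrix (Fin n) (Fin n) F → Prop := fun e => e ∈ E ∧ e ≠ 0 ∧ ∀ g ∈ E, e * g = 0 ∨ e * g = e
  have mulE : ∀ e ∈ E, ∀ g ∈ E, e * g ∈ E := fun e he g hg => ⟨B.mul_mem he.1 hg.1, by
    rw [mul_assoc, ← mul_assoc g e, hcomm g hg.1 e he.1, mul_assoc, hg.2, ← mul_assoc, he.2]⟩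
  have exists_atom : ∀ g ∈ E, g ≠ 0 → ∃ e, Atom e ∧ e * g = e := by
    intro g
    induction hm : {h | h ∈ E ∧ h * g = h}.ncard using Nat.strong_induction_on generalizing g with
    | _ m ih =>
      intro hg hg0
      by_cases hat : ∀ h ∈ E, g * h = 0 ∨ g * h = g
      · exact ⟨g, ⟨hg, hg0, hat⟩, hg.2⟩
      push Not at hat
      obtain ⟨h, hh, hne0, hneg⟩ := hat
      have hsub : {k | k ∈ E ∧ k * (g * h) = k} ⊂ {k | k ∈ E ∧ k * g = k} := by
        constructor
        · rintro k ⟨hk, hkk⟩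
          refine ⟨hk, ?_⟩
          conv_rhs => rw [← hkk]
          conv_lhs => rw [← hkk]
          rw [mul_assoc, mul_assoc g h g, hcomm h hh.1 g hg.1, ← mul_assoc g g, hg.2]
        · intro hle
          have := (hle (show g ∈ {k | k ∈ E ∧ k * g = k} from ⟨hg, hg.2⟩)).2
          rw [← mul_assoc, hg.2] at this
          exact hneg this
      obtain ⟨e, he, heq⟩ := ih _ (hm ▸ Set.ncard_lt_ncard hsub (Set.toFinite _)) _ rfl
        (mulE g hg h hh) hne0
      refine ⟨e, he, ?_⟩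
      conv_rhs => rw [← heq]
      conv_lhs => rw [← heq]
      rw [mul_assoc, mul_assoc g h g, hcomm h hh.1 g hg.1, ← mul_assoc g g, hg.2]
  have orth : ∀ e g, Atom e → Atom g → e ≠ g → e * g = 0 := by
    intro e g he hg hne
    rcases he.2.2 g hg.1 with h | h
    · exact h
    rcases hg.2.2 e he.1 with h' | h'
    · rw [hcomm e he.1.1 g hg.1.1]; exact h'
    · exact absurd (h.symm.trans ((hcomm e he.1.1 g hg.1.1).trans h')) hne
  let At : Finset (Matrix (Fin n) (Fin n) F) := (Set.toFinite {e | Atom e}).toFinset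
  have hAt : ∀ e, e ∈ At ↔ Atom e := fun e => by simp [At]
  have sumE : ∀ T ⊆ At, (∑ e ∈ T, e) ∈ E ∧ ∀ e ∈ At, e * (∑ g ∈ T, g) = if e ∈ T then e else 0 := by
    intro T hT
    have hsel : ∀ e ∈ At, e * (∑ g ∈ T, g) = if e ∈ T then e else 0 := by
      intro e he
      rw [Finset.mul_sum]
      by_cases heT : e ∈ T
      · rw [if_pos heT, Finset.sum_eq_single_of_mem e heT fun g hg hne =>
          orth e g ((hAt e).1 he) ((hAt g).1 (hT hg)) hne.symm]
        exact ((hAt e).1 he).1.2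
      · rw [if_neg heT]
        exact Finset.sum_eq_zero fun g hg => orth e g ((hAt e).1 he) ((hAt g).1 (hT hg))
          (fun h => heT (h ▸ hg))
    refine ⟨⟨B.sum_mem fun e he => ((hAt e).1 (hT he)).1.1, ?_⟩, hsel⟩
    rw [Finset.sum_mul]
    exact Finset.sum_congr rfl fun e he => by rw [hsel e (hT he), if_pos he]
  have htot : (∑ e ∈ At, e) = 1 := by
    by_contra hne
    obtain ⟨hs, hsel⟩ := sumE At subset_rfl
    have hc : 1 - (∑ e ∈ At, e) ∈ E := ⟨B.sub_mem B.one_mem hs.1, by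
      rw [mul_sub, mul_one, sub_mul, one_mul, hs.2, sub_self, sub_zero]⟩
    obtain ⟨e, he, heq⟩ := exists_atom _ hc (sub_ne_zero.2 (Ne.symm hne))
    rw [mul_sub, mul_one, hsel e ((hAt e).2 he), if_pos ((hAt e).2 he), sub_self] at heq
    exact he.2.1 heq.symm
  -- conjugation permutes the atoms
  let cj : Γ → Matrix (Fin n) (Fin n) F → Matrix (Fin n) (Fin n) F :=
    fun h M => (ρ h).1 * M * (ρ h⁻¹).1
  have cj_one : ∀ h, (ρ h⁻¹).1 * (ρ h).1 = 1 := fun h => by
    rw [← Units.val_mul, ← map_mul, inv_mul_cancel, map_one, Units.val_one]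
  have cj_mul : ∀ h M N, cj h (M * N) = cj h M * cj h N := fun h M N => by
    simp only [cj]
    rw [show (ρ h).1 * M * (ρ h⁻¹).1 * ((ρ h).1 * N * (ρ h⁻¹).1) =
      (ρ h).1 * M * ((ρ h⁻¹).1 * (ρ h).1) * N * (ρ h⁻¹).1 by simp only [mul_assoc], cj_one]
    simp only [mul_one, mul_assoc]
  have cj_cj : ∀ h h' M, cj h (cj h' M) = cj (h * h') M := fun h h' M => by
    simp only [cj, _root_.mul_inv_rev, map_mul, Units.val_mul, mul_assoc]
  have cj_id : ∀ M, cj 1 M = M := fun M => by simp [cj]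
  have cj_mem : ∀ h, ∀ M ∈ B, cj h M ∈ B := by
    intro h M hM
    induction hM using Algebra.adjoin_induction with
    | mem x hx =>
      obtain ⟨a, ha, rfl⟩ := hx
      refine Algebra.subset_adjoin ⟨h * a * h⁻¹, Subgroup.Normal.conj_mem inferInstance a ha h, ?_⟩
      simp only [cj, map_mul, Units.val_mul]
    | algebraMap r =>
      have : cj h (algebraMap F _ r) = algebraMap F _ r := by
        simp only [cj]
        rw [← Algebra.commutes, mul_assoc, ← Units.val_mul, ← map_mul, mul_inv_cancel, map_one,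
          Units.val_one, mul_one]
      rw [this]; exact B.algebraMap_mem r
    | add u v _ _ h1 h2 =>
      simp only [cj] at *
      rw [mul_add, add_mul]
      exact B.add_mem h1 h2
    | mul u v _ _ h1 h2 => rw [cj_mul]; exact B.mul_mem h1 h2
  have cj_atom : ∀ h e, Atom e → Atom (cj h e) := by
    intro h e he
    refine ⟨⟨cj_mem h e he.1.1, by rw [← cj_mul, he.1.2]⟩, fun h0 => he.2.1 ?_, fun g hg => ?_⟩
    · rw [← cj_id e, ← inv_mul_cancel h, ← cj_cj, h0]; simp [cj]
    · have hg' : cj h⁻¹ g ∈ E := ⟨cj_mem _ g hg.1, by rw [← cj_mul, hg.2]⟩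
      have hgg : g = cj h (cj h⁻¹ g) := by rw [cj_cj, mul_inv_cancel, cj_id]
      rw [hgg, ← cj_mul]
      rcases he.2.2 _ hg' with h1 | h1 <;> rw [h1]
      · left; simp [cj]
      · right; rfl
  have cj_lin : ∀ h e v, (ρ h).1 *ᵥ (e *ᵥ v) = (cj h e) *ᵥ ((ρ h).1 *ᵥ v) := fun h e v => by
    simp only [cj, Matrix.mulVec_mulVec, mul_assoc, cj_one, mul_one]
  have cj_range : ∀ h e, (LinearMap.range (Matrix.toLin' e)).map (Matrix.toLin' (ρ h).1) =
      LinearMap.range (Matrix.toLin' (cj h e)) := by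
    intro h e
    ext w
    constructor
    · rintro ⟨_, ⟨v, rfl⟩, rfl⟩
      exact ⟨(ρ h).1 *ᵥ v, (cj_lin h e v).symm⟩
    · rintro ⟨v, rfl⟩
      refine ⟨e *ᵥ ((ρ h⁻¹).1 *ᵥ v), ⟨_, rfl⟩, ?_⟩
      rw [Matrix.toLin'_apply, Matrix.toLin'_apply, cj_lin, ← mv_mul, mul_inv_cancel, mv_one]
  have trans : ∀ e e', Atom e → Atom e' → ∃ h, cj h e = e' := by
    intro e e' he he'
    by_contra hcon
    let T := At.filter (fun g => ∃ h, cj h e = g)
    obtain ⟨hs, hsel⟩ := sumE T (Finset.filter_subset _ _)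
    have hinv : ∀ h, cj h (∑ g ∈ T, g) = ∑ g ∈ T, g := by
      intro h
      have : cj h (∑ g ∈ T, g) = ∑ g ∈ T, cj h g := by
        simp only [cj, Finset.mul_sum, Finset.sum_mul]
      rw [this]
      refine Finset.sum_bij' (fun g _ => cj h g) (fun g _ => cj h⁻¹ g) ?_ ?_ ?_ ?_ (fun g _ => rfl)
      · intro g hg
        simp only [T, Finset.mem_filter, hAt] at hg ⊢
        obtain ⟨hga, h', rfl⟩ := hg
        exact ⟨cj_atom h _ hga, h * h', (cj_cj _ _ _).symm⟩
      · intro g hg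
        simp only [T, Finset.mem_filter, hAt] at hg ⊢
        obtain ⟨hga, h', rfl⟩ := hg
        exact ⟨cj_atom h⁻¹ _ hga, h⁻¹ * h', (cj_cj _ _ _).symm⟩
      · intro g _; rw [cj_cj, inv_mul_cancel, cj_id]
      · intro g _; rw [cj_cj, mul_inv_cancel, cj_id]
    set s := ∑ g ∈ T, g with hsdef
    rcases hirr (LinearMap.range (Matrix.toLin' s)) (fun h => by rw [cj_range, hinv]) with hb | ht
    · have h0 : s = 0 := by
        apply Matrix.toLin'.injective
        rw [map_zero, ← LinearMap.range_eq_bot, hb]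
      have := hsel e ((hAt e).2 he)
      rw [h0, mul_zero, if_pos (Finset.mem_filter.2 ⟨(hAt e).2 he, 1, cj_id e⟩)] at this
      exact he.2.1 this.symm
    · have h1 : s = 1 := by
        apply Matrix.toLin'.injective
        rw [Matrix.toLin'_one]
        apply LinearMap.ext
        intro v
        obtain ⟨u, hu⟩ := ht.symm ▸ (Submodule.mem_top : v ∈ ⊤)
        rw [LinearMap.id_apply, ← hu, Matrix.toLin'_apply, Matrix.toLin'_apply, Matrix.mulVec_mulVec, hs.2]
      have := hsel e' ((hAt e').2 he')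
      rw [h1, mul_one, if_neg] at this
      · exact he'.2.1 this
      · intro h
        exact hcon (Finset.mem_filter.1 h).2
  have hone : ∀ e, Atom e → e = 1 := by
    intro e he
    by_contra hne
    have htwo : 1 < At.card := by
      by_contra hle
      push Not at hle
      have : At = {e} := Finset.eq_singleton_iff_unique_mem.2
        ⟨(hAt e).2 he, fun g hg => Finset.card_le_one.1 hle g hg e ((hAt e).2 he)⟩
      rw [this, Finset.sum_singleton] at htot
      exact hne htot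
    let a : Fin At.card ≃ At := At.equivFin.symm
    let D : Fin At.card → Submodule F (Fin n → F) := fun i => LinearMap.range (Matrix.toLin' (a i).1)
    have hatom : ∀ i, Atom (a i).1 := fun i => (hAt _).1 (a i).2
    refine hprim At.card (Module.finrank F (LinearMap.range (Matrix.toLin' e))) D ⟨htwo, ?_, ?_, ?_, ?_⟩ ?_
    · rw [Nat.pos_iff_ne_zero, Ne, Submodule.finrank_eq_zero, LinearMap.range_eq_bot]
      intro h
      exact he.2.1 (Matrix.toLin'.injective (h.trans (map_zero _).symm))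
    · intro i
      obtain ⟨h, hh⟩ := trans e (a i).1 he (hatom i)
      have hinjh : Function.Injective (Matrix.toLin' (ρ h).1) := by
        intro u v huv
        have := congrArg (fun w => (ρ h⁻¹).1 *ᵥ w) huv
        simpa only [Matrix.toLin'_apply, ← mv_mul, inv_mul_cancel, mv_one] using this
      have e1 : D i = (LinearMap.range (Matrix.toLin' e)).map (Matrix.toLin' (ρ h).1) := by
        rw [cj_range, hh]
      rw [e1]
      exact (Submodule.equivMapOfInjective _ hinjh _).finrank_eq.symm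
    · intro i
      rw [disjoint_iff, Submodule.eq_bot_iff]
      rintro v ⟨⟨u, rfl⟩, hv⟩
      have hker : (⨆ j, ⨆ (_ : j ≠ i), D j) ≤ LinearMap.ker (Matrix.toLin' (a i).1) := by
        refine iSup₂_le fun j hj => ?_
        rintro _ ⟨w, rfl⟩
        rw [LinearMap.mem_ker, Matrix.toLin'_apply, Matrix.toLin'_apply, Matrix.mulVec_mulVec,
          orth _ _ (hatom i) (hatom j) (fun h => hj (a.injective (Subtype.ext h)).symm), Matrix.zero_mulVec]
      have h0 := hker hv
      rw [LinearMap.mem_ker, Matrix.toLin'_apply, Matrix.toLin'_apply, Matrix.mulVec_mulVec,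
        (hatom i).1.2] at h0
      rw [Matrix.toLin'_apply, h0]
    · rw [eq_top_iff]
      intro v _
      have : v = ∑ g ∈ At, g *ᵥ v := by rw [← Matrix.sum_mulVec, htot, Matrix.one_mulVec]
      rw [this]
      refine Submodule.sum_mem _ fun g hg => Submodule.mem_iSup_of_mem (a.symm ⟨g, hg⟩) ⟨v, ?_⟩
      simp [Matrix.toLin'_apply]
    · intro h
      let σ₀ : At → At := fun g => ⟨cj h g.1, (hAt _).2 (cj_atom h _ ((hAt _).1 g.2))⟩
      have hσinj : Function.Injective σ₀ := fun g g' hgg => by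
        apply Subtype.ext
        have := congrArg (cj h⁻¹) (congrArg Subtype.val hgg)
        simpa only [σ₀, cj_cj, inv_mul_cancel, cj_id] using this
      let σ : Equiv.Perm At := Equiv.ofBijective σ₀ hσinj.bijective_of_finite
      refine ⟨(a.trans σ).trans a.symm, fun i => ?_⟩
      simp only [D]
      rw [cj_range]
      simp [σ, σ₀]
  by_contra hne
  set y := (ρ z).1 - 1 with hy
  have hyB : y ∈ B := B.sub_mem (Algebra.subset_adjoin ⟨z, hz, rfl⟩) B.one_mem
  have hyy : y ^ (Q - 1) * y ^ (Q - 1) = y ^ (Q - 1) := by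
    rw [← pow_add, show Q - 1 + (Q - 1) = Q + (Q - 2) by omega, pow_add, hfrob y hyB, ← pow_succ']
    congr 1
    omega
  have hE : 1 - y ^ (Q - 1) ∈ E := ⟨B.sub_mem B.one_mem (B.pow_mem hyB _), by
    rw [mul_sub, mul_one, sub_mul, one_mul, hyy, sub_self, sub_zero]⟩
  obtain ⟨v, hv, hv0⟩ := (fixSub (ρ z).1).ne_bot_iff.1 (by
    intro hb; apply hne; rw [fixDim, hb]; exact finrank_bot F _)
  have hyv : y *ᵥ v = 0 := by
    rw [hy, Matrix.sub_mulVec, Matrix.one_mulVec, mem_fixSub.1 hv, sub_self]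
  have hev : (1 - y ^ (Q - 1)) *ᵥ v = v := by
    rw [Matrix.sub_mulVec, Matrix.one_mulVec, show Q - 1 = (Q - 2) + 1 by omega, pow_succ,
      ← Matrix.mulVec_mulVec, hyv, Matrix.mulVec_zero, sub_zero]
  obtain ⟨e, he, hee⟩ := exists_atom _ hE (fun h0 => hv0 (by rw [← hev, h0, Matrix.zero_mulVec]))
  rw [hone e he, one_mul] at hee
  have hy0 : y ^ (Q - 1) = 0 := sub_eq_self.1 hee
  have : y = 0 := by
    rw [← hfrob y hyB, show Q = (Q - 1) + 1 by omega, pow_succ, hy0, zero_mul]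
  apply hz1
  apply hinj
  rw [map_one]
  exact Units.ext (sub_eq_zero.1 this)

include hirr hprim in
lemma bound' [Finite Γ] [Group.IsSolvable Γ] [Nonempty (Fin n)] (hinj : Function.Injective ρ)
    (g : Γ) (hg : g ≠ 1) : 4 * fixDim (ρ g).1 ≤ 3 * n := by
  classical
  obtain ⟨A, hA⟩ := (Set.toFinite {A : Subgroup Γ | A.Normal ∧ ∀ a ∈ A, ∀ b ∈ A, a * b = b * a}).exists_maximal
    ⟨⊥, inferInstance, fun a ha b hb => by
      rw [Subgroup.mem_bot.1 ha, Subgroup.mem_bot.1 hb]⟩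
  haveI hAn : A.Normal := hA.1.1
  have fpf : ∀ z ∈ A, z ≠ 1 → fixDim (ρ z).1 = 0 := fun z hz hz1 =>
    fix_eq_zero ρ hirr hprim hinj A hA.1.2 z hz hz1
  have half : ∀ x, g * x * g⁻¹ * x⁻¹ ∈ A → g * x * g⁻¹ * x⁻¹ ≠ 1 → 4 * fixDim (ρ g).1 ≤ 3 * n := by
    intro x h1 h2
    have := two_mul_le ρ g x
    rw [fpf _ h1 h2] at this
    omega
  by_cases hgC : ∀ a ∈ A, g * a = a * g
  swap
  · push Not at hgC
    obtain ⟨a, ha, hne⟩ := hgC
    refine half a (A.mul_mem (hAn.conj_mem a ha g) (A.inv_mem ha)) fun h => hne ?_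
    calc g * a = (g * a * g⁻¹ * a⁻¹) * (a * g) := by group
      _ = a * g := by rw [h, one_mul]
  suffices key : ∀ (D : Subgroup Γ), D.Normal → A ≤ D → (∀ x ∈ D, ∀ a ∈ A, x * a = a * x) →
      g ∈ D → 4 * fixDim (ρ g).1 ≤ 3 * n by
    refine key (Subgroup.centralizer (A : Set Γ)) inferInstance
      (fun a ha => Subgroup.mem_centralizer_iff.2 fun b hb => hA.1.2 b hb a ha)
      (fun x hx a ha => (Subgroup.mem_centralizer_iff.1 hx a ha).symm)
      (Subgroup.mem_centralizer_iff.2 fun a ha => (hgC a ha).symm)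
  intro D
  induction hm : Nat.card D using Nat.strong_induction_on generalizing D with
  | _ m ih =>
  intro hDn hAD hDA hgD
  by_cases hgA : g ∈ A
  · rw [fpf g hgA hg]; omega
  obtain ⟨r, hr⟩ := (inferInstance : Group.IsSolvable Γ).solvable
  have hex : ∃ k, D ⊓ derivedSeries Γ k ≤ A := ⟨r, by rw [hr, inf_bot_eq]; exact bot_le⟩
  obtain ⟨k, hk⟩ : ∃ k, Nat.find hex = k + 1 := by
    refine Nat.exists_eq_succ_of_ne_zero fun h0 => ?_
    have := Nat.find_spec hex
    rw [h0, derivedSeries_zero, inf_top_eq] at this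
    exact hgA (this hgD)
  have hLA : ¬ D ⊓ derivedSeries Γ k ≤ A := Nat.find_min hex (by omega)
  have hLA' : D ⊓ derivedSeries Γ (k + 1) ≤ A := hk ▸ Nat.find_spec hex
  haveI : (derivedSeries Γ k).Normal := derivedSeries_normal Γ k
  set L := D ⊓ derivedSeries Γ k with hL
  set B := A ⊔ L with hB
  haveI hBn : B.Normal := Subgroup.sup_normal _ _
  have hBD : B ≤ D := sup_le hAD inf_le_left
  have hBB : ∀ x ∈ B, ∀ y ∈ B, x * y * x⁻¹ * y⁻¹ ∈ A := by
    have hLL : ∀ u ∈ L, ∀ v ∈ L, u * v * u⁻¹ * v⁻¹ ∈ A := by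
      intro u hu v hv
      refine hLA' ⟨D.mul_mem (D.mul_mem (D.mul_mem hu.1 hv.1) (D.inv_mem hu.1)) (D.inv_mem hv.1), ?_⟩
      rw [derivedSeries_succ]
      exact Subgroup.commutator_mem_commutator hu.2 hv.2
    intro x hx y hy
    obtain ⟨a, ha, u, hu, rfl⟩ := Subgroup.mem_sup_of_normal_left.1 hx
    obtain ⟨b, hb, v, hv, rfl⟩ := Subgroup.mem_sup_of_normal_left.1 hy
    have e : a * u * (b * v) * (a * u)⁻¹ * (b * v)⁻¹ = u * v * u⁻¹ * v⁻¹ := by
      have cb : ∀ w ∈ D, w * b = b * w := fun w hw => hDA w hw b hb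
      have ca : ∀ w ∈ D, w * a = a * w := fun w hw => hDA w hw a ha
      have hub : u * b = b * u := cb u hu.1
      have hw : u * v * u⁻¹ * v⁻¹ ∈ A := hLL u hu v hv
      have hcu : (u * v * u⁻¹) * a⁻¹ = a⁻¹ * (u * v * u⁻¹) := by
        have := hDA (u * v * u⁻¹) (D.mul_mem (D.mul_mem hu.1 hv.1) (D.inv_mem hu.1)) a⁻¹ (A.inv_mem ha)
        exact this
      calc a * u * (b * v) * (a * u)⁻¹ * (b * v)⁻¹
          = a * (u * b) * v * u⁻¹ * a⁻¹ * v⁻¹ * b⁻¹ := by group
        _ = a * b * ((u * v * u⁻¹) * a⁻¹) * v⁻¹ * b⁻¹ := by rw [hub]; group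
        _ = a * b * a⁻¹ * (u * v * u⁻¹ * v⁻¹) * b⁻¹ := by rw [hcu]; group
        _ = b * (u * v * u⁻¹ * v⁻¹) * b⁻¹ := by rw [hA.1.2 a ha b hb]; group
        _ = u * v * u⁻¹ * v⁻¹ := by rw [hA.1.2 b hb _ hw]; group
    rw [e]
    exact hLL u hu v hv
  have hcen : ∀ c ∈ B, (∀ y ∈ B, c * y = y * c) → c ∈ A := by
    intro c hc hcy
    let Z := B ⊓ Subgroup.centralizer (B : Set Γ)
    have hAZ : A ≤ Z := fun a ha => ⟨le_sup_left (a := A) ha,
      Subgroup.mem_centralizer_iff.2 fun y hy => hDA y (hBD hy) a ha⟩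
    have hZA : Z ≤ A := hA.2 ⟨inferInstance, fun a ha b hb =>
      (Subgroup.mem_centralizer_iff.1 hb.2 a ha.1)⟩ hAZ
    exact hZA ⟨hc, Subgroup.mem_centralizer_iff.2 fun y hy => (hcy y hy).symm⟩
  by_cases hgB : ∀ x ∈ B, g * x = x * g
  · set D' := D ⊓ Subgroup.centralizer (B : Set Γ) with hD'
    have hlt : D' < D := by
      refine lt_of_le_of_ne inf_le_left fun e => hLA ?_
      intro x hx
      apply hcen x (le_sup_right (a := A) hx)
      intro y hy
      have : x ∈ Subgroup.centralizer (B : Set Γ) := by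
        have hxD : x ∈ D' := e.symm ▸ hx.1
        exact hxD.2
      exact (Subgroup.mem_centralizer_iff.1 this y hy).symm
    refine ih _ (hm ▸ ?_) D' rfl inferInstance (fun a ha => ⟨hAD ha,
      Subgroup.mem_centralizer_iff.2 fun y hy => hDA y (hBD hy) a ha⟩) (fun x hx => hDA x hx.1)
      ⟨hgD, Subgroup.mem_centralizer_iff.2 fun y hy => (hgB y hy).symm⟩
    exact Set.Finite.card_lt_card (Set.toFinite _) hlt
  push Not at hgB
  obtain ⟨x, hx, hne⟩ := hgB
  set c := g * x * g⁻¹ * x⁻¹ with hc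
  have hc1 : c ≠ 1 := fun h => hne (by
    calc g * x = c * (x * g) := by rw [hc]; group
      _ = x * g := by rw [h, one_mul])
  by_cases hcA : c ∈ A
  · exact half x hcA hc1
  have hcB : c ∈ B := B.mul_mem (hBn.conj_mem x hx g) (B.inv_mem hx)
  obtain ⟨y, hy, hy'⟩ : ∃ y ∈ B, c * y ≠ y * c := by
    by_contra hcon
    push Not at hcon
    exact hcA (hcen c hcB hcon)
  have hz : c * y * c⁻¹ * y⁻¹ ≠ 1 := fun h => hy' (by
    calc c * y = (c * y * c⁻¹ * y⁻¹) * (y * c) := by group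
      _ = y * c := by rw [h, one_mul])
  have h1 := two_mul_le ρ g x
  have h2 := two_mul_le ρ c y
  rw [fpf _ (hBB c hcB y hy) hz] at h2
  rw [← hc] at h1
  omega

lemma bound [Finite Γ] [Group.IsSolvable Γ] [Nonempty (Fin n)] (hinj : Function.Injective ρ)
    (hirr : ∀ W : Submodule F (Fin n → F),
      (∀ h : Γ, W.map (Matrix.toLin' (ρ h).1) ≤ W) → W = ⊥ ∨ W = ⊤)
    (hprim : ∀ (t m : ℕ) (D : Fin t → Submodule F (Fin n → F)), Cfsg.Geo.IsMDecomposition m D →
      (∀ h : Γ, ∃ σ : Equiv.Perm (Fin t), ∀ i, (D i).map (Matrix.toLin' (ρ h).1) = D (σ i)) → False)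
    (g : Γ) (hg : g ≠ 1) : 4 * fixDim (ρ g).1 ≤ 3 * n :=
  bound' ρ hirr hprim hinj g hg

/-- Fixed-point spaces in primitive soluble linear groups. Let F be a finite field and G a soluble subgroup of GL_n(F) that acts irreducibly on F^n and primitively (G preserves no decomposition of F^n into two or more independent subspaces of equal dimension). Then every non-identity element g of G has fixed-point space {v : g v = v} of dimension at most 3n/4. -/
theorem result {F : Type*} [Field F] [Fintype F] {n : ℕ} (G : Subgroup (Matrix.GeneralLinearGroup (Fin n) F)) (hsol : IsSolvable G) (hirr : Cfsg.Geo.ActsIrreducibly (Cfsg.Geo.matrixSet G)) (hprim : ∀ (m t : ℕ) (D : Fin t → Submodule F (Fin n → F)), 2 ≤ t → Cfsg.Geo.IsMDecomposition m D → ¬ G ≤ Cfsg.Geo.decompositionStabilizer D) (g : Matrix.GeneralLinearGroup (Fin n) F) (hg : g ∈ G) (hg1 : g ≠ 1) :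
    4 * Module.finrank F (Module.End.eigenspace (Matrix.toLin' (g : Matrix (Fin n) (Fin n) F)) 1) ≤ 3 * n := by
  classical
  rcases Nat.eq_zero_or_pos n with hn | hn
  · subst hn
    have : ((g : Matrix (Fin 0) (Fin 0) F)) = 1 := Subsingleton.elim _ _
    exact absurd (Units.ext this) hg1
  haveI : Nonempty (Fin n) := ⟨⟨0, hn⟩⟩
  haveI hsolv : Group.IsSolvable G := hsol
  have key := bound (Γ := G) G.subtype G.subtype_injective ?hi ?hp (⟨g, hg⟩ : G) (fun h => hg1 (congrArg Subtype.val h))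
  · rw [Module.End.eigenspace_def, one_smul]
    refine le_trans (le_of_eq ?_) key
    congr 1
    unfold fixDim fixSub
    rw [map_sub, Matrix.toLin'_one]
    rfl
  · intro W hW
    apply hirr W
    rintro _ ⟨h, hh, rfl⟩
    exact hW ⟨h, hh⟩
  · intro t m D hD hperm
    apply hprim m t D hD.two_le hD
    intro h hh
    obtain ⟨σ, hσ⟩ := hperm ⟨h, hh⟩
    exact ⟨σ, hσ⟩

end Cfsg.Agent.S5876
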