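import Cfsg.Statements.S5877
-- import your own Cfsg.Agent.* helpers here

set_option autoImplicit false
open Cfsg Matrix

namespace Cfsg.Agent.S5877

section Aux

open Module Matrix

variable {F : Type*} [Field F] {n : ℕ}

/-- The eigenspace of an invertible matrix. -/
abbrev Eig (u : GL (Fin n) F) (a : F) : Submodule F (Fin n → F) :=
  Module.End.eigenspace (Matrix.toLin' (u : Matrix (Fin n) (Fin n) F)) a

theorem mem_Eig {u : GL (Fin n) F} {a : F} {v : Fin n → F} : v ∈ Eig u a ↔ (u : Matrix (Fin n) (Fin n) F) *ᵥ v = a • v := by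
  rw [Eig, Module.End.mem_eigenspace_iff, Matrix.toLin'_apply]

theorem finrank_image (b : GL (Fin n) F) (U : Submodule F (Fin n → F)) :
    finrank F ↥(U.map (Matrix.toLin' (b : Matrix (Fin n) (Fin n) F))) = finrank F ↥U :=
  (Submodule.equivMapOfInjective _ (fun v w h => by
    simp only [Matrix.toLin'_apply] at h
    exact Matrix.mulVec_injective_iff_isUnit.2 b.isUnit h) U).finrank_eq.symm

/-- Subspaces in distinct eigenspaces have dimensions adding up to at most that of the whole. -/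
theorem sum_finrank_le {ι : Type*} (u : GL (Fin n) F) {θ : ι → F} (hθ : Function.Injective θ) (s : Finset ι)
    (U : ι → Submodule F (Fin n → F)) (hU : ∀ i ∈ s, U i ≤ Eig u (θ i)) {W : Submodule F (Fin n → F)}
    (hW : ∀ i ∈ s, U i ≤ W) : ∑ i ∈ s, finrank F ↥(U i) ≤ finrank F ↥W := by
  classical
  suffices h : ∑ i ∈ s, finrank F ↥(U i) = finrank F ↥(s.sup U) by
    rw [h]
    exact Submodule.finrank_mono (Finset.sup_le hW)
  clear hW
  induction s using Finset.induction_on with
  | empty => rw [Finset.sum_empty, Finset.sup_empty, finrank_bot]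
  | insert a s ha ih =>
    rw [Finset.sum_insert ha, Finset.sup_insert, ih fun i hi => hU i (Finset.mem_insert_of_mem hi)]
    have hna : θ a ∉ θ '' (s : Set ι) := fun ⟨b, hb, hba⟩ => ha (hθ hba ▸ hb)
    have hle : s.sup U ≤ ⨆ j ∈ θ '' (s : Set ι), Eig u j := Finset.sup_le fun i hi =>
      (hU i (Finset.mem_insert_of_mem hi)).trans (le_biSup (Eig u) (Set.mem_image_of_mem θ hi))
    have hd : Disjoint (U a) (s.sup U) := (iSupIndep.disjoint_biSup
      (Module.End.eigenspaces_iSupIndep (Matrix.toLin' (u : Matrix (Fin n) (Fin n) F))) hna).mono (hU a (Finset.mem_insert_self a s)) hle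
    have h := Submodule.finrank_sup_add_finrank_inf_eq (U a) (s.sup U)
    rw [disjoint_iff.1 hd, finrank_bot] at h
    omega

theorem finrank_sup_le_sum {ι : Type*} (s : Finset ι) (U : ι → Submodule F (Fin n → F)) :
    finrank F ↥(s.sup U) ≤ ∑ i ∈ s, finrank F ↥(U i) := by
  classical
  induction s using Finset.induction_on with
  | empty => simp
  | insert a s ha ih =>
    rw [Finset.sum_insert ha, Finset.sup_insert]
    have h := Submodule.finrank_sup_add_finrank_inf_eq (U a) (s.sup U)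
    omega

/-- A skew-commuting element shifts eigenspaces. -/
theorem shift_Eig {u b : GL (Fin n) F} {s a : F} (h : (u : Matrix (Fin n) (Fin n) F) * (b : Matrix (Fin n) (Fin n) F) = s • ((b : Matrix (Fin n) (Fin n) F) * (u : Matrix (Fin n) (Fin n) F)))
    {v : Fin n → F} (hv : v ∈ Eig u a) : (b : Matrix (Fin n) (Fin n) F) *ᵥ v ∈ Eig u (s * a) := by
  rw [mem_Eig] at hv ⊢
  rw [Matrix.mulVec_mulVec, h, Matrix.smul_mulVec, ← Matrix.mulVec_mulVec, hv, Matrix.mulVec_smul, smul_smul]

/-- An element skew-commuting by a non-trivial `r`-th root of unity has small eigenspaces. -/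
theorem mul_finrank_Eig_le {r : ℕ} (hr : r.Prime) {u b : GL (Fin n) F} {s : F} (hsr : s ^ r = 1) (hs1 : s ≠ 1)
    (h : (u : Matrix (Fin n) (Fin n) F) * (b : Matrix (Fin n) (Fin n) F) = s • ((b : Matrix (Fin n) (Fin n) F) * (u : Matrix (Fin n) (Fin n) F))) {θ : F} (hθ : θ ≠ 0) :
    r * finrank F ↥(Eig u θ) ≤ n := by
  haveI := Fact.mk hr
  have hord : orderOf s = r := orderOf_eq_prime hsr hs1
  have hU : ∀ (t : ℕ) (v : Fin n → F), v ∈ Eig u θ → ((b ^ t : GL (Fin n) F) : Matrix (Fin n) (Fin n) F) *ᵥ v ∈ Eig u (s ^ t * θ) := by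
    intro t
    induction t with
    | zero => intro v hv; simpa using hv
    | succ t ih =>
      intro v hv
      rw [pow_succ' b, Units.val_mul, ← Matrix.mulVec_mulVec, pow_succ' s, mul_assoc]
      exact shift_Eig h (ih v hv)
  have hsum := sum_finrank_le u (θ := fun t : Fin r => s ^ (t : ℕ) * θ) (fun i j hij => Fin.ext
      (pow_injOn_Iio_orderOf (by simp [hord]) (by simp [hord]) (mul_right_cancel₀ hθ hij))) Finset.univ
    (fun t => (Eig u θ).map (Matrix.toLin' ((b ^ (t : ℕ) : GL (Fin n) F) : Matrix (Fin n) (Fin n) F)))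
    (fun t _ => by
      rintro - ⟨v, hv, rfl⟩
      rw [Matrix.toLin'_apply]
      exact hU t v hv) (W := ⊤) (fun _ _ => le_top)
  simp only [finrank_image, Finset.sum_const, Finset.card_univ, Fintype.card_fin, smul_eq_mul, finrank_top,
    Module.finrank_fin_fun] at hsum
  exact hsum

end Aux

/-- Eigenspaces of elements normalising an absolutely irreducible extraspecial group. Let F be a finite field, r a prime, and R ≤ GL_n(F) an absolutely irreducible extraspecial r-group (an r-group whose centre equals its derived subgroup and has order r) of exponent r or 4. Let g ∈ GL_n(F) normalise the product of R with the scalar matrices, have prime order ϖ and not be scalar, and let W be the eigenspace of g for any c ∈ F (W may be the zero subspace). Then dim W ≤ 3n/4 if ϖ = 2, dim W ≤ 2n/3 if ϖ = 3, and dim W ≤ n/2 if ϖ > 3; moreover if ϖ = 3 and 3 does not divide n then dim W ≤ n/2. -/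
theorem result {F : Type*} [Field F] [Fintype F] {n r ϖ : ℕ} (R : Subgroup (Matrix.GeneralLinearGroup (Fin n) F)) (hr : r.Prime) (hR : IsPGroup r R) (hZ : Nat.card (Subgroup.center R) = r) (hext : commutator R = Subgroup.center R) (hexp : Monoid.exponent R = r ∨ Monoid.exponent R = 4) (hirr : Cfsg.Geo.ActsAbsolutelyIrreducibly (Cfsg.Geo.matrixSet R)) (g : Matrix.GeneralLinearGroup (Fin n) F) (hg : g ∈ Cfsg.Geo.subgroupNormalizer (R ⊔ Cfsg.Geo.scalars (Fin n) F)) (hϖ : ϖ.Prime) (hord : orderOf g = ϖ) (hns : g ∉ Cfsg.Geo.scalars (Fin n) F) (c : F) :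
    (ϖ = 2 → 4 * Module.finrank F (Module.End.eigenspace (Matrix.toLin' (g : Matrix (Fin n) (Fin n) F)) c) ≤ 3 * n) ∧
    (ϖ = 3 → 3 * Module.finrank F (Module.End.eigenspace (Matrix.toLin' (g : Matrix (Fin n) (Fin n) F)) c) ≤ 2 * n) ∧
    (3 < ϖ → 2 * Module.finrank F (Module.End.eigenspace (Matrix.toLin' (g : Matrix (Fin n) (Fin n) F)) c) ≤ n) ∧
    (ϖ = 3 → ¬ 3 ∣ n → 2 * Module.finrank F (Module.End.eigenspace (Matrix.toLin' (g : Matrix (Fin n) (Fin n) F)) c) ≤ n) := by
  classical
  haveI := Fact.mk hr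
  set W := Eig g c with hWdef
  change (ϖ = 2 → 4 * Module.finrank F ↥W ≤ 3 * n) ∧ (ϖ = 3 → 3 * Module.finrank F ↥W ≤ 2 * n) ∧
    (3 < ϖ → 2 * Module.finrank F ↥W ≤ n) ∧ (ϖ = 3 → ¬ 3 ∣ n → 2 * Module.finrank F ↥W ≤ n)
  set d := Module.finrank F ↥W with hd
  have hr2 := hr.two_le
  have hn0 : 0 < n := by
    by_contra h0
    obtain rfl : n = 0 := by omega
    haveI : Subsingleton (GL (Fin 0) F) := ⟨fun a b => Units.ext (Subsingleton.elim _ _)⟩
    rw [Nat.card_of_subsingleton (1 : Subgroup.center R)] at hZ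
    exact hr.ne_one hZ.symm
  let o : Fin n := ⟨0, hn0⟩
  haveI : Nonempty (Fin n) := ⟨o⟩
  set S := Cfsg.Geo.scalars (Fin n) F with hSdef
  have hent : ∀ a b : F, a • (1 : Matrix (Fin n) (Fin n) F) = b • (1 : Matrix (Fin n) (Fin n) F) → a = b := fun a b h => by
    simpa using congrFun (congrFun h o) o
  have hSmem : ∀ u : GL (Fin n) F, u ∈ S ↔ ∃ a : F, (u : Matrix (Fin n) (Fin n) F) = a • (1 : Matrix (Fin n) (Fin n) F) := fun u => by
    rw [hSdef, Cfsg.Geo.mem_scalars_iff]
    refine ⟨fun ⟨a, ha⟩ => ⟨a, ha⟩, fun ⟨a, ha⟩ => ⟨Units.mk0 a fun h0 => ?_, ha⟩⟩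
    have h1 := (Matrix.GeneralLinearGroup.det u).ne_zero
    apply h1
    show (u : Matrix (Fin n) (Fin n) F).det = 0
    rw [ha, h0, zero_smul, Matrix.det_zero]
  have hSc : ∀ s ∈ S, ∀ u : GL (Fin n) F, s * u = u * s := fun s hs u => by
    obtain ⟨a, ha⟩ := (hSmem s).1 hs
    exact Units.ext (by
      rw [Units.val_mul, Units.val_mul, ha, Matrix.smul_mul, Matrix.one_mul, Matrix.mul_smul, Matrix.mul_one])
  haveI hSn : S.Normal := ⟨fun s hs u => by
    rw [← hSc s hs u, mul_inv_cancel_right]; exact hs⟩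
  have hscal : ∀ T : GL (Fin n) F, (∀ b ∈ R, T * b = b * T) → T ∈ S := fun T hT => by
    obtain ⟨a, ha⟩ := hirr.2 (T : Matrix (Fin n) (Fin n) F) (by
      rintro _ ⟨b, hb, rfl⟩
      exact congrArg Units.val (hT b hb))
    exact (hSmem T).2 ⟨a, ha⟩
  have hcen : ∀ z : R, z ∈ Subgroup.center R → (z : GL (Fin n) F) ∈ S ∧ (z : GL (Fin n) F) ^ r = 1 := fun z hz =>
    ⟨hscal _ fun b hb => (congrArg Subtype.val (Subgroup.mem_center_iff.1 hz ⟨b, hb⟩)).symm, by
      have h := pow_card_eq_one' (x := (⟨z, hz⟩ : Subgroup.center R))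
      rw [hZ] at h
      exact congrArg (fun u : Subgroup.center R => ((u : R) : GL (Fin n) F)) h⟩
  let K : GL (Fin n) F → GL (Fin n) F → GL (Fin n) F := fun a b => a * b * a⁻¹ * b⁻¹
  have hKR : ∀ a ∈ R, ∀ b ∈ R, K a b ∈ S ∧ K a b ^ r = 1 := fun a ha b hb => by
    have h := hcen ((⟨a, ha⟩ : R) * ⟨b, hb⟩ * (⟨a, ha⟩ : R)⁻¹ * (⟨b, hb⟩ : R)⁻¹) (by
      rw [← hext]
      exact Subgroup.commutator_mem_commutator (Subgroup.mem_top _) (Subgroup.mem_top _))
    simpa [K] using h
  have hK1 : ∀ a b, K a b = 1 → a * b = b * a := fun a b h => by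
    rwa [show K a b = a * b * a⁻¹ * b⁻¹ from rfl, mul_inv_eq_one, mul_inv_eq_iff_eq_mul] at h
  have hKsr : ∀ a b s, s ∈ S → K a (b * s) = K a b := fun a b s hs => by
    show a * (b * s) * a⁻¹ * (b * s)⁻¹ = a * b * a⁻¹ * b⁻¹
    calc a * (b * s) * a⁻¹ * (b * s)⁻¹ = a * b * (s * a⁻¹) * s⁻¹ * b⁻¹ := by group
      _ = a * b * (a⁻¹ * s) * s⁻¹ * b⁻¹ := by rw [hSc s hs]
      _ = _ := by group
  have hKinv : ∀ a b, K b a = (K a b)⁻¹ := fun a b => by simp only [K]; group
  have hKsl : ∀ a b s, s ∈ S → K (a * s) b = K a b := fun a b s hs => by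
    rw [hKinv b, hKsr b a s hs, ← hKinv b]
  set RS := R ⊔ Cfsg.Geo.scalars (Fin n) F with hRS
  have hsplit : ∀ u ∈ RS, ∃ a ∈ R, ∃ s ∈ S, a * s = u := fun u hu => Subgroup.mem_sup_of_normal_right.1 hu
  have hRle : R ≤ RS := le_sup_left
  have hKS : ∀ a ∈ RS, ∀ b ∈ RS, K a b ∈ S ∧ K a b ^ r = 1 := fun a ha b hb => by
    obtain ⟨a', ha', s, hs, rfl⟩ := hsplit a ha
    obtain ⟨b', hb', u, hu, rfl⟩ := hsplit b hb
    rw [hKsl _ _ s hs, hKsr _ _ u hu]
    exact hKR a' ha' b' hb'
  have hKml : ∀ a ∈ RS, ∀ a' ∈ RS, ∀ b ∈ RS, K (a * a') b = K a b * K a' b := fun a ha a' ha' b hb => by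
    calc K (a * a') b = a * K a' b * a⁻¹ * K a b := by simp only [K]; group
      _ = _ := by rw [← hSc _ (hKS a' ha' b hb).1 a, mul_inv_cancel_right, hSc _ (hKS a' ha' b hb).1]
  have hKmr : ∀ a ∈ RS, ∀ b ∈ RS, ∀ b' ∈ RS, K a (b * b') = K a b * K a b' := fun a ha b hb b' hb' => by
    rw [hKinv (b * b') a, hKml b hb b' hb' a ha, _root_.mul_inv_rev, ← hKinv, ← hKinv, hSc _ (hKS a ha b' hb').1]
  have hgRS : ∀ u ∈ RS, g * u * g⁻¹ ∈ RS := fun u hu => (Subgroup.mem_normalizer_iff.1 hg u).1 hu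
  have hgRS' : ∀ u ∈ RS, g⁻¹ * u * g ∈ RS := fun u hu =>
    (Subgroup.mem_normalizer_iff.1 hg _).2 (by simpa [mul_assoc] using hu)
  have hKconj : ∀ a ∈ RS, ∀ b ∈ RS, K (g * a * g⁻¹) (g * b * g⁻¹) = K a b := fun a ha b hb => by
    calc K (g * a * g⁻¹) (g * b * g⁻¹) = g * K a b * g⁻¹ := by simp only [K]; group
      _ = _ := by rw [← hSc _ (hKS a ha b hb).1, mul_inv_cancel_right]
  have hy : ∀ x ∈ RS, K g x ∈ RS := fun x hx => RS.mul_mem (hgRS x hx) (RS.inv_mem hx)
  have hymul : ∀ x ∈ RS, ∀ x' ∈ RS, ∃ s ∈ S, K g (x * x') = K g x * K g x' * s := fun x hx x' hx' =>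
    ⟨K x (K g x'), (hKS x hx _ (hy x' hx')).1, by
      rw [mul_assoc, ← hSc _ (hKS x hx _ (hy x' hx')).1 (K g x')]
      simp only [K]
      group⟩
  -- the degree
  rcases Nat.lt_or_ge n (2 * d) with hbig | hsmall
  swap
  · exact ⟨fun _ => by omega, fun _ => by omega, fun _ => hsmall, fun _ _ => hsmall⟩
  have hc0 : c ≠ 0 := by
    intro h0
    obtain ⟨v, hv, hv0⟩ := Submodule.exists_mem_ne_zero_of_ne_bot (show W ≠ ⊥ from fun h => by
      rw [hd, h, finrank_bot] at hbig; omega)
    rw [hWdef, mem_Eig, h0, zero_smul] at hv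
    exact hv0 (Matrix.mulVec_injective_iff_isUnit.2 g.isUnit (by rw [hv, Matrix.mulVec_zero]))
  have hgW : ∀ v ∈ W, (g : Matrix (Fin n) (Fin n) F) *ᵥ v = c • v := fun v hv => mem_Eig.1 hv
  have hgW' : ∀ v ∈ W, ((g⁻¹ : GL (Fin n) F) : Matrix (Fin n) (Fin n) F) *ᵥ v = c⁻¹ • v := fun v hv => by
    refine Matrix.mulVec_injective_iff_isUnit.2 g.isUnit ?_
    rw [Matrix.mulVec_mulVec, ← Units.val_mul, mul_inv_cancel, Units.val_one, Matrix.one_mulVec, Matrix.mulVec_smul,
      hgW v hv, inv_smul_smul₀ hc0]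
  -- common fixed vectors of the commutators with `g`
  have hfix : ∀ x : GL (Fin n) F, ∀ w ∈ W.map (Matrix.toLin' (x : Matrix (Fin n) (Fin n) F)) ⊓ W,
      (K g x : Matrix (Fin n) (Fin n) F) *ᵥ w = w ∧ ((g * K g x * g⁻¹ : GL (Fin n) F) : Matrix (Fin n) (Fin n) F) *ᵥ w = w := by
    rintro x w ⟨⟨v, hv, rfl⟩, hw⟩
    rw [Matrix.toLin'_apply] at hw ⊢
    have h1 : (K g x : Matrix (Fin n) (Fin n) F) *ᵥ ((x : Matrix (Fin n) (Fin n) F) *ᵥ v) = (x : Matrix (Fin n) (Fin n) F) *ᵥ v := by
      rw [Matrix.mulVec_mulVec, ← Units.val_mul, show K g x * x = g * x * g⁻¹ by simp only [K]; group,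
        Units.val_mul, Units.val_mul, ← Matrix.mulVec_mulVec, hgW' v hv, Matrix.mulVec_smul, ← Matrix.mulVec_mulVec,
        hgW _ hw, inv_smul_smul₀ hc0]
    refine ⟨h1, ?_⟩
    rw [Units.val_mul, Units.val_mul, ← Matrix.mulVec_mulVec, hgW' _ hw, Matrix.mulVec_smul, ← Matrix.mulVec_mulVec,
      h1, hgW _ hw, inv_smul_smul₀ hc0]
  have hinf : ∀ x : GL (Fin n) F, 2 * d ≤ n + Module.finrank F ↥(W.map (Matrix.toLin' (x : Matrix (Fin n) (Fin n) F)) ⊓ W) := fun x => by
    have h := Submodule.finrank_sup_add_finrank_inf_eq (W.map (Matrix.toLin' (x : Matrix (Fin n) (Fin n) F))) W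
    have h2 := Submodule.finrank_le (W.map (Matrix.toLin' (x : Matrix (Fin n) (Fin n) F)) ⊔ W)
    rw [Module.finrank_fin_fun] at h2
    rw [finrank_image] at h
    omega
  have hpos : ∀ x : GL (Fin n) F, ∃ w ∈ W.map (Matrix.toLin' (x : Matrix (Fin n) (Fin n) F)) ⊓ W, w ≠ 0 := fun x =>
    Submodule.exists_mem_ne_zero_of_ne_bot fun h => by
      have := hinf x
      rw [h, finrank_bot] at this
      omega
  have hone : ∀ s ∈ S, ∀ w : Fin n → F, w ≠ 0 → (s : Matrix (Fin n) (Fin n) F) *ᵥ w = w → s = 1 := fun s hs w hw h => by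
    obtain ⟨a, ha⟩ := (hSmem s).1 hs
    rw [ha, Matrix.smul_mulVec, Matrix.one_mulVec] at h
    have : a = 1 := smul_left_injective F hw (show a • w = (1 : F) • w by rw [h, one_smul])
    exact Units.ext (by rw [ha, this, one_smul, Units.val_one])
  have hcomm : ∀ x : GL (Fin n) F, K g x ∈ S → g * x = x * g := fun x hx => by
    obtain ⟨w, hw, hw0⟩ := hpos x
    exact hK1 _ _ (hone _ hx w hw0 (hfix x w hw).1)
  have hinvv : ∀ (u : GL (Fin n) F) (w : Fin n → F), (u : Matrix (Fin n) (Fin n) F) *ᵥ w = w → ((u⁻¹ : GL (Fin n) F) : Matrix (Fin n) (Fin n) F) *ᵥ w = w :=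
    fun u w h => by
      conv_lhs => rw [← h, Matrix.mulVec_mulVec, ← Units.val_mul, inv_mul_cancel, Units.val_one, Matrix.one_mulVec]
  have hH : ∀ x ∈ RS, K (K g x) (g * K g x * g⁻¹) = 1 := fun x hx => by
    obtain ⟨w, hw, hw0⟩ := hpos x
    obtain ⟨h1, h2⟩ := hfix x w hw
    refine hone _ (hKS _ (hy x hx) _ (hgRS _ (hy x hx))).1 w hw0 ?_
    show (((K g x) * (g * K g x * g⁻¹) * (K g x)⁻¹ * (g * K g x * g⁻¹)⁻¹ : GL (Fin n) F) : Matrix (Fin n) (Fin n) F) *ᵥ w = w
    simp only [Units.val_mul _ ((g * K g x * g⁻¹)⁻¹), Units.val_mul _ ((K g x)⁻¹), Units.val_mul (K g x) (g * K g x * g⁻¹),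
      ← Matrix.mulVec_mulVec]
    rw [hinvv _ _ h2, hinvv _ _ h1, h2, h1]
  obtain ⟨x₀, hx₀, hx₀S⟩ : ∃ x ∈ R, K g x ∉ S := by
    by_contra hcon
    push Not at hcon
    exact hns (hscal g fun b hb => hcomm b (hcon b hb))
  have hskew : ∀ u ∈ R, u ∉ S → ∃ b ∈ R, ∃ s : F, s ^ r = 1 ∧ s ≠ 1 ∧
      (u : Matrix (Fin n) (Fin n) F) * (b : Matrix (Fin n) (Fin n) F) = s • ((b : Matrix (Fin n) (Fin n) F) * (u : Matrix (Fin n) (Fin n) F)) := by
    intro u hu huS
    obtain ⟨b, hb, hub⟩ : ∃ b ∈ R, u * b ≠ b * u := by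
      by_contra hcon
      push Not at hcon
      exact huS (hscal u hcon)
    obtain ⟨hS', hr'⟩ := hKR u hu b hb
    obtain ⟨s, hs⟩ := (hSmem _).1 hS'
    refine ⟨b, hb, s, hent _ _ ?_, fun h1 => hub (hK1 _ _ (Units.ext (by rw [hs, h1, one_smul, Units.val_one]))), ?_⟩
    · rw [one_smul, ← one_pow (M := Matrix (Fin n) (Fin n) F) r, ← smul_pow, ← hs, ← Units.val_pow_eq_pow_val, hr', Units.val_one]
      exact (one_pow r).symm
    · calc (u : Matrix (Fin n) (Fin n) F) * (b : Matrix (Fin n) (Fin n) F) = (K u b : Matrix (Fin n) (Fin n) F) * ((b : Matrix (Fin n) (Fin n) F) * (u : Matrix (Fin n) (Fin n) F)) := by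
            rw [← Units.val_mul, ← Units.val_mul, ← Units.val_mul]
            congr 1
            simp only [K]
            group
        _ = _ := by rw [hs, Matrix.smul_mul, Matrix.one_mul]
  have hbound : r * (2 * d - n) ≤ n := by
    obtain ⟨i, hi, s, hs, his⟩ := hsplit _ (hy x₀ (hRle hx₀))
    have hiS : i ∉ S := fun h => hx₀S (his ▸ S.mul_mem h hs)
    obtain ⟨b, -, e, her, he1, hib⟩ := hskew i hi hiS
    obtain ⟨a, ha⟩ := (hSmem s).1 hs
    have ha0 : a ≠ 0 := fun h => by
      have h1 := (Matrix.GeneralLinearGroup.det s).ne_zero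
      apply h1
      show (s : Matrix (Fin n) (Fin n) F).det = 0
      rw [ha, h, zero_smul, Matrix.det_zero]
    have hle : W.map (Matrix.toLin' (x₀ : Matrix (Fin n) (Fin n) F)) ⊓ W ≤ Eig i a⁻¹ := fun w hw => by
      have h := (hfix x₀ w hw).1
      rw [← his, Units.val_mul, ha, Matrix.mul_smul, Matrix.mul_one, Matrix.smul_mulVec] at h
      rw [mem_Eig]
      conv_rhs => rw [← h, inv_smul_smul₀ ha0]
    have h1 := mul_finrank_Eig_le hr her he1 hib (inv_ne_zero ha0)
    have h2 := Submodule.finrank_mono hle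
    have h3 := hinf x₀
    calc r * (2 * d - n) ≤ r * Module.finrank F ↥(Eig i a⁻¹) := Nat.mul_le_mul_left r (by omega)
      _ ≤ n := h1
  have hpow : ∀ u ∈ RS, u ^ r ∈ S := by
    intro u hu
    obtain ⟨a, ha, s, hs, rfl⟩ := hsplit u hu
    rw [(show Commute a s from (hSc s hs a).symm).mul_pow]
    refine S.mul_mem (hscal _ fun b hb => hK1 _ _ ?_) (S.pow_mem hs r)
    have hm : ∀ m : ℕ, K (a ^ m) b = K a b ^ m := fun m => by
      induction m with
      | zero => simp [K]
      | succ m ih => rw [pow_succ, hKml _ (RS.pow_mem (hRle ha) m) _ (hRle ha) _ (hRle hb), ih, pow_succ]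
    rw [hm, (hKR a ha b hb).2]
  have hmain : ∀ (hϖ2 : ϖ ≠ 2), (ϖ ≠ r ∨ 5 ≤ r) → False := by
    intro hϖ2 hcase
    have hgϖ : g ^ ϖ = 1 := hord ▸ pow_orderOf_eq_one g
    by_cases hcop : ϖ = r
    swap
    · -- coprime action
      obtain ⟨k, hk⟩ := hϖ.odd_of_ne_two hϖ2
      have hfixS : ∀ (h x w : GL (Fin n) F), h ^ ϖ = 1 → w ∈ RS → h * x * h⁻¹ = w * x →
          h * w * h⁻¹ * w⁻¹ ∈ S → w ∈ S := by
        intro h x w hh hw hx hwS
        have hind : ∀ m : ℕ, ∃ s ∈ S, h ^ m * x * (h ^ m)⁻¹ = s * (w ^ m * x) := fun m => by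
          induction m with
          | zero => exact ⟨1, S.one_mem, by simp⟩
          | succ m ih =>
            obtain ⟨s, hs, hsm⟩ := ih
            set e := h * w * h⁻¹ * w⁻¹ with he
            refine ⟨s * e ^ m, S.mul_mem hs (S.pow_mem hwS m), ?_⟩
            calc h ^ (m + 1) * x * (h ^ (m + 1))⁻¹ = h * (h ^ m * x * (h ^ m)⁻¹) * h⁻¹ := by rw [pow_succ']; group
              _ = (h * s) * (w ^ m * x) * h⁻¹ := by rw [hsm]; group
              _ = s * ((h * w * h⁻¹) ^ m * (h * x * h⁻¹)) := by rw [← hSc s hs h, conj_pow]; group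
              _ = s * ((e * w) ^ m * (w * x)) := by rw [hx, show h * w * h⁻¹ = e * w by rw [he]; group]
              _ = _ := by rw [(show Commute e w from hSc e hwS w).mul_pow, pow_succ]; group
        obtain ⟨s, hs, hsm⟩ := hind ϖ
        rw [hh, inv_one, mul_one, one_mul, ← mul_assoc] at hsm
        have hwp : w ^ ϖ ∈ S := by
          rw [show w ^ ϖ = s⁻¹ by rw [eq_inv_iff_mul_eq_one, ← hSc s hs]; exact mul_eq_right.1 hsm.symm]
          exact S.inv_mem hs
        have hgcd := Nat.gcd_eq_gcd_ab r ϖ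
        rw [Nat.Coprime.gcd_eq_one ((Nat.coprime_primes hr hϖ).2 (Ne.symm hcop))] at hgcd
        rw [show w = w ^ ((1 : ℕ) : ℤ) by simp, hgcd, _root_.zpow_add, _root_.zpow_mul, _root_.zpow_mul, zpow_natCast, zpow_natCast]
        exact S.mul_mem (S.zpow_mem (hpow w hw) _) (S.zpow_mem hwp _)
      refine hx₀S ?_
      set y' := K g x₀ with hy'
      have hy'R : y' ∈ RS := hy x₀ (hRle hx₀)
      set A := g * y' * g⁻¹ with hA
      set B := g⁻¹ * y' * g with hB
      have hAR : A ∈ RS := hgRS _ hy'R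
      have hBR : B ∈ RS := hgRS' _ hy'R
      have hKyu : ∀ x ∈ RS, K (K g x) (A * B⁻¹) = 1 := fun x hx => by
        have hyx := hy x hx
        obtain ⟨s, hs, hsm⟩ := hymul x hx x₀ (hRle hx₀)
        have h := hH _ (RS.mul_mem hx (hRle hx₀))
        rw [hsm, ← hy', hKsl _ _ s hs, show g * (K g x * y' * s) * g⁻¹ = g * K g x * g⁻¹ * A * s by
          calc g * (K g x * y' * s) * g⁻¹ = g * K g x * y' * (s * g⁻¹) := by group
            _ = g * K g x * y' * (g⁻¹ * s) := by rw [hSc s hs]
            _ = _ := by rw [hA]; group,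
          hKsr _ _ s hs, hKml _ hyx _ hy'R _ (RS.mul_mem (hgRS _ hyx) hAR), hKmr _ hyx _ (hgRS _ hyx) _ hAR,
          hKmr _ hy'R _ (hgRS _ hyx) _ hAR, hH x hx, one_mul, hA, hy', hH x₀ (hRle hx₀), mul_one, ← hy', ← hA,
          hKinv (g * K g x * g⁻¹) y', show y' = g * B * g⁻¹ by rw [hB]; group, hKconj _ hyx _ hBR] at h
        have hBi : K (K g x) B⁻¹ = (K (K g x) B)⁻¹ := eq_inv_of_mul_eq_one_left (by
          rw [← hKmr _ hyx _ (RS.inv_mem hBR) _ hBR, inv_mul_cancel]
          simp [K])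
        rw [hKmr _ hyx _ hAR _ (RS.inv_mem hBR), hBi]
        exact h
      have huR : A * B⁻¹ ∈ RS := RS.mul_mem hAR (RS.inv_mem hBR)
      set u := A * B⁻¹ with hu
      have hw : g⁻¹ * u * g * u⁻¹ ∈ S := hscal _ fun b hb => (hK1 _ _ (by
        have hb' := hRle hb
        have h1 : K b u = K b (g⁻¹ * u * g) := by
          rw [← hKconj b hb' _ (hgRS' u huR), show g * (g⁻¹ * u * g) * g⁻¹ = u by group,
            show g * b * g⁻¹ = K g b * b by simp only [K]; group, hKml _ (hy b hb') _ hb' _ huR, hKyu b hb', one_mul]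
        have h2 : K b u⁻¹ = (K b u)⁻¹ := eq_inv_of_mul_eq_one_left (by
          rw [← hKmr _ hb' _ (RS.inv_mem huR) _ huR, inv_mul_cancel]; simp [K])
        rw [hKmr _ hb' _ (hgRS' u huR) _ (RS.inv_mem huR), h2, ← h1, mul_inv_cancel])).symm
      have hgu : g * u * g⁻¹ * u⁻¹ ∈ S := by
        set s := g⁻¹ * u * g * u⁻¹ with hs
        rw [show g * u * g⁻¹ * u⁻¹ = s⁻¹ by
          rw [eq_inv_iff_mul_eq_one]
          calc g * u * g⁻¹ * u⁻¹ * s = s * (g * u * g⁻¹) * u⁻¹ := by rw [← hSc s hw]; group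
            _ = g * (s * u) * g⁻¹ * u⁻¹ := by rw [← mul_assoc s, ← mul_assoc s, hSc s hw]; group
            _ = 1 := by rw [hs]; group]
        exact S.inv_mem hw
      have hg2u : g ^ 2 * u * (g ^ 2)⁻¹ * u⁻¹ ∈ S := by
        rw [show g ^ 2 * u * (g ^ 2)⁻¹ * u⁻¹ = g * (g * u * g⁻¹ * u⁻¹) * g⁻¹ * (g * u * g⁻¹ * u⁻¹) by
          rw [pow_two]; group]
        exact S.mul_mem (hSn.conj_mem _ hgu g) hgu
      have hg2 : (g ^ 2) ^ ϖ = 1 := by rw [← pow_mul, mul_comm, pow_mul, hgϖ, one_pow]
      have hABu : g ^ 2 * B * (g ^ 2)⁻¹ = u * B := by rw [hu, hA, hB, pow_two]; group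
      have huS : u ∈ S := hfixS (g ^ 2) B u hg2 huR hABu hg2u
      have hind : ∀ m : ℕ, (g ^ 2) ^ m * B * ((g ^ 2) ^ m)⁻¹ = u ^ m * B := fun m => by
        induction m with
        | zero => simp
        | succ m ih =>
          calc (g ^ 2) ^ (m + 1) * B * ((g ^ 2) ^ (m + 1))⁻¹ = g ^ 2 * ((g ^ 2) ^ m * B * ((g ^ 2) ^ m)⁻¹) * (g ^ 2)⁻¹ := by
                rw [pow_succ']; group
            _ = (g ^ 2 * u ^ m) * B * (g ^ 2)⁻¹ := by rw [ih]; group
            _ = u ^ m * (g ^ 2 * B * (g ^ 2)⁻¹) := by rw [← hSc _ (S.pow_mem huS m) (g ^ 2)]; group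
            _ = _ := by rw [hABu, pow_succ]; group
      have hgB := hind (k + 1)
      rw [← pow_mul, show 2 * (k + 1) = ϖ + 1 by omega, pow_succ, hgϖ, one_mul] at hgB
      have hgy : g * y' * g⁻¹ = u ^ (k + 1) * y' := by
        calc g * y' * g⁻¹ = g * (g * B * g⁻¹) * g⁻¹ := by rw [hB]; group
          _ = (g * u ^ (k + 1)) * B * g⁻¹ := by rw [hgB]; group
          _ = u ^ (k + 1) * (g * B * g⁻¹) := by rw [← hSc _ (S.pow_mem huS (k + 1)) g]; group
          _ = _ := by rw [hB]; group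
      refine hfixS g x₀ y' hgϖ hy'R (by rw [hy']; simp only [K]; group) ?_
      rw [hgy, mul_inv_cancel_right]
      exact S.pow_mem huS _
    · -- the defining characteristic of the symplectic space
      subst hcop
      have hr5 : 5 ≤ ϖ := hcase.resolve_left fun h => h rfl
      have hRr : ∀ a ∈ R, a ^ ϖ = 1 := fun a ha => by
        rcases hexp with h | h
        · have h' := Monoid.pow_exponent_eq_one (⟨a, ha⟩ : R)
          rw [h] at h'
          exact congrArg Subtype.val h'
        · have h4 := Monoid.pow_exponent_eq_one (⟨a, ha⟩ : R)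
          rw [h] at h4
          obtain ⟨m, hm⟩ := hR ⟨a, ha⟩
          have hcop : Nat.Coprime 4 (ϖ ^ m) := Nat.Coprime.pow_right m ((Nat.prime_two.coprime_iff_not_dvd.2
            fun h2 => hϖ2 ((Nat.prime_dvd_prime_iff_eq Nat.prime_two hϖ).1 h2).symm).pow_left 2)
          have := pow_gcd_eq_one.2 ⟨h4, hm⟩
          rw [hcop.gcd_eq_one, pow_one] at this
          rw [show a = 1 from congrArg Subtype.val this, one_pow]
      -- a commutator fixed by `g`
      haveI : Finite R := inferInstance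
      let φ : R →* GL (Fin n) F ⧸ S :=
        { toFun := fun x => ((K g x : GL (Fin n) F) : GL (Fin n) F ⧸ S)
          map_one' := by simp [K]
          map_mul' := fun x x' => by
            obtain ⟨s, hs, hsm⟩ := hymul x (hRle x.2) x' (hRle x'.2)
            rw [Subgroup.coe_mul, hsm, QuotientGroup.mk_mul, QuotientGroup.mk_mul, (QuotientGroup.eq_one_iff s).2 hs, mul_one] }
      have hpres : ∀ z ∈ φ.range, (g : GL (Fin n) F ⧸ S) * z * (g : GL (Fin n) F ⧸ S)⁻¹ ∈ φ.range := by
        rintro _ ⟨x, rfl⟩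
        obtain ⟨b, hb, s, hs, hbs⟩ := hsplit _ (hgRS _ (hRle x.2))
        refine ⟨⟨b, hb⟩, ?_⟩
        show ((K g b : GL (Fin n) F) : GL (Fin n) F ⧸ S) = _
        rw [← hKsr g b s hs, hbs, show K g (g * x * g⁻¹) = g * K g x * g⁻¹ by simp only [K]; group,
          QuotientGroup.mk_mul, QuotientGroup.mk_mul, QuotientGroup.mk_inv]
        rfl
      haveI : Fintype φ.range := Fintype.ofFinite _
      let f : φ.range → φ.range := fun z => ⟨_, hpres z z.2⟩
      let σ : Equiv.Perm φ.range := Equiv.ofBijective f (Finite.injective_iff_bijective.1 fun u v h => Subtype.ext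
        (mul_left_cancel (mul_right_cancel (congrArg Subtype.val h))))
      have hσm : ∀ (m : ℕ) (z : φ.range), ((σ ^ m) z : GL (Fin n) F ⧸ S) =
          (g : GL (Fin n) F ⧸ S) ^ m * z * ((g : GL (Fin n) F ⧸ S) ^ m)⁻¹ := fun m => by
        induction m with
        | zero => intro z; simp
        | succ m ih =>
          intro z
          rw [pow_succ', Equiv.Perm.mul_apply]
          show (g : GL (Fin n) F ⧸ S) * ((σ ^ m) z : GL (Fin n) F ⧸ S) * (g : GL (Fin n) F ⧸ S)⁻¹ = _
          rw [ih, pow_succ']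
          group
      have hσ : σ ^ ϖ ^ 1 = 1 := by
        refine Equiv.ext fun z => Subtype.ext ?_
        rw [pow_one, hσm, ← QuotientGroup.mk_pow, hgϖ]
        simp
      have hmod := Equiv.Perm.card_compl_support_modEq (p := ϖ) (n := 1) hσ
      obtain ⟨m, hm⟩ : ∃ m, Nat.card φ.range = ϖ ^ m := IsPGroup.iff_card.1 (hR.of_surjective φ.rangeRestrict
        φ.rangeRestrict_surjective)
      have hm0 : m ≠ 0 := fun h0 => hx₀S (by
        rw [h0, pow_zero] at hm
        have := (Nat.card_eq_one_iff_unique.1 hm).1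
        exact (QuotientGroup.eq_one_iff _).1 (congrArg Subtype.val
          (Subsingleton.elim (⟨φ ⟨x₀, hx₀⟩, ⟨_, rfl⟩⟩ : φ.range) 1)))
      have h1mem : (1 : φ.range) ∈ σ.supportᶜ := by
        rw [Finset.mem_compl, Equiv.Perm.mem_support, not_not]
        exact Subtype.ext (show (g : GL (Fin n) F ⧸ S) * 1 * (g : GL (Fin n) F ⧸ S)⁻¹ = 1 by simp)
      have h2 : 1 < σ.supportᶜ.card := by
        have h0 : ϖ ∣ σ.supportᶜ.card := (Nat.ModEq.dvd_iff hmod dvd_rfl).2
          (by rw [← Nat.card_eq_fintype_card, hm]; exact dvd_pow_self _ hm0)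
        have := Nat.le_of_dvd (Finset.card_pos.2 ⟨_, h1mem⟩) h0
        omega
      obtain ⟨⟨z, x, rfl⟩, hz, hz1⟩ := Finset.exists_mem_ne h2 1
      obtain ⟨x, hxR⟩ := x
      have hyS : K g x ∉ S := fun h => hz1 (Subtype.ext ((QuotientGroup.eq_one_iff _).2 h))
      have hyy : K g (K g x) ∈ S := by
        rw [Finset.mem_compl, Equiv.Perm.mem_support, not_not] at hz
        have h : (g : GL (Fin n) F ⧸ S) * ((K g x : GL (Fin n) F) : GL (Fin n) F ⧸ S) * (g : GL (Fin n) F ⧸ S)⁻¹ =
          ((K g x : GL (Fin n) F) : GL (Fin n) F ⧸ S) := congrArg Subtype.val hz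
        refine (QuotientGroup.eq_one_iff _).1 ?_
        show ((g * K g x * g⁻¹ * (K g x)⁻¹ : GL (Fin n) F) : GL (Fin n) F ⧸ S) = 1
        rw [QuotientGroup.mk_mul, QuotientGroup.mk_mul, QuotientGroup.mk_mul, QuotientGroup.mk_inv,
          QuotientGroup.mk_inv, h, mul_inv_cancel]
      obtain ⟨i, hiR, s, hs, his⟩ := hsplit _ (hy x (hRle hxR))
      have hiS : i ∉ S := fun h => hyS (his ▸ S.mul_mem h hs)
      have hgi : g * i = i * g := hcomm i (by rw [← hKsr g i s hs, his]; exact hyy)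
      have hgx : g * x = s * (i * x * g) := by
        calc g * x = K g x * x * g := by simp only [K]; group
          _ = i * s * x * g := by rw [his]
          _ = _ := by rw [← hSc s hs i]; group
      obtain ⟨lam, hlam⟩ := (hSmem s).1 hs
      have hlamr : lam ^ ϖ = 1 := by
        have h1 : (g * x * g⁻¹) ^ ϖ = 1 := by rw [conj_pow, hRr x hxR, mul_one, mul_inv_cancel]
        rw [show g * x * g⁻¹ = s * (i * x) by rw [hgx]; group, (show Commute s (i * x) from hSc s hs _).mul_pow,
          hRr _ (R.mul_mem hiR hxR), mul_one] at h1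
        have h2 := congrArg Units.val h1
        rw [Units.val_pow_eq_pow_val, hlam, smul_pow, one_pow, Units.val_one] at h2
        exact hent _ _ (h2.trans (one_smul F _).symm)
      -- powers of a primitive root
      obtain ⟨b, -, e, her, he1, hib⟩ := hskew i hiR hiS
      obtain ⟨hζS, hζr⟩ := hKR i hiR x hxR
      obtain ⟨ζ, hζ⟩ := (hSmem _).1 hζS
      have hixM : (i : Matrix (Fin n) (Fin n) F) * (x : Matrix (Fin n) (Fin n) F) = ζ • ((x : Matrix (Fin n) (Fin n) F) * (i : Matrix (Fin n) (Fin n) F)) := by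
        calc (i : Matrix (Fin n) (Fin n) F) * (x : Matrix (Fin n) (Fin n) F) = (K i x : Matrix (Fin n) (Fin n) F) * ((x : Matrix (Fin n) (Fin n) F) * (i : Matrix (Fin n) (Fin n) F)) := by
              rw [← Units.val_mul, ← Units.val_mul, ← Units.val_mul]
              congr 1
              simp only [K]
              group
          _ = _ := by rw [hζ, Matrix.smul_mul, Matrix.one_mul]
      have hζϖ : ζ ^ ϖ = 1 := by
        have h2 := congrArg Units.val hζr
        rw [Units.val_pow_eq_pow_val, hζ, smul_pow, one_pow, Units.val_one] at h2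
        exact hent _ _ (h2.trans (one_smul F _).symm)
      set ω : F := if ζ = 1 then e else ζ with hω
      have hωr : ω ^ ϖ = 1 := by rw [hω]; split_ifs <;> assumption
      have hω1 : ω ≠ 1 := by rw [hω]; split_ifs with h <;> assumption
      have hωord : orderOf ω = ϖ := orderOf_eq_prime hωr hω1
      have hω0 : ω ≠ 0 := fun h => by rw [h, zero_pow hϖ.ne_zero] at hωr; exact zero_ne_one hωr
      let pw : ZMod ϖ → F := fun k => ω ^ k.val
      have hpadd : ∀ a b, pw (a + b) = pw a * pw b := fun a b => by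
        simp only [pw, ZMod.val_add, ← pow_add]
        exact (pow_eq_pow_mod _ hωr).symm
      have hpinj : Function.Injective pw := fun a b h => ZMod.val_injective ϖ
        (pow_injOn_Iio_orderOf (by simp [hωord, ZMod.val_lt]) (by simp [hωord, ZMod.val_lt]) h)
      have hp0 : pw 0 = 1 := by simp [pw]
      have hp1 : pw 1 = ω := by simp [pw, ZMod.val_one]
      have hpne : ∀ a, pw a ≠ 0 := fun a => pow_ne_zero _ hω0
      obtain ⟨l₀, hl₀, hl⟩ := ((IsPrimitiveRoot.iff_orderOf).2 hωord).eq_pow_of_pow_eq_one hlamr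
      let l : ZMod ϖ := (l₀ : ZMod ϖ)
      have hlpw : lam = pw l := by simp only [pw, l, ZMod.val_natCast_of_lt hl₀]; exact hl.symm
      have hϖF : (ϖ : F) ≠ 0 := fun h0 => by
        haveI := (CharP.charP_iff_prime_eq_zero hϖ).2 h0
        exact hω1 (sub_eq_zero.1 (eq_zero_of_pow_eq_zero (n := ϖ) (by rw [sub_pow_char, hωr, one_pow, sub_self])))
      let im : ZMod ϖ → GL (Fin n) F := fun j => i ^ j.val
      have himadd : ∀ a b, im (a + b) = im a * im b := fun a b => by
        simp only [im, ZMod.val_add, ← pow_add]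
        exact (pow_eq_pow_mod _ (hRr i hiR)).symm
      have himW : ∀ j, ∀ v ∈ W, (im j : Matrix (Fin n) (Fin n) F) *ᵥ v ∈ W := fun j v hv => mem_Eig.2 (by
        rw [Matrix.mulVec_mulVec, ← Units.val_mul, ((show Commute g i from hgi).pow_right j.val).eq, Units.val_mul,
          ← Matrix.mulVec_mulVec, hgW v hv, Matrix.mulVec_smul])
      let E : ZMod ϖ → Submodule F (Fin n → F) := fun k => Eig i (pw k)
      have hdec : W ≤ Finset.univ.sup fun k => W ⊓ E k := fun v hv => by
        let P : ZMod ϖ → (Fin n → F) := fun k => (ϖ : F)⁻¹ • ∑ j, pw (-(k * j)) • ((im j : Matrix (Fin n) (Fin n) F) *ᵥ v)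
        have hPmem : ∀ k, P k ∈ W ⊓ E k := fun k => Submodule.mem_inf.2
          ⟨W.smul_mem _ (W.sum_mem fun j _ => W.smul_mem _ (himW j v hv)), mem_Eig.2 (by
            simp only [P, Matrix.mulVec_smul, Matrix.mulVec_sum, smul_comm (pw k) ((ϖ : F)⁻¹)]
            congr 1
            rw [Finset.smul_sum, ← Equiv.sum_comp (Equiv.addRight (1 : ZMod ϖ))
              (fun j => pw k • pw (-(k * j)) • ((im j : Matrix (Fin n) (Fin n) F) *ᵥ v))]
            refine Finset.sum_congr rfl fun j _ => ?_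
            simp only [Equiv.coe_addRight]
            rw [smul_smul, ← hpadd, show k + -(k * (j + 1)) = -(k * j) by ring, add_comm j 1, himadd,
              Units.val_mul, ← Matrix.mulVec_mulVec, show im 1 = i by simp [im, ZMod.val_one]])⟩
        have hsum : ∀ j : ZMod ϖ, ∑ k, pw (-(k * j)) = if j = 0 then (ϖ : F) else 0 := fun j => by
          split_ifs with hj
          · simp [hj, hp0]
          · have h : ∑ k, pw (-(k * j)) = pw (-j) * ∑ k, pw (-(k * j)) := by
              rw [Finset.mul_sum]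
              conv_lhs => rw [← Equiv.sum_comp (Equiv.addRight (1 : ZMod ϖ))]
              refine Finset.sum_congr rfl fun k _ => ?_
              rw [← hpadd, Equiv.coe_addRight]
              congr 1
              ring
            have hne : pw (-j) ≠ 1 := fun h1 => hj (neg_eq_zero.1 (hpinj (h1.trans hp0.symm)))
            have h' : (pw (-j) - 1) * ∑ k, pw (-(k * j)) = 0 := by linear_combination -h
            exact (mul_eq_zero.1 h').resolve_left (sub_ne_zero.2 hne)
        have hv' : v = ∑ k, P k := by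
          simp only [P, ← Finset.smul_sum]
          rw [Finset.sum_comm]
          simp only [← Finset.sum_smul, hsum, ite_smul, zero_smul, Finset.sum_ite_eq', Finset.mem_univ, if_true]
          simp [im, smul_smul, hϖF]
        rw [hv']
        exact Submodule.sum_mem _ fun k _ => Finset.le_sup (f := fun k => W ⊓ E k) (Finset.mem_univ k) (hPmem k)
      let dk : ZMod ϖ → ℕ := fun k => Module.finrank F ↥(W ⊓ E k)
      let ek : ZMod ϖ → ℕ := fun k => Module.finrank F ↥(E k)
      have hdsum : d ≤ ∑ k, dk k := (Submodule.finrank_mono hdec).trans (finrank_sup_le_sum _ _)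
      have hesum : ∑ k, ek k ≤ n := by
        have h := sum_finrank_le i hpinj Finset.univ E (fun k _ => le_rfl) (W := ⊤) (fun _ _ => le_top)
        rwa [finrank_top, Module.finrank_fin_fun] at h
      have hdle : ∀ k, dk k ≤ ek k := fun k => Submodule.finrank_mono inf_le_right
      have hgxM : (g : Matrix (Fin n) (Fin n) F) * (x : Matrix (Fin n) (Fin n) F) = lam • ((i : Matrix (Fin n) (Fin n) F) * (x : Matrix (Fin n) (Fin n) F) * (g : Matrix (Fin n) (Fin n) F)) := by
        rw [← Units.val_mul, hgx, Units.val_mul, Units.val_mul, Units.val_mul, hlam, Matrix.smul_mul, Matrix.one_mul]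
      -- moving along the powers of `x`
      have hmove : ∀ (θ : F) (a : ZMod ϖ) (v : Fin n → F) (t : ℕ), v ∈ E a → ((x ^ t : GL (Fin n) F) : Matrix (Fin n) (Fin n) F) *ᵥ v ∈
          Eig i (ζ ^ t * pw a) ∧ ((g : Matrix (Fin n) (Fin n) F) *ᵥ (((x ^ t : GL (Fin n) F) : Matrix (Fin n) (Fin n) F) *ᵥ v) = θ • (((x ^ t : GL (Fin n) F) : Matrix (Fin n) (Fin n) F) *ᵥ v) →
            (g : Matrix (Fin n) (Fin n) F) *ᵥ (((x ^ (t + 1) : GL (Fin n) F) : Matrix (Fin n) (Fin n) F) *ᵥ v) =
              (θ * lam * (ζ ^ (t + 1) * pw a)) • (((x ^ (t + 1) : GL (Fin n) F) : Matrix (Fin n) (Fin n) F) *ᵥ v)) := by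
        intro θ a v t hv
        have h1 : ∀ t : ℕ, ((x ^ t : GL (Fin n) F) : Matrix (Fin n) (Fin n) F) *ᵥ v ∈ Eig i (ζ ^ t * pw a) := fun t => by
          induction t with
          | zero => rw [pow_zero, pow_zero, one_mul, Units.val_one, Matrix.one_mulVec]; exact hv
          | succ t ih =>
            rw [pow_succ' x, Units.val_mul, ← Matrix.mulVec_mulVec, pow_succ' ζ, mul_assoc]
            exact shift_Eig hixM ih
        refine ⟨h1 t, fun hgv => ?_⟩
        have h2 := mem_Eig.1 (h1 (t + 1))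
        rw [pow_succ' x t, Units.val_mul, ← Matrix.mulVec_mulVec] at h2 ⊢
        rw [Matrix.mulVec_mulVec _ (g : Matrix (Fin n) (Fin n) F) (x : Matrix (Fin n) (Fin n) F), hgxM, Matrix.smul_mulVec, ← Matrix.mulVec_mulVec, hgv,
          Matrix.mulVec_smul, ← Matrix.mulVec_mulVec, h2, smul_smul, smul_smul]
        congr 1
        ring
      by_cases hζ1 : ζ = 1
      · -- `x` commutes with the fixed commutator
        have hEx : ∀ (a : ZMod ϖ) (t : ℕ) (v : Fin n → F), v ∈ W ⊓ E a →
            ((x ^ t : GL (Fin n) F) : Matrix (Fin n) (Fin n) F) *ᵥ v ∈ Eig g (c * (lam * pw a) ^ t) ⊓ E a := by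
          intro a t v hv
          obtain ⟨hvW, hvE⟩ := Submodule.mem_inf.1 hv
          refine Submodule.mem_inf.2 ⟨mem_Eig.2 ?_, ?_⟩
          · induction t with
            | zero => simpa using hgW v hvW
            | succ t ih =>
              rw [(hmove _ a v t hvE).2 ih, hζ1, one_pow, one_mul, pow_succ]
              congr 1
              ring
          · have := (hmove 0 a v t hvE).1
            rwa [hζ1, one_pow, one_mul] at this
        have hk : ∀ k, k ≠ -l → ϖ * dk k ≤ ek k := fun k hk => by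
          have hne : lam * pw k ≠ 1 := fun h => hk (by
            rw [hlpw, ← hpadd, ← hp0] at h
            linear_combination hpinj h)
          have hord' : orderOf (lam * pw k) = ϖ := orderOf_eq_prime
            (by rw [mul_pow, hlamr, one_mul]; simp only [pw]; rw [← pow_mul, mul_comm, pow_mul, hωr, one_pow]) hne
          have h := sum_finrank_le g (θ := fun t : Fin ϖ => c * (lam * pw k) ^ (t : ℕ)) (fun a b hab => Fin.ext
              (pow_injOn_Iio_orderOf (by simp [hord']) (by simp [hord']) (mul_left_cancel₀ hc0 hab))) Finset.univ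
            (fun t => (W ⊓ E k).map (Matrix.toLin' ((x ^ (t : ℕ) : GL (Fin n) F) : Matrix (Fin n) (Fin n) F)))
            (fun t _ => by
              rintro - ⟨v, hv, rfl⟩
              rw [Matrix.toLin'_apply]
              exact (Submodule.mem_inf.1 (hEx k t v hv)).1) (W := E k) (fun t _ => by
              rintro - ⟨v, hv, rfl⟩
              rw [Matrix.toLin'_apply]
              exact (Submodule.mem_inf.1 (hEx k t v hv)).2)
          simpa only [finrank_image, Finset.sum_const, Finset.card_univ, Fintype.card_fin, smul_eq_mul] using h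
        have he0 : ϖ * ek (-l) ≤ n := mul_finrank_Eig_le hϖ her he1 hib (hpne _)
        have h1 : ϖ * d ≤ ϖ * dk (-l) + ∑ k ∈ Finset.univ.erase (-l), ek k := by
          refine (Nat.mul_le_mul_left ϖ hdsum).trans ?_
          rw [← Finset.add_sum_erase _ _ (Finset.mem_univ (-l)), mul_add, Finset.mul_sum]
          exact Nat.add_le_add_left (Finset.sum_le_sum fun k hk' => hk k (Finset.ne_of_mem_erase hk')) _
        have h2 : ek (-l) + ∑ k ∈ Finset.univ.erase (-l), ek k ≤ n := by
          rw [Finset.add_sum_erase _ _ (Finset.mem_univ (-l))]; exact hesum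
        have h3 := hdle (-l)
        nlinarith [Nat.mul_le_mul_left ϖ h3, Nat.mul_le_mul hr5 hr5, hbig]
      · -- `x` shifts the eigenspaces
        have hωζ : ω = ζ := by rw [hω, if_neg hζ1]
        have hζt : ∀ (t : ℕ) (a : ZMod ϖ), ζ ^ t * pw a = pw (a + (t : ZMod ϖ)) := fun t a => by
          rw [hpadd, mul_comm, ← hωζ]
          congr 1
          simp only [pw, ZMod.val_natCast]
          exact pow_eq_pow_mod t hωr
        have hEt : ∀ (a : ZMod ϖ) (t : ℕ) (v : Fin n → F), v ∈ E a →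
            ((x ^ t : GL (Fin n) F) : Matrix (Fin n) (Fin n) F) *ᵥ v ∈ E (a + (t : ZMod ϖ)) := fun a t v hv => by
          have := (hmove 0 a v t hv).1
          rwa [hζt] at this
        have hele : ∀ a b, ek a ≤ ek b := fun a b => by
          have h := Submodule.finrank_mono (show (E a).map (Matrix.toLin' ((x ^ (b - a).val : GL (Fin n) F) : Matrix (Fin n) (Fin n) F)) ≤ E b by
            rintro - ⟨v, hv, rfl⟩
            rw [Matrix.toLin'_apply]
            have := hEt a (b - a).val v hv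
            rwa [ZMod.natCast_zmod_val, add_sub_cancel] at this)
          rwa [finrank_image] at h
        set e₀ := ek 0 with he₀
        have hee : ∀ a, ek a = e₀ := fun a => le_antisymm (hele a 0) (hele 0 a)
        have hne0 : ϖ * e₀ ≤ n := by
          refine le_trans (le_of_eq ?_) hesum
          rw [Finset.sum_congr rfl fun a _ => hee a, Finset.sum_const, Finset.card_univ, ZMod.card, smul_eq_mul]
        have hg3 : ∀ (a : ZMod ϖ) (t : ℕ) (v : Fin n → F), v ∈ W ⊓ E a → ∃ u : ZMod ϖ,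
            2 * u = (t : ZMod ϖ) * (2 * l + 2 * a + (t : ZMod ϖ) + 1) ∧
            (g : Matrix (Fin n) (Fin n) F) *ᵥ (((x ^ t : GL (Fin n) F) : Matrix (Fin n) (Fin n) F) *ᵥ v) = (c * pw u) • (((x ^ t : GL (Fin n) F) : Matrix (Fin n) (Fin n) F) *ᵥ v) := by
          intro a t v hv
          obtain ⟨hvW, hvE⟩ := Submodule.mem_inf.1 hv
          induction t with
          | zero => exact ⟨0, by simp, by simpa [hp0] using hgW v hvW⟩
          | succ t ih =>
            obtain ⟨u, hu, hgu⟩ := ih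
            refine ⟨u + (l + (a + ((t + 1 : ℕ) : ZMod ϖ))), by push_cast; linear_combination hu, ?_⟩
            rw [(hmove _ a v t hvE).2 hgu, hζt, hlpw, hpadd u, hpadd l]
            congr 1
            ring
        let half : ZMod ϖ := (2 : ZMod ϖ)⁻¹
        have h20 : (2 : ZMod ϖ) ≠ 0 := fun h => by
          have h2 : ((2 : ℕ) : ZMod ϖ) = 0 := by exact_mod_cast h
          rw [ZMod.natCast_eq_zero_iff] at h2
          have := Nat.le_of_dvd (by norm_num) h2
          omega
        have hhalf : (2 : ZMod ϖ) * half = 1 := mul_inv_cancel₀ h20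
        let m₀ : ZMod ϖ := -(2 * l + 1) * half
        have hpair : ∀ a b : ZMod ϖ, a ≠ b → a + b ≠ 0 → dk (m₀ + a) + dk (m₀ + b) ≤ e₀ := by
          intro a b hab hab0
          set A := W ⊓ E (m₀ + a) with hA
          set t := (b - a).val with ht
          have htc : (t : ZMod ϖ) = b - a := ZMod.natCast_zmod_val _
          have hsub : A.map (Matrix.toLin' ((x ^ t : GL (Fin n) F) : Matrix (Fin n) (Fin n) F)) ⊔ (W ⊓ E (m₀ + b)) ≤ E (m₀ + b) := by
            refine sup_le ?_ inf_le_right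
            rintro - ⟨v, hv, rfl⟩
            rw [Matrix.toLin'_apply]
            have := hEt (m₀ + a) t v (Submodule.mem_inf.1 hv).2
            rwa [htc, show m₀ + a + (b - a) = m₀ + b by ring] at this
          have hdisj : A.map (Matrix.toLin' ((x ^ t : GL (Fin n) F) : Matrix (Fin n) (Fin n) F)) ⊓ (W ⊓ E (m₀ + b)) = ⊥ := by
            rw [Submodule.eq_bot_iff]
            rintro w ⟨⟨v, hv, rfl⟩, hw⟩
            rw [Matrix.toLin'_apply] at hw ⊢
            by_contra hw0
            obtain ⟨u, hu, hgv⟩ := hg3 _ t v hv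
            rw [hgW _ (Submodule.mem_inf.1 hw).1] at hgv
            have h1 : pw u = pw 0 := by
              rw [hp0]
              exact (mul_eq_left₀ hc0).1 (smul_left_injective F hw0 hgv).symm
            rw [hpinj h1, mul_zero, htc] at hu
            rcases mul_eq_zero.1 hu.symm with h | h
            · exact hab (sub_eq_zero.1 h).symm
            · refine hab0 ?_
              simp only [m₀] at h
              linear_combination h + (2 * l + 1) * hhalf
          have h := Submodule.finrank_sup_add_finrank_inf_eq (A.map (Matrix.toLin' ((x ^ t : GL (Fin n) F) : Matrix (Fin n) (Fin n) F)))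
            (W ⊓ E (m₀ + b))
          rw [hdisj, finrank_bot, finrank_image] at h
          have h' := Submodule.finrank_mono hsub
          have h'' := hee (m₀ + b)
          have hAd : Module.finrank F ↥A = dk (m₀ + a) := rfl
          simp only [dk, ek] at *
          omega
        let D : ZMod ϖ → ℕ := fun a => dk (m₀ + a)
        let h₀ : ZMod ϖ := -half
        have hnat : ∀ j : ℕ, 0 < j → j < 5 → (j : ZMod ϖ) ≠ 0 := fun j hj hj5 h => by
          rw [ZMod.natCast_eq_zero_iff] at h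
          have := Nat.le_of_dvd hj h
          omega
        have hm1 : (-1 : ZMod ϖ) ≠ h₀ := fun h => hnat 1 one_pos (by norm_num) (by
          simp only [h₀] at h
          push_cast
          linear_combination (-2 : ZMod ϖ) * h + hhalf)
        have e1 : D h₀ + D (-1) ≤ e₀ := hpair _ _ hm1.symm fun h => hnat 3 (by norm_num) (by norm_num) (by
          simp only [h₀] at h
          push_cast
          linear_combination (-2 : ZMod ϖ) * h - hhalf)
        have e2 : D (h₀ + 1) + D 0 ≤ e₀ := hpair _ _ (fun h => hm1 (by linear_combination -h)) fun h =>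
          hm1 (by linear_combination -h)
        have e3 : ∀ a ∈ ((Finset.univ.erase (-1 : ZMod ϖ)).erase h₀), D a + D (a + 1) ≤ e₀ := fun a ha => by
          refine hpair _ _ (fun h => hnat 1 one_pos (by norm_num) (by push_cast; linear_combination -h)) fun h => ?_
          refine (Finset.ne_of_mem_erase ha) ?_
          simp only [h₀]
          linear_combination half * h - a * hhalf
        have hshift : ∀ G₀ : ZMod ϖ → ℕ, ∀ z, ∑ a, G₀ (a + z) = ∑ a, G₀ a := fun G₀ z =>
          Equiv.sum_comp (Equiv.addRight z) G₀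
        have hsumD : ∑ a, (D a + D (a + 1)) = 2 * ∑ k, dk k := by
          rw [Finset.sum_add_distrib, hshift D 1, two_mul]
          have : ∑ a, D a = ∑ k, dk k := by
            rw [← hshift dk m₀]
            exact Finset.sum_congr rfl fun a _ => by simp only [D, add_comm]
          omega
        have hmem : h₀ ∈ Finset.univ.erase (-1 : ZMod ϖ) := Finset.mem_erase.2 ⟨hm1.symm, Finset.mem_univ _⟩
        rw [← Finset.add_sum_erase _ _ (Finset.mem_univ (-1 : ZMod ϖ)), ← Finset.add_sum_erase _ _ hmem,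
          show (-1 : ZMod ϖ) + 1 = 0 by ring] at hsumD
        have hrest := Finset.sum_le_card_nsmul _ _ _ e3
        rw [Finset.card_erase_of_mem hmem, Finset.card_erase_of_mem (Finset.mem_univ _), Finset.card_univ, ZMod.card,
          smul_eq_mul] at hrest
        have h4 : (ϖ - 1 - 1) * e₀ + 2 * e₀ = ϖ * e₀ := by rw [← add_mul]; congr 1; omega
        omega
  refine ⟨fun h2 => ?_, fun h3 => ?_, fun h3 => (hmain (by omega) ?_).elim, fun h3 hn3 => (hmain (by omega) ?_).elim⟩
  · have := Nat.mul_le_mul_right (2 * d - n) hr2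
    omega
  · by_cases hr3 : r = 3
    · subst hr3
      omega
    · exact (hmain (by omega) (Or.inl (by omega))).elim
  · by_cases hϖr : ϖ = r
    · refine Or.inr ?_
      have h4 : ϖ ≠ 4 := fun h => by rw [h] at hϖ; exact absurd hϖ (by norm_num)
      omega
    · exact Or.inl hϖr
  · refine Or.inl fun hϖr => hn3 ?_
    obtain ⟨b, hbR, hbS⟩ : ∃ b ∈ R, b ∉ S := by
      obtain ⟨i, hi, s, hs, his⟩ := hsplit _ (hy x₀ (hRle hx₀))
      exact ⟨i, hi, fun h => hx₀S (his ▸ S.mul_mem h hs)⟩
    obtain ⟨b', -, s, hsr, hs1, hbb⟩ := hskew b hbR hbS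
    have h := congrArg Matrix.det hbb
    rw [Matrix.det_mul, Matrix.det_smul, Matrix.det_mul, Fintype.card_fin, mul_comm (b' : Matrix (Fin n) (Fin n) F).det] at h
    have hne : (b : Matrix (Fin n) (Fin n) F).det * (b' : Matrix (Fin n) (Fin n) F).det ≠ 0 :=
      mul_ne_zero (Matrix.GeneralLinearGroup.det b).ne_zero (Matrix.GeneralLinearGroup.det b').ne_zero
    have hsn : s ^ n = 1 := (mul_eq_right₀ hne).1 h.symm
    rw [← h3, hϖr, ← orderOf_eq_prime hsr hs1]
    exact orderOf_dvd_of_pow_eq_one hsn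

end Cfsg.Agent.S5877
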