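import Cfsg.Statements.S5885
import Mathlib

set_option linter.style.haveILetI false

set_option autoImplicit false
open Cfsg

namespace Cfsg.Agent.S5885

open MulAction
open scoped Pointwise

theorem between_eq {G : Type*} [Group G] [Finite G] (n : ℕ) (hodd : Odd n)
    (hA : ∀ P : Subgroup (Equiv.Perm (Fin n)), MulAction.IsPreprimitive P (Fin n) → alternatingGroup (Fin n) ≤ P)
    (M : Subgroup G) (hM : IsCoatom M) (hn : M.index = n) (H : Subgroup G) (hHM : H ≤ M)
    (hmax : ∀ Y : Subgroup G, H ≤ Y → Y ≤ M → Y = H ∨ Y = M) (K : Subgroup G)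
    (hKM : K ⊓ M = H) (X : Subgroup G) (hHX : H < X) (hXK : X ≤ K) : X = K := by
  classical
  have hXM : ∀ x ∈ K, x ∈ M → x ∈ X := fun x hx hx' =>
    hHX.le (hKM ▸ Subgroup.mem_inf.2 ⟨hx, hx'⟩)
  refine le_antisymm hXK fun k hk => ?_
  haveI hN : M.normalCore.Normal := inferInstance
  by_cases hNH : M.normalCore ≤ H
  swap
  · -- the core supplements `H` in `M`
    have h1 : H ⊔ M.normalCore = M := by
      rcases hmax _ le_sup_left (sup_le hHM (Subgroup.normalCore_le M)) with h | h
      · exact absurd (h ▸ le_sup_right) hNH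
      · exact h
    have h2 : X ⊔ M.normalCore = ⊤ := by
      have hle : M ≤ X ⊔ M.normalCore := h1.symm.le.trans (sup_le_sup_right hHX.le _)
      rcases hle.eq_or_lt with h | h
      · exfalso
        apply hHX.ne
        refine le_antisymm hHX.le fun x hx => ?_
        rw [← hKM]
        exact Subgroup.mem_inf.2 ⟨hXK hx, h.symm ▸ Subgroup.mem_sup_left hx⟩
      · exact hM.2 _ h
    obtain ⟨x, hx, c, hc, rfl⟩ := Subgroup.mem_sup_of_normal_right.1 (h2.symm ▸ Subgroup.mem_top k)
    refine mul_mem hx (hXM c ?_ (Subgroup.normalCore_le M hc))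
    have := mul_mem (inv_mem (hXK hx)) hk
    rwa [inv_mul_cancel_left] at this
  -- the action on the cosets of `M`
  haveI : Fintype (G ⧸ M) := Fintype.ofFinite _
  have hcard : Nat.card (G ⧸ M) = n := hn
  have hMne : M ≠ ⊤ := hM.1
  haveI : Nontrivial (G ⧸ M) := by
    rw [← Finite.one_lt_card_iff_nontrivial]
    exact Subgroup.one_lt_index_of_ne_top hMne
  let a : G ⧸ M := ((1 : G) : G ⧸ M)
  have hstab : stabilizer G a = M := stabilizer_quotient M
  have hprim : IsPreprimitive G (G ⧸ M) :=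
    (isCoatom_stabilizer_iff_preprimitive G a).1 (hstab.symm ▸ hM)
  let e : (G ⧸ M) ≃ Fin n := Fintype.equivFinOfCardEq (by rw [← Nat.card_eq_fintype_card, hcard])
  let φ : G →* Equiv.Perm (Fin n) := e.permCongrHom.toMonoidHom.comp (toPermHom G (G ⧸ M))
  have hφ : ∀ g x, φ g (e x) = e (g • x) := fun g x => by simp [φ]
  have hP : IsPreprimitive φ.range (Fin n) := by
    let f : (G ⧸ M) →ₑ[φ.rangeRestrict] Fin n := ⟨e, fun g x => (hφ g x).symm⟩
    haveI := hprim
    exact IsPreprimitive.of_surjective (f := f) e.surjective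
  have hlift : ∀ u v w : G ⧸ M, u ≠ v → v ≠ w → u ≠ w →
      ∃ g : G, g • u = v ∧ g • v = w ∧ g • w = u ∧ ∀ x, x ≠ u → x ≠ v → x ≠ w → g • x = x := by
    intro u v w huv hvw huw
    let σ : Equiv.Perm (G ⧸ M) := Equiv.swap u v * Equiv.swap v w
    have hσ : Equiv.Perm.sign σ = 1 := by simp [σ, Equiv.Perm.sign_swap huv, Equiv.Perm.sign_swap hvw]
    obtain ⟨g, hg⟩ := hA _ hP (show e.permCongr σ ∈ alternatingGroup (Fin n) by
      rw [Equiv.Perm.mem_alternatingGroup, Equiv.Perm.sign_permCongr, hσ])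
    have hg' : ∀ x, g • x = σ x := fun x => by
      apply e.injective
      rw [← hφ, hg]
      simp
    refine ⟨g, ?_, ?_, ?_, fun x hu hv hw => ?_⟩
    · rw [hg']; simp [σ, Equiv.swap_apply_of_ne_of_ne huv huw]
    · rw [hg']; simp [σ, Equiv.swap_apply_of_ne_of_ne huw.symm hvw.symm]
    · rw [hg']; simp [σ]
    · rw [hg']; simp [σ, Equiv.swap_apply_of_ne_of_ne hv hw, Equiv.swap_apply_of_ne_of_ne hu hv]
  -- the orbit of `a` under `X`
  let B : Set (G ⧸ M) := {y | ∃ x ∈ X, x • a = y}
  have haB : a ∈ B := ⟨1, one_mem _, one_smul _ _⟩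
  have hfix : ∀ g : G, g • a = a ↔ g ∈ M := fun g => by rw [← mem_stabilizer_iff, hstab]
  have hXB : ∀ x ∈ X, ∀ y ∈ B, x • y ∈ B := by
    rintro x hx y ⟨z, hz, rfl⟩
    exact ⟨x * z, mul_mem hx hz, mul_smul _ _ _⟩
  -- it is enough that `k` maps `a` into `B`
  have hfin : ∀ g ∈ K, g • a ∈ B → g ∈ X := by
    rintro g hg ⟨x, hx, hxg⟩
    have h1 : x⁻¹ * g ∈ X := hXM _ (mul_mem (inv_mem (hXK hx)) hg)
      ((hfix _).1 (by rw [mul_smul, ← hxg, inv_smul_smul]))
    have := mul_mem hx h1
    rwa [mul_inv_cancel_left] at this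
  by_contra hkX
  have hka : k • a ∉ B := fun h => hkX (hfin k hk h)
  obtain ⟨x₀, hx₀, hx₀M⟩ : ∃ x ∈ X, x ∉ M := by
    by_contra h
    push Not at h
    exact hHX.ne (le_antisymm hHX.le fun x hx => hKM ▸ Subgroup.mem_inf.2 ⟨hXK hx, h x hx⟩)
  have hb : x₀ • a ≠ a := fun h => hx₀M ((hfix _).1 h)
  have hbB : x₀ • a ∈ B := ⟨x₀, hx₀, rfl⟩
  -- translates of `B` under `K` meeting `B` are equal to `B`
  have hblock : ∀ g ∈ K, ∀ y ∈ B, g • y ∈ B → g ∈ X := by
    rintro g hg y ⟨x, hx, rfl⟩ hy
    rw [← mul_smul] at hy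
    have := mul_mem (hfin _ (mul_mem hg (hXK hx)) hy) (inv_mem hx)
    rwa [mul_inv_cancel_right] at this
  have hkB : ∀ y ∈ B, k • y ∉ B := fun y hy h => hkX (hblock k hk y hy h)
  have h4 : 4 ≤ n := by
    rw [← hcard, Nat.card_eq_fintype_card]
    calc 4 = ({a, x₀ • a, k • a, k • (x₀ • a)} : Finset (G ⧸ M)).card := by
          rw [Finset.card_insert_of_notMem, Finset.card_insert_of_notMem, Finset.card_pair]
          · exact fun h => hb (smul_left_cancel k h).symm
          · simp only [Finset.mem_insert, Finset.mem_singleton]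
            rintro (h | h)
            · exact hka (h ▸ hbB)
            · exact hkB _ hbB (h ▸ hbB)
          · simp only [Finset.mem_insert, Finset.mem_singleton]
            rintro (h | h | h)
            · exact hb h.symm
            · exact hka (h ▸ haB)
            · exact hkB _ hbB (h ▸ haB)
      _ ≤ Fintype.card (G ⧸ M) := Finset.card_le_univ _
  -- the elements fixing `a` and `B` lie in `H`
  have hMB : ∀ g : G, g • a = a → (∀ y ∈ B, g • y ∈ B) → g ∈ H := by
    intro g hga hgB
    let Y : Subgroup G := M ⊓ stabilizer G B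
    have hHY : H ≤ Y := le_inf hHM fun h hh => mem_stabilizer_set_iff_subset_smul_set (Set.toFinite B) |>.2
      fun y hy => ⟨h⁻¹ • y, hXB _ (inv_mem (hHX.le hh)) y hy, smul_inv_smul _ _⟩
    rcases hmax Y hHY inf_le_left with h | h
    · refine h ▸ Subgroup.mem_inf.2 ⟨(hfix g).1 hga, ?_⟩
      exact (mem_stabilizer_set_iff_smul_set_subset (Set.toFinite B)).2
        (by rintro _ ⟨y, hy, rfl⟩; exact hgB y hy)
    · exfalso
      obtain ⟨g', h1, h2, h3, h4⟩ := hlift (x₀ • a) (k • a) (k • (x₀ • a))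
        (fun h => hka (h ▸ hbB)) (fun h => hb (smul_left_cancel k h).symm)
        (fun h => hkB _ hbB (h ▸ hbB))
      have hg' : g' ∈ Y := h.symm ▸ (hfix _).1 (h4 a hb.symm (fun h => hka (h ▸ haB))
        (fun h => hkB _ hbB (h ▸ haB)))
      have := (mem_stabilizer_set.1 (Subgroup.mem_inf.1 hg').2 (x₀ • a)).2 hbB
      rw [h1] at this
      exact hka this
  -- a third translate, outside `B` and `k • B`
  obtain ⟨w, hwB, hwkB⟩ : ∃ w, w ∉ B ∧ ∀ y ∈ B, k • y ≠ w := by
    by_contra hcon
    push Not at hcon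
    have hdis : Disjoint B.toFinset (B.toFinset.image (k • ·)) := by
      rw [Finset.disjoint_left]
      intro y hy hy'
      obtain ⟨z, hz, rfl⟩ := Finset.mem_image.1 hy'
      exact hkB z (Set.mem_toFinset.1 hz) (Set.mem_toFinset.1 hy)
    have hun : B.toFinset ∪ B.toFinset.image (k • ·) = Finset.univ := by
      rw [Finset.eq_univ_iff_forall]
      intro y
      by_cases hy : y ∈ B
      · exact Finset.mem_union_left _ (Set.mem_toFinset.2 hy)
      · obtain ⟨z, hz, rfl⟩ := hcon y hy
        exact Finset.mem_union_right _ (Finset.mem_image_of_mem _ (Set.mem_toFinset.2 hz))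
    have h2 := Finset.card_union_of_disjoint hdis
    rw [hun, Finset.card_image_of_injective _ (MulAction.injective k), Finset.card_univ,
      ← Nat.card_eq_fintype_card, hcard] at h2
    exact Nat.not_even_iff_odd.2 hodd ⟨_, h2⟩
  obtain ⟨g, h1, h2, h3, h4⟩ := hlift (k • a) (k • (x₀ • a)) w
    (fun h => hb (smul_left_cancel k h).symm) (hwkB _ hbB) (hwkB _ haB)
  have hgH : g ∈ H := hMB g
    (h4 a (fun h => hka (h ▸ haB)) (fun h => hkB _ hbB (h ▸ haB)) (fun h => hwB (h ▸ haB)))
    (fun y hy => by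
      rw [h4 y (fun h => hka (h ▸ hy)) (fun h => hkB _ hbB (h ▸ hy)) (fun h => hwB (h ▸ hy))]
      exact hy)
  have hgK : k⁻¹ * g * k ∈ K := mul_mem (mul_mem (inv_mem hk) (hXK (hHX.le hgH))) hk
  have hgX : k⁻¹ * g * k ∈ X := hblock _ hgK a haB
    (by rw [mul_smul, mul_smul, h1, inv_smul_smul]; exact hbB)
  have hw := hXB _ hgX _ hbB
  rw [mul_smul, mul_smul, h2] at hw
  exact hwkB _ hw (smul_inv_smul _ _)

/-- Let n be an odd positive integer such that every primitive permutation group of degree n contains the alternating group (so the symmetric and alternating groups are the only primitive groups of degree n). Let G be a finite group, M a maximal subgroup of G of index n, and H a maximal subgroup of M. Then H is a second maximal subgroup of G: H is maximal in every maximal subgroup K of G containing H. -/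
theorem result {G : Type*} [Group G]
    [Finite G] (n : ℕ) (hodd : Odd n)
    (hA : ∀ P : Subgroup (Equiv.Perm (Fin n)), MulAction.IsPreprimitive P (Fin n) → alternatingGroup (Fin n) ≤ P)
    (M : Subgroup G) (hM : IsCoatom M) (hn : M.index = n) (H : Subgroup G) (hHM : H ≤ M)
    (hmax : IsCoatom (H.subgroupOf M)) (K : Subgroup G) (hK : IsCoatom K) (hHK : H ≤ K) :
    IsCoatom (H.subgroupOf K) := by
  by_cases hKM : K = M
  · subst hKM; exact hmax
  have hmax' : ∀ Y : Subgroup G, H ≤ Y → Y ≤ M → Y = H ∨ Y = M := by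
    intro Y hY1 hY2
    rcases eq_or_ne (H.subgroupOf M) (Y.subgroupOf M) with h | h
    · left
      have := congrArg (Subgroup.map M.subtype) h
      rw [Subgroup.map_subgroupOf_eq_of_le hHM, Subgroup.map_subgroupOf_eq_of_le hY2] at this
      exact this.symm
    · right
      have hlt : H.subgroupOf M < Y.subgroupOf M :=
        lt_of_le_of_ne (fun x hx => hY1 hx) h
      exact le_antisymm hY2 (Subgroup.subgroupOf_eq_top.1 (hmax.2 _ hlt))
  have hKM' : K ⊓ M = H := by
    rcases hmax' (K ⊓ M) (le_inf hHK hHM) inf_le_right with h | h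
    · exact h
    · exfalso
      rcases (inf_eq_right.1 h).eq_or_lt with h' | h'
      · exact hKM h'.symm
      · exact hK.1 (hM.2 K h')
  refine ⟨fun h => ?_, fun Y hY => ?_⟩
  · apply hmax.1
    have hle : K ≤ M := (Subgroup.subgroupOf_eq_top.1 h).trans hHM
    rcases hle.eq_or_lt with h' | h'
    · exact absurd h' hKM
    · exact absurd (hK.2 M h') hM.1
  · have hY' : H < Y.map K.subtype := by
      have := (Subgroup.map_lt_map_iff_of_injective (f := K.subtype) K.subtype_injective).2 hY
      rwa [Subgroup.map_subgroupOf_eq_of_le hHK] at this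
    have := between_eq n hodd hA M hM hn H hHM hmax' K hKM' (Y.map K.subtype) hY'
      (Subgroup.map_subtype_le Y)
    apply Subgroup.map_injective K.subtype_injective
    rw [this, ← MonoidHom.range_eq_map, Subgroup.range_subtype]

end Cfsg.Agent.S5885
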