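import Cfsg.Statements.S5887
import Mathlib.FieldTheory.Finite.Basic
-- import your own Cfsg.Agent.* helpers here

set_option autoImplicit false
open Cfsg

namespace Cfsg.Agent.S5887


open Matrix

variable {F : Type*} [Field F] {n : ℕ}

/-- A field subalgebra is a field. -/
theorem isField_of {r : ℕ} {K : Subalgebra F (Matrix (Fin n) (Fin n) F)} [Nontrivial K]
    (hK : Cfsg.Geo.IsFieldSubalgebra r K) : IsField K where
  exists_pair_ne := exists_pair_ne K
  mul_comm x y := Subtype.ext (hK.comm x x.2 y y.2)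
  mul_inv_cancel {x} hx := by
    obtain ⟨y, hy, h⟩ := hK.inv x x.2 fun h => hx (Subtype.ext h)
    exact ⟨⟨y, hy⟩, Subtype.ext h⟩

/-- A determinant-one transvection centralising `L` and not normalising `K`. -/
theorem exists_separating [Fintype F] {r : ℕ} {K L : Subalgebra F (Matrix (Fin n) (Fin n) F)}
    (hK : Cfsg.Geo.IsFieldSubalgebra r K) (hle : L ≤ K) (hne : L ≠ K) (hn : 2 * Module.finrank F L < n) :
    ∃ g : GL (Fin n) F, g ∈ Cfsg.Geo.subalgebraNormalizer L ∧ g ∈ Cfsg.Geo.specialLinear (Fin n) F ∧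
      g ∉ Cfsg.Geo.subalgebraNormalizer K := by
  classical
  haveI : Nonempty (Fin n) := ⟨⟨0, by omega⟩⟩
  haveI : Finite L := Finite.of_injective _ Subtype.val_injective
  haveI : NoZeroDivisors L := ⟨fun {x y} hxy => by
    by_cases hx : x = 0
    · exact Or.inl hx
    obtain ⟨z, hz, h⟩ := hK.inv x (hle x.2) fun h => hx (Subtype.ext h)
    rw [hK.comm _ (hle x.2) _ hz] at h
    refine Or.inr (Subtype.ext ?_)
    have h2 := congrArg (z * ·) (congrArg Subtype.val hxy)
    simpa [← mul_assoc, h] using h2⟩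
  letI : CommRing L := { (inferInstance : Ring L) with
    mul_comm := fun x y => Subtype.ext (hK.comm _ (hle x.2) _ (hle y.2)) }
  haveI : IsDomain L := NoZeroDivisors.to_isDomain L
  have hF : IsField L := Finite.isField_of_domain L
  letI : Field L := { (inferInstance : CommRing L) with
    inv := hF.toField.inv
    exists_pair_ne := exists_pair_ne L
    mul_inv_cancel := hF.toField.mul_inv_cancel
    inv_zero := hF.toField.inv_zero
    nnqsmul := _
    nnqsmul_def := fun _ _ => rfl
    qsmul := _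
    qsmul_def := fun _ _ => rfl }
  have hsmul : ∀ (a : L) (x : Fin n → F), a • x = (a : Matrix (Fin n) (Fin n) F) *ᵥ x := fun a x => rfl
  haveI : Module.Finite L (Fin n → F) := Module.Finite.of_restrictScalars_finite F L _
  obtain ⟨k₀, hk₀, hk₀L⟩ := SetLike.exists_of_lt (lt_of_le_of_ne hle hne)
  let w : Fin n → F := Pi.single ⟨0, by omega⟩ 1
  have hw : w ≠ 0 := fun h => one_ne_zero (α := F) (by simpa [w] using congrFun h ⟨0, by omega⟩)
  have hindep : ∀ a : L, a • w ≠ k₀ *ᵥ w := by
    intro a h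
    rw [hsmul] at h
    have h1 : (k₀ - (a : Matrix (Fin n) (Fin n) F)) *ᵥ w = 0 := by rw [Matrix.sub_mulVec, h, sub_self]
    have h2 : k₀ - (a : Matrix (Fin n) (Fin n) F) ≠ 0 := fun h2 => hk₀L (by rw [sub_eq_zero.1 h2]; exact a.2)
    have hmem := K.sub_mem hk₀ (hle a.2)
    obtain ⟨y, hy, h3⟩ := hK.inv _ hmem h2
    rw [hK.comm _ hmem _ hy] at h3
    have h4 := congrArg (y *ᵥ ·) h1
    simp only [Matrix.mulVec_mulVec, h3, Matrix.one_mulVec, Matrix.mulVec_zero] at h4
    exact hw h4
  have hnot : k₀ *ᵥ w ∉ Submodule.span L {w} := fun h => by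
    obtain ⟨a, ha⟩ := Submodule.mem_span_singleton.1 h
    exact hindep a ha
  obtain ⟨l, hl1, hl2⟩ := Submodule.exists_dual_map_eq_bot_of_notMem hnot inferInstance
  have hlw : l w = 0 := by
    have := Submodule.mem_map_of_mem (f := l) (Submodule.mem_span_singleton_self w)
    rw [hl2] at this
    simpa using this
  let U : (Fin n → F) →ₗ[F] (Fin n → F) := (l.smulRight w).restrictScalars F
  set u := LinearMap.toMatrix' U with hu
  have hmv : ∀ x, u *ᵥ x = l x • w := fun x => by rw [hu, LinearMap.toMatrix'_mulVec]; rfl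
  have huu : u * u = 0 := Matrix.ext_of_mulVec_single fun i => by
    rw [← Matrix.mulVec_mulVec, hmv, hmv, map_smul, hlw, smul_zero, zero_smul, Matrix.zero_mulVec]
  have hua : ∀ a ∈ L, u * a = a * u := fun a ha => Matrix.ext_of_mulVec_single fun i => by
    rw [← Matrix.mulVec_mulVec, ← Matrix.mulVec_mulVec, hmv, hmv, ← hsmul ⟨a, ha⟩, ← hsmul ⟨a, ha⟩, map_smul,
      smul_eq_mul, mul_smul]
  let g : GL (Fin n) F := ⟨1 + u, 1 - u,
    by rw [mul_sub, add_mul, add_mul, huu, one_mul, one_mul, mul_one]; abel,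
    by rw [sub_mul, mul_add, mul_add, huu, one_mul, one_mul, mul_one]; abel⟩
  have hcomm : ∀ a ∈ L, (1 + u) * a * (1 - u) = a := fun a ha => by
    rw [add_mul, one_mul, hua a ha, mul_sub, mul_one, add_mul, mul_assoc a u u, huu, mul_zero]; abel
  refine ⟨g, fun k => ?_, ?_, fun hg => ?_⟩
  · show k ∈ L ↔ (1 + u) * k * (1 - u) ∈ L
    refine ⟨fun hk => by rw [hcomm k hk]; exact hk, fun hk => ?_⟩
    have hc := hua _ hk
    have : k = (1 - u) * ((1 + u) * k * (1 - u)) * (1 + u) := by
      have h1 : (1 - u) * (1 + u) = 1 := g.inv_val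
      calc k = ((1 - u) * (1 + u)) * k * ((1 - u) * (1 + u)) := by rw [h1, one_mul, mul_one]
        _ = _ := by noncomm_ring
    have h2 : ∀ a ∈ L, (1 - u) * a * (1 + u) = a := fun a ha => by
      rw [sub_mul, one_mul, hua a ha, mul_add, mul_one, sub_mul, mul_assoc a u u, huu, mul_zero]; abel
    rw [h2 _ hk] at this
    rwa [this]
  · obtain ⟨p, hchar⟩ := CharP.exists F
    haveI := hchar
    haveI hp : Fact p.Prime := ⟨(CharP.char_is_prime_or_zero F p).resolve_right
      (CharP.char_ne_zero_of_finite F p)⟩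
    haveI : CharP (Matrix (Fin n) (Fin n) F) p := inferInstance
    show Matrix.GeneralLinearGroup.det g = 1
    refine Units.ext ?_
    show (1 + u).det = 1
    have h1 : (1 + u) ^ p = 1 := by
      rw [add_pow_char_of_commute (p := p) (Commute.one_left u), one_pow,
        pow_eq_zero_of_le hp.out.two_le (by rw [pow_two, huu]), add_zero]
    refine frobenius_inj F p ?_
    rw [frobenius_def, frobenius_def, ← Matrix.det_pow, h1, Matrix.det_one, one_pow]
  · have hk := (hg k₀).1 hk₀
    have hdiff := K.sub_mem hk hk₀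
    set c := (1 + u) * k₀ * (1 - u) - k₀ with hc
    have hcmv : ∀ x, c *ᵥ x = l (k₀ *ᵥ x) • w - k₀ *ᵥ (l x • w) - l (k₀ *ᵥ (l x • w)) • w := fun x => by
      have : c = u * k₀ - k₀ * u - u * k₀ * u := by rw [hc]; noncomm_ring
      rw [this, Matrix.sub_mulVec, Matrix.sub_mulVec, ← Matrix.mulVec_mulVec, ← Matrix.mulVec_mulVec,
        ← Matrix.mulVec_mulVec, ← Matrix.mulVec_mulVec, hmv, hmv, hmv]
    have hcw : c *ᵥ w ≠ 0 := by
      rw [hcmv, hlw]
      simp only [zero_smul, Matrix.mulVec_zero, map_zero, sub_zero]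
      exact smul_ne_zero hl1 hw
    obtain ⟨y, hy, hinv⟩ := hK.inv c hdiff fun h => hcw (by rw [h, Matrix.zero_mulVec])
    have hspan : ∀ x, x ∈ Submodule.span L {w, k₀ *ᵥ w} := fun x => by
      have hx : x = c *ᵥ (y *ᵥ x) := by rw [Matrix.mulVec_mulVec, hinv, Matrix.one_mulVec]
      rw [hx, hcmv]
      refine Submodule.sub_mem _ (Submodule.sub_mem _ ?_ ?_) ?_
      · exact Submodule.smul_mem _ _ (Submodule.subset_span (by simp))
      · rw [hsmul, Matrix.mulVec_mulVec, hK.comm _ hk₀ _ (hle (l (y *ᵥ x)).2), ← Matrix.mulVec_mulVec, ← hsmul]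
        exact Submodule.smul_mem _ _ (Submodule.subset_span (by simp))
      · exact Submodule.smul_mem _ _ (Submodule.subset_span (by simp))
    have h2 : Module.finrank L (Fin n → F) ≤ 2 := by
      rw [← finrank_top L (Fin n → F), ← (eq_top_iff.2 fun x _ => hspan x : Submodule.span L {w, k₀ *ᵥ w} = ⊤)]
      refine le_trans (finrank_span_le_card _) ?_
      rw [Set.toFinset_insert, Set.toFinset_singleton]
      exact Finset.card_le_two
    have h3 := Module.finrank_mul_finrank F L (Fin n → F)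
    rw [Module.finrank_pi, Fintype.card_fin] at h3
    nlinarith

/-- Let F be a finite field, n a positive integer and r a composite number (r > 1, not prime) that divides n with r < n. Let K be a subalgebra of the algebra of n × n matrices over F which is a field of degree r over F (commutative, every non-zero element invertible, of dimension r over F). Then the normaliser N of K in GL_n(F) (a group of type ΓL_{n/r}(F_{q^r})) is not a maximal subgroup of GL_n(F), and N ∩ SL_n(F) is not a maximal subgroup of SL_n(F): both lie properly inside the normaliser of an intermediate subfield of prime degree over F. -/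
theorem result {F : Type*} [Field F]
    [Fintype F] (n r : ℕ) (hr1 : 1 < r) (hrp : ¬ r.Prime) (hrn : r ∣ n) (hlt : r < n)
    (K : Subalgebra F (Matrix (Fin n) (Fin n) F)) (hK : Cfsg.Geo.IsFieldSubalgebra r K) :
    ¬ IsCoatom (Cfsg.Geo.subalgebraNormalizer K) ∧
      ¬ Cfsg.Geo.IsMaximalIn (Cfsg.Geo.specialLinear (Fin n) F)
        (Cfsg.Geo.subalgebraNormalizer K ⊓ Cfsg.Geo.specialLinear (Fin n) F) := by
  classical
  haveI : Nonempty (Fin n) := ⟨⟨0, by omega⟩⟩
  haveI : Nontrivial K := ⟨⟨0, 1, fun h => zero_ne_one (congrArg Subtype.val h)⟩⟩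
  letI : Field K := (isField_of hK).toField
  haveI : Finite K := Finite.of_injective _ Subtype.val_injective
  letI : Fintype K := Fintype.ofFinite _
  set s := r.minFac
  have hs : s.Prime := Nat.minFac_prime (by omega)
  obtain ⟨d, hd⟩ := Nat.minFac_dvd r
  have hd2 : 2 ≤ d := by
    by_contra h
    have : d = 0 ∨ d = 1 := by omega
    rcases this with rfl | rfl
    · rw [mul_zero] at hd; omega
    · exact hrp (by rw [hd, mul_one]; exact hs)
  have h2sr : 2 * s ≤ r := by rw [hd, mul_comm]; exact Nat.mul_le_mul_left s hd2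
  set q := Fintype.card F
  have hq : 1 < q := Fintype.one_lt_card
  have hcardK : Fintype.card K = q ^ r := by rw [Module.card_eq_pow_finrank (K := F), hK.finrank_eq]
  let L' : Subalgebra F K :=
    AlgHom.equalizer ((FiniteField.frobeniusAlgHom F K) ^ s) (AlgHom.id F K)
  have hmem : ∀ x : K, x ∈ L' ↔ x ^ q ^ s = x := by
    intro x
    rw [AlgHom.mem_equalizer, AlgHom.coe_id, id]
    have : ∀ k : ℕ, ((FiniteField.frobeniusAlgHom F K) ^ k) x = x ^ q ^ k := by
      intro k
      induction k with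
      | zero => simp
      | succ k ih =>
        rw [pow_succ', AlgHom.mul_apply, ih, FiniteField.coe_frobeniusAlgHom]
        show (x ^ q ^ k) ^ q = x ^ q ^ (k + 1)
        rw [← pow_mul, ← pow_succ]
    rw [this]
  set L : Subalgebra F (Matrix (Fin n) (Fin n) F) := L'.map K.val
  have hLK : L ≤ K := by
    rintro _ ⟨x, -, rfl⟩; exact x.2
  have hfin : Module.finrank F L ≤ s := by
    rw [← (L'.equivMapOfInjective K.val Subtype.val_injective).toLinearEquiv.finrank_eq]
    have hqs : 1 < q ^ s := Nat.one_lt_pow hs.ne_zero hq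
    have hX : (Polynomial.X ^ (q ^ s) - Polynomial.X : Polynomial K) ≠ 0 :=
      FiniteField.X_pow_card_sub_X_ne_zero K hqs
    have hle : Nat.card L' ≤ q ^ s := by
      rw [← FiniteField.X_pow_card_sub_X_natDegree_eq K hqs]
      refine le_trans ?_ (Polynomial.card_roots' _)
      refine le_trans ?_ (Multiset.toFinset_card_le _)
      rw [Nat.card_eq_fintype_card, ← Finset.card_univ, ← Finset.card_map ⟨Subtype.val, Subtype.val_injective⟩]
      refine Finset.card_le_card fun x hx => ?_
      simp only [Finset.mem_map, Finset.mem_univ, true_and, Function.Embedding.coeFn_mk] at hx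
      obtain ⟨y, rfl⟩ := hx
      rw [Multiset.mem_toFinset, Polynomial.mem_roots hX, Polynomial.IsRoot, Polynomial.eval_sub,
        Polynomial.eval_pow, Polynomial.eval_X, (hmem _).1 y.2, sub_self]
    rw [Module.natCard_eq_pow_finrank (K := F), Nat.card_eq_fintype_card] at hle
    exact (Nat.pow_le_pow_iff_right hq).1 hle
  have hLne : L ≠ K := by
    intro h
    rw [h, hK.finrank_eq] at hfin
    omega
  have hLbot : L ≠ ⊥ := by
    intro h
    obtain ⟨x, hx⟩ := IsCyclic.exists_ofOrder_eq_natCard (α := Kˣ)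
    rw [Nat.card_units, Nat.card_eq_fintype_card, hcardK] at hx
    have hdvd : q ^ s - 1 ∣ q ^ r - 1 := Nat.pow_sub_one_dvd_pow_sub_one q (Nat.minFac_dvd r)
    obtain ⟨e, he⟩ := hdvd
    have hpos : 0 < q ^ s - 1 := by have := Nat.one_lt_pow hs.ne_zero hq; omega
    have he0 : e ≠ 0 := by
      rintro rfl
      rw [mul_zero] at he
      have := Nat.one_lt_pow (show r ≠ 0 by omega) hq
      omega
    have hy : orderOf (x ^ e) = q ^ s - 1 := by
      rw [orderOf_pow' x he0, hx, he, Nat.gcd_eq_right (Dvd.intro_left _ rfl),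
        Nat.mul_div_cancel _ (Nat.pos_of_ne_zero he0)]
    have hyL : ((x ^ e : Kˣ) : K) ∈ L' := by
      rw [hmem, ← Units.val_pow_eq_pow_val]
      congr 1
      conv_rhs => rw [← pow_one (x ^ e)]
      rw [← Nat.sub_add_cancel (Nat.one_le_pow s q (by omega)), pow_succ, ← hy, pow_orderOf_eq_one, one_mul,
        pow_one]
    have hy2 : ((x ^ e : Kˣ) : K).1 ∈ L := ⟨_, hyL, rfl⟩
    rw [h, Algebra.mem_bot] at hy2
    obtain ⟨c, hc⟩ := hy2
    have hc' : algebraMap F K c = ((x ^ e : Kˣ) : K) := Subtype.ext hc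
    have hc0 : c ≠ 0 := fun h0 => (x ^ e).ne_zero (by rw [← hc', h0, map_zero])
    have h1 : (x ^ e) ^ (q - 1) = 1 := Units.ext (by
      rw [Units.val_pow_eq_pow_val, ← hc', ← map_pow, FiniteField.pow_card_sub_one_eq_one c hc0, map_one,
        Units.val_one])
    have h2 := orderOf_dvd_of_pow_eq_one h1
    rw [hy] at h2
    have h3 := Nat.le_of_dvd (by omega) h2
    have h4 : q ^ 2 ≤ q ^ s := Nat.pow_le_pow_right (by omega) hs.two_le
    have h5 : 2 * q ≤ q ^ 2 := by nlinarith
    omega
  have hLfield : Cfsg.Geo.IsFieldSubalgebra (Module.finrank F L) L := by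
    refine ⟨fun x hx y hy => hK.comm x (hLK hx) y (hLK hy), ?_, rfl⟩
    rintro _ ⟨x, hx, rfl⟩ hne
    have hx0 : x ≠ 0 := fun h => hne (by rw [h, map_zero])
    refine ⟨K.val x⁻¹, ⟨x⁻¹, (hmem _).2 (by rw [inv_pow, (hmem x).1 hx]), rfl⟩, ?_⟩
    exact congrArg Subtype.val (mul_inv_cancel₀ hx0)
  have hNle : Cfsg.Geo.subalgebraNormalizer K ≤ Cfsg.Geo.subalgebraNormalizer L := by
    have key : ∀ g : GL (Fin n) F, g ∈ Cfsg.Geo.subalgebraNormalizer K → ∀ k ∈ L,
        (g : Matrix (Fin n) (Fin n) F) * k * ((g⁻¹ : GL (Fin n) F) : Matrix (Fin n) (Fin n) F) ∈ L := by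
      rintro g hg _ ⟨x, hx, rfl⟩
      refine ⟨⟨_, (hg x).1 x.2⟩, (hmem _).2 (Subtype.ext ?_), rfl⟩
      rw [SubmonoidClass.coe_pow]
      rw [Units.conj_pow g, ← SubmonoidClass.coe_pow, (hmem x).1 hx]
    intro g hg k
    refine ⟨key g hg k, fun h => ?_⟩
    have h2 := key g⁻¹ (inv_mem hg) _ h
    simpa [mul_assoc] using h2
  obtain ⟨g, hgL, hgS, hgK⟩ := exists_separating hK hLK hLne (by omega)
  have h2s : 2 < n := by have := hs.two_le; omega
  obtain ⟨g', -, hg'S, hg'L⟩ := exists_separating (L := ⊥) hLfield bot_le hLbot.symm (by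
    rw [Subalgebra.finrank_bot]; omega)
  refine ⟨fun hmax => ?_, fun hmax => ?_⟩
  · have := hmax.2 _ (lt_of_le_of_ne hNle fun e => hgK (e ▸ hgL))
    exact hg'L (this ▸ Subgroup.mem_top g')
  · rcases hmax.2 (Cfsg.Geo.subalgebraNormalizer L ⊓ Cfsg.Geo.specialLinear (Fin n) F)
      (inf_le_inf_right _ hNle) inf_le_right with e | e
    · have hmm : g ∈ Cfsg.Geo.subalgebraNormalizer L ⊓ Cfsg.Geo.specialLinear (Fin n) F := ⟨hgL, hgS⟩
      rw [e] at hmm
      exact hgK hmm.1
    · have hmm : g' ∈ Cfsg.Geo.subalgebraNormalizer L ⊓ Cfsg.Geo.specialLinear (Fin n) F := e.symm ▸ hg'S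
      exact hg'L hmm.1

end Cfsg.Agent.S5887
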