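import Cfsg.Statements.S5891
import Cfsg.Agent.Lib.Classical.Dickson.MaxExcl


set_option autoImplicit false
open Cfsg

namespace Cfsg.Agent.S5891

open CfsgLib.Classical.Dickson Matrix


/-- Let F be a finite field of odd order q > 3 and characteristic p, and let M be a maximal subgroup of PGL₂(F) not containing the image L of SL₂(F) (a copy of PSL₂(F) of index 2). Then one of the following holds: |M| = q(q − 1) (M is the stabiliser of a point of the projective line); q ≠ 5 and M is dihedral of order 2(q − 1); M is dihedral of order 2(q + 1); q = p ≡ ±3 (mod 8) and M ≅ S₄; or q = q₀^r for an odd prime r and M ≅ PGL₂(F₀) with |F₀| = q₀. -/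
theorem result {F : Type*} [Field F] [Fintype F]
    (hodd : Odd (Fintype.card F)) (h3 : 3 < Fintype.card F) (M : Subgroup (Matrix.ProjGenLinGroup (Fin 2) F)) (hM : IsCoatom M)
    (hML : ¬ (Matrix.ProjGenLinGroup.mk.comp Matrix.SpecialLinearGroup.toGL).range ≤ M) :
    Nat.card M = Fintype.card F * (Fintype.card F - 1) ∨
    (Fintype.card F ≠ 5 ∧ Nonempty (M ≃* DihedralGroup (Fintype.card F - 1))) ∨
    Nonempty (M ≃* DihedralGroup (Fintype.card F + 1)) ∨
    ((Fintype.card F).Prime ∧ (Fintype.card F % 8 = 3 ∨ Fintype.card F % 8 = 5) ∧ Nonempty (M ≃* Equiv.Perm (Fin 4))) ∨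
    (∃ (F₀ : Type) (_ : Field F₀) (_ : Fintype F₀) (r : ℕ), r.Prime ∧ Odd r ∧ Fintype.card F = Fintype.card F₀ ^ r ∧
        Nonempty (M ≃* Matrix.ProjGenLinGroup (Fin 2) F₀)) := by
  classical
  obtain ⟨p, hp'⟩ := CharP.exists F
  haveI := Fact.mk (CharP.char_is_prime F p)
  have ho : Fintype.card F % 2 = 1 := Nat.odd_iff.mp hodd
  have hq : 4 ≤ Fintype.card F := by omega
  have hM' := (isCoatom_iff_maxIn M).mp hM
  have hΓ : IsBig (⊤ : Subgroup (ProjGenLinGroup (Fin 2) F)) := Or.inl rfl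
  have hne : sln F ≠ ⊤ := sln_ne_top_of_odd ho
  have hL : ¬ sln F ≤ M := hML
  have hcard := hΓ.card_mul
  rw [Subgroup.index_top, mul_one] at hcard
  cases maxKind p hΓ hq hM' hL with
  | stab x hx =>
    left
    rw [hx]
    apply Nat.eq_of_mul_eq_mul_right (show 0 < Fintype.card F + 1 by omega)
    rw [card_stabIn le_top x, hcard]
    ring
  | tori c hc hc1 hcΓ hMeq =>
    obtain ⟨k, hk, hk2, hkcard, ⟨f⟩⟩ := tori_shape p hΓ hq hc hc1 hcΓ
    rw [Subgroup.index_top, mul_one] at hk2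
    rcases hk2 with h | h
    · refine Or.inr (Or.inl ⟨fun h5 => tori_exclusion_five h5 hM' (by rw [hMeq, hkcard]; omega),
        ⟨h ▸ (MulEquiv.subgroupCongr hMeq).trans f⟩⟩)
    · exact Or.inr (Or.inr (Or.inl ⟨h ▸ (MulEquiv.subgroupCongr hMeq).trans f⟩))
  | a4 hs _ _ _ _ => exact absurd hs.symm hne
  | s4 _ hp' _ ht hm =>
    exact Or.inr (Or.inr (Or.inr (Or.inl ⟨hp'.symm ▸ (Fact.out : p.Prime), ht rfl, hm⟩)))
  | a5 hs _ _ _ => exact absurd hs.symm hne
  | pgl A r h hr hd hA _ ht hc =>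
    obtain ⟨K, iK, iF, hK, ⟨r'⟩⟩ := exists_small_field A
    obtain ⟨g⟩ := ratPGL_equiv A r'
    exact Or.inr (Or.inr (Or.inr (Or.inr ⟨K, iK, iF, r, hr, ht ho rfl, by rw [hK, hd],
      ⟨((conjEquiv h _).trans (MulEquiv.subgroupCongr hc)).trans g⟩⟩)))
  | psl A r h hr hd hs _ _ _ => exact absurd hs.symm hne

end Cfsg.Agent.S5891
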