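import Cfsg.Statements.S5893
import Cfsg.Agent.Lib.Classical.Dickson.MaxExcl


set_option autoImplicit false
open Cfsg

namespace Cfsg.Agent.S5893

open CfsgLib.Classical.Dickson Matrix


/-- Let F be a finite field of even order q ≥ 4 and let M be a maximal subgroup of PSL₂(F) (= SL₂(F) = PGL₂(F)). Then one of the following holds: |M| = q(q − 1) (the stabiliser of a point of the projective line, elementary abelian of order q extended by a cyclic group of order q − 1); M is dihedral of order 2(q − 1); M is dihedral of order 2(q + 1); or q = q₀^r for a prime r with q₀ ≠ 2 and M ≅ PSL₂(F₀) with |F₀| = q₀. -/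
theorem result {F : Type*} [Field F] [Fintype F]
    (heven : Even (Fintype.card F)) (h4 : 4 ≤ Fintype.card F) (M : Subgroup (Matrix.ProjectiveSpecialLinearGroup (Fin 2) F)) (hM : IsCoatom M) :
    Nat.card M = Fintype.card F * (Fintype.card F - 1) ∨
    Nonempty (M ≃* DihedralGroup (Fintype.card F - 1)) ∨
    Nonempty (M ≃* DihedralGroup (Fintype.card F + 1)) ∨
    (∃ (F₀ : Type) (_ : Field F₀) (_ : Fintype F₀) (r : ℕ), r.Prime ∧ Fintype.card F₀ ≠ 2 ∧
        Fintype.card F = Fintype.card F₀ ^ r ∧ Nonempty (M ≃* Matrix.ProjectiveSpecialLinearGroup (Fin 2) F₀)) := by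
  classical
  obtain ⟨p, hp'⟩ := CharP.exists F
  haveI := Fact.mk (CharP.char_is_prime F p)
  have he : Fintype.card F % 2 = 0 := Nat.even_iff.mp heven
  have hM' := (psl_isCoatom_iff M).mp hM
  have hΓ : IsBig (sln F) := Or.inr rfl
  have htop : sln F = ⊤ := sln_eq_top_of_even he
  have hidx : (sln F).index = 1 := by rw [htop, Subgroup.index_top]
  have hcard := hΓ.card_mul
  rw [hidx, mul_one] at hcard
  have hL : ¬ sln F ≤ inPGL M := fun e => hM'.ne (le_antisymm hM'.le e)
  let e := inPGLEquiv M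
  cases maxKind p hΓ h4 hM' hL with
  | stab x hx =>
    left
    rw [Nat.card_congr e.toEquiv, hx]
    apply Nat.eq_of_mul_eq_mul_right (show 0 < Fintype.card F + 1 by omega)
    rw [card_stabIn le_rfl x, hcard]
    ring
  | tori c hc hc1 hcΓ hMeq =>
    obtain ⟨k, hk, hk2, -, ⟨f⟩⟩ := tori_shape p hΓ h4 hc hc1 hcΓ
    rw [hidx, mul_one] at hk2
    rcases hk2 with h | h
    · exact Or.inr (Or.inl ⟨h ▸ (e.trans (MulEquiv.subgroupCongr hMeq)).trans f⟩)
    · exact Or.inr (Or.inr (Or.inl ⟨h ▸ (e.trans (MulEquiv.subgroupCongr hMeq)).trans f⟩))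
  | a4 _ _ h8 _ _ => omega
  | s4 ho _ _ _ _ => omega
  | a5 _ hmod _ _ => omega
  | pgl A r h hr hd hA _ _ hc =>
    obtain ⟨K, iK, iF, hK, ⟨r'⟩⟩ := exists_small_field A
    obtain ⟨g⟩ := ratPSL_equiv A r'
    have hA0 : Nat.card A % 2 = 0 := by
      rcases Nat.mod_two_eq_zero_or_one (Nat.card A) with h' | h'
      · exact h'
      · rw [hd, Nat.pow_mod, h', one_pow] at he; simp at he
    have heq : ratPSL A = ratPGL A := Subgroup.eq_of_le_of_card_ge (ratPSL_le A) (by
      rcases card_ratPSL_cases A with ⟨h', -⟩ | ⟨-, h'⟩ <;> omega)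
    exact Or.inr (Or.inr (Or.inr ⟨K, iK, iF, r, hr, by rw [hK]; omega, by rw [hK, hd],
      ⟨((e.trans (conjEquiv h _)).trans (MulEquiv.subgroupCongr (hc.trans heq.symm))).trans g⟩⟩))
  | psl A r h hr hd _ ho _ hc => omega

end Cfsg.Agent.S5893
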