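import Cfsg.Statements.S5894
import Cfsg.Agent.Lib.SymMax.Imprimitive

set_option linter.style.haveILetI false

set_option autoImplicit false
open Cfsg

namespace Cfsg.Agent.S5894

open scoped Pointwise

/-- For every m ≥ 2 the symmetric group on 2m letters has a maximal subgroup M of index 2m together with a maximal subgroup H of M that is not second maximal: some maximal subgroup K of the symmetric group contains H without H being maximal in K. (One may take M the stabiliser of a letter, H ≅ S_m × S_{m−1} inside it, and K ≅ S_m ≀ S₂ the stabiliser of a partition into two m-sets, with H < S_m × S_m < K.) So the prime-index hypothesis in the second-maximality criterion cannot be relaxed to any even index ≥ 4. -/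
theorem result (m : ℕ) (hm : 2 ≤ m) :
    ∃ M H K : Subgroup (Equiv.Perm (Fin (2 * m))), IsCoatom M ∧ M.index = 2 * m ∧ H ≤ M ∧ IsCoatom (H.subgroupOf M) ∧
      IsCoatom K ∧ H ≤ K ∧ ¬ IsCoatom (H.subgroupOf K) := by
  classical
  let α : Fin (2 * m) := ⟨0, by omega⟩
  let β : Fin (2 * m) := ⟨m, by omega⟩
  let γ : Fin (2 * m) := ⟨1, by omega⟩
  let f : Fin (2 * m) → Fin 2 := fun i => if i.1 < m then 0 else 1
  let A : Set (Fin (2 * m)) := {i | i.1 < m}
  let M := MulAction.stabilizer (Equiv.Perm (Fin (2 * m))) α
  let L := MulAction.stabilizer (Equiv.Perm (Fin (2 * m))) A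
  have hne : Nontrivial (Fin (2 * m)) := Fin.nontrivial_iff_two_le.2 (by omega)
  have hf : ∀ i : Fin 2, Nat.card {x : Fin (2 * m) // f x = i} = m := by
    intro i
    rw [Nat.card_eq_fintype_card]
    have h0 : Fintype.card {x : Fin (2 * m) // f x = 0} = m := by
      rw [Fintype.card_congr (Equiv.subtypeEquivRight (q := fun x => x.1 < m) ?_),
        Fintype.card_congr (Fin.castLEquiv (show m ≤ 2 * m by omega)).symm, Fintype.card_fin]
      intro x; simp only [f]; split_ifs <;> simp [*]
    rcases (show ∀ i : Fin 2, i = 0 ∨ i = 1 from by decide) i with rfl | rfl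
    · exact h0
    · rw [Fintype.card_congr (Equiv.subtypeEquivRight (q := fun x => ¬ f x = 0) ?_),
        Fintype.card_subtype_compl, h0, Fintype.card_fin]
      · omega
      · intro x; simp only [f]; split_ifs <;> simp
  have hmem : ∀ g : Equiv.Perm (Fin (2 * m)), g ∈ L ↔ ∀ x, (g x).1 < m ↔ x.1 < m := by
    intro g
    simp only [L, MulAction.mem_stabilizer_set, Equiv.Perm.smul_def, A, Set.mem_setOf_eq]
  have hfA : ∀ x, f x = 0 ↔ x.1 < m := by intro x; simp only [f]; split_ifs <;> simp [*]
  have hLK : L ≤ CfsgLib.SymMax.Imprimitive.partStab f := by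
    intro g hg x y
    simp only [f, (hmem g).1 hg]
  refine ⟨M, M ⊓ L, CfsgLib.SymMax.Imprimitive.partStab f,
    (MulAction.isCoatom_stabilizer_iff_preprimitive (Equiv.Perm (Fin (2 * m))) α).2 inferInstance, ?_,
    inf_le_left, ?_, CfsgLib.SymMax.Imprimitive.isCoatom_partStab hm f hf,
    inf_le_right.trans hLK, ?_⟩
  · show M.index = 2 * m
    rw [MulAction.index_stabilizer_of_transitive, Nat.card_eq_fintype_card, Fintype.card_fin]
  · -- inside the point stabiliser the set stabiliser is maximal
    let φ : Equiv.Perm {x : Fin (2 * m) // x ≠ α} →* Equiv.Perm (Fin (2 * m)) := Equiv.Perm.ofSubtype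
    have hrange : φ.range = M := by
      ext g
      constructor
      · rintro ⟨h, rfl⟩
        exact Equiv.Perm.ofSubtype_apply_of_not_mem h (by simp)
      · intro hg
        have hg' : g α = α := hg
        have h1 : ∀ x, g x ≠ α ↔ x ≠ α := fun x => by
          conv_lhs => rw [← hg']
          exact g.injective.ne_iff
        exact ⟨g.subtypePerm h1, Equiv.Perm.ofSubtype_subtypePerm h1 (fun x hx hxα => hx (hxα ▸ hg'))⟩
    let e : Equiv.Perm {x : Fin (2 * m) // x ≠ α} ≃* M :=
      (MonoidHom.ofInjective Equiv.Perm.ofSubtype_injective).trans (MulEquiv.subgroupCongr hrange)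
    let s : Set {x : Fin (2 * m) // x ≠ α} := {x | x.1.1 < m}
    have hs : IsCoatom (MulAction.stabilizer (Equiv.Perm {x : Fin (2 * m) // x ≠ α}) s) := by
      refine Equiv.Perm.isCoatom_stabilizer ⟨⟨γ, by simp [α, γ]⟩, ?_⟩ ⟨⟨β, by simp [α, β]; omega⟩, ?_⟩ ?_
      · show (1 : ℕ) < m; omega
      · show ¬ m < m; omega
      · rw [Nat.card_eq_fintype_card, Fintype.card_subtype_compl, Fintype.card_fin,
          Fintype.card_subtype_eq]
        omega
    have hmap : (MulAction.stabilizer (Equiv.Perm {x : Fin (2 * m) // x ≠ α}) s) =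
        ((M ⊓ L).subgroupOf M).comap e.toMonoidHom := by
      ext h
      rw [Subgroup.mem_comap, Subgroup.mem_subgroupOf]
      show _ ↔ Equiv.Perm.ofSubtype h ∈ M ⊓ L
      rw [Subgroup.mem_inf, hmem, and_iff_right (hrange ▸ ⟨h, rfl⟩ : Equiv.Perm.ofSubtype h ∈ M),
        MulAction.mem_stabilizer_set]
      constructor
      · intro hh x
        by_cases hx : x = α
        · rw [hx, Equiv.Perm.ofSubtype_apply_of_not_mem h (by simp)]
        · rw [Equiv.Perm.ofSubtype_apply_of_mem h hx]
          exact hh ⟨x, hx⟩
      · intro hh x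
        have := hh x.1
        rwa [Equiv.Perm.ofSubtype_apply_coe] at this
    rw [hmap] at hs
    exact (OrderIso.isCoatom_iff e.comapSubgroup _).1 hs
  · intro hco
    have hswap : Equiv.swap α γ ∈ L := (hmem _).2 fun x => by
      rw [Equiv.swap_apply_def]
      split_ifs with h1 h2
      · subst h1; simp [α, γ]; omega
      · subst h2; simp [α, γ]; omega
      · rfl
    have hnot : ¬ L ≤ M := fun h => by
      have := h hswap
      simp only [M, MulAction.mem_stabilizer_iff, Equiv.Perm.smul_def, Equiv.swap_apply_left] at this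
      simp [α, γ] at this
    obtain ⟨g, hg1, -⟩ := CfsgLib.SymMax.Imprimitive.exists_block_swap f hf 0 1
    have hgK := CfsgLib.SymMax.Imprimitive.mem_of_map (f := f) _ hg1
    have hgL : g ∉ L := fun h => by
      have h0 : f α = 0 := (hfA α).2 (by show 0 < m; omega)
      have h1 := hg1 α
      rw [h0, Equiv.swap_apply_left] at h1
      have h2 := (hfA (g α)).2 (((hmem g).1 h α).2 (by show 0 < m; omega))
      rw [h1] at h2
      exact absurd h2 (by decide)
    have htop := hco.2 (L.subgroupOf (CfsgLib.SymMax.Imprimitive.partStab f)) (by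
      refine lt_of_le_not_ge (fun x hx => ?_) fun h => ?_
      · rw [Subgroup.mem_subgroupOf] at hx ⊢; exact hx.2
      · exact hnot fun x hx => (Subgroup.mem_subgroupOf.1 (h (show (⟨x, hLK hx⟩ :
          CfsgLib.SymMax.Imprimitive.partStab f) ∈ L.subgroupOf _ from Subgroup.mem_subgroupOf.2 hx))).1)
    rw [Subgroup.subgroupOf_eq_top] at htop
    exact hgL (htop hgK)

end Cfsg.Agent.S5894
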