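import Cfsg.Statements.S5895
import Mathlib

set_option linter.style.haveILetI false

set_option autoImplicit false
open Cfsg

namespace Cfsg.Agent.S5895

variable {p : ℕ} [Fact p.Prime] {d : ℕ}

lemma exists_map (u x : Fin d → ZMod p) (hu : u ≠ 0) (hx : x ≠ 0) :
    ∃ s : (Fin d → ZMod p) ≃ₗ[ZMod p] (Fin d → ZMod p), s u = x := by
  haveI : MulAction.IsPretransitive ((Fin d → ZMod p) ≃ₗ[ZMod p] (Fin d → ZMod p))
      (Projectivization (ZMod p) (Fin d → ZMod p)) :=
    MulAction.isPretransitive_of_is_two_pretransitive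
  obtain ⟨s, hs⟩ := MulAction.exists_smul_eq ((Fin d → ZMod p) ≃ₗ[ZMod p] (Fin d → ZMod p))
    (Projectivization.mk (ZMod p) u hu) (Projectivization.mk (ZMod p) x hx)
  rw [Projectivization.smul_mk, Projectivization.mk_eq_mk_iff'] at hs
  obtain ⟨t, ht⟩ := hs
  have ht0 : t ≠ 0 := by
    rintro rfl
    rw [zero_smul] at ht
    exact hu (s.map_eq_zero_iff.1 ht.symm)
  refine ⟨s.trans (LinearEquiv.smulOfUnit (Units.mk0 t ht0)⁻¹), ?_⟩
  show (Units.mk0 t ht0)⁻¹ • s u = x
  rw [show s u = t • x from ht.symm]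
  show (t⁻¹ : ZMod p) • t • x = x
  rw [smul_smul, inv_mul_cancel₀ ht0, one_smul]

lemma stab_line {v : Fin d → ZMod p} (hv : v ≠ 0)
    {s : (Fin d → ZMod p) ≃ₗ[ZMod p] (Fin d → ZMod p)}
    (hs : s ∈ MulAction.stabilizer _ (Projectivization.mk (ZMod p) v hv)) :
    ∃ t : ZMod p, s v = t • v := by
  rw [MulAction.mem_stabilizer_iff, Projectivization.smul_mk, Projectivization.mk_eq_mk_iff'] at hs
  obtain ⟨t, ht⟩ := hs
  exact ⟨t, ht.symm⟩

/-- For every prime p and every d ≥ 2 there is a finite group G with a maximal subgroup M of index p^d and a maximal subgroup H of M that is not second maximal in G: some maximal subgroup K of G contains H without H being maximal in K. (One may take G the affine group V ⋊ GL(V) of V = 𝔽_p^d, M = GL(V), H the stabiliser in M of a line W of V, and K = V ⋊ H, with H < W ⋊ H < K.) So the prime-index hypothesis in the second-maximality criterion cannot be relaxed to prime-power index. -/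
theorem result (p d : ℕ) (hp : p.Prime)
    (hd : 2 ≤ d) :
    ∃ (G : Type) (_ : Group G) (_ : Finite G) (M H K : Subgroup G), IsCoatom M ∧ M.index = p ^ d ∧ H ≤ M ∧
      IsCoatom (H.subgroupOf M) ∧ IsCoatom K ∧ H ≤ K ∧ ¬ IsCoatom (H.subgroupOf K) := by
  haveI := Fact.mk hp
  let V := Fin d → ZMod p
  let φ : (V ≃ₗ[ZMod p] V) →* MulAut (Multiplicative V) :=
    MonoidHom.mk' (fun e => AddEquiv.toMultiplicative e.toAddEquiv) (fun a b => rfl)
  let G := Multiplicative V ⋊[φ] (V ≃ₗ[ZMod p] V)
  haveI : Finite (V ≃ₗ[ZMod p] V) := Finite.of_injective (fun e => (e : V → V)) DFunLike.coe_injective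
  haveI : Finite G := Finite.of_equiv _ SemidirectProduct.equivProd.symm
  haveI : Nontrivial (Fin d) := Fin.nontrivial_iff_two_le.2 hd
  obtain ⟨i, j, hij⟩ := exists_pair_ne (Fin d)
  let v : V := Pi.single i 1
  let w : V := Pi.single j 1
  have hv : v ≠ 0 := fun h => by
    have h1 : v i = 0 := congrFun h i
    simp [v] at h1
  have hw : w ≠ 0 := fun h => by
    have h1 : w j = 0 := congrFun h j
    simp [w] at h1
  let P : Projectivization (ZMod p) V := Projectivization.mk _ v hv
  let Q : Projectivization (ZMod p) V := Projectivization.mk _ w hw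
  have hPQ : P ≠ Q := fun h => by
    obtain ⟨c, hc⟩ := (Projectivization.mk_eq_mk_iff' (ZMod p) v w hv hw).1 h
    have h1 : (c • Pi.single j (1 : ZMod p) : Fin d → ZMod p) i = (Pi.single i (1 : ZMod p) : Fin d → ZMod p) i := congrFun hc i
    simp [Pi.single_eq_of_ne hij] at h1
  haveI : Nontrivial (Projectivization (ZMod p) V) := ⟨⟨P, Q, hPQ⟩⟩
  let H₀ := MulAction.stabilizer (V ≃ₗ[ZMod p] V) P
  haveI : MulAction.IsPreprimitive (V ≃ₗ[ZMod p] V) (Projectivization (ZMod p) V) :=
    MulAction.isPreprimitive_of_is_two_pretransitive inferInstance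
  have hH₀ : IsCoatom H₀ := (MulAction.isCoatom_stabilizer_iff_preprimitive _ P).2 inferInstance
  let M : Subgroup G := (SemidirectProduct.inr : _ →* G).range
  let H : Subgroup G := H₀.map SemidirectProduct.inr
  let K : Subgroup G := H₀.comap SemidirectProduct.rightHom
  have hMmem : ∀ g : G, g ∈ M ↔ g.left = 1 := by
    intro g
    constructor
    · rintro ⟨s, rfl⟩; rfl
    · exact fun h => ⟨g.right, SemidirectProduct.ext (by rw [SemidirectProduct.left_inr, h]) rfl⟩
  refine ⟨G, inferInstance, inferInstance, M, H, K, ⟨fun h => ?_, fun N hN => ?_⟩, ?_, ?_, ?_, ?_, ?_, ?_⟩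
  · have := (hMmem (SemidirectProduct.inl (Multiplicative.ofAdd v))).1 (h ▸ Subgroup.mem_top _)
    exact hv (by simpa using this)
  · obtain ⟨g, hgN, hgM⟩ := SetLike.exists_of_lt hN
    rw [hMmem] at hgM
    have hinr : ∀ s, (SemidirectProduct.inr s : G) ∈ N := fun s => hN.le ⟨s, rfl⟩
    have hu : (SemidirectProduct.inl g.left : G) ∈ N := by
      have : (SemidirectProduct.inl g.left : G) = g * (SemidirectProduct.inr g.right)⁻¹ := by
        rw [eq_mul_inv_iff_mul_eq, SemidirectProduct.inl_left_mul_inr_right]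
      rw [this]
      exact N.mul_mem hgN (N.inv_mem (hinr _))
    rw [eq_top_iff]
    intro x _
    rw [← SemidirectProduct.inl_left_mul_inr_right x]
    refine N.mul_mem ?_ (hinr _)
    by_cases hx : x.left = 1
    · rw [hx, map_one]; exact N.one_mem
    obtain ⟨s, hs⟩ := exists_map (p := p) (Multiplicative.toAdd g.left) (Multiplicative.toAdd x.left)
      (fun h => hgM (Multiplicative.toAdd.injective h)) (fun h => hx (Multiplicative.toAdd.injective h))
    have h2 : φ s g.left = x.left := Multiplicative.toAdd.injective hs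
    rw [← h2, SemidirectProduct.inl_aut]
    exact N.mul_mem (N.mul_mem (hinr s) hu) (hinr _)
  · have h1 := M.index_mul_card
    rw [SemidirectProduct.card, show Nat.card M = Nat.card (V ≃ₗ[ZMod p] V) from
      (Nat.card_congr (MonoidHom.ofInjective SemidirectProduct.inr_injective).toEquiv).symm] at h1
    rw [Nat.eq_of_mul_eq_mul_right Nat.card_pos h1, show Nat.card (Multiplicative V) = Nat.card V from rfl,
      Nat.card_fun, Nat.card_zmod, Nat.card_eq_fintype_card, Fintype.card_fin]
  · exact Subgroup.map_le_range _ _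
  · let e : (V ≃ₗ[ZMod p] V) ≃* M := MonoidHom.ofInjective SemidirectProduct.inr_injective
    have : H.subgroupOf M = H₀.map e.toMonoidHom := by
      ext x
      rw [Subgroup.mem_subgroupOf, Subgroup.mem_map, Subgroup.mem_map]
      exact exists_congr fun s => and_congr Iff.rfl (Subtype.ext_iff (a1 := e s) (a2 := x)).symm
    rw [this]
    exact (OrderIso.isCoatom_iff e.mapSubgroup H₀).2 hH₀
  · exact Subgroup.isCoatom_comap_of_surjective SemidirectProduct.rightHom_surjective hH₀
  · rintro _ ⟨s, hs, rfl⟩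
    show SemidirectProduct.rightHom (SemidirectProduct.inr s : G) ∈ H₀
    rw [SemidirectProduct.rightHom_inr]
    exact hs
  · intro hco
    let L : Subgroup G :=
      { carrier := {g | g.right ∈ H₀ ∧ ∃ c : ZMod p, Multiplicative.toAdd g.left = c • v}
        one_mem' := ⟨H₀.one_mem, 0, by simp⟩
        mul_mem' := fun {g h} hg hh => by
          obtain ⟨hgr, c, hc⟩ := hg
          obtain ⟨hhr, c', hc'⟩ := hh
          obtain ⟨t, ht⟩ := stab_line hv hgr
          refine ⟨H₀.mul_mem hgr hhr, c + c' * t, ?_⟩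
          show Multiplicative.toAdd g.left + g.right (Multiplicative.toAdd h.left) = _
          rw [hc, hc', map_smul, ht, smul_smul, add_smul]
        inv_mem' := fun {g} hg => by
          obtain ⟨hgr, c, hc⟩ := hg
          obtain ⟨t, ht⟩ := stab_line hv (H₀.inv_mem hgr)
          refine ⟨H₀.inv_mem hgr, -c * t, ?_⟩
          show (g.right⁻¹ : V ≃ₗ[ZMod p] V) (- Multiplicative.toAdd g.left) = _
          rw [hc, map_neg, map_smul, ht, smul_smul, neg_mul, neg_smul] }
    have hLK : L ≤ K := fun g hg => hg.1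
    have htop := hco.2 (L.subgroupOf K) (by
      refine lt_of_le_not_ge (fun x hx => ?_) fun h => ?_
      · rw [Subgroup.mem_subgroupOf] at hx ⊢
        obtain ⟨s, hs, hsx⟩ := hx
        rw [← hsx]
        exact ⟨hs, 0, by rw [zero_smul]; rfl⟩
      · have hm : (SemidirectProduct.inl (Multiplicative.ofAdd v) : G) ∈ L :=
          ⟨H₀.one_mem, 1, by simp⟩
        have := Subgroup.mem_subgroupOf.1 (h (show (⟨_, hLK hm⟩ : K) ∈ L.subgroupOf K from
          Subgroup.mem_subgroupOf.2 hm))
        obtain ⟨s, -, hs⟩ := this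
        have := congrArg SemidirectProduct.left hs
        simp at this
        exact hv this.symm)
    rw [Subgroup.subgroupOf_eq_top] at htop
    obtain ⟨-, c, hc⟩ := htop (show (SemidirectProduct.inl (Multiplicative.ofAdd w) : G) ∈ K from by
      simp [K, H₀.one_mem])
    have := congrFun hc j
    have h1 : (Pi.single j (1 : ZMod p) : Fin d → ZMod p) j = (c • Pi.single i (1 : ZMod p) : Fin d → ZMod p) j := this
    simp [Pi.single_eq_of_ne hij.symm] at h1

end Cfsg.Agent.S5895
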