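import Cfsg.Statements.S5896
import Cfsg.Agent.Lib.NumberTheory.SwapClosure
-- import your own Cfsg.Agent.* helpers here

set_option autoImplicit false
open Cfsg

namespace Cfsg.Agent.S5896

open scoped commutatorElement


/-- A solvable finite group with prescribed derived length. -/
theorem exists_long (d : ℕ) : ∃ (S : Type) (_ : Group S) (_ : Finite S),
    Group.IsSolvable S ∧ derivedSeries S d ≠ ⊥ := by
  induction d with
  | zero =>
    refine ⟨Multiplicative (ZMod 2), inferInstance, inferInstance,
      Group.isSolvable_of_comm fun a b => mul_comm a b, ?_⟩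
    rw [derivedSeries_zero]
    exact top_ne_bot
  | succ d ih =>
    obtain ⟨D, _, _, hsol, hne⟩ := ih
    let ι : (Multiplicative (ZMod 2) → D) →* (D ≀ᵣ Multiplicative (ZMod 2)) :=
      { toFun := fun f => ⟨f, 1⟩
        map_one' := rfl
        map_mul' := fun f g => by ext x <;> simp }
    have hpi : Group.IsSolvable (Multiplicative (ZMod 2) → D) := by
      rw [Group.isSolvable_def] at hsol ⊢
      obtain ⟨n, hn⟩ := hsol
      refine ⟨n, eq_bot_iff.mpr fun f hf => ?_⟩
      refine Subgroup.mem_bot.mpr (funext fun x => ?_)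
      have := map_derivedSeries_le_derivedSeries (Pi.evalMonoidHom (fun _ : Multiplicative (ZMod 2) => D) x) n
        (Subgroup.mem_map_of_mem _ hf)
      rw [hn, Subgroup.mem_bot] at this
      exact this
    have hCsol : Group.IsSolvable (Multiplicative (ZMod 2)) := Group.isSolvable_of_comm fun a b => mul_comm a b
    refine ⟨(D ≀ᵣ Multiplicative (ZMod 2)), inferInstance, inferInstance, Group.isSolvable_of_ker_le_range ι
      RegularWreathProduct.rightHom (fun w hw => ⟨w.left, by
        ext x
        · rfl
        · exact (MonoidHom.mem_ker.mp hw).symm⟩), ?_⟩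
    have hker : ∀ y ∈ commutator (D ≀ᵣ Multiplicative (ZMod 2)), y.right = (1 : Multiplicative (ZMod 2)) := fun y hy =>
      (Abelianization.commutator_subset_ker (RegularWreathProduct.rightHom (D := D) (Q := Multiplicative (ZMod 2)))) hy
    let π : commutator (D ≀ᵣ Multiplicative (ZMod 2)) →* D :=
      { toFun := fun y => y.1.left 1
        map_one' := rfl
        map_mul' := fun a b => by
          show (a.1 * b.1).left 1 = _
          simp [hker a.1 a.2] }
    have hπ : Function.Surjective π := by
      intro a
      have ht : (Multiplicative.ofAdd (1 : ZMod 2) : Multiplicative (ZMod 2)) ≠ 1 := by decide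
      refine ⟨⟨⁅(ι (Pi.mulSingle 1 a) : (D ≀ᵣ Multiplicative (ZMod 2))), RegularWreathProduct.inl (Multiplicative.ofAdd (1 : ZMod 2))⁆,
        Subgroup.commutator_mem_commutator (Subgroup.mem_top _) (Subgroup.mem_top _)⟩, ?_⟩
      show (⁅(ι (Pi.mulSingle 1 a) : (D ≀ᵣ Multiplicative (ZMod 2))), RegularWreathProduct.inl (Multiplicative.ofAdd (1 : ZMod 2))⁆).left 1 = a
      simp [commutatorElement_def, ι, Pi.mulSingle_apply, ht, ht.symm]
    intro hbot
    apply hne
    have hsub : ∀ k, (derivedSeries (commutator (D ≀ᵣ Multiplicative (ZMod 2))) k).map (commutator (D ≀ᵣ Multiplicative (ZMod 2))).subtype ≤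
        derivedSeries (D ≀ᵣ Multiplicative (ZMod 2)) (k + 1) := by
      intro k
      induction k with
      | zero =>
        rw [derivedSeries_zero, ← MonoidHom.range_eq_map, Subgroup.range_subtype, zero_add,
          derivedSeries_one]
      | succ k ih =>
        rw [derivedSeries_succ, Subgroup.map_commutator, derivedSeries_succ (D ≀ᵣ Multiplicative (ZMod 2))]
        exact Subgroup.commutator_mono ih ih
    have h0 : derivedSeries (commutator (D ≀ᵣ Multiplicative (ZMod 2))) d = ⊥ := by
      have := hsub d
      rw [hbot, le_bot_iff] at this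
      exact (Subgroup.map_eq_bot_iff_of_injective _ (Subgroup.subtype_injective _)).mp this
    rw [← map_derivedSeries_eq hπ d, h0, Subgroup.map_bot]

section Build

variable (S : Type) [Group S]

abbrev A5 := alternatingGroup (Fin 5)

/-- Permutation of the five factors. -/
def permAut : A5 →* MulAut (Fin 5 → S) where
  toFun σ :=
    { toFun := fun f i => f ((σ : Equiv.Perm (Fin 5)).symm i)
      invFun := fun f i => f ((σ : Equiv.Perm (Fin 5)) i)
      left_inv := fun f => by funext i; simp
      right_inv := fun f => by funext i; simp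
      map_mul' := fun f g => rfl }
  map_one' := rfl
  map_mul' σ τ := rfl

theorem permAut_apply (σ : A5) (f : Fin 5 → S) (i : Fin 5) :
    permAut S σ f i = f ((σ : Equiv.Perm (Fin 5)).symm i) := rfl

abbrev Amb := SemidirectProduct (Fin 5 → S) A5 (permAut S)

/-- The product of the classes of the coordinates. -/
noncomputable def χ : Amb S →* Abelianization S :=
  SemidirectProduct.lift
    { toFun := fun f => ∏ i, Abelianization.of (f i)
      map_one' := by simp
      map_mul' := fun f g => by simp [Finset.prod_mul_distrib] }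
    1 (fun σ => by
      refine MonoidHom.ext fun f => ?_
      simp only [MonoidHom.comp_apply, MonoidHom.coe_mk, OneHom.coe_mk, MonoidHom.one_apply,
        MulEquiv.coe_toMonoidHom, MulAut.conj_apply, one_mul, inv_one, mul_one, permAut_apply]
      exact Equiv.prod_comp (σ : Equiv.Perm (Fin 5)).symm fun i => Abelianization.of (f i))

end Build

theorem three_points : ∀ j k : Fin 5, j ≠ k → ∃ (i : Fin 5) (σ : Equiv.Perm (Fin 5)),
    i ≠ j ∧ i ≠ k ∧ Equiv.Perm.sign σ = 1 ∧ σ.symm i = i ∧ σ.symm j = k := by decide +kernel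

theorem point_trans : ∀ j : Fin 5, ∃ σ : Equiv.Perm (Fin 5), Equiv.Perm.sign σ = 1 ∧ σ 0 = j := by
  decide +kernel

theorem A5_gen : ∀ σ : Equiv.Perm (Fin 5), Equiv.Perm.sign σ = 1 →
    ∃ a b : Equiv.Perm (Fin 5), Equiv.Perm.sign a = 1 ∧ Equiv.Perm.sign b = 1 ∧
      a * b * a⁻¹ * b⁻¹ = σ := by decide +kernel

/-- Finite perfect groups have solvable maximal subgroups of unbounded derived length: for every d there is a finite perfect group G (equal to its commutator subgroup) with a solvable maximal subgroup H whose derived length exceeds d, i.e. the d-th term of the derived series of H is non-trivial. (Take the derived subgroup of a wreath product S ≀ A₅ with S solvable of large derived length, and H the preimage of a maximal subgroup of A₅.) -/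
theorem result (d : ℕ) :
    ∃ (G : Type) (_ : Group G) (_ : Finite G) (H : Subgroup G), commutator G = ⊤ ∧ IsCoatom H ∧ Group.IsSolvable H ∧
      derivedSeries H d ≠ ⊥ := by
  classical
  obtain ⟨S, _, _, hsol, hne⟩ := exists_long d
  have : Finite (Amb S) := Finite.of_equiv _ SemidirectProduct.equivProd.symm
  let G := (χ S).ker
  have hχl : ∀ f : Fin 5 → S, χ S (SemidirectProduct.inl f) = ∏ i, Abelianization.of (f i) :=
    fun f => by simp [χ]
  have hχr : ∀ σ : A5, χ S (SemidirectProduct.inr σ) = 1 := fun σ => by simp [χ]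
  let rh : G →* A5 := SemidirectProduct.rightHom.comp G.subtype
  let sec : A5 →* G := (SemidirectProduct.inr).codRestrict G fun σ => MonoidHom.mem_ker.mpr (hχr σ)
  have hrh : Function.Surjective rh := fun σ => ⟨sec σ, rfl⟩
  -- perfectness
  let G' : Subgroup (Amb S) := (commutator G).map G.subtype
  have hcomm : ∀ x ∈ G, ∀ y ∈ G, ⁅x, y⁆ ∈ G' := fun x hx y hy =>
    ⟨⁅(⟨x, hx⟩ : G), ⟨y, hy⟩⁆,
      Subgroup.commutator_mem_commutator (Subgroup.mem_top _) (Subgroup.mem_top _), rfl⟩
  have hrG : ∀ σ : A5, (SemidirectProduct.inr σ : Amb S) ∈ G' := by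
    intro σ
    obtain ⟨a, b, ha, hb, hab⟩ := A5_gen σ.1 (Equiv.Perm.mem_alternatingGroup.mp σ.2)
    let a' : A5 := ⟨a, Equiv.Perm.mem_alternatingGroup.mpr ha⟩
    let b' : A5 := ⟨b, Equiv.Perm.mem_alternatingGroup.mpr hb⟩
    have : σ = ⁅a', b'⁆ := Subtype.ext (by
      rw [← hab, commutatorElement_def]
      rfl)
    rw [this, map_commutatorElement]
    exact hcomm _ (hχr _) _ (hχr _)
  let pr : Fin 5 → Fin 5 → S → (Fin 5 → S) := fun j k s => Pi.mulSingle j s * Pi.mulSingle k s⁻¹
  have hprG : ∀ j k s, j ≠ k → (SemidirectProduct.inl (pr j k s) : Amb S) ∈ G := by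
    intro j k s h
    rw [MonoidHom.mem_ker, hχl]
    simp only [pr, Pi.mul_apply, map_mul, Finset.prod_mul_distrib]
    rw [Finset.prod_eq_single j, Finset.prod_eq_single k]
    · simp
    all_goals simp +contextual
  have hpr : ∀ j k s, j ≠ k → (SemidirectProduct.inl (pr j k s) : Amb S) ∈ G' := by
    intro j k s hjk
    obtain ⟨i, σ, hij, hik, hsg, hi, hj⟩ := three_points j k hjk
    let σ' : A5 := ⟨σ, Equiv.Perm.mem_alternatingGroup.mpr hsg⟩
    have h := hcomm _ (hprG i k s hik) _ (hχr σ')
    convert h using 1
    rw [commutatorElement_def, mul_assoc _ _ (SemidirectProduct.inl (pr i k s))⁻¹, mul_assoc,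
      mul_assoc, ← mul_assoc (SemidirectProduct.inr σ'), ← map_inv SemidirectProduct.inl,
      ← map_inv SemidirectProduct.inr, ← SemidirectProduct.inl_aut, ← map_mul]
    congr 1
    funext x
    simp only [Pi.mul_apply, permAut_apply, Pi.inv_apply, pr, σ']
    by_cases hxj : x = j
    · subst hxj
      simp [hj, hjk, hij.symm, hik, hjk.symm, hik.symm]
    by_cases hxi : x = i
    · subst hxi
      simp [hi, hij, hik]
    have h1 : σ.symm x ≠ i := fun h => hxi (σ.symm.injective (h.trans hi.symm))
    have h2 : σ.symm x ≠ k := fun h => hxj (σ.symm.injective (h.trans hj.symm))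
    simp [h1, h2, hxj, hxi, Pi.mulSingle_apply]
  let Q : Subgroup S := G'.comap ((SemidirectProduct.inl).comp (MonoidHom.mulSingle (fun _ : Fin 5 => S) 0))
  have hQ : commutator S ≤ Q := by
    rw [commutator_eq_closure, Subgroup.closure_le]
    rintro c ⟨s, u, rfl⟩
    have h := hcomm _ (hprG 0 1 s (by decide)) _ (hprG 0 2 u (by decide))
    show (SemidirectProduct.inl (Pi.mulSingle 0 ⁅s, u⁆) : Amb S) ∈ G'
    convert h using 1
    rw [← map_commutatorElement]
    congr 1
    funext x
    simp only [commutatorElement_def, Pi.mul_apply, Pi.inv_apply, pr]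
    fin_cases x <;> simp [Pi.mulSingle_apply]
  have hlG : ∀ f : Fin 5 → S, χ S (SemidirectProduct.inl f) = 1 →
      (SemidirectProduct.inl f : Amb S) ∈ G' := by
    intro f hf
    let P : Fin 5 → S := pr 1 0 (f 1) * pr 2 0 (f 2) * pr 3 0 (f 3) * pr 4 0 (f 4)
    have hP : (SemidirectProduct.inl P : Amb S) ∈ G' := by
      simp only [P, map_mul]
      exact G'.mul_mem (G'.mul_mem (G'.mul_mem (hpr _ _ _ (by decide)) (hpr _ _ _ (by decide)))
        (hpr _ _ _ (by decide))) (hpr _ _ _ (by decide))
    have hX : f * P⁻¹ = Pi.mulSingle 0 ((f * P⁻¹) 0) := by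
      funext x
      fin_cases x <;> simp [P, pr, Pi.mulSingle_apply]
    have hPG : χ S (SemidirectProduct.inl P) = 1 := (Subgroup.map_subtype_le _) hP
    have hmem : (f * P⁻¹) 0 ∈ Q := by
      apply hQ
      rw [← Abelianization.ker_of, MonoidHom.mem_ker]
      have : χ S (SemidirectProduct.inl (f * P⁻¹)) = 1 := by
        rw [map_mul, map_inv, map_mul, map_inv, hf, hPG, inv_one, mul_one]
      rw [hχl, hX, Finset.prod_eq_single 0] at this
      · rw [Pi.mulSingle_eq_same] at this
        exact this
      all_goals simp +contextual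
    have hmem' : (SemidirectProduct.inl (f * P⁻¹) : Amb S) ∈ G' := by
      rw [hX]
      exact hmem
    have := G'.mul_mem hmem' hP
    rwa [← map_mul, inv_mul_cancel_right] at this
  have hperf : commutator G = ⊤ := by
    refine eq_top_iff.mpr fun g _ => ?_
    have hsplit := SemidirectProduct.inl_left_mul_inr_right (φ := permAut S) g.1
    have h1 : χ S (SemidirectProduct.inl g.1.left) = 1 := by
      have h := MonoidHom.mem_ker.mp g.2
      rw [← hsplit, map_mul, hχr, mul_one] at h
      exact h
    have hmem : (g : Amb S) ∈ G' := by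
      rw [← hsplit]
      exact G'.mul_mem (hlG _ h1) (hrG _)
    obtain ⟨x, hx, hxg⟩ := hmem
    rwa [← Subtype.ext (hxg : (x : Amb S) = g)]
  -- the maximal subgroup
  let P0 : Subgroup A5 := MulAction.stabilizer A5 (0 : Fin 5)
  let H : Subgroup G := P0.comap rh
  have : MulAction.IsPretransitive A5 (Fin 5) := MulAction.isPretransitive_iff_base (0 : Fin 5) |>.mpr
    fun j => by
      obtain ⟨σ, hσ, hj⟩ := point_trans j
      exact ⟨⟨σ, Equiv.Perm.mem_alternatingGroup.mpr hσ⟩, hj⟩
  have hidx : H.index = 5 := by
    rw [Subgroup.index_comap_of_surjective _ hrh, MulAction.index_stabilizer_of_transitive,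
      Nat.card_eq_fintype_card, Fintype.card_fin]
  have hmax : IsCoatom H := by
    refine ⟨fun h => by rw [h, Subgroup.index_top] at hidx; omega, fun M hM => ?_⟩
    have hd := Subgroup.index_dvd_of_le hM.le
    rw [hidx] at hd
    rcases (Nat.dvd_prime Nat.prime_five).mp hd with h | h
    · exact Subgroup.index_eq_one.mp h
    · have := Subgroup.index_strictAnti hM
      omega
  have hstab : Group.IsSolvable P0 := by
    let r : P0 →* Equiv.Perm {x : Fin 5 // x ≠ 0} :=
      { toFun := fun σ => (σ.1 : Equiv.Perm (Fin 5)).subtypePerm fun x => by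
          have h0 : (σ.1 : Equiv.Perm (Fin 5)) 0 = 0 := σ.2
          exact not_congr ⟨fun h => (σ.1 : Equiv.Perm (Fin 5)).injective (h.trans h0.symm),
            fun h => h ▸ h0⟩
        map_one' := rfl
        map_mul' := fun a b => rfl }
    have hr : Function.Injective r := by
      intro a b h
      refine Subtype.ext (Subtype.ext (Equiv.ext fun x => ?_))
      by_cases hx : x = 0
      · subst hx
        exact a.2.trans b.2.symm
      · exact congrArg Subtype.val (Equiv.congr_fun h ⟨x, hx⟩)
    have h4 := CfsgLib.NumberTheory.SwapClosure.isSolvable_perm_fin_four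
    let e : {x : Fin 5 // x ≠ 0} ≃ Fin 4 := Fintype.equivFinOfCardEq (by decide)
    have : Group.IsSolvable (Equiv.Perm {x : Fin 5 // x ≠ 0}) :=
      Group.isSolvable_of_isSolvable_injective (f := e.permCongrHom.toMonoidHom) e.permCongrHom.injective
    exact Group.isSolvable_of_isSolvable_injective hr
  let res : H →* P0 := (rh.comp H.subtype).codRestrict P0 fun h => h.2
  let K : Subgroup H := res.ker
  have hK : Group.IsSolvable K := by
    have hpi : Group.IsSolvable (Fin 5 → S) := by
      rw [Group.isSolvable_def] at hsol ⊢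
      obtain ⟨n, hn⟩ := hsol
      refine ⟨n, eq_bot_iff.mpr fun f hf => ?_⟩
      refine Subgroup.mem_bot.mpr (funext fun x => ?_)
      have := map_derivedSeries_le_derivedSeries (Pi.evalMonoidHom (fun _ : Fin 5 => S) x) n
        (Subgroup.mem_map_of_mem _ hf)
      rw [hn, Subgroup.mem_bot] at this
      exact this
    have hright : ∀ k : K, k.1.1.1.right = 1 := fun k =>
      congrArg Subtype.val (MonoidHom.mem_ker.mp k.2)
    let lp : K →* (Fin 5 → S) :=
      { toFun := fun k => k.1.1.1.left
        map_one' := rfl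
        map_mul' := fun a b => by
          show (a.1.1.1 * b.1.1.1).left = _
          rw [SemidirectProduct.mul_left, hright a, map_one]
          rfl }
    refine Group.isSolvable_of_isSolvable_injective (f := lp) fun a b h => ?_
    exact Subtype.ext (Subtype.ext (Subtype.ext (SemidirectProduct.ext h
      ((hright a).trans (hright b).symm))))
  have hHsol : Group.IsSolvable H :=
    Group.isSolvable_of_ker_le_range K.subtype res (by rw [Subgroup.range_subtype])
  refine ⟨G, inferInstance, inferInstance, H, hperf, hmax, hHsol, ?_⟩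
  intro hbot
  apply hne
  let lp0 : K →* S :=
    { toFun := fun k => k.1.1.1.left 0
      map_one' := rfl
      map_mul' := fun a b => by
        have hr : a.1.1.1.right = 1 := congrArg Subtype.val (MonoidHom.mem_ker.mp a.2)
        show (a.1.1.1 * b.1.1.1).left 0 = _
        rw [SemidirectProduct.mul_left, hr, map_one]
        rfl }
  have hlp : Function.Surjective lp0 := by
    intro s
    have hG := hprG 0 1 s (by decide)
    have hH : (⟨_, hG⟩ : G) ∈ H := one_mem P0
    refine ⟨⟨⟨⟨_, hG⟩, hH⟩, Subtype.ext rfl⟩, ?_⟩
    show pr 0 1 s 0 = s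
    simp [pr, Pi.mulSingle_apply]
  rw [← map_derivedSeries_eq hlp d]
  have h0 : derivedSeries K d = ⊥ := by
    have := map_derivedSeries_le_derivedSeries K.subtype d
    rw [hbot, le_bot_iff] at this
    exact (Subgroup.map_eq_bot_iff_of_injective _ (Subgroup.subtype_injective _)).mp this
  rw [h0, Subgroup.map_bot]

end Cfsg.Agent.S5896
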