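import Cfsg.Statements.S5902
import Mathlib
import Cfsg.Agent.S5901

set_option linter.style.haveILetI false

set_option autoImplicit false
open Cfsg

namespace Cfsg.Agent.S5902

/-- Let G be a finite group, X a subgroup whose own subgroup lattice is complemented, and suppose X lies in exactly one maximal subgroup M of G. Then every subgroup H of G not contained in the normal core of M has a complement in the subgroup lattice of G (some C with H ⊔ C = G and H ⊓ C = 1); in particular the subgroup lattice of G modulo the normal core of M is complemented. -/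
theorem result {G : Type*} [Group G] [Finite G] (X M : Subgroup G)
    (hK : ComplementedLattice (Subgroup X))
    (hM : IsCoatom M) (hXM : X ≤ M) (huniq : ∀ M' : Subgroup G, IsCoatom M' → X ≤ M' → M' = M) :
    (∀ H : Subgroup G, ¬ H ≤ M.normalCore → ∃ C : Subgroup G, H ⊔ C = ⊤ ∧ H ⊓ C = ⊥) ∧
    ComplementedLattice (Subgroup (G ⧸ M.normalCore)) := by
  have first : ∀ H : Subgroup G, ¬ H ≤ M.normalCore → ∃ C : Subgroup G, H ⊔ C = ⊤ ∧ H ⊓ C = ⊥ := by
    intro H hH
    obtain ⟨g, hg⟩ : ∃ g : G, ¬ H.map (MulAut.conj g).toMonoidHom ≤ M := by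
      by_contra h
      push Not at h
      exact hH fun x hx b => h b ⟨x, hx, rfl⟩
    have hint : ∀ Y : Subgroup G, ⊥ ≤ Y → Y ≤ X →
        ∃ C : Subgroup G, ⊥ ≤ C ∧ C ≤ X ∧ Y ⊔ C = X ∧ Y ⊓ C = ⊥ := by
      intro Y _ hY
      obtain ⟨C, hC⟩ := hK.exists_isCompl (Y.subgroupOf X)
      refine ⟨C.map X.subtype, bot_le, Subgroup.map_subtype_le _, ?_, ?_⟩
      · rw [← Subgroup.map_subgroupOf_eq_of_le hY, ← Subgroup.map_sup, hC.sup_eq_top,
          ← MonoidHom.range_eq_map, Subgroup.range_subtype]
      · rw [← Subgroup.map_subgroupOf_eq_of_le hY, ← Subgroup.map_inf _ _ _ X.subtype_injective,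
          hC.inf_eq_bot, Subgroup.map_bot]
    obtain ⟨C, hC1, hC2⟩ := Cfsg.Agent.S5901.result ⊥ X M bot_le (fun h => hM.1 (top_le_iff.1 (h ▸ hXM)))
      hint hM hXM huniq _ hg (inf_bot_eq _)
    set f := (MulAut.conj g).toMonoidHom with hf
    have hinj : Function.Injective f := (MulAut.conj g).injective
    have hsurj : Function.Surjective f := (MulAut.conj g).surjective
    refine ⟨C.comap f, ?_, ?_⟩
    · apply Subgroup.map_injective hinj
      rw [Subgroup.map_sup, Subgroup.map_comap_eq_self_of_surjective hsurj, hC1,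
        Subgroup.map_top_of_surjective f hsurj]
    · apply Subgroup.map_injective hinj
      rw [Subgroup.map_inf _ _ _ hinj, Subgroup.map_comap_eq_self_of_surjective hsurj, hC2,
        Subgroup.map_bot]
  refine ⟨first, ⟨fun Hb => ?_⟩⟩
  set π := QuotientGroup.mk' M.normalCore with hπ
  have hsurj : Function.Surjective π := QuotientGroup.mk'_surjective _
  by_cases hle : Hb.comap π ≤ M.normalCore
  · refine ⟨⊤, ?_⟩
    have : Hb = ⊥ := by
      rw [← Subgroup.map_comap_eq_self_of_surjective hsurj Hb, Subgroup.map_eq_bot_iff, hπ,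
        QuotientGroup.ker_mk']
      exact hle
    rw [this]
    exact isCompl_bot_top
  obtain ⟨C, hC1, hC2⟩ := first _ hle
  refine ⟨C.map π, IsCompl.of_eq ?_ ?_⟩
  · rw [eq_bot_iff]
    rintro y ⟨hy, c, hc, rfl⟩
    have : c ∈ Hb.comap π ⊓ C := Subgroup.mem_inf.2 ⟨hy, hc⟩
    rw [hC2, Subgroup.mem_bot] at this
    rw [this, map_one]
    exact one_mem _
  · rw [← Subgroup.map_comap_eq_self_of_surjective hsurj Hb, ← Subgroup.map_sup, hC1,
      Subgroup.map_top_of_surjective π hsurj]

end Cfsg.Agent.S5902
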