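import Cfsg.Statements.S5903
import Mathlib
import Cfsg.Agent.S5901

set_option linter.style.haveILetI false

set_option autoImplicit false
open Cfsg

namespace Cfsg.Agent.S5903

/-- Let G be a finite simple group, X a subgroup lying in exactly one maximal subgroup M of G, and N a subgroup of prime order with N ≤ X that is central in M. If the subgroup lattice of X/N is complemented, then the subgroup lattice of G is complemented. -/
theorem result {G : Type*} [Group G] [Finite G] [IsSimpleGroup G] (X M N : Subgroup G)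
    (hM : IsCoatom M) (hXM : X ≤ M) (huniq : ∀ M' : Subgroup G, IsCoatom M' → X ≤ M' → M' = M)
    (hNX : N ≤ X) (hN : (Nat.card N).Prime) (hcen : ∀ n ∈ N, ∀ m ∈ M, m * n = n * m)
    [(N.subgroupOf X).Normal] (hK : ComplementedLattice (Subgroup (X ⧸ N.subgroupOf X))) :
    ComplementedLattice (Subgroup G) := by
  classical
  have hM' : IsCoatom M := hM
  have hN1 : N ≠ ⊥ := fun h => by rw [h, Subgroup.card_bot] at hN; exact Nat.not_prime_one hN
  -- a simple group with `N` below a maximal subgroup is not abelian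
  have hna : Subgroup.center G = ⊥ := by
    rcases (Subgroup.Normal.eq_bot_or_eq_top (inferInstance : (Subgroup.center G).Normal)) with h | h
    · exact h
    · exfalso
      have hnorm : N.Normal := ⟨fun x hx g => by
        have := Subgroup.mem_center_iff.1 (h.symm ▸ Subgroup.mem_top x : x ∈ Subgroup.center G) g
        rwa [this, mul_inv_cancel_right]⟩
      rcases hnorm.eq_bot_or_eq_top with h' | h'
      · exact hN1 h'
      · exact hM'.1 (top_le_iff.1 (h' ▸ hNX.trans hXM))
  have hint : ∀ Y : Subgroup G, N ≤ Y → Y ≤ X →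
      ∃ C : Subgroup G, N ≤ C ∧ C ≤ X ∧ Y ⊔ C = X ∧ Y ⊓ C = N := by
    intro Y hNY hYX
    set π := QuotientGroup.mk' (N.subgroupOf X) with hπ
    have hsurj : Function.Surjective π := QuotientGroup.mk'_surjective _
    have hker : π.ker = N.subgroupOf X := QuotientGroup.ker_mk' _
    obtain ⟨D, hD⟩ := hK.exists_isCompl ((Y.subgroupOf X).map π)
    have hY : ((Y.subgroupOf X).map π).comap π = Y.subgroupOf X := by
      rw [Subgroup.comap_map_eq, hker, sup_eq_left]
      exact fun x hx => hNY hx
    refine ⟨(D.comap π).map X.subtype, ?_, Subgroup.map_subtype_le _, ?_, ?_⟩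
    · refine (Subgroup.map_subgroupOf_eq_of_le hNX).symm.le.trans (Subgroup.map_mono ?_)
      intro x hx
      have hx1 : π x = 1 := by
        rw [hπ, QuotientGroup.mk'_apply, QuotientGroup.eq_one_iff]
        exact hx
      rw [Subgroup.mem_comap, hx1]
      exact one_mem D
    · rw [← Subgroup.map_subgroupOf_eq_of_le hYX, ← Subgroup.map_sup, ← hY,
        Subgroup.comap_sup_eq π _ _ hsurj, hD.sup_eq_top, Subgroup.comap_top,
        ← MonoidHom.range_eq_map, Subgroup.range_subtype]
    · rw [← Subgroup.map_subgroupOf_eq_of_le hYX, ← Subgroup.map_inf _ _ _ X.subtype_injective,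
        ← hY, ← Subgroup.comap_inf, hD.inf_eq_bot, MonoidHom.comap_bot, hker,
        Subgroup.map_subgroupOf_eq_of_le hNX]
  refine ⟨fun H => ?_⟩
  suffices h : ∃ C, H ⊔ C = ⊤ ∧ H ⊓ C = ⊥ by
    obtain ⟨C, h1, h2⟩ := h
    exact ⟨C, IsCompl.of_eq h2 h1⟩
  by_cases hbot : H = ⊥
  · exact ⟨⊤, sup_top_eq H, by rw [hbot, bot_inf_eq]⟩
  by_cases htop : H = ⊤
  · exact ⟨⊥, by rw [htop, top_sup_eq], inf_bot_eq H⟩
  by_cases hcase : ∃ g : G, ¬ H.map (MulAut.conj g).toMonoidHom ≤ M ∧ ¬ N ≤ H.map (MulAut.conj g).toMonoidHom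
  · obtain ⟨g, hg, hgN⟩ := hcase
    have hdis : H.map (MulAut.conj g).toMonoidHom ⊓ N = ⊥ := by
      haveI := Fact.mk hN
      rcases Subgroup.eq_bot_or_eq_top_of_prime_card
        ((H.map (MulAut.conj g).toMonoidHom).subgroupOf N) with h | h
      · have := congrArg (Subgroup.map N.subtype) h
        rwa [Subgroup.map_bot, Subgroup.subgroupOf_map_subtype] at this
      · exact absurd (Subgroup.subgroupOf_eq_top.1 h) hgN
    obtain ⟨C, hC1, hC2⟩ := Cfsg.Agent.S5901.result N X M hNX
      (fun h => hM'.1 (top_le_iff.1 (h ▸ hXM))) hint hM' hXM huniq _ hg hdis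
    set f := (MulAut.conj g).toMonoidHom with hf
    have hinj : Function.Injective f := (MulAut.conj g).injective
    have hsurj : Function.Surjective f := (MulAut.conj g).surjective
    refine ⟨C.comap f, ?_, ?_⟩
    · apply Subgroup.map_injective hinj
      rw [Subgroup.map_sup, Subgroup.map_comap_eq_self_of_surjective hsurj, hC1,
        Subgroup.map_top_of_surjective f hsurj]
    · apply Subgroup.map_injective hinj
      rw [Subgroup.map_inf _ _ _ hinj, Subgroup.map_comap_eq_self_of_surjective hsurj, hC2,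
        Subgroup.map_bot]
  exfalso
  push Not at hcase
  -- every conjugate of `N` lies in `H` or centralises `H`
  let T : G → Set G := fun g => (fun x => g⁻¹ * x * g) '' (N : Set G)
  have hsplit : ∀ g, T g ⊆ H ∨ ∀ y ∈ T g, ∀ h ∈ H, y * h = h * y := by
    intro g
    by_cases hg : H.map (MulAut.conj g).toMonoidHom ≤ M
    · right
      rintro _ ⟨n, hn, rfl⟩ h hh
      have h1 : g * h * g⁻¹ ∈ M := hg ⟨h, hh, rfl⟩
      have h2 := hcen n hn _ h1
      calc g⁻¹ * n * g * h = g⁻¹ * (n * (g * h * g⁻¹)) * g := by group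
        _ = g⁻¹ * ((g * h * g⁻¹) * n) * g := by rw [h2]
        _ = h * (g⁻¹ * n * g) := by group
    · left
      rintro _ ⟨n, hn, rfl⟩
      obtain ⟨h, hh, hhn⟩ := hcase g hg hn
      have hhn' : g * h * g⁻¹ = n := hhn
      change g⁻¹ * n * g ∈ H
      rw [← hhn']
      simpa [mul_assoc] using hh
  let A : Subgroup G := Subgroup.closure (⋃ g ∈ {g | T g ⊆ H}, T g)
  let B : Subgroup G := Subgroup.closure (⋃ g ∈ {g | ¬ T g ⊆ H}, T g)
  have hAH : A ≤ H := (Subgroup.closure_le _).2 (Set.iUnion₂_subset fun g hg => hg)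
  have hBH : B ≤ Subgroup.centralizer (H : Set G) := by
    refine (Subgroup.closure_le _).2 (Set.iUnion₂_subset fun g hg y hy => ?_)
    exact Subgroup.mem_centralizer_iff.2 fun h hh => (((hsplit g).resolve_left hg) y hy h hh).symm
  have hABtop : A ⊔ B = ⊤ := by
    haveI := Subgroup.normalClosure_normal (s := (N : Set G))
    have hne' : Subgroup.normalClosure (N : Set G) ≠ ⊥ := fun h =>
      hN1 (le_bot_iff.1 (h ▸ Subgroup.subset_normalClosure : N ≤ ⊥))
    refine top_le_iff.1 ((Subgroup.Normal.eq_bot_or_eq_top this).resolve_left hne' ▸ ?_)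
    refine (Subgroup.closure_le _).2 fun y hy => ?_
    obtain ⟨n, hn, hconj⟩ := Group.mem_conjugatesOfSet_iff.1 hy
    obtain ⟨k, rfl⟩ := isConj_iff.1 hconj
    have hmem : k * n * k⁻¹ ∈ T k⁻¹ := ⟨n, hn, by simp⟩
    by_cases hk : T k⁻¹ ⊆ H
    · exact Subgroup.mem_sup_left (Subgroup.subset_closure (Set.mem_biUnion hk hmem))
    · exact Subgroup.mem_sup_right (Subgroup.subset_closure (Set.mem_biUnion hk hmem))
  have hAnorm : A.Normal := by
    rw [← Subgroup.normalizer_eq_top_iff, eq_top_iff, ← hABtop, sup_le_iff]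
    refine ⟨Subgroup.le_normalizer, fun b hb => ?_⟩
    rw [Subgroup.mem_normalizer_iff]
    intro a
    have hc : ∀ a ∈ A, b * a * b⁻¹ = a := fun a ha => by
      rw [← Subgroup.mem_centralizer_iff.1 (hBH hb) a (hAH ha), mul_inv_cancel_right]
    constructor
    · intro ha
      rwa [hc a ha]
    · intro ha
      have := hc _ ha
      rw [mul_left_inj, mul_right_inj] at this
      rwa [this] at ha
  rcases hAnorm.eq_bot_or_eq_top with h | h
  · rw [h, bot_sup_eq] at hABtop
    apply hbot
    rw [eq_bot_iff]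
    intro x hx
    rw [← hna, Subgroup.mem_center_iff]
    exact fun g => (Subgroup.mem_centralizer_iff.1 (hBH (hABtop.symm ▸ Subgroup.mem_top g)) x hx).symm
  · exact htop (top_le_iff.1 (h ▸ hAH))

end Cfsg.Agent.S5903
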