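import Cfsg.Statements.S5904
import Mathlib

set_option linter.style.haveILetI false

set_option autoImplicit false
open scoped Pointwise
open Cfsg

namespace Cfsg.Agent.S5904

open scoped Pointwise

/-- Let Ω be a finite set with more than two elements and O ⊆ Ω a subset with exactly as many elements as its complement. Then the setwise stabilizer of O in the symmetric group on Ω is not a maximal subgroup (it is properly contained in the stabilizer of the partition {O, Ω ∖ O}, which is proper). -/
theorem result {Ω : Type*} [Fintype Ω] [DecidableEq Ω] (hΩ : 2 < Fintype.card Ω)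
    (O : Set Ω) (hO : Nat.card O = Nat.card ↥Oᶜ) :
    ¬ IsCoatom (MulAction.stabilizer (Equiv.Perm Ω) O) := by
  classical
  intro hco
  have hcard : Nat.card O + Nat.card ↥Oᶜ = Fintype.card Ω := by
    rw [Nat.card_coe_set_eq, Nat.card_coe_set_eq, Set.ncard_add_ncard_compl, Nat.card_eq_fintype_card]
  let P : Subgroup (Equiv.Perm Ω) :=
    { carrier := {g | g • O = O ∨ g • O = Oᶜ}
      one_mem' := Or.inl (one_smul _ O)
      mul_mem' := by
        rintro g h hg (hh | hh) <;> simp only [Set.mem_setOf_eq, mul_smul, hh]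
        · exact hg
        · rcases hg with hg | hg
          · exact Or.inr (by rw [Set.smul_set_compl, hg])
          · exact Or.inl (by rw [Set.smul_set_compl, hg, compl_compl])
      inv_mem' := by
        rintro g (hg | hg) <;> simp only [Set.mem_setOf_eq, inv_smul_eq_iff]
        · exact Or.inl hg.symm
        · exact Or.inr (by rw [Set.smul_set_compl, hg, compl_compl]) }
  have hlt : MulAction.stabilizer (Equiv.Perm Ω) O < P := by
    refine lt_of_le_of_ne (fun g hg => Or.inl hg) fun heq => ?_
    let e : ↥O ≃ ↥Oᶜ := Finite.equivFinOfCardEq hO |>.trans (Finite.equivFin _).symm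
    let e' : {x // x ∈ O} ≃ {x // ¬ x ∈ O} := e
    let σ : Equiv.Perm Ω := (Equiv.sumCompl (· ∈ O)).symm.trans
      (((e'.sumCongr e'.symm).trans (Equiv.sumComm _ _)).trans (Equiv.sumCompl (· ∈ O)))
    have hσ : ∀ x, σ x ∈ O ↔ x ∉ O := by
      intro x
      by_cases hx : x ∈ O
      · simp only [σ, Equiv.trans_apply, Equiv.sumCompl_symm_apply_of_pos hx, Equiv.sumCongr_apply,
          Sum.map_inl, Equiv.sumComm_apply, Sum.swap_inl, Equiv.sumCompl_apply_inr, hx, not_true_eq_false,
          iff_false]
        exact (e' ⟨x, hx⟩).2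
      · simp only [σ, Equiv.trans_apply, Equiv.sumCompl_symm_apply_of_neg hx, Equiv.sumCongr_apply,
          Sum.map_inr, Equiv.sumComm_apply, Sum.swap_inr, Equiv.sumCompl_apply_inl, hx, not_false_eq_true,
          iff_true]
        exact (e'.symm ⟨x, hx⟩).2
    have hσO : σ • O = Oᶜ := by
      ext y
      constructor
      · rintro ⟨x, hx, rfl⟩ h
        exact (hσ x).1 h hx
      · intro hy
        refine ⟨σ.symm y, ?_, σ.apply_symm_apply y⟩
        by_contra h
        have := (hσ (σ.symm y)).2 h
        rw [σ.apply_symm_apply] at this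
        exact hy this
    have hmem : σ ∈ MulAction.stabilizer (Equiv.Perm Ω) O := heq ▸ (Or.inr hσO : σ ∈ P)
    rw [MulAction.mem_stabilizer_iff, hσO] at hmem
    obtain ⟨x⟩ : Nonempty Ω := Fintype.card_pos_iff.1 (by omega)
    exact absurd (Set.ext_iff.1 hmem x) (by simp)
  have htop : P = ⊤ := hco.2 P hlt
  obtain ⟨o, ho, o', ho', hoo⟩ : ∃ o ∈ O, ∃ o' ∈ O, o ≠ o' := by
    have : 1 < O.ncard := by rw [← Nat.card_coe_set_eq]; omega
    exact (Set.one_lt_ncard (Set.toFinite O)).1 this
  obtain ⟨c, hc⟩ : Oᶜ.Nonempty := Set.nonempty_of_ncard_ne_zero (by rw [← Nat.card_coe_set_eq]; omega)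
  have hmem : Equiv.swap o c ∈ P := htop ▸ Subgroup.mem_top _
  have h1 : c ∈ Equiv.swap o c • O := ⟨o, ho, by simp⟩
  have h2 : o' ∈ Equiv.swap o c • O :=
    ⟨o', ho', by simp [Equiv.swap_apply_of_ne_of_ne hoo.symm (fun h : o' = c => hc (h ▸ ho'))]⟩
  rcases hmem with h | h
  · exact hc (h ▸ h1)
  · exact (h ▸ h2 : o' ∈ Oᶜ) ho'

end Cfsg.Agent.S5904
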