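import Cfsg.Statements.S5908
import Cfsg.Agent.Lib.Classical.PSU32
-- import your own Cfsg.Agent.* helpers here

set_option autoImplicit false
open Cfsg

namespace Cfsg.Agent.S5908

/-- The subgroup lattice of PSU₃(2) (the solvable group of order 72, realised over the field with 4 elements) is not complemented: some subgroup H has no subgroup X with H ⊔ X = ⊤ and H ⊓ X = ⊥. -/
theorem result {F : Type*} [Field F] [Fintype F] (hF : Fintype.card F = 4) :
    ¬ ComplementedLattice (Subgroup (Cfsg.PSU 3 F 2)) := by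
  obtain ⟨hcard, -, N, hN, -, -, ⟨e⟩⟩ := CfsgLib.Classical.psu32_structure hF
  intro hc
  let f : Cfsg.PSU 3 F 2 →* QuaternionGroup 2 := e.toMonoidHom.comp (QuotientGroup.mk' N)
  have hf : Function.Surjective f := e.surjective.comp (QuotientGroup.mk'_surjective N)
  let Z : Subgroup (QuaternionGroup 2) := Subgroup.zpowers (QuaternionGroup.a 2)
  let H : Subgroup (Cfsg.PSU 3 F 2) := Z.comap f
  obtain ⟨X, hd, hs⟩ := hc.exists_isCompl H
  have hsq : ∀ q : QuaternionGroup 2, q * q = 1 → q = 1 ∨ q = QuaternionGroup.a 2 := by decide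
  have : Finite (Cfsg.PSU 3 F 2) := Nat.finite_of_card_ne_zero (by rw [hcard]; norm_num)
  have hX : X = ⊥ := by
    by_contra hne
    have hgt : Nat.card X ≠ 1 := fun h => hne (Subgroup.eq_bot_of_card_eq X h)
    obtain ⟨p, hp, hpX⟩ := Nat.exists_prime_and_dvd hgt
    have : Fact p.Prime := ⟨hp⟩
    obtain ⟨x, hx⟩ := exists_prime_orderOf_dvd_card' (G := X) p hpX
    have hp72 : p ∣ 72 := hcard ▸ hpX.trans (Subgroup.card_subgroup_dvd_card X)
    have hxp : (x : Cfsg.PSU 3 F 2) ^ p = 1 := by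
      rw [← hx, ← Subgroup.coe_pow, pow_orderOf_eq_one, OneMemClass.coe_one]
    have hxH : (x : Cfsg.PSU 3 F 2) ∈ H := by
      show f x ∈ Z
      have h1 : f x ^ p = 1 := by rw [← map_pow, hxp, map_one]
      by_cases hp2 : p = 2
      · subst hp2
        rw [pow_two] at h1
        rcases hsq _ h1 with h | h <;> rw [h]
        exacts [Z.one_mem, Subgroup.mem_zpowers _]
      · have h8 : orderOf (f x) ∣ 8 := by
          have := orderOf_dvd_natCard (f x)
          rwa [Nat.card_eq_fintype_card, QuaternionGroup.card] at this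
        have hp8 : Nat.Coprime p (2 ^ 3) :=
          Nat.Coprime.pow_right 3 ((Nat.coprime_primes hp Nat.prime_two).mpr hp2)
        have : f x = 1 := orderOf_eq_one_iff.mp
          (Nat.eq_one_of_dvd_coprimes hp8 (orderOf_dvd_of_pow_eq_one h1) h8)
        rw [this]
        exact Z.one_mem
    have h1 : (x : Cfsg.PSU 3 F 2) = 1 :=
      Subgroup.mem_bot.mp (hd.le_bot (Subgroup.mem_inf.mpr ⟨hxH, x.2⟩))
    have hx1 : x = 1 := Subtype.ext h1
    rw [hx1, orderOf_one] at hx
    exact hp.one_lt.ne hx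
  rw [hX, codisjoint_bot] at hs
  obtain ⟨y, hy⟩ := hf (QuaternionGroup.xa 0)
  have hmem : y ∈ H := hs ▸ Subgroup.mem_top y
  have hy' : QuaternionGroup.xa 0 ∈ Z := hy ▸ hmem
  obtain ⟨k, hk⟩ := Subgroup.mem_zpowers_iff.mp hy'
  have hz : ∀ k : ℤ, (QuaternionGroup.a 2 : QuaternionGroup 2) ^ k = 1 ∨
      (QuaternionGroup.a 2 : QuaternionGroup 2) ^ k = QuaternionGroup.a 2 := by
    intro k
    apply hsq
    rw [← zpow_add, ← two_mul, zpow_mul,
      show (QuaternionGroup.a 2 : QuaternionGroup 2) ^ (2 : ℤ) = 1 by decide, one_zpow]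
  rcases hz k with h | h <;> rw [hk] at h <;> exact absurd h (by decide)

end Cfsg.Agent.S5908
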