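import Cfsg.Statements.S5909
import Cfsg.Agent.Lib.SymMax.ImprimitiveSmall

set_option linter.style.haveILetI false

set_option autoImplicit false
open Cfsg

namespace Cfsg.Agent.S5909

/-- Let Ω be a finite set whose size is not 8, and f : Ω → Fin b a labelling with b ≥ 2 whose fibres all have the same size a ≥ 2 (a partition into b blocks of size a). Then the even permutations preserving the partition — the intersection of the imprimitive wreath product S_a ≀ S_b with the alternating group — form a maximal subgroup of the alternating group on Ω. -/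
theorem result {Ω : Type*} [Fintype Ω] [DecidableEq Ω] (h8 : Fintype.card Ω ≠ 8) (a b : ℕ) (ha : 2 ≤ a) (hb : 2 ≤ b)
    (f : Ω → Fin b) (hf : ∀ i : Fin b, Nat.card {x : Ω // f x = i} = a) :
    IsCoatom ((Subgroup.closure {g : Equiv.Perm Ω | ∀ x y : Ω, f x = f y ↔ f (g x) = f (g y)} ⊓ alternatingGroup Ω).subgroupOf (alternatingGroup Ω)) := by
  haveI : Nontrivial (Fin b) := Fin.nontrivial_iff_two_le.2 hb
  rw [CfsgLib.SymMax.Imprimitive.closure_eq]
  rcases le_or_gt 3 a with ha3 | ha3
  · exact CfsgLib.SymMax.ImprimitiveAlt.isCoatom_big ha (Or.inl ha3) hf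
  obtain rfl : a = 2 := by omega
  rcases lt_or_ge b 5 with hb5 | hb5
  · interval_cases b
    · exact CfsgLib.SymMax.ImprimitiveSmall.isCoatom_four hf
    · exact CfsgLib.SymMax.ImprimitiveSmall.isCoatom_six hf
    · exact absurd (CfsgLib.SymMax.ImprimitiveSmall.card_eq hf) (by simpa using h8)
  · exact CfsgLib.SymMax.ImprimitiveAlt.isCoatom_big ha (Or.inr (by simpa using hb5)) hf

end Cfsg.Agent.S5909
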