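import Cfsg.Statements.S5910
import Cfsg.Agent.Lib.SymMax.Imprimitive

set_option linter.style.haveILetI false

set_option autoImplicit false
open Cfsg

namespace Cfsg.Agent.S5910

abbrev V := (ZMod 2 × ZMod 2) × ZMod 2

def fin4 : Fin 4 ≃ ZMod 2 × ZMod 2 := (finProdFinEquiv (m := 2) (n := 2)).symm

def fin2 : Fin 2 ≃ ZMod 2 := Equiv.refl _

/-- The affine permutations of the space of dimension three over the field with two elements. -/
def affine : Subgroup (Equiv.Perm V) where
  carrier := {g | ∀ x y z, g (x + y + z) = g x + g y + g z}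
  mul_mem' := fun {g h} hg hh x y z => by
    simp only [Equiv.Perm.mul_apply]
    rw [hh, hg]
  one_mem' := fun _ _ _ => rfl
  inv_mem' := fun {g} hg x y z => by
    apply g.injective
    rw [hg]
    simp

def wit : Equiv.Perm V where
  toFun v := ((v.2, v.1.2), v.1.1)
  invFun v := ((v.2, v.1.2), v.1.1)
  left_inv _ := rfl
  right_inv _ := rfl

def bad : Equiv.Perm V :=
  Equiv.swap ((0, 0), 0) ((0, 0), 1) * Equiv.swap ((0, 0), 0) ((0, 1), 0)

lemma wit_mem : wit ∈ affine := fun _ _ _ => rfl

lemma bad_not : bad ∉ affine := by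
  intro h
  have := h ((0, 0), 0) ((1, 0), 0) ((1, 1), 0)
  revert this
  decide +kernel

lemma base_affine : ∀ π : Equiv.Perm (ZMod 2 × ZMod 2), ∀ x y z, π (x + y + z) = π x + π y + π z := by
  decide +kernel

lemma coord_affine : ∀ c : ZMod 2 × ZMod 2 → ZMod 2,
    (∏ x, Equiv.Perm.sign (Equiv.addRight (c x))) = 1 →
      ∀ x y z, c (x + y + z) = c x + c y + c z := by
  decide +kernel

lemma part_affine (σ : Equiv.Perm V) (h : ∀ p q : V, p.1 = q.1 ↔ (σ p).1 = (σ q).1)
    (hs : Equiv.Perm.sign σ = 1) : σ ∈ affine := by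
  have hinj : Function.Injective fun x => (σ (x, 0)).1 := fun x y e => (h (x, 0) (y, 0)).2 e
  let π : Equiv.Perm (ZMod 2 × ZMod 2) := Equiv.ofBijective _ hinj.bijective_of_finite
  have h1 : ∀ x t, (σ (x, t)).1 = π x := fun x t => (h (x, t) (x, 0)).1 rfl
  let c : ZMod 2 × ZMod 2 → ZMod 2 := fun x => (σ (x, 0)).2
  have h2 : ∀ x t, (σ (x, t)).2 = t + c x := by
    intro x t
    have hne : (σ (x, 1)).2 ≠ (σ (x, 0)).2 := by
      intro e
      have := σ.injective (Prod.ext ((h1 x 1).trans (h1 x 0).symm) e)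
      simp at this
    have key : ∀ u v : ZMod 2, u ≠ v → u = 1 + v := by decide
    rcases (show ∀ t : ZMod 2, t = 0 ∨ t = 1 from by decide) t with rfl | rfl
    · simp [c]
    · exact key _ _ hne
  have hσ : σ = Equiv.prodCongrLeft (fun _ : ZMod 2 => π) *
      Equiv.prodCongrRight (fun x => Equiv.addRight (c x)) := by
    ext ⟨x, t⟩ <;> simp [h1, h2]
  have hc : (∏ x, Equiv.Perm.sign (Equiv.addRight (c x))) = 1 := by
    rw [hσ, map_mul, Equiv.Perm.sign_prodCongrLeft, Equiv.Perm.sign_prodCongrRight] at hs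
    simpa [Finset.prod_const] using hs
  intro p q r
  apply Prod.ext
  · obtain ⟨p1, p2⟩ := p; obtain ⟨q1, q2⟩ := q; obtain ⟨r1, r2⟩ := r
    simp only [Prod.mk_add_mk, Prod.fst_add, h1]
    exact base_affine π _ _ _
  · obtain ⟨p1, p2⟩ := p; obtain ⟨q1, q2⟩ := q; obtain ⟨r1, r2⟩ := r
    simp only [Prod.mk_add_mk, Prod.snd_add, h2, coord_affine c hc]
    ring

/-- Let Ω be a set with 8 elements and f : Ω → Fin 4 a labelling whose four fibres all have size 2 (a partition of the 8 points into 4 pairs). Then the group of even permutations preserving this partition, (S₂ ≀ S₄) ∩ A₈, is not a maximal subgroup of the alternating group A₈ (it lies in a subgroup isomorphic to the affine group AGL₃(2)). -/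
theorem result {Ω : Type*} [Fintype Ω] [DecidableEq Ω] (h8 : Fintype.card Ω = 8)
    (f : Ω → Fin 4) (hf : ∀ i : Fin 4, Nat.card {x : Ω // f x = i} = 2) :
    ¬ IsCoatom ((Subgroup.closure {g : Equiv.Perm Ω | ∀ x y : Ω, f x = f y ↔ f (g x) = f (g y)} ⊓ alternatingGroup Ω).subgroupOf (alternatingGroup Ω)) := by
  rw [CfsgLib.SymMax.Imprimitive.closure_eq]
  obtain ⟨e, he⟩ := CfsgLib.SymMax.Imprimitive.exists_coord f hf
  intro hco
  set E : Ω ≃ V := e.trans (fin4.prodCongr fin2)
  have hE : ∀ x y, f x = f y ↔ (E x).1 = (E y).1 := by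
    intro x y
    simp [E, he]
  set c := E.permCongr
  set Q := (affine.comap E.permCongrHom.toMonoidHom).subgroupOf (alternatingGroup Ω) with hQ
  have hle : (CfsgLib.SymMax.Imprimitive.partStab f ⊓ alternatingGroup Ω).subgroupOf (alternatingGroup Ω) ≤ Q := by
    intro g hg
    obtain ⟨hgP, hgA⟩ := hg
    show c g.1 ∈ affine
    refine part_affine _ (fun p q => ?_) (by rw [Equiv.Perm.sign_permCongr]; exact g.2)
    have := hgP (E.symm p) (E.symm q)
    rw [hE, hE] at this
    simpa [c] using this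
  have hne : ¬ Q ≤ (CfsgLib.SymMax.Imprimitive.partStab f ⊓ alternatingGroup Ω).subgroupOf (alternatingGroup Ω) := by
    intro h
    have hs : c.symm wit ∈ alternatingGroup Ω := by
      rw [Equiv.Perm.mem_alternatingGroup, Equiv.permCongr_symm, Equiv.Perm.sign_permCongr]
      decide +kernel
    obtain ⟨hP, -⟩ := h (show (⟨c.symm wit, hs⟩ : alternatingGroup Ω) ∈ Q from by
      show c (c.symm wit) ∈ affine
      rw [Equiv.apply_symm_apply]
      exact wit_mem)
    have := (hP (E.symm ((0, 0), 0)) (E.symm ((0, 0), 1))).1 (by rw [hE]; simp)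
    rw [hE] at this
    simp [c] at this
    revert this
    decide +kernel
  have htop : Q ≠ ⊤ := by
    intro h
    have hs : c.symm bad ∈ alternatingGroup Ω := by
      rw [Equiv.Perm.mem_alternatingGroup, Equiv.permCongr_symm, Equiv.Perm.sign_permCongr]
      decide +kernel
    have : c (c.symm bad) ∈ affine := (h ▸ Subgroup.mem_top _ : (⟨c.symm bad, hs⟩ : alternatingGroup Ω) ∈ Q)
    rw [Equiv.apply_symm_apply] at this
    exact bad_not this
  exact htop (hco.2 Q (lt_of_le_not_ge hle hne))

end Cfsg.Agent.S5910
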