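import Cfsg.Statements.S5912
import Cfsg.Agent.Lib.SymMax.IndexSix

set_option linter.style.haveILetI false

set_option autoImplicit false
open Cfsg

namespace Cfsg.Agent.S5912

/-- The symmetric group on a 6-element set Ω has exactly two conjugacy classes of subgroups of index 6: there are two non-conjugate subgroups of index 6 (a point stabilizer and a transitive subgroup isomorphic to S₅), and every subgroup of index 6 is conjugate to one of them. -/
theorem result {Ω : Type*} [Fintype Ω] [DecidableEq Ω] (h6 : Fintype.card Ω = 6) :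
    ∃ H₁ H₂ : Subgroup (Equiv.Perm Ω), H₁.index = 6 ∧ H₂.index = 6 ∧
      (¬ ∃ g : Equiv.Perm Ω, Subgroup.map (MulAut.conj g).toMonoidHom H₁ = H₂) ∧
      ∀ H : Subgroup (Equiv.Perm Ω), H.index = 6 →
        ∃ g : Equiv.Perm Ω, Subgroup.map (MulAut.conj g).toMonoidHom H₁ = H ∨ Subgroup.map (MulAut.conj g).toMonoidHom H₂ = H := by
  obtain ⟨φ, hne, hall⟩ := CfsgLib.SymMax.IndexSix.classify h6
  obtain ⟨x⟩ : Nonempty Ω := Fintype.card_pos_iff.1 (by omega)
  refine ⟨MulAction.stabilizer (Equiv.Perm Ω) x,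
    (MulAction.stabilizer (Equiv.Perm Ω) x).comap φ.toMonoidHom, ?_, ?_, ?_, fun H hH => ?_⟩
  · rw [MulAction.index_stabilizer_of_transitive, Nat.card_eq_fintype_card, h6]
  · rw [CfsgLib.SymMax.IndexSix.index_comap, h6]
  · rintro ⟨g, hg⟩
    apply hne x (g x)
    rw [← hg]
    exact (MulAction.stabilizer_smul_eq_stabilizer_map_conj g x).symm
  · rcases hall H hH with ⟨a, rfl⟩ | ⟨z, rfl⟩
    · refine ⟨Equiv.swap x a, Or.inl ?_⟩
      have := MulAction.stabilizer_smul_eq_stabilizer_map_conj (Equiv.swap x a) x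
      rw [Equiv.Perm.smul_def, Equiv.swap_apply_left] at this
      exact this.symm
    · obtain ⟨g, hg⟩ := CfsgLib.SymMax.IndexSix.comap_conj φ x z
      exact ⟨g, Or.inr hg⟩

end Cfsg.Agent.S5912
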