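import Cfsg.Statements.S5913
import Mathlib

set_option linter.style.haveILetI false

set_option autoImplicit false
open Cfsg

namespace Cfsg.Agent.S5913

/-- Let S be a non-abelian simple group and n a natural number. Every normal subgroup N of the direct power S^n (functions Fin n → S) is a subproduct: there is a set T of coordinates such that N consists exactly of the elements whose coordinates outside T are trivial. In particular the minimal normal subgroups of S^n are its n factors. -/
theorem result {S : Type*} [Group S] [IsSimpleGroup S] (hS : ¬ IsMulCommutative S) (n : ℕ)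
    (N : Subgroup (Fin n → S)) [N.Normal] :
    ∃ T : Finset (Fin n), ∀ x : Fin n → S, x ∈ N ↔ ∀ i, i ∉ T → x i = 1 := by
  classical
  refine ⟨Finset.univ.filter (fun i => ∃ x ∈ N, x i ≠ 1), fun x => ⟨fun hx i hi => ?_, fun hx => ?_⟩⟩
  · by_contra h
    exact hi (Finset.mem_filter.2 ⟨Finset.mem_univ _, x, hx, h⟩)
  have key : ∀ i, (∃ y ∈ N, y i ≠ 1) → ∀ s : S, Pi.mulSingle i s ∈ N := by
    rintro i ⟨y, hy, hyi⟩
    let K : Subgroup S := N.comap (MonoidHom.mulSingle (fun _ : Fin n => S) i)
    haveI : K.Normal := inferInstance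
    rcases Subgroup.Normal.eq_bot_or_eq_top (inferInstance : K.Normal) with h | h
    · exfalso
      have hcen : Subgroup.center S = ⊥ :=
        ((inferInstance : (Subgroup.center S).Normal).eq_bot_or_eq_top).resolve_right fun h' =>
          hS ⟨⟨fun a b => (Subgroup.mem_center_iff.1 (h'.symm ▸ Subgroup.mem_top a) b).symm⟩⟩
      apply hyi
      rw [← Subgroup.mem_bot, ← hcen, Subgroup.mem_center_iff]
      intro s
      have hm : y * Pi.mulSingle i s * y⁻¹ * (Pi.mulSingle i s)⁻¹ ∈ N := by
        have h1 := mul_mem hy ((inferInstance : N.Normal).conj_mem _ (inv_mem hy) (Pi.mulSingle i s))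
        simpa [mul_assoc] using h1
      have heq : y * Pi.mulSingle i s * y⁻¹ * (Pi.mulSingle i s)⁻¹ =
          MonoidHom.mulSingle (fun _ : Fin n => S) i (y i * s * (y i)⁻¹ * s⁻¹) := by
        funext j
        rcases eq_or_ne j i with rfl | hj
        · simp
        · simp [hj]
      rw [heq] at hm
      have hm' : y i * s * (y i)⁻¹ * s⁻¹ ∈ K := hm
      rw [h, Subgroup.mem_bot, mul_inv_eq_one, mul_inv_eq_iff_eq_mul] at hm'
      exact hm'.symm
    · exact fun s => (h.symm ▸ Subgroup.mem_top s : s ∈ K)
  refine Subgroup.pi_mem_of_mulSingle_mem x fun i => ?_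
  by_cases hi : ∃ y ∈ N, y i ≠ 1
  · exact key i hi _
  · rw [hx i (by simpa using hi), Pi.mulSingle_one]
    exact one_mem _

end Cfsg.Agent.S5913
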