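import Cfsg.Statements.S5914
import Cfsg.Agent.Lib.SymMax.CharSimple

set_option linter.style.haveILetI false

set_option autoImplicit false
open Cfsg

namespace Cfsg.Agent.S5914

/-- A non-trivial finite group G is characteristically simple (its only characteristic subgroups are 1 and G) if and only if G is isomorphic to a direct power S^n (n ≥ 1) of some simple group S (possibly cyclic of prime order). -/
theorem result {G : Type*} [Group G] [Finite G] [Nontrivial G] :
    (∀ H : Subgroup G, H.Characteristic → H = ⊥ ∨ H = ⊤) ↔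
    ∃ (S : Type) (_ : Group S) (_ : IsSimpleGroup S) (n : ℕ), 1 ≤ n ∧ Nonempty (G ≃* (Fin n → S)) := by
  refine ⟨CfsgLib.SymMax.CharSimple.exists_pow_type, ?_⟩
  rintro ⟨S, hS, hsimp, n, -, ⟨e⟩⟩ H hH
  haveI := hsimp
  have hH' : (H.map e.toMonoidHom).Characteristic := by
    refine ⟨fun φ => ?_⟩
    have h := hH.fixed ((e.trans φ).trans e.symm)
    ext y
    constructor
    · intro hy
      obtain ⟨x, hx, hxy⟩ := hy
      refine ⟨e.symm y, ?_, e.apply_symm_apply y⟩
      rw [← h]
      show e.symm (φ (e (e.symm y))) ∈ H
      rw [e.apply_symm_apply, ← show e x = φ y from hxy, e.symm_apply_apply]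
      exact hx
    · rintro ⟨x, hx, rfl⟩
      rw [← h] at hx
      exact ⟨_, hx, e.apply_symm_apply _⟩
  rcases CfsgLib.SymMax.CharSimple.charSimple_pi n _ hH' with h | h
  · exact Or.inl ((Subgroup.map_eq_bot_iff_of_injective _ e.injective).1 h)
  · refine Or.inr ((Subgroup.map_injective e.injective) (h.trans ?_))
    exact (Subgroup.map_top_of_surjective _ e.surjective).symm

end Cfsg.Agent.S5914
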