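import Cfsg.Statements.S5938
import Cfsg.Agent.Lib.Classical.Dickson.MaxExist


set_option autoImplicit false
open Cfsg

namespace Cfsg.Agent.S5938

open CfsgLib.Classical.Dickson Matrix


/-- Let p be a prime with p ≡ ±1 (mod 8) and F a field with p elements. Then PSL_2(F) has a maximal subgroup isomorphic to the symmetric group S_4. -/
theorem result {F : Type*} [Field F] [Fintype F] (p : ℕ) [Fact p.Prime] (hF : Fintype.card F = p) (hp : p % 8 = 1 ∨ p % 8 = 7) : ∃ H : Subgroup (Matrix.ProjectiveSpecialLinearGroup (Fin 2) F), IsCoatom H ∧ Nonempty (H ≃* Equiv.Perm (Fin 4)) := by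
  classical
  haveI : CharP F p := by
    obtain ⟨p', hp'⟩ := CharP.exists F
    haveI := Fact.mk (CharP.char_is_prime F p')
    obtain ⟨n, hp'', hn⟩ := FiniteField.card F p'
    rw [hF] at hn
    have : p' = p := ((Nat.prime_dvd_prime_iff_eq hp'' (Fact.out : p.Prime)).mp (hn ▸ dvd_pow_self p' n.ne_zero))
    exact this ▸ hp'
  have hodd : Fintype.card F % 2 = 1 := by omega
  obtain ⟨h2, Φ, -, -⟩ := prime_frame_of_odd p hodd
  exact exists_coatom_psl (g24_maxIn p Φ hodd (by have := (Fact.out : p.Prime).two_le; omega) hF (by omega)) Φ.g24_iso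

end Cfsg.Agent.S5938
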