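import Cfsg.Statements.S5941
import Cfsg.Agent.Lib.Classical.Dickson.MaxExist


set_option autoImplicit false
open Cfsg

namespace Cfsg.Agent.S5941

open CfsgLib.Classical.Dickson Matrix


/-- Let K and F be finite fields of odd characteristic with #F = (#K)². Then PSL_2(F) has a maximal subgroup isomorphic to PGL_2(K). -/
theorem result {F K : Type*} [Field F] [Fintype F] [Field K] [Fintype K] (q : ℕ) (hK : Fintype.card K = q) (hF : Fintype.card F = q ^ 2) (hq : Odd q) : ∃ H : Subgroup (Matrix.ProjectiveSpecialLinearGroup (Fin 2) F), IsCoatom H ∧ Nonempty (H ≃* Matrix.ProjGenLinGroup (Fin 2) K) := by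
  classical
  obtain ⟨p, hp'⟩ := CharP.exists F
  haveI := Fact.mk (CharP.char_is_prime F p)
  obtain ⟨A, hA⟩ := exists_subfield_of_card (F := F) (q := q)
    (hK ▸ Fintype.one_lt_card) hF two_ne_zero
  haveI := Fintype.ofFinite A
  have e : A ≃+* K := FiniteField.ringEquivOfCardEq (by rw [← Nat.card_eq_fintype_card, hA, hK])
  exact exists_coatom_psl (ratPGL_maxIn_two p (A := A) (by rw [hF]; exact Nat.odd_iff.mp hq.pow) (by rw [hA, hF]))
    (ratPGL_equiv A e)

end Cfsg.Agent.S5941
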