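import Cfsg.Statements.S5942
import Cfsg.Agent.Lib.Classical.Dickson.MaxExist


set_option autoImplicit false
open Cfsg

namespace Cfsg.Agent.S5942

open CfsgLib.Classical.Dickson Matrix


/-- Let K and F be finite fields of odd characteristic with #F = (#K)^r for an odd prime r. Then PSL_2(F) has a maximal subgroup isomorphic to PSL_2(K). -/
theorem result {F K : Type*} [Field F] [Fintype F] [Field K] [Fintype K] (q r : ℕ) (hK : Fintype.card K = q) (hF : Fintype.card F = q ^ r) (hq : Odd q) (hr : r.Prime) (hr2 : r ≠ 2) : ∃ H : Subgroup (Matrix.ProjectiveSpecialLinearGroup (Fin 2) F), IsCoatom H ∧ Nonempty (H ≃* Matrix.ProjectiveSpecialLinearGroup (Fin 2) K) := by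
  classical
  obtain ⟨p, hp'⟩ := CharP.exists F
  haveI := Fact.mk (CharP.char_is_prime F p)
  obtain ⟨A, hA⟩ := exists_subfield_of_card (F := F) (q := q)
    (hK ▸ Fintype.one_lt_card) hF hr.ne_zero
  haveI := Fintype.ofFinite A
  have e : A ≃+* K := FiniteField.ringEquivOfCardEq (by rw [← Nat.card_eq_fintype_card, hA, hK])
  exact exists_coatom_psl (ratPSL_maxIn_odd p (A := A) hr (hr.odd_of_ne_two hr2)
    (by rw [hF]; exact Nat.odd_iff.mp hq.pow) (by rw [hA, hF])) (ratPSL_equiv A e)

end Cfsg.Agent.S5942
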