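import Cfsg.Statements.S5943
import Cfsg.Agent.Lib.Classical.Dickson.MaxExist


set_option autoImplicit false
open Cfsg

namespace Cfsg.Agent.S5943

open CfsgLib.Classical.Dickson Matrix


/-- Let K and F be finite fields of characteristic 2 with #K = q > 2 and #F = q^r for a prime r. Then PSL_2(F) has a maximal subgroup isomorphic to PSL_2(K) (which equals PGL_2(K) in characteristic 2). -/
theorem result {F K : Type*} [Field F] [Fintype F] [Field K] [Fintype K] (q r : ℕ) (hK : Fintype.card K = q) (hF : Fintype.card F = q ^ r) (hq : Even q) (hq2 : q ≠ 2) (hr : r.Prime) : ∃ H : Subgroup (Matrix.ProjectiveSpecialLinearGroup (Fin 2) F), IsCoatom H ∧ Nonempty (H ≃* Matrix.ProjectiveSpecialLinearGroup (Fin 2) K) := by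
  classical
  obtain ⟨p, hp'⟩ := CharP.exists F
  haveI := Fact.mk (CharP.char_is_prime F p)
  obtain ⟨A, hA⟩ := exists_subfield_of_card (F := F) (q := q)
    (hK ▸ Fintype.one_lt_card) hF hr.ne_zero
  haveI := Fintype.ofFinite A
  have e : A ≃+* K := FiniteField.ringEquivOfCardEq (by rw [← Nat.card_eq_fintype_card, hA, hK])
  have hq4 : 4 ≤ q := by
    have : 1 < q := hK ▸ Fintype.one_lt_card
    obtain ⟨k, rfl⟩ := hq
    omega
  exact exists_coatom_psl (rat_maxIn_even p (A := A) hr (by rw [hA, hF]) (by rw [hA]; exact Nat.even_iff.mp hq)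
    (by rw [hA]; exact hq4)) (ratPSL_equiv A e)

end Cfsg.Agent.S5943
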