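import Cfsg.Statements.S5944
import Cfsg.Agent.Lib.SymMax.IndexN

set_option linter.style.haveILetI false

set_option autoImplicit false
open Cfsg

namespace Cfsg.Agent.S5944

/-- For n ≠ 4, every proper subgroup of the symmetric group S_n other than the alternating group A_n has index at least n. -/
theorem result (n : ℕ) (hn : n ≠ 4) (H : Subgroup (Equiv.Perm (Fin n))) (hH : H ≠ ⊤) (hA : H ≠ alternatingGroup (Fin n)) : n ≤ H.index := by
  have hidx : H.index ≠ 0 := Subgroup.index_ne_zero_of_finite
  by_contra hlt
  push Not at hlt
  have hA2 : ¬ alternatingGroup (Fin n) ≤ H := by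
    intro hle
    rcases le_or_gt n 1 with h1 | h1
    · omega
    haveI : Nontrivial (Fin n) := Fin.nontrivial_iff_two_le.2 h1
    have hd : H.index ∣ 2 := alternatingGroup.index_eq_two (α := Fin n) ▸ Subgroup.index_dvd_of_le hle
    rcases (Nat.dvd_prime Nat.prime_two).1 hd with h | h
    · exact hH (Subgroup.index_eq_one.1 h)
    · rcases hle.lt_or_eq with hl | he
      · have := Subgroup.index_strictAnti hl
        rw [h, alternatingGroup.index_eq_two] at this
        omega
      · exact hA he.symm
  rcases Nat.lt_or_ge H.index 3 with h3 | h3
  · exact hA2 (Equiv.Perm.alternatingGroup_le_of_index_le_two (by omega))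
  · rcases CfsgLib.SymMax.IndexN.alt_le_or_faithful (Ω := Fin n) (by simpa using by omega) H with h | h
    · exact hA2 h
    · have := Subgroup.card_dvd_of_injective _ ((MonoidHom.ker_eq_bot_iff _).1 h)
      rw [Nat.card_perm, Nat.card_perm, Nat.card_eq_fintype_card (α := Fin n), Fintype.card_fin] at this
      have h2 : H.index.factorial < n.factorial :=
        (Nat.factorial_lt (by omega)).2 hlt
      have := Nat.le_of_dvd (Nat.factorial_pos _) this
      change n.factorial ≤ (Subgroup.index H).factorial at this
      omega

end Cfsg.Agent.S5944
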