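import Cfsg.Statements.S5945
import Cfsg.Agent.Lib.SymMax.IndexSix

set_option linter.style.haveILetI false

set_option autoImplicit false
open Cfsg

namespace Cfsg.Agent.S5945

/-- The symmetric group S_6 has exactly 12 subgroups of index 6; each of them is isomorphic to S_5, and at least one of them is not the stabilizer of any point. -/
theorem result : Nat.card {H : Subgroup (Equiv.Perm (Fin 6)) // H.index = 6} = 12 ∧ (∀ H : Subgroup (Equiv.Perm (Fin 6)), H.index = 6 → Nonempty (H ≃* Equiv.Perm (Fin 5))) ∧ ∃ H : Subgroup (Equiv.Perm (Fin 6)), H.index = 6 ∧ ∀ a : Fin 6, H ≠ MulAction.stabilizer (Equiv.Perm (Fin 6)) a := by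
  obtain ⟨φ, hne, hall⟩ := CfsgLib.SymMax.IndexSix.classify (Ω := Fin 6) (Fintype.card_fin 6)
  let F : Fin 6 ⊕ Fin 6 → {H : Subgroup (Equiv.Perm (Fin 6)) // H.index = 6} := Sum.elim
    (fun a => ⟨MulAction.stabilizer (Equiv.Perm (Fin 6)) a, by
      rw [MulAction.index_stabilizer_of_transitive, Nat.card_eq_fintype_card, Fintype.card_fin]⟩)
    (fun z => ⟨(MulAction.stabilizer (Equiv.Perm (Fin 6)) z).comap φ.toMonoidHom, by
      rw [CfsgLib.SymMax.IndexSix.index_comap, Fintype.card_fin]⟩)
  have hF : Function.Bijective F := by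
    constructor
    · rintro (a | a) (b | b) h <;> simp only [F, Sum.elim_inl, Sum.elim_inr, Subtype.mk.injEq] at h
      · rw [CfsgLib.SymMax.IndexSix.stabilizer_injective (by simp) h]
      · exact absurd h.symm (hne b a)
      · exact absurd h (hne a b)
      · rw [CfsgLib.SymMax.IndexSix.stabilizer_injective (by simp)
          (Subgroup.comap_injective φ.surjective h)]
    · rintro ⟨H, hH⟩
      rcases hall H hH with ⟨a, rfl⟩ | ⟨z, rfl⟩
      · exact ⟨Sum.inl a, rfl⟩
      · exact ⟨Sum.inr z, rfl⟩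
  refine ⟨?_, fun H hH => ?_, ⟨_, CfsgLib.SymMax.IndexSix.index_comap φ 0, hne 0⟩⟩
  · rw [← Nat.card_congr (Equiv.ofBijective F hF), Nat.card_sum, Nat.card_eq_fintype_card,
      Fintype.card_fin]
  · have hstab : ∀ a : Fin 6, Nonempty (MulAction.stabilizer (Equiv.Perm (Fin 6)) a ≃* Equiv.Perm (Fin 5)) := by
      intro a
      obtain ⟨e⟩ := CfsgLib.SymMax.IndexSix.stabilizer_equiv a
      have hc : Fintype.card {x : Fin 6 // x ≠ a} = 5 := by simp [Fintype.card_subtype_compl]
      exact ⟨e.trans (Fintype.equivFinOfCardEq hc).permCongrHom⟩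
    rcases hall H hH with ⟨a, rfl⟩ | ⟨z, rfl⟩
    · exact hstab a
    · obtain ⟨e⟩ := hstab z
      refine ⟨((φ.subgroupMap _).trans (MulEquiv.subgroupCongr ?_)).trans e⟩
      exact Subgroup.map_comap_eq_self_of_surjective φ.surjective _

end Cfsg.Agent.S5945
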