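import Cfsg.Statements.S5946
import Mathlib

set_option linter.style.haveILetI false

set_option autoImplicit false
open Cfsg

namespace Cfsg.Agent.S5946

/-- Let F ⊆ K be finite fields with [K : F] = n ≥ 2 and regard K as an n-dimensional F-vector space. The Singer group M ≤ GL_F(K) of multiplications by the non-zero elements of K is self-centralizing: every F-linear automorphism of K commuting with all of M lies in M. -/
theorem result {F K : Type*} [Field F] [Fintype F] [Field K] [Fintype K] [Algebra F K] (n : ℕ) (hn : 2 ≤ n) (hdim : Module.finrank F K = n) :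
    Subgroup.centralizer (((Units.map ((Algebra.lmul F K : K →ₐ[F] Module.End F K) : K →* Module.End F K)).range : Subgroup (Module.End F K)ˣ) : Set (Module.End F K)ˣ) = (Units.map ((Algebra.lmul F K : K →ₐ[F] Module.End F K) : K →* Module.End F K)).range := by
  haveI : Nontrivial K := inferInstance
  ext T
  constructor
  · intro hT
    have hcomm : ∀ v w : K, (T : Module.End F K) (v * w) = v * (T : Module.End F K) w := by
      intro v w
      by_cases hv : v = 0
      · simp [hv]
      have h := hT _ ⟨Units.mk0 v hv, rfl⟩
      have h' := LinearMap.congr_fun (congrArg Units.val h) w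
      simpa using h'.symm
    have h1 : (T : Module.End F K) 1 ≠ 0 := by
      intro h
      have h2 : (((T⁻¹ * T : (Module.End F K)ˣ)) : Module.End F K) 1 = 1 := by rw [inv_mul_cancel]; rfl
      rw [Units.val_mul, Module.End.mul_apply, h, map_zero] at h2
      exact zero_ne_one h2
    refine ⟨Units.mk0 _ h1, Units.ext (LinearMap.ext fun v => ?_)⟩
    have := hcomm v 1
    rw [mul_one] at this
    rw [this, mul_comm]
    rfl
  · rintro ⟨u, rfl⟩ S ⟨w, rfl⟩
    rw [← map_mul, ← map_mul, mul_comm]

end Cfsg.Agent.S5946
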