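import Cfsg.Statements.S5947
import Cfsg.Agent.NumberTheory.PrimitivePart
-- import your own Cfsg.Agent.* helpers here

set_option autoImplicit false
set_option linter.style.haveILetI false
open Cfsg

namespace Cfsg.Agent.S5947


open Polynomial

/-- A prime power next to a power of two is a prime. -/
theorem prime_of_add_one_two_pow {p k a : ℕ} (hp : p.Prime) (hk : 0 < k)
    (h : p ^ k + 1 = 2 ^ a) : k = 1 := by
  have hp2 := hp.two_le
  have hpk : 2 ≤ p ^ k := hp2.trans (Nat.le_self_pow hk.ne' p)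
  have ha : 2 ≤ a := by
    by_contra hc
    interval_cases a <;> omega
  have hpodd : Odd p := by
    refine hp.odd_of_ne_two fun h2 => ?_
    subst h2
    have : 2 ∣ 2 ^ k := dvd_pow_self 2 hk.ne'
    have : 2 ∣ 2 ^ a := dvd_pow_self 2 (by omega)
    omega
  obtain ⟨a', rfl⟩ : ∃ b, a = b + 2 := ⟨a - 2, by omega⟩
  rcases Nat.even_or_odd k with ⟨j, rfl⟩ | hodd
  · obtain ⟨b, hb⟩ := hpodd.pow (n := j)
    rw [← two_mul, mul_comm, pow_mul, hb] at h
    have h4 : (2 * b + 1) ^ 2 = 4 * (b * b + b) + 1 := by ring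
    rw [h4, pow_add] at h
    omega
  · obtain ⟨S, hS⟩ : ∃ S : ℤ, S = ∑ i ∈ Finset.range k, (-(p : ℤ)) ^ i := ⟨_, rfl⟩
    have hmul : S * ((p : ℤ) + 1) = 2 ^ (a' + 2) := by
      have := geom_sum_mul (-(p : ℤ)) k
      rw [← hS, hodd.neg_pow] at this
      have h' : ((p : ℤ) ^ k + 1) = 2 ^ (a' + 2) := by exact_mod_cast h
      linear_combination -this + h'
    have hS2 : (S : ZMod 2) = 1 := by
      have hp1 : (p : ZMod 2) = 1 := by
        rw [ZMod.natCast_eq_one_iff_odd]; exact hpodd
      have hk1 : (k : ZMod 2) = 1 := by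
        rw [ZMod.natCast_eq_one_iff_odd]; exact hodd
      rw [hS, Int.cast_sum]
      simp [hp1, hk1]
    have hdvd : S.natAbs ∣ 2 ^ (a' + 2) := by
      have := congrArg Int.natAbs hmul
      rw [Int.natAbs_mul, Int.natAbs_pow] at this
      exact Dvd.intro _ this
    obtain ⟨i, -, hi⟩ := (Nat.dvd_prime_pow Nat.prime_two).mp hdvd
    have hi0 : i = 0 := by
      by_contra hne
      have h2 : (2 : ℤ) ∣ S := Int.natAbs_dvd_natAbs.mp (by rw [hi]; exact dvd_pow_self 2 hne)
      have := (ZMod.intCast_zmod_eq_zero_iff_dvd S 2).mpr (by exact_mod_cast h2)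
      rw [hS2] at this
      exact one_ne_zero this
    rw [hi0, pow_zero] at hi
    rcases Int.natAbs_eq S with e | e <;> rw [hi] at e <;> push_cast at e <;> rw [e] at hmul
    · have h' : ((p : ℤ) ^ k + 1) = 2 ^ (a' + 2) := by exact_mod_cast h
      have hpp : p ^ k = p ^ 1 := by
        rw [pow_one]
        have : (p : ℤ) ^ k = p := by linarith
        exact_mod_cast this
      exact Nat.pow_right_injective hp2 hpp
    · have : (0 : ℤ) < 2 ^ (a' + 2) := by positivity
      omega

/-- An endomorphism of prime order has an irreducible factor whose root has that order. -/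
theorem exists_factor' {F V : Type*} [Field F] [Fintype F] [AddCommGroup V] [Module F V] [Finite V]
    (X0 : Module.End F V) {s : ℕ} (hs : s.Prime) (hsF : (s : F) ≠ 0) (hX : X0 ^ s = 1) (hX1 : X0 ≠ 1) :
    ∃ h : F[X], Irreducible h ∧ h ∣ minpoly F X0 ∧ s ∣ Fintype.card F ^ h.natDegree - 1 := by
  classical
  haveI : Fact s.Prime := ⟨hs⟩
  have hint : IsIntegral F X0 := Algebra.IsIntegral.isIntegral X0
  set Φ : F[X] := ∑ i ∈ Finset.range s, X ^ i with hΦ
  have hΦX : Φ * (X - 1) = X ^ s - 1 := geom_sum_mul X s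
  set g := gcd (minpoly F X0) Φ with hg
  have hgu : ¬ IsUnit g := by
    intro hu
    obtain ⟨a, b, hab⟩ := (gcd_isUnit_iff _ _).mp hu
    apply hX1
    have h1 : aeval X0 b * aeval X0 Φ = 1 := by
      have := congrArg (aeval X0) hab
      rwa [map_add, map_mul, map_mul, minpoly.aeval, mul_zero, zero_add, map_one] at this
    have h2 : aeval X0 Φ * (X0 - 1) = 0 := by
      have := congrArg (aeval X0) hΦX
      rwa [map_mul, map_sub, map_sub, aeval_X, map_one, aeval_X_pow, hX, sub_self] at this
    calc X0 = 1 + 1 * (X0 - 1) := by rw [one_mul, add_sub_cancel]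
      _ = 1 + aeval X0 b * (aeval X0 Φ * (X0 - 1)) := by rw [← mul_assoc, h1]
      _ = 1 := by rw [h2, mul_zero, add_zero]
  have hg0 : g ≠ 0 := fun e => minpoly.ne_zero hint ((gcd_eq_zero_iff _ _).mp e).1
  obtain ⟨h, hh, hhg⟩ := WfDvdMonoid.exists_irreducible_factor hgu hg0
  haveI := Fact.mk hh
  refine ⟨h, hh, hhg.trans (gcd_dvd_left _ _), ?_⟩
  set τ := AdjoinRoot.root h with hτ
  have hτΦ : aeval τ Φ = 0 := by
    rw [hτ, AdjoinRoot.aeval_eq, AdjoinRoot.mk_eq_zero]
    exact hhg.trans (gcd_dvd_right _ _)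
  have hτs : τ ^ s = 1 := by
    have := congrArg (aeval τ) hΦX
    rw [map_mul, hτΦ, zero_mul, map_sub, map_one, aeval_X_pow] at this
    exact sub_eq_zero.mp this.symm
  have hτ1 : τ ≠ 1 := by
    intro e
    rw [e, hΦ, map_sum] at hτΦ
    simp only [aeval_X_pow, one_pow, Finset.sum_const, Finset.card_range, nsmul_one] at hτΦ
    exact hsF ((algebraMap F (AdjoinRoot h)).injective (by rw [map_natCast, map_zero]; exact hτΦ))
  have hord : orderOf τ = s := orderOf_eq_prime hτs hτ1
  haveI : FiniteDimensional F (AdjoinRoot h) := (AdjoinRoot.powerBasis hh.ne_zero).finite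
  haveI : Finite (AdjoinRoot h) := Module.finite_of_finite F
  haveI : Fintype (AdjoinRoot h) := Fintype.ofFinite _
  have hcard : Fintype.card (AdjoinRoot h) = Fintype.card F ^ h.natDegree := by
    rw [Module.card_eq_pow_finrank (K := F), (AdjoinRoot.powerBasis hh.ne_zero).finrank,
      AdjoinRoot.powerBasis_dim]
  rw [← hord, ← hcard]
  exact orderOf_dvd_of_pow_eq_one (FiniteField.pow_card_sub_one_eq_one τ
    (fun e => by rw [e, zero_pow hs.ne_zero] at hτs; exact zero_ne_one hτs))

/-- Let F ⊆ K be finite fields with |F| = q and [K : F] = n ≥ 2, regard K as an n-dimensional F-vector space, and let M ≤ GL_F(K) be the Singer group of multiplications by non-zero elements of K (cyclic of order q^n − 1). Assume (n, q) ≠ (6, 2), and that it is not the case that n = 2 with q a prime such that q + 1 is a power of 2. Then every abelian subgroup of GL_F(K) of order q^n − 1 is conjugate to M. -/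
theorem result {F K : Type*} [Field F] [Fintype F] [Field K] [Fintype K] [Algebra F K] (n : ℕ) (hn : 2 ≤ n) (hdim : Module.finrank F K = n)
    (hex1 : ¬ (n = 6 ∧ Fintype.card F = 2))
    (hex2 : ¬ (n = 2 ∧ (Fintype.card F).Prime ∧ ∃ a : ℕ, Fintype.card F + 1 = 2 ^ a))
    (U : Subgroup (Module.End F K)ˣ) (hU : IsMulCommutative U) (hcard : Nat.card U = Fintype.card K - 1) :
    ∃ g : (Module.End F K)ˣ, U.map (MulAut.conj g).toMonoidHom = (Units.map ((Algebra.lmul F K : K →ₐ[F] Module.End F K) : K →* Module.End F K)).range := by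
  classical
  obtain ⟨p, hp⟩ := CharP.exists F
  have := hp
  obtain ⟨k, hpp, hpk⟩ := FiniteField.card F p
  have hq2 : 2 ≤ Fintype.card F := Fintype.one_lt_card
  obtain ⟨r, hr, hrd, hprim⟩ := CfsgLib.NT.exists_primitive_prime (n := n) hq2 hn
    (fun h => hex1 ⟨h.2, h.1⟩) (fun ⟨h2, a, ha⟩ => hex2 ⟨h2, by
      have : (k : ℕ) = 1 := prime_of_add_one_two_pow hpp k.2 (hpk ▸ ha)
      rw [hpk, this, pow_one]; exact hpp, a, ha⟩)
  have := Fact.mk hr
  have hKcard : Fintype.card K = Fintype.card F ^ n := by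
    rw [Module.card_eq_pow_finrank (K := F), hdim]
  have hrF : (r : F) ≠ 0 := by
    intro h
    have hd : p ∣ r := (CharP.cast_eq_zero_iff F p r).mp h
    have hrp : p = r := (Nat.prime_dvd_prime_iff_eq hpp hr).mp hd
    refine CfsgLib.NT.primitive_not_dvd_base hq2 (by omega) hr hrd ?_
    rw [hpk, hrp]
    exact dvd_pow_self r k.ne_zero
  have : Finite U := Nat.finite_of_card_ne_zero (by
    rw [hcard, hKcard]
    have := Nat.one_lt_pow (show n ≠ 0 by omega) (show 1 < Fintype.card F by omega)
    omega)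
  obtain ⟨u, hu⟩ := exists_prime_orderOf_dvd_card' (G := U) r (by rw [hcard, hKcard]; exact hrd)
  let X0 : Module.End F K := ((u : (Module.End F K)ˣ) : Module.End F K)
  have hX : X0 ^ r = 1 := by
    show ((u : (Module.End F K)ˣ) : Module.End F K) ^ r = 1
    rw [← Units.val_pow_eq_pow_val, ← Subgroup.coe_pow, ← hu, pow_orderOf_eq_one]
    rfl
  have hX1 : X0 ≠ 1 := by
    intro h
    have : u = 1 := Subtype.ext (Units.ext h)
    rw [this, orderOf_one] at hu
    exact hr.one_lt.ne hu
  obtain ⟨h, hh, hhd, hsd⟩ := exists_factor' X0 hr hrF hX hX1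
  have := Fact.mk hh
  have hint : IsIntegral F X0 := Algebra.IsIntegral.isIntegral X0
  have hmin : (minpoly F X0).natDegree ≤ n := hdim ▸
    (natDegree_le_of_dvd (LinearMap.minpoly_dvd_charpoly X0) X0.charpoly_monic.ne_zero).trans
      X0.charpoly_natDegree.le
  have hdeg : n ≤ h.natDegree := by
    by_contra hlt
    exact hprim _ hh.natDegree_pos (by omega) hsd
  have hhn : h.natDegree = n :=
    le_antisymm ((natDegree_le_of_dvd hhd (minpoly.ne_zero hint)).trans hmin) hdeg
  have hhX : aeval X0 h = 0 := by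
    obtain ⟨c, hc⟩ := (associated_of_dvd_of_natDegree_le hhd (minpoly.ne_zero hint)
      (hmin.trans hdeg)).symm.dvd
    rw [hc, map_mul, minpoly.aeval, zero_mul]
  haveI : FiniteDimensional F (AdjoinRoot h) := (AdjoinRoot.powerBasis hh.ne_zero).finite
  haveI : Finite (AdjoinRoot h) := Module.finite_of_finite F
  haveI : Fintype (AdjoinRoot h) := Fintype.ofFinite _
  have hLdim : Module.finrank F (AdjoinRoot h) = n := by
    rw [(AdjoinRoot.powerBasis hh.ne_zero).finrank, AdjoinRoot.powerBasis_dim, hhn]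
  let φ : AdjoinRoot h →+* Module.End F K :=
    Ideal.Quotient.lift (Ideal.span {h}) (aeval X0 : F[X] →ₐ[F] _).toRingHom (fun P hP => by
      obtain ⟨c, rfl⟩ := Ideal.mem_span_singleton'.mp hP
      show aeval X0 (c * h) = 0
      rw [map_mul, hhX, mul_zero])
  have hφalg : ∀ (c : F) (x : AdjoinRoot h), φ (c • x) = c • φ x := by
    intro c x
    obtain ⟨P, rfl⟩ := AdjoinRoot.mk_surjective x
    rw [AdjoinRoot.smul_mk]
    exact map_smul (aeval X0) c P
  let ev : AdjoinRoot h →ₗ[F] K :=
    { toFun := fun x => φ x 1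
      map_add' := fun a b => by rw [map_add]; rfl
      map_smul' := fun c a => by rw [hφalg]; rfl }
  have hinj : Function.Injective ev := by
    rw [injective_iff_map_eq_zero]
    intro x hx
    by_contra hne
    apply one_ne_zero (α := K)
    have h1 : φ x⁻¹ (φ x 1) = 1 := by
      show (φ x⁻¹ * φ x) 1 = 1
      rw [← map_mul, inv_mul_cancel₀ hne, map_one φ]
      rfl
    rw [← h1, show φ x 1 = 0 from hx, map_zero]
  have hLcard : Fintype.card (AdjoinRoot h) = Fintype.card K := by
    rw [hKcard, Module.card_eq_pow_finrank (K := F), hLdim]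
  have hsurj : Function.Surjective ev :=
    ((Fintype.bijective_iff_injective_and_card ev).mpr ⟨hinj, hLcard⟩).2
  -- the commutant
  have key : ∀ Y : Module.End F K, Commute X0 Y → ∃ x, φ x = Y := by
    intro Y hY
    obtain ⟨x, hx⟩ := hsurj (Y 1)
    refine ⟨x, LinearMap.ext fun v => ?_⟩
    obtain ⟨y, rfl⟩ := hsurj v
    obtain ⟨Q, rfl⟩ := AdjoinRoot.mk_surjective y
    have hcomm : Commute (aeval X0 Q) Y := by
      induction Q using Polynomial.induction_on' with
      | add a b ha hb => rw [map_add]; exact ha.add_left hb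
      | monomial m a =>
        rw [aeval_monomial]
        exact (Algebra.commute_algebraMap_left a Y).mul_left (hY.pow_left m)
    show (φ x * φ (AdjoinRoot.mk h Q)) 1 = (Y * aeval X0 Q) 1
    rw [← map_mul, mul_comm x, map_mul, ← hcomm.eq]
    show φ (AdjoinRoot.mk h Q) (φ x 1) = aeval X0 Q (Y 1)
    rw [show φ x 1 = Y 1 from hx]
    rfl
  -- the conjugating element
  obtain ⟨ε⟩ : Nonempty (K ≃ₐ[F] AdjoinRoot h) := by
    have h1 := FiniteField.isSplittingField_sub K F
    have h2 := FiniteField.isSplittingField_sub (AdjoinRoot h) F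
    rw [hLcard] at h2
    exact ⟨(IsSplittingField.algEquiv K (X ^ Fintype.card K - X : F[X])).trans
      (IsSplittingField.algEquiv (AdjoinRoot h) (X ^ Fintype.card K - X : F[X])).symm⟩
  let g : K ≃ₗ[F] K := ε.toLinearEquiv.trans (LinearEquiv.ofBijective ev ⟨hinj, hsurj⟩)
  let gu : (Module.End F K)ˣ := (LinearMap.GeneralLinearGroup.generalLinearEquiv F K).symm g
  have hgu : ∀ v, (gu : Module.End F K) v = g v := fun v => rfl
  have hg : ∀ a v : K, φ (ε a) (g v) = g (a * v) := by
    intro a v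
    show φ (ε a) (φ (ε v) 1) = φ (ε (a * v)) 1
    rw [map_mul, map_mul]
    rfl
  let W : Kˣ →* (Module.End F K)ˣ :=
    Units.map ((Algebra.lmul F K : K →ₐ[F] Module.End F K) : K →* Module.End F K)
  have hconj : ∀ (a : Kˣ), ∀ y : (Module.End F K)ˣ, (y : Module.End F K) = φ (ε a) →
      gu⁻¹ * y * gu = W a := by
    intro a y hy
    rw [mul_assoc, inv_mul_eq_iff_eq_mul]
    refine Units.ext (LinearMap.ext fun v => ?_)
    simp only [Units.val_mul, Module.End.mul_apply, hgu, hy, hg]
    rfl
  refine ⟨gu⁻¹, Subgroup.eq_of_le_of_card_ge ?_ ?_⟩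
  · rintro z ⟨y, hy, rfl⟩
    have hcom : Commute X0 (y : Module.End F K) :=
      congrArg Units.val (setLike_mul_comm u.2 hy)
    obtain ⟨x, hx⟩ := key _ hcom
    have hx0 : x ≠ 0 := by
      rintro rfl
      rw [map_zero] at hx
      exact y.ne_zero hx.symm
    refine ⟨Units.mk0 (ε.symm x) (fun e => hx0 (by simpa using congrArg ε e)), ?_⟩
    show W _ = gu⁻¹ * y * gu⁻¹⁻¹
    rw [inv_inv, hconj]
    simp [hx]
  · have hWi : Function.Injective W := fun a b hab => Units.ext (by
      have := congrArg (fun z : (Module.End F K)ˣ => (z : Module.End F K) 1) hab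
      simpa [W] using this)
    rw [Nat.card_congr (MonoidHom.ofInjective hWi).symm.toEquiv, Nat.card_units,
      Nat.card_eq_fintype_card, ← hcard]
    exact (Nat.card_congr (U.equivMapOfInjective _ (MulAut.conj gu⁻¹).injective).toEquiv).le

end Cfsg.Agent.S5947
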