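import Cfsg.Statements.S5950
import Cfsg.Agent.Lib.Derangements.LinearElusiveMain
import Cfsg.Agent.Lib.Derangements.LinearElusiveCount
import Cfsg.Agent.Lib.Derangements.JordanDecomp

set_option autoImplicit false
open scoped MatrixGroups
open Cfsg CfsgLib.Derangements CfsgLib.Derangements.LinElusive

namespace Cfsg.Agent.S5950

/-- Elements of prime order of PSL_n(q) fixing no decomposition `F^n = U ⊕ W` with `dim U = m`. Here `T = PSL_n(F)` for a field `F` with `q = p^f` elements (`n ≥ 2`, `(n, q) ≠ (2, 2), (2, 3)`); an element of `T` of prime order `r` is represented by a matrix `x` of determinant 1 with `x^r` scalar and `x` not scalar; `i` denotes the multiplicative order of `q` modulo `r` (when `r ≠ p`), and `(a)_r` the `r`-part of `a`. Let `n ≥ 3`, `1 ≤ m < n/2`, and let `r` be a prime dividing the number of such decompositions (unordered pairs `{U, W}` of complementary subspaces with `dim U = m`; since `m ≠ n − m` these are the ordered pairs with `dim U = m`). Then every element of `T` of order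 `r` fixes such a pair (fixes both `U` and `W` for some complementary `U, W` with `dim U = m`) if and only if one of: (i) `r = p > 2` and every partition of `n` into parts of size at most `p` contains, as a sub-multiset, a partition of `m`; (ii) `r = p = 2` and `n` is odd or `m` is even; (iii) `r ≠ p`, `i = 1`, and `r ∣ m` or `(q−1)_r ≥ (n)_r` (with `q ≡ 1 (mod 4)` required when `r = 2` and `n` is even); (iv) `r ≠ p`, `2 ≤ i ≤ m` and `n mod i ≥ m mod i`. -/
theorem result {F : Type*} [Field F] [Fintype F] {p : ℕ} [Fact p.Prime] [CharP F p] {q : ℕ} (hq : Fintype.card F = q)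
    (n m : ℕ) (hn : 3 ≤ n) (hm : 1 ≤ m) (hmn : 2 * m < n)
    (r : ℕ) [Fact r.Prime]
    (hrΩ : r ∣ Nat.card {P : Submodule F (Fin n → F) × Submodule F (Fin n → F) // IsCompl P.1 P.2 ∧ Module.finrank F ↥P.1 = m}) :
    (∀ x : Matrix.SpecialLinearGroup (Fin n) F,
      (∃ c : F, ((x ^ r : Matrix.SpecialLinearGroup (Fin n) F) : Matrix (Fin n) (Fin n) F) = c • (1 : Matrix (Fin n) (Fin n) F)) →
      (∀ c : F, (x : Matrix (Fin n) (Fin n) F) ≠ c • (1 : Matrix (Fin n) (Fin n) F)) →
      ∃ U W : Submodule F (Fin n → F), IsCompl U W ∧ Module.finrank F ↥U = m ∧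
        U.map (Matrix.toLin' (x : Matrix (Fin n) (Fin n) F)) ≤ U ∧ W.map (Matrix.toLin' (x : Matrix (Fin n) (Fin n) F)) ≤ W) ↔
    ((r = p ∧ 2 < p ∧ (∀ μ : Multiset ℕ, (∀ a ∈ μ, 0 < a ∧ a ≤ p) → μ.sum = n → ∃ ν : Multiset ℕ, ν ≤ μ ∧ ν.sum = m)) ∨
     (r = p ∧ p = 2 ∧ (Odd n ∨ Even m)) ∨
     (r ≠ p ∧
      ((orderOf (q : ZMod r) = 1 ∧ (r ∣ m ∨ (padicValNat r n ≤ padicValNat r (q - 1) ∧ (r = 2 → Even n → q % 4 = 1)))) ∨
       (2 ≤ orderOf (q : ZMod r) ∧ orderOf (q : ZMod r) ≤ m ∧ m % orderOf (q : ZMod r) ≤ n % orderOf (q : ZMod r))))) := by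
  classical
  subst hq
  have hrprime : r.Prime := Fact.out
  have hr_ne : r ≠ p → (r : F) ≠ 0 := fun hne h0 =>
    hne ((Nat.prime_dvd_prime_iff_eq (Fact.out : p.Prime) hrprime).1 ((CharP.cast_eq_zero_iff F p r).1 h0)).symm
  have hrq : r ≠ p → ¬ r ∣ Fintype.card F := fun hne hd => by
    obtain ⟨k, -, hk⟩ := FiniteField.card F p
    rw [hk] at hd
    exact hne ((Nat.prime_dvd_prime_iff_eq hrprime Fact.out).1 (hrprime.dvd_of_dvd_pow hd))
  refine (forall_sl_iff fun L => ∃ U W : Submodule F (Fin n → F), IsCompl U W ∧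
    Module.finrank F ↥U = m ∧ U.map L ≤ U ∧ W.map L ≤ W).trans ?_
  rcases eq_or_ne r p with rfl | hrp
  · -- unipotent elements
    have hiff : (∀ L : Module.End F (Fin n → F), LinearMap.det L = 1 → ∀ c : F,
        L ^ r = algebraMap F (Module.End F (Fin n → F)) c →
        (∀ z : F, L ≠ algebraMap F (Module.End F (Fin n → F)) z) →
        ∃ U W : Submodule F (Fin n → F), IsCompl U W ∧ Module.finrank F ↥U = m ∧ U.map L ≤ U ∧ W.map L ≤ W) ↔
        ∀ μ : Multiset ℕ, (∀ a ∈ μ, 0 < a ∧ a ≤ r) → μ.sum = n → ∃ ν : Multiset ℕ, ν ≤ μ ∧ ν.sum = m := by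
      constructor
      · intro h μ hμ hsum
        have hμ0 : (0 : ℕ) ∉ μ := fun h0 => lt_irrefl 0 (hμ 0 h0).1
        obtain ⟨N, hN, hone, hdet, hrk⟩ :=
          JordanRanks.exists_unipotent (F := F) (p := r) (by omega : 0 < n) (fun b hb => (hμ b hb).2) hsum
        by_cases hN0 : N = 0
        · refine ⟨Multiset.replicate m 1, Multiset.le_iff_count.2 fun b => ?_, by simp⟩
          have h1 : μ = Multiset.replicate n 1 := JordanRanks.rankSeq_injective hμ0 (by simp [Multiset.mem_replicate])
            fun k => by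
              rw [← hrk]
              rcases k with _ | k
              · rw [pow_zero, Module.End.one_eq_id, LinearMap.range_id, finrank_top, Module.finrank_fin_fun,
                  JordanRanks.rankSeq_zero]
                simp
              · rw [hN0, zero_pow (Nat.succ_ne_zero k), LinearMap.range_zero, finrank_bot]
                simp [JordanRanks.rankSeq]
          rw [h1, Multiset.count_replicate, Multiset.count_replicate]
          split_ifs <;> omega
        · obtain ⟨U, W, hc, hUm, hU, hW⟩ := h (1 + N) hdet 1 (by rw [hone, map_one]) fun z hz => hN0 (by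
            haveI : Nonempty (Fin n) := ⟨⟨0, by omega⟩⟩
            have h1 : N = algebraMap F (Module.End F (Fin n → F)) (z - 1) := by
              rw [map_sub, map_one, ← hz, add_sub_cancel_left]
            rw [h1, ← map_pow, map_eq_zero_iff _ (algebraMap F (Module.End F (Fin n → F))).injective] at hN
            rw [h1, pow_eq_zero_iff hrprime.ne_zero |>.1 hN, map_zero])
          have hinv : ∀ A : Submodule F (Fin n → F), A.map (1 + N) ≤ A → A.map N ≤ A := fun A hA => by
            rintro _ ⟨u, hu, rfl⟩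
            simpa using A.sub_mem (hA (Submodule.mem_map_of_mem hu)) hu
          obtain ⟨ν₁, h10, h1⟩ := JordanRanks.exists_blocks N hN U (hinv U hU)
          obtain ⟨ν₂, h20, h2⟩ := JordanRanks.exists_blocks N hN W (hinv W hW)
          have heq : ν₁ + ν₂ = μ := JordanRanks.rankSeq_injective (by simp [h10, h20]) hμ0 fun k => by
            rw [JordanRanks.rankSeq_add, h1, h2,
              ← JordanRanks.finrank_range_pow_eq_add N hc (hinv U hU) (hinv W hW), hrk]
          refine ⟨ν₁, heq ▸ le_self_add, ?_⟩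
          rw [← JordanRanks.rankSeq_zero, h1, pow_zero, Module.End.one_eq_id, Submodule.map_id, hUm]
      · intro h L _ c hc _
        haveI : Nonempty (Fin n) := ⟨⟨0, by omega⟩⟩
        haveI : CharP (Module.End F (Fin n → F)) r :=
          charP_of_injective_algebraMap (algebraMap F (Module.End F (Fin n → F))).injective r
        obtain ⟨d, hd⟩ : ∃ d, d ^ r = c := (bijective_frobenius F r).2 c
        have hN : (L - algebraMap F _ d) ^ r = 0 := by
          rw [sub_pow_char_of_commute r (Algebra.commutes d L).symm, hc, ← map_pow, hd, sub_self]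
        obtain ⟨μ, hμ, hsum, hsub⟩ := JordanRanks.exists_invariant_compl (L - algebraMap F _ d) hN
        obtain ⟨ν, hν, hνm⟩ := h μ hμ (by rw [hsum, Module.finrank_fin_fun])
        obtain ⟨U, W, hcompl, hUd, hU, hW⟩ := hsub ν hν
        have hinv : ∀ A : Submodule F (Fin n → F), A.map (L - algebraMap F _ d) ≤ A → A.map L ≤ A := fun A hA => by
          rintro _ ⟨u, hu, rfl⟩
          simpa using A.add_mem (hA (Submodule.mem_map_of_mem hu)) (A.smul_mem d hu)
        exact ⟨U, W, hcompl, hUd.trans hνm, hinv U hU, hinv W hW⟩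
    rw [hiff]
    constructor
    · intro h
      rcases hrprime.two_le.lt_or_eq with h2 | h2
      · exact Or.inl ⟨rfl, h2, h⟩
      · subst h2
        refine Or.inr (Or.inl ⟨rfl, rfl, ?_⟩)
        by_contra hcon
        simp only [not_or, Nat.not_odd_iff_even, Nat.not_even_iff_odd] at hcon
        obtain ⟨k, rfl⟩ := hcon.1
        obtain ⟨ν, hν, hνm⟩ := h (Multiset.replicate k 2) (fun a ha => by
          rw [Multiset.eq_of_mem_replicate ha]; omega) (by simp; ring)
        obtain ⟨j, hj⟩ := hcon.2
        have h3 : ν = Multiset.replicate ν.card 2 :=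
          Multiset.eq_replicate_card.2 fun a ha => Multiset.eq_of_mem_replicate (Multiset.mem_of_le hν ha)
        rw [h3, Multiset.sum_replicate, smul_eq_mul] at hνm
        omega
    · rintro (⟨-, -, h⟩ | ⟨-, h2, h⟩ | ⟨h, -⟩)
      · exact h
      · subst h2
        intro μ hμ hsum
        have h3 : μ = Multiset.replicate (μ.count 1) 1 + Multiset.replicate (μ.count 2) 2 := by
          ext b
          simp only [Multiset.count_add, Multiset.count_replicate]
          rcases eq_or_ne b 1 with rfl | h1
          · simp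
          rcases eq_or_ne b 2 with rfl | h2
          · simp
          rw [if_neg (Ne.symm h1), if_neg (Ne.symm h2)]
          exact Multiset.count_eq_zero.2 fun hb => by have := hμ b hb; omega
        rw [h3] at hsum ⊢
        simp only [Multiset.sum_add, Multiset.sum_replicate, smul_eq_mul] at hsum
        refine ⟨Multiset.replicate (m - 2 * min (μ.count 2) (m / 2)) 1 +
          Multiset.replicate (min (μ.count 2) (m / 2)) 2, ?_, by simp; omega⟩
        refine add_le_add ?_ ?_ <;> rw [Multiset.le_iff_count] <;> intro b <;>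
          rw [Multiset.count_replicate, Multiset.count_replicate] <;> split_ifs <;>
          rcases h with ⟨k, hk⟩ | ⟨k, hk⟩ <;> omega
      · exact absurd rfl h
  have hr := hr_ne hrp
  have hsmall : ¬ m ≤ n % orderOf (Fintype.card F : ZMod r) := fun h =>
    not_dvd_card_pairs (hrq hrp) (by rw [Module.finrank_fin_fun]; omega)
      (fun t ht => by rw [Module.finrank_fin_fun]; exact not_dvd_sub_of_le_mod h t ht) hrΩ
  constructor
  · intro h
    refine Or.inr (Or.inr ⟨hrp, ?_⟩)
    rcases eq_or_ne (orderOf (Fintype.card F : ZMod r)) 1 with h1 | h1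
    · refine Or.inl ⟨h1, or_iff_not_imp_left.2 fun hrm => by_contra fun hP => ?_⟩
      have hrn : r ∣ n := by
        by_contra hno
        refine hP ⟨by rw [padicValNat.eq_zero_of_not_dvd hno]; exact Nat.zero_le _, fun h2 he => ?_⟩
        exact absurd (h2 ▸ even_iff_two_dvd.1 he) hno
      obtain ⟨c, hc, hcd⟩ := (exists_kummer_scalar_iff hr (by omega) hrn (orderOf_card_eq_one_iff.1 h1)).2 hP
      obtain ⟨T, hT, hTd, hTs⟩ := exists_kummer_witness hr (by omega) hrn hc hcd
      obtain ⟨U, W, -, hUm, hU, -⟩ := h T hTd c hT hTs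
      exact hrm (hUm ▸ kummer_dvd hc hT hU)
    · have hi2 : 2 ≤ orderOf (Fintype.card F : ZMod r) := by
        have : 0 < orderOf (Fintype.card F : ZMod r) := Nat.pos_of_ne_zero fun h0 => by
          obtain ⟨E, -, -, hU, -⟩ := exists_structure hr (one_pow r : (1 : Module.End F (Fin n → F)) ^ r = 1)
          exact absurd h0 hU.pos.ne'
        omega
      have hin : orderOf (Fintype.card F : ZMod r) ≤ n := by
        by_contra hlt
        exact hsmall (by rw [Nat.mod_eq_of_lt (not_le.1 hlt)]; omega)
      obtain ⟨T, hT, hTd, hTs, hfix⟩ := exists_semisimple_witness hr hi2 hin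
      obtain ⟨U, W, -, hUm, hU, -⟩ := h T hTd 1 (by rw [hT, map_one]) hTs
      obtain ⟨h2, h3⟩ := mod_le_of_witness hr hT hfix hU (X := ⊥) (Inv.of_mem (by simp)) disjoint_bot_right hUm
        (Or.inl rfl) (by simp)
      rw [one_mul] at h2 h3
      exact Or.inr ⟨hi2, not_lt.1 fun hlt => hsmall (h3 hlt), h2⟩
  · rintro (⟨h, -⟩ | ⟨h, -⟩ | ⟨-, hcond⟩) L hdet c hc -
    · exact absurd h hrp
    · exact absurd h hrp
    rcases cases_of_pow_eq hr (by omega) hdet hc with ⟨d, hd, hpow⟩ | ⟨hnp, h1, hrn, hcd⟩
    · have hK : orderOf (Fintype.card F : ZMod r) ≤ m ∧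
          1 * (m % orderOf (Fintype.card F : ZMod r)) ≤ n % orderOf (Fintype.card F : ZMod r) := by
        rcases hcond with ⟨h1, -⟩ | ⟨-, h2, h3⟩
        · rw [h1]; simp only [Nat.mod_one]; omega
        · exact ⟨h2, by rwa [one_mul]⟩
      obtain ⟨U, -, hU, -, -, hUm, -⟩ := exists_two_of_structure hr hpow (Or.inl rfl) (by omega) hK.1 hK.2
      obtain ⟨W, hW, hcompl⟩ := split_of_pow hr one_ne_zero (by rw [hpow, map_one]) U hU
      exact ⟨U, W, hcompl, hUm, (inv_smul_iff (inv_ne_zero hd)).1 hU, (inv_smul_iff (inv_ne_zero hd)).1 hW⟩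
    · have hrm : r ∣ m := by
        rcases hcond with ⟨-, h2 | h2⟩ | ⟨h2, -⟩
        · exact h2
        · exact absurd h2 ((exists_kummer_scalar_iff hr (by omega) hrn h1).1 ⟨c, hnp, hcd⟩)
        · rw [orderOf_card_eq_one_iff.2 h1] at h2; omega
      obtain ⟨U, -, hU, -, -, hUm, -⟩ := exists_two_of_kummer hr hnp hc (Or.inl rfl) (by omega) hrm
      have hc0 : c ≠ 0 := fun h0 => hnp 0 (by rw [h0, zero_pow hrprime.ne_zero])
      obtain ⟨W, hW, hcompl⟩ := split_of_pow hr hc0 hc U hU
      exact ⟨U, W, hcompl, hUm, hU, hW⟩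

end Cfsg.Agent.S5950
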