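import Cfsg.Statements.S5951
import Cfsg.Agent.Lib.Derangements.LinearElusiveMain
import Cfsg.Agent.Lib.Derangements.LinearElusiveCount

set_option autoImplicit false
open scoped MatrixGroups
open Cfsg CfsgLib.Derangements.LinElusive

namespace Cfsg.Agent.S5951

/-- Elements of prime order of PSL_n(q) fixing no pair of subspaces `U < W` with `dim U = m`, `dim W = n − m`. Here `T = PSL_n(F)` for a field `F` with `q = p^f` elements (`n ≥ 2`, `(n, q) ≠ (2, 2), (2, 3)`); an element of `T` of prime order `r` is represented by a matrix `x` of determinant 1 with `x^r` scalar and `x` not scalar; `i` denotes the multiplicative order of `q` modulo `r` (when `r ≠ p`), and `(a)_r` the `r`-part of `a`. Let `1 ≤ m < n/2` and let `r` be a prime dividing the number of such pairs. Then every element of `T` of order `r` fixes such a pair (both `U` and `W`) if and only if `r ≠ p` and either (i) `i = 1` and (`r ∣ m`, or `(q−1)_r ≥ (n)_r` with `q ≡ 1 (mod 4)` required when `r = 2`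 and `n` is even), or (ii) `2 ≤ i ≤ m` and `n mod i ≥ 2 (m mod i)`. -/
theorem result {F : Type*} [Field F] [Fintype F] {p : ℕ} [Fact p.Prime] [CharP F p] {q : ℕ} (hq : Fintype.card F = q)
    (n m : ℕ) (hn : 2 ≤ n) (hT : (n, q) ≠ (2, 2) ∧ (n, q) ≠ (2, 3)) (hm : 1 ≤ m) (hmn : 2 * m < n)
    (r : ℕ) [Fact r.Prime]
    (hrΩ : r ∣ Nat.card {P : Submodule F (Fin n → F) × Submodule F (Fin n → F) //
        P.1 ≤ P.2 ∧ Module.finrank F ↥P.1 = m ∧ Module.finrank F ↥P.2 = n - m}) :
    (∀ x : Matrix.SpecialLinearGroup (Fin n) F,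
      (∃ c : F, ((x ^ r : Matrix.SpecialLinearGroup (Fin n) F) : Matrix (Fin n) (Fin n) F) = c • (1 : Matrix (Fin n) (Fin n) F)) →
      (∀ c : F, (x : Matrix (Fin n) (Fin n) F) ≠ c • (1 : Matrix (Fin n) (Fin n) F)) →
      ∃ U W : Submodule F (Fin n → F), U ≤ W ∧ Module.finrank F ↥U = m ∧ Module.finrank F ↥W = n - m ∧
        U.map (Matrix.toLin' (x : Matrix (Fin n) (Fin n) F)) ≤ U ∧ W.map (Matrix.toLin' (x : Matrix (Fin n) (Fin n) F)) ≤ W) ↔
    (r ≠ p ∧
      ((orderOf (q : ZMod r) = 1 ∧ (r ∣ m ∨ (padicValNat r n ≤ padicValNat r (q - 1) ∧ (r = 2 → Even n → q % 4 = 1)))) ∨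
       (2 ≤ orderOf (q : ZMod r) ∧ orderOf (q : ZMod r) ≤ m ∧ 2 * (m % orderOf (q : ZMod r)) ≤ n % orderOf (q : ZMod r)))) := by
  classical
  subst hq
  have hrprime : r.Prime := Fact.out
  have hr_ne : r ≠ p → (r : F) ≠ 0 := fun hne h0 =>
    hne ((Nat.prime_dvd_prime_iff_eq (Fact.out : p.Prime) hrprime).1 ((CharP.cast_eq_zero_iff F p r).1 h0)).symm
  have hrq : r ≠ p → ¬ r ∣ Fintype.card F := fun hne hd => by
    obtain ⟨k, -, hk⟩ := FiniteField.card F p
    rw [hk] at hd
    exact hne ((Nat.prime_dvd_prime_iff_eq hrprime Fact.out).1 (hrprime.dvd_of_dvd_pow hd))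
  refine (forall_sl_iff fun L => ∃ U W : Submodule F (Fin n → F), U ≤ W ∧ Module.finrank F ↥U = m ∧
    Module.finrank F ↥W = n - m ∧ U.map L ≤ U ∧ W.map L ≤ W).trans ?_
  have hrΩ' : r ∣ Nat.card {P : Submodule F (Fin n → F) × Submodule F (Fin n → F) // P.1 ≤ P.2 ∧
      Module.finrank F P.1 = m ∧ Module.finrank F P.2 = Module.finrank F (Fin n → F) - m} := by
    rw [Module.finrank_fin_fun]; exact hrΩ
  have hrp : r ≠ p := by
    rintro rfl
    exact not_dvd_card_flags_char (F := F) (p := r) (by rw [Module.finrank_fin_fun]; omega) hrΩ'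
  have hr := hr_ne hrp
  have hsmall : ¬ 2 * m ≤ n % orderOf (Fintype.card F : ZMod r) := fun h =>
    not_dvd_card_flags (hrq hrp) (by rw [Module.finrank_fin_fun]; omega)
      (fun t ht => by rw [Module.finrank_fin_fun]; exact not_dvd_sub_of_le_mod h t ht) hrΩ'
  have hfin : ∀ (L : Module.End F (Fin n → F)) (_ : Split L) (U X : Submodule F (Fin n → F)), Inv L U → Inv L X →
      Disjoint U X → Module.finrank F U = m → Module.finrank F X = m →
      ∃ U W : Submodule F (Fin n → F), U ≤ W ∧ Module.finrank F ↥U = m ∧ Module.finrank F ↥W = n - m ∧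
        U.map L ≤ U ∧ W.map L ≤ W := fun L hs U X hU hX hd hUm hXm => by
    obtain ⟨Y, hY, hc⟩ := hs (U ⊔ X) (hU.sup hX)
    refine ⟨U, U ⊔ Y, le_sup_left, hUm, ?_, hU, hU.sup hY⟩
    have h1 := Submodule.finrank_add_eq_of_isCompl hc
    rw [finrank_sup_of_disjoint hd, hUm, hXm, Module.finrank_fin_fun] at h1
    rw [finrank_sup_of_disjoint (hc.disjoint.mono_left le_sup_left), hUm]
    omega
  constructor
  · intro h
    refine ⟨hrp, ?_⟩
    rcases eq_or_ne (orderOf (Fintype.card F : ZMod r)) 1 with h1 | h1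
    · refine Or.inl ⟨h1, or_iff_not_imp_left.2 fun hrm => by_contra fun hP => ?_⟩
      have hrn : r ∣ n := by
        by_contra hno
        refine hP ⟨by rw [padicValNat.eq_zero_of_not_dvd hno]; exact Nat.zero_le _, fun h2 he => ?_⟩
        exact absurd (h2 ▸ even_iff_two_dvd.1 he) hno
      obtain ⟨c, hc, hcd⟩ := (exists_kummer_scalar_iff hr (by omega) hrn (orderOf_card_eq_one_iff.1 h1)).2 hP
      obtain ⟨T, hT, hTd, hTs⟩ := exists_kummer_witness hr (by omega) hrn hc hcd
      obtain ⟨U, W, -, hUm, -, hU, -⟩ := h T hTd c hT hTs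
      exact hrm (hUm ▸ kummer_dvd hc hT hU)
    · have hi2 : 2 ≤ orderOf (Fintype.card F : ZMod r) := by
        have : 0 < orderOf (Fintype.card F : ZMod r) := Nat.pos_of_ne_zero fun h0 => by
          obtain ⟨E, -, -, hU, -⟩ := exists_structure hr (one_pow r : (1 : Module.End F (Fin n → F)) ^ r = 1)
          exact absurd h0 hU.pos.ne'
        omega
      have hin : orderOf (Fintype.card F : ZMod r) ≤ n := by
        by_contra hlt
        exact hsmall (by rw [Nat.mod_eq_of_lt (not_le.1 hlt)]; omega)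
      obtain ⟨T, hT, hTd, hTs, hfix⟩ := exists_semisimple_witness hr hi2 hin
      obtain ⟨U, W, hUW, hUm, hWm, hU, hW⟩ := h T hTd 1 (by rw [hT, map_one]) hTs
      have hs : Split T := split_of_pow hr one_ne_zero (by rw [hT, map_one])
      obtain ⟨X, hX, hc⟩ := hs W hW
      have hXm := Submodule.finrank_add_eq_of_isCompl hc
      rw [hWm, Module.finrank_fin_fun] at hXm
      obtain ⟨h2, h3⟩ := mod_le_of_witness hr hT hfix hU hX (hc.disjoint.mono_left hUW) hUm
        (Or.inr rfl) (by omega)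
      exact Or.inr ⟨hi2, not_lt.1 fun hlt => hsmall (h3 hlt), h2⟩
  · rintro ⟨-, hcond⟩ L hdet c hc -
    rcases cases_of_pow_eq hr (by omega) hdet hc with ⟨d, hd, hpow⟩ | ⟨hnp, h1, hrn, hcd⟩
    · have hK : orderOf (Fintype.card F : ZMod r) ≤ m ∧
          2 * (m % orderOf (Fintype.card F : ZMod r)) ≤ n % orderOf (Fintype.card F : ZMod r) := by
        rcases hcond with ⟨h1, -⟩ | ⟨-, h2, h3⟩
        · rw [h1]; simp only [Nat.mod_one]; omega
        · exact ⟨h2, h3⟩
      obtain ⟨U, X, hU, hX, hdis, hUm, hXm⟩ := exists_two_of_structure hr hpow (Or.inr rfl) (by omega) hK.1 hK.2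
      obtain ⟨U', W', h1, h2, h3, h4, h5⟩ :=
        hfin _ (split_of_pow hr one_ne_zero (by rw [hpow, map_one])) U X hU hX hdis hUm (by omega)
      exact ⟨U', W', h1, h2, h3, (inv_smul_iff (inv_ne_zero hd)).1 h4, (inv_smul_iff (inv_ne_zero hd)).1 h5⟩
    · have hrm : r ∣ m := by
        rcases hcond with ⟨-, h2 | h2⟩ | ⟨h2, -⟩
        · exact h2
        · exact absurd h2 ((exists_kummer_scalar_iff hr (by omega) hrn h1).1 ⟨c, hnp, hcd⟩)
        · rw [orderOf_card_eq_one_iff.2 h1] at h2; omega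
      obtain ⟨U, X, hU, hX, hdis, hUm, hXm⟩ := exists_two_of_kummer hr hnp hc (Or.inr rfl) (by omega) hrm
      have hc0 : c ≠ 0 := fun h0 => hnp 0 (by rw [h0, zero_pow hrprime.ne_zero])
      exact hfin _ (split_of_pow hr hc0 hc) U X hU hX hdis hUm (by omega)

end Cfsg.Agent.S5951
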