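import Cfsg.Statements.S5952
-- import your own Cfsg.Agent.* helpers here

set_option autoImplicit false
open Cfsg

namespace Cfsg.Agent.S5952

/-- Which dimensions of invariant subspaces a semisimple linear map has. Let `V` be a finite-dimensional vector space over a field `F` and `f` an invertible semisimple linear map of `V`. Suppose `V` is the internal direct sum of the fixed space `C_V(f)` (the eigenspace for 1) and subspaces `U_1, …, U_s`, each `f`-invariant of dimension `a ≥ 1` on which `f` acts irreducibly (no `f`-invariant subspaces other than 0 and `U_j`). Let `0 < m < dim V` and `ℓ = m mod a`. Then `f` leaves some `m`-dimensional subspace invariant if and only if `dim C_V(f) ≥ m`, or `a ≤ m` and `dim C_V(f) ≥ ℓ`. -/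
theorem result {F V : Type*} [Field F] [AddCommGroup V] [Module F V]
    [FiniteDimensional F V] (f : V →ₗ[F] V) (hf : Function.Bijective f) (hss : Module.End.IsSemisimple f)
    {s a : ℕ} (ha : 1 ≤ a) (U : Fin s → Submodule F V)
    (hUinv : ∀ j, (U j).map f ≤ U j) (hUdim : ∀ j, Module.finrank F ↥(U j) = a)
    (hUirr : ∀ j, ∀ W : Submodule F V, W ≤ U j → W.map f ≤ W → W = ⊥ ∨ W = U j)
    (hdec : DirectSum.IsInternal (fun o : Option (Fin s) => o.elim (Module.End.eigenspace f 1) U))
    (m : ℕ) (hm : 0 < m) (hmV : m < Module.finrank F V) :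
    (∃ W : Submodule F V, Module.finrank F ↥W = m ∧ W.map f ≤ W) ↔
    (m ≤ Module.finrank F ↥(Module.End.eigenspace f 1) ∨
      (a ≤ m ∧ m % a ≤ Module.finrank F ↥(Module.End.eigenspace f 1))) := by
  classical
  set C : Submodule F V := Module.End.eigenspace f 1 with hC
  have hfix : ∀ x ∈ C, f x = x := fun x hx => by
    have := Module.End.mem_eigenspace_iff.1 hx
    rwa [one_smul] at this
  have hCinv : ∀ C' ≤ C, C'.map f ≤ C' := fun C' hle => by
    rintro _ ⟨x, hx, rfl⟩
    rw [hfix x (hle hx)]; exact hx
  have hTinv : ∀ C' ≤ C, ∀ S : Finset (Fin s), (C' ⊔ S.sup U).map f ≤ C' ⊔ S.sup U := by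
    intro C' hle S
    rw [Submodule.map_sup]
    refine sup_le_sup (hCinv C' hle) ?_
    induction S using Finset.induction with
    | empty => simp
    | insert j S hj ih => rw [Finset.sup_insert, Submodule.map_sup]; exact sup_le_sup (hUinv j) ih
  have hdis : ∀ j, ∀ S : Finset (Fin s), j ∉ S → Disjoint (C ⊔ S.sup U) (U j) := by
    intro j S hj
    have h := hdec.submodule_iSupIndep (some j)
    refine (h.mono_right ?_).symm
    refine sup_le ?_ (Finset.sup_le fun i hi => ?_)
    · exact le_iSup₂ (f := fun (o : Option (Fin s)) (_ : o ≠ some j) =>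
        o.elim (Module.End.eigenspace f 1) U) none (by simp)
    · exact le_iSup₂ (f := fun (o : Option (Fin s)) (_ : o ≠ some j) =>
        o.elim (Module.End.eigenspace f 1) U) (some i) (by rintro ⟨⟩; exact hj hi)
  have hdim : ∀ C' ≤ C, ∀ S : Finset (Fin s),
      Module.finrank F ↥(C' ⊔ S.sup U) = Module.finrank F ↥C' + S.card * a := by
    intro C' hle S
    induction S using Finset.induction with
    | empty => rw [Finset.sup_empty, sup_bot_eq, Finset.card_empty, zero_mul, add_zero]
    | insert j S hj ih =>
      have h1 := Submodule.finrank_sup_add_finrank_inf_eq (C' ⊔ S.sup U) (U j)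
      rw [((hdis j S hj).mono_left (sup_le_sup_right hle _)).eq_bot, finrank_bot, add_zero, ih, hUdim] at h1
      rw [Finset.sup_insert, sup_comm (U j), ← sup_assoc, h1, Finset.card_insert_of_notMem hj]
      ring
  have htop : C ⊔ (Finset.univ : Finset (Fin s)).sup U = ⊤ := by
    rw [eq_top_iff, ← hdec.submodule_iSup_eq_top]
    refine iSup_le fun o => ?_
    cases o with
    | none => exact le_sup_left
    | some j => exact (Finset.le_sup (f := U) (Finset.mem_univ j)).trans le_sup_right
  have hV : Module.finrank F V = Module.finrank F ↥C + s * a := by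
    have := hdim C le_rfl Finset.univ
    rw [htop, finrank_top, Finset.card_univ, Fintype.card_fin] at this
    exact this
  have hW : ∀ S : Finset (Fin s), ∀ W : Submodule F V, W.map f ≤ W → W ≤ C ⊔ S.sup U →
      ∃ k, Module.finrank F ↥W = Module.finrank F ↥(W ⊓ C) + k * a := by
    intro S
    induction S using Finset.induction with
    | empty =>
      intro W _ hle
      refine ⟨0, ?_⟩
      rw [Finset.sup_empty, sup_bot_eq] at hle
      rw [inf_eq_left.2 hle, zero_mul, add_zero]
    | insert j S hj ih =>
      intro W hWi hle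
      set T := C ⊔ S.sup U with hT
      obtain ⟨k, hk⟩ := ih (W ⊓ T) ((Submodule.map_inf_le f).trans (inf_le_inf hWi (hTinv C le_rfl S)))
        inf_le_right
      rw [inf_assoc, inf_eq_right.2 (show C ≤ T from le_sup_left)] at hk
      have h1 := Submodule.finrank_sup_add_finrank_inf_eq W T
      have hX : ((W ⊔ T) ⊓ U j).map f ≤ (W ⊔ T) ⊓ U j := (Submodule.map_inf_le f).trans
        (inf_le_inf (by rw [Submodule.map_sup]; exact sup_le_sup hWi (hTinv C le_rfl S)) (hUinv j))
      have heq : W ⊔ T = T ⊔ (W ⊔ T) ⊓ U j := by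
        refine le_antisymm ?_ (sup_le le_sup_right inf_le_left)
        have h2 : W ⊔ T ≤ (T ⊔ U j) ⊓ (W ⊔ T) := le_inf (sup_le (hle.trans (by
          rw [Finset.sup_insert, sup_comm (U j), ← sup_assoc])) le_sup_left) le_rfl
        refine h2.trans (le_of_eq ?_)
        rw [sup_inf_assoc_of_le (U j) (le_sup_right : T ≤ W ⊔ T), inf_comm (U j)]
      rcases hUirr j _ inf_le_right hX with h | h
      · rw [h, sup_bot_eq] at heq
        rw [heq] at h1
        exact ⟨k, by omega⟩
      · rw [h] at heq
        have h2 := Submodule.finrank_sup_add_finrank_inf_eq T (U j)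
        rw [← heq, (hdis j S hj).eq_bot, finrank_bot, add_zero, hUdim] at h2
        exact ⟨k + 1, by rw [add_mul, one_mul]; omega⟩
  constructor
  · rintro ⟨W, hWm, hWi⟩
    obtain ⟨k, hk⟩ := hW Finset.univ W hWi (htop ▸ le_top)
    have hd : Module.finrank F ↥(W ⊓ C) ≤ Module.finrank F ↥C := Submodule.finrank_mono inf_le_right
    rw [hWm] at hk
    by_cases hmc : m ≤ Module.finrank F ↥C
    · exact Or.inl hmc
    refine Or.inr ⟨?_, ?_⟩
    · rcases Nat.eq_zero_or_pos k with rfl | hk0
      · omega
      · have := Nat.le_mul_of_pos_left a hk0; omega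
    · rw [hk, Nat.add_mul_mod_self_right]
      exact (Nat.mod_le _ _).trans hd
  · intro h
    obtain ⟨q, d, hq, hd, hm'⟩ : ∃ q d, q ≤ s ∧ d ≤ Module.finrank F ↥C ∧ m = d + q * a := by
      rcases h with h | ⟨-, h⟩
      · exact ⟨0, m, Nat.zero_le _, h, by simp⟩
      · by_cases hq : m / a ≤ s
        · exact ⟨m / a, m % a, hq, h, by rw [mul_comm]; exact (Nat.mod_add_div m a).symm⟩
        · refine ⟨s, m - s * a, le_rfl, by omega, ?_⟩
          have : s * a ≤ m := (Nat.mul_le_mul_right a (not_le.1 hq).le).trans (Nat.div_mul_le_self m a)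
          omega
    obtain ⟨L, hL⟩ := exists_linearIndependent_of_le_finrank (R := F) (M := ↥C) hd
    set C' : Submodule F V := (Submodule.span F (Set.range L)).map C.subtype with hC'
    have hle : C' ≤ C := Submodule.map_subtype_le _ _
    have hd' : Module.finrank F ↥C' = d := by
      rw [hC', Submodule.finrank_map_subtype_eq, finrank_span_eq_card hL, Fintype.card_fin]
    obtain ⟨S, -, hS⟩ := Finset.exists_subset_card_eq (s := (Finset.univ : Finset (Fin s))) (n := q)
      (by simpa using hq)
    exact ⟨_, by rw [hdim C' hle S, hd', hS, hm'], hTinv C' hle S⟩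

end Cfsg.Agent.S5952
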