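import Cfsg.Statements.S5953
import Cfsg.Agent.Lib.Derangements.UnitaryElusive.Two
-- import your own Cfsg.Agent.* helpers here

set_option autoImplicit false
open scoped MatrixGroups
open Cfsg

namespace Cfsg.Agent.S5953

open Module CfsgLib.Classical CfsgLib.Derangements.LinElusive CfsgLib.Derangements.UnitElusive

/-- Elements of prime order of PSU_n(q) with no fixed totally isotropic `m`-space. Here `T = PSU_n(q)` (`n ≥ 3`, `(n, q) ≠ (3, 2)`), realised through the matrices of determinant 1 over the field `F` with `q²` elements preserving the Hermitian form `h(u, v) = Σ u_i v_i^q`; an element of `T` of prime order `r` is such a matrix `x` with `x^r` scalar and `x` not scalar. For `r ≠ p` let `i` be the multiplicative order of `q` modulo `r`, `b = i/2` for `i` even and `b = i` for `i` odd, `c = i, i/2, 2i` according as `i ≡ 0, 2 (mod 4)` or `i` odd, and write `k = n mod c`, `ℓ = m mod b`, `ℓ' = m mod c`, `n' = ⌊n/b⌋`, `m' = ⌊m/b⌋`, `s = (r−1)/b`;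 `(a)_r` is the `r`-part of `a`. Let `1 ≤ m ≤ n/2` and let `r` be a prime dividing the number of totally isotropic `m`-spaces. Then every element of `T` of order `r` fixes a totally isotropic `m`-space if and only if either (i) `r = 2`, `p ≠ 2`, and (`m < n/2` or `(q+1)_2 ≤ (n)_2`); or (ii) `r ≠ p`, `r > 2`, `b ≤ m`, `k ≥ 2ℓ`, and either `i ≢ 2 (mod 4)`, or `i ≡ 2 (mod 4)`, `n' − 2m' ≥ s` and (`i > 2`, or `i = 2` and (`r ∣ m` or `(q+1)_r ≥ (n)_r`)). -/
theorem result {F : Type*} [Field F] [Fintype F] {p : ℕ} [Fact p.Prime] [CharP F p] {q : ℕ} (hq : Fintype.card F = q ^ 2)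
    (n m : ℕ) (hn : 3 ≤ n) (hT : (n, q) ≠ (3, 2)) (hm : 1 ≤ m) (hmn : 2 * m ≤ n)
    (r : ℕ) [Fact r.Prime]
    (hrΩ : r ∣ Nat.card {W : Submodule F (Fin n → F) // Module.finrank F ↥W = m ∧ (∀ u ∈ W, ∀ v ∈ W, Cfsg.hermForm n F q u v = 0)})
    (i b c : ℕ) (hi : i = orderOf (q : ZMod r)) (hb : b = if Even i then i / 2 else i)
    (hc : c = if i % 4 = 0 then i else if i % 4 = 2 then i / 2 else 2 * i) :
    (∀ x : Matrix.SpecialLinearGroup (Fin n) F, x ∈ Cfsg.SU n F q →
      (∃ z : F, ((x ^ r : Matrix.SpecialLinearGroup (Fin n) F) : Matrix (Fin n) (Fin n) F) = z • (1 : Matrix (Fin n) (Fin n) F)) →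
      (∀ z : F, (x : Matrix (Fin n) (Fin n) F) ≠ z • (1 : Matrix (Fin n) (Fin n) F)) →
      ∃ W : Submodule F (Fin n → F), Module.finrank F ↥W = m ∧ (∀ u ∈ W, ∀ v ∈ W, Cfsg.hermForm n F q u v = 0) ∧
        W.map (Matrix.toLin' (x : Matrix (Fin n) (Fin n) F)) ≤ W) ↔
    ((r = 2 ∧ p ≠ 2 ∧ (2 * m < n ∨ padicValNat 2 (q + 1) ≤ padicValNat 2 n)) ∨
     (r ≠ p ∧ 2 < r ∧ b ≤ m ∧ 2 * (m % b) ≤ n % c ∧
       (i % 4 ≠ 2 ∨ (i % 4 = 2 ∧ (r - 1) / b + 2 * (m / b) ≤ n / b ∧
         (2 < i ∨ (i = 2 ∧ (r ∣ m ∨ padicValNat r n ≤ padicValNat r (q + 1)))))))) := by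
  classical
  obtain ⟨σ, hσ, hσc⟩ := exists_frob hq
  have h := stdHerm_isHermitian hσc n
  have hN := stdHerm_sepRight (σ := σ) n
  have hrp : r.Prime := Fact.out
  have hdim : finrank F (Fin n → F) = n := Module.finrank_fin_fun F
  haveI : Nontrivial (Fin n → F) := Module.nontrivial_of_finrank_pos (R := F) (by omega)
  simp only [hermForm_swap hσ] at hrΩ
  obtain ⟨hrq, j, hjl, hjn, hjd⟩ := null_count_facts hq hσ h hN (m := m) (by omega) hrΩ
  rw [hdim] at hjl hjn
  have hr : (r : F) ≠ 0 := (natCast_ne_zero_iff hq).2 hrq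
  have hrpne : r ≠ p := fun e => hr (by rw [e]; exact CharP.cast_eq_zero F p)
  rw [forall_su_iff hσ (r := r) (fun L => ∃ W : Submodule F (Fin n → F), finrank F W = m ∧
    (∀ u ∈ W, ∀ v ∈ W, Cfsg.hermForm n F q u v = 0) ∧ W.map L ≤ W)]
  simp only [hermForm_swap hσ]
  rcases hrp.eq_two_or_odd' with hr2 | hr2
  · subst hr2
    have hp2 : p ≠ 2 := Ne.symm hrpne
    have h2 : (2 : F) ≠ 0 := by exact_mod_cast hr
    constructor
    · intro hall
      by_contra hcon
      push Not at hcon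
      obtain ⟨hA, hv⟩ := hcon.1 rfl hp2
      obtain rfl : n = 2 * m := by omega
      obtain ⟨L, z, hdet, hB, hLz, hns, hW⟩ := witness_two_isom hq hσ hσc h2 hm (by omega)
      obtain ⟨W, hWd, hWn, hWi⟩ := hall L hdet hB z hLz hns
      exact hW W hWi hWn hWd
    · rintro (⟨-, -, hc2⟩ | ⟨-, hlt, -⟩)
      swap
      · omega
      intro L hdet hB z hLz _
      obtain ⟨w, rfl, hw | hw⟩ := exists_two_root hq h2 (norm_of_scalar h hN hσ hB hLz)
      · obtain ⟨a, e, hae, hde, -, hex, -⟩ := two_isom hq hσ h hN hB h2 hw hLz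
        rw [hdim] at hae hde
        refine hex m ?_
        by_contra hlt
        have he : Odd e := Nat.not_even_iff_odd.1 fun ⟨s, hs⟩ => hlt (by omega)
        have hwn : w ^ n = -1 := by
          rw [hdet, he.neg_one_pow, mul_neg_one] at hde
          linear_combination hde
        have hv : padicValNat 2 (q + 1) ≤ padicValNat 2 n := hc2.resolve_left (by omega)
        set A := padicValNat 2 (q + 1) with hA
        obtain ⟨o, ho⟩ : 2 ^ A ∣ q + 1 := pow_padicValNat_dvd
        have hodd : Odd o := Nat.not_even_iff_odd.1 fun ⟨s, hs⟩ =>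
          pow_succ_padicValNat_not_dvd (p := 2) (show q + 1 ≠ 0 by omega) ⟨s, by rw [← hA, ho, hs]; ring⟩
        refine false_of_neg_one h2 hw hwn hodd ?_
        rw [ho]
        exact Nat.mul_dvd_mul_right ((pow_dvd_pow 2 hv).trans pow_padicValNat_dvd) o
      · exact (two_anti hq hσ h hN hB h2 hw hLz).2.2.1 m (by omega)
  obtain ⟨hb0, hbo, hco, hsp, hdbl, hi2⟩ := exps hr2 hrq hi hb hc
  rw [hco] at hjd
  have hc0 : 0 < c := Nat.pos_of_ne_zero fun h0 => by rw [h0, zero_dvd_iff] at hjd; omega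
  have hcn : c ≤ n := (Nat.le_of_dvd (by omega) hjd).trans hjn
  have hkm : n % c < 2 * m := by
    obtain ⟨t, ht⟩ := hjd
    have h1 := Nat.div_add_mod n c
    have h2 : c * t ≤ c * (n / c) := Nat.mul_le_mul_left c ((Nat.le_div_iff_mul_le hc0).2 (by rw [mul_comm]; omega))
    omega
  constructor
  · intro hall
    by_contra hcon
    push Not at hcon
    have hbad := hcon.2 hrpne (by have := hrp.two_le; have := Nat.odd_iff.1 hr2; omega)
    by_cases hfp : b ≤ m ∧ 2 * (m % b) ≤ n % c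
    swap
    · have hd : ¬ r ∣ q + 1 := fun hd => hfp (by
        have hi' := hi2.2 hd
        obtain ⟨hcb, -, -, hib⟩ := hsp (by omega)
        have hb1 : b = 1 := by omega
        rw [hcb, hb1, Nat.mod_one, Nat.mod_one]
        omega)
      obtain ⟨L, hdet, hB, hLz, hns, hW⟩ := witness_fpf (σ := σ) hq hσ hσc hr hd hbo.symm hco.symm (by
        rcases em (i % 4 = 2) with h4 | h4
        · exact Or.inr ⟨(hsp h4).2.1, (hsp h4).2.2.1, (hsp h4).1⟩
        · exact Or.inl (hdbl h4)) hb0 hcn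
      obtain ⟨W, hWd, hWn, hWi⟩ := hall L hdet hB 1 hLz hns
      obtain ⟨a, x, hx, hax⟩ := (hW W hWi).1 hWn
      rw [hWd] at hax
      refine hfp ⟨?_, ?_⟩
      · rcases Nat.eq_zero_or_pos a with ha | ha
        · rw [ha] at hax; omega
        · have := Nat.le_mul_of_pos_left b ha; omega
      · have h1 : m % b = x % b := by rw [hax, mul_comm a b, Nat.mul_add_mod]
        have := Nat.mod_le x b
        omega
    obtain ⟨hbm, hk⟩ := hfp
    obtain ⟨h4, hbad⟩ := hbad hbm hk
    obtain ⟨hcb, hbodd, hqb, hib⟩ := hsp h4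
    by_cases hcnt : (r - 1) / b + 2 * (m / b) ≤ n / b
    · obtain ⟨hi', hbad⟩ := hbad h4 hcnt
      obtain ⟨hrm, hv⟩ := hbad (by omega)
      obtain ⟨L, z, hdet, hB, hLz, hns, hW⟩ := witness_kummer (σ := σ) hq hσ hr hr2 (hi2.1 (by omega))
        (by omega : 0 < n) hv
      obtain ⟨W, hWd, -, hWi⟩ := hall L hdet hB z hLz hns
      exact hrm (hWd ▸ hW W hWi)
    push Not at hcnt
    by_cases hi' : i = 2
    · have hb1 : b = 1 := by omega
      rw [hb1] at hcnt
      simp only [Nat.div_one] at hcnt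
      obtain ⟨L, hdet, hB, hLz, hns, hW⟩ := witness_diag hq hσ hσc hr hr2 (hi2.1 hi') hm hmn hcnt
      obtain ⟨W, hWd, hWn, hWi⟩ := hall L hdet hB 1 hLz hns
      exact hW W hWi hWn hWd
    · obtain ⟨L, hdet, hB, hLz, hns, hW⟩ := witness_types hq hσ hσc hr (fun hd => hi' (hi2.2 hd)) hbo.symm
        (hco.trans hcb).symm hbodd hqb (by omega) hbm hcnt
      obtain ⟨W, hWd, hWn, hWi⟩ := hall L hdet hB 1 hLz hns
      exact hW W hWi hWn hWd
  · rintro (⟨rfl, -, -⟩ | ⟨-, -, -, hk, hcase⟩)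
    · exact absurd hr2 (by decide)
    intro L hdet hB z hLz _
    have hzn := norm_of_scalar h hN hσ hB hLz
    rcases norm_root_or hq hr2 hzn with ⟨w, hw, rfl⟩ | ⟨hd, hzr, hze⟩
    · obtain ⟨M, hM, hMB, hinv⟩ := exists_scaled_root hσ hB hw hLz
      obtain ⟨W, hWd, hWn, hWi⟩ := exists_null_invariant (n := n) (m := m) hq hσ h hN hMB hr hM hbo.symm hco.symm
        hdim hmn hk (by
          rcases hcase with h4 | ⟨h4, hcnt, -⟩
          · exact Or.inl (hdbl h4)
          · exact Or.inr ⟨(hsp h4).2.1, (hsp h4).2.2.1, (hsp h4).1, hcnt⟩)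
      exact ⟨W, hWd, hWn, hinv W hWi⟩
    have hi' := hi2.2 hd
    obtain ⟨-, -, -, hib⟩ := hsp (by omega)
    have hb1 : b = 1 := by omega
    rcases hcase with h4 | ⟨-, hcnt, hlast⟩
    · omega
    rw [hb1, Nat.div_one, Nat.div_one, Nat.div_one] at hcnt
    rcases hlast with hlast | ⟨-, hrm | hv⟩
    · omega
    · exact (kummer_invariant hq hσ h hN hB hr hr2 hd hzn hzr hLz hdim hrm).1 hcnt
    · exfalso
      have hrn : r ∣ n := by
        have := kummer_dvd hzr hLz (U := ⊤) inv_top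
        rwa [finrank_top, hdim] at this
      have hdetz := kummer_det hr hzr hLz
      rw [hdet, hdim, hr2.add_one.neg_one_pow, one_mul] at hdetz
      exact hze (pow_div_eq_one (by omega) hd hrn hv hzn hdetz.symm)

end Cfsg.Agent.S5953
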