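import Cfsg.Statements.S5954
import Cfsg.Agent.Lib.Derangements.UnitaryElusive.Two
import Cfsg.Agent.Lib.Derangements.UnitaryElusive.Unipotent
-- import your own Cfsg.Agent.* helpers here

set_option autoImplicit false
open scoped MatrixGroups
open Cfsg

namespace Cfsg.Agent.S5954

open Module CfsgLib.Classical CfsgLib.Derangements.LinElusive CfsgLib.Derangements.UnitElusive

/-- Elements of prime order of PSU_n(q) with no fixed nondegenerate `m`-space. Here `T = PSU_n(q)` (`n ≥ 3`, `(n, q) ≠ (3, 2)`), realised through the matrices of determinant 1 over the field `F` with `q²` elements preserving the Hermitian form `h(u, v) = Σ u_i v_i^q`; an element of `T` of prime order `r` is such a matrix `x` with `x^r` scalar and `x` not scalar. For `r ≠ p` let `i` be the multiplicative order of `q` modulo `r`, `b = i/2` for `i` even and `b = i` for `i` odd, `c = i, i/2, 2i` according as `i ≡ 0, 2 (mod 4)` or `i` odd, and write `k = n mod c`, `ℓ = m mod b`,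 `ℓ' = m mod c`, `n' = ⌊n/b⌋`, `m' = ⌊m/b⌋`, `s = (r−1)/b`; `(a)_r` is the `r`-part of `a`. Let `1 ≤ m < n/2` and let `r` be a prime dividing the number of nondegenerate `m`-spaces. Then every element of `T` of order `r` fixes a nondegenerate `m`-space if and only if one of: (i) `r = p > 2` and every partition of `n` into parts of size at most `p` contains (as a sub-multiset) a partition of `m`; (ii) `r = p = 2` and (`n` is odd or `m` is even); (iii) `r = 2 ≠ p` and (`n` is odd, or `m` is even, or `(q+1)_2 ≥ (n)_2` and `q ≡ 3 (mod 4)`); (iv) `r ≠ p`, `r > 2`, and either `i ≠ 2`, `c ≤ m` and `k ≥ ℓ'`, or `i = 2` and (`r ∣ m` or `(q+1)_r ≥ (n)_r`). -/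
theorem result {F : Type*} [Field F] [Fintype F] {p : ℕ} [Fact p.Prime] [CharP F p] {q : ℕ} (hq : Fintype.card F = q ^ 2)
    (n m : ℕ) (hn : 3 ≤ n) (hT : (n, q) ≠ (3, 2)) (hm : 1 ≤ m) (hmn : 2 * m < n)
    (r : ℕ) [Fact r.Prime]
    (hrΩ : r ∣ Nat.card {W : Submodule F (Fin n → F) // Module.finrank F ↥W = m ∧ (∀ u ∈ W, u ≠ 0 → ∃ v ∈ W, Cfsg.hermForm n F q u v ≠ 0)})
    (i b c : ℕ) (hi : i = orderOf (q : ZMod r)) (hb : b = if Even i then i / 2 else i)
    (hc : c = if i % 4 = 0 then i else if i % 4 = 2 then i / 2 else 2 * i) :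
    (∀ x : Matrix.SpecialLinearGroup (Fin n) F, x ∈ Cfsg.SU n F q →
      (∃ z : F, ((x ^ r : Matrix.SpecialLinearGroup (Fin n) F) : Matrix (Fin n) (Fin n) F) = z • (1 : Matrix (Fin n) (Fin n) F)) →
      (∀ z : F, (x : Matrix (Fin n) (Fin n) F) ≠ z • (1 : Matrix (Fin n) (Fin n) F)) →
      ∃ W : Submodule F (Fin n → F), Module.finrank F ↥W = m ∧ (∀ u ∈ W, u ≠ 0 → ∃ v ∈ W, Cfsg.hermForm n F q u v ≠ 0) ∧
        W.map (Matrix.toLin' (x : Matrix (Fin n) (Fin n) F)) ≤ W) ↔
    ((r = p ∧ 2 < p ∧ (∀ μ : Multiset ℕ, (∀ a ∈ μ, 0 < a ∧ a ≤ p) → μ.sum = n → ∃ ν : Multiset ℕ, ν ≤ μ ∧ ν.sum = m)) ∨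
     (r = p ∧ p = 2 ∧ (Odd n ∨ Even m)) ∨
     (r = 2 ∧ p ≠ 2 ∧ (Odd n ∨ Even m ∨ (padicValNat 2 n ≤ padicValNat 2 (q + 1) ∧ q % 4 = 3))) ∨
     (r ≠ p ∧ 2 < r ∧ ((i ≠ 2 ∧ c ≤ m ∧ m % c ≤ n % c) ∨ (i = 2 ∧ (r ∣ m ∨ padicValNat r n ≤ padicValNat r (q + 1)))))) := by
  classical
  obtain ⟨σ, hσ, hσc⟩ := exists_frob hq
  have h := stdHerm_isHermitian hσc n
  have hN := stdHerm_sepRight (σ := σ) n
  have hrp : r.Prime := Fact.out
  have hdim : finrank F (Fin n → F) = n := Module.finrank_fin_fun F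
  haveI : Nontrivial (Fin n → F) := Module.nontrivial_of_finrank_pos (R := F) (by omega)
  simp only [hermForm_nondeg hσ] at hrΩ
  rw [forall_su_iff hσ (r := r) (fun L => ∃ W : Submodule F (Fin n → F), finrank F W = m ∧
    (∀ u ∈ W, u ≠ 0 → ∃ v ∈ W, Cfsg.hermForm n F q u v ≠ 0) ∧ W.map L ≤ W)]
  simp only [hermForm_nondeg hσ]
  by_cases hrpe : r = p
  · subst hrpe
    have h2p := hrp.two_le
    constructor
    · intro hall
      by_contra hcon
      push Not at hcon
      obtain ⟨μ, hμ, hμs, hbad⟩ : ∃ μ : Multiset ℕ, (∀ a ∈ μ, 0 < a ∧ a ≤ r) ∧ μ.sum = n ∧ ∀ ν ≤ μ, ν.sum ≠ m := by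
        rcases Nat.lt_or_ge 2 r with h2 | h2
        · exact hcon.1 rfl h2
        · obtain rfl : r = 2 := by omega
          have hne : Even n := Nat.not_odd_iff_even.1 (hcon.2.1 rfl rfl).1
          have hmo : ¬ Even m := (hcon.2.1 rfl rfl).2
          obtain ⟨k, hk⟩ := hne
          refine ⟨Multiset.replicate k 2, fun a ha => by rw [Multiset.eq_of_mem_replicate ha]; omega,
            by rw [Multiset.sum_replicate, smul_eq_mul]; omega, fun ν hν hs => hmo ?_⟩
          obtain ⟨j, -, rfl⟩ := Multiset.le_replicate_iff.1 hν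
          rw [← hs, Multiset.sum_replicate, smul_eq_mul]
          exact even_two.mul_left j
      obtain ⟨L, hdet, hB, hLz, hns, hW⟩ := witness_unipotent (σ := σ) (p := r) hσc (by omega : m ≤ n) μ hμ hμs hbad
      obtain ⟨W, hWd, hWn, hWi⟩ := hall L hdet hB 1 hLz hns
      exact hW W hWi hWn hWd
    · intro hcase L _ hB z hLz _
      have hzn := norm_of_scalar h hN hσ hB hLz
      obtain ⟨w, rfl⟩ := (Finite.injective_iff_surjective.1 (frobenius_inj F r)) z
      rw [frobenius_def] at hzn hLz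
      have hw : w ^ (q + 1) = 1 := frobenius_inj F r (by
        rw [frobenius_def, frobenius_def, one_pow, ← pow_mul, mul_comm, pow_mul, hzn])
      obtain ⟨M, hM, hMB, hinv⟩ := exists_scaled_root hσ hB hw hLz
      obtain ⟨μ, hμ, hμs, hall⟩ := exists_partition h hN hMB hM
      rw [hdim] at hμs
      obtain ⟨ν, hν, hνs⟩ : ∃ ν ≤ μ, ν.sum = m := by
        rcases hcase with ⟨-, -, hc1⟩ | ⟨-, rfl, hc2⟩ | ⟨rfl, hne, -⟩ | ⟨hne, -⟩
        · exact hc1 μ hμ hμs
        · exact exists_subsum_two (by omega) hc2 μ hμ hμs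
        · exact absurd rfl hne
        · exact absurd rfl hne
      obtain ⟨W, hWd, hWn, hWi⟩ := hall ν hν
      exact ⟨W, hWd.trans hνs, hWn, hinv W hWi⟩
  have hr : (r : F) ≠ 0 := fun h0 => hrpe
    ((Nat.prime_dvd_prime_iff_eq Fact.out hrp).1 ((CharP.cast_eq_zero_iff F p r).1 h0)).symm
  have hrq := (natCast_ne_zero_iff hq).1 hr
  rcases hrp.eq_two_or_odd' with hr2 | hr2
  · subst hr2
    have hp2 : p ≠ 2 := Ne.symm hrpe
    have h2 : (2 : F) ≠ 0 := by exact_mod_cast hr
    have hqo := Nat.odd_iff.1 (odd_q hq h2)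
    constructor
    · intro hall
      by_contra hcon
      push Not at hcon
      obtain ⟨hne, hmo, hlast⟩ := hcon.2.2.1 rfl hp2
      obtain ⟨L, z, hdet, hB, hLz, hns, hW⟩ := witness_two_anti hq hσ hσc h2 (by omega : 0 < n) (Nat.not_odd_iff_even.1 hne) (by
        by_cases hv : padicValNat 2 n ≤ padicValNat 2 (q + 1)
        · exact Or.inr (by have := hlast hv; omega)
        · exact Or.inl (by omega))
      obtain ⟨W, hWd, hWn, hWi⟩ := hall L hdet hB z hLz hns
      exact absurd (hWd ▸ hW W hWi hWn) hmo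
    · rintro (⟨e, -⟩ | ⟨e, -⟩ | ⟨-, -, hc3⟩ | ⟨-, hlt, -⟩)
      · exact absurd e hrpe
      · exact absurd e hrpe
      swap
      · omega
      intro L hdet hB z hLz _
      obtain ⟨w, rfl, hw | hw⟩ := exists_two_root hq h2 (norm_of_scalar h hN hσ hB hLz)
      · obtain ⟨a, e, -, -, -, -, hex⟩ := two_isom hq hσ h hN hB h2 hw hLz
        exact hex m (by omega)
      · obtain ⟨hne, hdete, -, hex, -⟩ := two_anti hq hσ h hN hB h2 hw hLz
        rw [hdim] at hne hdete
        refine hex m ?_ (by omega)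
        by_contra hmo
        obtain ⟨hv, hq4⟩ := (hc3.resolve_left (Nat.not_odd_iff_even.2 hne)).resolve_left hmo
        have h1 : (-(w ^ 2)) ^ (n / 2) = 1 := by
          obtain ⟨s, rfl⟩ := hne
          rw [hdete] at hdet
          rw [show (s + s) / 2 = s by omega] at hdet ⊢
          rw [neg_pow, ← pow_mul, two_mul, mul_comm]
          exact hdet
        have h3 : (-(w ^ 2)) ^ ((q + 1) / 2) = -1 := by
          rw [Even.neg_pow ⟨(q + 1) / 4, by omega⟩, ← pow_mul, show 2 * ((q + 1) / 2) = q + 1 by omega, hw]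
        set v := padicValNat 2 n with hvd
        obtain ⟨o, ho⟩ : 2 ^ v ∣ n := pow_padicValNat_dvd
        have hodd : Odd o := Nat.not_even_iff_odd.1 fun ⟨s, hs⟩ =>
          pow_succ_padicValNat_not_dvd (p := 2) (show n ≠ 0 by omega) ⟨s, by rw [← hvd, ho, hs]; ring⟩
        have hv1 : 1 ≤ v := one_le_padicValNat_of_dvd (by omega) (even_iff_two_dvd.1 hne)
        refine false_of_neg_one h2 h1 h3 hodd ?_
        obtain ⟨v', hv'⟩ : ∃ v', v = v' + 1 := ⟨v - 1, by omega⟩
        have hd : 2 ^ (v' + 1) ∣ q + 1 := hv' ▸ (pow_dvd_pow 2 hv).trans pow_padicValNat_dvd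
        rw [hv', pow_succ', mul_assoc] at ho
        rw [show n / 2 = 2 ^ v' * o by omega]
        exact Nat.mul_dvd_mul_right (Nat.dvd_div_of_mul_dvd (by rw [← pow_succ']; exact hd)) o
  obtain ⟨hb0, hbo, hco, hsp, hdbl, hi2⟩ := exps hr2 hrq hi hb hc
  obtain ⟨j, hjl, hjn, hjd⟩ := nondeg_count_facts hq hσ h hN (m := m) (by omega) hrq hrΩ
  rw [hdim] at hjl hjn
  rw [hco] at hjd
  have hc0 : 0 < c := Nat.pos_of_ne_zero fun h0 => by rw [h0, zero_dvd_iff] at hjd; omega
  have hcn : c ≤ n := (Nat.le_of_dvd (by omega) hjd).trans hjn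
  have hkm : n % c < m := by
    obtain ⟨t, ht⟩ := hjd
    have h1 := Nat.div_add_mod n c
    have h2 : c * t ≤ c * (n / c) := Nat.mul_le_mul_left c ((Nat.le_div_iff_mul_le hc0).2 (by rw [mul_comm]; omega))
    omega
  have hcs : c = 2 * b ∨ (Odd b ∧ (q : ZMod r) ^ b = -1 ∧ c = b) := by
    rcases em (i % 4 = 2) with h4 | h4
    · exact Or.inr ⟨(hsp h4).2.1, (hsp h4).2.2.1, (hsp h4).1⟩
    · exact Or.inl (hdbl h4)
  have hr3 : 2 < r := by have := hrp.two_le; have := Nat.odd_iff.1 hr2; omega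
  constructor
  · intro hall
    by_contra hcon
    push Not at hcon
    obtain ⟨hfp, hku⟩ := hcon.2.2.2 hrpe hr3
    by_cases hi' : i = 2
    · obtain ⟨hrm, hv⟩ := hku hi'
      obtain ⟨L, z, hdet, hB, hLz, hns, hW⟩ := witness_kummer (σ := σ) hq hσ hr hr2 (hi2.1 hi')
        (by omega : 0 < n) hv
      obtain ⟨W, hWd, -, hWi⟩ := hall L hdet hB z hLz hns
      exact hrm (hWd ▸ hW W hWi)
    · obtain ⟨L, hdet, hB, hLz, hns, hW⟩ := witness_fpf (σ := σ) hq hσ hσc hr (fun hd => hi' (hi2.2 hd))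
        hbo.symm hco.symm hcs hb0 hcn
      obtain ⟨W, hWd, hWn, hWi⟩ := hall L hdet hB 1 hLz hns
      obtain ⟨a, x, hx, hax⟩ := (hW W hWi).2 hWn
      rw [hWd] at hax
      have hcm : c ≤ m := by
        rcases Nat.eq_zero_or_pos a with ha | ha
        · rw [ha] at hax; omega
        · have := Nat.le_mul_of_pos_left c ha; omega
      have h1 : m % c = x % c := by rw [hax, mul_comm a c, Nat.mul_add_mod]
      have := Nat.mod_le x c
      have := hfp hi' hcm
      omega
  · rintro (⟨e, -⟩ | ⟨e, -⟩ | ⟨rfl, -, -⟩ | ⟨-, -, hcase⟩)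
    · exact absurd e hrpe
    · exact absurd e hrpe
    · exact absurd hr2 (by decide)
    intro L hdet hB z hLz _
    have hzn := norm_of_scalar h hN hσ hB hLz
    rcases norm_root_or hq hr2 hzn with ⟨w, hw, rfl⟩ | ⟨hd, hzr, hze⟩
    · obtain ⟨M, hM, hMB, hinv⟩ := exists_scaled_root hσ hB hw hLz
      obtain ⟨W, hWd, hWn, hWi⟩ := exists_nondeg_invariant (n := n) (m := m) hq hσ h hN hMB hr hM hbo.symm hco.symm
        hdim (by omega) (by
          rcases hcase with ⟨-, -, hk⟩ | ⟨hi', -⟩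
          · exact hk
          · obtain ⟨hcb, -, -, hib⟩ := hsp (by omega)
            rw [show c = 1 by omega, Nat.mod_one, Nat.mod_one]) hcs
      exact ⟨W, hWd, hWn, hinv W hWi⟩
    have hi' := hi2.2 hd
    rcases hcase with ⟨hne, -⟩ | ⟨-, hrm | hv⟩
    · exact absurd hi' hne
    · exact (kummer_invariant hq hσ h hN hB hr hr2 hd hzn hzr hLz hdim hrm).2 (by omega)
    · exfalso
      have hrn : r ∣ n := by
        have := kummer_dvd hzr hLz (U := ⊤) inv_top
        rwa [finrank_top, hdim] at this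
      have hdetz := kummer_det hr hzr hLz
      rw [hdet, hdim, hr2.add_one.neg_one_pow, one_mul] at hdetz
      exact hze (pow_div_eq_one (by omega) hd hrn hv hzn hdetz.symm)

end Cfsg.Agent.S5954
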