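import Cfsg.Statements.S5955
import Cfsg.Agent.Lib.Derangements.NullInvariantWitness
import Cfsg.Agent.Lib.Derangements.LinearElusiveWitness
-- import your own Cfsg.Agent.* helpers here

set_option autoImplicit false
open scoped MatrixGroups Matrix
open Cfsg

namespace Cfsg.Agent.S5955

open Module CfsgLib.Derangements CfsgLib.Classical CfsgLib.Derangements.LinElusive CfsgLib.Derangements.NullInv

variable {F : Type*} [Field F] [Fintype F] {d m r : ℕ} [Fact r.Prime]

theorem zmod_two_one : ∀ {a : ZMod 2}, a ≠ 0 → a = 1 := by decide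

theorem toLin'_map_le_iff {x : Matrix (Fin d ⊕ Fin d) (Fin d ⊕ Fin d) F} {W : Submodule F (Fin d ⊕ Fin d → F)} :
    W.map (Matrix.toLin' x) ≤ W ↔ Inv (Matrix.toLinAlgEquiv' x) W := Iff.rfl

/-- A matrix preserving the form gives an element of the symplectic group with the required properties. -/
theorem witness_of_matrix (Y : Matrix (Fin d ⊕ Fin d) (Fin d ⊕ Fin d) F)
    (hpres : ∀ u v, Cfsg.sympForm d F (Y *ᵥ u) (Y *ᵥ v) = Cfsg.sympForm d F u v) (hz : ∃ z : F, Y ^ r = z • 1)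
    (hns : ∀ z : F, Y ≠ z • 1)
    (hW : ∀ W : Submodule F (Fin d ⊕ Fin d → F), Inv (Matrix.toLinAlgEquiv' Y) W → Null (sympBil F d) W →
      finrank F W ≠ m) :
    ¬ ∀ x : ↥(Matrix.symplecticGroup (Fin d) F),
      (∃ z : F, ((x ^ r : ↥(Matrix.symplecticGroup (Fin d) F)) : Matrix (Fin d ⊕ Fin d) (Fin d ⊕ Fin d) F) = z • (1 : Matrix (Fin d ⊕ Fin d) (Fin d ⊕ Fin d) F)) →
      (∀ z : F, (x : Matrix (Fin d ⊕ Fin d) (Fin d ⊕ Fin d) F) ≠ z • (1 : Matrix (Fin d ⊕ Fin d) (Fin d ⊕ Fin d) F)) →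
      ∃ W : Submodule F (Fin d ⊕ Fin d → F), Module.finrank F ↥W = m ∧ (∀ u ∈ W, ∀ v ∈ W, Cfsg.sympForm d F u v = 0) ∧
        W.map (Matrix.toLin' (x : Matrix (Fin d ⊕ Fin d) (Fin d ⊕ Fin d) F)) ≤ W := fun h => by
  obtain ⟨W, hWd, hWn, hWi⟩ := h ⟨Y, (mem_symplecticGroup_iff_preserves d).2 hpres⟩
    (by obtain ⟨z, hz⟩ := hz; exact ⟨z, by rw [SubmonoidClass.coe_pow]; exact hz⟩) hns
  exact hW W hWi (fun u hu v hv => by rw [sympBil_apply]; exact hWn u hu v hv) hWd

theorem exists_pair (hd : 0 < d) : ∃ u v : Fin d ⊕ Fin d → F, sympBil F d u v = 1 := by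
  haveI : Nonempty (Fin d) := ⟨⟨0, hd⟩⟩
  obtain ⟨u, hu⟩ := exists_ne (0 : Fin d ⊕ Fin d → F)
  exact ⟨u, alt_exists_partner (sympBil_nondegenerate (F := F) d).1 hu⟩

theorem z_sq (hd : 0 < d) (x : ↥(Matrix.symplecticGroup (Fin d) F)) {z : F}
    (hz : ((x ^ r : ↥(Matrix.symplecticGroup (Fin d) F)) : Matrix (Fin d ⊕ Fin d) (Fin d ⊕ Fin d) F) = z • 1) :
    z * z = 1 := by
  obtain ⟨u, v, huv⟩ := exists_pair (F := F) hd
  have h := (mem_symplecticGroup_iff_preserves d).1 (x ^ r).2 u v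
  rw [hz] at h
  simp only [Matrix.smul_mulVec, Matrix.one_mulVec, ← sympBil_apply, map_smul, LinearMap.smul_apply, huv,
    smul_eq_mul, mul_one] at h
  exact h

/-- Odd `r`: scale to an element of order `r`. -/
theorem exists_inv_of_odd (hr2 : Odd r) (hr : (r : F) ≠ 0) (hd : 0 < d) (hmd : m ≤ d)
    (hmod : 2 * (m % orderOf (Fintype.card F : ZMod r)) ≤ (2 * d) %
      (if Even (orderOf (Fintype.card F : ZMod r)) then orderOf (Fintype.card F : ZMod r)
        else 2 * orderOf (Fintype.card F : ZMod r)))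
    (hcount : Odd (orderOf (Fintype.card F : ZMod r)) ∨
      (r - 1) / orderOf (Fintype.card F : ZMod r) + 2 * (m / orderOf (Fintype.card F : ZMod r)) ≤
        (2 * d) / orderOf (Fintype.card F : ZMod r))
    (x : ↥(Matrix.symplecticGroup (Fin d) F)) {z : F}
    (hz : ((x ^ r : ↥(Matrix.symplecticGroup (Fin d) F)) : Matrix (Fin d ⊕ Fin d) (Fin d ⊕ Fin d) F) = z • 1) :
    ∃ W : Submodule F (Fin d ⊕ Fin d → F), finrank F W = m ∧ Null (sympBil F d) W ∧
      Inv (Matrix.toLinAlgEquiv' x.1) W := by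
  have hzz := z_sq hd x hz
  have hz0 : z ≠ 0 := fun h0 => by rw [h0, mul_zero] at hzz; exact zero_ne_one hzz
  let L : Module.End F (Fin d ⊕ Fin d → F) := z • Matrix.toLinAlgEquiv' x.1
  have hpres : ∀ u v, sympBil F d (L u) (L v) = sympBil F d u v := fun u v => by
    have h : sympBil F d (Matrix.toLinAlgEquiv' x.1 u) (Matrix.toLinAlgEquiv' x.1 v) = sympBil F d u v := by
      rw [sympBil_apply, sympBil_apply]
      exact (mem_symplecticGroup_iff_preserves d).1 x.2 u v
    simp only [L, LinearMap.smul_apply, map_smul, smul_eq_mul, h]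
    rw [← mul_assoc, hzz, one_mul]
  have hLr : L ^ r = 1 := by
    obtain ⟨k, hk⟩ := hr2
    rw [SubmonoidClass.coe_pow] at hz
    rw [smul_pow, ← map_pow, hz, map_smul, map_one, smul_smul]
    have : z ^ r * z = 1 := by
      rw [hk, ← pow_succ, show 2 * k + 1 + 1 = 2 * (k + 1) by ring, pow_mul, sq, hzz, one_pow]
    rw [this, one_smul]
  obtain ⟨W, hWd, hWn, hWi⟩ := exists_null_invariant hr (sympBil_isAlt d) (sympBil_nondegenerate (F := F) d) hpres
    hLr (d := d) (by simp [two_mul]) hmod hcount hmd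
  refine ⟨W, hWd, hWn, Inv.of_mem fun u hu => ?_⟩
  have h := W.smul_mem z⁻¹ (hWi.mem hu)
  simpa [L, smul_smul, inv_mul_cancel₀ hz0] using h

/-- `r = 2`. -/
theorem exists_inv_two (h2 : (2 : F) ≠ 0) (hd : 0 < d) (hmd : m ≤ d)
    (hcase : Even m ∨ Fintype.card F % 4 = 1)
    (x : ↥(Matrix.symplecticGroup (Fin d) F)) {z : F}
    (hz : ((x ^ 2 : ↥(Matrix.symplecticGroup (Fin d) F)) : Matrix (Fin d ⊕ Fin d) (Fin d ⊕ Fin d) F) = z • 1) :
    ∃ W : Submodule F (Fin d ⊕ Fin d → F), finrank F W = m ∧ Null (sympBil F d) W ∧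
      Inv (Matrix.toLinAlgEquiv' x.1) W := by
  haveI : Fact (Nat.Prime 2) := ⟨Nat.prime_two⟩
  have hzz := z_sq hd x hz
  set L : Module.End F (Fin d ⊕ Fin d → F) := Matrix.toLinAlgEquiv' x.1
  have hB : ∀ u v, sympBil F d (L u) (L v) = sympBil F d u v := fun u v => by
    rw [sympBil_apply, sympBil_apply]
    exact (mem_symplecticGroup_iff_preserves d).1 x.2 u v
  have hLz : L ^ 2 = algebraMap F (Module.End F (Fin d ⊕ Fin d → F)) z := by
    rw [SubmonoidClass.coe_pow] at hz
    simp only [L, ← map_pow, hz, map_smul, map_one, Algebra.algebraMap_eq_smul_one]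
  have hA := sympBil_isAlt (F := F) d
  have hN := sympBil_nondegenerate (F := F) d
  have hdim : finrank F (Fin d ⊕ Fin d → F) = 2 * d := by simp [two_mul]
  have hsub : ∀ W : Submodule F (Fin d ⊕ Fin d → F), m ≤ finrank F W →
      ∃ U : Submodule F (Fin d ⊕ Fin d → F), U ≤ W ∧ finrank F U = m := fun W hW => by
    obtain ⟨f, hf⟩ := exists_linearIndependent_of_le_finrank (R := F) (M := W) hW
    exact ⟨Submodule.span F (Set.range fun k => (f k : Fin d ⊕ Fin d → F)),
      Submodule.span_le.2 (by rintro _ ⟨k, rfl⟩; exact (f k).2),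
      (finrank_span_eq_card (hf.map' W.subtype W.ker_subtype)).trans (Fintype.card_fin m)⟩
  rcases mul_self_eq_one_iff.1 hzz with rfl | rfl
  · have hi : orderOf (Fintype.card F : ZMod 2) = 1 := by
      have hne : (Fintype.card F : ZMod 2) ≠ 0 := fun h0 => h2 <| by
        rw [ZMod.natCast_eq_zero_iff] at h0
        obtain ⟨p, hpc⟩ := CharP.exists F
        haveI := hpc
        obtain ⟨k, hp, hk⟩ := FiniteField.card F p
        rw [hk] at h0
        have := (Nat.prime_dvd_prime_iff_eq Nat.prime_two hp).1 (Nat.prime_two.dvd_of_dvd_pow h0)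
        subst this
        exact CharP.cast_eq_zero F 2
      rw [orderOf_eq_one_iff]
      exact zmod_two_one hne
    rw [map_one] at hLz
    exact exists_null_invariant (by exact_mod_cast h2) hA hN hB hLz hdim
      (by rw [hi]; simp [Nat.mod_one]) (Or.inl (by rw [hi]; exact odd_one)) hmd
  by_cases hsq : IsSquare (-1 : F)
  · obtain ⟨l, hl⟩ := hsq
    have hll : l * l = -1 := hl.symm
    have hker : ∀ c : F, c * c = -1 → Null (sympBil F d) (LinearMap.ker (L - algebraMap F _ c)) := fun c hc u hu v hv => by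
      simp only [LinearMap.mem_ker, LinearMap.sub_apply, Module.algebraMap_end_apply, sub_eq_zero] at hu hv
      have h := hB u v
      rw [hu, hv, map_smul, map_smul, LinearMap.smul_apply, smul_eq_mul, smul_eq_mul, ← mul_assoc, hc, neg_one_mul,
        neg_eq_iff_add_eq_zero, ← two_mul] at h
      exact (mul_eq_zero.1 h).resolve_left h2
    have hrange : LinearMap.range (L + algebraMap F _ l) ≤ LinearMap.ker (L - algebraMap F _ l) := by
      rintro _ ⟨v, rfl⟩
      rw [LinearMap.mem_ker, ← Module.End.mul_apply, sub_mul, mul_add, mul_add, ← sq L, hLz, ← map_mul, hll,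
        (Algebra.commutes l L : algebraMap F _ l * L = L * algebraMap F _ l)]
      simp
      abel
    have h2' := Submodule.finrank_mono hrange
    have h3 := (L + algebraMap F _ l).finrank_range_add_finrank_ker
    have h4 := Null.two_mul_le hA.isRefl hN (hker (-l) (by rw [neg_mul_neg, hll]))
    rw [map_neg, sub_neg_eq_add] at h4
    obtain ⟨U, hU, hUd⟩ := hsub (LinearMap.ker (L - algebraMap F _ l)) (by omega)
    refine ⟨U, hUd, (hker l hll).mono hU, Inv.of_mem fun u hu => ?_⟩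
    have h5 := hU hu
    rw [LinearMap.mem_ker, LinearMap.sub_apply, Module.algebraMap_end_apply, sub_eq_zero] at h5
    rw [h5]
    exact U.smul_mem l hu
  · have hme : Even m := hcase.resolve_right fun hq => hsq (FiniteField.isSquare_neg_one_iff.2 (by omega))
    have hc : ∀ e : F, e ^ 2 ≠ -1 := fun e he => hsq ⟨e, by rw [← he, sq]⟩
    have hs : Split L := split_of_pow (c := -1) (r := 2) (by exact_mod_cast h2) (by simp) hLz
    have hu := kummer_uniform hc hLz
    have hinj : Function.Injective L := Function.LeftInverse.injective (g := ⇑(-L)) fun v => by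
      rw [LinearMap.neg_apply, ← Module.End.mul_apply, ← sq, hLz]
      simp
    obtain ⟨W, -, hW, hWn, hWd⟩ := exists_null_large (σ := 2) hA.isRefl hB hinj hs (E := ⊤)
      (fun X _ hX _ hlt => exists_null hA hB hX (g := Polynomial.X ^ 2 - Polynomial.C (-1))
        (Polynomial.monic_X_pow_sub_C _ two_ne_zero) (fun v _ => by simp [hLz])
        (by rw [Polynomial.natDegree_X_pow_sub_C]; exact hlt))
      le_top (nondegOn_iff.2 fun v _ hv => hN.2 v fun w => hv w trivial)
    rw [finrank_top, hdim] at hWd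
    have hhalf := Null.two_mul_le hA.isRefl hN hWn
    rw [hdim] at hhalf
    obtain ⟨w, hw⟩ := hu.dvd W le_top hW
    obtain ⟨e, he⟩ := hme
    obtain ⟨U, hUW, hU, hUd⟩ := hu.exists_sub hs (k := e) le_top hW (by omega)
    exact ⟨U, by omega, hWn.mono hUW, hU⟩

/-- `r = 2`, `m` odd, `q ≡ 3 (mod 4)`: the matrix of the form fixes no null `m`-space. -/
theorem witness_two (hd : 0 < d) (hm : ¬ Even m) (hq : Fintype.card F % 4 = 3) :
    ∃ Y : Matrix (Fin d ⊕ Fin d) (Fin d ⊕ Fin d) F,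
      (∀ u v, Cfsg.sympForm d F (Y *ᵥ u) (Y *ᵥ v) = Cfsg.sympForm d F u v) ∧ (∃ z : F, Y ^ 2 = z • 1) ∧
      (∀ z : F, Y ≠ z • 1) ∧
      ∀ W : Submodule F (Fin d ⊕ Fin d → F), Inv (Matrix.toLinAlgEquiv' Y) W → finrank F W ≠ m := by
  haveI : Fact (Nat.Prime 2) := ⟨Nat.prime_two⟩
  have hsq : ¬ IsSquare (-1 : F) := fun h => FiniteField.isSquare_neg_one_iff.1 h hq
  have hJ2 : Matrix.J (Fin d) F ^ 2 = (-1 : F) • 1 := by rw [sq, Matrix.J_squared]; simp
  refine ⟨Matrix.J (Fin d) F, (mem_symplecticGroup_iff_preserves d).1 (SymplecticGroup.J_mem _ _), ⟨-1, hJ2⟩,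
    fun z hz => ?_, fun W hW hWd => ?_⟩
  · have h := congrFun (congrFun hz (Sum.inr ⟨0, hd⟩)) (Sum.inl ⟨0, hd⟩)
    simp [Matrix.J] at h
  · have h := kummer_dvd (r := 2) (c := (-1 : F)) (fun e he => hsq ⟨e, by rw [← he, sq]⟩)
      (L := Matrix.toLinAlgEquiv' (Matrix.J (Fin d) F))
      (by rw [← map_pow, hJ2, map_smul, map_one, Algebra.algebraMap_eq_smul_one]) hW
    rw [hWd] at h
    exact hm (even_iff_two_dvd.2 h)

theorem not_scalar_of_fixed (hr2 : Odd r) {Y : Matrix (Fin d ⊕ Fin d) (Fin d ⊕ Fin d) F} (hYr : Y ^ r = 1)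
    (hpres : ∀ u v, Cfsg.sympForm d F (Y *ᵥ u) (Y *ᵥ v) = Cfsg.sympForm d F u v) {l : ℕ}
    (hfix : finrank F (Module.End.eigenspace (Matrix.toLinAlgEquiv' Y) (1 : F)) = 2 * l) (hl : l < d) :
    ∀ z : F, Y ≠ z • 1 := fun z hz => by
  subst hz
  obtain ⟨u, v, huv⟩ := exists_pair (F := F) (d := d) (by omega)
  have h := hpres u v
  simp only [Matrix.smul_mulVec, Matrix.one_mulVec, ← sympBil_apply, map_smul, LinearMap.smul_apply, huv,
    smul_eq_mul, mul_one] at h
  haveI : Nonempty (Fin d ⊕ Fin d) := ⟨Sum.inl ⟨0, by omega⟩⟩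
  have hzr : z ^ r = 1 := by
    have h1 := congrFun (congrFun hYr (Classical.arbitrary _)) (Classical.arbitrary _)
    simpa [smul_pow] using h1
  obtain ⟨k, hk⟩ := hr2
  have hz1 : z = 1 := by
    rw [hk, pow_succ, pow_mul, sq, h, one_pow, one_mul] at hzr
    exact hzr
  subst hz1
  have htop : Module.End.eigenspace (Matrix.toLinAlgEquiv' ((1 : F) • (1 : Matrix (Fin d ⊕ Fin d) (Fin d ⊕ Fin d) F)))
      (1 : F) = ⊤ := eq_top_iff.2 fun w _ => by
    rw [Module.End.mem_eigenspace_iff]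
    simp
  rw [htop, finrank_top] at hfix
  simp at hfix
  omega

/-- A fixed point free witness: `i ∤` obstruction. -/
theorem witness_fpf (hr2 : Odd r) (hr : (r : F) ≠ 0) {h : ℕ} (hh : 0 < h) (hhd : h ≤ d)
    (hh2 : orderOf (Fintype.card F : ZMod r) = if Even (orderOf (Fintype.card F : ZMod r)) then 2 * h else h)
    (hcond : ∀ a c, c ≤ d % h → a * orderOf (Fintype.card F : ZMod r) + c ≠ m) :
    ∃ Y : Matrix (Fin d ⊕ Fin d) (Fin d ⊕ Fin d) F,
      (∀ u v, Cfsg.sympForm d F (Y *ᵥ u) (Y *ᵥ v) = Cfsg.sympForm d F u v) ∧ (∃ z : F, Y ^ r = z • 1) ∧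
      (∀ z : F, Y ≠ z • 1) ∧
      ∀ W : Submodule F (Fin d ⊕ Fin d → F), Inv (Matrix.toLinAlgEquiv' Y) W → Null (sympBil F d) W →
        finrank F W ≠ m := by
  set i := orderOf (Fintype.card F : ZMod r) with hi
  obtain ⟨X, hX, hpres, hfix⟩ := SympFpf.exists_fixedPointFree hr hh (d := h) (by
    rw [← hi, hh2]; split_ifs
    · exact dvd_rfl
    · exact dvd_mul_left h 2)
  have hdm := Nat.div_add_mod d h
  obtain ⟨Y, hY, hYp, hYf⟩ := SympFpf.exists_blocks (k := d / h) (l := d % h)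
    ((finCongr (show d = d / h * h + d % h by rw [mul_comm]; omega)).trans ((finSumFinEquiv (m := d / h * h) (n := d % h)).symm.trans
      (Equiv.sumCongr finProdFinEquiv.symm (Equiv.refl _)))) hX hpres hfix
  have hlt : d % h < d := (Nat.mod_lt d hh).trans_le hhd
  refine ⟨Y, hYp, ⟨1, by rw [hY, one_smul]⟩, not_scalar_of_fixed hr2 hY hYp hYf hlt, fun W hW hWn hWd => ?_⟩
  set L : Module.End F (Fin d ⊕ Fin d → F) := Matrix.toLinAlgEquiv' Y
  have hLr : L ^ r = 1 := by simp only [L, ← map_pow, hY, map_one]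
  obtain ⟨E, hc, -, hu, hsum⟩ := exists_structure hr hLr
  have hB : ∀ u v, sympBil F d (L u) (L v) = sympBil F d u v := fun u v => by
    rw [sympBil_apply, sympBil_apply]; exact hYp u v
  obtain ⟨-, -, hCn⟩ := moved_facts (sympBil_isAlt d) (sympBil_nondegenerate (F := F) d) hB hc hu.inv
  have hfixed := (hWn.mono (inf_le_left : W ⊓ L.eigenspace 1 ≤ W)).two_mul_le_on (sympBil_isAlt d).isRefl hCn
    inf_le_right
  rw [hYf] at hfixed
  obtain ⟨a, ha⟩ := hu.dvd _ inf_le_right (hW.inf hu.inv)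
  refine hcond a (finrank F (W ⊓ L.eigenspace 1 : Submodule F (Fin d ⊕ Fin d → F))) (by omega) ?_
  rw [← hWd, hsum W hW, ha, mul_comm a]
  ring

/-- `i` even: a witness with as many types of blocks as possible. -/
theorem witness_types (hr2 : Odd r) (hr : (r : F) ≠ 0) {h : ℕ} (hh : 0 < h) (hhd : h ≤ d)
    (hi : orderOf (Fintype.card F : ZMod r) = 2 * h) (him : 2 * h ≤ m)
    (hbad : d / h < (r - 1) / (2 * h) + 2 * (m / (2 * h))) :
    ∃ Y : Matrix (Fin d ⊕ Fin d) (Fin d ⊕ Fin d) F,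
      (∀ u v, Cfsg.sympForm d F (Y *ᵥ u) (Y *ᵥ v) = Cfsg.sympForm d F u v) ∧ (∃ z : F, Y ^ r = z • 1) ∧
      (∀ z : F, Y ≠ z • 1) ∧
      ∀ W : Submodule F (Fin d ⊕ Fin d → F), Inv (Matrix.toLinAlgEquiv' Y) W → Null (sympBil F d) W →
        finrank F W ≠ m := by
  classical
  obtain ⟨S, hScard, -, hS⟩ := exists_factors (F := F) (r := r) hr
  have hrp : r.Prime := Fact.out
  rw [hi] at hScard
  have hs : (r - 1) / (2 * h) = S.card := by rw [← hScard, Nat.mul_div_cancel _ (by omega)]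
  rw [hs] at hbad
  have hs0 : 0 < S.card := Nat.pos_of_ne_zero fun h0 => by
    rw [h0, zero_mul] at hScard
    have := hrp.two_le
    omega
  have hn0 : 0 < d / h := Nat.div_pos hhd hh
  set o := min (d / h) S.card with ho
  set t := (d / h - o) / 2 with ht
  set k := o + 2 * t with hk
  have hdm := Nat.div_add_mod d h
  have hkn : k * h ≤ d := (Nat.mul_le_mul_right h (show k ≤ d / h by omega)).trans (Nat.div_mul_le_self d h)
  let ty : Fin k → Fin S.card := fun a => if ha : a.1 < o then ⟨a.1, by omega⟩ else ⟨0, hs0⟩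
  let f : Fin k → Polynomial F := fun a => (S.equivFin.symm (ty a)).1
  have hfa : ∀ a, f a ∈ S := fun a => (S.equivFin.symm (ty a)).2
  have hT : ∀ S' : Finset (Polynomial F), ∑ g ∈ S', Nat.card {a // f a = g} / 2 ≤ t := by
    intro S'
    set g₀ : Polynomial F := (S.equivFin.symm ⟨0, hs0⟩).1
    have hinj : ∀ a b, f a = f b → ty a = ty b := fun a b hab => S.equivFin.symm.injective (Subtype.ext hab)
    have h1 : ∀ g, g ≠ g₀ → Nat.card {a // f a = g} / 2 = 0 := fun g hg => by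
      have hsub : Subsingleton {a // f a = g} := ⟨fun a b => by
        have hab := hinj a.1 b.1 (a.2.trans b.2.symm)
        have hlt : ∀ c : {a // f a = g}, c.1.1 < o := fun c => by
          by_contra hc
          refine hg ?_
          rw [← c.2]
          simp [f, ty, hc, g₀]
        have := hlt a; have := hlt b
        simp only [ty, hlt a, hlt b, dite_true, Fin.mk.injEq] at hab
        exact Subtype.ext (Fin.ext hab)⟩
      have := Finite.card_le_one_iff_subsingleton.2 hsub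
      omega
    have h0 : Nat.card {a // f a = g₀} ≤ 1 + 2 * t := by
      refine le_of_le_of_eq (Nat.card_le_card_of_injective
        (fun a : {a // f a = g₀} => if h : a.1.1 < o then (⟨0, by omega⟩ : Fin (1 + 2 * t))
          else ⟨a.1.1 - o + 1, by have := a.1.2; omega⟩) fun a b hab => ?_) (Nat.card_fin _)
      have hz : ∀ c : {a // f a = g₀}, c.1.1 < o → c.1.1 = 0 := fun c hc => by
        have h2 := hinj c.1 ⟨0, by omega⟩ (c.2.trans (by simp [f, ty, g₀, show 0 < o by omega]))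
        simpa [ty, hc, show 0 < o by omega] using h2
      refine Subtype.ext (Fin.ext ?_)
      by_cases ha : a.1.1 < o <;> by_cases hb : b.1.1 < o <;> simp [ha, hb, Fin.ext_iff] at hab
      · rw [hz a ha, hz b hb]
      · omega
    calc ∑ g ∈ S', Nat.card {a // f a = g} / 2 = ∑ g ∈ S', if g = g₀ then Nat.card {a // f a = g₀} / 2 else 0 :=
          Finset.sum_congr rfl fun g _ => by split_ifs with hg <;> [rw [hg]; exact h1 g hg]
      _ ≤ t := by
        rw [Finset.sum_ite_eq']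
        split_ifs <;> omega
  obtain ⟨Y, hY, hYp, hYf, hW⟩ := exists_typed_witness (d := d) (l := d - k * h) (T := t) hr hh hi
    ((finCongr (by omega)).trans ((finSumFinEquiv (m := k * h) (n := d - k * h)).symm.trans
      (Equiv.sumCongr finProdFinEquiv.symm (Equiv.refl _)))) f (fun a => (hS _ (hfa a)).1)
    (fun a => (hS _ (hfa a)).2.1) (fun a => (hS _ (hfa a)).2.2.2) hT
  have hkpos : 0 < k * h := Nat.mul_pos (by omega) hh
  refine ⟨Y, hYp, ⟨1, by rw [hY, one_smul]⟩, not_scalar_of_fixed hr2 hY hYp hYf (by omega), fun W hWi hWn hWd => ?_⟩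
  have h1 := hW W hWi hWn
  rw [hWd] at h1
  have e1 : t * (2 * h) + (d - k * h) = d - o * h := by
    rw [hk, add_mul] at hkn ⊢
    have : t * (2 * h) = 2 * t * h := by ring
    omega
  rw [e1] at h1
  have hm := Nat.div_add_mod m (2 * h)
  have := Nat.mod_lt d hh
  rcases Nat.le_total (d / h) S.card with hle | hle
  · have : o = d / h := min_eq_left hle
    rw [this, mul_comm (d / h) h] at h1
    omega
  · have : o = S.card := min_eq_right hle
    rw [this] at h1
    have h2 : (d / h + 1) * h ≤ (S.card + 2 * (m / (2 * h))) * h := Nat.mul_le_mul_right h hbad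
    rw [add_mul, add_mul, one_mul, mul_comm (d / h) h,
      show 2 * (m / (2 * h)) * h = 2 * h * (m / (2 * h)) by ring] at h2
    omega


/-- Elements of prime order of PSp_n(q) with no fixed totally isotropic `m`-space. Here `T = PSp_n(q)` with `n = 2d ≥ 4`, `(n, q) ≠ (4, 2)`, realised through the symplectic matrices over the field `F` with `q` elements (preserving the standard alternating form); an element of `T` of prime order `r` is such a matrix `x` with `x^r` scalar and `x` not scalar. For `r ≠ p` let `i` be the multiplicative order of `q` modulo `r`, `c = i` for `i` even and `c = 2i` for `i` odd, and write `k = n mod c`, `ℓ = m mod i`, `ℓ' = m mod c`, `n' = ⌊n/i⌋`, `m' = ⌊m/i⌋`, `t = (r−1)/i`. Let `1 ≤ m ≤ n/2` and let `r` be a prime dividing the number of totally isotropic `m`-spaces. Then every element of `T` of order `r` fixes a totally isotropic `m`-space if and only if either (i) `r = 2 ≠ p` and (`m` is even or `q ≡ 1 (mod 4)`); or (ii) `r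 ≠ p`, `r > 2`, `i ≤ m`, `k ≥ 2ℓ`, and (`i` is odd or `n' − 2m' ≥ t`). -/
theorem result {F : Type*} [Field F] [Fintype F] {p : ℕ} [Fact p.Prime] [CharP F p] {q : ℕ} (hq : Fintype.card F = q)
    (d m : ℕ) (hd : 2 ≤ d) (hT : (d, q) ≠ (2, 2)) (hm : 1 ≤ m) (hmd : m ≤ d)
    (r : ℕ) [Fact r.Prime]
    (hrΩ : r ∣ Nat.card {W : Submodule F (Fin d ⊕ Fin d → F) // Module.finrank F ↥W = m ∧ (∀ u ∈ W, ∀ v ∈ W, Cfsg.sympForm d F u v = 0)})
    (i c : ℕ) (hi : i = orderOf (q : ZMod r)) (hc : c = if Even i then i else 2 * i) :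
    (∀ x : ↥(Matrix.symplecticGroup (Fin d) F),
      (∃ z : F, ((x ^ r : ↥(Matrix.symplecticGroup (Fin d) F)) : Matrix (Fin d ⊕ Fin d) (Fin d ⊕ Fin d) F) = z • (1 : Matrix (Fin d ⊕ Fin d) (Fin d ⊕ Fin d) F)) →
      (∀ z : F, (x : Matrix (Fin d ⊕ Fin d) (Fin d ⊕ Fin d) F) ≠ z • (1 : Matrix (Fin d ⊕ Fin d) (Fin d ⊕ Fin d) F)) →
      ∃ W : Submodule F (Fin d ⊕ Fin d → F), Module.finrank F ↥W = m ∧ (∀ u ∈ W, ∀ v ∈ W, Cfsg.sympForm d F u v = 0) ∧
        W.map (Matrix.toLin' (x : Matrix (Fin d ⊕ Fin d) (Fin d ⊕ Fin d) F)) ≤ W) ↔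
    ((r = 2 ∧ p ≠ 2 ∧ (Even m ∨ q % 4 = 1)) ∨
     (r ≠ p ∧ 2 < r ∧ i ≤ m ∧ 2 * (m % i) ≤ (2 * d) % c ∧ (Odd i ∨ (r - 1) / i + 2 * (m / i) ≤ (2 * d) / i))) := by
  classical
  obtain rfl := hq
  obtain rfl := hi
  set i := orderOf (Fintype.card F : ZMod r) with hi
  have hrp : r.Prime := Fact.out
  have hcount := CfsgLib.Derangements.NullInv.card_null_mul (sympBil_isAlt (F := F) d)
    (sympBil_nondegenerate (F := F) d) (d := d) (by simp [two_mul]) hmd
  have hdvd : r ∣ ∏ j : Fin m, (Fintype.card F ^ (2 * (d - j.1)) - 1) := by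
    rw [← hcount]
    refine Dvd.dvd.mul_right ?_ _
    simpa only [sympBil_apply] using hrΩ
  obtain ⟨j, -, hj⟩ := (hrp.prime.dvd_finset_prod_iff _).1 hdvd
  have hj0 : 0 < 2 * (d - j.1) := by have := j.2; omega
  have hrne : r ≠ p := fun h => by
    obtain ⟨k, -, hk⟩ := FiniteField.card F p
    have h3 : r ∣ Fintype.card F ^ (2 * (d - j.1)) := by
      rw [h, hk, ← pow_mul]
      exact dvd_pow_self p (Nat.mul_ne_zero k.ne_zero (by omega))
    have h4 := Nat.dvd_sub h3 hj
    rw [Nat.sub_sub_self (Nat.one_le_pow _ _ Fintype.card_pos)] at h4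
    exact hrp.not_dvd_one h4
  have hr : (r : F) ≠ 0 := fun h => hrne
    ((Nat.prime_dvd_prime_iff_eq Fact.out hrp).1 ((CharP.cast_eq_zero_iff F p r).1 h)).symm
  have hij : i ∣ 2 * (d - j.1) := by
    refine orderOf_dvd_of_pow_eq_one ?_
    have h1 : ((Fintype.card F ^ (2 * (d - j.1)) - 1 : ℕ) : ZMod r) = 0 := (ZMod.natCast_eq_zero_iff _ _).2 hj
    rw [Nat.cast_sub (Nat.one_le_pow _ _ Fintype.card_pos), sub_eq_zero] at h1
    simpa using h1
  have hipos : 0 < i := Nat.pos_of_ne_zero fun h0 => by rw [h0, zero_dvd_iff] at hij; omega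
  constructor
  · intro hall
    by_contra hcon
    rcases hrp.eq_two_or_odd' with hr2 | hr2
    · subst hr2
      have hp2 : p ≠ 2 := fun h => hrne h.symm
      have hm2 : ¬ Even m := fun h => hcon (Or.inl ⟨rfl, hp2, Or.inl h⟩)
      have hq4 : Fintype.card F % 4 = 3 := by
        have h1 : Fintype.card F % 4 ≠ 1 := fun h => hcon (Or.inl ⟨rfl, hp2, Or.inr h⟩)
        have h2 : Fintype.card F % 2 = 1 := FiniteField.odd_card_of_char_ne_two (by rwa [ringChar.eq F p])
        omega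
      obtain ⟨Y, h1, h2, h3, h4⟩ := witness_two (F := F) (m := m) (show 0 < d by omega) hm2 hq4
      exact witness_of_matrix Y h1 h2 h3 (fun W hW _ => h4 W hW) hall
    have hr3 : 2 < r := by have := hrp.two_le; have := Nat.odd_iff.1 hr2; omega
    have hcon' : ¬ (i ≤ m ∧ 2 * (m % i) ≤ (2 * d) % c ∧
        (Odd i ∨ (r - 1) / i + 2 * (m / i) ≤ (2 * d) / i)) :=
      fun h => hcon (Or.inr ⟨hrne, hr3, h.1, h.2.1, h.2.2⟩)
    obtain ⟨h, hh, hdh⟩ : ∃ h, 0 < h ∧ i = if Even i then 2 * h else h := by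
      by_cases he : Even i
      · obtain ⟨e, he'⟩ := he
        exact ⟨e, by omega, by rw [if_pos ⟨e, he'⟩]; omega⟩
      · exact ⟨i, hipos, by rw [if_neg he]⟩
    have hc2 : c = 2 * h := by
      rw [hc]
      split_ifs at hdh ⊢ <;> omega
    have hdj : h ∣ d - j.1 := by
      split_ifs at hdh with he
      · rw [hdh] at hij
        exact (Nat.mul_dvd_mul_iff_left two_pos).1 hij
      · rw [hdh] at hij he
        exact (Nat.coprime_two_right.2 (Nat.not_even_iff_odd.1 he)).dvd_of_dvd_mul_left hij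
    have hjlt := j.2
    have hhd : h ≤ d := (Nat.le_of_dvd (by omega) hdj).trans (Nat.sub_le _ _)
    have hlm : d % h < m := by
      obtain ⟨e, he⟩ := hdj
      have : d = j.1 + h * e := by omega
      rw [this, Nat.add_mul_mod_self_left]
      exact lt_of_le_of_lt (Nat.mod_le _ _) hjlt
    have hk2 : (2 * d) % c = 2 * (d % h) := by rw [hc2, Nat.mul_mod_mul_left]
    by_cases hfit : i ≤ m ∧ 2 * (m % i) ≤ (2 * d) % c
    · have hev : Even i := Nat.not_odd_iff_even.1 fun ho => hcon' ⟨hfit.1, hfit.2, Or.inl ho⟩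
      rw [if_pos hev] at hdh
      have hbad : ¬ (r - 1) / i + 2 * (m / i) ≤ (2 * d) / i := fun h' => hcon' ⟨hfit.1, hfit.2, Or.inr h'⟩
      rw [hdh, Nat.mul_div_mul_left _ _ two_pos] at hbad
      obtain ⟨Y, h1, h2, h3, h4⟩ := witness_types (m := m) hr2 hr hh hhd (hi.symm.trans hdh) (by omega) (by omega)
      exact witness_of_matrix Y h1 h2 h3 h4 hall
    · obtain ⟨Y, h1, h2, h3, h4⟩ := witness_fpf (m := m) hr2 hr hh hhd hdh fun a e he hsum => by
        rw [← hi] at hsum
        rw [hk2] at hfit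
        rcases Nat.eq_zero_or_pos a with rfl | ha
        · omega
        · have h1 := Nat.le_mul_of_pos_left i ha
          have h2 : e % i = m % i := by rw [← hsum, add_comm, Nat.add_mul_mod_self_right]
          have := Nat.mod_le e i
          omega
      exact witness_of_matrix Y h1 h2 h3 h4 hall
  · rintro (⟨rfl, hp2, hcase⟩ | ⟨-, hr3, -, hmod, hcnt⟩) x ⟨z, hz⟩ -
    · obtain ⟨W, hWd, hWn, hWi⟩ := exists_inv_two (by exact_mod_cast hr) (show 0 < d by omega) hmd hcase x hz
      exact ⟨W, hWd, fun u hu v hv => by rw [← sympBil_apply]; exact hWn u hu v hv, hWi⟩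
    · obtain ⟨W, hWd, hWn, hWi⟩ := exists_inv_of_odd (hrp.odd_of_ne_two (by omega)) hr (show 0 < d by omega) hmd
        (by rw [hc] at hmod; exact hmod) hcnt x hz
      exact ⟨W, hWd, fun u hu v hv => by rw [← sympBil_apply]; exact hWn u hu v hv, hWi⟩

end Cfsg.Agent.S5955
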