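import Cfsg.Statements.S5956
import Cfsg.Agent.S5955
import Cfsg.Agent.Lib.Derangements.SympUnipotent
-- import your own Cfsg.Agent.* helpers here

set_option autoImplicit false
open scoped MatrixGroups Matrix
open Cfsg

namespace Cfsg.Agent.S5956

open Module CfsgLib.Derangements CfsgLib.Classical CfsgLib.Derangements.LinElusive CfsgLib.Derangements.NullInv
  CfsgLib.Derangements.NondegInv

variable {F : Type*} [Field F] {d m : ℕ}

theorem nondeg_iff {W : Submodule F (Fin d ⊕ Fin d → F)} :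
    (∀ u ∈ W, u ≠ 0 → ∃ v ∈ W, Cfsg.sympForm d F u v ≠ 0) ↔ NondegOn (sympBil F d) W := by
  rw [nondegOn_iff]
  constructor
  · intro h u hu hu'
    by_contra h0
    obtain ⟨v, hv, hne⟩ := h u hu h0
    rw [← sympBil_apply, alt_swap (sympBil_isAlt d), hu' v hv, neg_zero] at hne
    exact hne rfl
  · intro h u hu h0
    by_contra hcon
    push Not at hcon
    refine h0 (h u hu fun w hw => ?_)
    rw [alt_swap (sympBil_isAlt d), sympBil_apply, hcon w hw, neg_zero]

/-- A matrix preserving the form gives a witness. -/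
theorem witness {r : ℕ} (Y : Matrix (Fin d ⊕ Fin d) (Fin d ⊕ Fin d) F)
    (hpres : ∀ u v, Cfsg.sympForm d F (Y *ᵥ u) (Y *ᵥ v) = Cfsg.sympForm d F u v) (hz : ∃ z : F, Y ^ r = z • 1)
    (hns : ∀ z : F, Y ≠ z • 1)
    (hW : ∀ W : Submodule F (Fin d ⊕ Fin d → F), Inv (Matrix.toLinAlgEquiv' Y) W → NondegOn (sympBil F d) W →
      finrank F W ≠ m) :
    ¬ ∀ x : ↥(Matrix.symplecticGroup (Fin d) F),
      (∃ z : F, ((x ^ r : ↥(Matrix.symplecticGroup (Fin d) F)) : Matrix (Fin d ⊕ Fin d) (Fin d ⊕ Fin d) F) = z • (1 : Matrix (Fin d ⊕ Fin d) (Fin d ⊕ Fin d) F)) →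
      (∀ z : F, (x : Matrix (Fin d ⊕ Fin d) (Fin d ⊕ Fin d) F) ≠ z • (1 : Matrix (Fin d ⊕ Fin d) (Fin d ⊕ Fin d) F)) →
      ∃ W : Submodule F (Fin d ⊕ Fin d → F), Module.finrank F ↥W = m ∧ (∀ u ∈ W, u ≠ 0 → ∃ v ∈ W, Cfsg.sympForm d F u v ≠ 0) ∧
        W.map (Matrix.toLin' (x : Matrix (Fin d ⊕ Fin d) (Fin d ⊕ Fin d) F)) ≤ W := fun h => by
  obtain ⟨W, hWd, hWn, hWi⟩ := h ⟨Y, (mem_symplecticGroup_iff_preserves d).2 hpres⟩
    (by obtain ⟨z, hz⟩ := hz; exact ⟨z, by rw [SubmonoidClass.coe_pow]; exact hz⟩) hns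
  exact hW W hWi (nondeg_iff.1 hWn) hWd

theorem isom (x : ↥(Matrix.symplecticGroup (Fin d) F)) (u v : Fin d ⊕ Fin d → F) :
    sympBil F d (Matrix.toLinAlgEquiv' x.1 u) (Matrix.toLinAlgEquiv' x.1 v) = sympBil F d u v := by
  rw [sympBil_apply, sympBil_apply]
  exact (mem_symplecticGroup_iff_preserves d).1 x.2 u v

theorem isom_smul (x : ↥(Matrix.symplecticGroup (Fin d) F)) {z : F} (hzz : z * z = 1) (u v : Fin d ⊕ Fin d → F) :
    sympBil F d ((z • Matrix.toLinAlgEquiv' x.1 : Module.End F _) u)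
      ((z • Matrix.toLinAlgEquiv' x.1 : Module.End F _) v) = sympBil F d u v := by
  simp only [LinearMap.smul_apply, map_smul, smul_eq_mul, isom x u v]
  rw [← mul_assoc, hzz, one_mul]

theorem smul_pow_eq_one {r : ℕ} (hr : Odd r) (x : ↥(Matrix.symplecticGroup (Fin d) F)) {z : F} (hzz : z * z = 1)
    (hz : ((x ^ r : ↥(Matrix.symplecticGroup (Fin d) F)) : Matrix (Fin d ⊕ Fin d) (Fin d ⊕ Fin d) F) = z • 1) :
    (z • Matrix.toLinAlgEquiv' x.1 : Module.End F (Fin d ⊕ Fin d → F)) ^ r = 1 := by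
  obtain ⟨k, hk⟩ := hr
  rw [SubmonoidClass.coe_pow] at hz
  rw [smul_pow, ← map_pow, hz, map_smul, map_one, smul_smul]
  have : z ^ r * z = 1 := by
    rw [hk, ← pow_succ, show 2 * k + 1 + 1 = 2 * (k + 1) by ring, pow_mul, sq, hzz, one_pow]
  rw [this, one_smul]

theorem inv_of_smul (x : ↥(Matrix.symplecticGroup (Fin d) F)) {z : F} (hzz : z * z = 1)
    {W : Submodule F (Fin d ⊕ Fin d → F)}
    (h : Inv (z • Matrix.toLinAlgEquiv' x.1 : Module.End F (Fin d ⊕ Fin d → F)) W) :
    Inv (Matrix.toLinAlgEquiv' x.1) W := Inv.of_mem fun u hu => by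
  have h1 := W.smul_mem z (h.mem hu)
  simpa [smul_smul, hzz] using h1

theorem injective_of_isom {V : Type*} [AddCommGroup V] [Module F V] {B : V →ₗ[F] V →ₗ[F] F} (hN : B.Nondegenerate)
    {L : Module.End F V} (hB : ∀ u v, B (L u) (L v) = B u v) : Function.Injective L :=
  (injective_iff_map_eq_zero L).2 fun u hu => hN.1 u fun v => by rw [← hB, hu, map_zero, LinearMap.zero_apply]

section Blocks

/-- The size of the space spanned by a piece. -/
def size (e : ℕ) : ℕ := if Even e then e else 2 * e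

/-- The block sizes in the pieces. -/
def blocks (P : Multiset ℕ) : Multiset ℕ := P.bind fun e => if Even e then {e} else {e, e}

theorem blocks_cons (a : ℕ) (P : Multiset ℕ) :
    blocks (a ::ₘ P) = (if Even a then {a} else {a, a}) + blocks P := Multiset.cons_bind _ _ _

theorem blocks_sum (P : Multiset ℕ) : (blocks P).sum = (P.map size).sum := by
  induction P using Multiset.induction_on with
  | empty => simp [blocks]
  | cons a P ih =>
    rw [blocks_cons, Multiset.sum_add, ih, Multiset.map_cons, Multiset.sum_cons]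
    simp only [size]
    split_ifs <;> simp [Multiset.insert_eq_cons, two_mul]

theorem mem_blocks {P : Multiset ℕ} {a : ℕ} (h : a ∈ blocks P) : a ∈ P := by
  obtain ⟨e, he, hae⟩ := Multiset.mem_bind.1 h
  split_ifs at hae <;> simp [Multiset.insert_eq_cons] at hae <;> subst hae <;> exact he

theorem even_count_blocks (P : Multiset ℕ) (a : ℕ) (ha : Odd a) : Even ((blocks P).count a) := by
  induction P using Multiset.induction_on with
  | empty => simp [blocks]
  | cons b P ih =>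
    rw [blocks_cons, Multiset.count_add, Nat.even_add]
    refine iff_of_true ?_ ih
    split_ifs with hb
    · rw [Multiset.count_singleton, if_neg (by rintro rfl; exact Nat.not_even_iff_odd.2 ha hb)]
      exact Even.zero
    · simp only [Multiset.insert_eq_cons, Multiset.count_cons, Multiset.count_singleton]
      split_ifs <;> simp

theorem exists_select : ∀ (P ν : Multiset ℕ), ν ≤ blocks P → (∀ a, Odd a → Even (ν.count a)) →
    ∃ Q ≤ P, (Q.map size).sum = ν.sum := by
  intro P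
  induction P using Multiset.induction_on with
  | empty =>
    intro ν hν _
    exact ⟨0, le_rfl, by simp [Multiset.le_zero.1 (hν.trans_eq (by simp [blocks]))]⟩
  | cons b P ih =>
    intro ν hν hev
    rw [blocks_cons] at hν
    by_cases hb : b ∈ ν
    · obtain ⟨ν', rfl⟩ := Multiset.exists_cons_of_mem hb
      by_cases hbe : Even b
      · rw [if_pos hbe, Multiset.singleton_add, Multiset.cons_le_cons_iff] at hν
        obtain ⟨Q, hQ, hQs⟩ := ih ν' hν fun a ha => by
          have h := hev a ha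
          rwa [Multiset.count_cons_of_ne (by rintro rfl; exact Nat.not_even_iff_odd.2 ha hbe)] at h
        exact ⟨b ::ₘ Q, (Multiset.cons_le_cons_iff b).2 hQ, by simp [size, hbe, hQs]⟩
      · have hb2 : b ∈ ν' := by
          by_contra h2
          have h := hev b (Nat.not_even_iff_odd.1 hbe)
          rw [Multiset.count_cons_self, Multiset.count_eq_zero_of_notMem h2] at h
          exact Nat.not_even_one h
        obtain ⟨ν'', rfl⟩ := Multiset.exists_cons_of_mem hb2
        rw [if_neg hbe, Multiset.insert_eq_cons, Multiset.cons_add, Multiset.singleton_add,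
          Multiset.cons_le_cons_iff, Multiset.cons_le_cons_iff] at hν
        obtain ⟨Q, hQ, hQs⟩ := ih ν'' hν fun a ha => by
          have h := hev a ha
          rw [Multiset.count_cons, Multiset.count_cons] at h
          split_ifs at h with hab
          · rw [add_assoc, Nat.even_add] at h
            exact h.2 even_two
          · simpa using h
        refine ⟨b ::ₘ Q, (Multiset.cons_le_cons_iff b).2 hQ, ?_⟩
        simp [size, hbe, hQs]
        ring
    · obtain ⟨Q, hQ, hQs⟩ := ih ν (by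
        refine Multiset.le_iff_count.2 fun a => ?_
        by_cases hab : a = b
        · subst hab; rw [Multiset.count_eq_zero_of_notMem hb]; exact Nat.zero_le _
        · have h := Multiset.count_le_of_le a hν
          rw [Multiset.count_add] at h
          split_ifs at h <;> simp [Multiset.insert_eq_cons, Multiset.count_singleton, hab] at h <;> exact h) hev
      exact ⟨Q, hQ.trans (Multiset.le_cons_self _ _), hQs⟩

end Blocks

variable [Fintype F]

/-- `r = p` odd: the partition condition suffices. -/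
theorem fixed_unipotent {p : ℕ} [Fact p.Prime] [CharP F p] (hp : 2 < p) (hd : 0 < d)
    (hcond : ∀ μ : Multiset ℕ, (∀ a ∈ μ, 0 < a ∧ a ≤ p) → (∀ a : ℕ, Odd a → Even (μ.count a)) → μ.sum = 2 * d →
      ∃ ν : Multiset ℕ, ν ≤ μ ∧ ν.sum = m ∧ ∀ a : ℕ, Odd a → Even (ν.count a))
    (x : ↥(Matrix.symplecticGroup (Fin d) F)) {z : F}
    (hz : ((x ^ p : ↥(Matrix.symplecticGroup (Fin d) F)) : Matrix (Fin d ⊕ Fin d) (Fin d ⊕ Fin d) F) = z • 1) :
    ∃ W : Submodule F (Fin d ⊕ Fin d → F), finrank F W = m ∧ NondegOn (sympBil F d) W ∧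
      Inv (Matrix.toLinAlgEquiv' x.1) W := by
  have hzz := S5955.z_sq hd x hz
  have hpodd : Odd p := (Fact.out : p.Prime).odd_of_ne_two (by omega)
  have h2 : (2 : F) ≠ 0 := by
    intro h
    have h' : ((2 : ℕ) : F) = 0 := by exact_mod_cast h
    have := Nat.le_of_dvd two_pos ((CharP.cast_eq_zero_iff F p 2).1 h')
    omega
  set L : Module.End F (Fin d ⊕ Fin d → F) := z • Matrix.toLinAlgEquiv' x.1
  have hB := isom_smul x hzz
  haveI : Nonempty (Fin d ⊕ Fin d) := ⟨Sum.inl ⟨0, hd⟩⟩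
  haveI : CharP (Module.End F (Fin d ⊕ Fin d → F)) p :=
    charP_of_injective_algebraMap (algebraMap F (Module.End F (Fin d ⊕ Fin d → F))).injective p
  have hN : (L - 1) ^ p = 0 := by
    rw [sub_pow_char_of_commute p (Commute.one_right L), smul_pow_eq_one hpodd x hzz hz, one_pow, sub_self]
  have hA := sympBil_isAlt (F := F) d
  obtain ⟨P, hP, hPs, hPsel⟩ := exists_pieces hA.isRefl (injective_of_isom (sympBil_nondegenerate (F := F) d) hB) hB
    size (fun e => 1 ≤ e ∧ e ≤ p) (E := (⊤ : Submodule F (Fin d ⊕ Fin d → F)))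
    (fun X _ hX hXn hne => by
      obtain ⟨U, e, h1, h3, h4, h5, h6, h7⟩ := SympUni.exists_step hA hB hN hX hXn hne
      refine ⟨U, e, h1, h3, h4, ⟨h5, h6⟩, ?_, ?_⟩
      · rcases h7 with ⟨h8, h9⟩ | ⟨h8, h9⟩
        · rw [h8, size, if_pos h9]
        · rw [h8, size, if_neg (Nat.not_even_iff_odd.2 (h9.resolve_left h2))]
      · rw [size]; split_ifs <;> omega)
    (Inv.of_mem fun _ _ => trivial) (nondegOn_iff.2 fun v _ hv => (sympBil_nondegenerate (F := F) d).2 v fun w => hv w trivial)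
  obtain ⟨ν, hν, hνs, hνe⟩ := hcond (blocks P) (fun a ha => hP a (mem_blocks ha)) (even_count_blocks P)
    (by rw [blocks_sum, hPs, finrank_top]; simp [two_mul])
  obtain ⟨Q, hQ, hQs⟩ := exists_select P ν hν hνe
  obtain ⟨U, -, hU, hUn, hUd⟩ := hPsel Q hQ
  exact ⟨U, by rw [hUd, hQs, hνs], hUn, inv_of_smul x hzz hU⟩

/-- `r = p` odd: a witness. -/
theorem witness_unipotent {p : ℕ} [Fact p.Prime] [CharP F p] (hp : 2 < p) (hm : Even m) (hmd : m < d)
    {μ : Multiset ℕ} (hμp : ∀ a ∈ μ, 0 < a ∧ a ≤ p) (hμo : ∀ a : ℕ, Odd a → Even (μ.count a))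
    (hμs : μ.sum = 2 * d)
    (hno : ¬ ∃ ν : Multiset ℕ, ν ≤ μ ∧ ν.sum = m ∧ ∀ a : ℕ, Odd a → Even (ν.count a)) :
    ∃ Y : Matrix (Fin d ⊕ Fin d) (Fin d ⊕ Fin d) F,
      (∀ u v, Cfsg.sympForm d F (Y *ᵥ u) (Y *ᵥ v) = Cfsg.sympForm d F u v) ∧ (∃ z : F, Y ^ p = z • 1) ∧
      (∀ z : F, Y ≠ z • 1) ∧
      ∀ W : Submodule F (Fin d ⊕ Fin d → F), Inv (Matrix.toLinAlgEquiv' Y) W → NondegOn (sympBil F d) W →
        finrank F W ≠ m := by
  have h2 : (2 : F) ≠ 0 := by
    intro h
    have h' : ((2 : ℕ) : F) = 0 := by exact_mod_cast h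
    have := Nat.le_of_dvd two_pos ((CharP.cast_eq_zero_iff F p 2).1 h')
    omega
  have hne : ∃ e ∈ μ, 2 ≤ e := by
    by_contra hcon
    push Not at hcon
    have h1 : μ = Multiset.replicate μ.card 1 :=
      Multiset.eq_replicate_card.2 fun e he => by have := hcon e he; have := (hμp e he).1; omega
    refine hno ⟨Multiset.replicate m 1, ?_, by simp, fun a _ => ?_⟩
    · rw [h1, ← Multiset.le_count_iff_replicate_le, Multiset.count_replicate_self]
      rw [h1, Multiset.sum_replicate, smul_eq_mul, mul_one] at hμs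
      omega
    · rw [Multiset.count_replicate]; split_ifs
      · exact hm
      · exact Even.zero
  obtain ⟨M, hM, hMp, hMs, hMN, hMr⟩ := SympUni.exists_element (p := p) h2 (fun e he => (hμp e he).2) hne
    (SympUni.real_symp (F := F) μ d hμo hμs)
  refine ⟨M, hMp, ⟨1, by rw [hM, one_smul]⟩, hMs, fun W hW hWn hWd => hno ?_⟩
  obtain ⟨ν, h1, h3, h4⟩ := SympUni.exists_submultiset h2 (sympBil_isAlt (F := F) d)
    (L := Matrix.toLinAlgEquiv' M) (fun u v => by rw [sympBil_apply, sympBil_apply]; exact hMp u v) hMN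
    (fun h => by have := (hμp 0 h).1; omega) hMr hWn hW
  exact ⟨ν, h1, h3.trans hWd, h4⟩

/-- `r = p = 2`: forward direction. -/
theorem fixed_two (h2 : (2 : F) = 0) (hd : 0 < d) (hm : Even m) (hmd : m < d)
    (hcase : (2 * d) % 4 = 2 ∨ m % 4 = 0)
    (x : ↥(Matrix.symplecticGroup (Fin d) F)) {z : F}
    (hz : ((x ^ 2 : ↥(Matrix.symplecticGroup (Fin d) F)) : Matrix (Fin d ⊕ Fin d) (Fin d ⊕ Fin d) F) = z • 1) :
    ∃ W : Submodule F (Fin d ⊕ Fin d → F), finrank F W = m ∧ NondegOn (sympBil F d) W ∧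
      Inv (Matrix.toLinAlgEquiv' x.1) W := by
  have hzz := S5955.z_sq hd x hz
  have hz1 : z = 1 := by
    rcases mul_self_eq_one_iff.1 hzz with h | h
    · exact h
    · rw [h, neg_eq_iff_add_eq_zero, one_add_one_eq_two, h2]
  set L : Module.End F (Fin d ⊕ Fin d → F) := Matrix.toLinAlgEquiv' x.1
  have hN : (L - 1) ^ 2 = 0 := by
    rw [SubmonoidClass.coe_pow, hz1, one_smul] at hz
    have hL2 : L ^ 2 = 1 := by simp only [L, ← map_pow, hz, map_one]
    have h22 : (2 : Module.End F (Fin d ⊕ Fin d → F)) = 0 := by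
      rw [show (2 : Module.End F (Fin d ⊕ Fin d → F)) = algebraMap F _ 2 from (map_ofNat _ 2).symm, h2, map_zero]
    rw [sq, sub_mul, mul_sub, one_mul, mul_one, ← sq, hL2,
      show (1 - L - (L - 1) : Module.End F (Fin d ⊕ Fin d → F)) = 2 * (1 - L) by rw [two_mul]; abel, h22, zero_mul]
  have hA := sympBil_isAlt (F := F) d
  have hN' := sympBil_nondegenerate (F := F) d
  obtain ⟨P, hP, hPs, hPsel⟩ := exists_pieces hA.isRefl (injective_of_isom hN' (isom x)) (isom x)
    id (fun e => e = 2 ∨ e = 4) (E := (⊤ : Submodule F (Fin d ⊕ Fin d → F)))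
    (fun X _ hX hXn hne => by
      obtain ⟨U, e, h1, h3, h4, h5, h6, h7⟩ := SympUni.exists_step hA (isom x) hN hX hXn hne
      refine ⟨U, finrank F U, h1, h3, h4, ?_, rfl, ?_⟩
      · rcases h7 with ⟨h8, h9⟩ | ⟨h8, -⟩
        · rw [Nat.even_iff] at h9; omega
        · omega
      · show 0 < finrank F U
        rcases h7 with ⟨h8, -⟩ | ⟨h8, -⟩ <;> omega)
    (Inv.of_mem fun _ _ => trivial) (nondegOn_iff.2 fun v _ hv => hN'.2 v fun w => hv w trivial)
  have hPeq : P = Multiset.replicate (P.count 2) 2 + Multiset.replicate (P.count 4) 4 := by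
    ext a
    rw [Multiset.count_add, Multiset.count_replicate, Multiset.count_replicate]
    by_cases h : a = 2 ∨ a = 4
    · rcases h with rfl | rfl <;> simp
    · push Not at h
      rw [if_neg h.1.symm, if_neg h.2.symm, Multiset.count_eq_zero]
      exact fun ha => (hP a ha).elim h.1 h.2
  rw [Multiset.map_id, finrank_top, hPeq, Multiset.sum_add, Multiset.sum_replicate, Multiset.sum_replicate] at hPs
  simp at hPs
  obtain ⟨k, hk⟩ := hm
  obtain ⟨a, c, ha, hc, hac⟩ : ∃ a c, a ≤ P.count 2 ∧ c ≤ P.count 4 ∧ 2 * a + 4 * c = m := by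
    rcases Nat.le_total (m / 4) (P.count 4) with h | h
    · exact ⟨(m % 4) / 2, m / 4, by omega, h, by omega⟩
    · exact ⟨(m - 4 * P.count 4) / 2, P.count 4, by omega, le_rfl, by omega⟩
  obtain ⟨U, -, hU, hUn, hUd⟩ := hPsel (Multiset.replicate a 2 + Multiset.replicate c 4) (by
    rw [hPeq]
    exact add_le_add (Multiset.replicate_mono _ ha) (Multiset.replicate_mono _ hc))
  refine ⟨U, ?_, hUn, hU⟩
  rw [hUd]
  simp
  omega

/-- A self-adjoint map with alternating pairing has even rank. -/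
theorem even_rank_alt {V : Type*} [AddCommGroup V] [Module F V] [FiniteDimensional F V] {B : V →ₗ[F] V →ₗ[F] F}
    (hN : B.Nondegenerate) {T : Module.End F V} (hadj : ∀ u v, B (T u) v = B u (T v))
    (hβ : ∀ u, B (T u) u = 0) : Even (finrank F (LinearMap.range T)) := by
  let β : V →ₗ[F] V →ₗ[F] F := B.comp T
  have hβA : β.IsAlt := hβ
  obtain ⟨C, hC⟩ := Submodule.exists_isCompl (LinearMap.ker T)
  have hker : ∀ z ∈ LinearMap.ker T, ∀ w, β w z = 0 := fun z hz w => by
    show B (T w) z = 0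
    rw [hadj, LinearMap.mem_ker.1 hz, map_zero]
  have hnC : NondegOn β C := by
    rw [nondegOn_iff]
    intro x hx hx'
    have hzero : T x = 0 := by
      refine hN.1 _ fun v => ?_
      obtain ⟨z, hz, c, hc, rfl⟩ := Submodule.mem_sup.1 (hC.sup_eq_top ▸ Submodule.mem_top (x := v))
      show β x (z + c) = 0
      rw [map_add, hker z hz x, zero_add, alt_swap (B := β) hβA, hx' c hc, neg_zero]
    exact Submodule.disjoint_def.1 hC.disjoint x (LinearMap.mem_ker.2 hzero) hx
  obtain ⟨k, b, -⟩ := exists_sympBasis (B := restrictForm β C) (fun x => hβ x)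
    (restrictForm_nondegenerate hβA.isRefl hnC)
  have e1 := LinearMap.finrank_range_add_finrank_ker T
  have e2 := Submodule.finrank_add_eq_of_isCompl hC
  have e3 : finrank F C = k + k := by rw [Module.finrank_eq_card_basis b]; simp
  exact ⟨k, by omega⟩

/-- `r = p = 2`, `d` even, `m / 2` odd: an involution of type a. -/
theorem witness_char_two (h2 : (2 : F) = 0) (hd : Even d) (hd0 : 0 < d) (hm : m % 4 = 2) :
    ∃ Y : Matrix (Fin d ⊕ Fin d) (Fin d ⊕ Fin d) F,
      (∀ u v, Cfsg.sympForm d F (Y *ᵥ u) (Y *ᵥ v) = Cfsg.sympForm d F u v) ∧ (∃ z : F, Y ^ 2 = z • 1) ∧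
      (∀ z : F, Y ≠ z • 1) ∧
      ∀ W : Submodule F (Fin d ⊕ Fin d → F), Inv (Matrix.toLinAlgEquiv' Y) W → NondegOn (sympBil F d) W →
        finrank F W ≠ m := by
  obtain ⟨d', hd'⟩ := hd
  let e : Fin d ≃ Fin 2 × Fin d' := (finCongr (show d = 2 * d' by omega)).trans finProdFinEquiv.symm
  let Nf : Module.End F (Fin d ⊕ Fin d → F) :=
    { toFun := fun v => Sum.elim
        (fun j => if (e j).1 = 0 then v (Sum.inl (e.symm (1, (e j).2))) else 0)
        (fun j => if (e j).1 = 1 then v (Sum.inr (e.symm (0, (e j).2))) else 0)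
      map_add' := fun u v => by funext s; rcases s with j | j <;> simp <;> split_ifs <;> simp
      map_smul' := fun c v => by funext s; rcases s with j | j <;> simp }
  have hNl : ∀ v j, Nf v (Sum.inl j) = if (e j).1 = 0 then v (Sum.inl (e.symm (1, (e j).2))) else 0 :=
    fun v j => rfl
  have hNr : ∀ v j, Nf v (Sum.inr j) = if (e j).1 = 1 then v (Sum.inr (e.symm (0, (e j).2))) else 0 :=
    fun v j => rfl
  have hsum : ∀ f : Fin d → F, ∑ j, f j = ∑ k, (f (e.symm (0, k)) + f (e.symm (1, k))) := fun f => by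
    rw [← e.symm.sum_comp, Fintype.sum_prod_type, Fin.sum_univ_two, Finset.sum_add_distrib]
  have hNN : Nf * Nf = 0 := LinearMap.ext fun v => funext fun s => by
    rw [Module.End.mul_apply]
    rcases s with j | j
    · rw [hNl]; split_ifs with h
      · rw [hNl, if_neg (by simp)]; rfl
      · rfl
    · rw [hNr]; split_ifs with h
      · rw [hNr, if_neg (by simp)]; rfl
      · rfl
  set L : Module.End F (Fin d ⊕ Fin d → F) := 1 + Nf with hL
  have hskew : ∀ u v, Cfsg.sympForm d F (Nf u) v + Cfsg.sympForm d F u (Nf v) = 0 ∧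
      Cfsg.sympForm d F (Nf u) (Nf v) = 0 ∧ Cfsg.sympForm d F (Nf u) u = 0 := fun u v => by
    simp only [sympForm_eq]
    refine ⟨?_, ?_, ?_⟩
    · rw [← Finset.sum_add_distrib, hsum]
      refine Finset.sum_eq_zero fun k _ => ?_
      simp [hNl, hNr]
      linear_combination (u (Sum.inr (e.symm (0, k))) * v (Sum.inl (e.symm (1, k))) -
        u (Sum.inl (e.symm (1, k))) * v (Sum.inr (e.symm (0, k)))) * h2
    · rw [hsum]
      refine Finset.sum_eq_zero fun k _ => ?_
      simp [hNl, hNr]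
    · rw [hsum]
      refine Finset.sum_eq_zero fun k _ => ?_
      simp [hNl, hNr]
      ring
  have hB : ∀ u v, sympBil F d (L u) (L v) = sympBil F d u v := fun u v => by
    obtain ⟨h1, h3, -⟩ := hskew u v
    rw [← sympBil_apply, ← sympBil_apply] at h1
    rw [← sympBil_apply] at h3
    simp only [hL, LinearMap.add_apply, Module.End.one_apply, map_add, h3]
    linear_combination h1
  let Y := (Matrix.toLinAlgEquiv' (R := F) (n := Fin d ⊕ Fin d)).symm L
  have hY : Matrix.toLinAlgEquiv' Y = L := AlgEquiv.apply_symm_apply _ _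
  have h22 : (2 : Module.End F (Fin d ⊕ Fin d → F)) = 0 := by
    rw [show (2 : Module.End F (Fin d ⊕ Fin d → F)) = algebraMap F _ 2 from (map_ofNat _ 2).symm, h2, map_zero]
  refine ⟨Y, fun u v => ?_, ⟨1, ?_⟩, fun z hz => ?_, fun W hW hWn hWd => ?_⟩
  · rw [← Matrix.toLinAlgEquiv'_apply, ← Matrix.toLinAlgEquiv'_apply, hY, ← sympBil_apply, ← sympBil_apply, hB]
  · apply (Matrix.toLinAlgEquiv' (R := F) (n := Fin d ⊕ Fin d)).injective
    rw [map_pow, hY, one_smul, map_one, hL, sq, add_mul, mul_add, mul_add, hNN, one_mul, mul_one, one_mul,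
      add_zero, add_assoc, ← two_mul, h22, zero_mul, add_zero]
  · have h1 : L = z • 1 := by rw [← hY, hz, map_smul, map_one]
    have h3 := congrFun (LinearMap.congr_fun h1 (Pi.single (Sum.inl (e.symm (1, ⟨0, by omega⟩))) 1))
      (Sum.inl (e.symm (0, ⟨0, by omega⟩)))
    simp [hL, hNl, Pi.single_apply] at h3
  rw [hY] at hW
  set B := sympBil F d
  have hA := sympBil_isAlt (F := F) d
  have hWN : W.map Nf ≤ W := by
    rintro _ ⟨w, hw, rfl⟩
    have := W.sub_mem (hW.mem hw) hw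
    simpa [hL] using this
  have hPN : (perp B W).map Nf ≤ perp B W := by
    rintro _ ⟨v, hv, rfl⟩
    refine mem_perp.2 fun w hw => ?_
    have h1 := (hskew w v).1
    rw [← sympBil_apply, ← sympBil_apply] at h1
    have h3 : B (Nf w) v = 0 := mem_perp.1 hv _ (hWN ⟨w, hw, rfl⟩)
    rw [h3, zero_add] at h1
    exact h1
  have hrank : ∀ Z : Submodule F (Fin d ⊕ Fin d → F), Z.map Nf ≤ Z → 2 * finrank F (Z.map Nf) ≤ finrank F Z :=
    fun Z hZ => by
    have h1 := JordanRanks.finrank_map_add_inf_ker Nf Z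
    have h3 : Z.map Nf ≤ Z ⊓ LinearMap.ker Nf := le_inf hZ (by
      rintro _ ⟨w, -, rfl⟩
      rw [LinearMap.mem_ker, ← Module.End.mul_apply, hNN, LinearMap.zero_apply])
    have h4 := Submodule.finrank_mono h3
    omega
  have htot := JordanRanks.finrank_range_pow_eq_add Nf hWn.isCompl hWN hPN 1
  rw [pow_one] at htot
  have hrankN : finrank F (LinearMap.range Nf) = d := by
    have h1 := Nf.finrank_range_add_finrank_ker
    have h3 : LinearMap.ker Nf ≤ LinearMap.range Nf := fun v hv => by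
      refine ⟨Sum.elim (fun j => if (e j).1 = 1 then v (Sum.inl (e.symm (0, (e j).2))) else 0)
        (fun j => if (e j).1 = 0 then v (Sum.inr (e.symm (1, (e j).2))) else 0), funext fun s => ?_⟩
      rw [LinearMap.mem_ker] at hv
      rcases s with j | j
      · obtain ⟨⟨a, k⟩, rfl⟩ := e.symm.surjective j
        fin_cases a
        · simp [hNl]
        · have h4 := congrFun hv (Sum.inl (e.symm (0, k)))
          simp [hNl] at h4
          simp [hNl, h4]
      · obtain ⟨⟨a, k⟩, rfl⟩ := e.symm.surjective j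
        fin_cases a
        · have h4 := congrFun hv (Sum.inr (e.symm (1, k)))
          simp [hNr] at h4
          simp [hNr, h4]
        · simp [hNr]
    have h5 : LinearMap.range Nf ≤ LinearMap.ker Nf := by
      rintro _ ⟨w, rfl⟩
      rw [LinearMap.mem_ker, ← Module.End.mul_apply, hNN, LinearMap.zero_apply]
    rw [le_antisymm h3 h5] at h1
    simp at h1
    omega
  have hp := hWn.finrank_perp
  simp only [Module.finrank_fintype_fun_eq_card, Fintype.card_sum, Fintype.card_fin] at hp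
  have r1 := hrank W hWN
  have r2 := hrank _ hPN
  -- the rank on `W` is even
  let T : Module.End F W := Nf.restrict fun w hw => hWN ⟨w, hw, rfl⟩
  have heven : Even (finrank F (LinearMap.range T)) := even_rank_alt (B := restrictForm B W)
    (restrictForm_nondegenerate hA.isRefl hWn) (fun u v => by
      have h1 := (hskew u v).1
      rw [← sympBil_apply, ← sympBil_apply] at h1
      show B (Nf u) v = B u (Nf v)
      linear_combination h1 - B (u : Fin d ⊕ Fin d → F) (Nf v) * h2)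
    (fun u => by
      show B (Nf u) u = 0
      rw [sympBil_apply]
      exact (hskew u u).2.2)
  have hmap : W.map Nf = (LinearMap.range T).map W.subtype := by
    ext v
    constructor
    · rintro ⟨w, hw, rfl⟩
      exact ⟨T ⟨w, hw⟩, LinearMap.mem_range_self _ _, rfl⟩
    · rintro ⟨_, ⟨w, rfl⟩, rfl⟩
      exact ⟨w, w.2, rfl⟩
  rw [hmap, (Submodule.equivMapOfInjective _ W.injective_subtype _).finrank_eq.symm] at r1 htot
  rw [Nat.even_iff] at heven
  omega

/-- `r = 2 ≠ p`: always. -/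
theorem fixed_semisimple_two (h2 : (2 : F) ≠ 0) (hd : 0 < d) (hm : Even m) (hmd : m < d)
    (x : ↥(Matrix.symplecticGroup (Fin d) F)) {z : F}
    (hz : ((x ^ 2 : ↥(Matrix.symplecticGroup (Fin d) F)) : Matrix (Fin d ⊕ Fin d) (Fin d ⊕ Fin d) F) = z • 1) :
    ∃ W : Submodule F (Fin d ⊕ Fin d → F), finrank F W = m ∧ NondegOn (sympBil F d) W ∧
      Inv (Matrix.toLinAlgEquiv' x.1) W := by
  haveI : Fact (Nat.Prime 2) := ⟨Nat.prime_two⟩
  have hzz := S5955.z_sq hd x hz
  set L : Module.End F (Fin d ⊕ Fin d → F) := Matrix.toLinAlgEquiv' x.1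
  have hLz : L ^ 2 = algebraMap F (Module.End F (Fin d ⊕ Fin d → F)) z := by
    rw [SubmonoidClass.coe_pow] at hz
    simp only [L, ← map_pow, hz, map_smul, map_one, Algebra.algebraMap_eq_smul_one]
  have hA := sympBil_isAlt (F := F) d
  have hN := sympBil_nondegenerate (F := F) d
  have hB := isom x
  have hinj := injective_of_isom hN hB
  have hdim : finrank F (Fin d ⊕ Fin d → F) = 2 * d := by simp [two_mul]
  obtain ⟨k, hk⟩ := hm
  rcases mul_self_eq_one_iff.1 hzz with rfl | rfl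
  · rw [map_one] at hLz
    obtain ⟨E, hc, -, hu, -⟩ := exists_structure (r := 2) (by exact_mod_cast h2) hLz
    obtain ⟨horth, hEn, hCn⟩ := moved_facts hA hN hB hc hu.inv
    have hE : ∀ v ∈ E, L v = (-1 : F) • v := fun v hv => by
      have h1 : L v + v = 0 := Submodule.disjoint_def.1 hc.disjoint _ (by
        rw [Module.End.mem_eigenspace_iff, one_smul, map_add, ← Module.End.mul_apply, ← sq, hLz, Module.End.one_apply,
          add_comm]) (E.add_mem (hu.inv.mem hv) hv)
      rw [neg_one_smul]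
      exact eq_neg_of_add_eq_zero_left h1
    have hC : ∀ v ∈ L.eigenspace 1, L v = (1 : F) • v := fun v hv => Module.End.mem_eigenspace_iff.1 hv
    have hsum := Submodule.finrank_add_eq_of_isCompl hc
    obtain ⟨⟨α, hα⟩, -⟩ := exists_fixed_nondeg hA hinj hB hC hCn (a := 0) (by simp)
    obtain ⟨⟨β, hβ⟩, -⟩ := exists_fixed_nondeg hA hinj hB hE hEn (a := 0) (by simp)
    obtain ⟨-, U₁, hU₁C, hU₁, hU₁n, hU₁d⟩ := exists_fixed_nondeg hA hinj hB hC hCn (a := min k α) (by omega)
    obtain ⟨-, U₂, hU₂E, hU₂, hU₂n, hU₂d⟩ := exists_fixed_nondeg hA hinj hB hE hEn (a := k - min k α) (by omega)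
    have ho : ∀ u ∈ U₁, ∀ w ∈ U₂, sympBil F d u w = 0 := fun u hu' w hw => by
      rw [alt_swap hA, horth w (hU₂E hw) u (hU₁C hu'), neg_zero]
    refine ⟨U₁ ⊔ U₂, ?_, sup_orth hA.isRefl hU₁n hU₂n ho, hU₁.sup hU₂⟩
    rw [finrank_sup_of_disjoint (disjoint_orth hA.isRefl hU₁n ho), hU₁d, hU₂d]
    omega
  · have hLL : ∀ v, L (L v) = -v := fun v => by
      rw [← Module.End.mul_apply, ← sq, hLz]
      simp
    obtain ⟨-, U, -, hU, hUn, hUd⟩ := exists_of_uniform hA.isRefl hinj hB two_pos (a := k)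
      (E := (⊤ : Submodule F (Fin d ⊕ Fin d → F))) (fun X _ hX hXn hne => by
        obtain ⟨u, hu, huu⟩ : ∃ u ∈ X, sympBil F d u (L u) ≠ 0 := by
          by_contra hcon
          push Not at hcon
          obtain ⟨w, hw, hw0⟩ := Submodule.exists_mem_ne_zero_of_ne_bot hne
          refine hw0 (hinj ?_)
          rw [map_zero]
          refine nondegOn_iff.1 hXn _ (hX.mem hw) fun a ha => ?_
          have h1 := hcon (a + w) (X.add_mem ha hw)
          simp only [map_add, LinearMap.add_apply, hcon a ha, hcon w hw, zero_add, add_zero] at h1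
          have h3 : sympBil F d w (L a) = sympBil F d a (L w) := by
            rw [← hB w (L a), hLL, map_neg, ← alt_swap hA]
          rw [h3, ← two_mul] at h1
          exact (mul_eq_zero.1 h1).resolve_left h2
        have h1 : sympBil F d u ((sympBil F d u (L u))⁻¹ • L u) = 1 := by
          rw [map_smul, smul_eq_mul, inv_mul_cancel₀ huu]
        refine ⟨_, Submodule.span_le.2 (Set.insert_subset hu
          (Set.singleton_subset_iff.2 (X.smul_mem _ (hX.mem hu)))), ?_, nondegOn_pair hA h1, finrank_pair hA h1⟩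
        refine Inv.of_mem fun w hw => ?_
        obtain ⟨a, b, rfl⟩ := Submodule.mem_span_pair.1 hw
        rw [map_add, map_smul, map_smul, map_smul, hLL]
        refine Submodule.mem_span_pair.2 ⟨-(b * (sympBil F d u (L u))⁻¹), a * sympBil F d u (L u), ?_⟩
        rw [smul_smul, mul_assoc, mul_inv_cancel₀ huu, mul_one, neg_smul, smul_neg, smul_neg, smul_smul, add_comm])
      (Inv.of_mem fun _ _ => trivial) (nondegOn_iff.2 fun v _ hv => hN.2 v fun w => hv w trivial)
      (by rw [finrank_top, hdim]; omega)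
    exact ⟨U, by omega, hUn, hU⟩

variable {r : ℕ} [Fact r.Prime]

/-- `r` odd: forward direction. -/
theorem fixed_semisimple (hr : (r : F) ≠ 0) (hr2 : Odd r) (hd : 0 < d) (hmd : m < d) (hm : Even m) {c : ℕ}
    (hc : c = if Even (orderOf (Fintype.card F : ZMod r)) then orderOf (Fintype.card F : ZMod r)
      else 2 * orderOf (Fintype.card F : ZMod r))
    (hmod : m % c ≤ (2 * d) % c) (x : ↥(Matrix.symplecticGroup (Fin d) F)) {z : F}
    (hz : ((x ^ r : ↥(Matrix.symplecticGroup (Fin d) F)) : Matrix (Fin d ⊕ Fin d) (Fin d ⊕ Fin d) F) = z • 1) :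
    ∃ W : Submodule F (Fin d ⊕ Fin d → F), finrank F W = m ∧ NondegOn (sympBil F d) W ∧
      Inv (Matrix.toLinAlgEquiv' x.1) W := by
  have hzz := S5955.z_sq hd x hz
  set L : Module.End F (Fin d ⊕ Fin d → F) := z • Matrix.toLinAlgEquiv' x.1
  have hLr : L ^ r = 1 := smul_pow_eq_one hr2 x hzz hz
  have hA := sympBil_isAlt (F := F) d
  have hN := sympBil_nondegenerate (F := F) d
  have hB := isom_smul x hzz
  have hinj := injective_of_isom hN hB
  obtain ⟨E, hcE, hs, hu, -⟩ := exists_structure hr hLr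
  obtain ⟨horth, hEn, hCn⟩ := moved_facts hA hN hB hcE hu.inv
  have hC : ∀ v ∈ L.eigenspace 1, L v = (1 : F) • v := fun v hv => Module.End.mem_eigenspace_iff.1 hv
  have hdim : finrank F (Fin d ⊕ Fin d → F) = 2 * d := by simp [two_mul]
  have hsum := Submodule.finrank_add_eq_of_isCompl hcE
  rw [hdim] at hsum
  have hcpos : 0 < c := by have := hu.pos; rw [hc]; split_ifs <;> omega
  have hce : Even c := by
    rw [hc]; split_ifs with h
    · exact h
    · exact even_two_mul _
  have hstep : ∀ X ≤ E, Inv L X → NondegOn (sympBil F d) X → X ≠ ⊥ →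
      ∃ U : Submodule F (Fin d ⊕ Fin d → F), U ≤ X ∧ Inv L U ∧ NondegOn (sympBil F d) U ∧ finrank F U = c :=
    fun X hXE hX hXn hne => by
      rw [hc]
      exact exists_piece_moved hr hA hB hLr hs hcE.disjoint hu hXE hX hXn hne
  obtain ⟨⟨N, hNE⟩, -⟩ := exists_of_uniform hA.isRefl hinj hB hcpos hstep hu.inv hEn (a := 0) (by simp)
  obtain ⟨⟨α, hα⟩, -⟩ := exists_fixed_nondeg hA hinj hB hC hCn (a := 0) (by simp)
  obtain ⟨a, hac, haE, hab⟩ : ∃ a, a * c ≤ m ∧ a * c ≤ finrank F E ∧ m - a * c ≤ finrank F (L.eigenspace (1 : F)) := by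
    have h1 := Nat.div_add_mod m c
    have h2 := Nat.div_add_mod (2 * d) c
    rcases Nat.le_total (m / c) N with h | h
    · have h3 : N ≤ 2 * d / c := (Nat.le_div_iff_mul_le hcpos).2 (by rw [mul_comm]; omega)
      have h4 := Nat.mul_le_mul_left c h3
      have h5 := Nat.mul_le_mul_left c h
      exact ⟨m / c, Nat.div_mul_le_self m c, by rw [mul_comm]; omega, by rw [mul_comm (m / c) c]; omega⟩
    · have h5 := Nat.mul_le_mul_left c h
      exact ⟨N, by rw [mul_comm]; omega, by rw [mul_comm]; omega, by rw [mul_comm N c]; omega⟩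
  obtain ⟨-, U₁, hU₁E, hU₁, hU₁n, hU₁d⟩ := exists_of_uniform hA.isRefl hinj hB hcpos hstep hu.inv hEn haE
  obtain ⟨e, he⟩ : Even (m - a * c) := (Nat.even_sub hac).2 (iff_of_true hm (hce.mul_left a))
  obtain ⟨-, U₂, hU₂C, hU₂, hU₂n, hU₂d⟩ := exists_fixed_nondeg hA hinj hB hC hCn (a := e) (by omega)
  have ho : ∀ u ∈ U₁, ∀ w ∈ U₂, sympBil F d u w = 0 := fun u hu' w hw => horth u (hU₁E hu') w (hU₂C hw)
  refine ⟨U₁ ⊔ U₂, ?_, sup_orth hA.isRefl hU₁n hU₂n ho, inv_of_smul x hzz (hU₁.sup hU₂)⟩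
  rw [finrank_sup_of_disjoint (disjoint_orth hA.isRefl hU₁n ho), hU₁d, hU₂d]
  omega

/-- `r` odd: a witness. -/
theorem witness_semisimple (hr : (r : F) ≠ 0) (hr2 : Odd r) {h : ℕ} (hh : 0 < h) (hhd : h ≤ d)
    (hh2 : orderOf (Fintype.card F : ZMod r) = if Even (orderOf (Fintype.card F : ZMod r)) then 2 * h else h)
    (hlm : 2 * (d % h) < m) (hbad : m < 2 * h ∨ 2 * (d % h) < m % (2 * h)) :
    ∃ Y : Matrix (Fin d ⊕ Fin d) (Fin d ⊕ Fin d) F,
      (∀ u v, Cfsg.sympForm d F (Y *ᵥ u) (Y *ᵥ v) = Cfsg.sympForm d F u v) ∧ (∃ z : F, Y ^ r = z • 1) ∧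
      (∀ z : F, Y ≠ z • 1) ∧
      ∀ W : Submodule F (Fin d ⊕ Fin d → F), Inv (Matrix.toLinAlgEquiv' Y) W → NondegOn (sympBil F d) W →
        finrank F W ≠ m := by
  set i := orderOf (Fintype.card F : ZMod r) with hi
  obtain ⟨X, hX, hpres, hfix⟩ := SympFpf.exists_fixedPointFree hr hh (d := h) (by
    rw [← hi, hh2]; split_ifs
    · exact dvd_rfl
    · exact dvd_mul_left h 2)
  have hdm := Nat.div_add_mod d h
  obtain ⟨Y, hY, hYp, hYf⟩ := SympFpf.exists_blocks (k := d / h) (l := d % h)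
    ((finCongr (show d = d / h * h + d % h by rw [mul_comm]; omega)).trans
      ((finSumFinEquiv (m := d / h * h) (n := d % h)).symm.trans
        (Equiv.sumCongr finProdFinEquiv.symm (Equiv.refl _)))) hX hpres hfix
  have hlt : d % h < d := (Nat.mod_lt d hh).trans_le hhd
  refine ⟨Y, hYp, ⟨1, by rw [hY, one_smul]⟩, S5955.not_scalar_of_fixed hr2 hY hYp hYf hlt, fun W hW hWn hWd => ?_⟩
  set L : Module.End F (Fin d ⊕ Fin d → F) := Matrix.toLinAlgEquiv' Y
  have hLr : L ^ r = 1 := by simp only [L, ← map_pow, hY, map_one]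
  obtain ⟨E, hc, -, hu, hsum⟩ := exists_structure hr hLr
  have hA := sympBil_isAlt (F := F) d
  have hB : ∀ u v, sympBil F d (L u) (L v) = sympBil F d u v := fun u v => by
    rw [sympBil_apply, sympBil_apply]; exact hYp u v
  obtain ⟨horth, -, -⟩ := moved_facts hA (sympBil_nondegenerate (F := F) d) hB hc hu.inv
  have hfixed := Submodule.finrank_mono (inf_le_right : W ⊓ L.eigenspace 1 ≤ L.eigenspace 1)
  rw [hYf] at hfixed
  have hsup : W ⊓ L.eigenspace 1 ⊔ W ⊓ E = W := by
    refine Submodule.eq_of_le_of_finrank_eq (sup_le inf_le_left inf_le_left) ?_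
    rw [finrank_sup_of_disjoint (hc.disjoint.mono inf_le_right inf_le_right), hsum W hW]
  have hWEn : NondegOn (sympBil F d) (W ⊓ E) := nondegOn_iff.2 fun v hv hv' => nondegOn_iff.1 hWn v hv.1 fun w hw => by
    rw [← hsup] at hw
    obtain ⟨a, ha, b, hb, rfl⟩ := Submodule.mem_sup.1 hw
    rw [map_add, LinearMap.add_apply, alt_swap hA a v, horth v hv.2 a ha.2, neg_zero, zero_add, hv' b hb]
  obtain ⟨k, b, -⟩ := exists_sympBasis (restrictForm_isAlt hA (W ⊓ E))
    (restrictForm_nondegenerate hA.isRefl hWEn)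
  have hk : finrank F (W ⊓ E : Submodule F (Fin d ⊕ Fin d → F)) = k + k := by
    rw [Module.finrank_eq_card_basis b]; simp
  obtain ⟨t, ht⟩ : 2 * h ∣ finrank F (W ⊓ E : Submodule F (Fin d ⊕ Fin d → F)) := by
    have h1 := hu.dvd _ inf_le_right (hW.inf hu.inv)
    rw [← hi, hh2] at h1
    split_ifs at h1 hh2 with hev
    · exact h1
    · rw [hk, ← two_mul] at h1 ⊢
      exact Nat.mul_dvd_mul_left 2 ((Nat.Coprime.dvd_mul_left (Nat.coprime_two_right.2 (by
        rw [Nat.not_even_iff_odd, hh2] at hev; exact hev))).1 h1)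
  have h1 := hsum W hW
  rw [hWd, ht] at h1
  rcases Nat.eq_zero_or_pos t with rfl | htpos
  · simp only [mul_zero] at h1
    omega
  · rcases hbad with hb | hb
    · have := Nat.le_mul_of_pos_right (2 * h) htpos
      omega
    · have h3 : m % (2 * h) = finrank F (W ⊓ L.eigenspace 1 : Submodule F (Fin d ⊕ Fin d → F)) % (2 * h) := by
        conv_lhs => rw [h1, Nat.add_mul_mod_self_left]
      have := Nat.mod_le (finrank F (W ⊓ L.eigenspace 1 : Submodule F (Fin d ⊕ Fin d → F))) (2 * h)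
      omega

/-- The prime divides one of the last factors of the order of the group. -/
theorem exists_dvd_of_count {k : ℕ} (hk : k ≤ d) (hrq : ¬ r ∣ Fintype.card F)
    (h : r ∣ Nat.card {W : Submodule F (Fin d ⊕ Fin d → F) // finrank F W = 2 * k ∧ NondegOn (sympBil F d) W}) :
    ∃ j, j < k ∧ r ∣ Fintype.card F ^ (2 * (d - j)) - 1 := by
  classical
  set B := sympBil F d
  have hA := sympBil_isAlt (F := F) d
  have hN := sympBil_nondegenerate (F := F) d
  have hdim : finrank F (Fin d ⊕ Fin d → F) = 2 * d := by simp [two_mul]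
  have hone : ∀ u v, B ((1 : Module.End F (Fin d ⊕ Fin d → F)) u) ((1 : Module.End F (Fin d ⊕ Fin d → F)) v) = B u v :=
    fun u v => rfl
  obtain ⟨-, W₀, -, -, hW₀n, hW₀d⟩ := exists_fixed_nondeg (C := (⊤ : Submodule F (Fin d ⊕ Fin d → F))) hA
    (injective_of_isom hN hone) hone (z := (1 : F)) (fun v _ => (one_smul F v).symm)
    (nondegOn_iff.2 fun v _ hv => hN.2 v fun w => hv w trivial) (a := k) (by rw [finrank_top, hdim]; omega)
  let Ω := {W : Submodule F (Fin d ⊕ Fin d → F) // finrank F W = 2 * k ∧ NondegOn B W}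
  have hmem : ∀ g : isomGroup B, finrank F (W₀.map (g.1 : (Fin d ⊕ Fin d → F) →ₗ[F] (Fin d ⊕ Fin d → F))) = 2 * k ∧
      NondegOn B (W₀.map (g.1 : (Fin d ⊕ Fin d → F) →ₗ[F] (Fin d ⊕ Fin d → F))) := fun g => ⟨by rw [g.1.finrank_map_eq, hW₀d]; ring,
    nondegOn_iff.2 (by
      rintro _ ⟨v, hv, rfl⟩ ho
      rw [nondegOn_iff.1 hW₀n v hv fun w hw => by
        have := ho _ ⟨w, hw, rfl⟩
        rwa [LinearEquiv.coe_coe, isomGroup_apply] at this, map_zero])⟩
  let φ : isomGroup B ⧸ isomStab B W₀ → Ω :=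
    Quotient.lift (fun g => (⟨_, hmem g⟩ : Ω)) fun g g' hgg => by
      have hgg' : g⁻¹ * g' ∈ isomStab B W₀ := QuotientGroup.leftRel_apply.1 hgg
      refine Subtype.ext ?_
      show W₀.map (g.1 : (Fin d ⊕ Fin d → F) →ₗ[F] (Fin d ⊕ Fin d → F)) = W₀.map (g'.1 : (Fin d ⊕ Fin d → F) →ₗ[F] (Fin d ⊕ Fin d → F))
      conv_lhs => rw [← mem_isomStab.1 hgg', ← Submodule.map_comp]
      congr 1
      exact LinearMap.ext fun v => show (g * (g⁻¹ * g')).1 v = g'.1 v by rw [mul_inv_cancel_left]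
  have hφ : Function.Bijective φ := by
    refine ⟨?_, fun W => ?_⟩
    · intro x y
      refine QuotientGroup.induction_on x fun g => QuotientGroup.induction_on y fun g' e => ?_
      refine QuotientGroup.eq.2 (mem_isomStab.2 ?_)
      have e' : W₀.map (g.1 : (Fin d ⊕ Fin d → F) →ₗ[F] (Fin d ⊕ Fin d → F)) = W₀.map (g'.1 : (Fin d ⊕ Fin d → F) →ₗ[F] (Fin d ⊕ Fin d → F)) := congrArg Subtype.val e
      show W₀.map ((g⁻¹.1 : (Fin d ⊕ Fin d → F) →ₗ[F] (Fin d ⊕ Fin d → F)).comp (g'.1 : (Fin d ⊕ Fin d → F) →ₗ[F] (Fin d ⊕ Fin d → F))) = W₀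
      rw [Submodule.map_comp, ← e', ← Submodule.map_comp]
      convert Submodule.map_id W₀
      exact LinearMap.ext fun v => show (g⁻¹ * g).1 v = v by rw [inv_mul_cancel]; rfl
    · obtain ⟨m₀, b₀, hb₀⟩ := exists_sympBasis (restrictForm_isAlt hA W₀)
        (restrictForm_nondegenerate hA.isRefl hW₀n)
      obtain ⟨m₁, b₁, hb₁⟩ := exists_sympBasis (restrictForm_isAlt hA W.1)
        (restrictForm_nondegenerate hA.isRefl W.2.2)
      obtain rfl : m₁ = m₀ := by
        have e1 := Module.finrank_eq_card_basis b₀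
        have e2 := Module.finrank_eq_card_basis b₁
        rw [hW₀d] at e1
        rw [W.2.1] at e2
        simp at e1 e2
        omega
      obtain ⟨g, hg⟩ := witt_alt hA hN W₀ (W.1.subtype.comp (b₀.equiv b₁ (Equiv.refl _) : W₀ →ₗ[F] W.1))
        (W.1.injective_subtype.comp (LinearEquiv.injective _)) (fun a b =>
          IsSympFamily.basisEquiv_mem (restrictForm_isAlt hA W₀) (restrictForm_isAlt hA W.1) b₀ b₁ hb₀ hb₁ a b)
      refine ⟨QuotientGroup.mk g, Subtype.ext ?_⟩
      refine Submodule.eq_of_le_of_finrank_eq ?_ ((hmem g).1.trans W.2.1.symm)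
      rintro _ ⟨v, hv, rfl⟩
      rw [LinearEquiv.coe_coe, hg ⟨v, hv⟩]
      exact (b₀.equiv b₁ (Equiv.refl _) ⟨v, hv⟩).2
  have hcard := Subgroup.card_eq_card_quotient_mul_card_subgroup (isomStab B W₀)
  rw [Nat.card_eq_of_bijective φ hφ, ← Nat.card_congr (isomStabEquiv hA.isRefl hW₀n).toEquiv, Nat.card_prod,
    card_isom_alt hA hN d hdim,
    card_isom_alt (restrictForm_isAlt hA W₀) (restrictForm_nondegenerate hA.isRefl hW₀n) k (by rw [hW₀d]; ring),
    card_isom_alt (restrictForm_isAlt hA (perp B W₀))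
      (restrictForm_nondegenerate hA.isRefl (nondegOn_perp hN.2 hW₀n)) (d - k)
      (by have := hW₀n.finrank_perp; rw [hdim, hW₀d] at this; show finrank F (perp (sympBil F d) W₀) = _; omega),
    show Finset.range d = Finset.range (d - k + k) by rw [Nat.sub_add_cancel hk], Finset.prod_range_add] at hcard
  set P := ∏ i ∈ Finset.range (d - k), (Fintype.card F ^ (2 * (i + 1)) - 1)
  have hP : 0 < P := Finset.prod_pos fun i _ => Nat.sub_pos_of_lt (Nat.one_lt_pow (by omega) Fintype.one_lt_card)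
  have hdvd : r ∣ Fintype.card F ^ d ^ 2 * ∏ i ∈ Finset.range k, (Fintype.card F ^ (2 * (d - k + i + 1)) - 1) := by
    refine (dvd_mul_of_dvd_left h _).trans (dvd_of_eq (b := Fintype.card F ^ d ^ 2 *
      ∏ i ∈ Finset.range k, (Fintype.card F ^ (2 * (d - k + i + 1)) - 1))
      (a := Nat.card Ω * (Fintype.card F ^ k ^ 2 * (∏ i ∈ Finset.range k, (Fintype.card F ^ (2 * (i + 1)) - 1)) *
        Fintype.card F ^ (d - k) ^ 2)) (Nat.eq_of_mul_eq_mul_right hP ?_))
    calc _ = Nat.card Ω * (Fintype.card F ^ k ^ 2 * (∏ i ∈ Finset.range k, (Fintype.card F ^ (2 * (i + 1)) - 1)) *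
          (Fintype.card F ^ (d - k) ^ 2 * P)) := by ring
      _ = _ := hcard.symm
      _ = _ := by ring
  rcases (Fact.out : r.Prime).dvd_mul.1 hdvd with h1 | h1
  · exact absurd ((Fact.out : r.Prime).dvd_of_dvd_pow h1) hrq
  obtain ⟨i, hi, hi'⟩ := ((Fact.out : r.Prime).prime.dvd_finset_prod_iff _).1 h1
  rw [Finset.mem_range] at hi
  exact ⟨k - 1 - i, by omega, by rwa [show d - (k - 1 - i) = d - k + i + 1 by omega]⟩


/-- Elements of prime order of PSp_n(q) with no fixed nondegenerate `m`-space. Here `T = PSp_n(q)` with `n = 2d ≥ 4`, `(n, q) ≠ (4, 2)`, realised through the symplectic matrices over the field `F` with `q` elements (preserving the standard alternating form); an element of `T` of prime order `r` is such a matrix `x` with `x^r` scalar and `x` not scalar. For `r ≠ p` let `i` be the multiplicative order of `q` modulo `r`, `c = i` for `i` even and `c = 2i` for `i` odd, and write `k = n mod c`, `ℓ = m mod i`, `ℓ' = m mod c`, `n' = ⌊n/i⌋`, `m'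 = ⌊m/i⌋`, `t = (r−1)/i`. Let `m` be even with `2 ≤ m < n/2` and let `r` be a prime dividing the number of nondegenerate `m`-spaces. Then every element of `T` of order `r` fixes a nondegenerate `m`-space if and only if one of: (i) `r = p > 2` and every partition of `n` into parts of size at most `p` in which every odd part has even multiplicity contains (as a sub-multiset) a partition of `m` in which every odd part has even multiplicity; (ii) `r = p = 2` and (`n ≡ 2 (mod 4)` or `m ≡ 0 (mod 4)`); (iii) `r = 2 ≠ p`; (iv) `r ≠ p`, `r > 2`, `c ≤ m` and `k ≥ ℓ'`. -/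
theorem result {F : Type*} [Field F] [Fintype F] {p : ℕ} [Fact p.Prime] [CharP F p] {q : ℕ} (hq : Fintype.card F = q)
    (d m : ℕ) (hd : 2 ≤ d) (hT : (d, q) ≠ (2, 2)) (hm : 2 ≤ m) (hme : Even m) (hmd : m < d)
    (r : ℕ) [Fact r.Prime]
    (hrΩ : r ∣ Nat.card {W : Submodule F (Fin d ⊕ Fin d → F) // Module.finrank F ↥W = m ∧ (∀ u ∈ W, u ≠ 0 → ∃ v ∈ W, Cfsg.sympForm d F u v ≠ 0)})
    (i c : ℕ) (hi : i = orderOf (q : ZMod r)) (hc : c = if Even i then i else 2 * i) :
    (∀ x : ↥(Matrix.symplecticGroup (Fin d) F),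
      (∃ z : F, ((x ^ r : ↥(Matrix.symplecticGroup (Fin d) F)) : Matrix (Fin d ⊕ Fin d) (Fin d ⊕ Fin d) F) = z • (1 : Matrix (Fin d ⊕ Fin d) (Fin d ⊕ Fin d) F)) →
      (∀ z : F, (x : Matrix (Fin d ⊕ Fin d) (Fin d ⊕ Fin d) F) ≠ z • (1 : Matrix (Fin d ⊕ Fin d) (Fin d ⊕ Fin d) F)) →
      ∃ W : Submodule F (Fin d ⊕ Fin d → F), Module.finrank F ↥W = m ∧ (∀ u ∈ W, u ≠ 0 → ∃ v ∈ W, Cfsg.sympForm d F u v ≠ 0) ∧
        W.map (Matrix.toLin' (x : Matrix (Fin d ⊕ Fin d) (Fin d ⊕ Fin d) F)) ≤ W) ↔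
    ((r = p ∧ 2 < p ∧ (∀ μ : Multiset ℕ, (∀ a ∈ μ, 0 < a ∧ a ≤ p) → (∀ a : ℕ, Odd a → Even (μ.count a)) → μ.sum = 2 * d →
        ∃ ν : Multiset ℕ, ν ≤ μ ∧ ν.sum = m ∧ ∀ a : ℕ, Odd a → Even (ν.count a))) ∨
     (r = p ∧ p = 2 ∧ ((2 * d) % 4 = 2 ∨ m % 4 = 0)) ∨
     (r = 2 ∧ p ≠ 2) ∨
     (r ≠ p ∧ 2 < r ∧ c ≤ m ∧ m % c ≤ (2 * d) % c)) := by
  classical
  obtain rfl := hq
  obtain rfl := hi
  set i := orderOf (Fintype.card F : ZMod r) with hi
  have hrp : r.Prime := Fact.out
  have hpp : p.Prime := Fact.out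
  have hd0 : 0 < d := by omega
  have hpcard : ∀ s : ℕ, s.Prime → s ∣ Fintype.card F → s = p := fun s hs hdvd => by
    obtain ⟨k, -, hk⟩ := FiniteField.card F p
    rw [hk] at hdvd
    exact (Nat.prime_dvd_prime_iff_eq hs hpp).1 (hs.dvd_of_dvd_pow hdvd)
  have hdata : r ≠ p → (r : F) ≠ 0 ∧ ∀ h, (i = if Even i then 2 * h else h) →
      0 < h ∧ h ≤ d ∧ 2 * (d % h) < m := fun hne => by
    have hr : (r : F) ≠ 0 := fun h => hne ((Nat.prime_dvd_prime_iff_eq hpp hrp).1 ((CharP.cast_eq_zero_iff F p r).1 h)).symm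
    refine ⟨hr, fun h hh => ?_⟩
    have hrq : ¬ r ∣ Fintype.card F := fun hdvd => hne (hpcard r hrp hdvd)
    obtain ⟨k, hk⟩ := hme
    obtain ⟨j, hjk, hj⟩ := exists_dvd_of_count (F := F) (d := d) (k := k) (by omega) hrq (by
      rw [show m = 2 * k by omega] at hrΩ
      simpa only [← nondeg_iff] using hrΩ)
    have hij : i ∣ 2 * (d - j) := by
      refine orderOf_dvd_of_pow_eq_one ?_
      have h1 : ((Fintype.card F ^ (2 * (d - j)) - 1 : ℕ) : ZMod r) = 0 := (ZMod.natCast_eq_zero_iff _ _).2 hj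
      rw [Nat.cast_sub (Nat.one_le_pow _ _ Fintype.card_pos), sub_eq_zero] at h1
      simpa using h1
    have hdj : h ∣ d - j := by
      split_ifs at hh with he
      · rw [hh] at hij
        exact (Nat.mul_dvd_mul_iff_left two_pos).1 hij
      · rw [hh] at hij he
        exact (Nat.coprime_two_right.2 (Nat.not_even_iff_odd.1 he)).dvd_of_dvd_mul_left hij
    have hpos : 0 < h := Nat.pos_of_ne_zero fun h0 => by
      subst h0
      rw [zero_dvd_iff] at hdj
      omega
    refine ⟨hpos, (Nat.le_of_dvd (by omega) hdj).trans (Nat.sub_le _ _), ?_⟩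
    obtain ⟨e, he⟩ := hdj
    have : d = j + h * e := by omega
    rw [this, Nat.add_mul_mod_self_left]
    have := Nat.mod_le j h
    omega
  constructor
  · intro hall
    by_contra hcon
    rcases eq_or_ne r p with rfl | hne
    · rcases hrp.eq_two_or_odd' with hr2 | hr2
      · subst hr2
        have hcase : (2 * d) % 4 = 0 ∧ m % 4 = 2 := by
          have h1 : ¬((2 * d) % 4 = 2 ∨ m % 4 = 0) := fun h => hcon (Or.inr (Or.inl ⟨rfl, rfl, h⟩))
          obtain ⟨k, hk⟩ := hme
          omega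
        obtain ⟨Y, h1, h2, h3, h4⟩ := witness_char_two (F := F) (m := m)
          (by exact_mod_cast CharP.cast_eq_zero F 2) (Nat.even_iff.2 (by omega) : Even d) hd0 hcase.2
        exact witness Y h1 h2 h3 h4 hall
      · have hp3 : 2 < r := by have := hrp.two_le; have := Nat.odd_iff.1 hr2; omega
        have h1 := mt (fun h => Or.inl ⟨rfl, hp3, h⟩) hcon
        push Not at h1
        obtain ⟨μ, hμp, hμo, hμs, hno⟩ := h1
        obtain ⟨Y, h1, h2, h3, h4⟩ := witness_unipotent (F := F) hp3 hme hmd hμp hμo hμs (by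
          rintro ⟨ν, a, b, c⟩
          obtain ⟨e, he1, he2⟩ := hno ν a b
          exact absurd (c e he1) he2)
        exact witness Y h1 h2 h3 h4 hall
    · have hr2 : r ≠ 2 := fun h => hcon (Or.inr (Or.inr (Or.inl ⟨h, h ▸ hne.symm⟩)))
      have hr3 : 2 < r := by have := hrp.two_le; omega
      obtain ⟨hr, hh'⟩ := hdata hne
      obtain ⟨h, hh2⟩ : ∃ h, i = if Even i then 2 * h else h := by
        by_cases he : Even i
        · obtain ⟨e, he'⟩ := he
          exact ⟨e, by rw [if_pos ⟨e, he'⟩]; omega⟩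
        · exact ⟨i, by rw [if_neg he]⟩
      obtain ⟨hpos, hhd, hlm⟩ := hh' h hh2
      have hc2 : c = 2 * h := by
        rw [hc]
        split_ifs at hh2 ⊢ <;> omega
      have hbad : m < 2 * h ∨ 2 * (d % h) < m % (2 * h) := by
        by_contra hb
        push Not at hb
        refine hcon (Or.inr (Or.inr (Or.inr ⟨hne, hr3, by omega, ?_⟩)))
        rw [hc2, Nat.mul_mod_mul_left]
        exact hb.2
      obtain ⟨Y, h1, h2, h3, h4⟩ := witness_semisimple hr (hrp.odd_of_ne_two hr2) hpos hhd hh2 hlm hbad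
      exact witness Y h1 h2 h3 h4 hall
  · rintro (⟨rfl, hp2, hcond⟩ | ⟨rfl, rfl, hcase⟩ | ⟨rfl, hp2⟩ | ⟨hne, hr3, -, hmod⟩) x ⟨z, hz⟩ -
    · obtain ⟨W, hWd, hWn, hWi⟩ := fixed_unipotent hp2 hd0 hcond x hz
      exact ⟨W, hWd, nondeg_iff.2 hWn, hWi⟩
    · obtain ⟨W, hWd, hWn, hWi⟩ := fixed_two (by exact_mod_cast CharP.cast_eq_zero F 2) hd0 hme hmd hcase x hz
      exact ⟨W, hWd, nondeg_iff.2 hWn, hWi⟩
    · obtain ⟨W, hWd, hWn, hWi⟩ := fixed_semisimple_two (by exact_mod_cast (hdata hp2.symm).1) hd0 hme hmd x hz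
      exact ⟨W, hWd, nondeg_iff.2 hWn, hWi⟩
    · obtain ⟨W, hWd, hWn, hWi⟩ := fixed_semisimple (hdata hne).1 (hrp.odd_of_ne_two (by omega)) hd0 hmd hme hc hmod x hz
      exact ⟨W, hWd, nondeg_iff.2 hWn, hWi⟩

end Cfsg.Agent.S5956
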