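import Cfsg.Statements.S5958
import Cfsg.Agent.Lib.Derangements.LinearElusiveMain
import Cfsg.Agent.Lib.Derangements.LinearElusiveCount
-- import your own Cfsg.Agent.* helpers here

set_option autoImplicit false
open scoped MatrixGroups
open Cfsg

set_option linter.unusedSectionVars false

namespace Cfsg.Agent.S5958

open Module CfsgLib.Derangements.LinElusive

section Fam

variable {F : Type*} [Field F] {V : Type*} [AddCommGroup V] [Module F V] [FiniteDimensional F V]

/-- A vector lying in the sum of the other members for every member is zero. -/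
theorem eq_zero_of_others {ι : Type*} [Finite ι] {D : ι → Submodule F V} (hi : iSupIndep D) {v : V} (hv : v ∈ iSup D)
    (h : ∀ j, v ∈ ⨆ k ≠ j, D k) : v = 0 := by
  classical
  cases nonempty_fintype ι
  have key : ∀ (S : Finset ι) (w : V), w ∈ S.sup D → (∀ j ∈ S, w ∈ ⨆ k ≠ j, D k) → w = 0 := by
    intro S
    induction S using Finset.induction_on with
    | empty => intro w hw _; simpa using hw
    | insert j S hj ih =>
      intro w hw hall
      rw [Finset.sup_insert] at hw
      obtain ⟨a, ha, b, hb, rfl⟩ := Submodule.mem_sup.1 hw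
      have hle : S.sup D ≤ ⨆ k ≠ j, D k := Finset.sup_le fun k hk =>
        le_iSup₂ (f := fun k (_ : k ≠ j) => D k) k fun e => hj (e ▸ hk)
      have ha0 : a = 0 := Submodule.disjoint_def.1 (hi j) a ha (by
        have := (⨆ k ≠ j, D k).sub_mem (hall j (Finset.mem_insert_self j S)) (hle hb)
        simpa using this)
      subst ha0
      rw [zero_add] at hall ⊢
      exact ih b hb fun k hk => hall k (Finset.mem_insert_of_mem hk)
  refine key Finset.univ v ?_ fun j _ => h j
  rwa [Finset.sup_univ_eq_iSup]

theorem disjoint_sup {ι : Type*} [Finite ι] {D : ι → Submodule F V} (hi : iSupIndep D) {S S' : Finset ι}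
    (h : Disjoint S S') : Disjoint (S.sup D) (S'.sup D) := by
  refine Submodule.disjoint_def.2 fun v hv hv' => eq_zero_of_others hi
    ((Finset.sup_le fun k _ => le_iSup D k : S.sup D ≤ iSup D) hv) fun j => ?_
  by_cases hj : j ∈ S
  · exact (Finset.sup_le fun k hk => le_iSup₂ (f := fun k (_ : k ≠ j) => D k) k fun e =>
      Finset.disjoint_left.1 h hj (e ▸ hk) : S'.sup D ≤ ⨆ k ≠ j, D k) hv'
  · exact (Finset.sup_le fun k hk => le_iSup₂ (f := fun k (_ : k ≠ j) => D k) k fun e => hj (e ▸ hk) :
      S.sup D ≤ ⨆ k ≠ j, D k) hv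

theorem finrank_sup_le {ι : Type*} (D : ι → Submodule F V) {a : ℕ} (h : ∀ j, finrank F (D j) ≤ a) (S : Finset ι) :
    finrank F (S.sup D : Submodule F V) ≤ S.card * a := by
  classical
  induction S using Finset.induction_on with
  | empty => simp
  | insert j S hj ih =>
    rw [Finset.card_insert_of_notMem hj, Finset.sup_insert, add_mul, one_mul]
    have := Submodule.finrank_sup_add_finrank_inf_eq (D j) (S.sup D)
    have := h j
    omega

/-- A spanning family of small subspaces is independent. -/
theorem indep_of_span {ι : Type*} [Fintype ι] {D : ι → Submodule F V} {a : ℕ} (h : ∀ j, finrank F (D j) ≤ a)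
    (hs : ⊤ ≤ iSup D) (hn : finrank F V = Fintype.card ι * a) : iSupIndep D ∧ ∀ j, finrank F (D j) = a := by
  classical
  have key : ∀ j, finrank F (D j) = a ∧ Disjoint (D j) (⨆ k ≠ j, D k) := by
    intro j
    set R : Submodule F V := ⨆ k ≠ j, D k
    have hR : finrank F R ≤ (Fintype.card ι - 1) * a := by
      refine (Submodule.finrank_mono (iSup₂_le fun k hk => Finset.le_sup (f := D) (b := k)
        (Finset.mem_erase.2 ⟨hk, Finset.mem_univ k⟩))).trans ((finrank_sup_le D h _).trans (le_of_eq ?_))
      rw [Finset.card_erase_of_mem (Finset.mem_univ j), Finset.card_univ]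
    have htop : D j ⊔ R = ⊤ := top_le_iff.1 (hs.trans (iSup_le fun k => by
      by_cases hk : k = j
      · subst hk; exact le_sup_left
      · exact (le_iSup₂ (f := fun k (_ : k ≠ j) => D k) k hk).trans le_sup_right))
    have h1 := Submodule.finrank_sup_add_finrank_inf_eq (D j) R
    rw [htop, finrank_top, hn] at h1
    have hpos : 0 < Fintype.card ι := Fintype.card_pos_iff.2 ⟨j⟩
    have h2 : Fintype.card ι * a = (Fintype.card ι - 1) * a + a := by
      conv_lhs => rw [show Fintype.card ι = Fintype.card ι - 1 + 1 by omega, add_mul, one_mul]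
    have h3 := h j
    exact ⟨by omega, disjoint_iff.2 (Submodule.finrank_eq_zero.1 (by omega))⟩
  exact ⟨fun j => (key j).2, fun j => (key j).1⟩

end Fam

section Blocks

variable {F : Type*} [Field F] {V : Type*} [AddCommGroup V] [Module F V] [FiniteDimensional F V]
  {L : Module.End F V} {C E : Submodule F V} {i : ℕ}

theorem exists_subspace {W : Submodule F V} {d : ℕ} (hd : d ≤ finrank F W) : ∃ S ≤ W, finrank F S = d := by
  obtain ⟨g, hg⟩ := exists_linearIndependent_of_le_finrank hd
  refine ⟨Submodule.span F (Set.range fun k => (g k : V)), ?_, ?_⟩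
  · rw [Submodule.span_le]
    rintro _ ⟨k, rfl⟩
    exact (g k).2
  · exact (finrank_span_eq_card (hg.map' W.subtype W.ker_subtype)).trans (Fintype.card_fin d)

/-- Invariant blocks of equal dimension. -/
theorem exists_blocks (hU : Uniform L E i) (hs : Split L) (hd : Disjoint C E) (hC : ∀ S ≤ C, Inv L S)
    (hform : ∀ W, Inv L W → finrank F W = finrank F (W ⊓ C : Submodule F V) + finrank F (W ⊓ E : Submodule F V))
    (a : ℕ) : ∀ t, t * (a % i) < i → ∀ W, Inv L W → finrank F W = a * t →
      ∃ D : Fin t → Submodule F V, (∀ j, Inv L (D j) ∧ finrank F (D j) = a) ∧ W ≤ iSup D := by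
  intro t
  induction t with
  | zero =>
    intro _ W _ hd0
    exact ⟨Fin.elim0, fun j => j.elim0,
      by rw [Submodule.finrank_eq_zero.1 (show finrank F W = 0 by simpa using hd0)]; exact bot_le⟩
  | succ t ih =>
    intro hlt W hW hd0
    obtain ⟨s, hs'⟩ := hU.dvd (W ⊓ E) inf_le_right (hW.inf hU.inv)
    have hf := hform W hW
    rw [hd0, hs'] at hf
    set eC := finrank F (W ⊓ C : Submodule F V) with heC
    have hk : ∃ k, k ≤ s ∧ k * i ≤ a ∧ a - k * i ≤ eC := by
      rcases le_total (a / i) s with hle | hle
      · refine ⟨a / i, hle, Nat.div_mul_le_self a i, ?_⟩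
        rw [show a - a / i * i = a % i by rw [mul_comm, ← Nat.mod_def]]
        have h1 : eC % i = ((t + 1) * (a % i)) % i := by
          rw [Nat.mul_mod_mod, mul_comm (t + 1), hf, Nat.add_mul_mod_self_left]
        rw [Nat.mod_eq_of_lt hlt] at h1
        have h2 := Nat.mod_le eC i
        have h3 : a % i ≤ (t + 1) * (a % i) := Nat.le_mul_of_pos_left _ (by omega)
        omega
      · refine ⟨s, le_rfl, (Nat.mul_le_mul_right i hle).trans (Nat.div_mul_le_self a i), ?_⟩
        have : a ≤ a * (t + 1) := Nat.le_mul_of_pos_right a (by omega)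
        rw [mul_comm s i]
        omega
    obtain ⟨k, hks, hka, hke⟩ := hk
    obtain ⟨P, hPle, hP, hPd⟩ := hU.exists_sub hs (W := W ⊓ E) (k := k) inf_le_right (hW.inf hU.inv)
      (by rw [hs', mul_comm i s]; exact Nat.mul_le_mul_right i hks)
    obtain ⟨Q, hQle, hQd⟩ := exists_subspace (W := W ⊓ C) hke
    have hPQ : Inv L (P ⊔ Q) := hP.sup (hC Q (hQle.trans inf_le_right))
    have hle : P ⊔ Q ≤ W := sup_le (hPle.trans inf_le_left) (hQle.trans inf_le_left)
    have hda : finrank F (P ⊔ Q : Submodule F V) = a := by
      rw [finrank_sup_of_disjoint (hd.mono (hQle.trans inf_le_right) (hPle.trans inf_le_right)).symm, hPd, hQd]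
      omega
    obtain ⟨R, -, hR, -, hsup, hdim⟩ := hs.exists_rel hPQ hW hle
    obtain ⟨D, hD, hDs⟩ := ih (lt_of_le_of_lt (Nat.mul_le_mul_right _ (Nat.le_succ t)) hlt) R hR
      (by rw [mul_add, mul_one] at hd0; omega)
    refine ⟨Fin.cons (P ⊔ Q) D, fun j => ?_, ?_⟩
    · cases j using Fin.cases with
      | zero => simpa using ⟨hPQ, hda⟩
      | succ j =>
        rw [Fin.cons_succ]
        exact hD j
    · rw [← hsup]
      exact sup_le ((le_iSup (Fin.cons (P ⊔ Q) D : Fin (t + 1) → Submodule F V) 0).trans' (by simp))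
        (hDs.trans (iSup_le fun j =>
          (le_iSup (Fin.cons (P ⊔ Q) D : Fin (t + 1) → Submodule F V) j.succ).trans' (by simp)))

/-- Cyclic generators of the irreducible pieces. -/
theorem exists_generators (hU : Uniform L E i) (hs : Split L) (s : ℕ) :
    ∀ W ≤ E, Inv L W → finrank F W = s * i →
      ∃ u : Fin s → V, (∀ l, u l ∈ W) ∧ ∀ S, Inv L S → (∀ l, u l ∈ S) → W ≤ S := by
  induction s with
  | zero =>
    intro W _ _ hd
    exact ⟨Fin.elim0, fun l => l.elim0, fun S _ _ => by
      rw [Submodule.finrank_eq_zero.1 (show finrank F W = 0 by simpa using hd)]; exact bot_le⟩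
  | succ s ih =>
    intro W hWE hW hd
    rw [add_mul, one_mul] at hd
    obtain ⟨U, hUW, hU', hUd⟩ := hU.exists_le W hWE hW fun e => by
      rw [e, finrank_bot] at hd
      have := hU.pos
      omega
    obtain ⟨R, hRW, hR, -, hsup, hdim⟩ := hs.exists_rel hU' hW hUW
    obtain ⟨u, hu, hgen⟩ := ih R (hRW.trans hWE) hR (by omega)
    obtain ⟨v, hv, hv0⟩ := Submodule.exists_mem_ne_zero_of_ne_bot (p := U) fun e => by
      rw [e, finrank_bot] at hUd
      have := hU.pos
      omega
    refine ⟨Fin.cons v u, fun l => ?_, fun S hS hl => ?_⟩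
    · cases l using Fin.cases with
      | zero => simpa using hUW hv
      | succ l => simpa using hRW (hu l)
    · have hUS : U ≤ S := by
        have hvS : v ∈ S := by simpa using hl 0
        have h1 := hU.dvd (U ⊓ S) (inf_le_left.trans (hUW.trans hWE)) (hU'.inf hS)
        have h2 : U ⊓ S = U := Submodule.eq_of_le_of_finrank_le inf_le_left (hUd ▸ Nat.le_of_dvd
          (Nat.pos_of_ne_zero fun e => hv0 (by
            have h3 : v ∈ U ⊓ S := ⟨hv, hvS⟩
            rwa [Submodule.finrank_eq_zero.1 e, Submodule.mem_bot] at h3)) h1)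
        exact h2.symm.le.trans inf_le_right
      rw [← hsup]
      exact sup_le hUS (hgen S hS fun l => by simpa using hl l.succ)

end Blocks

section Cycles

variable {F : Type*} [Field F] {V : Type*} [AddCommGroup V] [Module F V] [FiniteDimensional F V]
  {L : Module.End F V} {t r : ℕ} {D : Fin t → Submodule F V} {σ : Equiv.Perm (Fin t)}

theorem map_pow_eq (hm : ∀ j, (D j).map L = D (σ j)) : ∀ k j, (D j).map (L ^ k) = D ((σ ^ k) j) := by
  intro k
  induction k with
  | zero => intro j; simp [Module.End.one_eq_id]
  | succ k ih => intro j; rw [pow_succ', Module.End.mul_eq_comp, Submodule.map_comp, ih, hm, pow_succ']; rfl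

theorem sum_fixed (hL : L ^ r = 1) (v : V) :
    (∑ k ∈ Finset.range r, L ^ k) v ∈ L.eigenspace 1 := by
  have h1 : (L - 1) * ∑ j ∈ Finset.range r, L ^ j = 0 := by rw [mul_geom_sum, hL, sub_self]
  have h2 := LinearMap.congr_fun h1 v
  rw [Module.End.mul_apply, LinearMap.sub_apply, Module.End.one_apply, LinearMap.zero_apply, sub_eq_zero] at h2
  rw [Module.End.mem_eigenspace_iff, one_smul]
  exact h2

theorem injective_of_ne_bot (hi : iSupIndep D) (hne : ∀ j, D j ≠ ⊥) : Function.Injective D := fun j j' e => by
  by_contra hjj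
  have h1 : D j ≤ ⨆ k ≠ j, D k := e.le.trans (le_iSup₂ (f := fun k (_ : k ≠ j) => D k) j' (Ne.symm hjj))
  exact hne j (disjoint_self.1 ((hi j).mono_right h1))

theorem orbit_facts [Fact r.Prime] (hi : iSupIndep D) (hs : iSup D = ⊤) (hne : ∀ j, D j ≠ ⊥) (hL : L ^ r = 1)
    (hm : ∀ j, (D j).map L = D (σ j)) {j₀ : Fin t} (hj₀ : σ j₀ ≠ j₀) :
    (∀ k < r, k ≠ 0 → (σ ^ k) j₀ ≠ j₀) ∧
    (∀ v ∈ D j₀, (∑ k ∈ Finset.range r, L ^ k) v = 0 → v = 0) ∧
    finrank F (L.eigenspace 1) + (r - 1) * finrank F (D j₀) ≤ finrank F V := by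
  classical
  have hr : r.Prime := Fact.out
  have hinjD := injective_of_ne_bot hi hne
  have hmapk := map_pow_eq hm
  have hfixr : (σ ^ r) j₀ = j₀ := hinjD (by rw [← hmapk, hL, Module.End.one_eq_id, Submodule.map_id])
  have hper : Function.minimalPeriod σ j₀ = r := Function.minimalPeriod_eq_prime
    (by rw [Function.IsPeriodicPt, Function.IsFixedPt, ← Equiv.Perm.coe_pow]; exact hfixr) hj₀
  have hinjk : ∀ k < r, ∀ k' < r, (σ ^ k) j₀ = (σ ^ k') j₀ → k = k' := fun k hk k' hk' e => by
    rw [Equiv.Perm.coe_pow, Equiv.Perm.coe_pow] at e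
    exact (Function.iterate_injOn_Iio_minimalPeriod (f := σ) (x := j₀)) (by rw [hper]; exact hk)
      (by rw [hper]; exact hk') e
  have hne0 : ∀ k < r, k ≠ 0 → (σ ^ k) j₀ ≠ j₀ := fun k hk hk0 e =>
    hk0 (hinjk k hk 0 hr.pos (by rw [pow_zero]; exact e))
  refine ⟨hne0, fun v hv h0 => ?_, ?_⟩
  · refine Submodule.disjoint_def.1 (hi j₀) v hv ?_
    rw [LinearMap.sum_apply, ← Finset.add_sum_erase _ _ (Finset.mem_range.2 hr.pos), pow_zero,
      Module.End.one_apply, add_eq_zero_iff_eq_neg] at h0
    rw [h0]
    refine Submodule.neg_mem _ (Submodule.sum_mem _ fun k hk => ?_)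
    obtain ⟨hk0, hk⟩ := Finset.mem_erase.1 hk
    have hmem : (L ^ k) v ∈ D ((σ ^ k) j₀) := hmapk k j₀ ▸ Submodule.mem_map_of_mem hv
    exact (le_iSup₂ (f := fun k (_ : k ≠ j₀) => D k) ((σ ^ k) j₀) (hne0 k (Finset.mem_range.1 hk) hk0)) hmem
  · set S := (Finset.range (r - 1)).image fun k => (σ ^ (k + 1)) j₀ with hS
    have hcard : S.card = r - 1 := by
      rw [hS, Finset.card_image_of_injOn, Finset.card_range]
      intro k hk k' hk' e
      rw [Finset.coe_range, Set.mem_Iio] at hk hk'
      have := hinjk (k + 1) (by omega) (k' + 1) (by omega) e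
      omega
    have hdimD : ∀ k, finrank F (D ((σ ^ k) j₀)) = finrank F (D j₀) := fun k => by
      rw [← hmapk]
      refine (Submodule.equivMapOfInjective (L ^ k) ?_ (D j₀)).finrank_eq.symm
      have hLi : Function.Injective L := by
        refine (injective_iff_map_eq_zero L).2 fun w hw => ?_
        have h1 := LinearMap.congr_fun hL w
        rw [show r = r - 1 + 1 by have := hr.pos; omega, pow_succ, Module.End.mul_apply, hw, map_zero] at h1
        exact h1.symm
      rw [Module.End.coe_pow]
      exact hLi.iterate k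
    have hSd : ∀ T : Finset (Fin t), T ⊆ S → finrank F (T.sup D : Submodule F V) = T.card * finrank F (D j₀) := by
      intro T
      induction T using Finset.induction_on with
      | empty => simp
      | insert j T hj ih =>
        intro hsub
        obtain ⟨hjS, hTS⟩ := Finset.insert_subset_iff.1 hsub
        obtain ⟨k, -, rfl⟩ := Finset.mem_image.1 hjS
        have hdis : Disjoint (D ((σ ^ (k + 1)) j₀)) (T.sup D) := by
          have := disjoint_sup hi (S := {(σ ^ (k + 1)) j₀}) (S' := T) (Finset.disjoint_singleton_left.2 hj)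
          rwa [Finset.sup_singleton] at this
        rw [Finset.card_insert_of_notMem hj, Finset.sup_insert, finrank_sup_of_disjoint hdis, hdimD, ih hTS,
          add_mul, one_mul, add_comm]
    have hdis : Disjoint (L.eigenspace 1) (S.sup D) := Submodule.disjoint_def.2 fun v hvC hvS => by
      refine eq_zero_of_others hi (hs ▸ Submodule.mem_top) fun j => ?_
      have hle : ∀ j, j ∉ S → S.sup D ≤ ⨆ k ≠ j, D k := fun j hj => Finset.sup_le fun k hk =>
        le_iSup₂ (f := fun k (_ : k ≠ j) => D k) k fun e => hj (e ▸ hk)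
      by_cases hj : j ∈ S
      swap
      · exact hle j hj hvS
      obtain ⟨k, -, rfl⟩ := Finset.mem_image.1 hj
      have h0 : j₀ ∉ S := fun h => by
        obtain ⟨l, hl, e⟩ := Finset.mem_image.1 h
        rw [Finset.mem_range] at hl
        exact hne0 (l + 1) (by omega) (by omega) e
      have hfix : ∀ m, (L ^ m) v = v := fun m => by
        induction m with
        | zero => rfl
        | succ m ih =>
          rw [Module.End.mem_eigenspace_iff, one_smul] at hvC
          rw [pow_succ, Module.End.mul_apply, hvC, ih]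
      have hmap : (⨆ l ≠ j₀, D l).map (L ^ (k + 1)) ≤ ⨆ l ≠ (σ ^ (k + 1)) j₀, D l := by
        simp only [Submodule.map_iSup, hmapk]
        exact iSup₂_le fun l hl =>
          le_iSup₂ (f := fun l (_ : l ≠ (σ ^ (k + 1)) j₀) => D l) ((σ ^ (k + 1)) l) fun e => hl (Equiv.injective _ e)
      rw [← hfix (k + 1)]
      exact hmap (Submodule.mem_map_of_mem (hle j₀ h0 hvS))
    have h1 := finrank_sup_of_disjoint hdis
    rw [hSd S subset_rfl, hcard] at h1
    have h2 := Submodule.finrank_le (L.eigenspace 1 ⊔ S.sup D)
    omega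

/-- Monomial maps of order `r` without non-trivial roots of unity fix many vectors. -/
theorem le_mul_fixed [Fact r.Prime] (hi : iSupIndep D) (hs : iSup D = ⊤) (hd : ∀ j, finrank F (D j) = 1)
    (hr0 : (r : F) ≠ 0) (hroot : ∀ μ : F, μ ^ r = 1 → μ = 1) (hL : L ^ r = 1)
    (hm : ∀ j, (D j).map L = D (σ j)) : t ≤ r * finrank F (L.eigenspace 1) := by
  classical
  have hne : ∀ j, D j ≠ ⊥ := fun j e => by
    have := hd j
    rw [e, finrank_bot] at this
    omega
  have hmapk := map_pow_eq hm
  have hinjD := injective_of_ne_bot hi hne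
  let orb : Fin t → Finset (Fin t) := fun j => (Finset.range r).image fun k => (σ ^ k) j
  have hperiod : ∀ j, (σ ^ r) j = j := fun j => hinjD (by
    rw [← hmapk, hL, Module.End.one_eq_id, Submodule.map_id])
  have hr : r.Prime := Fact.out
  have hmod : ∀ j k, (σ ^ k) j = (σ ^ (k % r)) j := fun j k => by
    conv_lhs => rw [← Nat.mod_add_div k r, pow_add, Equiv.Perm.mul_apply, pow_mul]
    congr 1
    induction k / r with
    | zero => rfl
    | succ m ih => rw [pow_succ, Equiv.Perm.mul_apply, hperiod, ih]
  have horb : ∀ j j', j' ∈ orb j → orb j' = orb j := fun j j' h => by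
    obtain ⟨k, hk, rfl⟩ := Finset.mem_image.1 h
    rw [Finset.mem_range] at hk
    ext x
    simp only [orb, Finset.mem_image, Finset.mem_range]
    constructor
    · rintro ⟨l, -, rfl⟩
      exact ⟨(l + k) % r, Nat.mod_lt _ hr.pos, by rw [← hmod, pow_add, Equiv.Perm.mul_apply]⟩
    · rintro ⟨l, -, rfl⟩
      refine ⟨(l + (r - k)) % r, Nat.mod_lt _ hr.pos, ?_⟩
      rw [← hmod, pow_add, Equiv.Perm.mul_apply, ← Equiv.Perm.mul_apply (σ ^ (r - k)), ← pow_add,
        show r - k + k = r by omega, hperiod]
  choose v hv hv0 using fun j => Submodule.exists_mem_ne_zero_of_ne_bot (hne j)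
  let Φ : Module.End F V := ∑ k ∈ Finset.range r, L ^ k
  have hΦmem : ∀ j, Φ (v j) ∈ (orb j).sup D := fun j => by
    rw [LinearMap.sum_apply]
    exact Submodule.sum_mem _ fun k hk => (Finset.le_sup (f := D) (Finset.mem_image_of_mem _ hk))
      (hmapk k j ▸ Submodule.mem_map_of_mem (hv j))
  have hΦ0 : ∀ j, Φ (v j) ≠ 0 := fun j e => by
    by_cases hj : σ j = j
    · have hmem : L (v j) ∈ D j := by
        have := Submodule.mem_map_of_mem (f := L) (hv j)
        rwa [hm, hj] at this
      obtain ⟨μ, hμ⟩ := (finrank_eq_one_iff_of_nonzero' (⟨v j, hv j⟩ : D j)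
        (fun e => hv0 j (congrArg Subtype.val e))).1 (hd j) ⟨_, hmem⟩
      have hμ' : μ • v j = L (v j) := congrArg Subtype.val hμ
      have hpw : ∀ k, (L ^ k) (v j) = μ ^ k • v j := fun k => by
        induction k with
        | zero => simp
        | succ k ih => rw [pow_succ, Module.End.mul_apply, ← hμ', map_smul, ih, smul_smul, mul_comm, pow_succ]
      have hμ1 : μ = 1 := hroot μ (by
        by_contra hne1
        have h1 := hpw r
        rw [hL, Module.End.one_apply] at h1
        exact hv0 j ((smul_eq_zero.1 (show (μ ^ r - 1) • v j = 0 by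
          rw [sub_smul, one_smul, ← h1, sub_self])).resolve_left (sub_ne_zero.2 hne1)))
      rw [LinearMap.sum_apply, Finset.sum_congr rfl (fun k _ => hpw k), hμ1] at e
      simp only [one_pow, one_smul, Finset.sum_const, Finset.card_range] at e
      rw [← Nat.cast_smul_eq_nsmul F] at e
      exact hv0 j ((smul_eq_zero.1 e).resolve_left hr0)
    · exact hv0 j ((orbit_facts hi hs hne hL hm hj).2.1 (v j) (hv j) e)
  let O : Finset (Finset (Fin t)) := Finset.univ.image orb
  rcases Nat.eq_zero_or_pos t with ht0 | ht0
  · omega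
  haveI : Nonempty (Fin t) := ⟨⟨0, ht0⟩⟩
  choose! rep hrep using fun o (ho : o ∈ O) => Finset.mem_image.1 ho
  have hO : t ≤ r * O.card := by
    have h1 : (Finset.univ : Finset (Fin t)).card ≤ r * O.card := by
      refine Finset.card_le_mul_card_image Finset.univ r fun o ho => ?_
      have h2 : (Finset.univ.filter fun j => orb j = o) ⊆ o := fun j hj => by
        rw [← (Finset.mem_filter.1 hj).2]
        exact Finset.mem_image.2 ⟨0, Finset.mem_range.2 hr.pos, rfl⟩
      refine (Finset.card_le_card h2).trans ?_
      obtain ⟨j, -, rfl⟩ := Finset.mem_image.1 ho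
      exact Finset.card_image_le.trans (Finset.card_range r).le
    rwa [Finset.card_univ, Fintype.card_fin] at h1
  let P : Finset (Fin t) → Submodule F V := fun o => F ∙ Φ (v (rep o))
  have hP : ∀ S ⊆ O, S.card ≤ finrank F (S.sup P : Submodule F V) := by
    intro S
    induction S using Finset.induction_on with
    | empty => simp
    | insert o S ho ih =>
      intro hsub
      obtain ⟨hoO, hSO⟩ := Finset.insert_subset_iff.1 hsub
      have hPo : ∀ o' ∈ O, P o' ≤ o'.sup D := fun o' ho' => by
        rw [Submodule.span_singleton_le_iff_mem]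
        have := hΦmem (rep o')
        rwa [(hrep o' ho').2] at this
      have hdis : Disjoint (P o) (S.sup P) := by
        refine ((disjoint_sup hi (S := o) (S' := S.biUnion id) ?_).mono (hPo o hoO) ?_)
        · rw [Finset.disjoint_biUnion_right]
          intro o' ho'
          rw [Finset.disjoint_left]
          intro x hx hx'
          rw [← (hrep o hoO).2] at hx
          rw [id, ← (hrep o' (hSO ho')).2] at hx'
          exact ho (by rw [← (hrep o hoO).2, ← horb _ _ hx, horb _ _ hx', (hrep o' (hSO ho')).2]; exact ho')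
        · refine Finset.sup_le fun o' ho' => (hPo o' (hSO ho')).trans (Finset.sup_mono ?_)
          exact Finset.subset_biUnion_of_mem id ho'
      rw [Finset.card_insert_of_notMem ho, Finset.sup_insert, finrank_sup_of_disjoint hdis,
        finrank_span_singleton (hΦ0 _)]
      have := ih hSO
      omega
  have h3 : O.sup P ≤ L.eigenspace 1 := Finset.sup_le fun o _ => by
    rw [Submodule.span_singleton_le_iff_mem]; exact sum_fixed hL _
  exact hO.trans (Nat.mul_le_mul_left r ((hP O subset_rfl).trans (Submodule.finrank_mono h3)))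

end Cycles

section Count

variable {F : Type*} [Field F] [Fintype F] {V : Type*} [AddCommGroup V] [Module F V] [FiniteDimensional F V]
  {t a : ℕ}

/-- Decompositions into subspaces of dimension `a`. -/
def IsDec (a : ℕ) (D : Fin t → Submodule F V) : Prop :=
  (∀ j, finrank F (D j) = a) ∧ iSupIndep D ∧ iSup D = ⊤

theorem IsDec.exists_map {D D' : Fin t → Submodule F V} (hD : IsDec a D) (hD' : IsDec a D') :
    ∃ g : V ≃ₗ[F] V, ∀ j, (D j).map (g : V →ₗ[F] V) = D' j := by
  classical
  let b := fun j => Module.finBasisOfFinrankEq F (D j) (hD.1 j)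
  let b' := fun j => Module.finBasisOfFinrankEq F (D' j) (hD'.1 j)
  have hI := DirectSum.isInternal_submodule_of_iSupIndep_of_iSup_eq_top hD.2.1 hD.2.2
  have hI' := DirectSum.isInternal_submodule_of_iSupIndep_of_iSup_eq_top hD'.2.1 hD'.2.2
  let c := hI.collectedBasis b
  let c' := hI'.collectedBasis b'
  refine ⟨c.equiv c' (Equiv.refl _), fun j => Submodule.eq_of_le_of_finrank_eq ?_
    (((c.equiv c' (Equiv.refl _)).finrank_map_eq (D j)).trans ((hD.1 j).trans (hD'.1 j).symm))⟩
  have hsp := congrArg (Submodule.map (D j).subtype) (b j).span_eq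
  rw [Submodule.map_subtype_top, Submodule.map_span, ← Set.range_comp] at hsp
  rw [← hsp, Submodule.map_span, Submodule.span_le]
  rintro _ ⟨_, ⟨s, rfl⟩, rfl⟩
  show c.equiv c' (Equiv.refl _) (b j s : V) ∈ D' j
  rw [show (b j s : V) = c ⟨j, s⟩ by simp [c], Module.Basis.equiv_apply, Equiv.refl_apply,
    show c' ⟨j, s⟩ = (b' j s : V) by simp [c']]
  exact (b' j s).2

theorem card_dec_dvd (ha : 0 < a) (hD : Nonempty {D : Fin t → Submodule F V // IsDec a D}) :
    Nat.card {D : Fin t → Submodule F V // IsDec a D} / t.factorial ∣ Nat.card (V ≃ₗ[F] V) := by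
  classical
  haveI : Finite V := Module.finite_of_finite F
  haveI : Finite (V ≃ₗ[F] V) := Finite.of_injective (fun g : V ≃ₗ[F] V => (g : V → V)) DFunLike.coe_injective
  haveI : Finite (Submodule F V) := Finite.of_injective (fun S : Submodule F V => (S : Set V)) SetLike.coe_injective
  obtain ⟨⟨D₀, hD₀⟩⟩ := hD
  have hne : ∀ D : Fin t → Submodule F V, IsDec a D → ∀ j, D j ≠ ⊥ := fun D hD j e => by
    have := hD.1 j
    rw [e, finrank_bot] at this
    omega
  have hsmul : ∀ (g : V ≃ₗ[F] V) (D : Fin t → Submodule F V), IsDec a D →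
      IsDec a fun j => (D j).map (g : V →ₗ[F] V) := fun g D hD =>
    ⟨fun j => (g.finrank_map_eq _).trans (hD.1 j), hD.2.1.map_orderIso (Submodule.orderIsoMapComap g),
      by rw [← Submodule.map_iSup, hD.2.2, Submodule.map_top, LinearEquiv.range]⟩
  let f : (V ≃ₗ[F] V) → {D : Fin t → Submodule F V // IsDec a D} := fun g => ⟨_, hsmul g D₀ hD₀⟩
  let S : Subgroup (V ≃ₗ[F] V) :=
    { carrier := {g | ∀ j, (D₀ j).map (g : V →ₗ[F] V) = D₀ j}
      mul_mem' := fun {g g'} hg hg' j => by
        show (D₀ j).map ((g : V →ₗ[F] V).comp (g' : V →ₗ[F] V)) = D₀ j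
        rw [Submodule.map_comp, hg' j, hg j]
      one_mem' := fun j => Submodule.map_id _
      inv_mem' := fun {g} hg j => by
        conv_lhs => rw [← hg j]
        rw [← Submodule.map_comp]
        convert Submodule.map_id (D₀ j)
        exact LinearMap.ext fun v => g.symm_apply_apply v }
  let φ : (V ≃ₗ[F] V) ⧸ S → {D : Fin t → Submodule F V // IsDec a D} :=
    Quotient.lift f fun g g' hgg => by
      have hgg' : g⁻¹ * g' ∈ S := QuotientGroup.leftRel_apply.1 hgg
      refine Subtype.ext (funext fun j => ?_)
      show (D₀ j).map (g : V →ₗ[F] V) = (D₀ j).map (g' : V →ₗ[F] V)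
      conv_lhs => rw [← hgg' j, ← Submodule.map_comp]
      congr 1
      exact LinearMap.ext fun v => g.apply_symm_apply (g' v)
  have hφ : Function.Bijective φ := by
    refine ⟨?_, fun D => ?_⟩
    · intro x y
      refine QuotientGroup.induction_on x fun g => QuotientGroup.induction_on y fun g' e => ?_
      refine QuotientGroup.eq.2 fun j => ?_
      have e' : (D₀ j).map (g : V →ₗ[F] V) = (D₀ j).map (g' : V →ₗ[F] V) :=
        congrFun (congrArg Subtype.val e) j
      show (D₀ j).map ((g.symm : V →ₗ[F] V).comp (g' : V →ₗ[F] V)) = D₀ j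
      rw [Submodule.map_comp, ← e', ← Submodule.map_comp]
      convert Submodule.map_id (D₀ j)
      exact LinearMap.ext fun v => g.symm_apply_apply v
    · obtain ⟨g, hg⟩ := hD₀.exists_map D.2
      exact ⟨QuotientGroup.mk g, Subtype.ext (funext hg)⟩
  have h1 : Nat.card {D : Fin t → Submodule F V // IsDec a D} ∣ Nat.card (V ≃ₗ[F] V) := by
    rw [← Nat.card_eq_of_bijective φ hφ]
    exact ⟨_, Subgroup.card_eq_card_quotient_mul_card_subgroup S⟩
  refine (Nat.div_dvd_of_dvd ?_).trans h1
  let ρ : {D : Fin t → Submodule F V // IsDec a D} → Set (Submodule F V) := fun D => Set.range D.1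
  have hperm : ∀ (π : Equiv.Perm (Fin t)) (D : Fin t → Submodule F V), IsDec a D → IsDec a (D ∘ π) := fun π D hD =>
    ⟨fun j => hD.1 _, hD.2.1.comp π.injective, by rw [Function.comp_def, π.surjective.iSup_comp]; exact hD.2.2⟩
  haveI : Finite (Set (Submodule F V)) := inferInstance
  have hfib : ∀ s : Set.range ρ, Nat.card {D // ρ D = s.1} = t.factorial := by
    rintro ⟨_, ⟨D, hD⟩, rfl⟩
    rw [show t.factorial = Nat.card (Equiv.Perm (Fin t)) by rw [Nat.card_perm, Nat.card_eq_fintype_card, Fintype.card_fin]]
    refine (Nat.card_eq_of_bijective (fun π : Equiv.Perm (Fin t) =>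
      (⟨⟨D ∘ π, hperm π D hD⟩, by simp [ρ, Set.range_comp]⟩ : {X // ρ X = Set.range D})) ⟨?_, ?_⟩).symm
    · intro π π' e
      exact Equiv.ext fun j => injective_of_ne_bot hD.2.1 (hne D hD) (congrFun (congrArg (fun X => X.1.1) e) j)
    · rintro ⟨⟨X, hX⟩, hXD⟩
      have hXD' : Set.range X = Set.range D := hXD
      have hmem : ∀ j, ∃ k, D k = X j := fun j => by
        have : X j ∈ Set.range D := hXD' ▸ ⟨j, rfl⟩
        exact this
      choose π hπ using hmem
      have hπi : Function.Injective π := fun j j' e =>
        injective_of_ne_bot hX.2.1 (hne X hX) (by rw [← hπ, ← hπ, e])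
      exact ⟨Equiv.ofBijective π (Finite.injective_iff_bijective.1 hπi),
        Subtype.ext (Subtype.ext (funext hπ))⟩
  refine Dvd.intro_left (Nat.card (Set.range ρ)) ?_
  rw [← card_sigma_const hfib]
  exact Nat.card_congr ((Equiv.sigmaCongrRight fun s => Equiv.subtypeEquivRight fun D => Iff.rfl).trans
    ((Equiv.sigmaCongrRight fun s : Set.range ρ => Equiv.subtypeEquivRight
      (fun D => (Subtype.ext_iff (a1 := (⟨ρ D, D, rfl⟩ : Set.range ρ)) (a2 := s)).symm)).trans
        (Equiv.sigmaFiberEquiv fun D => (⟨ρ D, D, rfl⟩ : Set.range ρ))))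

/-- An element of determinant one and order `r` moving exactly one irreducible piece. -/
theorem exists_small_witness {r : ℕ} [Fact r.Prime] (hr : (r : F) ≠ 0) {n : ℕ}
    (hi2 : 2 ≤ orderOf (Fintype.card F : ZMod r)) (hin : orderOf (Fintype.card F : ZMod r) ≤ n) :
    ∃ T : Module.End F (Fin n → F), T ^ r = 1 ∧ LinearMap.det T = 1 ∧
      (∀ z : F, T ≠ algebraMap F (Module.End F (Fin n → F)) z) ∧
      n ≤ finrank F (T.eigenspace 1) + orderOf (Fintype.card F : ZMod r) := by
  classical
  set i := orderOf (Fintype.card F : ZMod r) with hi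
  have hco : (Fintype.card F - 1).Coprime r := coprime_of_order_ne_one (by omega)
  have hr0 : r ≠ 0 := (Fact.out : r.Prime).ne_zero
  obtain ⟨y, hy, -, hyne, -⟩ := exists_semisimple_witness (n := i) hr (by omega) (le_refl i)
  let W := (Fin i → F) × (Fin (n - i) → F)
  let T₀ : Module.End F W := LinearMap.prodMap y LinearMap.id
  have hT₀ : ∀ (m : ℕ) (w : W), (T₀ ^ m) w = ((y ^ m) w.1, w.2) := by
    intro m
    induction m with
    | zero => intro w; rfl
    | succ m ih => intro w; rw [pow_succ', Module.End.mul_apply, ih, pow_succ']; rfl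
  let e : W ≃ₗ[F] (Fin n → F) := LinearEquiv.ofFinrankEq _ _ (by
    simp only [W, finrank_prod, Module.finrank_fin_fun]
    omega)
  let T : Module.End F (Fin n → F) := e.conjAlgEquiv F T₀
  have hTa : ∀ w, T (e w) = e (T₀ w) := fun w => by simp [T]
  have hTr : T ^ r = 1 := by
    rw [← map_pow, show T₀ ^ r = 1 from LinearMap.ext fun w => by rw [hT₀, hy]; rfl, map_one]
  refine ⟨T, hTr, eq_one_of_pow_eq_one hr0 hco (by rw [← map_pow, hTr, map_one]), fun z hz => hyne z ?_, ?_⟩
  · refine LinearMap.ext fun v => ?_
    have h1 := hTa (v, 0)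
    rw [hz, Module.algebraMap_end_apply, ← map_smul] at h1
    exact (congrArg Prod.fst (e.injective h1)).symm
  · let φ : (Fin (n - i) → F) →ₗ[F] T.eigenspace 1 :=
      LinearMap.codRestrict _ (e.toLinearMap ∘ₗ LinearMap.inr F _ _) fun f => by
        rw [Module.End.mem_eigenspace_iff, one_smul]
        show T (e (0, f)) = e (0, f)
        rw [hTa]
        congr 1
        exact Prod.ext (map_zero y) rfl
    have hφ : Function.Injective φ := (injective_iff_map_eq_zero φ).2 fun f hf =>
      congrArg Prod.snd (e.injective (a₁ := ((0 : Fin i → F), f)) (a₂ := 0) (by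
        rw [map_zero]; exact congrArg Subtype.val hf))
    have := LinearMap.finrank_le_finrank_of_injective hφ
    rw [Module.finrank_fin_fun] at this
    omega

end Count

/-- Elements of odd prime order of PSL_n(q) and imprimitive subgroups. Here `T = PSL_n(F)` for a field `F` with `q = p^f` elements (`n ≥ 2`, `(n, q) ≠ (2, 2), (2, 3)`), `n = a·t` with `t ≥ 2`, and Ω is the set of direct-sum decompositions of `F^n` into `t` subspaces of dimension `a` (unordered; their number is the number of ordered ones divided by `t!`), whose stabilizers are the imprimitive subgroups of type GL_a(q) ≀ S_t (maximal except in some small cases; maximality is not assumed); an element of `T` of prime order `r` (a matrix `x` of determinant 1 with `x^r` scalar, `x` not scalar) fixes a point of Ω when it permutes the summands of some such decomposition. Let `r ≠ p` be an odd prime dividing the number of such decompositions, let `c` be the multiplicative order of `q` modulo `r`, and write `k = n mod c`, `ℓ = a mod c`. Then every element of `T` of order `r`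 stabilizes such a decomposition if and only if either `a = 1`, `c = r − 1 > 1` and `n ≤ k·r`, or `c ≤ a` and `k = t·ℓ`. -/
theorem result {F : Type*} [Field F] [Fintype F] {p : ℕ} [Fact p.Prime] [CharP F p] {q : ℕ} (hq : Fintype.card F = q)
    (n a t : ℕ) (hn : 2 ≤ n) (hT : (n, q) ≠ (2, 2) ∧ (n, q) ≠ (2, 3)) (hat : n = a * t) (ha : 1 ≤ a) (ht : 2 ≤ t)
    (r : ℕ) [Fact r.Prime] (hr2 : r ≠ 2) (hrp : r ≠ p) (hΩ : r ∣ Nat.card {D : Fin t → Submodule F (Fin n → F) // Cfsg.Geo.IsMDecomposition a D} / Nat.factorial t)
    (c : ℕ) (hc : c = orderOf (q : ZMod r)) :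
    (∀ x : Matrix.SpecialLinearGroup (Fin n) F,
      (∃ z : F, ((x ^ r : Matrix.SpecialLinearGroup (Fin n) F) : Matrix (Fin n) (Fin n) F) = z • (1 : Matrix (Fin n) (Fin n) F)) →
      (∀ z : F, (x : Matrix (Fin n) (Fin n) F) ≠ z • (1 : Matrix (Fin n) (Fin n) F)) →
      ∃ D : Fin t → Submodule F (Fin n → F), Cfsg.Geo.IsMDecomposition a D ∧
        ∃ σ : Equiv.Perm (Fin t), ∀ j, (D j).map (Matrix.toLin' (x : Matrix (Fin n) (Fin n) F)) = D (σ j)) ↔
    ((a = 1 ∧ 1 < c ∧ c = r - 1 ∧ n ≤ (n % c) * r) ∨ (c ≤ a ∧ n % c = t * (a % c))) := by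
  classical
  have hr : r.Prime := Fact.out
  subst hq
  have hr0 : (r : F) ≠ 0 := fun e => by
    rw [CharP.cast_eq_zero_iff F p] at e
    exact hrp ((Nat.prime_dvd_prime_iff_eq Fact.out hr).1 e).symm
  have hrq : ¬ r ∣ Fintype.card F := fun hd' => by
    obtain ⟨k, -, hk⟩ := FiniteField.card F p
    rw [hk] at hd'
    exact hrp ((Nat.prime_dvd_prime_iff_eq hr Fact.out).1 (hr.dvd_of_dvd_pow hd'))
  have hqz : (Fintype.card F : ZMod r) ≠ 0 := fun e => hrq ((ZMod.natCast_eq_zero_iff _ _).1 e)
  have hc0 : 0 < c := by
    rw [hc]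
    exact orderOf_pos_iff.2 (isOfFinOrder_iff_pow_eq_one.2 ⟨r - 1, by have := hr.two_le; omega,
      ZMod.pow_card_sub_one_eq_one hqz⟩)
  have hcr : c ∣ r - 1 := by
    rw [hc]; exact orderOf_dvd_of_pow_eq_one (ZMod.pow_card_sub_one_eq_one hqz)
  have hn0 : 0 < n := by omega
  have hdec : ∀ D : Fin t → Submodule F (Fin n → F), Cfsg.Geo.IsMDecomposition a D ↔ IsDec a D := fun D =>
    ⟨fun h => ⟨h.finrank_eq, h.indep, h.iSup_eq_top⟩, fun h => ⟨ht, by omega, h.1, h.2.1, h.2.2⟩⟩
  have hmk : ∀ D : Fin t → Submodule F (Fin n → F), (∀ j, finrank F (D j) ≤ a) → ⊤ ≤ iSup D →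
      Cfsg.Geo.IsMDecomposition a D := fun D h1 h2 => by
    obtain ⟨h3, h4⟩ := indep_of_span h1 h2 (by rw [Module.finrank_fin_fun, Fintype.card_fin, hat, mul_comm])
    exact (hdec D).2 ⟨h4, h3, top_le_iff.1 h2⟩
  have hcn : c ≤ n := by
    rw [Nat.card_congr (Equiv.subtypeEquivRight hdec)] at hΩ
    have hne : Nonempty {D : Fin t → Submodule F (Fin n → F) // IsDec a D} := by
      let e : Fin t × Fin a ≃ Fin n := finProdFinEquiv.trans (finCongr (by rw [hat, mul_comm]))
      let D : Fin t → Submodule F (Fin n → F) := fun j =>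
        Submodule.span F (Set.range fun s => (Pi.single (e (j, s)) (1 : F) : Fin n → F))
      have hD := hmk D (fun j => (finrank_range_le_card _).trans (Fintype.card_fin a).le) (by
        rw [← (Pi.basisFun F (Fin n)).span_eq, Submodule.span_le]
        rintro _ ⟨x, rfl⟩
        obtain ⟨⟨j, s⟩, rfl⟩ := e.surjective x
        exact Submodule.mem_iSup_of_mem j (Submodule.subset_span ⟨s, by simp⟩))
      exact ⟨⟨D, (hdec D).1 hD⟩⟩
    have h1 := hΩ.trans (card_dec_dvd (t := t) (a := a) (by omega) hne)
    rw [← Nat.card_congr (LinearMap.GeneralLinearGroup.generalLinearEquiv F (Fin n → F)).toEquiv,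
      ← Nat.card_congr (Matrix.GeneralLinearGroup.toLin (n := Fin n) (R := F)).toEquiv, Matrix.card_GL_field] at h1
    obtain ⟨j, -, hj⟩ := (hr.prime.dvd_finsetProd_iff _).1 h1
    have hlt := j.2
    have h2 : r ∣ Fintype.card F ^ (j : ℕ) * (Fintype.card F ^ (n - (j : ℕ)) - 1) := by
      rw [Nat.mul_sub, mul_one, ← pow_add, Nat.add_sub_cancel' hlt.le]; exact hj
    have h3 := (hr.dvd_mul.1 h2).resolve_left fun h => hrq (hr.dvd_of_dvd_pow h)
    rw [← ZMod.natCast_eq_zero_iff, Nat.cast_sub (Nat.one_le_pow _ _ Fintype.card_pos), sub_eq_zero,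
      Nat.cast_pow, Nat.cast_one, ← orderOf_dvd_iff_pow_eq_one, ← hc] at h3
    have := Nat.le_of_dvd (by omega) h3
    omega
  rw [forall_sl_iff (r := r) fun L => ∃ D : Fin t → Submodule F (Fin n → F), Cfsg.Geo.IsMDecomposition a D ∧
    ∃ σ : Equiv.Perm (Fin t), ∀ j, (D j).map L = D (σ j)]
  constructor
  · intro hall
    by_contra hcon
    push Not at hcon
    obtain ⟨hcon1, hcon2⟩ := hcon
    have hc2 : 2 ≤ c := by
      by_contra hlt
      exact hcon2 (by omega) (by rw [show c = 1 by omega, Nat.mod_one, Nat.mod_one, mul_zero])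
    have hco : (Fintype.card F - 1).Coprime r := coprime_of_order_ne_one (by rw [← hc]; omega)
    have hroot : ∀ μ : F, μ ^ r = 1 → μ = 1 := fun μ => eq_one_of_pow_eq_one hr.ne_zero hco
    have hsetup : ∀ T : Module.End F (Fin n → F), T ^ r = 1 → LinearMap.det T = 1 →
        (∀ z : F, T ≠ algebraMap F (Module.End F (Fin n → F)) z) →
        ∃ D : Fin t → Submodule F (Fin n → F), IsDec a D ∧ ∃ σ : Equiv.Perm (Fin t),
          (∀ j, (D j).map T = D (σ j)) ∧
          ((∀ j, σ j = j) ∨ ∃ j, σ j ≠ j) := fun T h1 h2 h3 => by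
      obtain ⟨D, hD, σ, hσ⟩ := hall T h2 1 (by rw [map_one]; exact h1) h3
      exact ⟨D, (hdec D).1 hD, σ, hσ, forall_or_exists_not _⟩
    have hnebot : ∀ D : Fin t → Submodule F (Fin n → F), IsDec a D → ∀ j, D j ≠ ⊥ := fun D hD j e => by
      have := hD.1 j
      rw [e, finrank_bot] at this
      omega
    rcases le_or_gt c a with hca | hca
    · -- the pieces fit into blocks
      obtain ⟨T, hT, hdet, hns, hfix⟩ := exists_semisimple_witness (n := n) hr0 (by rw [← hc]; exact hc2)
        (by rw [← hc]; exact hcn)
      rw [← hc] at hfix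
      obtain ⟨D, hD, σ, hσ, hcase⟩ := hsetup T hT hdet hns
      rcases hcase with hfixed | ⟨j₀, hj₀⟩
      · obtain ⟨E, hE, -, hU, hform⟩ := exists_structure hr0 hT
        rw [← hc] at hU
        have hinv : ∀ j, Inv T (D j) := fun j => by
          show (D j).map T ≤ D j
          rw [hσ, hfixed]
        have hlow : ∀ j, a % c ≤ finrank F (D j ⊓ T.eigenspace 1 : Submodule F (Fin n → F)) := fun j => by
          obtain ⟨k, hk⟩ := hU.dvd (D j ⊓ E) inf_le_right ((hinv j).inf hU.inv)
          have h1 := hform _ (hinv j)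
          rw [hD.1, hk] at h1
          have h2 : a % c = finrank F (D j ⊓ T.eigenspace 1 : Submodule F (Fin n → F)) % c := by
            conv_lhs => rw [h1, Nat.add_mul_mod_self_left]
          rw [h2]; exact Nat.mod_le _ _
        have key : ∀ S : Finset (Fin t), S.card * (a % c) ≤
            finrank F (S.sup fun j => D j ⊓ T.eigenspace 1 : Submodule F (Fin n → F)) := by
          intro S
          induction S using Finset.induction_on with
          | empty => simp
          | insert j S hj ih =>
            rw [Finset.card_insert_of_notMem hj, Finset.sup_insert, add_mul, one_mul]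
            have hdis : Disjoint (D j ⊓ T.eigenspace 1) (S.sup fun j => D j ⊓ T.eigenspace 1) := by
              refine (hD.2.1 j).mono inf_le_left (Finset.sup_le fun k hk => ?_)
              exact inf_le_left.trans (le_iSup₂ (f := fun k (_ : k ≠ j) => D k) k fun e => hj (e ▸ hk))
            rw [finrank_sup_of_disjoint hdis]
            have := hlow j
            omega
        have h1 := key Finset.univ
        have h3 := Submodule.finrank_mono (Finset.sup_le fun j _ => inf_le_right :
          (Finset.univ.sup fun j => D j ⊓ T.eigenspace 1 : Submodule F (Fin n → F)) ≤ T.eigenspace 1)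
        rw [Finset.card_univ, Fintype.card_fin] at h1
        have hne := hcon2 hca
        have h4 : n % c = (t * (a % c)) % c := by rw [Nat.mul_mod_mod, hat, mul_comm a t]
        have h5 := Nat.mod_le (t * (a % c)) c
        omega
      · obtain ⟨-, hinj, -⟩ := orbit_facts hD.2.1 hD.2.2 (hnebot D hD) hT hσ hj₀
        have hge : a ≤ finrank F (T.eigenspace 1) := by
          rw [← hD.1 j₀]
          exact LinearMap.finrank_le_finrank_of_injective
            (f := (((∑ k ∈ Finset.range r, T ^ k).comp (D j₀).subtype).codRestrict (T.eigenspace 1)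
              fun v => sum_fixed hT _)) ((injective_iff_map_eq_zero _).2 fun v hv =>
                Subtype.ext (hinj v v.2 (congrArg Subtype.val hv)))
        have := Nat.mod_lt n hc0
        omega
    · by_cases hmono : a = 1 ∧ c = r - 1
      · obtain ⟨rfl, hcr1⟩ := hmono
        obtain ⟨T, hT, hdet, hns, hfix⟩ := exists_semisimple_witness (n := n) hr0 (by rw [← hc]; exact hc2)
          (by rw [← hc]; exact hcn)
        rw [← hc] at hfix
        obtain ⟨D, hD, σ, hσ, -⟩ := hsetup T hT hdet hns
        have h1 := le_mul_fixed hD.2.1 hD.2.2 hD.1 hr0 hroot hT hσ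
        have h2 := hcon1 rfl (by omega) hcr1
        have h3 : r * finrank F (T.eigenspace 1) ≤ r * (n % c) := Nat.mul_le_mul_left r hfix
        rw [mul_comm (n % c) r] at h2
        omega
      · obtain ⟨T, hT, hdet, hns, hfix⟩ := exists_small_witness (n := n) hr0 (by rw [← hc]; exact hc2)
          (by rw [← hc]; exact hcn)
        rw [← hc] at hfix
        obtain ⟨D, hD, σ, hσ, hcase⟩ := hsetup T hT hdet hns
        rcases hcase with hfixed | ⟨j₀, hj₀⟩
        · obtain ⟨E, hE, -, hU, hform⟩ := exists_structure hr0 hT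
          rw [← hc] at hU
          refine hns 1 (LinearMap.ext fun v => ?_)
          rw [map_one, Module.End.one_apply]
          have hle : ∀ j, D j ≤ T.eigenspace 1 := fun j => by
            have hinv : Inv T (D j) := by
              show (D j).map T ≤ D j
              rw [hσ, hfixed]
            obtain ⟨k, hk⟩ := hU.dvd (D j ⊓ E) inf_le_right (hinv.inf hU.inv)
            have h1 := hform _ hinv
            rw [hD.1, hk] at h1
            have hk0 : k = 0 := by
              by_contra hk0
              have : c ≤ c * k := Nat.le_mul_of_pos_right c (Nat.pos_of_ne_zero hk0)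
              omega
            rw [hk0, mul_zero, add_zero] at h1
            exact inf_eq_left.1 (Submodule.eq_of_le_of_finrank_le inf_le_left (by rw [hD.1, ← h1]))
          have hv : v ∈ T.eigenspace 1 := iSup_le hle (hD.2.2.symm ▸ Submodule.mem_top)
          rwa [Module.End.mem_eigenspace_iff, one_smul] at hv
        · obtain ⟨-, -, hsum⟩ := orbit_facts hD.2.1 hD.2.2 (hnebot D hD) hT hσ hj₀
          rw [hD.1, Module.finrank_fin_fun] at hsum
          have hcle := Nat.le_of_dvd (by have := hr.two_le; omega) hcr
          rcases Nat.lt_or_ge 1 a with h1 | h1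
          · have : (r - 1) * 2 ≤ (r - 1) * a := Nat.mul_le_mul_left _ h1
            omega
          · obtain rfl : a = 1 := by omega
            have : c < r - 1 := lt_of_le_of_ne hcle fun e => hmono ⟨rfl, e⟩
            omega
  · intro hcond L hdet z hz hns
    rcases cases_of_pow_eq hr0 hn0 hdet hz with ⟨d, hd, hT⟩ | ⟨hnp, hq1, hrn, -⟩
    · -- a scalar multiple of an element of order r
      set T : Module.End F (Fin n → F) := d⁻¹ • L with hTdef
      have hmap : ∀ S : Submodule F (Fin n → F), S.map L = S.map T := fun S =>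
        (Submodule.map_smul L S d⁻¹ (inv_ne_zero hd)).symm
      have hLi : Function.Injective T := by
        refine (injective_iff_map_eq_zero T).2 fun w hw => ?_
        have h1 := LinearMap.congr_fun hT w
        rw [show r = r - 1 + 1 by have := hr.pos; omega, pow_succ, Module.End.mul_apply, hw, map_zero] at h1
        exact h1.symm
      obtain ⟨E, hE, hs, hU, hform⟩ := exists_structure hr0 hT
      rw [← hc] at hU
      rcases hcond with ⟨rfl, hc1, hcr1, hnle⟩ | ⟨hca, hmod⟩
      · -- monomial
        rw [one_mul] at hat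
        subst hat
        obtain ⟨s, hs'⟩ := hU.dvd E le_rfl hU.inv
        set e := finrank F (T.eigenspace 1) with he
        have htot : e + c * s = n := by
          have := Submodule.finrank_add_eq_of_isCompl hE
          rw [Module.finrank_fin_fun, hs'] at this
          exact this
        have hse : s ≤ e := by
          have hm : n % c = e % c := by rw [← htot, Nat.add_mul_mod_self_left]
          by_contra hlt
          push Not at hlt
          have h2 : n % c ≤ e := hm ▸ Nat.mod_le e c
          have hrc : r = c + 1 := by have := hr.two_le; omega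
          have h3 : n % c * r ≤ e * r := Nat.mul_le_mul_right r h2
          have h4 : c * (e + 1) ≤ c * s := Nat.mul_le_mul_left c hlt
          rw [hrc] at h3
          rw [mul_add, mul_one] at h3 h4
          rw [hrc] at hnle
          nlinarith
        obtain ⟨u, hu, hgen⟩ := exists_generators hU hs s E le_rfl hU.inv (by rw [hs', mul_comm])
        let f := Module.finBasis F (T.eigenspace 1)
        have hfe : ∀ x : Fin e, T (f x : Fin n → F) = f x := fun x => by
          have := (f x).2
          rwa [Module.End.mem_eigenspace_iff, one_smul] at this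
        let w : (Fin s × ZMod r) ⊕ Fin (e - s) → (Fin n → F) := Sum.elim
          (fun lk => (T ^ lk.2.val) (u lk.1 + (f (Fin.castLE hse lk.1) : Fin n → F)))
          fun x => (f ⟨s + x.val, by omega⟩ : Fin n → F)
        let π : Equiv.Perm ((Fin s × ZMod r) ⊕ Fin (e - s)) :=
          Equiv.sumCongr (Equiv.prodCongr (Equiv.refl _) (Equiv.addRight 1)) (Equiv.refl _)
        have hw : ∀ x, T (w x) = w (π x) := by
          rintro (⟨l, k⟩ | x)
          · show T ((T ^ k.val) _) = (T ^ (k + 1).val) _
            rw [← Module.End.mul_apply, ← pow_succ', pow_eq_pow_mod (k.val + 1) hT, ZMod.val_add, ZMod.val_one r]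
            rfl
          · exact hfe _
        have hcard : Fintype.card ((Fin s × ZMod r) ⊕ Fin (e - s)) = n := by
          rw [Fintype.card_sum, Fintype.card_prod, Fintype.card_fin, Fintype.card_fin, ZMod.card]
          have : s * r = c * s + s := by rw [show r = c + 1 by have := hr.two_le; omega]; ring
          omega
        let eι := Fintype.equivFinOfCardEq hcard
        let D : Fin n → Submodule F (Fin n → F) := fun j => F ∙ w (eι.symm j)
        have hDle : ∀ x, w x ∈ iSup D := fun x => Submodule.mem_iSup_of_mem (eι x) (by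
          simp only [D, Equiv.symm_apply_apply]
          exact Submodule.mem_span_singleton_self _)
        have hDinv : Inv T (iSup D) := by
          show (iSup D).map T ≤ iSup D
          rw [Submodule.map_iSup]
          refine iSup_le fun j => ?_
          show (F ∙ w (eι.symm j)).map T ≤ iSup D
          rw [Submodule.map_span, Set.image_singleton, hw, Submodule.span_singleton_le_iff_mem]
          exact hDle _
        have hf0 : ∀ l : Fin s, (f (Fin.castLE hse l) : Fin n → F) ∈ iSup D := fun l => by
          set v := u l + (f (Fin.castLE hse l) : Fin n → F) with hv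
          have hsumv : (∑ k ∈ Finset.range r, T ^ k) v ∈ iSup D := by
            rw [LinearMap.sum_apply]
            refine Submodule.sum_mem _ fun k hk => ?_
            have h1 := hDle (.inl (l, (k : ZMod r)))
            simpa [w, v, map_add, ZMod.val_natCast, Nat.mod_eq_of_lt (Finset.mem_range.1 hk)] using h1
          have hu0 : (∑ k ∈ Finset.range r, T ^ k) (u l) = 0 := by
            refine Submodule.disjoint_def.1 hE.disjoint _ (sum_fixed hT _) ?_
            rw [LinearMap.sum_apply]
            refine Submodule.sum_mem _ fun k _ => ?_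
            have := hU.inv.aeval_mem (Polynomial.X ^ k) (hu l)
            simpa using this
          have hff : ∀ k : ℕ, (T ^ k) (f (Fin.castLE hse l) : Fin n → F) = f (Fin.castLE hse l) := fun k => by
            induction k with
            | zero => rfl
            | succ k ih => rw [pow_succ, Module.End.mul_apply, hfe, ih]
          rw [hv, map_add, hu0, zero_add, LinearMap.sum_apply, Finset.sum_congr rfl (fun k _ => hff k),
            Finset.sum_const, Finset.card_range, ← Nat.cast_smul_eq_nsmul F] at hsumv
          exact ((iSup D).smul_mem_iff hr0).1 hsumv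
        have htop : ⊤ ≤ iSup D := by
          rw [← hE.sup_eq_top]
          refine sup_le ?_ (hgen _ hDinv fun l => ?_)
          · have hsp := congrArg (Submodule.map (T.eigenspace 1).subtype) f.span_eq
            rw [Submodule.map_subtype_top, Submodule.map_span, ← Set.range_comp] at hsp
            rw [← hsp, Submodule.span_le]
            rintro _ ⟨x, rfl⟩
            show (f x : Fin n → F) ∈ iSup D
            by_cases hx : (x : ℕ) < s
            · simpa using hf0 ⟨x, hx⟩
            · have h1 := hDle (.inr ⟨x.val - s, by have := x.2; omega⟩)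
              simp only [w, Sum.elim_inr] at h1
              rwa [show (⟨s + (x.val - s), _⟩ : Fin e) = x from Fin.ext (by simp only; omega)] at h1
          · have h1 := hDle (.inl (l, 0))
            simp only [w, Sum.elim_inl, ZMod.val_zero, pow_zero, Module.End.one_apply] at h1
            simpa using (iSup D).sub_mem h1 (hf0 l)
        refine ⟨D, hmk D (fun j => (finrank_span_le_card _).trans (by simp)) htop,
          (eι.symm.trans π).trans eι, fun j => ?_⟩
        show (F ∙ w (eι.symm j)).map L = F ∙ w (eι.symm (eι (π (eι.symm j))))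
        rw [hmap, Submodule.map_span, Set.image_singleton, hw, Equiv.symm_apply_apply]
      · -- invariant blocks
        have hC : ∀ S ≤ T.eigenspace 1, Inv T S := fun S hS => Inv.of_mem fun v hv => by
          have := hS hv
          rw [Module.End.mem_eigenspace_iff, one_smul] at this
          rwa [this]
        obtain ⟨D, hD, hDs⟩ := exists_blocks hU hs hE.disjoint hC hform a t (hmod ▸ Nat.mod_lt _ hc0) ⊤
          (Inv.of_mem fun _ _ => Submodule.mem_top) (by rw [finrank_top, Module.finrank_fin_fun, hat])
        refine ⟨D, hmk D (fun j => (hD j).2.le) hDs, 1, fun j => ?_⟩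
        rw [hmap, Equiv.Perm.one_apply]
        exact Submodule.eq_of_le_of_finrank_eq (hD j).1
          (Submodule.equivMapOfInjective T hLi (D j)).finrank_eq.symm
    · -- no root in the field
      have hz0 : z ≠ 0 := fun h0 => hnp 0 (by rw [h0, zero_pow hr.ne_zero])
      have hLi : Function.Injective L := by
        refine (injective_iff_map_eq_zero L).2 fun w hw => ?_
        have h1 := LinearMap.congr_fun hz w
        rw [show r = r - 1 + 1 by have := hr.pos; omega, pow_succ, Module.End.mul_apply, hw, map_zero,
          Module.algebraMap_end_apply] at h1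
        exact (smul_eq_zero.1 h1.symm).resolve_left hz0
      have hU : Uniform L ⊤ r := kummer_uniform hnp hz
      have hs : Split L := split_of_pow hr0 hz0 hz
      by_cases hra : r ∣ a
      · obtain ⟨D, hD, hDs⟩ := exists_blocks hU hs (C := ⊥) disjoint_bot_left
          (fun S hS => Inv.of_mem fun v hv => by
            have hv0 : v = 0 := by simpa using hS hv
            rw [hv0, map_zero]; exact S.zero_mem)
          (fun W hW => by rw [inf_bot_eq, finrank_bot, inf_top_eq, zero_add]) a t
          (by rw [Nat.mod_eq_zero_of_dvd hra, mul_zero]; exact hr.pos) ⊤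
          (Inv.of_mem fun _ _ => Submodule.mem_top) (by rw [finrank_top, Module.finrank_fin_fun, hat])
        refine ⟨D, hmk D (fun j => (hD j).2.le) hDs, 1, fun j => ?_⟩
        rw [Equiv.Perm.one_apply]
        exact Submodule.eq_of_le_of_finrank_eq (hD j).1
          (Submodule.equivMapOfInjective L hLi (D j)).finrank_eq.symm
      · obtain ⟨t', rfl⟩ : r ∣ t := (hr.dvd_mul.1 (hat ▸ hrn)).resolve_left hra
        obtain ⟨u, -, hgen⟩ := exists_generators hU hs (t' * a) ⊤ le_rfl (Inv.of_mem fun _ _ => Submodule.mem_top)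
          (by rw [finrank_top, Module.finrank_fin_fun, hat]; ring)
        let eι : Fin t' × ZMod r ≃ Fin (r * t') := Fintype.equivFinOfCardEq (by
          rw [Fintype.card_prod, Fintype.card_fin, ZMod.card, mul_comm])
        let G : Fin t' × ZMod r → Submodule F (Fin n → F) := fun mk =>
          Submodule.span F (Set.range fun j : Fin a => (L ^ mk.2.val) (u (finProdFinEquiv (mk.1, j))))
        let π : Equiv.Perm (Fin t' × ZMod r) := Equiv.prodCongr (Equiv.refl _) (Equiv.addRight 1)
        have hG : ∀ mk, (G mk).map L = G (π mk) := by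
          rintro ⟨m, k⟩
          show (Submodule.span F _).map L = Submodule.span F
            (Set.range fun j : Fin a => (L ^ (k + 1).val) (u (finProdFinEquiv (m, j))))
          rw [Submodule.map_span, ← Set.range_comp]
          rcases Nat.lt_or_ge (k.val + 1) r with hlt | hge
          · have hv : (k + 1).val = k.val + 1 := by rw [ZMod.val_add, ZMod.val_one r, Nat.mod_eq_of_lt hlt]
            refine congrArg _ (congrArg _ (funext fun j => ?_))
            simp only [Function.comp_apply, hv, pow_succ', Module.End.mul_apply]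
          · have hk1 : k.val + 1 = r := by have := ZMod.val_lt k; omega
            have hv : (k + 1).val = 0 := by rw [ZMod.val_add, ZMod.val_one r, hk1, Nat.mod_self]
            simp only [hv, pow_zero, Module.End.one_apply]
            refine le_antisymm (Submodule.span_le.2 ?_) (Submodule.span_le.2 ?_) <;> rintro _ ⟨j, rfl⟩
            · simp only [Function.comp_apply, ← Module.End.mul_apply, ← pow_succ', hk1, hz,
                Module.algebraMap_end_apply]
              exact Submodule.smul_mem _ _ (Submodule.subset_span ⟨j, rfl⟩)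
            · refine (Submodule.smul_mem_iff _ hz0).1 (Submodule.subset_span ⟨j, ?_⟩)
              simp only [Function.comp_apply, ← Module.End.mul_apply, ← pow_succ', hk1, hz,
                Module.algebraMap_end_apply]
        let D : Fin (r * t') → Submodule F (Fin n → F) := fun i => G (eι.symm i)
        have hDinv : Inv L (iSup D) := by
          show (iSup D).map L ≤ iSup D
          rw [Submodule.map_iSup]
          refine iSup_le fun i => ?_
          show (G (eι.symm i)).map L ≤ iSup D
          rw [hG]
          exact le_iSup_of_le (eι (π (eι.symm i))) (by simp [D])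
        have htop : ⊤ ≤ iSup D := hgen _ hDinv fun l => by
          obtain ⟨⟨m, j⟩, rfl⟩ := finProdFinEquiv.surjective l
          refine Submodule.mem_iSup_of_mem (eι (m, 0)) ?_
          simp only [D, G, Equiv.symm_apply_apply]
          exact Submodule.subset_span ⟨j, by simp⟩
        refine ⟨D, hmk D (fun i => (finrank_range_le_card _).trans (Fintype.card_fin a).le) htop,
          (eι.symm.trans π).trans eι, fun i => ?_⟩
        show (G (eι.symm i)).map L = G (eι.symm (eι (π (eι.symm i))))
        rw [hG, Equiv.symm_apply_apply]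

end Cfsg.Agent.S5958
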