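import Cfsg.Statements.S5959
import Cfsg.Agent.Lib.Derangements.JordanRanks

set_option autoImplicit false
open scoped MatrixGroups
open Cfsg CfsgLib.Derangements.JordanRanks

namespace Cfsg.Agent.S5959

/-- Elements of order `p` of PSL_n(q) and imprimitive subgroups: a necessary condition. Here `T = PSL_n(F)` for a field `F` with `q = p^f` elements (`n ≥ 2`, `(n, q) ≠ (2, 2), (2, 3)`), `n = a·t` with `t ≥ 2`, and Ω is the set of direct-sum decompositions of `F^n` into `t` subspaces of dimension `a` (unordered; their number is the number of ordered ones divided by `t!`), whose stabilizers are the imprimitive subgroups of type GL_a(q) ≀ S_t (maximal except in some small cases; maximality is not assumed); an element of `T` of prime order `r` (a matrix `x` of determinant 1 with `x^r` scalar, `x` not scalar) fixes a point of Ω when it permutes the summands of some such decomposition. Suppose `p > 2` divides the number of such decompositions. If every element of `T` of order `p` stabilizes such a decomposition,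 then every partition of `n` into parts of size at most `p` in which the part `p` occurs fewer than `a` times contains (as a sub-multiset) a partition of `a`. -/
theorem result {F : Type*} [Field F] [Fintype F] {p : ℕ} [Fact p.Prime] [CharP F p] {q : ℕ} (hq : Fintype.card F = q)
    (n a t : ℕ) (hn : 2 ≤ n) (hT : (n, q) ≠ (2, 2) ∧ (n, q) ≠ (2, 3)) (hat : n = a * t) (ha : 1 ≤ a) (ht : 2 ≤ t)
    (hp : 2 < p) (hΩ : p ∣ Nat.card {D : Fin t → Submodule F (Fin n → F) // Cfsg.Geo.IsMDecomposition a D} / Nat.factorial t)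
    (h : ∀ x : Matrix.SpecialLinearGroup (Fin n) F,
      (∃ z : F, ((x ^ p : Matrix.SpecialLinearGroup (Fin n) F) : Matrix (Fin n) (Fin n) F) = z • (1 : Matrix (Fin n) (Fin n) F)) →
      (∀ z : F, (x : Matrix (Fin n) (Fin n) F) ≠ z • (1 : Matrix (Fin n) (Fin n) F)) →
      ∃ D : Fin t → Submodule F (Fin n → F), Cfsg.Geo.IsMDecomposition a D ∧
        ∃ σ : Equiv.Perm (Fin t), ∀ j, (D j).map (Matrix.toLin' (x : Matrix (Fin n) (Fin n) F)) = D (σ j)) :
    (∀ μ : Multiset ℕ, (∀ b ∈ μ, 0 < b ∧ b ≤ p) → μ.sum = n → μ.count p < a → ∃ ν : Multiset ℕ, ν ≤ μ ∧ ν.sum = a) := by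
  classical
  intro μ hμ hsum hcount
  have hμ0 : (0 : ℕ) ∉ μ := fun h0 => lt_irrefl 0 (hμ 0 h0).1
  -- all parts equal to one
  by_cases h1 : rankSeq μ 1 = 0
  · have hall : ∀ b ∈ μ, b = 1 := fun b hb => by
      have h2 : b - 1 ≤ rankSeq μ 1 := Multiset.le_sum_of_mem (Multiset.mem_map_of_mem (· - 1) hb)
      have := (hμ b hb).1
      omega
    have hrep : μ = Multiset.replicate μ.card 1 := Multiset.eq_replicate_card.2 hall
    have hcard : μ.card = n := by
      rw [← hsum]
      conv_rhs => rw [hrep]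
      simp
    refine ⟨Multiset.replicate a 1, ?_, by simp⟩
    rw [hrep, hcard]
    refine Multiset.le_iff_count.2 fun b => ?_
    simp only [Multiset.count_replicate]
    split_ifs
    · rw [hat]; exact Nat.le_mul_of_pos_right a (by omega)
    · exact le_rfl
  -- a nilpotent map with block sizes `μ`
  obtain ⟨e, he⟩ : ∃ e : Fin μ.toList.length → ℕ, Finset.univ.val.map e = μ :=
    ⟨μ.toList.get, by rw [Fin.univ_val_map, List.ofFn_get]; exact Multiset.coe_toList μ⟩
  obtain ⟨N₀, hN₀⟩ := exists_shift (F := F) _ e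
  have hcardκ : Fintype.card (Σ i, Fin (e i)) = n := by
    rw [Fintype.card_sigma, ← hsum]
    simp only [Fintype.card_fin]
    rw [Finset.sum, he]
  let E : ((Σ i, Fin (e i)) → F) ≃ₗ[F] (Fin n → F) :=
    LinearEquiv.funCongrLeft F F (Fintype.equivFinOfCardEq hcardκ).symm
  let N : Module.End F (Fin n → F) := E.conjAlgEquiv F N₀
  have hN : ∀ k, Module.finrank F (LinearMap.range (N ^ k)) = rankSeq μ k := fun k => by
    rw [← he, ← hN₀ k, ← map_pow, LinearEquiv.conjAlgEquiv_apply, LinearMap.range_comp,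
      LinearEquiv.range_comp, LinearEquiv.finrank_map_eq]
  have hNp : N ^ p = 0 := LinearMap.range_eq_bot.1 <| Submodule.finrank_eq_zero.1 <| by
    rw [hN]
    refine Multiset.sum_eq_zero fun b hb => ?_
    obtain ⟨c, hc, rfl⟩ := Multiset.mem_map.1 hb
    have := (hμ c hc).2
    omega
  haveI : Nonempty (Fin n) := ⟨⟨0, by omega⟩⟩
  let M : Matrix (Fin n) (Fin n) F := LinearMap.toMatrixAlgEquiv' N
  have hMp : M ^ p = 0 := by simp [M, ← map_pow, hNp]
  have hone : (1 + M) ^ p = 1 := by rw [add_pow_char_of_commute p (Commute.one_left M), hMp, one_pow, add_zero]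
  have hdet : (1 + M).det = 1 := by
    have h2 : ((1 + M).det - 1) ^ p = 0 := by
      rw [sub_pow_char, ← Matrix.det_pow, hone, Matrix.det_one, one_pow, sub_self]
    exact sub_eq_zero.1 (pow_eq_zero_iff (Fact.out : p.Prime).ne_zero |>.1 h2)
  obtain ⟨D, hD, σ, hσ⟩ := h ⟨1 + M, hdet⟩ ⟨1, by
      show (1 + M) ^ p = _
      rw [hone, one_smul]⟩ fun z hz => h1 (by
    have hM : M = (z - 1) • (1 : Matrix (Fin n) (Fin n) F) := by
      rw [sub_smul, one_smul]; exact eq_sub_of_add_eq' hz
    rw [hM, smul_pow, one_pow, smul_eq_zero] at hMp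
    have hz0 : z - 1 = 0 := pow_eq_zero_iff (Fact.out : p.Prime).ne_zero |>.1 (hMp.resolve_right one_ne_zero)
    rw [hz0, zero_smul] at hM
    have hN0 : N = 0 := by simpa [M] using hM
    rw [← hN 1, pow_one, hN0, LinearMap.range_zero, finrank_bot])
  let L : Module.End F (Fin n → F) := 1 + N
  have hL : ∀ j, (D j).map L = D (σ j) := fun j => by
    rw [← hσ j]
    congr 1
    show 1 + N = Matrix.toLinAlgEquiv' (1 + M)
    simp [M]
  have hLi : ∀ (i : ℕ) j, (D j).map (L ^ i) = D ((σ ^ i) j) := by
    intro i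
    induction i with
    | zero => intro j; simp [Module.End.one_eq_id]
    | succ i ih => intro j; rw [pow_succ', Module.End.mul_eq_comp, Submodule.map_comp, ih, hL, pow_succ']; rfl
  have hDne : ∀ j, D j ≠ ⊥ := fun j h0 => by
    have := hD.finrank_eq j
    rw [h0, finrank_bot] at this
    omega
  by_cases hfix : ∃ j, σ j = j
  · obtain ⟨j, hj⟩ := hfix
    let C : Submodule F (Fin n → F) := ⨆ (i : Fin t) (_ : i ≠ j), D i
    have hinv : ∀ U : Submodule F (Fin n → F), U.map L ≤ U → U.map N ≤ U := fun U hU => by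
      rintro _ ⟨u, hu, rfl⟩
      have h2 := U.sub_mem (hU (Submodule.mem_map_of_mem hu)) hu
      simpa [L] using h2
    have hCL : C.map L ≤ C := by
      simp only [C, Submodule.map_iSup, hL]
      refine iSup₂_le fun i hi => ?_
      exact le_iSup₂ (f := fun i (_ : i ≠ j) => D i) (σ i) fun h2 => hi (σ.injective (h2.trans hj.symm))
    have hcompl : IsCompl (D j) C := by
      refine ⟨hD.indep j, codisjoint_iff.2 (eq_top_iff.2 ?_)⟩
      rw [← hD.iSup_eq_top]
      refine iSup_le fun i => ?_
      rcases eq_or_ne i j with rfl | hi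
      · exact le_sup_left
      · exact le_sup_of_le_right (le_iSup₂ (f := fun i (_ : i ≠ j) => D i) i hi)
    have hDN := hinv (D j) (by rw [hL, hj])
    have hCN := hinv C hCL
    obtain ⟨ν₁, hν₁0, hν₁⟩ := exists_blocks N hNp (D j) hDN
    obtain ⟨ν₂, hν₂0, hν₂⟩ := exists_blocks N hNp C hCN
    have heq : ν₁ + ν₂ = μ := rankSeq_injective (by simp [hν₁0, hν₂0]) hμ0 fun k => by
      rw [rankSeq_add, hν₁, hν₂, ← finrank_range_pow_eq_add N hcompl hDN hCN, hN]
    refine ⟨ν₁, heq ▸ le_self_add, ?_⟩
    rw [← rankSeq_zero, hν₁, pow_zero, Module.End.one_eq_id, Submodule.map_id, hD.finrank_eq]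
  · push Not at hfix
    exfalso
    have hp' := (Fact.out : p.Prime)
    let j : Fin t := ⟨0, by omega⟩
    have hLp : L ^ p = 1 := by
      show (1 + N) ^ p = 1
      apply LinearMap.toMatrixAlgEquiv'.injective
      simpa [M] using hone
    have hσp : (σ ^ p) j = j := hD.indep.injective hDne (by
      show D _ = D j
      rw [← hLi, hLp, Module.End.one_eq_id, Submodule.map_id])
    have hne : ∀ i, 0 < i → i < p → (σ ^ i) j ≠ j := fun i hi0 hip hij => by
      have h2 : Function.IsPeriodicPt σ (i.gcd p) j := by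
        refine Function.IsPeriodicPt.gcd ?_ ?_ <;> simpa [Function.IsPeriodicPt, Function.IsFixedPt]
      rw [(hp'.coprime_iff_not_dvd.2 (Nat.not_dvd_of_pos_of_lt hi0 hip)).symm] at h2
      exact hfix j (by simpa [Function.IsPeriodicPt, Function.IsFixedPt] using h2)
    have hgeo : N ^ (p - 1) = ∑ i ∈ Finset.range p, L ^ i := by
      have h2 : (Polynomial.X - 1 : Polynomial F) ^ (p - 1) = ∑ i ∈ Finset.range p, Polynomial.X ^ i := by
        refine mul_right_cancel₀ (b := (Polynomial.X - 1 : Polynomial F)) ?_ ?_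
        · exact Polynomial.X_sub_C_ne_zero (1 : F)
        · rw [geom_sum_mul, ← pow_succ, Nat.sub_add_cancel hp'.one_le, sub_pow_char, one_pow]
      have h3 := congrArg (Polynomial.aeval L) h2
      simpa [L] using h3
    have hinj : Function.Injective ((N ^ (p - 1)).domRestrict (D j)) := by
      refine (injective_iff_map_eq_zero _).2 fun v hv => ?_
      obtain ⟨p', hp''⟩ : ∃ p', p = p' + 1 := ⟨p - 1, (Nat.sub_add_cancel hp'.one_le).symm⟩
      rw [LinearMap.domRestrict_apply, hgeo, hp'', Finset.sum_range_succ'] at hv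
      simp only [pow_zero, LinearMap.add_apply, LinearMap.sum_apply, Module.End.one_apply] at hv
      refine Subtype.ext ((Submodule.mem_bot F).1 ((hD.indep j).le_bot ⟨v.2, ?_⟩))
      rw [eq_neg_of_add_eq_zero_right hv]
      refine Submodule.neg_mem _ (Submodule.sum_mem _ fun i hi => ?_)
      rw [Finset.mem_range] at hi
      exact (le_iSup₂ (f := fun i (_ : i ≠ j) => D i) _ (hne (i + 1) (by omega) (by omega)))
        (hLi (i + 1) j ▸ Submodule.mem_map_of_mem v.2)
    have hle : a ≤ rankSeq μ (p - 1) := by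
      rw [← hD.finrank_eq j, ← hN, ← LinearMap.finrank_range_of_inj hinj, LinearMap.range_domRestrict]
      exact Submodule.finrank_mono LinearMap.map_le_range
    have hz : ∀ k, p ≤ k → rankSeq μ k = 0 := fun k hk => Multiset.sum_eq_zero fun b hb => by
      obtain ⟨c, hc, rfl⟩ := Multiset.mem_map.1 hb
      have := (hμ c hc).2
      omega
    have h2 := rankSeq_second_diff μ (p - 1)
    rw [Nat.sub_add_cancel hp'.one_le, hz p le_rfl, hz (p - 1 + 2) (by omega)] at h2
    omega

end Cfsg.Agent.S5959
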