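import Cfsg.Statements.S5960
import Cfsg.Agent.Lib.Derangements.MonomialInvolution
import Cfsg.Agent.Lib.Classical.SympMatrix

set_option autoImplicit false
open scoped MatrixGroups
open Cfsg

namespace Cfsg.Agent.S5960

/-- Involutions of PSp_n(q) and imprimitive subgroups. Here `T = PSp_n(q)`, `n = 2d ≥ 4`, `(n, q) ≠ (4, 2)`, realised through the symplectic matrices over the field `F` with `q` elements and the standard alternating form; `n = a·t` with `a` even and `t ≥ 2`, and Ω is the (nonempty) set of orthogonal decompositions of `F^n` into `t` nondegenerate subspaces of dimension `a` (unordered; counted as ordered ones divided by `t!`), whose stabilizers are the imprimitive subgroups of type Sp_a(q) ≀ S_t (maximality is not assumed); an element of `T` of prime order `r` (a symplectic matrix `x` with `x^r` scalar, `x` not scalar) fixes a point of Ω when it permutes the summands of some such decomposition. If the number of such decompositions is even, then every involution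 of `T` stabilizes one of them (the action is 2-elusive). -/
theorem result {F : Type*} [Field F] [Fintype F] {p : ℕ} [Fact p.Prime] [CharP F p] {q : ℕ} (hq : Fintype.card F = q)
    (d : ℕ) (hd : 2 ≤ d) (hT : (d, q) ≠ (2, 2))
    (a t : ℕ) (hat : 2 * d = a * t) (ha : 2 ≤ a) (hae : Even a) (ht : 2 ≤ t) (hΩ : 2 ∣ Nat.card {D : Fin t → Submodule F (Fin d ⊕ Fin d → F) // (Cfsg.Geo.IsMDecomposition a D ∧ (∀ j, ∀ u ∈ D j, u ≠ 0 → ∃ v ∈ D j, Cfsg.sympForm d F u v ≠ 0) ∧
          (∀ j j', j ≠ j' → ∀ u ∈ D j, ∀ v ∈ D j', Cfsg.sympForm d F u v = 0))} / Nat.factorial t)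
    (x : ↥(Matrix.symplecticGroup (Fin d) F))
    (hx1 : ∃ z : F, ((x ^ 2 : ↥(Matrix.symplecticGroup (Fin d) F)) : Matrix (Fin d ⊕ Fin d) (Fin d ⊕ Fin d) F) = z • (1 : Matrix (Fin d ⊕ Fin d) (Fin d ⊕ Fin d) F))
    (hx2 : ∀ z : F, (x : Matrix (Fin d ⊕ Fin d) (Fin d ⊕ Fin d) F) ≠ z • (1 : Matrix (Fin d ⊕ Fin d) (Fin d ⊕ Fin d) F)) :
    ∃ D : Fin t → Submodule F (Fin d ⊕ Fin d → F), (Cfsg.Geo.IsMDecomposition a D ∧ (∀ j, ∀ u ∈ D j, u ≠ 0 → ∃ v ∈ D j, Cfsg.sympForm d F u v ≠ 0) ∧
          (∀ j j', j ≠ j' → ∀ u ∈ D j, ∀ v ∈ D j', Cfsg.sympForm d F u v = 0)) ∧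
        ∃ σ : Equiv.Perm (Fin t), ∀ j, (D j).map (Matrix.toLin' (x : Matrix (Fin d ⊕ Fin d) (Fin d ⊕ Fin d) F)) = D (σ j) := by
  classical
  obtain ⟨z, hz⟩ := hx1
  let M : Matrix (Fin d ⊕ Fin d) (Fin d ⊕ Fin d) F := x
  let L := Matrix.toLin' M
  let B := CfsgLib.Classical.sympBil F d
  have hM : M * M = z • 1 := by rw [← hz, pow_two]; rfl
  have hB : ∀ u w, B (L u) (L w) = B u w := fun u w => by
    simp only [B, L, Matrix.toLin'_apply, CfsgLib.Classical.sympBil_apply]
    exact (CfsgLib.Classical.mem_symplecticGroup_iff_preserves d).1 x.2 u w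
  have hsq : ∀ u, L (L u) = z • u := fun u => by
    simp only [L, Matrix.toLin'_apply]
    rw [Matrix.mulVec_mulVec, hM, Matrix.smul_mulVec, Matrix.one_mulVec]
  have hnd : ∀ u, (∀ w, B u w = 0) → u = 0 := (CfsgLib.Classical.sympBil_nondegenerate d).1
  have hinj : Function.Injective L := fun u w h => sub_eq_zero.1 (hnd _ fun v => by
    rw [← hB, map_sub, h, sub_self, map_zero, LinearMap.zero_apply])
  have hz1 : z * z = 1 := by
    let i0 : Fin d := ⟨0, by omega⟩
    have h01 : B (Pi.single (Sum.inr i0) 1) (Pi.single (Sum.inl i0) 1) = 1 := by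
      simp [B, CfsgLib.Classical.sympBil_apply, CfsgLib.Classical.sympForm_eq, Pi.single_apply]
    have h := hB (L (Pi.single (Sum.inr i0) 1)) (L (Pi.single (Sum.inl i0) 1))
    simpa [hsq, hB, h01] using h
  obtain ⟨ι, _, b, τ, π, hτ, horth, hpair, hb, hfl1, hfl2⟩ :=
    CfsgLib.Derangements.Mono.exists_symplectic_monomial_basis B (CfsgLib.Classical.sympBil_isAlt d) hnd L z hz1 hB hsq
  have hcard : Fintype.card ι = d := by
    have h := Module.finrank_eq_card_basis b
    simp [Module.finrank_fintype_fun_eq_card] at h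
    omega
  obtain ⟨a', rfl⟩ := hae.two_dvd
  have hcard' : Fintype.card ι = t * a' := by
    rw [hcard]
    have : 2 * d = 2 * (t * a') := by rw [hat]; ring
    omega
  obtain ⟨f, σ, hf, hfσ⟩ := CfsgLib.Derangements.Mono.exists_block_map τ hτ (by omega) hcard'
  obtain ⟨h1, h2⟩ := CfsgLib.Derangements.Mono.exists_decomposition b L hinj ht (a := 2 * a') (by omega)
    (fun k => f k.1) (fun j => by
      rw [show (Finset.univ.filter fun k : ι × Fin 2 => f k.1 = j) = (Finset.univ.filter fun i => f i = j) ×ˢ Finset.univ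
        from by ext ⟨i, s⟩; simp, Finset.card_product, hf, Finset.card_univ, Fintype.card_fin, mul_comm])
    σ fun k => by
      obtain ⟨c, hc⟩ := hb k.1 k.2
      exact ⟨c, (τ k.1, π k.1 k.2), hfσ k.1, hc⟩
  have hperp : ∀ j j', j ≠ j' → ∀ u ∈ Submodule.span F (b '' {k | f k.1 = j}),
      ∀ v ∈ Submodule.span F (b '' {k | f k.1 = j'}), Cfsg.sympForm d F u v = 0 := fun j j' hjj u hu v hv => by
    rw [← CfsgLib.Classical.sympBil_apply]
    refine CfsgLib.Derangements.Mono.bilin_eq_zero_of_mem_span B ?_ hu hv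
    rintro _ ⟨⟨i, s⟩, hi, rfl⟩ _ ⟨⟨i', s'⟩, hi', rfl⟩
    exact horth i i' s s' fun h => hjj (by subst h; exact hi.symm.trans hi')
  refine ⟨_, ⟨h1, fun j u hu hu0 => ?_, hperp⟩, σ, h2⟩
  by_contra hcon
  push Not at hcon
  refine hu0 (hnd u fun w => ?_)
  have hle : ⊤ ≤ LinearMap.ker (B u) := by
    rw [← h1.iSup_eq_top]
    refine iSup_le fun j' v hv => ?_
    rw [LinearMap.mem_ker, CfsgLib.Classical.sympBil_apply]
    rcases eq_or_ne j j' with rfl | hne
    · exact hcon v hv
    · exact hperp j j' hne u hu v hv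
  exact hle Submodule.mem_top

end Cfsg.Agent.S5960
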