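import Cfsg.Statements.S5976
import Cfsg.Agent.Lib.Classical.QuadExtension
import Cfsg.Agent.Lib.Classical.SympMatrix
import Cfsg.Agent.Lib.Classical.HermCount
-- import your own Cfsg.Agent.* helpers here

set_option autoImplicit false
open scoped MatrixGroups
open Cfsg

set_option linter.unusedSectionVars false

namespace Cfsg.Agent.S5976

open Module Matrix CfsgLib.Classical

section Sym

variable {F : Type*} [Field F] [Finite F] {V : Type*} [AddCommGroup V] [Module F V] [FiniteDimensional F V]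
  {B : V →ₗ[F] V →ₗ[F] F}

theorem exists_sq_add (h2 : (2 : F) ≠ 0) {α β : F} (hα : α ≠ 0) (hβ : β ≠ 0) (c : F) :
    ∃ a b : F, a * a * α + b * b * β = c := by
  classical
  cases nonempty_fintype F
  obtain ⟨a, b, e⟩ := FiniteField.exists_root_sum_quadratic (f := Polynomial.C α * Polynomial.X ^ 2)
    (g := Polynomial.C β * Polynomial.X ^ 2 - Polynomial.C c) (Polynomial.degree_C_mul_X_pow 2 hα)
    (by rw [Polynomial.degree_sub_C (by rw [Polynomial.degree_C_mul_X_pow 2 hβ]; norm_num),
      Polynomial.degree_C_mul_X_pow 2 hβ]; rfl)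
    (FiniteField.odd_card_of_char_ne_two fun e => h2 (by
      have := ringChar.Nat.cast_ringChar (R := F)
      rw [e] at this
      simpa using this))
  simp only [Polynomial.eval_sub, Polynomial.eval_mul, Polynomial.eval_C, Polynomial.eval_pow,
    Polynomial.eval_X] at e
  exact ⟨a, b, by linear_combination e⟩

/-- An operator skew for the form with scalar square represents one. -/
theorem exists_one (hA : B.IsAlt) (hN : B.Nondegenerate) (h2 : (2 : F) ≠ 0) {T : V →ₗ[F] V} {δ : F} (hδ : δ ≠ 0)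
    (hs : ∀ x y, B (T x) y = -B x (T y)) (hsq : ∀ x, T (T x) = δ • x) {x₀ : V} (hx₀ : x₀ ≠ 0) :
    ∃ v, B v (T v) = 1 := by
  have hsym : ∀ x y, B y (T x) = B x (T y) := fun x y => by rw [alt_swap hA, hs, neg_neg]
  have hpol : ∀ x y, B (x + y) (T (x + y)) = B x (T x) + B y (T y) + 2 * B x (T y) := fun x y => by
    simp only [map_add, LinearMap.add_apply, hsym x y]; ring
  have hsurj : ∀ z, ∃ y, T y = z := fun z => ⟨δ⁻¹ • T z, by rw [map_smul, hsq, inv_smul_smul₀ hδ]⟩
  obtain ⟨u, hu⟩ : ∃ u, B u (T u) ≠ 0 := by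
    by_contra hall
    push Not at hall
    refine hx₀ (hN.1 x₀ fun z => ?_)
    obtain ⟨y, rfl⟩ := hsurj z
    have h := hpol x₀ y
    rw [hall, hall, hall, add_zero, zero_add] at h
    exact (mul_eq_zero.1 h.symm).resolve_left h2
  by_cases hex : ∃ y, B u (T y) = 0 ∧ B y (T y) ≠ 0
  · obtain ⟨y, hy0, hy⟩ := hex
    obtain ⟨a, b, hab⟩ := exists_sq_add h2 hu hy 1
    refine ⟨a • u + b • y, ?_⟩
    rw [hpol]
    simp only [map_smul, LinearMap.smul_apply, smul_eq_mul, hy0]
    linear_combination hab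
  exfalso
  push Not at hex
  have hW : ∀ y, B u (T y) = 0 → y = 0 := fun y hy => hN.1 y fun z => by
    obtain ⟨w, rfl⟩ := hsurj z
    set c := B u (T w) / B u (T u) with hc
    have hw' : B u (T (w - c • u)) = 0 := by
      rw [map_sub, map_smul, map_sub, map_smul, smul_eq_mul, hc, div_mul_cancel₀ _ hu, sub_self]
    have h := hpol y (w - c • u)
    rw [hex _ (by rw [map_add, map_add, hy, hw', add_zero]), hex _ hy, hex _ hw', add_zero, zero_add] at h
    have h' := (mul_eq_zero.1 h.symm).resolve_left h2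
    rw [map_sub, map_smul, map_sub, map_smul, hsym u y, hy, smul_zero, sub_zero] at h'
    exact h'
  have h := hW (T u - (B u (T (T u)) / B u (T u)) • u) (by
    rw [map_sub, map_smul, map_sub, map_smul, smul_eq_mul, div_mul_cancel₀ _ hu, sub_self])
  apply hu
  rw [sub_eq_zero.1 h, map_smul, hA u, smul_zero]

/-- A skew operator with scalar square has an adapted symplectic basis. -/
theorem exists_frame (hA : B.IsAlt) (hN : B.Nondegenerate) (h2 : (2 : F) ≠ 0) {T : V →ₗ[F] V} {δ : F} (hδ : δ ≠ 0)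
    (hs : ∀ x y, B (T x) y = -B x (T y)) (hsq : ∀ x, T (T x) = δ • x) :
    ∃ (k : ℕ) (e : Fin k → V), IsSympFamily B (Sum.elim e (fun i => T (e i))) ∧ finrank F V = 2 * k := by
  induction hd : finrank F V using Nat.strong_induction_on generalizing V with
  | _ n ih =>
    by_cases hV : ∀ x : V, x = 0
    · have : Subsingleton V := ⟨fun x y => (hV x).trans (hV y).symm⟩
      exact ⟨0, Fin.elim0, ⟨fun i => i.elim0, fun i => i.elim0, fun i => i.elim0⟩,
        by rw [← hd, Module.finrank_zero_of_subsingleton]⟩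
    push Not at hV
    obtain ⟨x₀, hx₀⟩ := hV
    obtain ⟨v, hv⟩ := exists_one hA hN h2 hδ hs hsq hx₀
    have hW := nondegOn_pair hA hv
    set W : Submodule F V := Submodule.span F {v, T v}
    have hTW : ∀ w ∈ W, T w ∈ W := fun w hw => by
      obtain ⟨a, b, rfl⟩ := Submodule.mem_span_pair.1 hw
      rw [map_add, map_smul, map_smul, hsq]
      exact W.add_mem (W.smul_mem _ (Submodule.subset_span (by simp)))
        (W.smul_mem _ (W.smul_mem _ (Submodule.subset_span (by simp))))
    have hTp : ∀ x ∈ perp B W, T x ∈ perp B W := fun x hx => mem_perp.2 fun w hw => by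
      rw [← neg_eq_zero, ← hs]; exact mem_perp.1 hx _ (hTW w hw)
    have hd' : finrank F (perp B W) + 2 = n := (finrank_perp_pair_lt hA hv).trans hd
    obtain ⟨k, e, ⟨h1, h3, h4⟩, hk⟩ := ih (finrank F (perp B W)) (by omega)
      (restrictForm_isAlt hA (perp B W))
      (restrictForm_nondegenerate hA.isRefl (nondegOn_perp hN.2 hW)) (T := T.restrict hTp)
      (fun x y => hs x y) (fun x => Subtype.ext (hsq x)) rfl
    simp only [Sum.elim_inl, Sum.elim_inr, restrictForm_apply, LinearMap.restrict_apply] at h1 h3 h4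
    have hp1 : ∀ x : perp B W, B v (x : V) = 0 := fun x => mem_perp.1 x.2 v (Submodule.subset_span (by simp))
    have hp2 : ∀ x : perp B W, B (T v) (x : V) = 0 := fun x => mem_perp.1 x.2 _ (Submodule.subset_span (by simp))
    have hp3 : ∀ x : perp B W, B (x : V) v = 0 := fun x => hA.isRefl _ _ (hp1 x)
    have hp4 : ∀ x : perp B W, B (x : V) (T v) = 0 := fun x => hA.isRefl _ _ (hp2 x)
    have hp5 : ∀ x : perp B W, B v (T (x : V)) = 0 := fun x => hp1 ⟨_, hTp _ x.2⟩
    have hp6 : ∀ x : perp B W, B (T v) (T (x : V)) = 0 := fun x => hp2 ⟨_, hTp _ x.2⟩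
    have hp7 : ∀ x : perp B W, B (T (x : V)) (T v) = 0 := fun x => hp4 ⟨_, hTp _ x.2⟩
    refine ⟨k + 1, Fin.cons v fun i => (e i : V), ⟨?_, ?_, ?_⟩, by omega⟩
    · intro i j
      cases i using Fin.cases <;> cases j using Fin.cases <;>
        simp [hv, hp4, hp5, h1, Fin.succ_ne_zero, (Fin.succ_ne_zero _).symm]
    · intro i j
      cases i using Fin.cases <;> cases j using Fin.cases <;> simp [hA v, hp1, hp3, h3]
    · intro i j
      cases i using Fin.cases <;> cases j using Fin.cases <;> simp [hA (T v), hp6, hp7, h4]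

/-- The basis of an adapted family. -/
theorem exists_basis (hA : B.IsAlt) {k : ℕ} {b : Fin k ⊕ Fin k → V} (hb : IsSympFamily B b)
    (hk : finrank F V = 2 * k) : ∃ bb : Module.Basis (Fin k ⊕ Fin k) F V, ⇑bb = b :=
  ⟨Module.Basis.mk (hb.linearIndependent hA) (le_of_eq ((hb.linearIndependent hA).span_eq_top_of_card_eq_finrank'
    (by rw [Fintype.card_sum, Fintype.card_fin, hk]; omega)).symm), Module.Basis.coe_mk _ _⟩

/-- Skew operators with the same scalar square are conjugate. -/
theorem exists_conj (hA : B.IsAlt) (hN : B.Nondegenerate) (h2 : (2 : F) ≠ 0) {T T' : V →ₗ[F] V} {δ : F} (hδ : δ ≠ 0)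
    (hs : ∀ x y, B (T x) y = -B x (T y)) (hsq : ∀ x, T (T x) = δ • x)
    (hs' : ∀ x y, B (T' x) y = -B x (T' y)) (hsq' : ∀ x, T' (T' x) = δ • x) :
    ∃ g : isomGroup B, ∀ x, g.1 (T x) = T' (g.1 x) := by
  obtain ⟨k, e, he, hk⟩ := exists_frame hA hN h2 hδ hs hsq
  obtain ⟨k', e', he', hk'⟩ := exists_frame hA hN h2 hδ hs' hsq'
  obtain rfl : k = k' := by omega
  obtain ⟨b, hb⟩ := exists_basis hA he hk
  obtain ⟨b', hb'⟩ := exists_basis hA he' hk
  refine ⟨⟨b.equiv b' (Equiv.refl _), fun x y => IsSympFamily.basisEquiv_mem hA hA b b' (hb ▸ he) (hb' ▸ he') x y⟩,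
    fun x => ?_⟩
  have hg : ∀ s, b.equiv b' (Equiv.refl _) (b s) = b' s := fun s => by simp
  have key : (b.equiv b' (Equiv.refl _) : V →ₗ[F] V).comp T = T'.comp (b.equiv b' (Equiv.refl _) : V →ₗ[F] V) := by
    refine b.ext fun s => ?_
    show b.equiv b' (Equiv.refl _) (T (b s)) = T' (b.equiv b' (Equiv.refl _) (b s))
    rcases s with i | i
    · rw [show T (b (.inl i)) = b (.inr i) by rw [hb]; rfl, hg, hg, hb']; rfl
    · rw [show T (b (.inr i)) = δ • b (.inl i) by rw [hb]; exact hsq _, map_smul, hg, hg, hb']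
      exact (hsq' _).symm
  exact LinearMap.congr_fun key x

/-- Every non-degenerate alternating form has a skew operator with prescribed square. -/
theorem exists_skew (hA : B.IsAlt) (hN : B.Nondegenerate) (δ : F) :
    ∃ J : V →ₗ[F] V, (∀ x y, B (J x) y = -B x (J y)) ∧ ∀ x, J (J x) = δ • x := by
  obtain ⟨m, b, h1, h3, h4⟩ := exists_sympBasis hA hN
  let J : V →ₗ[F] V := b.constr F (Sum.elim (fun i => b (.inr i)) fun i => δ • b (.inl i))
  have hJl : ∀ i, J (b (.inl i)) = b (.inr i) := fun i => by simp [J]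
  have hJr : ∀ i, J (b (.inr i)) = δ • b (.inl i) := fun i => by simp [J]
  refine ⟨J, fun x y => ?_, fun x => ?_⟩
  · have e : B.compl₁₂ J LinearMap.id = -(B.compl₁₂ LinearMap.id J) := by
      refine LinearMap.ext_basis b b fun s t => ?_
      simp only [LinearMap.compl₁₂_apply, LinearMap.id_apply, LinearMap.neg_apply]
      rcases s with i | i <;> rcases t with j | j <;>
        simp only [hJl, hJr, map_smul, LinearMap.smul_apply, smul_eq_mul, h1, h3, h4,
          alt_swap hA (b (.inr i)) (b (.inl j))] <;>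
        rcases eq_or_ne i j with rfl | hij <;> simp [*, Ne.symm]
    exact LinearMap.congr_fun₂ e x y
  · have e : J.comp J = δ • LinearMap.id := b.ext fun s => by
      rcases s with i | i <;> simp [hJl, hJr]
    exact LinearMap.congr_fun e x

/-- An involutory isometry commutes with a skew operator of prescribed square. -/
theorem exists_skew_comm (hA : B.IsAlt) (hN : B.Nondegenerate) (h2 : (2 : F) ≠ 0) {T : V →ₗ[F] V}
    (hT : ∀ x y, B (T x) (T y) = B x y) (hsq : ∀ x, T (T x) = x) (δ : F) :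
    ∃ J : V →ₗ[F] V, (∀ x y, B (J x) y = -B x (J y)) ∧ (∀ x, J (J x) = δ • x) ∧ ∀ x, T (J x) = J (T x) := by
  set P := LinearMap.ker (T - LinearMap.id) with hP
  set M := LinearMap.ker (T + LinearMap.id) with hM
  have hmP : ∀ x, x ∈ P ↔ T x = x := fun x => by
    rw [hP, LinearMap.mem_ker, LinearMap.sub_apply, LinearMap.id_apply, sub_eq_zero]
  have hmM : ∀ x, x ∈ M ↔ T x = -x := fun x => by
    rw [hM, LinearMap.mem_ker, LinearMap.add_apply, LinearMap.id_apply, add_eq_zero_iff_eq_neg]
  have ho : ∀ a ∈ P, ∀ b ∈ M, B a b = 0 := fun a ha b hb => by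
    have h := hT a b
    rw [(hmP a).1 ha, (hmM b).1 hb, map_neg] at h
    exact (mul_eq_zero.1 (show (2 : F) * B a b = 0 by linear_combination -h)).resolve_left h2
  have hsum : ∀ x, ∃ a ∈ P, ∃ b ∈ M, a + b = x := fun x =>
    ⟨(2 : F)⁻¹ • (x + T x), (hmP _).2 (by rw [map_smul, map_add, hsq, add_comm]),
      (2 : F)⁻¹ • (x - T x), (hmM _).2 (by rw [map_smul, map_sub, hsq, ← smul_neg, neg_sub]), by
        rw [← smul_add, show x + T x + (x - T x) = (2 : F) • x by rw [two_smul]; abel, inv_smul_smul₀ h2]⟩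
  have hc : IsCompl P M := IsCompl.of_eq ((Submodule.eq_bot_iff _).2 fun v hv => by
      have h := ((hmP v).1 hv.1).symm.trans ((hmM v).1 hv.2)
      exact (smul_eq_zero.1 (show (2 : F) • v = 0 by rw [two_smul]; exact eq_neg_iff_add_eq_zero.1 h)).resolve_left h2)
    (eq_top_iff.2 fun x _ => by
      obtain ⟨a, ha, b, hb, rfl⟩ := hsum x
      exact Submodule.add_mem_sup ha hb)
  have hnd : ∀ P M : Submodule F V, (∀ a ∈ P, ∀ b ∈ M, B a b = 0) → (∀ x, ∃ a ∈ P, ∃ b ∈ M, a + b = x) →
      NondegOn B P := fun P M ho hs => nondegOn_iff.2 fun x hx hxo => hN.2 x fun y => by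
    obtain ⟨a, ha, b, hb, rfl⟩ := hs y
    rw [map_add, LinearMap.add_apply, hxo a ha, hA.isRefl _ _ (ho x hx b hb), add_zero]
  obtain ⟨J₁, hs₁, hq₁⟩ := exists_skew (restrictForm_isAlt hA P)
    (restrictForm_nondegenerate hA.isRefl (hnd P M ho hsum)) δ
  obtain ⟨J₂, hs₂, hq₂⟩ := exists_skew (restrictForm_isAlt hA M)
    (restrictForm_nondegenerate hA.isRefl (hnd M P (fun a ha b hb => hA.isRefl _ _ (ho b hb a ha)) fun x => by
      obtain ⟨a, ha, b, hb, rfl⟩ := hsum x
      exact ⟨b, hb, a, ha, add_comm b a⟩)) δ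
  let J : V →ₗ[F] V := LinearMap.ofIsCompl hc (P.subtype.comp J₁) (M.subtype.comp J₂)
  have hJ₁ : ∀ a : P, J (a : V) = J₁ a := fun a => by simp [J]
  have hJ₂ : ∀ b : M, J (b : V) = J₂ b := fun b => by simp [J]
  refine ⟨J, fun x y => ?_, fun x => ?_, fun x => ?_⟩
  · obtain ⟨a, b, rfl⟩ := exists_add_eq hc x
    obtain ⟨a', b', rfl⟩ := exists_add_eq hc y
    have e1 : B (J₁ a : V) (a' : V) = -B (a : V) (J₁ a' : V) := hs₁ a a'
    have e2 : B (J₂ b : V) (b' : V) = -B (b : V) (J₂ b' : V) := hs₂ b b'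
    simp only [map_add, LinearMap.add_apply, hJ₁, hJ₂, e1, e2, ho _ (J₁ a).2 _ b'.2, ho _ a.2 _ (J₂ b').2,
      hA.isRefl _ _ (ho _ (J₁ a').2 _ b.2), hA.isRefl _ _ (ho _ a'.2 _ (J₂ b).2)]
    ring
  · obtain ⟨a, b, rfl⟩ := exists_add_eq hc x
    rw [map_add, hJ₁, hJ₂, map_add, hJ₁, hJ₂, hq₁, hq₂, smul_add]
    rfl
  · obtain ⟨a, b, rfl⟩ := exists_add_eq hc x
    rw [map_add, hJ₁, hJ₂, map_add, map_add, (hmP _).1 (J₁ a).2, (hmM _).1 (J₂ b).2, (hmP _).1 a.2, (hmM _).1 b.2,
      map_add, map_neg, hJ₁, hJ₂]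

/-- An isometry of square minus one anticommutes with a skew operator of prescribed square. -/
theorem exists_skew_anti (hA : B.IsAlt) (hN : B.Nondegenerate) (h2 : (2 : F) ≠ 0) {T : V →ₗ[F] V}
    (hT : ∀ x y, B (T x) (T y) = B x y) (hsq : ∀ x, T (T x) = -x) (δ : F) :
    ∃ J : V →ₗ[F] V, (∀ x y, B (J x) y = -B x (J y)) ∧ (∀ x, J (J x) = δ • x) ∧ ∀ x, T (J x) = -J (T x) := by
  have hs : ∀ x y, B (T x) y = -B x (T y) := fun x y => by
    rw [← hT x (T y), hsq, map_neg, neg_neg]
  obtain ⟨k, e, he, hk⟩ := exists_frame hA hN h2 (neg_ne_zero.2 one_ne_zero) hs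
    (fun x => by rw [hsq, neg_one_smul])
  obtain ⟨b, hb⟩ := exists_basis hA he hk
  obtain ⟨α, β, hab⟩ := exists_sq_add h2 (one_ne_zero (α := F)) one_ne_zero δ
  let J : V →ₗ[F] V := b.constr F (Sum.elim (fun i => α • e i + β • T (e i)) fun i => β • e i - α • T (e i))
  have hJb : ∀ s, J (b s) = Sum.elim (fun i => α • e i + β • T (e i)) (fun i => β • e i - α • T (e i)) s :=
    fun s => b.constr_basis F _ s
  have hJl : ∀ i, J (e i) = α • e i + β • T (e i) := fun i => by simpa [hb] using hJb (.inl i)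
  have hJr : ∀ i, J (T (e i)) = β • e i - α • T (e i) := fun i => by simpa [hb] using hJb (.inr i)
  obtain ⟨h1, h3, h4⟩ := he
  simp only [Sum.elim_inl, Sum.elim_inr] at h1 h3 h4
  refine ⟨J, fun x y => ?_, fun x => ?_, fun x => ?_⟩
  · have e' : B.compl₁₂ J LinearMap.id = -(B.compl₁₂ LinearMap.id J) := by
      refine LinearMap.ext_basis b b fun s t => ?_
      simp only [LinearMap.compl₁₂_apply, LinearMap.id_apply, LinearMap.neg_apply, hb]
      rcases s with i | i <;> rcases t with j | j <;>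
        simp only [Sum.elim_inl, Sum.elim_inr, hJl, hJr, map_add, map_sub, LinearMap.add_apply, LinearMap.sub_apply,
          map_smul, LinearMap.smul_apply, smul_eq_mul, h1, h3, h4, alt_swap hA (T (e i)) (e j)] <;>
        rcases eq_or_ne i j with rfl | hij <;> simp [*, Ne.symm]
    exact LinearMap.congr_fun₂ e' x y
  · have e' : J.comp J = δ • LinearMap.id := b.ext fun s => by
      rw [hb, LinearMap.comp_apply, LinearMap.smul_apply, LinearMap.id_apply, ← hab]
      rcases s with i | i <;>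
        simp only [Sum.elim_inl, Sum.elim_inr, hJl, hJr, map_add, map_sub, map_smul] <;> module
    exact LinearMap.congr_fun e' x
  · have e' : T.comp J = -(J.comp T) := b.ext fun s => by
      rw [hb, LinearMap.comp_apply, LinearMap.neg_apply, LinearMap.comp_apply]
      rcases s with i | i <;>
        simp only [Sum.elim_inl, Sum.elim_inr, hJl, hJr, map_add, map_sub, map_smul, hsq, map_neg] <;> module
    exact LinearMap.congr_fun e' x

/-- A subgroup of elements of order `r` fixing a large subspace. -/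
theorem exists_order_fix [Fintype F] (hA : B.IsAlt) (hN : B.Nondegenerate) {d e r : ℕ} [Fact r.Prime]
    (hd : finrank F V = 2 * d) (hed : e ≤ d) (h1 : 1 ≤ e) (hr : r ∣ Fintype.card F ^ (2 * e) - 1) :
    ∃ y : isomGroup B, y ^ r = 1 ∧ y ≠ 1 ∧ ∃ U : Submodule F V, (∀ u ∈ U, y.1 u = u) ∧
      finrank F U + 2 * e = 2 * d := by
  obtain ⟨m, b, hb⟩ := exists_sympBasis hA hN
  have hm : m = d := by
    have := Module.finrank_eq_card_basis b
    rw [hd, Fintype.card_sum, Fintype.card_fin] at this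
    omega
  subst hm
  set f : Fin e ⊕ Fin e → Fin m ⊕ Fin m := Sum.map (Fin.castLE hed) (Fin.castLE hed) with hf
  have hfi : Function.Injective f := Sum.map_injective.2 ⟨Fin.castLE_injective _, Fin.castLE_injective _⟩
  have hfam : IsSympFamily B (b ∘ f) :=
    ⟨fun i j => by simp [f, hb.1], fun i j => by simp [f, hb.2.1], fun i j => by simp [f, hb.2.2]⟩
  set W := Submodule.span F (Set.range (b ∘ f)) with hW
  have hdW : finrank F W = 2 * e := by
    rw [hW, finrank_span_eq_card (hfam.linearIndependent hA), Fintype.card_sum, Fintype.card_fin, two_mul]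
  have hnd : NondegOn B W := nondegOn_iff.2 fun x hx hxo => by
    obtain ⟨g, rfl⟩ := (Submodule.mem_span_range_iff_exists_fun F).1 hx
    refine Finset.sum_eq_zero fun s _ => ?_
    have hg : g s = 0 := by
      rcases s with i | i
      · have := hA.isRefl _ _ (hxo _ (Submodule.subset_span ⟨.inr i, rfl⟩))
        simpa [Fintype.sum_sum_type, LinearMap.sum_apply, hfam.1, hfam.2.2, f, hb.1, hb.2.2, Finset.sum_ite_eq'] using this
      · have := hxo _ (Submodule.subset_span ⟨.inl i, rfl⟩)
        simpa [Fintype.sum_sum_type, hfam.1, hfam.2.1, f, hb.1, hb.2.1, Finset.sum_ite_eq] using this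
    rw [hg, zero_smul]
  haveI : Finite V := Module.finite_of_finite F
  haveI : Finite (isomGroup (restrictForm B W)) := Finite.of_injective
    (fun g : isomGroup (restrictForm B W) => (g.1 : W → W)) fun a c h => Subtype.ext (DFunLike.coe_injective h)
  obtain ⟨y, hy⟩ := exists_prime_orderOf_dvd_card' (G := isomGroup (restrictForm B W)) r (by
    rw [card_isom_alt (restrictForm_isAlt hA W) (restrictForm_nondegenerate hA.isRefl hnd) e hdW]
    refine (hr.trans ?_).mul_left _
    obtain ⟨k, rfl⟩ : ∃ k, e = k + 1 := ⟨e - 1, by omega⟩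
    exact Finset.dvd_prod_of_mem (fun i => Fintype.card F ^ (2 * (i + 1)) - 1) (Finset.self_mem_range_succ k))
  let S := isomSum hnd.isCompl (fun _ hw _ hu => mem_perp.1 hu _ hw) fun _ hw _ hu => orth_symm hA.isRefl hw hu
  refine ⟨S (y, 1), ?_, fun h => ?_, perp B W, fun u hu => ?_, ?_⟩
  · rw [← map_pow, Prod.pow_mk, ← hy, pow_orderOf_eq_one, one_pow]
    exact map_one S
  · have := isomSum_injective hnd.isCompl _ _ (h.trans (map_one S).symm)
    rw [Prod.mk_eq_one] at this
    rw [this.1, orderOf_one] at hy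
    exact (Fact.out : r.Prime).ne_one hy.symm
  · show sumEquiv hnd.isCompl y.1 (1 : isomGroup (restrictForm B (perp B W))).1 u = u
    exact sumEquiv_apply_right hnd.isCompl _ _ ⟨u, hu⟩
  · have := hnd.finrank_perp
    omega

end Sym

section Herm

variable {E : Type*} [Field E] {σ : E →+* E} {W : Type*} [AddCommGroup W] [Module E W] [FiniteDimensional E W]
  {h : W →ₛₗ[σ] W →ₗ[E] E}

/-- The order of an isometry fixing a large subspace divides the order of a small unitary group. -/
theorem dvd_of_order [Fintype E] {q : ℕ} (hq : Fintype.card E = q ^ 2) (hσ : ∀ x, σ x = x ^ q)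
    (hh : IsHermitian h) (hN : h.SeparatingRight) {r : ℕ} [Fact r.Prime] (hr0 : (r : E) ≠ 0) (g : isomGroup h)
    (hg : g ^ r = 1) (hg1 : g ≠ 1) (hrq : ¬ r ∣ q) {e : ℕ}
    (he : finrank E W ≤ finrank E (LinearMap.ker ((g.1 : W →ₗ[E] W) - LinearMap.id)) + e) :
    r ∣ ∏ i ∈ Finset.range e, (if Even i then q ^ (i + 1) + 1 else q ^ (i + 1) - 1) := by
  set N := (g.1 : W →ₗ[E] W) - LinearMap.id with hN'
  have hNa : ∀ x, N x = g.1 x - x := fun x => rfl
  set K0 := LinearMap.ker N
  set R := LinearMap.range N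
  have hfix : ∀ x ∈ K0, g.1 x = x := fun x hx => sub_eq_zero.1 ((hNa x).symm.trans (LinearMap.mem_ker.1 hx))
  have ho : ∀ x ∈ K0, ∀ y ∈ R, h x y = 0 := by
    rintro x hx _ ⟨u, rfl⟩
    rw [hNa, map_sub, sub_eq_zero]
    calc h x (g.1 u) = h (g.1 x) (g.1 u) := by rw [hfix x hx]
      _ = h x u := isomGroup_apply g x u
  have hinf : K0 ⊓ R = ⊥ := (Submodule.eq_bot_iff _).2 fun v hv => by
    obtain ⟨hvK, u, rfl⟩ := hv
    have hk : ∀ k : ℕ, (g ^ k).1 u = u + (k : E) • N u := by
      intro k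
      induction k with
      | zero => simp
      | succ k ih =>
        rw [pow_succ']
        show g.1 ((g ^ k).1 u) = _
        rw [ih, map_add, map_smul, hfix _ hvK, Nat.cast_succ, add_smul, one_smul, hNa]
        abel
    have h1 := hk r
    rw [hg] at h1
    exact (smul_eq_zero.1 (left_eq_add.1 h1)).resolve_left hr0
  have hdim := LinearMap.finrank_range_add_finrank_ker N
  have hsup : K0 ⊔ R = ⊤ := Submodule.eq_top_of_finrank_eq (by
    have := Submodule.finrank_sup_add_finrank_inf_eq K0 R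
    rw [hinf, finrank_bot] at this
    change finrank E R + finrank E K0 = _ at hdim
    omega)
  have hnd : NondegOn h R := nondegOn_iff.2 fun x hx hxo => hN x fun y => by
    obtain ⟨a, ha, b, hb, rfl⟩ := Submodule.mem_sup.1 (hsup.symm ▸ Submodule.mem_top (x := y))
    rw [map_add, LinearMap.add_apply, ho a ha x hx, hxo b hb, add_zero]
  have hgR : R.map (g.1 : W →ₗ[E] W) = R := Submodule.eq_of_le_of_finrank_eq (by
    rintro _ ⟨_, ⟨u, rfl⟩, rfl⟩
    exact ⟨g.1 u, by simp [hNa]⟩) (g.1.finrank_map_eq R)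
  let gR : isomGroup (restrictForm h R) :=
    ⟨(g.1.submoduleMap R).trans (LinearEquiv.ofEq _ _ hgR), fun x y => g.2 _ _⟩
  have hpow : ∀ k : ℕ, ∀ x : R, (((gR ^ k).1 x : R) : W) = (g ^ k).1 x := by
    intro k
    induction k with
    | zero => intro x; simp
    | succ k ih =>
      intro x
      rw [pow_succ', pow_succ']
      show g.1 (((gR ^ k).1 x : R) : W) = g.1 ((g ^ k).1 x)
      rw [ih]
  have hR1 : gR ^ r = 1 := Subtype.ext (LinearEquiv.ext fun x => Subtype.ext (by rw [hpow, hg]; rfl))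
  have hRne : gR ≠ 1 := fun e1 => hg1 (Subtype.ext (LinearEquiv.ext fun x => by
    have hx : N x ∈ K0 := LinearMap.mem_ker.2 (by
      have := hpow 1 ⟨N x, ⟨x, rfl⟩⟩
      rw [pow_one, pow_one, e1] at this
      rw [hNa]
      exact sub_eq_zero.2 this.symm)
    have hx0 : N x ∈ K0 ⊓ R := ⟨hx, x, rfl⟩
    rw [hinf, Submodule.mem_bot, hNa, sub_eq_zero] at hx0
    exact hx0))
  have hdvd : r ∣ Nat.card (isomGroup (restrictForm h R)) := by
    rw [← orderOf_eq_prime hR1 hRne]; exact orderOf_dvd_natCard _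
  rw [card_isom_herm_closed hq hσ (hh.restrict R) (restrictForm_separatingRight hnd)] at hdvd
  rcases (Fact.out : r.Prime).dvd_mul.1 hdvd with hd | hd
  · exact absurd ((Fact.out : r.Prime).dvd_of_dvd_pow hd) hrq
  · refine hd.trans (Finset.prod_dvd_prod_of_subset _ _ _ ?_)
    intro i hi
    rw [Finset.mem_range] at hi ⊢
    change finrank E R + finrank E K0 = _ at hdim
    change finrank E W ≤ finrank E K0 + e at he
    omega

variable {F : Type*} [Field F] [Fintype F] {V : Type*} [AddCommGroup V] [Module F V] [FiniteDimensional F V]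
  {B : V →ₗ[F] V →ₗ[F] F}
  {K : Type*} [Field K] [Fintype K] [Algebra F K]

/-- The centraliser of the scalar action of the quadratic extension. -/
theorem unitary_facts (hA : B.IsAlt) (hN : B.Nondegenerate) {J : V →ₗ[F] V} {δ : F} (hδ : ¬ IsSquare δ)
    (h2 : (2 : F) ≠ 0) (hsq : ∀ x, J (J x) = δ • x) (hs : ∀ x y, B (J x) y = -B x (J y))
    (hK : finrank F K = 2) (ρ : K →ₐ[F] Module.End F V) (j : K) (hj : j * j = algebraMap F K δ) (hρ : ∀ v : V, ρ j v = J v)
    {d : ℕ} (hd : finrank F V = 2 * d) :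
    (∀ H : Subgroup (isomGroup B), (∀ g : isomGroup B, (∀ x, g.1 (J x) = J (g.1 x)) → g ∈ H) →
      (∏ i ∈ Finset.range d, (if Even i then Fintype.card F ^ (i + 1) + 1 else Fintype.card F ^ (i + 1) - 1)) ∣
        Nat.card H) ∧
    ∀ (r : ℕ) [Fact r.Prime], ¬ r ∣ Fintype.card F → (r : F) ≠ 0 → ∀ y : isomGroup B,
      (∀ x, y.1 (J x) = J (y.1 x)) → y ^ r = 1 → y ≠ 1 → ∀ (U : Submodule F V) (e : ℕ),
      (∀ u ∈ U, y.1 u = u) → finrank F U + 2 * e = 2 * d →
      r ∣ ∏ i ∈ Finset.range e, (if Even i then Fintype.card F ^ (i + 1) + 1 else Fintype.card F ^ (i + 1) - 1) := by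
  classical
  letI : Module K V := Module.compHom V ρ.toRingHom
  haveI : IsScalarTower F K V := ⟨fun a c v => by
    show ρ (a • c) v = a • ρ c v
    rw [map_smul, LinearMap.smul_apply]⟩
  have hJ : ∀ v : V, j • v = J v := hρ
  set q := Fintype.card F with hqdef
  haveI : Module.Finite F K := Module.finite_of_finrank_eq_succ hK
  have hcard : Fintype.card K = q ^ 2 := by rw [Module.card_eq_pow_finrank (K := F) (V := K), hK]
  haveI : Module.Finite K V := Module.Finite.of_restrictScalars_finite F K V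
  obtain ⟨σ, hσ, hconj⟩ := exists_frob hcard
  have hσa : ∀ a : F, σ (algebraMap F K a) = algebraMap F K a := fun a => by
    rw [hσ, ← map_pow, FiniteField.pow_card]
  have hqodd : q % 2 = 1 := FiniteField.odd_card_of_char_ne_two fun e => h2 (by
    have := ringChar.Nat.cast_ringChar (R := F)
    rw [e] at this
    simpa using this)
  have hchar : ringChar F ≠ 2 := fun e => h2 (by
    have := ringChar.Nat.cast_ringChar (R := F)
    rw [e] at this
    simpa using this)
  have hδ0 : δ ≠ 0 := fun e => hδ (e ▸ IsSquare.zero)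
  have hσj : σ j = -j := by
    have hpow : δ ^ (q / 2) = -1 :=
      (FiniteField.pow_dichotomy hchar hδ0).resolve_left fun e => hδ ((FiniteField.isSquare_iff hchar hδ0).2 e)
    rw [hσ, show q = 2 * (q / 2) + 1 by omega, pow_succ, pow_mul, pow_two, hj, ← map_pow, hpow, map_neg, map_one,
      neg_one_mul]
  have hjne : ∀ a : F, j ≠ algebraMap F K a := fun a e => hδ ⟨a, (algebraMap F K).injective (by
    rw [map_mul, ← e, hj])⟩
  have huniq : ∀ a b : F, algebraMap F K a + algebraMap F K b * j = 0 → a = 0 ∧ b = 0 := fun a b e => by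
    by_cases hb : b = 0
    · subst hb
      rw [map_zero, zero_mul, add_zero, map_eq_zero] at e
      exact ⟨e, rfl⟩
    · refine absurd ?_ (hjne (-a / b))
      have : algebraMap F K b ≠ 0 := (map_ne_zero _).2 hb
      rw [map_div₀, map_neg, eq_div_iff this]
      linear_combination e
  have hrep : ∀ c : K, ∃ a b : F, c = algebraMap F K a + algebraMap F K b * j := fun c => by
    have hli : LinearIndependent F ![(1 : K), j] := LinearIndependent.pair_iff.2 fun s t e =>
      huniq s t (by rw [Algebra.smul_def, Algebra.smul_def, mul_one] at e; exact e)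
    obtain ⟨w, hw⟩ := (Submodule.mem_span_range_iff_exists_fun F).1
      ((hli.span_eq_top_of_card_eq_finrank (by rw [hK]; simp)).symm ▸ Submodule.mem_top :
        c ∈ Submodule.span F (Set.range ![(1 : K), j]))
    refine ⟨w 0, w 1, ?_⟩
    rw [← hw, Fin.sum_univ_two, Algebra.smul_def, Algebra.smul_def]
    simp
  have hsmul : ∀ (a b : F) (v : V), (algebraMap F K a + algebraMap F K b * j) • v = a • v + b • J v := fun a b v => by
    rw [add_smul, mul_smul, hJ, algebraMap_smul, algebraMap_smul]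
  have hBJ : ∀ u v, B v (J u) = B u (J v) := fun u v => by rw [alt_swap hA, hs, neg_neg]
  let φ : V → V → K := fun v u => algebraMap F K (B u (J v)) - algebraMap F K (B u v) * j
  let h : V →ₛₗ[σ] V →ₗ[K] K := LinearMap.mk₂'ₛₗ σ (RingHom.id K) φ
    (fun v v' u => by simp only [φ, map_add]; ring)
    (fun c v u => by
      obtain ⟨a, b, rfl⟩ := hrep c
      simp only [φ, hsmul, map_add, map_mul, hσa, hσj, map_smul, smul_eq_mul, hsq]
      linear_combination (algebraMap F K b * algebraMap F K (B u v)) * (-hj))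
    (fun v u u' => by simp only [φ, map_add, LinearMap.add_apply]; ring)
    (fun c v u => by
      obtain ⟨a, b, rfl⟩ := hrep c
      simp only [φ, hsmul, map_add, map_mul, map_smul, LinearMap.add_apply, LinearMap.smul_apply, smul_eq_mul,
        RingHom.id_apply, hs, hsq, map_neg]
      linear_combination (algebraMap F K b * algebraMap F K (B u v)) * hj)
  have happ : ∀ v u, h v u = algebraMap F K (B u (J v)) - algebraMap F K (B u v) * j := fun v u => rfl
  have hherm : IsHermitian h := ⟨hconj, fun v u => by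
    rw [happ, happ, map_sub, map_mul, hσa, hσa, hσj, hBJ, alt_swap hA v u, map_neg]
    ring⟩
  have hhN : h.SeparatingRight := fun x hx => hN.1 x fun y => by
    have e := hx y
    rw [happ, sub_eq_add_neg, ← neg_mul, ← map_neg] at e
    exact neg_eq_zero.1 (huniq _ _ e).2
  have hdK : finrank K V = d := by
    have := Module.finrank_mul_finrank F K V
    rw [hK, hd] at this
    omega
  haveI : Finite V := Module.finite_of_finite F
  haveI : Finite (isomGroup B) := Finite.of_injective (fun g : isomGroup B => (g.1 : V → V))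
    fun a c e => Subtype.ext (DFunLike.coe_injective e)
  have hgJ : ∀ (g : isomGroup h) v, g.1 (J v) = J (g.1 v) := fun g v => by rw [← hJ, map_smul, hJ]
  constructor
  · intro H hH
    let ι : isomGroup h →* H :=
      { toFun := fun g => ⟨⟨g.1.restrictScalars F, fun u v => by
            have e := isomGroup_apply g v u
            rw [happ, happ] at e
            have e' : algebraMap F K (B (g.1 u) (J (g.1 v)) - B u (J v)) +
                algebraMap F K (B u v - B (g.1 u) (g.1 v)) * j = 0 := by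
              rw [map_sub, map_sub]; linear_combination e
            exact (sub_eq_zero.1 (huniq _ _ e').2).symm⟩, hH _ (hgJ g)⟩
        map_one' := Subtype.ext (Subtype.ext (LinearEquiv.ext fun x => rfl))
        map_mul' := fun a c => Subtype.ext (Subtype.ext (LinearEquiv.ext fun x => rfl)) }
    have hinj : Function.Injective ι := fun a c e => Subtype.ext (LinearEquiv.ext fun x =>
      congrArg (fun z : H => z.1.1 x) e)
    refine Dvd.dvd.trans ?_ (Subgroup.card_dvd_of_injective ι hinj)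
    rw [card_isom_herm_closed hcard hσ hherm hhN, hdK]
    exact dvd_mul_left _ _
  · intro r _ hrq hr0 y hy hyr hy1 U e hU hUd
    let yK : V ≃ₗ[K] V :=
      { y.1 with
        map_smul' := fun c v => by
          obtain ⟨a, b, rfl⟩ := hrep c
          show y.1 ((algebraMap F K a + algebraMap F K b * j) • v) = _
          rw [hsmul, map_add, map_smul, map_smul, hy, RingHom.id_apply, hsmul]
          rfl }
    have hyK : ∀ v, yK v = y.1 v := fun v => rfl
    let yh : isomGroup h := ⟨yK, fun u v => by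
      rw [happ, happ, hyK, hyK, ← hy, isomGroup_apply, isomGroup_apply]⟩
    have hk : ∀ (k : ℕ) v, (yh ^ k).1 v = (y ^ k).1 v := by
      intro k
      induction k with
      | zero => intro v; rfl
      | succ k ih =>
        intro v
        rw [pow_succ', pow_succ']
        show y.1 ((yh ^ k).1 v) = y.1 ((y ^ k).1 v)
        rw [ih]
    refine dvd_of_order hcard hσ hherm hhN (fun e' => hr0 ?_) yh
      (Subtype.ext (LinearEquiv.ext fun v => by rw [hk, hyr]; rfl))
      (fun e' => hy1 (Subtype.ext (LinearEquiv.ext fun v => congrArg (fun z : isomGroup h => z.1 v) e'))) hrq ?_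
    · exact (algebraMap F K).injective (by rw [map_natCast, map_zero]; exact e')
    · set K0 := LinearMap.ker ((yh.1 : V →ₗ[K] V) - LinearMap.id)
      have hle : U ≤ K0.restrictScalars F := fun u hu => by
        show ((yh.1 : V →ₗ[K] V) - LinearMap.id : V →ₗ[K] V) u = 0
        rw [LinearMap.sub_apply, LinearMap.id_apply, sub_eq_zero]
        exact hU u hu
      have h3 := Submodule.finrank_mono hle
      rw [(K0.restrictScalarsEquiv F K V).restrictScalars F |>.finrank_eq] at h3
      have h4 := Module.finrank_mul_finrank F K K0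
      rw [hK] at h4
      omega

end Herm

/-- Elements of prime order of PSp_n(q), q odd, and the subgroups of type GU_{n/2}(q). Here `T = PSp_{2d}(F)` for a field `F` with `q` elements, `q` odd, `d ≥ 2`, realised through the matrices preserving the standard alternating form `f`; `K` is a subalgebra of the `2d × 2d` matrices that is a field of degree 2 over `F`, closed under taking adjoints for `f` but not consisting of self-adjoint elements (so `F^{2d}` becomes a `d`-dimensional space over `K ≅ F_{q²}` on which `f` is the trace of a multiple of a non-degenerate hermitian form); `H` is the subgroup of `T` normalizing `K` — the symplectic maps that are `K`-linear or `K`-semilinear, a subgroup of type GU_d(q) (maximality is not assumed). Ω is the set of cosets of `H` in `T`, so an element of `T` of prime order `r` (`x ∈ T` with `x^r` scalar, `x` not scalar) fixes a point of Ω exactly when some `T`-conjugate of `x` normalizes `K`. Let `r` be a prime dividing the index of `H`.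 Then every element of `T` of order `r` fixes a point of Ω if and only if `r = 2`. -/
theorem result {F : Type*} [Field F] [Fintype F] {p : ℕ} [Fact p.Prime] [CharP F p] {q : ℕ} (hq : Fintype.card F = q)
    (hodd : Odd q) (d : ℕ) (hd : 2 ≤ d)
    (K : Subalgebra F (Matrix (Fin d ⊕ Fin d) (Fin d ⊕ Fin d) F)) (hK : Cfsg.Geo.IsFieldSubalgebra 2 K)
    (hKf : Cfsg.Geo.IsAdjointClosedFor (Cfsg.sympForm d F) K) (hKns : ¬ Cfsg.Geo.IsSelfAdjointFor (Cfsg.sympForm d F) K)
    (r : ℕ) [Fact r.Prime]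
    (hΩ : r ∣ (Cfsg.Geo.subalgebraNormalizer K).relIndex (Cfsg.spGL d F)) :
    (∀ x ∈ Cfsg.spGL d F, (∃ z : F, ((x ^ r : GL (Fin d ⊕ Fin d) F) : Matrix (Fin d ⊕ Fin d) (Fin d ⊕ Fin d) F) = z • (1 : Matrix (Fin d ⊕ Fin d) (Fin d ⊕ Fin d) F)) →
      (∀ z : F, (x : Matrix (Fin d ⊕ Fin d) (Fin d ⊕ Fin d) F) ≠ z • (1 : Matrix (Fin d ⊕ Fin d) (Fin d ⊕ Fin d) F)) →
      ∃ g ∈ Cfsg.spGL d F, g⁻¹ * x * g ∈ Cfsg.Geo.subalgebraNormalizer K) ↔ r = 2 := by
  classical
  haveI : Nonempty (Fin d ⊕ Fin d) := ⟨Sum.inl ⟨0, by omega⟩⟩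
  have hr : r.Prime := Fact.out
  have hp2 : p ≠ 2 := fun e => by
    obtain ⟨f, -, hf⟩ := FiniteField.card F p
    have h2 : 2 ∣ q := by rw [← hq, hf, e]; exact dvd_pow_self 2 f.ne_zero
    exact (Nat.not_even_iff_odd.2 hodd) (even_iff_two_dvd.2 h2)
  have h2 : (2 : F) ≠ 0 := Ring.two_ne_zero (by rw [ringChar.eq F p]; exact hp2)
  set f := sympBil F d
  have hf : ∀ u v, f u v = Cfsg.sympForm d F u v := fun u v => sympBil_apply d u v
  have hA : f.IsAlt := sympBil_isAlt (F := F) d
  have hN : f.Nondegenerate := sympBil_nondegenerate (F := F) d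
  have hdim : finrank F (Fin d ⊕ Fin d → F) = 2 * d := by
    rw [Module.finrank_fintype_fun_eq_card, Fintype.card_sum, Fintype.card_fin, two_mul]
  obtain ⟨k, hk, hns⟩ : ∃ k ∈ K, ∃ u v, f (k *ᵥ u) v ≠ f u (k *ᵥ v) := by
    by_contra hall
    push Not at hall
    exact hKns fun k hk u v => by rw [← hf, ← hf]; exact hall k hk u v
  obtain ⟨k', hk', hadj⟩ := hKf k hk
  set Jm := k - k' with hJdef
  have hJK : Jm ∈ K := K.sub_mem hk hk'
  have hadj' : ∀ u v, f (k' *ᵥ u) v = f u (k *ᵥ v) := fun u v => by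
    rw [alt_swap hA, hf v, ← hadj, ← hf, alt_swap hA (k *ᵥ v), neg_neg]
  have hadj0 : ∀ u v, f (k *ᵥ u) v = f u (k' *ᵥ v) := fun u v => by rw [hf, hf]; exact hadj u v
  have hskew : ∀ u v, f (Jm *ᵥ u) v = -f u (Jm *ᵥ v) := fun u v => by
    rw [hJdef, Matrix.sub_mulVec, Matrix.sub_mulVec, map_sub, LinearMap.sub_apply, map_sub, hadj0, hadj']
    ring
  have hJ0 : Jm ≠ 0 := fun h => by
    obtain ⟨u, v, huv⟩ := hns
    rw [sub_eq_zero.1 h] at huv
    exact huv (by rw [hadj', sub_eq_zero.1 h])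
  have hne : ∀ v, (∀ u, f u v = 0) → v = 0 := fun v hv => hN.2 v hv
  have hJs : ∀ c : F, Jm ≠ c • (1 : Matrix _ _ F) := by
    intro c hc
    obtain ⟨v, hv⟩ : ∃ v, Jm *ᵥ v ≠ 0 := by
      by_contra hall
      push Not at hall
      exact hJ0 (Matrix.ext_of_mulVec_single fun i => by rw [hall, Matrix.zero_mulVec])
    refine hv (hne _ fun u => ?_)
    have h := hskew u v
    rw [hc, Matrix.smul_mulVec, Matrix.smul_mulVec, Matrix.one_mulVec, Matrix.one_mulVec] at h
    simp only [map_smul, LinearMap.smul_apply, smul_eq_mul] at h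
    rw [hc, Matrix.smul_mulVec, Matrix.one_mulVec, map_smul, smul_eq_mul]
    exact (mul_eq_zero.1 (show (2 : F) * (c * f u v) = 0 by linear_combination h)).resolve_left h2
  obtain ⟨δ, b, hJJ⟩ := QuadExtension.exists_repr hK hJK hJs (K.mul_mem hJK hJK)
  have hb : b = 0 := by
    have key : ∀ u v, f (b • (Jm *ᵥ u)) v = 0 := fun u v => by
      have e1 : ∀ w, (Jm * Jm) *ᵥ w = δ • w + b • (Jm *ᵥ w) := fun w => by
        rw [hJJ, Matrix.add_mulVec, Matrix.smul_mulVec, Matrix.smul_mulVec, Matrix.one_mulVec]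
      have h : f ((Jm * Jm) *ᵥ u) v = f u ((Jm * Jm) *ᵥ v) := by
        rw [← Matrix.mulVec_mulVec, ← Matrix.mulVec_mulVec, hskew, hskew, neg_neg]
      rw [e1, e1] at h
      simp only [map_add, map_smul, LinearMap.add_apply, LinearMap.smul_apply, smul_eq_mul, hskew] at h ⊢
      exact (mul_eq_zero.1 (show (2 : F) * (b * -f u (Jm *ᵥ v)) = 0 by linear_combination h)).resolve_left h2
    by_contra hb
    exact hJ0 (Matrix.ext_of_mulVec_single fun i => by
      rw [Matrix.zero_mulVec]
      refine (smul_eq_zero.1 (hN.1 _ (key (Pi.single i 1)))).resolve_left hb)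
  rw [hb, zero_smul, add_zero] at hJJ
  have hδ : ¬ IsSquare δ := by
    rintro ⟨s, rfl⟩
    have hz : (Jm - s • (1 : Matrix _ _ F)) * (Jm + s • (1 : Matrix _ _ F)) = 0 := by
      simp only [sub_mul, mul_add, Matrix.smul_mul, Matrix.mul_smul, one_mul, mul_one, hJJ, smul_smul]
      abel
    obtain ⟨y, hyK, hy⟩ := hK.inv _ (K.sub_mem hJK (K.smul_mem K.one_mem s)) (fun h => hJs s (sub_eq_zero.1 h))
    have := congrArg (y * ·) hz
    rw [← mul_assoc, hK.comm y hyK _ (K.sub_mem hJK (K.smul_mem K.one_mem s)), hy, one_mul, mul_zero] at this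
    exact hJs (-s) (by rw [neg_smul]; exact eq_neg_of_add_eq_zero_left this)
  have hδ0 : δ ≠ 0 := fun e => hδ (e ▸ IsSquare.zero)
  set J : (Fin d ⊕ Fin d → F) →ₗ[F] (Fin d ⊕ Fin d → F) := Matrix.toLin' Jm with hJdef'
  have hJa : ∀ v, J v = Jm *ᵥ v := fun v => Matrix.toLin'_apply _ _
  have hs : ∀ u v, f (J u) v = -f u (J v) := fun u v => by rw [hJa, hJa]; exact hskew u v
  have hsq : ∀ v, J (J v) = δ • v := fun v => by
    rw [hJa, hJa, Matrix.mulVec_mulVec, hJJ, Matrix.smul_mulVec, Matrix.one_mulVec]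
  let ψ : isomGroup f →* GL (Fin d ⊕ Fin d) F :=
    (Cfsg.spGL d F).subtype.comp ((spEquiv (F := F) d).symm.trans (spGLEquiv d)).toMonoidHom
  have hψ : ∀ g x, (ψ g : Matrix (Fin d ⊕ Fin d) (Fin d ⊕ Fin d) F) *ᵥ x = g.1 x := fun g x => by
    change ((spEquiv (F := F) d).symm g).1 *ᵥ x = _
    rw [← spEquiv_apply, MulEquiv.apply_symm_apply]
  have hψr : ψ.range = Cfsg.spGL d F := le_antisymm
    (by rintro _ ⟨g, rfl⟩; exact SetLike.coe_mem _)
    fun t ht => ⟨((spEquiv (F := F) d).symm.trans (spGLEquiv d)).symm ⟨t, ht⟩, by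
      change ((((spEquiv (F := F) d).symm.trans (spGLEquiv d)) _ : Cfsg.spGL d F) : GL _ F) = t
      rw [MulEquiv.apply_symm_apply]⟩
  have hψi : Function.Injective ψ := fun a c e => Subtype.ext (LinearEquiv.ext fun x => by rw [← hψ, ← hψ, e])
  have hNrm : ∀ g, ψ g ∈ Cfsg.Geo.subalgebraNormalizer K ↔
      (∀ x, g.1 (J x) = J (g.1 x)) ∨ ∀ x, g.1 (J x) = -J (g.1 x) := by
    intro g
    rw [QuadExtension.mem_normalizer_iff h2 hK hJK hJs hJJ hδ0 (ψ g)]
    refine or_congr ⟨fun h x => ?_, fun h => ?_⟩ ⟨fun h x => ?_, fun h => ?_⟩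
    · rw [hJa, hJa, ← hψ, ← hψ, Matrix.mulVec_mulVec, h, Matrix.mulVec_mulVec]
    · refine Matrix.ext_of_mulVec_single fun i => ?_
      have := h (Pi.single i 1)
      rw [hJa, hJa, ← hψ, ← hψ] at this
      rwa [← Matrix.mulVec_mulVec, ← Matrix.mulVec_mulVec]
    · rw [hJa, hJa, ← hψ, ← hψ, Matrix.mulVec_mulVec, h, Matrix.neg_mulVec, Matrix.mulVec_mulVec]
    · refine Matrix.ext_of_mulVec_single fun i => ?_
      have := h (Pi.single i 1)
      rw [hJa, hJa, ← hψ, ← hψ] at this
      rwa [← Matrix.mulVec_mulVec, Matrix.neg_mulVec, ← Matrix.mulVec_mulVec]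
  haveI : Finite (isomGroup f) := Finite.of_injective ψ hψi
  constructor
  · intro hall
    by_contra hr2
    have hrodd : Odd r := hr.odd_of_ne_two hr2
    -- conjugates in the normaliser commute with the field
    have hmove : ∀ t : isomGroup f, t ^ r = 1 → t ≠ 1 → (∀ z : F, ¬ ∀ x, t.1 x = z • x) →
        ∃ g : isomGroup f, ∀ x, (g⁻¹ * t * g).1 (J x) = J ((g⁻¹ * t * g).1 x) := by
      intro t ht ht1 hts
      obtain ⟨a, ha, ham⟩ := hall (ψ t) (hψr ▸ ⟨t, rfl⟩) ⟨1, by rw [← map_pow, ht, map_one, one_smul, Units.val_one]⟩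
        (fun z e => hts z fun x => by rw [← hψ, e, Matrix.smul_mulVec, Matrix.one_mulVec])
      obtain ⟨g, rfl⟩ : a ∈ ψ.range := hψr ▸ ha
      rw [← map_inv, ← map_mul, ← map_mul, hNrm] at ham
      refine ⟨g, ham.resolve_right fun hanti => ?_⟩
      set y := g⁻¹ * t * g with hy
      have hyr : y ^ r = 1 := by
        rw [hy, show g⁻¹ * t * g = g⁻¹ * t * g⁻¹⁻¹ by rw [inv_inv], conj_pow, ht, mul_one, mul_inv_cancel]
      have hpow : ∀ (n : ℕ) x, (y ^ n).1 (J x) = (-1 : F) ^ n • J ((y ^ n).1 x) := by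
        intro n
        induction n with
        | zero => intro x; simp
        | succ n ih =>
          intro x
          rw [pow_succ' y n]
          show y.1 ((y ^ n).1 (J x)) = (-1 : F) ^ (n + 1) • J (y.1 ((y ^ n).1 x))
          rw [ih, map_smul, hanti, smul_neg, pow_succ, mul_smul, neg_one_smul, smul_neg]
      have := hpow r (Pi.single (Sum.inl ⟨0, by omega⟩) 1)
      rw [hyr, hrodd.neg_one_pow, neg_one_smul] at this
      change J _ = -J _ at this
      have h0 : (2 : F) • J (Pi.single (Sum.inl ⟨0, by omega⟩) 1) = 0 := by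
        rw [two_smul]; exact eq_neg_iff_add_eq_zero.1 this
      have h1 := congrArg J ((smul_eq_zero.1 h0).resolve_left h2)
      rw [hsq, map_zero, smul_eq_zero, or_iff_right hδ0] at h1
      simpa using congrFun h1 (Sum.inl ⟨0, by omega⟩)
    by_cases hrp : r = p
    · -- transvections
      have hv₀ : (Pi.single (Sum.inl ⟨0, by omega⟩) 1 : Fin d ⊕ Fin d → F) ≠ 0 := by simp
      set v : Fin d ⊕ Fin d → F := Pi.single (Sum.inl ⟨0, by omega⟩) 1
      obtain ⟨w, hw⟩ := alt_exists_partner hN.1 hv₀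
      have hw' : f w v = -1 := by rw [alt_swap hA]; exact congrArg Neg.neg hw
      have hpow : ∀ n : ℕ, tv hA v (1 : F) ^ n = tv hA v (n : F) := by
        intro n
        induction n with
        | zero => rw [pow_zero, Nat.cast_zero, tv_zero]
        | succ n ih => rw [pow_succ, ih, tv_mul, Nat.cast_succ]
      obtain ⟨g, hg⟩ := hmove (tv hA v 1) (by rw [hpow, hrp, CharP.cast_eq_zero F p, tv_zero])
        (fun e => by
          have := congrArg (fun t : isomGroup f => t.1 w) e
          simp [tv_apply, hw', hv₀] at this)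
        (fun z hz => by
          have h1 := hz v
          rw [tv_apply, hA v, mul_zero, zero_smul, add_zero] at h1
          have hz1 : z = 1 := by
            by_contra hz1
            exact hv₀ ((smul_eq_zero.1 (show (z - 1) • v = 0 by rw [sub_smul, one_smul, ← h1, sub_self])).resolve_left
              (sub_ne_zero.2 hz1))
          have h2' := hz w
          simp [tv_apply, hw', hz1, hv₀] at h2')
      have hc : g⁻¹ * tv hA v 1 * g = tv hA (g⁻¹.1 v) 1 := by
        rw [← conj_tv hA g⁻¹ v 1, inv_inv]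
      rw [hc] at hg
      set u := g⁻¹.1 v
      have hu0 : u ≠ 0 := fun e => hv₀ (g⁻¹.1.map_eq_zero_iff.1 e)
      obtain ⟨x, hx⟩ := alt_exists_partner hN.1 hu0
      have h1 := hg x
      have hx' : f x u = -1 := by rw [alt_swap hA]; exact congrArg Neg.neg hx
      simp only [tv_apply, map_add, map_smul, hx', one_mul, neg_one_smul, add_right_inj] at h1
      have hJu : J u = (-f (J x) u) • u := by rw [neg_smul, h1, map_neg, neg_neg]
      have h3 := congrArg J hJu
      rw [hsq, map_smul, hJu, smul_smul] at h3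
      exact hδ ⟨-f (J x) u, (smul_left_injective F hu0) h3⟩
    -- the remaining primes
    have hr0 : (r : F) ≠ 0 := fun e => by
      rw [CharP.cast_eq_zero_iff F p] at e
      exact hrp ((Nat.prime_dvd_prime_iff_eq Fact.out hr).1 e).symm
    have hrq : ¬ r ∣ Fintype.card F := fun hd => by
      obtain ⟨n, -, hn⟩ := FiniteField.card F p
      rw [hn] at hd
      exact hrp ((Nat.prime_dvd_prime_iff_eq hr Fact.out).1 (hr.dvd_of_dvd_pow hd))
    letI : CommRing K := { (inferInstance : Ring K) with mul_comm := fun a c => Subtype.ext (hK.comm _ a.2 _ c.2) }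
    haveI : Nontrivial K := ⟨⟨0, 1, fun e => zero_ne_one (α := Matrix (Fin d ⊕ Fin d) (Fin d ⊕ Fin d) F)
      (congrArg Subtype.val e)⟩⟩
    have hKF : IsField K := ⟨exists_pair_ne K, mul_comm, fun {a} ha => by
      obtain ⟨c, hc, hac⟩ := hK.inv _ a.2 fun e => ha (Subtype.ext e)
      exact ⟨⟨c, hc⟩, Subtype.ext hac⟩⟩
    letI : Field K := hKF.toField
    letI : Fintype K := Fintype.ofFinite K
    obtain ⟨hcard, hfix⟩ := unitary_facts (B := f) (K := K) hA hN hδ h2 hsq hs hK.finrank_eq
      ((Matrix.toLinAlgEquiv' (R := F) (n := Fin d ⊕ Fin d)).toAlgHom.comp K.val) ⟨Jm, hJK⟩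
      (Subtype.ext (hJJ.trans (Algebra.algebraMap_eq_smul_one δ).symm)) (fun v => Matrix.toLin'_apply _ _) hdim
    set H := (Cfsg.Geo.subalgebraNormalizer K).comap ψ with hH
    have hAdvd := hcard H fun g hg => Subgroup.mem_comap.2 ((hNrm g).2 (Or.inl hg))
    have hmain : r * Nat.card H ∣ Nat.card (isomGroup f) := by
      rw [← Subgroup.index_mul_card H]
      refine mul_dvd_mul_right ?_ _
      rw [hH, Subgroup.index_comap, hψr]
      exact hΩ
    set Q := Fintype.card F with hQ
    have hQ1 : 1 < Q := Fintype.one_lt_card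
    rw [card_isom_alt hA hN d hdim, ← hQ] at hmain
    have hsplit : ∀ i : ℕ, Q ^ (2 * (i + 1)) - 1 = (if Even i then Q ^ (i + 1) + 1 else Q ^ (i + 1) - 1) *
        (if Even i then Q ^ (i + 1) - 1 else Q ^ (i + 1) + 1) := fun i => by
      have e : Q ^ (2 * (i + 1)) - 1 = (Q ^ (i + 1) + 1) * (Q ^ (i + 1) - 1) := by
        rw [← Nat.sq_sub_sq, one_pow, ← pow_mul, mul_comm 2]
      split_ifs <;> rw [e] <;> ring
    rw [Finset.prod_congr rfl (fun i _ => hsplit i), Finset.prod_mul_distrib] at hmain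
    set A := ∏ i ∈ Finset.range d, (if Even i then Q ^ (i + 1) + 1 else Q ^ (i + 1) - 1) with hAdef
    have hA0 : 0 < A := Finset.prod_pos fun i _ => by
      have : Q ≤ Q ^ (i + 1) := Nat.le_self_pow (by omega) Q
      split_ifs <;> omega
    have h1 := (mul_dvd_mul_left r hAdvd).trans hmain
    rw [show ∀ x y : ℕ, x * (A * y) = x * y * A from fun x y => by ring] at h1
    rcases hr.dvd_mul.1 (Nat.dvd_of_mul_dvd_mul_right hA0 h1) with hd' | hd'
    · exact hrq (hr.dvd_of_dvd_pow hd')
    obtain ⟨i, hi, hd'⟩ := (hr.prime.dvd_finsetProd_iff _).1 hd'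
    rw [Finset.mem_range] at hi
    haveI := Fact.mk hr
    set s : ZMod r := -(Q : ZMod r) with hsdef
    have hex : ∃ n, 1 ≤ n ∧ n ≤ d ∧ s ^ n = -1 := ⟨i + 1, by omega, by omega, by
      split_ifs at hd' with hev
      · have := (ZMod.natCast_eq_zero_iff _ _).2 hd'
        rw [Nat.cast_sub (Nat.one_le_pow _ _ (by omega)), sub_eq_zero] at this
        push_cast at this
        rw [hsdef, hev.add_one.neg_pow, this]
      · have := (ZMod.natCast_eq_zero_iff _ _).2 hd'
        push_cast at this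
        rw [hsdef, (Nat.not_even_iff_odd.1 hev).add_one.neg_pow]
        linear_combination this⟩
    set e := Nat.find hex with hedef
    obtain ⟨he1, hed, hes⟩ : 1 ≤ e ∧ e ≤ d ∧ s ^ e = -1 := Nat.find_spec hex
    have hre : r ∣ Q ^ (2 * e) - 1 := by
      rw [← ZMod.natCast_eq_zero_iff, Nat.cast_sub (Nat.one_le_pow _ _ (by omega)), sub_eq_zero]
      push_cast
      rw [← (even_two_mul e).neg_pow, ← hsdef, mul_comm, pow_mul, hes, neg_one_sq]
    obtain ⟨t, htr, ht1, U, hU, hUd⟩ := exists_order_fix (B := f) hA hN hdim hed he1 hre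
    obtain ⟨g, hg⟩ := hmove t htr ht1 (fun z hz => by
      have h0 := hz (Pi.single (Sum.inl ⟨0, by omega⟩) 1)
      have hzr : z ^ r = 1 := by
        have key : ∀ n : ℕ, ∀ x, (t ^ n).1 x = z ^ n • x := fun n => by
          induction n with
          | zero => intro x; simp
          | succ n ih =>
            intro x
            rw [pow_succ' t n]
            show t.1 ((t ^ n).1 x) = _
            rw [ih, hz, smul_smul, pow_succ']
        have h1 := congrFun (key r (Pi.single (Sum.inl ⟨0, by omega⟩) 1)) (Sum.inl ⟨0, by omega⟩)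
        rw [htr] at h1
        simpa using h1.symm
      obtain ⟨w, hw⟩ := alt_exists_partner hN.1 (show (Pi.single (Sum.inl ⟨0, by omega⟩) 1 : Fin d ⊕ Fin d → F) ≠ 0 by simp)
      have hz2 : z ^ 2 = 1 := by
        have h1 := isomGroup_apply t (Pi.single (Sum.inl ⟨0, by omega⟩) 1) w
        rw [hz, hz, map_smul, map_smul, LinearMap.smul_apply, smul_eq_mul, smul_eq_mul, hw, mul_one] at h1
        rw [pow_two]; exact h1
      have hz1 : z = 1 := by
        have := pow_gcd_eq_one.2 ⟨hz2, hzr⟩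
        rwa [(Nat.coprime_two_left.2 hrodd).gcd_eq_one, pow_one] at this
      exact ht1 (Subtype.ext (LinearEquiv.ext fun x => by rw [hz, hz1, one_smul]; rfl)))
    have hyr : (g⁻¹ * t * g) ^ r = 1 := by
      rw [show g⁻¹ * t * g = g⁻¹ * t * g⁻¹⁻¹ by rw [inv_inv], conj_pow, htr, mul_one, mul_inv_cancel]
    have hy1 : g⁻¹ * t * g ≠ 1 := fun e' => ht1 (by
      rw [show t = g * (g⁻¹ * t * g) * g⁻¹ by group, e', mul_one, mul_inv_cancel])
    have hdvd := hfix r hrq hr0 _ hg hyr hy1 (U.map (g⁻¹.1 : (Fin d ⊕ Fin d → F) →ₗ[F] _)) e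
      (by
        rintro _ ⟨u, hu, rfl⟩
        show g⁻¹.1 (t.1 (g.1 (g⁻¹.1 u))) = g⁻¹.1 u
        rw [show g.1 (g⁻¹.1 u) = (g * g⁻¹).1 u from rfl, mul_inv_cancel, show (1 : isomGroup f).1 u = u from rfl,
          hU u hu])
      (by rw [LinearEquiv.finrank_map_eq]; exact hUd)
    obtain ⟨j, hj, hdj⟩ := (hr.prime.dvd_finsetProd_iff _).1 hdvd
    rw [Finset.mem_range] at hj
    have hsj : s ^ (j + 1) = 1 := by
      split_ifs at hdj with hev
      · have := (ZMod.natCast_eq_zero_iff _ _).2 hdj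
        push_cast at this
        rw [hsdef, hev.add_one.neg_pow]
        linear_combination -this
      · have := (ZMod.natCast_eq_zero_iff _ _).2 hdj
        rw [Nat.cast_sub (Nat.one_le_pow _ _ (by omega)), sub_eq_zero] at this
        push_cast at this
        rw [hsdef, (Nat.not_even_iff_odd.1 hev).add_one.neg_pow, this]
    have hne1 : (-1 : ZMod r) ≠ 1 := by
      haveI : Fact (2 < r) := ⟨lt_of_le_of_ne hr.two_le (Ne.symm hr2)⟩
      exact ZMod.neg_one_ne_one
    rcases eq_or_lt_of_le (show j + 1 ≤ e by omega) with he' | he'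
    · rw [he'] at hsj; exact hne1 (hes.symm.trans hsj)
    · refine Nat.find_min hex (show e - (j + 1) < e by omega) ⟨by omega, by omega, ?_⟩
      calc s ^ (e - (j + 1)) = s ^ (e - (j + 1)) * s ^ (j + 1) := by rw [hsj, mul_one]
        _ = -1 := by rw [← pow_add, Nat.sub_add_cancel (by omega), hes]
  · rintro rfl x hx ⟨z, hz⟩ -
    obtain ⟨t, rfl⟩ : x ∈ ψ.range := hψr ▸ hx
    have hzz : ∀ v, t.1 (t.1 v) = z • v := fun v => by
      rw [← hψ, ← hψ, Matrix.mulVec_mulVec, ← pow_two, ← Units.val_pow_eq_pow_val, hz, Matrix.smul_mulVec,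
        Matrix.one_mulVec]
    obtain ⟨w, hw⟩ := alt_exists_partner hN.1
      (show (Pi.single (Sum.inl ⟨0, by omega⟩) 1 : Fin d ⊕ Fin d → F) ≠ 0 by simp)
    have hz2 : z * z = 1 := by
      have h1 : f (t.1 (t.1 (Pi.single (Sum.inl ⟨0, by omega⟩) 1))) (t.1 (t.1 w)) = 1 := by
        rw [isomGroup_apply, isomGroup_apply, hw]
      rw [hzz, hzz, map_smul, map_smul, LinearMap.smul_apply, smul_eq_mul, smul_eq_mul, hw, mul_one] at h1
      exact h1
    obtain ⟨J', hs', hsq', hcomm⟩ : ∃ J' : (Fin d ⊕ Fin d → F) →ₗ[F] (Fin d ⊕ Fin d → F),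
        (∀ u v, f (J' u) v = -f u (J' v)) ∧ (∀ v, J' (J' v) = δ • v) ∧
        ((∀ v, t.1 (J' v) = J' (t.1 v)) ∨ ∀ v, t.1 (J' v) = -J' (t.1 v)) := by
      rcases mul_self_eq_one_iff.1 hz2 with hz1 | hz1
      · have h1 : ∀ v, t.1.toLinearMap (t.1.toLinearMap v) = v := fun v => (hzz v).trans (by rw [hz1, one_smul])
        obtain ⟨J', a, b, c⟩ := exists_skew_comm (B := f) hA hN h2 (T := t.1.toLinearMap) t.2 h1 δ
        exact ⟨J', a, b, Or.inl c⟩
      · have h1 : ∀ v, t.1.toLinearMap (t.1.toLinearMap v) = -v := fun v => (hzz v).trans (by rw [hz1, neg_one_smul])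
        obtain ⟨J', a, b, c⟩ := exists_skew_anti (B := f) hA hN h2 (T := t.1.toLinearMap) t.2 h1 δ
        exact ⟨J', a, b, Or.inr c⟩
    obtain ⟨g, hg⟩ := exists_conj hA hN h2 hδ0 hs hsq hs' hsq'
    refine ⟨ψ g, hψr ▸ ⟨g, rfl⟩, ?_⟩
    rw [← map_inv, ← map_mul, ← map_mul, hNrm]
    have hgi : ∀ v, g⁻¹.1 (J' v) = J (g⁻¹.1 v) := fun v => by
      refine g.1.injective ?_
      rw [hg, show g.1 (g⁻¹.1 (J' v)) = (g * g⁻¹).1 (J' v) from rfl,
        show g.1 (g⁻¹.1 v) = (g * g⁻¹).1 v from rfl, mul_inv_cancel]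
      rfl
    refine hcomm.imp (fun hc v => ?_) (fun hc v => ?_)
    · show g⁻¹.1 (t.1 (g.1 (J v))) = J (g⁻¹.1 (t.1 (g.1 v)))
      rw [hg, hc, hgi]
    · show g⁻¹.1 (t.1 (g.1 (J v))) = -J (g⁻¹.1 (t.1 (g.1 v)))
      rw [hg, hc, map_neg, hgi]

end Cfsg.Agent.S5976
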