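import Cfsg.Statements.S5961
import Cfsg.Agent.S5976
import Cfsg.Agent.Lib.Derangements.LinearElusive
import Cfsg.Agent.Lib.Derangements.LinearElusiveCount
-- import your own Cfsg.Agent.* helpers here

set_option autoImplicit false
open scoped MatrixGroups
open Cfsg

set_option linter.unusedSectionVars false

namespace Cfsg.Agent.S5961

open Module Matrix CfsgLib.Classical CfsgLib.Derangements.LinElusive

section Pieces

variable {F : Type*} [Field F] [Fintype F] {V : Type*} [AddCommGroup V] [Module F V] [FiniteDimensional F V]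
  {B : V →ₗ[F] V →ₗ[F] F}

/-- The data attached to an isometry of odd prime order. -/
structure Setup (B : V →ₗ[F] V →ₗ[F] F) (T : Module.End F V) (E : Submodule F V) (r i : ℕ) : Prop where
  alt : B.IsAlt
  nondeg : B.Nondegenerate
  iso : ∀ u v, B (T u) (T v) = B u v
  pow : T ^ r = 1
  split : Split T
  uni : Uniform T E i
  compl : IsCompl (T.eigenspace 1) E
  formula : ∀ W, Inv T W → finrank F W = finrank F (W ⊓ T.eigenspace 1 : Submodule F V) +
    finrank F (W ⊓ E : Submodule F V)
  orth : ∀ u ∈ T.eigenspace 1, ∀ v ∈ E, B u v = 0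

variable {T : Module.End F V} {E : Submodule F V} {r i : ℕ}

theorem mem_fix {v : V} : v ∈ T.eigenspace 1 ↔ T v = v := by rw [Module.End.mem_eigenspace_iff, one_smul]

theorem exists_setup (hA : B.IsAlt) (hN : B.Nondegenerate) [Fact r.Prime] (hr : (r : F) ≠ 0)
    (hiso : ∀ u v, B (T u) (T v) = B u v) (hpow : T ^ r = 1) :
    ∃ E, Setup B T E r (orderOf (Fintype.card F : ZMod r)) := by
  obtain ⟨E, hc, hs, hu, hf⟩ := exists_structure hr hpow
  refine ⟨E, hA, hN, hiso, hpow, hs, hu, hc, hf, fun u hu' v hv => ?_⟩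
  set S : V := ∑ j ∈ Finset.range r, (T ^ j) v with hS
  have hfix : T S = S := by
    have h1 : (T - 1) * ∑ j ∈ Finset.range r, T ^ j = 0 := by rw [mul_geom_sum, hpow, sub_self]
    have h2 := LinearMap.congr_fun h1 v
    rw [Module.End.mul_apply, LinearMap.sum_apply, ← hS, LinearMap.sub_apply, Module.End.one_apply,
      LinearMap.zero_apply, sub_eq_zero] at h2
    exact h2
  have hSE : S ∈ E := E.sum_mem fun j _ => by
    have := hu.inv.aeval_mem (Polynomial.X ^ j) hv
    simpa using this
  have hS0 : S = 0 := Submodule.disjoint_def.1 hc.disjoint _ (mem_fix.2 hfix) hSE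
  have hj : ∀ j, B u ((T ^ j) v) = B u v := by
    intro j
    induction j with
    | zero => simp
    | succ j ih =>
      rw [pow_succ', Module.End.mul_apply, ← ih]
      conv_lhs => rw [← mem_fix.1 hu']
      exact hiso _ _
  have h3 : (r : F) * B u v = 0 := by
    have h4 := congrArg (B u) hS0
    rw [hS, map_sum, map_zero, Finset.sum_congr rfl (fun j _ => hj j), Finset.sum_const, Finset.card_range,
      nsmul_eq_mul] at h4
    exact h4
  exact (mul_eq_zero.1 h3).resolve_left hr

variable (h : Setup B T E r i)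
include h

theorem Setup.inj (hr : 0 < r) {v : V} (hv : T v = 0) : v = 0 := by
  have := LinearMap.congr_fun h.pow v
  rw [show r = r - 1 + 1 by omega, pow_succ, Module.End.mul_apply, hv, map_zero] at this
  exact this.symm

theorem Setup.map_eq (hr : 0 < r) {U : Submodule F V} (hU : Inv T U) : U.map T = U := by
  refine Submodule.eq_of_le_of_finrank_eq hU ?_
  exact (Submodule.equivMapOfInjective T ((injective_iff_map_eq_zero T).2 fun v => h.inj hr) U).finrank_eq.symm

theorem Setup.inv_perp (hr : 0 < r) {U : Submodule F V} (hU : Inv T U) : Inv T (perp B U) :=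
  Inv.of_mem fun v hv => mem_perp.2 fun w hw => by
    rw [← h.map_eq hr hU] at hw
    obtain ⟨z, hz, rfl⟩ := hw
    rw [h.iso]
    exact mem_perp.1 hv z hz

/-- The radical of an invariant subspace of dimension `i` inside the moved part. -/
theorem Setup.dichotomy (hr : 0 < r) {U : Submodule F V} (hU : Inv T U) (hUE : U ≤ E) (hd : finrank F U = i) :
    NondegOn B U ∨ ∀ u ∈ U, ∀ v ∈ U, B u v = 0 := by
  by_cases hb : U ⊓ perp B U = ⊥
  · exact Or.inl (disjoint_iff.2 hb)
  · refine Or.inr fun u hu v hv => ?_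
    have h1 := h.uni.dvd (U ⊓ perp B U) (inf_le_left.trans hUE) (hU.inf (h.inv_perp hr hU))
    have h2 : U ⊓ perp B U = U := Submodule.eq_of_le_of_finrank_le inf_le_left (hd ▸ Nat.le_of_dvd
      (Nat.pos_of_ne_zero fun e => hb (Submodule.finrank_eq_zero.1 e)) h1)
    exact mem_perp.1 (h2.symm.le hv).2 u hu

/-- A non-degenerate invariant piece, pairing two totally isotropic ones. -/
theorem Setup.piece_odd (hr : 0 < r) {W : Submodule F V} (hW : Inv T W) (hWE : W ≤ E) (hnd : NondegOn B W)
    (hne : W ≠ ⊥) (hi : Odd i) : ∃ P, P ≤ W ∧ Inv T P ∧ NondegOn B P ∧ finrank F P = 2 * i := by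
  obtain ⟨U, hUW, hU, hUd⟩ := h.uni.exists_le W hWE hW hne
  have hiso : ∀ u ∈ U, ∀ v ∈ U, B u v = 0 := by
    refine (h.dichotomy hr hU (hUW.trans hWE) hUd).resolve_left fun hn => ?_
    obtain ⟨m, b, -⟩ := exists_sympBasis (restrictForm_isAlt h.alt U) (restrictForm_nondegenerate h.alt.isRefl hn)
    have h1 := Module.finrank_eq_card_basis b
    rw [hUd, Fintype.card_sum, Fintype.card_fin] at h1
    exact Nat.not_even_iff_odd.2 hi ⟨m, h1⟩
  have hUY : U ≤ W ⊓ perp B U := fun u hu => ⟨hUW hu, mem_perp.2 fun w hw => hiso w hw u hu⟩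
  obtain ⟨U', hU'W, hU', hdis, hsup, hdim⟩ :=
    h.split.exists_rel (hW.inf (h.inv_perp hr hU)) hW inf_le_left
  have hker : ∀ v ∈ U', (∀ u ∈ U, B u v = 0) → v = 0 := fun v hv hv0 =>
    Submodule.disjoint_def.1 hdis v ⟨hU'W hv, mem_perp.2 hv0⟩ hv
  have hle : finrank F U' ≤ i := by
    let Φ : U' →ₗ[F] Module.Dual F U := (B.flip.compl₁₂ U'.subtype U.subtype)
    have hΦ : Function.Injective Φ := (injective_iff_map_eq_zero Φ).2 fun v hv => Subtype.ext
      (hker _ v.2 fun u hu => LinearMap.congr_fun hv ⟨u, hu⟩)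
    have := LinearMap.finrank_le_finrank_of_injective hΦ
    rwa [Subspace.dual_finrank_eq, hUd] at this
  have hpos : U' ≠ ⊥ := fun e => by
    have hWY : W ⊓ perp B U = W := by
      have := hsup
      rwa [e, sup_bot_eq] at this
    have hU0 : U = ⊥ := (Submodule.eq_bot_iff _).2 fun u hu => nondegOn_iff.1 hnd u (hUW hu) fun w hw =>
      h.alt.isRefl _ _ (mem_perp.1 (hWY.symm.le hw).2 u hu)
    rw [hU0, finrank_bot] at hUd
    exact absurd hUd.symm h.uni.pos.ne'
  have hd' : finrank F U' = i := le_antisymm hle (Nat.le_of_dvd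
    (Nat.pos_of_ne_zero fun e => hpos (Submodule.finrank_eq_zero.1 e)) (h.uni.dvd U' (hU'W.trans hWE) hU'))
  refine ⟨U ⊔ U', sup_le hUW hU'W, hU.sup hU', nondegOn_iff.2 fun x hx hxo => ?_, ?_⟩
  · obtain ⟨u, hu, v, hv, rfl⟩ := Submodule.mem_sup.1 hx
    have hv0 : v = 0 := hker v hv fun w hw => by
      have := hxo w (Submodule.mem_sup_left hw)
      rwa [map_add, hiso w hw u hu, zero_add] at this
    subst hv0
    rw [add_zero] at hxo ⊢
    refine nondegOn_iff.1 hnd u (hUW hu) fun w hw => ?_
    rw [← hsup] at hw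
    obtain ⟨y, hy, z, hz, rfl⟩ := Submodule.mem_sup.1 hw
    rw [map_add, LinearMap.add_apply, h.alt.isRefl _ _ (mem_perp.1 hy.2 u hu), hxo z (Submodule.mem_sup_right hz),
      add_zero]
  · rw [finrank_sup_of_disjoint (hdis.mono_left hUY), hUd, hd', two_mul]

theorem Setup.aeval_adjoint (hr : 0 < r) (f : Polynomial F) (u v : V) :
    B u (Polynomial.aeval T f v) = B (Polynomial.aeval (T ^ (r - 1)) f u) v := by
  induction f using Polynomial.induction_on' with
  | add f g hf hg => simp [hf, hg]
  | monomial k c =>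
    have key : ∀ (k : ℕ) u, B u ((T ^ k) v) = B (((T ^ (r - 1)) ^ k) u) v := by
      intro k
      induction k with
      | zero => intro u; simp
      | succ k ih =>
        intro u
        rw [pow_succ', Module.End.mul_apply, pow_succ, Module.End.mul_apply, ← ih]
        have hu : T ((T ^ (r - 1)) u) = u := by
          rw [← Module.End.mul_apply, ← pow_succ', show r - 1 + 1 = r by omega, h.pow]
          rfl
        conv_lhs => rw [← hu]
        exact h.iso _ _
    simp only [Polynomial.aeval_monomial, Module.End.mul_apply, Module.algebraMap_end_apply, map_smul,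
      LinearMap.smul_apply, key]

/-- A non-degenerate invariant piece of dimension `i`. -/
theorem Setup.piece_even (hr : r.Prime) (hr2 : Odd r) (hQ : ∃ j, Fintype.card F ^ j % r = r - 1)
    {W : Submodule F V} (hW : Inv T W) (hWE : W ≤ E) (hnd : NondegOn B W)
    (hne : W ≠ ⊥) : ∃ P, P ≤ W ∧ Inv T P ∧ NondegOn B P ∧ finrank F P = i := by
  classical
  have hr0 := hr.pos
  by_contra hall
  push Not at hall
  have hiso : ∀ U ≤ W, Inv T U → finrank F U = i → ∀ u ∈ U, ∀ v ∈ U, B u v = 0 := fun U hUW hU hd =>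
    (h.dichotomy hr0 hU (hUW.trans hWE) hd).resolve_left fun hn => hall U hUW hU hn hd
  obtain ⟨U, hUW, hU, hUd⟩ := h.uni.exists_le W hWE hW hne
  let y : Module.End F U := T.restrict fun u hu => hU.mem hu
  set f := y.charpoly with hf
  have hfm : f.Monic := y.charpoly_monic
  have hfd : f.natDegree = i := by rw [hf, LinearMap.charpoly_natDegree, hUd]
  have hy : ∀ (g : Polynomial F) (u : U), ((Polynomial.aeval y g u : U) : V) = Polynomial.aeval T g u := fun g u => by
    induction g using Polynomial.induction_on' with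
    | add g g' hg hg' => simp [hg, hg']
    | monomial k c =>
      simp only [Polynomial.aeval_monomial, Module.End.mul_apply, Module.algebraMap_end_apply, Submodule.coe_smul]
      congr 1
      induction k with
      | zero => simp
      | succ k ih => rw [pow_succ', pow_succ', Module.End.mul_apply, Module.End.mul_apply, ← ih]; rfl
  have hfU : ∀ u ∈ U, Polynomial.aeval T f u = 0 := fun u hu => by
    rw [← hy f ⟨u, hu⟩, hf, LinearMap.aeval_self_charpoly]
    rfl
  set P := W ⊓ LinearMap.ker (Polynomial.aeval T f) with hP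
  have hcomm : ∀ v, Polynomial.aeval T f (T v) = T (Polynomial.aeval T f v) := fun v => by
    have h1 := LinearMap.congr_fun (congrArg (Polynomial.aeval T) (mul_comm f Polynomial.X)) v
    simpa using h1
  have hPi : Inv T P := hW.inf (Inv.of_mem fun v hv => by
    rw [LinearMap.mem_ker] at hv ⊢
    rw [hcomm, hv, map_zero])
  have hfix : ∀ v ∈ W, T v = v → v = 0 := fun v hv e =>
    Submodule.disjoint_def.1 h.compl.disjoint v (mem_fix.2 e) (hWE hv)
  -- cyclic subspaces inside the component
  have hTv : ∀ v ∈ P, B v (T v) = 0 := fun v hv => by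
    by_cases hv0 : v = 0
    · rw [hv0, map_zero, LinearMap.zero_apply]
    set C := Submodule.span F (Set.range fun k : Fin i => (T ^ (k : ℕ)) v) with hC
    have hmem : ∀ k < i, (T ^ k) v ∈ C := fun k hk => Submodule.subset_span ⟨⟨k, hk⟩, rfl⟩
    have htop : (T ^ i) v ∈ C := by
      have h1 : Polynomial.aeval T f v = 0 := hv.2
      rw [Polynomial.aeval_eq_sum_range, LinearMap.sum_apply, hfd, Finset.sum_range_succ,
        show f.coeff i = 1 from hfd ▸ hfm.coeff_natDegree, one_smul] at h1
      rw [eq_neg_of_add_eq_zero_right h1]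
      exact C.neg_mem (C.sum_mem fun k hk => C.smul_mem _ (hmem k (Finset.mem_range.1 hk)))
    have hCi : Inv T C := Inv.of_mem fun w hw => by
      induction hw using Submodule.span_induction with
      | mem w hw =>
        obtain ⟨k, rfl⟩ := hw
        show T ((T ^ (k : ℕ)) v) ∈ C
        rw [← Module.End.mul_apply, ← pow_succ']
        rcases Nat.lt_or_ge ((k : ℕ) + 1) i with hlt | hge
        · exact hmem _ hlt
        · rw [show (k : ℕ) + 1 = i by omega]; exact htop
      | zero => simp
      | add a b _ _ ha hb => rw [map_add]; exact C.add_mem ha hb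
      | smul c a _ ha => rw [map_smul]; exact C.smul_mem c ha
    have hCP : C ≤ P := Submodule.span_le.2 (by
      rintro _ ⟨k, rfl⟩
      have := hPi.aeval_mem (Polynomial.X ^ (k : ℕ)) hv
      simpa using this)
    have hvC : v ∈ C := by simpa using hmem 0 h.uni.pos
    have hCd : finrank F C = i := by
      refine le_antisymm ((finrank_range_le_card _).trans (Fintype.card_fin i).le) (Nat.le_of_dvd ?_
        (h.uni.dvd C ((hCP.trans inf_le_left).trans hWE) hCi))
      exact Nat.pos_of_ne_zero fun e => hv0 (by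
        rw [Submodule.finrank_eq_zero] at e
        simpa [e] using hvC)
    exact hiso C (hCP.trans inf_le_left) hCi hCd v hvC (T v) (hCi.mem hvC)
  have hPiso : ∀ u ∈ P, ∀ v ∈ P, B u v = 0 := by
    let D : P →ₗ[F] P := (T - T ^ (r - 1)).restrict fun w hw => P.sub_mem (hPi.mem hw) (by
      have := hPi.aeval_mem (Polynomial.X ^ (r - 1)) hw
      simpa using this)
    have hD : Function.Injective D := (injective_iff_map_eq_zero D).2 fun w hw => by
      have e1 : T (w : V) = (T ^ (r - 1)) (w : V) := sub_eq_zero.1 (congrArg Subtype.val hw)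
      have e2 : (T ^ 2) (w : V) = w := by
        rw [pow_two, Module.End.mul_apply, e1, ← Module.End.mul_apply, ← pow_succ', show r - 1 + 1 = r by omega, h.pow]
        rfl
      obtain ⟨s, hs⟩ := hr2
      have e3 : ∀ k, ((T ^ 2) ^ k) (w : V) = w := by
        intro k
        induction k with
        | zero => simp
        | succ k ih => rw [pow_succ, Module.End.mul_apply, e2, ih]
      have e4 : T (w : V) = w := by
        calc T (w : V) = T (((T ^ 2) ^ s) (w : V)) := by rw [e3]
          _ = (T ^ r) (w : V) := by conv_rhs => rw [hs, pow_succ', Module.End.mul_apply, pow_mul]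
          _ = w := by rw [h.pow]; rfl
      exact Subtype.ext (hfix _ w.2.1 e4)
    intro u hu v hv
    obtain ⟨w, hw⟩ := (LinearMap.injective_iff_surjective.1 hD) ⟨v, hv⟩
    have hw' : T (w : V) - (T ^ (r - 1)) (w : V) = v := congrArg Subtype.val hw
    have h1 := hTv (u + w) (P.add_mem hu w.2)
    simp only [map_add, LinearMap.add_apply, hTv u hu, hTv _ w.2, zero_add, add_zero] at h1
    have h3 : T ((T ^ (r - 1)) (w : V)) = w := by
      rw [← Module.End.mul_apply, ← pow_succ', show r - 1 + 1 = r by omega, h.pow]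
      rfl
    have h2' : B u ((T ^ (r - 1)) (w : V)) = B (T u) w := by
      have h4 := h.iso u ((T ^ (r - 1)) (w : V))
      rw [h3] at h4
      exact h4.symm
    rw [← hw', map_sub, h2', alt_swap h.alt (T u)]
    linear_combination h1
  -- the component is orthogonal to everything
  obtain ⟨R, hRW, hR, hdis, hsup, -⟩ := h.split.exists_rel hPi hW inf_le_left
  let G : R →ₗ[F] R := (Polynomial.aeval T f).restrict fun w hw => hR.aeval_mem f hw
  have hG : Function.Surjective G := LinearMap.injective_iff_surjective.1 ((injective_iff_map_eq_zero G).2 fun w hw =>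
    Subtype.ext (Submodule.disjoint_def.1 hdis _ ⟨hRW w.2, LinearMap.mem_ker.2 (congrArg Subtype.val hw)⟩ w.2))
  obtain ⟨j, hj⟩ := hQ
  have hfQ : ∀ n, Polynomial.aeval (T ^ (Fintype.card F ^ n)) f = (Polynomial.aeval T f) ^ (Fintype.card F ^ n) := by
    intro n
    induction n with
    | zero => simp
    | succ n ih =>
      rw [pow_succ, pow_mul, pow_mul, ← ih, ← map_pow, ← FiniteField.expand_card, Polynomial.expand_aeval]
  have hTQ : T ^ (Fintype.card F ^ j) = T ^ (r - 1) := by
    rw [← Nat.mod_add_div (Fintype.card F ^ j) r, hj, pow_add, pow_mul, h.pow, one_pow, mul_one]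
  have hQpos : 0 < Fintype.card F ^ j := pow_pos Fintype.card_pos _
  have horth : ∀ u ∈ P, ∀ w ∈ W, B u w = 0 := fun u hu w hw => by
    rw [← hsup] at hw
    obtain ⟨p, hp, z, hz, rfl⟩ := Submodule.mem_sup.1 hw
    obtain ⟨z', hz'⟩ := hG ⟨z, hz⟩
    have hz'' : Polynomial.aeval T f (z' : V) = z := congrArg Subtype.val hz'
    rw [map_add, hPiso u hu p hp, zero_add, ← hz'', h.aeval_adjoint hr0, ← hTQ, hfQ,
      show Fintype.card F ^ j = Fintype.card F ^ j - 1 + 1 by omega, pow_succ, Module.End.mul_apply,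
      show Polynomial.aeval T f u = 0 from hu.2, map_zero, map_zero, LinearMap.zero_apply]
  have hU0 : U = ⊥ := (Submodule.eq_bot_iff _).2 fun u hu => nondegOn_iff.1 hnd u (hUW hu) fun w hw =>
    h.alt.isRefl _ _ (horth u ⟨hUW hu, LinearMap.mem_ker.2 (hfU u hu)⟩ w hw)
  rw [hU0, finrank_bot] at hUd
  exact absurd hUd.symm h.uni.pos.ne'

omit h in
theorem nondeg_split (hA : B.IsAlt) {W P : Submodule F V} (hW : NondegOn B W) (hP : NondegOn B P) (hPW : P ≤ W) :
    P ⊔ W ⊓ perp B P = W ∧ NondegOn B (W ⊓ perp B P) ∧ Disjoint P (W ⊓ perp B P) ∧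
      finrank F P + finrank F (W ⊓ perp B P : Submodule F V) = finrank F W := by
  have hsup : P ⊔ W ⊓ perp B P = W := by
    refine le_antisymm (sup_le hPW inf_le_left) fun w hw => ?_
    obtain ⟨p, hp, z, hz, rfl⟩ := Submodule.mem_sup.1 (hP.isCompl.sup_eq_top ▸ Submodule.mem_top (x := w))
    exact Submodule.add_mem_sup hp ⟨by simpa using W.sub_mem hw (hPW hp), hz⟩
  have hd : Disjoint P (W ⊓ perp B P) := hP.mono_right inf_le_right
  refine ⟨hsup, nondegOn_iff.2 fun x hx hxo => nondegOn_iff.1 hW x hx.1 fun w hw => ?_, hd, ?_⟩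
  · rw [← hsup] at hw
    obtain ⟨p, hp, z, hz, rfl⟩ := Submodule.mem_sup.1 hw
    rw [map_add, LinearMap.add_apply, mem_perp.1 hx.2 p hp, hxo z hz, add_zero]
  · rw [← finrank_sup_of_disjoint hd, hsup]

/-- Iterating the choice of pieces. -/
theorem Setup.iterate (hr : 0 < r) {S : Submodule F V} {c : ℕ} (hc : 0 < c)
    (hS : ∀ W ≤ S, Inv T W → NondegOn B W → W ≠ ⊥ → ∃ P, P ≤ W ∧ Inv T P ∧ NondegOn B P ∧ finrank F P = c) :
    ∀ W ≤ S, Inv T W → NondegOn B W → c ∣ finrank F W ∧
      ∀ k, k * c ≤ finrank F W → ∃ P, P ≤ W ∧ Inv T P ∧ NondegOn B P ∧ finrank F P = k * c := by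
  intro W
  induction hn : finrank F W using Nat.strong_induction_on generalizing W with
  | _ n ih =>
    intro hWS hW hnd
    have hzero : ∃ P, P ≤ W ∧ Inv T P ∧ NondegOn B P ∧ finrank F P = 0 :=
      ⟨⊥, bot_le, Inv.of_mem (by simp), disjoint_bot_left, finrank_bot F V⟩
    by_cases hne : W = ⊥
    · subst hne
      rw [finrank_bot] at hn
      subst hn
      refine ⟨dvd_zero c, fun k hk => ?_⟩
      rw [Nat.le_zero.1 hk]
      exact hzero
    obtain ⟨P, hPW, hP, hPn, hPd⟩ := hS W hWS hW hnd hne
    obtain ⟨hsup, hnd', hdis, hdim⟩ := nondeg_split h.alt hnd hPn hPW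
    obtain ⟨hdvd, hk'⟩ := ih (finrank F (W ⊓ perp B P : Submodule F V)) (by omega) (W ⊓ perp B P) rfl
      (inf_le_left.trans hWS) (hW.inf (h.inv_perp hr hP)) hnd'
    rw [hPd, hn] at hdim
    refine ⟨hdim ▸ dvd_add dvd_rfl hdvd, fun k hk => ?_⟩
    rcases k with _ | k
    · rw [zero_mul]; exact hzero
    rw [add_mul, one_mul] at hk
    obtain ⟨Q, hQ, hQi, hQn, hQd⟩ := hk' k (by omega)
    refine ⟨P ⊔ Q, sup_le hPW (hQ.trans inf_le_left), hP.sup hQi, nondegOn_iff.2 fun x hx hxo => ?_, ?_⟩
    · obtain ⟨p, hp, z, hz, rfl⟩ := Submodule.mem_sup.1 hx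
      have hz' := (hQ hz).2
      have hp0 : p = 0 := nondegOn_iff.1 hPn p hp fun w hw => by
        have := hxo w (Submodule.mem_sup_left hw)
        rwa [map_add, mem_perp.1 hz' w hw, add_zero] at this
      subst hp0
      rw [zero_add] at hxo ⊢
      exact nondegOn_iff.1 hQn z hz fun w hw => hxo w (Submodule.mem_sup_right hw)
    · rw [finrank_sup_of_disjoint (hdis.mono_right hQ), hPd, hQd, add_mul, one_mul, add_comm]

/-- The fixed and moved parts of a non-degenerate invariant subspace. -/
theorem Setup.parts {W : Submodule F V} (hW : Inv T W) (hnd : NondegOn B W) :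
    NondegOn B (W ⊓ T.eigenspace 1) ∧ NondegOn B (W ⊓ E) ∧
      W ⊓ T.eigenspace 1 ⊔ W ⊓ E = W := by
  have hd : Disjoint (W ⊓ T.eigenspace 1) (W ⊓ E) := h.compl.disjoint.mono inf_le_right inf_le_right
  have hsup : W ⊓ T.eigenspace 1 ⊔ W ⊓ E = W :=
    Submodule.eq_of_le_of_finrank_eq (sup_le inf_le_left inf_le_left)
      (by rw [finrank_sup_of_disjoint hd, ← h.formula W hW])
  refine ⟨nondegOn_iff.2 fun x hx hxo => nondegOn_iff.1 hnd x hx.1 fun w hw => ?_,
    nondegOn_iff.2 fun x hx hxo => nondegOn_iff.1 hnd x hx.1 fun w hw => ?_, hsup⟩ <;>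
    rw [← hsup] at hw <;> obtain ⟨p, hp, z, hz, rfl⟩ := Submodule.mem_sup.1 hw
  · rw [map_add, LinearMap.add_apply, hxo p hp, h.alt.isRefl _ _ (h.orth x hx.2 z hz.2), add_zero]
  · rw [map_add, LinearMap.add_apply, hxo z hz, h.orth p hp.2 x hx.2, zero_add]

end Pieces

section Blocks

variable {F : Type*} [Field F] [Fintype F] {V : Type*} [AddCommGroup V] [Module F V] [FiniteDimensional F V]
  {B : V →ₗ[F] V →ₗ[F] F} {T : Module.End F V} {E : Submodule F V} {r i c : ℕ}

theorem Setup.piece (h : Setup B T E r i) [Fact r.Prime] (hr2 : Odd r)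
    (hi : i = orderOf (Fintype.card F : ZMod r)) (hc : c = if Even i then i else 2 * i)
    {W : Submodule F V} (hWE : W ≤ E) (hW : Inv T W) (hnd : NondegOn B W) (hne : W ≠ ⊥) :
    ∃ P, P ≤ W ∧ Inv T P ∧ NondegOn B P ∧ finrank F P = c := by
  have hr : r.Prime := Fact.out
  by_cases hev : Even i
  · rw [if_pos hev] at hc
    subst hc
    refine h.piece_even hr hr2 ?_ hW hWE hnd hne
    obtain ⟨m, hm⟩ := hev
    refine ⟨m, ?_⟩
    set s := (Fintype.card F : ZMod r) ^ m with hs
    have h1 : s * s = 1 := by rw [hs, ← pow_add, ← hm, hi, pow_orderOf_eq_one]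
    have h2 : s = -1 := (mul_self_eq_one_iff.1 h1).resolve_left fun e => by
      have := orderOf_dvd_of_pow_eq_one e
      rw [← hi] at this
      have := Nat.le_of_dvd (by have := h.uni.pos; omega) this
      have := h.uni.pos
      omega
    have h3 : ((Fintype.card F ^ m : ℕ) : ZMod r) = ((r - 1 : ℕ) : ZMod r) := by
      rw [Nat.cast_pow, ← hs, h2, Nat.cast_sub hr.one_le, ZMod.natCast_self, zero_sub, Nat.cast_one]
    rw [ZMod.natCast_eq_natCast_iff'] at h3
    rw [h3, Nat.mod_eq_of_lt (by have := hr.two_le; omega)]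
  · rw [if_neg hev] at hc
    subst hc
    exact h.piece_odd hr.pos hW hWE hnd hne (Nat.not_even_iff_odd.1 hev)

theorem Setup.dvd_moved (h : Setup B T E r i) [Fact r.Prime] (hr2 : Odd r)
    (hi : i = orderOf (Fintype.card F : ZMod r)) (hc : c = if Even i then i else 2 * i)
    {W : Submodule F V} (hW : Inv T W) (hnd : NondegOn B W) : c ∣ finrank F (W ⊓ E : Submodule F V) := by
  refine (h.iterate (Fact.out : r.Prime).pos ?_ (fun W hWE hW hnd hne => h.piece hr2 hi hc hWE hW hnd hne) _
    inf_le_right (hW.inf h.uni.inv) (h.parts hW hnd).2.1).1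
  have := h.uni.pos
  rw [hc]; split_ifs <;> omega

/-- An invariant non-degenerate subspace with prescribed fixed and moved parts. -/
theorem Setup.exists_block (h : Setup B T E r i) [Fact r.Prime] (hr2 : Odd r)
    (hi : i = orderOf (Fintype.card F : ZMod r)) (hc : c = if Even i then i else 2 * i)
    {W : Submodule F V} (hW : Inv T W) (hnd : NondegOn B W) {k j : ℕ}
    (hk : k * c ≤ finrank F (W ⊓ E : Submodule F V))
    (hj : j * 2 ≤ finrank F (W ⊓ T.eigenspace 1 : Submodule F V)) :
    ∃ P, P ≤ W ∧ Inv T P ∧ NondegOn B P ∧ finrank F P = k * c + j * 2 := by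
  have hr0 := (Fact.out : r.Prime).pos
  obtain ⟨hndC, hndE, -⟩ := h.parts hW hnd
  have hfixinv : ∀ S ≤ T.eigenspace 1, Inv T S := fun S hS => Inv.of_mem fun u hu => by
    rwa [mem_fix.1 (hS hu)]
  obtain ⟨P, hPle, hP, hPn, hPd⟩ := (h.iterate hr0 (by have := h.uni.pos; rw [hc]; split_ifs <;> omega)
    (fun W hWE hW hnd hne => h.piece hr2 hi hc hWE hW hnd hne) _ inf_le_right (hW.inf h.uni.inv) hndE).2 k hk
  obtain ⟨Q, hQle, hQ, hQn, hQd⟩ := (h.iterate hr0 two_pos (S := T.eigenspace 1) (fun X hXC hX hXn hne => by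
    obtain ⟨u, hu, hu0⟩ := Submodule.exists_mem_ne_zero_of_ne_bot hne
    obtain ⟨v, hv⟩ := alt_exists_partner (restrictForm_nondegenerate h.alt.isRefl hXn).1
      (u := (⟨u, hu⟩ : X)) (by simpa using hu0)
    have huv : B u (v : V) = 1 := hv
    have hle : Submodule.span F {u, (v : V)} ≤ X := Submodule.span_le.2 (by
      rintro x (rfl | rfl)
      exacts [hu, v.2])
    exact ⟨_, hle, hfixinv _ (hle.trans hXC), nondegOn_pair h.alt huv, finrank_pair h.alt huv⟩) _ inf_le_right
    (hfixinv _ inf_le_right) hndC).2 j hj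
  have ho : ∀ u ∈ Q, ∀ v ∈ P, B u v = 0 := fun u hu v hv => h.orth u (hQle hu).2 v (hPle hv).2
  refine ⟨P ⊔ Q, sup_le (hPle.trans inf_le_left) (hQle.trans inf_le_left), hP.sup hQ,
    nondegOn_iff.2 fun x hx hxo => ?_, ?_⟩
  · obtain ⟨p, hp, z, hz, rfl⟩ := Submodule.mem_sup.1 hx
    have hp0 : p = 0 := nondegOn_iff.1 hPn p hp fun w hw => by
      have := hxo w (Submodule.mem_sup_left hw)
      rwa [map_add, h.alt.isRefl _ _ (ho z hz w hw), add_zero] at this
    subst hp0
    rw [zero_add] at hxo ⊢
    exact nondegOn_iff.1 hQn z hz fun w hw => hxo w (Submodule.mem_sup_right hw)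
  · rw [finrank_sup_of_disjoint ((h.compl.disjoint.mono (hQle.trans inf_le_right) (hPle.trans inf_le_right)).symm),
      hPd, hQd]

/-- The decomposition into blocks. -/
theorem Setup.exists_blocks (h : Setup B T E r i) [Fact r.Prime] (hr2 : Odd r)
    (hi : i = orderOf (Fintype.card F : ZMod r)) (hc : c = if Even i then i else 2 * i) {a : ℕ} (ha : Even a) :
    ∀ t, t * (a % c) < c → ∀ W, Inv T W → NondegOn B W → finrank F W = a * t →
      ∃ D : Fin t → Submodule F V, (∀ j, Inv T (D j) ∧ NondegOn B (D j) ∧ finrank F (D j) = a ∧ D j ≤ W) ∧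
        (∀ j j', j ≠ j' → ∀ u ∈ D j, ∀ v ∈ D j', B u v = 0) ∧ W ≤ iSup D := by
  intro t
  induction t with
  | zero =>
    intro _ W _ _ hd
    exact ⟨Fin.elim0, fun j => j.elim0, fun j => j.elim0,
      by rw [Submodule.finrank_eq_zero.1 (show finrank F W = 0 by simpa using hd)]; exact bot_le⟩
  | succ t ih =>
    intro hlt W hW hnd hd
    have hc0 : 0 < c := by omega
    obtain ⟨s, hs⟩ := h.dvd_moved hr2 hi hc hW hnd
    have hform := h.formula W hW
    rw [hd, hs] at hform
    set eC := finrank F (W ⊓ T.eigenspace 1 : Submodule F V) with heC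
    have hk : ∃ k, k ≤ s ∧ k * c ≤ a ∧ a - k * c ≤ eC := by
      rcases le_total (a / c) s with hle | hle
      · refine ⟨a / c, hle, Nat.div_mul_le_self a c, ?_⟩
        rw [show a - a / c * c = a % c by rw [mul_comm, ← Nat.mod_def]]
        have h1 : eC % c = ((t + 1) * (a % c)) % c := by
          rw [Nat.mul_mod_mod, mul_comm (t + 1), hform, Nat.add_mul_mod_self_left]
        rw [Nat.mod_eq_of_lt hlt] at h1
        have h2 := Nat.mod_le eC c
        have h3 : a % c ≤ (t + 1) * (a % c) := Nat.le_mul_of_pos_left _ (by omega)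
        omega
      · refine ⟨s, le_rfl, (Nat.mul_le_mul_right c hle).trans (Nat.div_mul_le_self a c), ?_⟩
        have : a ≤ a * (t + 1) := Nat.le_mul_of_pos_right a (by omega)
        rw [mul_comm s c]
        omega
    obtain ⟨k, hks, hka, hke⟩ := hk
    have hce : Even c := by
      rw [hc]; split_ifs with hev
      exacts [hev, even_two_mul i]
    obtain ⟨j, hj⟩ := (Nat.even_sub hka).2 (iff_of_true ha (hce.mul_left k))
    obtain ⟨P, hPW, hP, hPn, hPd⟩ := h.exists_block hr2 hi hc hW hnd (k := k) (j := j)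
      (by rw [hs, mul_comm c s]; exact Nat.mul_le_mul_right c hks) (by omega)
    obtain ⟨hsup, hnd', -, hdim⟩ := nondeg_split h.alt hnd hPn hPW
    have hPa : finrank F P = a := by omega
    obtain ⟨D, hD, hDo, hDs⟩ := ih (lt_of_le_of_lt (Nat.mul_le_mul_right _ (Nat.le_succ t)) hlt) (W ⊓ perp B P)
      (hW.inf (h.inv_perp (Fact.out : r.Prime).pos hP)) hnd' (by rw [mul_add, mul_one] at hd; omega)
    refine ⟨Fin.cons P D, fun j => ?_, fun j j' hjj => ?_, ?_⟩
    · cases j using Fin.cases with
      | zero => simpa using ⟨hP, hPn, hPa, hPW⟩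
      | succ j =>
        obtain ⟨h1, h2, h3, h4⟩ := hD j
        simpa using ⟨h1, h2, h3, h4.trans inf_le_left⟩
    · cases j using Fin.cases with
      | zero =>
        cases j' using Fin.cases with
        | zero => exact absurd rfl hjj
        | succ j' =>
          intro u hu v hv
          exact mem_perp.1 ((hD j').2.2.2 (by simpa using hv)).2 u (by simpa using hu)
      | succ j =>
        cases j' using Fin.cases with
        | zero =>
          intro u hu v hv
          exact h.alt.isRefl _ _ (mem_perp.1 ((hD j).2.2.2 (by simpa using hu)).2 v (by simpa using hv))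
        | succ j' =>
          intro u hu v hv
          exact hDo j j' (fun e => hjj (by rw [e])) u (by simpa using hu) v (by simpa using hv)
    · rw [← hsup]
      refine sup_le (le_iSup (Fin.cons P D : Fin (t + 1) → Submodule F V) 0 |>.trans' (by simp))
        (hDs.trans (iSup_le fun j => (le_iSup (Fin.cons P D : Fin (t + 1) → Submodule F V) j.succ).trans' (by simp)))

end Blocks

section Witness

variable {F : Type*} [Field F] [Fintype F] {V : Type*} [AddCommGroup V] [Module F V] [FiniteDimensional F V]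
  {B : V →ₗ[F] V →ₗ[F] F}

theorem toEnd_pow (g : isomGroup B) (n : ℕ) :
    ((g.1 : V →ₗ[F] V) : Module.End F V) ^ n = ((g ^ n).1 : V →ₗ[F] V) := by
  induction n with
  | zero => rfl
  | succ n ih =>
    rw [pow_succ' g n, pow_succ', ih]
    rfl

/-- Elements of order `r` with prescribed fixed space. -/
theorem exists_fix (hA : B.IsAlt) (hN : B.Nondegenerate) {r : ℕ} [Fact r.Prime] (hr : (r : F) ≠ 0) (hr2 : Odd r)
    {c : ℕ} (hc : c = if Even (orderOf (Fintype.card F : ZMod r)) then orderOf (Fintype.card F : ZMod r)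
      else 2 * orderOf (Fintype.card F : ZMod r)) (s : ℕ) (hs : s * c ≤ finrank F V) :
    ∃ g : isomGroup B, g ^ r = 1 ∧
      finrank F (Module.End.eigenspace ((g.1 : V →ₗ[F] V) : Module.End F V) 1) + s * c = finrank F V := by
  induction s generalizing V with
  | zero =>
    refine ⟨1, one_pow r, ?_⟩
    rw [zero_mul, add_zero]
    refine (LinearEquiv.ofTop _ ?_).finrank_eq
    exact eq_top_iff.2 fun v _ => mem_fix.2 rfl
  | succ s ih =>
    rw [add_mul, one_mul] at hs
    set i := orderOf (Fintype.card F : ZMod r) with hi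
    have hr' : r.Prime := Fact.out
    have hi0 : 0 < i := by
      have hq0 : (Fintype.card F : ZMod r) ≠ 0 := fun h0 => by
        rw [ZMod.natCast_eq_zero_iff] at h0
        obtain ⟨p, hpc⟩ := CharP.exists F
        haveI := hpc
        obtain ⟨k, hp, hk⟩ := FiniteField.card F p
        rw [hk] at h0
        exact hr ((CharP.cast_eq_zero_iff F p r).2
          ((Nat.prime_dvd_prime_iff_eq hr' hp).1 (hr'.dvd_of_dvd_pow h0) ▸ dvd_rfl))
      exact orderOf_pos_iff.2 (isOfFinOrder_iff_pow_eq_one.2 ⟨r - 1, by have := hr'.two_le; omega,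
        ZMod.pow_card_sub_one_eq_one hq0⟩)
    have hc0 : 0 < c := by rw [hc]; split_ifs <;> omega
    obtain ⟨e, he⟩ : Even c := by
      rw [hc]; split_ifs with hev
      exacts [hev, even_two_mul i]
    obtain ⟨m, b, hb⟩ := exists_sympBasis hA hN
    have hm : finrank F V = 2 * m := by
      rw [Module.finrank_eq_card_basis b, Fintype.card_sum, Fintype.card_fin, two_mul]
    have hdvd : r ∣ Fintype.card F ^ (2 * e) - 1 := by
      rw [← ZMod.natCast_eq_zero_iff, Nat.cast_sub (Nat.one_le_pow _ _ Fintype.card_pos), sub_eq_zero,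
        Nat.cast_pow, Nat.cast_one, ← orderOf_dvd_iff_pow_eq_one, ← hi, two_mul, ← he, hc]
      split_ifs
      exacts [dvd_rfl, dvd_mul_left _ _]
    obtain ⟨y, hy, hy1, U, hU, hUd⟩ :=
      Cfsg.Agent.S5976.exists_order_fix hA hN (d := m) (e := e) (r := r) hm (by omega) (by omega) hdvd
    set T : Module.End F V := (y.1 : V →ₗ[F] V) with hT
    obtain ⟨E, hS⟩ := exists_setup hA hN hr (T := T) (fun u v => isomGroup_apply y u v)
      (by rw [hT, toEnd_pow, hy]; rfl)
    have htopinv : Inv T ⊤ := Inv.of_mem fun _ _ => Submodule.mem_top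
    have htopnd : NondegOn B (⊤ : Submodule F V) :=
      nondegOn_iff.2 fun x _ hx => hN.2 x fun z => hx z Submodule.mem_top
    have hEne : E ≠ ⊥ := fun e0 => hy1 (Subtype.ext (LinearEquiv.ext fun v => by
      have : v ∈ T.eigenspace 1 := by
        have h1 := hS.compl.sup_eq_top
        rw [e0, sup_bot_eq] at h1
        rw [h1]; trivial
      exact mem_fix.1 this))
    have hEn : NondegOn B E := by have := (hS.parts htopinv htopnd).2.1; rwa [top_inf_eq] at this
    have hEd : finrank F E = c := by
      have h1 := hS.dvd_moved hr2 hi hc htopinv htopnd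
      rw [top_inf_eq] at h1
      have h2 := hS.formula ⊤ htopinv
      rw [top_inf_eq, top_inf_eq, finrank_top] at h2
      have h3 : finrank F U ≤ finrank F (T.eigenspace 1) :=
        Submodule.finrank_mono fun u hu => mem_fix.2 (hU u hu)
      have h4 := Nat.le_of_dvd (Nat.pos_of_ne_zero fun e0 => hEne (Submodule.finrank_eq_zero.1 e0)) h1
      omega
    set C := perp B E with hC
    have hcd : finrank F E + finrank F C = finrank F V := hEn.finrank_perp
    rw [hEd] at hcd
    obtain ⟨g', hg', hgd'⟩ := ih (V := C) (restrictForm_isAlt hA C)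
      (restrictForm_nondegenerate hA.isRefl (nondegOn_perp hN.2 hEn)) (by omega)
    have hEm : E.map (y.1 : V →ₗ[F] V) = E := hS.map_eq hr'.pos hS.uni.inv
    let yE : isomGroup (restrictForm B E) :=
      ⟨(y.1.submoduleMap E).trans (LinearEquiv.ofEq _ _ hEm), fun u v => y.2 _ _⟩
    have hyE : yE ^ r = 1 := by
      have hpw : ∀ n : ℕ, ∀ x : E, (((yE ^ n).1 x : E) : V) = (y ^ n).1 x := by
        intro n
        induction n with
        | zero => intro x; simp
        | succ n ihn =>
          intro x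
          rw [pow_succ', pow_succ']
          show y.1 (((yE ^ n).1 x : E) : V) = y.1 ((y ^ n).1 x)
          rw [ihn]
      exact Subtype.ext (LinearEquiv.ext fun x => Subtype.ext (by rw [hpw, hy]; rfl))
    let J := isomSum hEn.isCompl (fun _ hw _ hu => mem_perp.1 hu _ hw) fun _ hw _ hu => orth_symm hA.isRefl hw hu
    refine ⟨J (yE, g'), ?_, ?_⟩
    · rw [← map_pow, Prod.pow_mk, hyE, hg']
      exact map_one J
    have hK : Module.End.eigenspace (((J (yE, g')).1 : V →ₗ[F] V) : Module.End F V) 1 =
        (Module.End.eigenspace ((g'.1 : C →ₗ[F] C) : Module.End F C) 1).map C.subtype := by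
      ext v
      rw [mem_fix, Submodule.mem_map]
      obtain ⟨w, u, rfl⟩ := exists_add_eq hEn.isCompl v
      show sumEquiv hEn.isCompl yE.1 g'.1 ((w : V) + u) = _ ↔ _
      rw [sumEquiv_apply]
      constructor
      · intro e1
        have e2 : ((yE.1 w : E) : V) - w = (u : V) - (g'.1 u : C) := by
          rw [sub_eq_sub_iff_add_eq_add, e1, add_comm]
        have e3 : ((yE.1 w : E) : V) - w = 0 := Submodule.disjoint_def.1 hEn.isCompl.disjoint _
          (E.sub_mem (yE.1 w).2 w.2) (e2 ▸ C.sub_mem u.2 (g'.1 u).2)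
        have hw0 : (w : V) = 0 :=
          Submodule.disjoint_def.1 hS.compl.disjoint _ (mem_fix.2 (sub_eq_zero.1 e3)) w.2
        refine ⟨u, mem_fix.2 (Subtype.ext ?_), by rw [hw0, zero_add]; rfl⟩
        exact (sub_eq_zero.1 (e2.symm.trans e3)).symm
      · rintro ⟨z, hz, hzv⟩
        change (z : V) = w + u at hzv
        have hw0 : (w : V) = 0 := Submodule.disjoint_def.1 hEn.isCompl.disjoint _ w.2 (by
          rw [show (w : V) = z - u by rw [hzv]; abel]; exact C.sub_mem z.2 u.2)
        have hu : u = z := Subtype.ext (by rw [hzv, hw0, zero_add])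
        rw [show w = 0 from Subtype.ext hw0, map_zero, hu, show g'.1 z = z from mem_fix.1 hz]
    rw [hK, Submodule.finrank_map_subtype_eq, add_mul, one_mul]
    omega

variable {t a : ℕ}

/-- The orthogonal decompositions into non-degenerate subspaces of dimension `a`. -/
def IsBlocks (B : V →ₗ[F] V →ₗ[F] F) (a : ℕ) (D : Fin t → Submodule F V) : Prop :=
  (∀ j, finrank F (D j) = a) ∧ (∀ j, NondegOn B (D j)) ∧
    (∀ j j', j ≠ j' → ∀ u ∈ D j, ∀ v ∈ D j', B u v = 0) ∧ iSupIndep D ∧ iSup D = ⊤

theorem IsBlocks.exists_map (hA : B.IsAlt) {D D' : Fin t → Submodule F V} (hD : IsBlocks B a D)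
    (hD' : IsBlocks B a D') : ∃ g : isomGroup B, ∀ j, (D j).map (g.1 : V →ₗ[F] V) = D' j := by
  classical
  obtain ⟨hd, hn, ho, hi, hs⟩ := hD
  obtain ⟨hd', hn', ho', hi', hs'⟩ := hD'
  choose m b hb using fun j => exists_sympBasis (restrictForm_isAlt hA (D j))
    (restrictForm_nondegenerate hA.isRefl (hn j))
  choose m' b' hb' using fun j => exists_sympBasis (restrictForm_isAlt hA (D' j))
    (restrictForm_nondegenerate hA.isRefl (hn' j))
  have hm : m = m' := funext fun j => by
    have h1 := Module.finrank_eq_card_basis (b j)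
    have h2 := Module.finrank_eq_card_basis (b' j)
    rw [hd, Fintype.card_sum, Fintype.card_fin] at h1
    rw [hd', Fintype.card_sum, Fintype.card_fin] at h2
    omega
  subst hm
  have hI := DirectSum.isInternal_submodule_of_iSupIndep_of_iSup_eq_top hi hs
  have hI' := DirectSum.isInternal_submodule_of_iSupIndep_of_iSup_eq_top hi' hs'
  let c := hI.collectedBasis b
  let c' := hI'.collectedBasis b'
  let g := c.equiv c' (Equiv.refl _)
  have hg : ∀ j s, g (b j s : V) = b' j s := fun j s => by
    have h1 : c ⟨j, s⟩ = (b j s : V) := by simp [c]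
    have h2 : c' ⟨j, s⟩ = (b' j s : V) := by simp [c']
    rw [← h1, ← h2]
    simp [g]
  refine ⟨⟨g, fun x y => ?_⟩, fun j => ?_⟩
  · have e : B.compl₁₂ (g : V →ₗ[F] V) (g : V →ₗ[F] V) = B := LinearMap.ext_basis c c fun u v => by
      obtain ⟨j, s⟩ := u
      obtain ⟨j', s'⟩ := v
      rw [LinearMap.compl₁₂_apply, show c ⟨j, s⟩ = (b j s : V) by simp [c],
        show c ⟨j', s'⟩ = (b j' s' : V) by simp [c], LinearEquiv.coe_coe, hg, hg]
      rcases eq_or_ne j j' with rfl | hne
      · obtain ⟨p1, p2, p3⟩ := hb j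
        obtain ⟨p1', p2', p3'⟩ := hb' j
        simp only [restrictForm_apply] at p1 p2 p3 p1' p2' p3'
        rcases s with k | k <;> rcases s' with k' | k'
        · rw [p2, p2']
        · rw [p1, p1']
        · rw [alt_swap hA, p1', alt_swap hA (b j (Sum.inr k) : V), p1]
        · rw [p3, p3']
      · rw [ho j j' hne _ (b j s).2 _ (b j' s').2, ho' j j' hne _ (b' j s).2 _ (b' j' s').2]
    exact LinearMap.congr_fun₂ e x y
  · refine Submodule.eq_of_le_of_finrank_eq ?_ ((g.finrank_map_eq (D j)).trans ((hd j).trans (hd' j).symm))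
    have hsp := congrArg (Submodule.map (D j).subtype) (b j).span_eq
    rw [Submodule.map_subtype_top, Submodule.map_span, ← Set.range_comp] at hsp
    rw [← hsp, Submodule.map_span, Submodule.span_le]
    rintro _ ⟨_, ⟨s, rfl⟩, rfl⟩
    show g (b j s : V) ∈ D' j
    rw [hg]
    exact (b' j s).2

theorem card_blocks_dvd [Finite (isomGroup B)] (hA : B.IsAlt) (ha : 0 < a)
    (hD : Nonempty {D : Fin t → Submodule F V // IsBlocks B a D}) :
    Nat.card {D : Fin t → Submodule F V // IsBlocks B a D} / t.factorial ∣ Nat.card (isomGroup B) := by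
  classical
  haveI : Finite V := Module.finite_of_finite F
  haveI : Finite (Submodule F V) := Finite.of_injective (fun S : Submodule F V => (S : Set V)) SetLike.coe_injective
  haveI : Finite {D : Fin t → Submodule F V // IsBlocks B a D} := inferInstance
  obtain ⟨⟨D₀, hD₀⟩⟩ := hD
  have hinj : ∀ D : Fin t → Submodule F V, IsBlocks B a D → Function.Injective D := fun D hD j j' e => by
    by_contra hjj
    have h1 : D j = ⊥ := (Submodule.eq_bot_iff _).2 fun v hv =>
      nondegOn_iff.1 (hD.2.1 j) v hv fun w hw => hD.2.2.1 j j' hjj w hw v (e ▸ hv)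
    have := hD.1 j
    rw [h1, finrank_bot] at this
    omega
  have hsmul : ∀ (g : isomGroup B) (D : Fin t → Submodule F V), IsBlocks B a D → IsBlocks B a fun j => (D j).map (g.1 : V →ₗ[F] V) := by
    intro g D hD
    refine ⟨fun j => (g.1.finrank_map_eq _).trans (hD.1 j), fun j => nondegOn_iff.2 ?_, ?_,
      hD.2.2.2.1.map_orderIso (Submodule.orderIsoMapComap g.1), ?_⟩
    · rintro _ ⟨v, hv, rfl⟩ ho
      rw [nondegOn_iff.1 (hD.2.1 j) v hv fun w hw => by
        have := ho _ ⟨w, hw, rfl⟩
        rwa [show B ((g.1 : V →ₗ[F] V) w) ((g.1 : V →ₗ[F] V) v) = B w v from isomGroup_apply g w v] at this, map_zero]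
    · rintro j j' hjj _ ⟨u, hu, rfl⟩ _ ⟨v, hv, rfl⟩
      exact (isomGroup_apply g u v).trans (hD.2.2.1 j j' hjj u hu v hv)
    · rw [← Submodule.map_iSup, hD.2.2.2.2, Submodule.map_top, LinearEquiv.range]
  let f : isomGroup B → {D : Fin t → Submodule F V // IsBlocks B a D} := fun g => ⟨_, hsmul g D₀ hD₀⟩
  let S : Subgroup (isomGroup B) :=
    { carrier := {g | ∀ j, (D₀ j).map (g.1 : V →ₗ[F] V) = D₀ j}
      mul_mem' := fun {g g'} hg hg' j => by
        show (D₀ j).map ((g.1 : V →ₗ[F] V).comp (g'.1 : V →ₗ[F] V)) = D₀ j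
        rw [Submodule.map_comp, hg' j, hg j]
      one_mem' := fun j => Submodule.map_id _
      inv_mem' := fun {g} hg j => by
        conv_lhs => rw [← hg j]
        rw [← Submodule.map_comp]
        convert Submodule.map_id (D₀ j)
        exact LinearMap.ext fun v => show (g⁻¹ * g).1 v = v by rw [inv_mul_cancel]; rfl }
  let φ : isomGroup B ⧸ S → {D : Fin t → Submodule F V // IsBlocks B a D} :=
    Quotient.lift f fun g g' hgg => by
      have hgg' : g⁻¹ * g' ∈ S := QuotientGroup.leftRel_apply.1 hgg
      refine Subtype.ext (funext fun j => ?_)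
      show (D₀ j).map (g.1 : V →ₗ[F] V) = (D₀ j).map (g'.1 : V →ₗ[F] V)
      conv_lhs => rw [← hgg' j, ← Submodule.map_comp]
      congr 1
      exact LinearMap.ext fun v => show (g * (g⁻¹ * g')).1 v = g'.1 v by rw [mul_inv_cancel_left]
  have hφ : Function.Bijective φ := by
    refine ⟨?_, fun D => ?_⟩
    · intro x y
      refine QuotientGroup.induction_on x fun g => QuotientGroup.induction_on y fun g' e => ?_
      refine QuotientGroup.eq.2 fun j => ?_
      have e' : (D₀ j).map (g.1 : V →ₗ[F] V) = (D₀ j).map (g'.1 : V →ₗ[F] V) :=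
        congrFun (congrArg Subtype.val e) j
      show (D₀ j).map ((g⁻¹.1 : V →ₗ[F] V).comp (g'.1 : V →ₗ[F] V)) = D₀ j
      rw [Submodule.map_comp, ← e', ← Submodule.map_comp]
      convert Submodule.map_id (D₀ j)
      exact LinearMap.ext fun v => show (g⁻¹ * g).1 v = v by rw [inv_mul_cancel]; rfl
    · obtain ⟨g, hg⟩ := hD₀.exists_map hA D.2
      exact ⟨QuotientGroup.mk g, Subtype.ext (funext hg)⟩
  have h1 : Nat.card {D : Fin t → Submodule F V // IsBlocks B a D} ∣ Nat.card (isomGroup B) := by
    rw [← Nat.card_eq_of_bijective φ hφ]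
    exact ⟨_, Subgroup.card_eq_card_quotient_mul_card_subgroup S⟩
  refine (Nat.div_dvd_of_dvd ?_).trans h1
  let ρ : {D : Fin t → Submodule F V // IsBlocks B a D} → Set (Submodule F V) := fun D => Set.range D.1
  have hperm : ∀ (π : Equiv.Perm (Fin t)) D, IsBlocks B a D → IsBlocks B a (D ∘ π) := fun π D hD =>
    ⟨fun j => hD.1 _, fun j => hD.2.1 _, fun j j' hjj => hD.2.2.1 _ _ (π.injective.ne hjj),
      hD.2.2.2.1.comp π.injective, by rw [Function.comp_def, π.surjective.iSup_comp]; exact hD.2.2.2.2⟩
  haveI : Finite (Set (Submodule F V)) := inferInstance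
  have hfib : ∀ s : Set.range ρ, Nat.card {D // ρ D = s.1} = t.factorial := by
    rintro ⟨_, ⟨D, hD⟩, rfl⟩
    rw [show t.factorial = Nat.card (Equiv.Perm (Fin t)) by rw [Nat.card_perm, Nat.card_eq_fintype_card, Fintype.card_fin]]
    refine (Nat.card_eq_of_bijective (fun π : Equiv.Perm (Fin t) =>
      (⟨⟨D ∘ π, hperm π D hD⟩, by simp [ρ, Set.range_comp]⟩ : {X // ρ X = Set.range D})) ⟨?_, ?_⟩).symm
    · intro π π' e
      exact Equiv.ext fun j => hinj D hD (congrFun (congrArg (fun X => X.1.1) e) j)
    · rintro ⟨⟨X, hX⟩, hXD⟩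
      have hXD' : Set.range X = Set.range D := hXD
      have hmem : ∀ j, ∃ k, D k = X j := fun j => by
        have : X j ∈ Set.range D := hXD' ▸ ⟨j, rfl⟩
        exact this
      choose π hπ using hmem
      have hπi : Function.Injective π := fun j j' e => hinj X hX (by rw [← hπ, ← hπ, e])
      exact ⟨Equiv.ofBijective π (Finite.injective_iff_bijective.1 hπi),
        Subtype.ext (Subtype.ext (funext hπ))⟩
  refine Dvd.intro_left (Nat.card (Set.range ρ)) ?_
  rw [← card_sigma_const hfib]
  exact Nat.card_congr ((Equiv.sigmaCongrRight fun s => Equiv.subtypeEquivRight fun D => Iff.rfl).trans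
    ((Equiv.sigmaCongrRight fun s : Set.range ρ => Equiv.subtypeEquivRight
      (fun D => (Subtype.ext_iff (a1 := (⟨ρ D, D, rfl⟩ : Set.range ρ)) (a2 := s)).symm)).trans
        (Equiv.sigmaFiberEquiv fun D => (⟨ρ D, D, rfl⟩ : Set.range ρ))))

end Witness

/-- Elements of odd prime order of PSp_n(q) and imprimitive subgroups. Here `T = PSp_n(q)`, `n = 2d ≥ 4`, `(n, q) ≠ (4, 2)`, realised through the symplectic matrices over the field `F` with `q` elements and the standard alternating form; `n = a·t` with `a` even and `t ≥ 2`, and Ω is the (nonempty) set of orthogonal decompositions of `F^n` into `t` nondegenerate subspaces of dimension `a` (unordered; counted as ordered ones divided by `t!`), whose stabilizers are the imprimitive subgroups of type Sp_a(q) ≀ S_t (maximality is not assumed); an element of `T` of prime order `r` (a symplectic matrix `x` with `x^r` scalar, `x` not scalar) fixes a point of Ω when it permutes the summands of some such decomposition. Let `r ≠ p` be an odd prime dividing the number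 of such decompositions, let `i` be the multiplicative order of `q` modulo `r`, `c = i` if `i` is even and `c = 2i` if `i` is odd, and write `k = n mod c`, `ℓ = a mod c`. Then every element of `T` of order `r` stabilizes such a decomposition if and only if `c ≤ a` and `k = t·ℓ`. -/
theorem result {F : Type*} [Field F] [Fintype F] {p : ℕ} [Fact p.Prime] [CharP F p] {q : ℕ} (hq : Fintype.card F = q)
    (d : ℕ) (hd : 2 ≤ d) (hT : (d, q) ≠ (2, 2))
    (a t : ℕ) (hat : 2 * d = a * t) (ha : 2 ≤ a) (hae : Even a) (ht : 2 ≤ t)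
    (r : ℕ) [Fact r.Prime] (hr2 : r ≠ 2) (hrp : r ≠ p) (hΩ : r ∣ Nat.card {D : Fin t → Submodule F (Fin d ⊕ Fin d → F) // (Cfsg.Geo.IsMDecomposition a D ∧ (∀ j, ∀ u ∈ D j, u ≠ 0 → ∃ v ∈ D j, Cfsg.sympForm d F u v ≠ 0) ∧
          (∀ j j', j ≠ j' → ∀ u ∈ D j, ∀ v ∈ D j', Cfsg.sympForm d F u v = 0))} / Nat.factorial t)
    (i c : ℕ) (hi : i = orderOf (q : ZMod r)) (hc : c = if Even i then i else 2 * i) :
    (∀ x : ↥(Matrix.symplecticGroup (Fin d) F),
      (∃ z : F, ((x ^ r : ↥(Matrix.symplecticGroup (Fin d) F)) : Matrix (Fin d ⊕ Fin d) (Fin d ⊕ Fin d) F) = z • (1 : Matrix (Fin d ⊕ Fin d) (Fin d ⊕ Fin d) F)) →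
      (∀ z : F, (x : Matrix (Fin d ⊕ Fin d) (Fin d ⊕ Fin d) F) ≠ z • (1 : Matrix (Fin d ⊕ Fin d) (Fin d ⊕ Fin d) F)) →
      ∃ D : Fin t → Submodule F (Fin d ⊕ Fin d → F), (Cfsg.Geo.IsMDecomposition a D ∧ (∀ j, ∀ u ∈ D j, u ≠ 0 → ∃ v ∈ D j, Cfsg.sympForm d F u v ≠ 0) ∧
          (∀ j j', j ≠ j' → ∀ u ∈ D j, ∀ v ∈ D j', Cfsg.sympForm d F u v = 0)) ∧
        ∃ σ : Equiv.Perm (Fin t), ∀ j, (D j).map (Matrix.toLin' (x : Matrix (Fin d ⊕ Fin d) (Fin d ⊕ Fin d) F)) = D (σ j)) ↔
    (c ≤ a ∧ (2 * d) % c = t * (a % c)) := by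
  classical
  have hr : r.Prime := Fact.out
  have hrodd : Odd r := hr.odd_of_ne_two hr2
  set f := sympBil F d
  have hf : ∀ u v, f u v = Cfsg.sympForm d F u v := fun u v => sympBil_apply d u v
  have hA : f.IsAlt := sympBil_isAlt (F := F) d
  have hN : f.Nondegenerate := sympBil_nondegenerate (F := F) d
  have hdim : finrank F (Fin d ⊕ Fin d → F) = 2 * d := by
    rw [Module.finrank_fintype_fun_eq_card, Fintype.card_sum, Fintype.card_fin, two_mul]
  set e₀ : Fin d ⊕ Fin d → F := Pi.single (Sum.inl ⟨0, by omega⟩) 1 with he₀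
  have he₀0 : e₀ ≠ 0 := by simp [e₀]
  obtain ⟨w₀, hw₀⟩ := alt_exists_partner hN.1 he₀0
  have hr0 : (r : F) ≠ 0 := fun e => by
    rw [CharP.cast_eq_zero_iff F p] at e
    exact hrp ((Nat.prime_dvd_prime_iff_eq Fact.out hr).1 e).symm
  have hrq : ¬ r ∣ Fintype.card F := fun hd' => by
    obtain ⟨n, -, hn⟩ := FiniteField.card F p
    rw [hn] at hd'
    exact hrp ((Nat.prime_dvd_prime_iff_eq hr Fact.out).1 (hr.dvd_of_dvd_pow hd'))
  subst hq
  have hi0 : 0 < i := by
    rw [hi]
    exact orderOf_pos_iff.2 (isOfFinOrder_iff_pow_eq_one.2 ⟨r - 1, by have := hr.two_le; omega,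
      ZMod.pow_card_sub_one_eq_one fun e => hrq ((ZMod.natCast_eq_zero_iff _ _).1 e)⟩)
  have hir : i ∣ r - 1 := by
    rw [hi]
    exact orderOf_dvd_of_pow_eq_one
      (ZMod.pow_card_sub_one_eq_one fun e => hrq ((ZMod.natCast_eq_zero_iff _ _).1 e))
  have hc0 : 0 < c := by rw [hc]; split_ifs <;> omega
  have hce : Even c := by
    rw [hc]; split_ifs with hev
    exacts [hev, even_two_mul i]
  have hcr : c ≤ r - 1 := by
    refine Nat.le_of_dvd (by have := hr.two_le; omega) ?_
    rw [hc]; split_ifs with hev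
    · exact hir
    · exact Nat.Coprime.mul_dvd_of_dvd_of_dvd (Nat.coprime_two_left.2 (Nat.not_even_iff_odd.1 hev))
        (even_iff_two_dvd.1 (Nat.Odd.sub_odd hrodd odd_one)) hir
  haveI : Finite (isomGroup f) := Finite.of_injective _ (spEquiv (F := F) d).symm.injective
  have hPeq : ∀ D : Fin t → Submodule F (Fin d ⊕ Fin d → F),
      (Cfsg.Geo.IsMDecomposition a D ∧ (∀ j, ∀ u ∈ D j, u ≠ 0 → ∃ v ∈ D j, Cfsg.sympForm d F u v ≠ 0) ∧
          (∀ j j', j ≠ j' → ∀ u ∈ D j, ∀ v ∈ D j', Cfsg.sympForm d F u v = 0)) ↔ IsBlocks f a D := by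
    intro D
    constructor
    · rintro ⟨h1, h2, h3⟩
      refine ⟨h1.finrank_eq, fun j => nondegOn_iff.2 fun x hx hxo => ?_, fun j j' hjj u hu v hv => ?_, h1.indep,
        h1.iSup_eq_top⟩
      · by_contra hx0
        obtain ⟨v, hv, hne⟩ := h2 j x hx hx0
        exact hne (by rw [← hf]; exact hA.isRefl _ _ (hxo v hv))
      · rw [hf]; exact h3 j j' hjj u hu v hv
    · rintro ⟨h1, h2, h3, h4, h5⟩
      refine ⟨⟨ht, by omega, h1, h4, h5⟩, fun j u hu hu0 => ?_, fun j j' hjj u hu v hv => ?_⟩
      · by_contra hall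
        push Not at hall
        exact hu0 (nondegOn_iff.1 (h2 j) u hu fun w hw => hA.isRefl _ _ (by rw [hf]; exact hall w hw))
      · rw [← hf]; exact h3 j j' hjj u hu v hv
  have hc2d : c ≤ 2 * d := by
    rw [Nat.card_congr (Equiv.subtypeEquivRight hPeq)] at hΩ
    have hne : Nonempty {D : Fin t → Submodule F (Fin d ⊕ Fin d → F) // IsBlocks f a D} := by
      obtain ⟨E, hS⟩ := exists_setup hA hN hr0 (T := (1 : Module.End F (Fin d ⊕ Fin d → F))) (fun u v => rfl) (one_pow r)
      rw [← hi] at hS
      obtain ⟨m, hm⟩ := hae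
      have hC : (1 : Module.End F (Fin d ⊕ Fin d → F)).eigenspace 1 = ⊤ := eq_top_iff.2 fun v _ => mem_fix.2 rfl
      suffices key : ∀ n, ∀ W : Submodule F (Fin d ⊕ Fin d → F), NondegOn f W → finrank F W = a * n →
          ∃ D : Fin n → Submodule F (Fin d ⊕ Fin d → F), (∀ j, NondegOn f (D j) ∧ finrank F (D j) = a ∧ D j ≤ W) ∧
            (∀ j j', j ≠ j' → ∀ u ∈ D j, ∀ v ∈ D j', f u v = 0) ∧ W ≤ iSup D by
        obtain ⟨D, hD, hDo, hDs⟩ := key t ⊤ (nondegOn_iff.2 fun v _ hv => hN.2 v fun y => hv y Submodule.mem_top)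
          (by rw [finrank_top, hdim, hat])
        refine ⟨⟨D, fun j => (hD j).2.1, fun j => (hD j).1, hDo, fun j => ?_, top_le_iff.1 hDs⟩⟩
        refine Disjoint.mono_right (iSup₂_le fun k hk => ?_) (hD j).1
        intro v hv
        exact mem_perp.2 fun w hw => hDo j k (Ne.symm hk) w hw v hv
      intro n
      induction n with
      | zero =>
        intro W _ hd
        exact ⟨Fin.elim0, fun j => j.elim0, fun j => j.elim0,
          by rw [Submodule.finrank_eq_zero.1 (show finrank F W = 0 by simpa using hd)]; exact bot_le⟩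
      | succ n ih =>
        intro W hnd hd
        have hinv : Inv (1 : Module.End F (Fin d ⊕ Fin d → F)) W := Inv.of_mem fun u hu => hu
        obtain ⟨P, hPW, -, hPn, hPd⟩ := hS.exists_block hrodd hi hc hinv hnd (k := 0) (j := m) (by simp)
          (by rw [hC, inf_top_eq, hd, mul_add, mul_one]; omega)
        obtain ⟨hsup, hnd', -, hdim'⟩ := nondeg_split hA hnd hPn hPW
        obtain ⟨D, hD, hDo, hDs⟩ := ih (W ⊓ perp f P) hnd' (by rw [mul_add, mul_one] at hd; omega)
        refine ⟨Fin.cons P D, fun j => ?_, fun j j' hjj => ?_, ?_⟩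
        · cases j using Fin.cases with
          | zero => simpa using ⟨hPn, show finrank F P = a by omega, hPW⟩
          | succ j =>
            obtain ⟨h2, h3, h4⟩ := hD j
            simpa using ⟨h2, h3, h4.trans inf_le_left⟩
        · cases j using Fin.cases with
          | zero =>
            cases j' using Fin.cases with
            | zero => exact absurd rfl hjj
            | succ j' =>
              intro u hu v hv
              exact mem_perp.1 ((hD j').2.2 (by simpa using hv)).2 u (by simpa using hu)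
          | succ j =>
            cases j' using Fin.cases with
            | zero =>
              intro u hu v hv
              exact hA.isRefl _ _ (mem_perp.1 ((hD j).2.2 (by simpa using hu)).2 v (by simpa using hv))
            | succ j' =>
              intro u hu v hv
              exact hDo j j' (fun e => hjj (by rw [e])) u (by simpa using hu) v (by simpa using hv)
        · rw [← hsup]
          exact sup_le ((le_iSup (Fin.cons P D : Fin (n + 1) → Submodule F (Fin d ⊕ Fin d → F)) 0).trans' (by simp))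
            (hDs.trans (iSup_le fun j =>
              (le_iSup (Fin.cons P D : Fin (n + 1) → Submodule F (Fin d ⊕ Fin d → F)) j.succ).trans' (by simp)))
    have h1 := hΩ.trans (card_blocks_dvd (t := t) (a := a) hA (by omega) hne)
    rw [card_isom_alt hA hN d hdim] at h1
    obtain ⟨j, hj, hjr⟩ := (hr.prime.dvd_finsetProd_iff _).1
      ((hr.dvd_mul.1 h1).resolve_left fun h => hrq (hr.dvd_of_dvd_pow h))
    rw [Finset.mem_range] at hj
    rw [← ZMod.natCast_eq_zero_iff, Nat.cast_sub (Nat.one_le_pow _ _ Fintype.card_pos), sub_eq_zero,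
      Nat.cast_pow, Nat.cast_one, ← orderOf_dvd_iff_pow_eq_one, ← hi] at hjr
    rw [hc]; split_ifs with hev
    · have := Nat.le_of_dvd (by omega) hjr
      omega
    · have h2 : i ∣ j + 1 := ((Nat.coprime_two_right.2 (Nat.not_even_iff_odd.1 hev)).dvd_of_dvd_mul_left hjr)
      have := Nat.le_of_dvd (by omega) h2
      omega
  constructor
  · intro hall
    by_contra hcon
    -- choose the witness
    obtain ⟨s, hs, hsfix⟩ : ∃ s, s * c ≤ 2 * d ∧ (2 * d - s * c < t * (a % c)) ∧
        ((c ≤ a ∧ 2 * d - s * c < a) ∨ (a < c ∧ s = 1)) := by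
      rcases le_or_gt c a with hca | hca
      · have hmod : (2 * d) % c < t * (a % c) := by
          rcases lt_trichotomy ((2 * d) % c) (t * (a % c)) with h1 | h1 | h1
          · exact h1
          · exact absurd ⟨hca, h1⟩ hcon
          · exfalso
            have h2 : (2 * d) % c = (t * (a % c)) % c := by rw [Nat.mul_mod_mod, hat, mul_comm a t]
            have h3 := Nat.mod_le (t * (a % c)) c
            omega
        refine ⟨(2 * d) / c, Nat.div_mul_le_self _ _, ?_⟩
        have h1 : 2 * d - 2 * d / c * c = (2 * d) % c := by rw [mul_comm (2 * d / c) c, ← Nat.mod_def]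
        rw [h1]
        exact ⟨hmod, Or.inl ⟨hca, lt_of_lt_of_le (Nat.mod_lt _ hc0) hca⟩⟩
      · refine ⟨1, by omega, ?_, Or.inr ⟨hca, rfl⟩⟩
        rw [Nat.mod_eq_of_lt hca, mul_comm t, ← hat, one_mul]
        omega
    obtain ⟨g, hgr, hgfix⟩ := exists_fix hA hN hr0 hrodd (c := c) (by rw [hc, hi]) s (by rw [hdim]; exact hs)
    rw [hdim] at hgfix
    set T : Module.End F (Fin d ⊕ Fin d → F) := (g.1 : (Fin d ⊕ Fin d → F) →ₗ[F] (Fin d ⊕ Fin d → F)) with hT
    set C := T.eigenspace 1 with hC
    obtain ⟨x, hx⟩ : ∃ x : ↥(Matrix.symplecticGroup (Fin d) F), spEquiv (F := F) d x = g :=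
      ⟨(spEquiv (F := F) d).symm g, MulEquiv.apply_symm_apply _ _⟩
    have hxa : ∀ v, (x : Matrix (Fin d ⊕ Fin d) (Fin d ⊕ Fin d) F) *ᵥ v = g.1 v := fun v => by
      rw [← hx, spEquiv_apply]
    have hlinx : Matrix.toLin' (x : Matrix (Fin d ⊕ Fin d) (Fin d ⊕ Fin d) F) = T :=
      LinearMap.ext fun v => by rw [Matrix.toLin'_apply, hxa]; rfl
    obtain ⟨D, hD, σ, hσ⟩ := hall x ⟨1, by
        have hxr : x ^ r = 1 := (spEquiv (F := F) d).injective (by rw [map_pow, hx, hgr, map_one])
        rw [hxr, one_smul]; rfl⟩ (fun z hz => by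
        have hgz : ∀ v, g.1 v = z • v := fun v => by rw [← hxa, hz, Matrix.smul_mulVec, Matrix.one_mulVec]
        have hz2 : z ^ 2 = 1 := by
          have h1 := isomGroup_apply g e₀ w₀
          rw [hgz, hgz, map_smul, map_smul, LinearMap.smul_apply, smul_eq_mul, smul_eq_mul, hw₀, mul_one] at h1
          rw [pow_two]; exact h1
        have hzr : z ^ r = 1 := by
          have key : ∀ n : ℕ, ∀ v, (g ^ n).1 v = z ^ n • v := fun n => by
            induction n with
            | zero => intro v; simp
            | succ n ih =>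
              intro v
              rw [pow_succ' g n]
              show g.1 ((g ^ n).1 v) = _
              rw [ih, hgz, smul_smul, pow_succ']
          have h1 := congrFun (key r e₀) (Sum.inl ⟨0, by omega⟩)
          rw [hgr] at h1
          simpa [e₀] using h1.symm
        have hz1 : z = 1 := by
          have := pow_gcd_eq_one.2 ⟨hz2, hzr⟩
          rwa [(Nat.coprime_two_left.2 hrodd).gcd_eq_one, pow_one] at this
        have hCtop : C = ⊤ := eq_top_iff.2 fun v _ => mem_fix.2 (by
          show g.1 v = v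
          rw [hgz, hz1, one_smul])
        rw [hCtop, finrank_top, hdim] at hgfix
        rcases hsfix.2 with ⟨h1, h2⟩ | ⟨h1, h2⟩
        · have : a ≤ a * t := Nat.le_mul_of_pos_right a (by omega)
          omega
        · subst h2
          omega)
    rw [hlinx] at hσ
    obtain ⟨hda, hdn, hdo, hdi, hds⟩ := (hPeq D).1 hD
    obtain ⟨E, hS⟩ := exists_setup hA hN hr0 (T := T) (fun u v => isomGroup_apply g u v)
      (by rw [hT, toEnd_pow, hgr]; rfl)
    rw [← hi] at hS
    by_cases hσ1 : σ = 1
    · -- every block invariant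
      subst hσ1
      have hinv : ∀ j, Inv T (D j) := fun j => (hσ j).le
      have hlow : ∀ j, a % c ≤ finrank F (D j ⊓ C : Submodule F (Fin d ⊕ Fin d → F)) := fun j => by
        obtain ⟨k, hk⟩ := hS.dvd_moved hrodd hi hc (hinv j) (hdn j)
        have h1 := hS.formula _ (hinv j)
        rw [hda, hk] at h1
        have h2 : a % c = finrank F (D j ⊓ C : Submodule F (Fin d ⊕ Fin d → F)) % c := by
          conv_lhs => rw [h1, Nat.add_mul_mod_self_left]
        rw [h2]; exact Nat.mod_le _ _
      have key : ∀ S : Finset (Fin t), S.card * (a % c) ≤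
          finrank F (S.sup fun j => D j ⊓ C : Submodule F (Fin d ⊕ Fin d → F)) := by
        intro S
        induction S using Finset.induction_on with
        | empty => simp
        | insert j S hj ih =>
          rw [Finset.card_insert_of_notMem hj, Finset.sup_insert, add_mul, one_mul]
          have hdis : Disjoint (D j ⊓ C) (S.sup fun j => D j ⊓ C) := by
            refine (hdi j).mono inf_le_left (Finset.sup_le fun k hk => ?_)
            exact inf_le_left.trans (le_iSup₂ (f := fun k (_ : k ≠ j) => D k) k fun e => hj (e ▸ hk))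
          rw [finrank_sup_of_disjoint hdis]
          have := hlow j
          omega
      have h1 := key Finset.univ
      have h2 : (Finset.univ.sup fun j => D j ⊓ C : Submodule F (Fin d ⊕ Fin d → F)) ≤ C :=
        Finset.sup_le fun j _ => inf_le_right
      have h3 := Submodule.finrank_mono h2
      rw [Finset.card_univ, Fintype.card_fin] at h1
      omega
    · -- a cycle of blocks
      obtain ⟨j₀, hj₀⟩ : ∃ j, σ j ≠ j := by
        by_contra hno
        push Not at hno
        exact hσ1 (Equiv.ext hno)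
      have hDinj : Function.Injective D := fun j j' e => by
        by_contra hjj
        have h1 : D j = ⊥ := (Submodule.eq_bot_iff _).2 fun v hv =>
          nondegOn_iff.1 (hdn j) v hv fun w hw => hdo j j' hjj w hw v (e ▸ hv)
        have := hda j
        rw [h1, finrank_bot] at this
        omega
      have hmapk : ∀ k j, (D j).map (T ^ k) = D ((σ ^ k) j) := by
        intro k
        induction k with
        | zero => intro j; simp [Module.End.one_eq_id]
        | succ k ih => intro j; rw [pow_succ', Module.End.mul_eq_comp, Submodule.map_comp, ih, hσ, pow_succ']; rfl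
      have hfixr : (σ ^ r) j₀ = j₀ := hDinj (by
        rw [← hmapk, hS.pow, Module.End.one_eq_id, Submodule.map_id])
      have hper : Function.minimalPeriod σ j₀ = r := Function.minimalPeriod_eq_prime
        (by rw [Function.IsPeriodicPt, Function.IsFixedPt, ← Equiv.Perm.coe_pow]; exact hfixr) hj₀
      have hinjk : ∀ k < r, ∀ k' < r, (σ ^ k) j₀ = (σ ^ k') j₀ → k = k' := fun k hk k' hk' e => by
        rw [Equiv.Perm.coe_pow, Equiv.Perm.coe_pow] at e
        exact (Function.iterate_injOn_Iio_minimalPeriod (f := σ) (x := j₀)) (by rw [hper]; exact hk)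
          (by rw [hper]; exact hk') e
      -- averaging gives fixed vectors
      let Φ : D j₀ →ₗ[F] (Fin d ⊕ Fin d → F) := (∑ k ∈ Finset.range r, T ^ k).comp (D j₀).subtype
      have hΦfix : ∀ v, Φ v ∈ C := fun v => mem_fix.2 (by
        have h1 : (T - 1) * ∑ j ∈ Finset.range r, T ^ j = 0 := by rw [mul_geom_sum, hS.pow, sub_self]
        have h2 := LinearMap.congr_fun h1 (v : Fin d ⊕ Fin d → F)
        rw [Module.End.mul_apply, LinearMap.sub_apply, Module.End.one_apply, LinearMap.zero_apply, sub_eq_zero] at h2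
        exact h2)
      have hΦi : Function.Injective Φ := (injective_iff_map_eq_zero Φ).2 fun v hv => Subtype.ext
        (nondegOn_iff.1 (hdn j₀) v v.2 fun w hw => by
          have h1 := congrArg (f w) hv
          rw [map_zero] at h1
          show f w (v : Fin d ⊕ Fin d → F) = 0
          rw [← h1]
          show f w (v : Fin d ⊕ Fin d → F) = f w ((∑ k ∈ Finset.range r, T ^ k) (v : Fin d ⊕ Fin d → F))
          rw [LinearMap.sum_apply, map_sum, Finset.sum_eq_single 0 (fun k hk hk0 => ?_)
            (fun h => absurd (Finset.mem_range.2 hr.pos) h), pow_zero, Module.End.one_apply]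
          refine hdo j₀ ((σ ^ k) j₀) (fun e => hk0 ?_) w hw _ (hmapk k j₀ ▸ Submodule.mem_map_of_mem v.2)
          exact (hinjk 0 hr.pos k (Finset.mem_range.1 hk) (by rw [pow_zero]; exact e)).symm)
      have hge : a ≤ finrank F C := by
        rw [← hda j₀]
        exact LinearMap.finrank_le_finrank_of_injective (f := Φ.codRestrict C hΦfix)
          (fun u v e => hΦi (congrArg Subtype.val e))
      rcases hsfix.2 with ⟨h1, h2⟩ | ⟨h1, h2⟩
      · omega
      · subst h2
        set Oth := ((Finset.range (r - 1)).image fun k => (σ ^ (k + 1)) j₀) with hOth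
        have hcardO : Oth.card = r - 1 := by
          rw [hOth, Finset.card_image_of_injOn, Finset.card_range]
          intro k hk k' hk' e
          rw [Finset.coe_range, Set.mem_Iio] at hk hk'
          have := hinjk (k + 1) (by omega) (k' + 1) (by omega) e
          omega
        have keyS : ∀ S : Finset (Fin t), finrank F (S.sup D : Submodule F (Fin d ⊕ Fin d → F)) = S.card * a := by
          intro S
          induction S using Finset.induction_on with
          | empty => simp
          | insert j S hj ih =>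
            rw [Finset.card_insert_of_notMem hj, Finset.sup_insert, add_mul, one_mul]
            have hdis : Disjoint (D j) (S.sup D) := (hdi j).mono_right (Finset.sup_le fun k hk =>
              le_iSup₂ (f := fun k (_ : k ≠ j) => D k) k fun e => hj (e ▸ hk))
            rw [finrank_sup_of_disjoint hdis, ih, hda, add_comm]
        have hdisC : Disjoint C (Oth.sup D) := Submodule.disjoint_def.2 fun v hvC hvS => by
          have horth : ∀ (S : Finset (Fin t)) j, j ∉ S → ∀ u ∈ S.sup D, ∀ w ∈ D j, f w u = 0 := by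
            intro S j hjS u hu w hw
            induction S using Finset.induction_on generalizing u with
            | empty => simp at hu; simp [hu]
            | insert k S hk ih =>
              rw [Finset.sup_insert] at hu
              obtain ⟨y, hy, z, hz, rfl⟩ := Submodule.mem_sup.1 hu
              rw [Finset.mem_insert, not_or] at hjS
              rw [map_add, hdo j k hjS.1 w hw y hy, ih hjS.2 z hz, add_zero]
          have h0 : j₀ ∉ Oth := fun h => by
            obtain ⟨k, hk, e⟩ := Finset.mem_image.1 h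
            rw [Finset.mem_range] at hk
            have := hinjk (k + 1) (by omega) 0 hr.pos (by rw [pow_zero]; exact e)
            omega
          have hfixk : ∀ k, (T ^ k) v = v := fun k => by
            induction k with
            | zero => rfl
            | succ k ih => rw [pow_succ, Module.End.mul_apply, mem_fix.1 hvC, ih]
          refine hN.2 v fun z => ?_
          have hz : z ∈ iSup D := hds ▸ Submodule.mem_top
          induction hz using Submodule.iSup_induction' with
          | mem j w hw =>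
            by_cases hjO : j ∈ Oth
            · obtain ⟨k, -, rfl⟩ := Finset.mem_image.1 hjO
              rw [← hmapk] at hw
              obtain ⟨u, hu, rfl⟩ := hw
              rw [← hfixk (k + 1), hT, toEnd_pow]
              exact (isomGroup_apply (g ^ (k + 1)) u v).trans (horth Oth j₀ h0 v hvS u hu)
            · exact horth Oth j hjO v hvS w hw
          | zero => rw [map_zero, LinearMap.zero_apply]
          | add y z _ _ hy hz => rw [map_add, LinearMap.add_apply, hy, hz, add_zero]
        have h3 := finrank_sup_of_disjoint hdisC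
        have h4 := Submodule.finrank_le (C ⊔ Oth.sup D)
        rw [keyS, hcardO] at h3
        rw [hdim] at h4
        have h5 : (r - 1) * 2 ≤ (r - 1) * a := Nat.mul_le_mul_left _ ha
        omega
  · rintro ⟨-, hcond⟩ x ⟨z, hz⟩ -
    set g : isomGroup f := spEquiv (F := F) d x with hg
    have hga : ∀ v, (x : Matrix (Fin d ⊕ Fin d) (Fin d ⊕ Fin d) F) *ᵥ v = g.1 v := fun v => (spEquiv_apply d x v).symm
    have hgr : ∀ v, (g ^ r).1 v = z • v := fun v => by
      rw [hg, ← map_pow, spEquiv_apply, hz, Matrix.smul_mulVec, Matrix.one_mulVec]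
    have hz2 : z * z = 1 := by
      have h1 := isomGroup_apply (g ^ r) e₀ w₀
      rw [hgr, hgr, map_smul, map_smul, LinearMap.smul_apply, smul_eq_mul, smul_eq_mul, hw₀, mul_one] at h1
      exact h1
    set T₀ : Module.End F (Fin d ⊕ Fin d → F) := (g.1 : (Fin d ⊕ Fin d → F) →ₗ[F] (Fin d ⊕ Fin d → F)) with hT₀
    set T : Module.End F (Fin d ⊕ Fin d → F) := z • T₀ with hT
    obtain ⟨E, hS⟩ := exists_setup hA hN hr0 (T := T) (fun u v => by
        rw [hT, LinearMap.smul_apply, LinearMap.smul_apply, map_smul, map_smul, LinearMap.smul_apply, smul_smul, hz2,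
          one_smul]
        exact isomGroup_apply g u v) (by
        obtain ⟨s, hs⟩ := hrodd
        refine LinearMap.ext fun v => ?_
        rw [hT, smul_pow, LinearMap.smul_apply, hT₀, toEnd_pow, LinearEquiv.coe_coe, hgr, smul_smul, hs, pow_succ,
          mul_assoc, hz2, mul_one, pow_mul, pow_two, hz2, one_pow, one_smul]
        rfl)
    rw [← hi] at hS
    have hlt : t * (a % c) < c := hcond ▸ Nat.mod_lt _ hc0
    obtain ⟨D, hD, hDo, hDs⟩ := hS.exists_blocks hrodd hi hc hae t hlt ⊤ (Inv.of_mem fun _ _ => Submodule.mem_top)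
      (nondegOn_iff.2 fun v _ hv => hN.2 v fun y => hv y Submodule.mem_top) (by rw [finrank_top, hdim, hat])
    have hblocks : IsBlocks f a D := by
      refine ⟨fun j => (hD j).2.2.1, fun j => (hD j).2.1, hDo, fun j => ?_, top_le_iff.1 hDs⟩
      refine Disjoint.mono_right (iSup₂_le fun k hk => ?_) (hD j).2.1
      intro v hv
      exact mem_perp.2 fun w hw => hDo j k (Ne.symm hk) w hw v hv
    refine ⟨D, (hPeq D).2 hblocks, 1, fun j => ?_⟩
    have h1 := hS.map_eq hr.pos (hD j).1
    rw [hT, Submodule.map_smul _ _ _ (left_ne_zero_of_mul_eq_one hz2)] at h1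
    rw [Equiv.Perm.one_apply, show Matrix.toLin' (x : Matrix (Fin d ⊕ Fin d) (Fin d ⊕ Fin d) F) = T₀ from
      LinearMap.ext fun v => by rw [Matrix.toLin'_apply, hga]; rfl]
    exact h1

end Cfsg.Agent.S5961
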