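import Cfsg.Statements.S5962
import Cfsg.Agent.Lib.Derangements.MonomialInvolution
import Cfsg.Agent.Lib.Classical.SympMatrix

set_option autoImplicit false
open scoped MatrixGroups
open Cfsg

namespace Cfsg.Agent.S5962

/-- Involutions of PSp_n(q), q odd, and the subgroups GL_{n/2}(q).2. Here `T = PSp_n(q)`, `n = 2d ≥ 4`, `q` odd, realised through the symplectic matrices over the field `F` with `q` elements; Ω is the set of unordered pairs `{U, W}` of complementary totally isotropic `d`-spaces (`F^n = U ⊕ W`), whose stabilizers are the subgroups of type GL_d(q).2 (maximal except in some small cases; maximality is not assumed); an element of `T` of prime order `r` (a symplectic matrix `x` with `x^r` scalar, `x` not scalar) fixes such a pair when it fixes or interchanges `U` and `W`. If the number of such pairs is even, every involution of `T` fixes one of them (the action is 2-elusive). -/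
theorem result {F : Type*} [Field F] [Fintype F] {p : ℕ} [Fact p.Prime] [CharP F p] {q : ℕ} (hq : Fintype.card F = q)
    (d : ℕ) (hd : 2 ≤ d) (hT : (d, q) ≠ (2, 2)) (hodd : Odd q)
    (hΩ : 2 ∣ Nat.card {P : Submodule F (Fin d ⊕ Fin d → F) × Submodule F (Fin d ⊕ Fin d → F) // IsCompl P.1 P.2 ∧ (∀ u ∈ P.1, ∀ v ∈ P.1, Cfsg.sympForm d F u v = 0) ∧ (∀ u ∈ P.2, ∀ v ∈ P.2, Cfsg.sympForm d F u v = 0)} / 2)
    (x : ↥(Matrix.symplecticGroup (Fin d) F))
    (hx1 : ∃ z : F, ((x ^ 2 : ↥(Matrix.symplecticGroup (Fin d) F)) : Matrix (Fin d ⊕ Fin d) (Fin d ⊕ Fin d) F) = z • (1 : Matrix (Fin d ⊕ Fin d) (Fin d ⊕ Fin d) F))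
    (hx2 : ∀ z : F, (x : Matrix (Fin d ⊕ Fin d) (Fin d ⊕ Fin d) F) ≠ z • (1 : Matrix (Fin d ⊕ Fin d) (Fin d ⊕ Fin d) F)) :
    ∃ U W : Submodule F (Fin d ⊕ Fin d → F), IsCompl U W ∧ (∀ u ∈ U, ∀ v ∈ U, Cfsg.sympForm d F u v = 0) ∧ (∀ u ∈ W, ∀ v ∈ W, Cfsg.sympForm d F u v = 0) ∧
        ((U.map (Matrix.toLin' (x : Matrix (Fin d ⊕ Fin d) (Fin d ⊕ Fin d) F)) = U ∧ W.map (Matrix.toLin' (x : Matrix (Fin d ⊕ Fin d) (Fin d ⊕ Fin d) F)) = W) ∨
         (U.map (Matrix.toLin' (x : Matrix (Fin d ⊕ Fin d) (Fin d ⊕ Fin d) F)) = W ∧ W.map (Matrix.toLin' (x : Matrix (Fin d ⊕ Fin d) (Fin d ⊕ Fin d) F)) = U)) := by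
  classical
  obtain ⟨z, hz⟩ := hx1
  let M : Matrix (Fin d ⊕ Fin d) (Fin d ⊕ Fin d) F := x
  let L := Matrix.toLin' M
  let B := CfsgLib.Classical.sympBil F d
  have hM : M * M = z • 1 := by rw [← hz, pow_two]; rfl
  have hB : ∀ u w, B (L u) (L w) = B u w := fun u w => by
    simp only [B, L, Matrix.toLin'_apply, CfsgLib.Classical.sympBil_apply]
    exact (CfsgLib.Classical.mem_symplecticGroup_iff_preserves d).1 x.2 u w
  have hsq : ∀ u, L (L u) = z • u := fun u => by
    simp only [L, Matrix.toLin'_apply]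
    rw [Matrix.mulVec_mulVec, hM, Matrix.smul_mulVec, Matrix.one_mulVec]
  have hnd : ∀ u, (∀ w, B u w = 0) → u = 0 := (CfsgLib.Classical.sympBil_nondegenerate d).1
  have hinj : Function.Injective L := fun u w h => sub_eq_zero.1 (hnd _ fun v => by
    rw [← hB, map_sub, h, sub_self, map_zero, LinearMap.zero_apply])
  have hz1 : z * z = 1 := by
    let i0 : Fin d := ⟨0, by omega⟩
    have h01 : B (Pi.single (Sum.inr i0) 1) (Pi.single (Sum.inl i0) 1) = 1 := by
      simp [B, CfsgLib.Classical.sympBil_apply, CfsgLib.Classical.sympForm_eq, Pi.single_apply]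
    have h := hB (L (Pi.single (Sum.inr i0) 1)) (L (Pi.single (Sum.inl i0) 1))
    simpa [hsq, hB, h01] using h
  obtain ⟨ι, _, b, τ, π, hτ, horth, hpair, hb, hfl1, hfl2⟩ :=
    CfsgLib.Derangements.Mono.exists_symplectic_monomial_basis B (CfsgLib.Classical.sympBil_isAlt d) hnd L z hz1 hB hsq
  have hcard : Fintype.card ι = d := by
    have h := Module.finrank_eq_card_basis b
    simp [Module.finrank_fintype_fun_eq_card] at h
    omega
  have h2 : (2 : F) ≠ 0 := by
    intro h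
    haveI : CharP F 2 := CharTwo.of_one_ne_zero_of_two_eq_zero one_ne_zero h
    have h4 : 2 ∣ Fintype.card F := by
      obtain ⟨k, -, hk⟩ := FiniteField.card F 2
      rw [hk]; exact dvd_pow_self 2 k.ne_zero
    rw [hq] at h4
    exact (Nat.not_even_iff_odd.2 hodd) (even_iff_two_dvd.2 h4)
  obtain ⟨ρ, hρ⟩ : ∃ ρ : Equiv.Perm (Fin 2), ∀ i, π i = ρ := by
    rcases mul_self_eq_one_iff.1 hz1 with h | h
    exacts [⟨1, hfl1 h2 h⟩, ⟨_, hfl2 h2 h⟩]
  obtain ⟨h1, hmap⟩ := CfsgLib.Derangements.Mono.exists_decomposition b L hinj le_rfl (a := d) (by omega)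
    (fun k => k.2) (fun j => by
      rw [show (Finset.univ.filter fun k : ι × Fin 2 => k.2 = j) = Finset.univ ×ˢ {j} from by ext ⟨i, s⟩; simp [eq_comm],
        Finset.card_product, Finset.card_univ, hcard, Finset.card_singleton, mul_one])
    ρ fun k => by
      obtain ⟨c, hc⟩ := hb k.1 k.2
      exact ⟨c, (τ k.1, π k.1 k.2), by simp [hρ], hc⟩
  have hiso : ∀ j, ∀ u ∈ Submodule.span F (b '' {k | k.2 = j}), ∀ v ∈ Submodule.span F (b '' {k | k.2 = j}),
      Cfsg.sympForm d F u v = 0 := fun j u hu v hv => by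
    rw [← CfsgLib.Classical.sympBil_apply]
    refine CfsgLib.Derangements.Mono.bilin_eq_zero_of_mem_span B ?_ hu hv
    rintro _ ⟨⟨i, s⟩, rfl, rfl⟩ _ ⟨⟨i', s'⟩, hs, rfl⟩
    simp only [Set.mem_ofPred_eq] at hs
    subst hs
    rcases eq_or_ne i i' with rfl | hne
    · exact CfsgLib.Classical.sympBil_isAlt d _
    · exact horth _ _ _ _ hne
  refine ⟨_, _, ?_, hiso 0, hiso 1, ?_⟩
  · refine ⟨h1.indep.pairwiseDisjoint (i := 0) (j := 1) (by decide), codisjoint_iff.2 ?_⟩
    rw [eq_top_iff, ← h1.iSup_eq_top]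
    refine iSup_le fun j => ?_
    fin_cases j
    exacts [le_sup_left, le_sup_right]
  · have key : ρ = 1 ∨ ρ = Equiv.swap 0 1 := (show ∀ r : Equiv.Perm (Fin 2), r = 1 ∨ r = Equiv.swap 0 1 by decide) ρ
    rcases key with rfl | rfl
    · exact Or.inl ⟨by simpa using hmap 0, by simpa using hmap 1⟩
    · exact Or.inr ⟨by simpa using hmap 0, by simpa using hmap 1⟩

end Cfsg.Agent.S5962
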