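import Cfsg.Statements.S5963
import Cfsg.Agent.Lib.Derangements.SympFpf
import Cfsg.Agent.Lib.Derangements.LinearElusiveCount
-- import your own Cfsg.Agent.* helpers here

set_option autoImplicit false
open scoped MatrixGroups
open Cfsg

namespace Cfsg.Agent.S5963

open Module Matrix CfsgLib.Classical CfsgLib.Derangements

section Aux

variable {F : Type*} [Field F] {d : ℕ}

/-- Ordered pairs of complementary totally isotropic subspaces. -/
abbrev Pairs (F : Type*) [Field F] (d : ℕ) :=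
  {P : Submodule F (Fin d ⊕ Fin d → F) × Submodule F (Fin d ⊕ Fin d → F) // IsCompl P.1 P.2 ∧
    (∀ u ∈ P.1, ∀ v ∈ P.1, Cfsg.sympForm d F u v = 0) ∧ (∀ u ∈ P.2, ∀ v ∈ P.2, Cfsg.sympForm d F u v = 0)}

theorem eq_zero_of_orth {U W : Submodule F (Fin d ⊕ Fin d → F)} (hc : IsCompl U W)
    (hW : ∀ u ∈ W, ∀ v ∈ W, Cfsg.sympForm d F u v = 0) {w : Fin d ⊕ Fin d → F} (hw : w ∈ W)
    (h : ∀ u ∈ U, sympBil F d u w = 0) : w = 0 := by
  refine (sympBil_nondegenerate (F := F) d).2 w fun v => ?_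
  obtain ⟨a, ha, b, hb, rfl⟩ := Submodule.mem_sup.1 (hc.sup_eq_top ▸ Submodule.mem_top (x := v))
  rw [map_add, LinearMap.add_apply, h a ha, sympBil_apply, hW b hb w hw, add_zero]

theorem finrank_pair {U W : Submodule F (Fin d ⊕ Fin d → F)} (hc : IsCompl U W)
    (hU : ∀ u ∈ U, ∀ v ∈ U, Cfsg.sympForm d F u v = 0) (hW : ∀ u ∈ W, ∀ v ∈ W, Cfsg.sympForm d F u v = 0) :
    finrank F U = d ∧ finrank F W = d := by
  have key : ∀ (U W : Submodule F (Fin d ⊕ Fin d → F)), IsCompl U W →
      (∀ u ∈ W, ∀ v ∈ W, Cfsg.sympForm d F u v = 0) → finrank F W ≤ finrank F U := fun U W hc hW => by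
    have h := LinearMap.finrank_le_finrank_of_injective (f := ((sympBil F d).compl₁₂ U.subtype W.subtype).flip)
      ((injective_iff_map_eq_zero _).2 fun w hw => Subtype.ext
        (eq_zero_of_orth hc hW w.2 fun u hu => LinearMap.congr_fun hw ⟨u, hu⟩))
    rwa [Subspace.dual_finrank_eq] at h
  have h1 := key U W hc hW
  have h2 := key W U hc.symm hU
  have h3 := Submodule.finrank_add_eq_of_isCompl hc
  have h4 : finrank F (Fin d ⊕ Fin d → F) = d + d := by simp
  omega

/-- The first standard Lagrangian. -/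
def lagL (F : Type*) [Field F] (d : ℕ) : (Fin d → F) →ₗ[F] (Fin d ⊕ Fin d → F) where
  toFun a := Sum.elim a 0
  map_add' a b := by ext (i | i) <;> simp
  map_smul' c a := by ext (i | i) <;> simp

/-- The second standard Lagrangian. -/
def lagR (F : Type*) [Field F] (d : ℕ) : (Fin d → F) →ₗ[F] (Fin d ⊕ Fin d → F) where
  toFun a := Sum.elim 0 a
  map_add' a b := by ext (i | i) <;> simp
  map_smul' c a := by ext (i | i) <;> simp

theorem lag_add (v : Fin d ⊕ Fin d → F) :
    lagL F d (fun i => v (Sum.inl i)) + lagR F d (fun i => v (Sum.inr i)) = v := by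
  ext (i | i) <;> simp [lagL, lagR]

theorem sympForm_lag (a b : Fin d → F) :
    Cfsg.sympForm d F (lagL F d a) (lagR F d b) = -∑ i, a i * b i ∧
    Cfsg.sympForm d F (lagL F d a) (lagL F d b) = 0 ∧ Cfsg.sympForm d F (lagR F d a) (lagR F d b) = 0 := by
  simp [sympForm_eq, lagL, lagR]

/-- The standard pair. -/
def stdPair (F : Type*) [Field F] (d : ℕ) : Pairs F d :=
  ⟨(LinearMap.range (lagL F d), LinearMap.range (lagR F d)),
    ⟨Submodule.disjoint_def.2 fun v h1 h2 => by
        obtain ⟨a, rfl⟩ := h1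
        obtain ⟨b, hb⟩ := h2
        ext (i | i)
        · simpa [lagL, lagR] using (congrFun hb (Sum.inl i)).symm
        · simp [lagL],
      codisjoint_iff.2 (eq_top_iff.2 fun v _ => by
        rw [← lag_add v]
        exact Submodule.add_mem_sup ⟨_, rfl⟩ ⟨_, rfl⟩)⟩,
    by rintro _ ⟨a, rfl⟩ _ ⟨b, rfl⟩; exact (sympForm_lag a b).2.1,
    by rintro _ ⟨a, rfl⟩ _ ⟨b, rfl⟩; exact (sympForm_lag a b).2.2⟩

/-- The image of the standard pair. -/
noncomputable def pairMap (g : isomGroup (sympBil F d)) : Pairs F d :=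
  ⟨((stdPair F d).1.1.map g.1.toLinearMap, (stdPair F d).1.2.map g.1.toLinearMap),
    (Submodule.orderIsoMapComap g.1).isCompl_iff.1 (stdPair F d).2.1, by
      rintro _ ⟨a, ha, rfl⟩ _ ⟨b, hb, rfl⟩
      rw [← sympBil_apply]
      exact (g.2 a b).trans ((sympBil_apply d a b).trans ((stdPair F d).2.2.1 a ha b hb)), by
      rintro _ ⟨a, ha, rfl⟩ _ ⟨b, hb, rfl⟩
      rw [← sympBil_apply]
      exact (g.2 a b).trans ((sympBil_apply d a b).trans ((stdPair F d).2.2.2 a ha b hb))⟩

theorem exists_isom (P : Pairs F d) (φ : (Fin d → F) ≃ₗ[F] P.1.1) :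
    ∃ g : isomGroup (sympBil F d), pairMap g = P ∧ ∀ a, g.1 (lagL F d a) = φ a := by
  obtain ⟨hdU, hdW⟩ := finrank_pair P.2.1 P.2.2.1 P.2.2.2
  let π : P.1.2 →ₗ[F] (Fin d → F) := LinearMap.pi fun i =>
    -((sympBil F d (φ (Pi.single i 1) : Fin d ⊕ Fin d → F)).comp P.1.2.subtype)
  have hπ : ∀ (a : Fin d → F) (w : P.1.2), ∑ i, a i * π w i = -sympBil F d (φ a) w := fun a w => by
    have h : (φ a : Fin d ⊕ Fin d → F) = ∑ i, a i • (φ (Pi.single i 1) : Fin d ⊕ Fin d → F) := by
      conv_lhs => rw [pi_eq_sum_univ' a]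
      simp
    rw [h, map_sum, LinearMap.sum_apply, ← Finset.sum_neg_distrib]
    simp [π]
  have hinj : Function.Injective π := (injective_iff_map_eq_zero _).2 fun w hw => Subtype.ext <|
    eq_zero_of_orth P.2.1 P.2.2.2 w.2 fun u hu => by
      have h := hπ (φ.symm ⟨u, hu⟩) w
      rw [hw, φ.apply_symm_apply] at h
      simpa using h.symm
  have hsurj : Function.Surjective π :=
    (LinearMap.injective_iff_surjective_of_finrank_eq_finrank (by simp [hdW])).1 hinj
  let ψ : (Fin d → F) ≃ₗ[F] P.1.2 := (LinearEquiv.ofBijective π ⟨hinj, hsurj⟩).symm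
  have hψ : ∀ b, π (ψ b) = b := fun b => LinearEquiv.apply_symm_apply
    (LinearEquiv.ofBijective π ⟨hinj, hsurj⟩) b
  let T : (Fin d ⊕ Fin d → F) →ₗ[F] (Fin d ⊕ Fin d → F) :=
    P.1.1.subtype.comp (φ.toLinearMap.comp (LinearMap.funLeft F F Sum.inl)) +
      P.1.2.subtype.comp (ψ.toLinearMap.comp (LinearMap.funLeft F F Sum.inr))
  have hTa : ∀ v, T v = (φ fun i => v (Sum.inl i) : Fin d ⊕ Fin d → F) +
      (ψ fun i => v (Sum.inr i) : Fin d ⊕ Fin d → F) := fun v => rfl
  have hTB : ∀ u v, sympBil F d (T u) (T v) = sympBil F d u v := fun u v => by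
    rw [hTa, hTa]
    simp only [map_add, LinearMap.add_apply]
    rw [alt_swap (sympBil_isAlt d) ((ψ fun i => u (Sum.inr i) : P.1.2) : Fin d ⊕ Fin d → F)
      ((φ fun i => v (Sum.inl i) : P.1.1) : Fin d ⊕ Fin d → F)]
    have h1 := hπ (fun i => u (Sum.inl i)) (ψ fun i => v (Sum.inr i))
    have h2 := hπ (fun i => v (Sum.inl i)) (ψ fun i => u (Sum.inr i))
    rw [hψ] at h1 h2
    rw [eq_neg_iff_add_eq_zero] at h1 h2
    rw [eq_neg_of_add_eq_zero_right h1, eq_neg_of_add_eq_zero_right h2]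
    simp only [sympBil_apply, P.2.2.1 _ (φ _).2 _ (φ _).2, P.2.2.2 _ (ψ _).2 _ (ψ _).2]
    rw [sympForm_eq, Finset.sum_sub_distrib]
    simp only [mul_comm (u (Sum.inr _))]
    ring
  have hTinj : Function.Injective T := (injective_iff_map_eq_zero _).2 fun v hv =>
    (sympBil_nondegenerate (F := F) d).2 v fun u => by rw [← hTB, hv, map_zero]
  let g : isomGroup (sympBil F d) := ⟨LinearEquiv.ofBijective T ⟨hTinj,
    LinearMap.injective_iff_surjective.1 hTinj⟩, hTB⟩
  have hgL : ∀ a, g.1 (lagL F d a) = φ a := fun a => by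
    show T (lagL F d a) = _
    rw [hTa, show (fun i => lagL F d a (Sum.inr i)) = 0 from rfl, map_zero, Submodule.coe_zero, add_zero]
    rfl
  have hgR : ∀ a, g.1 (lagR F d a) = ψ a := fun a => by
    show T (lagR F d a) = _
    rw [hTa, show (fun i => lagR F d a (Sum.inl i)) = 0 from rfl, map_zero, Submodule.coe_zero, zero_add]
    rfl
  refine ⟨g, Subtype.ext (Prod.ext ?_ ?_), hgL⟩
  · ext v
    constructor
    · rintro ⟨_, ⟨a, rfl⟩, rfl⟩
      exact (hgL a).symm ▸ (φ a).2
    · intro hv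
      exact ⟨_, ⟨φ.symm ⟨v, hv⟩, rfl⟩, (hgL _).trans (congrArg Subtype.val (φ.apply_symm_apply _))⟩
  · ext v
    constructor
    · rintro ⟨_, ⟨a, rfl⟩, rfl⟩
      exact (hgR a).symm ▸ (ψ a).2
    · intro hv
      exact ⟨_, ⟨ψ.symm ⟨v, hv⟩, rfl⟩, (hgR _).trans (congrArg Subtype.val (ψ.apply_symm_apply _))⟩

theorem isom_ext {g g' : isomGroup (sympBil F d)} (hp : pairMap g = pairMap g')
    (h : ∀ a, g.1 (lagL F d a) = g'.1 (lagL F d a)) : g = g' := by
  refine Subtype.ext (LinearEquiv.ext fun v => ?_)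
  rw [← lag_add v, map_add, map_add, h]
  congr 1
  set b := lagR F d (fun i => v (Sum.inr i))
  refine sub_eq_zero.1 (eq_zero_of_orth (pairMap g).2.1 (pairMap g).2.2.2 ?_ fun u hu => ?_)
  · refine sub_mem ?_ ?_
    · exact Submodule.mem_map_of_mem ⟨_, rfl⟩
    · rw [hp]; exact Submodule.mem_map_of_mem ⟨_, rfl⟩
  · obtain ⟨_, ⟨a, rfl⟩, rfl⟩ := hu
    rw [map_sub]
    show sympBil F d (g.1 (lagL F d a)) (g.1 b) - sympBil F d (g.1 (lagL F d a)) (g'.1 b) = 0
    conv_lhs => arg 2; rw [h]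
    rw [g.2, g'.2, sub_self]

theorem card_pairs_mul [Fintype F] :
    Nat.card (Pairs F d) * Nat.card (GL (Fin d) F) = Nat.card (isomGroup (sympBil F d)) := by
  haveI : Finite (Fin d ⊕ Fin d → F) := inferInstance
  haveI : Finite (isomGroup (sympBil F d)) := Finite.of_injective
    (fun g => (g.1 : (Fin d ⊕ Fin d → F) → (Fin d ⊕ Fin d → F))) fun a b h => Subtype.ext (LinearEquiv.coe_injective h)
  have hfib : ∀ P : Pairs F d, Nat.card {g : isomGroup (sympBil F d) // pairMap g = P} =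
      Nat.card (GL (Fin d) F) := fun P => by
    let e₀ : (Fin d → F) ≃ₗ[F] P.1.1 := LinearEquiv.ofFinrankEq _ _
      (by rw [finrank_fin_fun, (finrank_pair P.2.1 P.2.2.1 P.2.2.2).1])
    let f : {g : isomGroup (sympBil F d) // pairMap g = P} → ((Fin d → F) ≃ₗ[F] P.1.1) := fun g =>
      LinearEquiv.ofBijective ((g.1.1.toLinearMap.comp (lagL F d)).codRestrict P.1.1 fun a => by
        have := congrArg (fun P : Pairs F d => P.1.1) g.2
        rw [← this]
        exact Submodule.mem_map_of_mem ⟨a, rfl⟩) (by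
        have hinj : Function.Injective ((g.1.1.toLinearMap.comp (lagL F d)).codRestrict P.1.1 fun a => by
            have := congrArg (fun P : Pairs F d => P.1.1) g.2
            rw [← this]
            exact Submodule.mem_map_of_mem ⟨a, rfl⟩) := fun a b hab => by
          have h2 : g.1.1 (lagL F d a) = g.1.1 (lagL F d b) := congrArg Subtype.val hab
          funext i
          exact congrFun (g.1.1.injective h2) (Sum.inl i)
        exact ⟨hinj, (LinearMap.injective_iff_surjective_of_finrank_eq_finrank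
          (by rw [finrank_fin_fun, (finrank_pair P.2.1 P.2.2.1 P.2.2.2).1])).1 hinj⟩)
    have hf : Function.Bijective f := by
      refine ⟨fun g g' h => Subtype.ext (isom_ext (g.2.trans g'.2.symm) fun a => ?_), fun φ => ?_⟩
      · exact congrArg Subtype.val (LinearEquiv.congr_fun h a)
      · obtain ⟨g, hg, hga⟩ := exists_isom P φ
        exact ⟨⟨g, hg⟩, LinearEquiv.ext fun a => Subtype.ext (hga a)⟩
    rw [Nat.card_congr (Equiv.ofBijective f hf)]
    refine Nat.card_congr (Equiv.trans ?_ (Matrix.GeneralLinearGroup.toLin.toEquiv.trans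
      (LinearMap.GeneralLinearGroup.generalLinearEquiv F (Fin d → F)).toEquiv).symm)
    exact ⟨fun φ => φ.trans e₀.symm, fun φ => φ.trans e₀, fun φ => by ext; simp, fun φ => by ext; simp⟩
  rw [← Nat.card_congr (Equiv.sigmaFiberEquiv (pairMap (F := F) (d := d))),
    CfsgLib.Derangements.LinElusive.card_sigma_const hfib]

theorem exists_dvd_of_dvd_card [Fintype F] {r : ℕ} [Fact r.Prime] (hrq : ¬ r ∣ Fintype.card F)
    (h : r ∣ Nat.card (Pairs F d)) : ∃ j, 1 ≤ j ∧ j ≤ d ∧ r ∣ Fintype.card F ^ j + 1 := by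
  classical
  set q := Fintype.card F
  have hmul := card_pairs_mul (F := F) (d := d)
  rw [Nat.card_congr (spEquiv d).toEquiv.symm, card_symplecticGroup, Matrix.card_GL_field] at hmul
  have h1 : ∏ i : Fin d, (q ^ d - q ^ (i : ℕ)) =
      (∏ i : Fin d, q ^ (i : ℕ)) * ∏ j ∈ Finset.range d, (q ^ (j + 1) - 1) := by
    rw [← Finset.prod_range_reflect, ← Fin.prod_univ_eq_prod_range, ← Finset.prod_mul_distrib]
    refine Finset.prod_congr rfl fun i _ => ?_
    rw [Nat.mul_sub_one, ← pow_add]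
    congr 2
    omega
  have h2 : ∏ j ∈ Finset.range d, (q ^ (2 * (j + 1)) - 1) =
      (∏ j ∈ Finset.range d, (q ^ (j + 1) + 1)) * ∏ j ∈ Finset.range d, (q ^ (j + 1) - 1) := by
    rw [← Finset.prod_mul_distrib]
    exact Finset.prod_congr rfl fun j _ => by
      rw [← Nat.sq_sub_sq, one_pow, ← pow_mul, mul_comm 2]
  rw [h1, h2, ← mul_assoc, ← mul_assoc] at hmul
  have hpos : 0 < ∏ j ∈ Finset.range d, (q ^ (j + 1) - 1) := Finset.prod_pos fun j _ => by
    have : q ≤ q ^ (j + 1) := Nat.le_self_pow (by omega) q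
    have : 1 < q := Fintype.one_lt_card
    omega
  have h3 := Nat.eq_of_mul_eq_mul_right hpos hmul
  have h4 := h3 ▸ dvd_mul_of_dvd_left h (∏ i : Fin d, q ^ (i : ℕ))
  have hr := (Fact.out : r.Prime)
  rcases hr.dvd_mul.1 h4 with h5 | h5
  · exact absurd (hr.dvd_of_dvd_pow h5) hrq
  · obtain ⟨j, hj, hjd⟩ := (hr.prime.dvd_finset_prod_iff _).1 h5
    exact ⟨j + 1, by omega, Finset.mem_range.1 hj, hjd⟩

end Aux

/-- Derangements of odd prime order of PSp_n(q), q odd, on pairs of complementary totally isotropic subspaces. Here `T = PSp_n(q)`, `n = 2d ≥ 4`, `q` odd, realised through the symplectic matrices over the field `F` with `q` elements; Ω is the set of unordered pairs `{U, W}` of complementary totally isotropic `d`-spaces (`F^n = U ⊕ W`), whose stabilizers are the subgroups of type GL_d(q).2 (maximal except in some small cases; maximality is not assumed); an element of `T` of prime order `r` (a symplectic matrix `x` with `x^r` scalar, `x` not scalar) fixes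 such a pair when it fixes or interchanges `U` and `W`. For every odd prime `r ≠ p` dividing the number of such pairs, some element of `T` of order `r` fixes no such pair (the action is never `r`-elusive for odd `r ≠ p`). -/
theorem result {F : Type*} [Field F] [Fintype F] {p : ℕ} [Fact p.Prime] [CharP F p] {q : ℕ} (hq : Fintype.card F = q)
    (d : ℕ) (hd : 2 ≤ d) (hT : (d, q) ≠ (2, 2)) (hodd : Odd q)
    (r : ℕ) [Fact r.Prime] (hr2 : r ≠ 2) (hrp : r ≠ p) (hΩ : r ∣ Nat.card {P : Submodule F (Fin d ⊕ Fin d → F) × Submodule F (Fin d ⊕ Fin d → F) // IsCompl P.1 P.2 ∧ (∀ u ∈ P.1, ∀ v ∈ P.1, Cfsg.sympForm d F u v = 0) ∧ (∀ u ∈ P.2, ∀ v ∈ P.2, Cfsg.sympForm d F u v = 0)} / 2) :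
    ∃ x : ↥(Matrix.symplecticGroup (Fin d) F),
      (∃ z : F, ((x ^ r : ↥(Matrix.symplecticGroup (Fin d) F)) : Matrix (Fin d ⊕ Fin d) (Fin d ⊕ Fin d) F) = z • (1 : Matrix (Fin d ⊕ Fin d) (Fin d ⊕ Fin d) F)) ∧
      (∀ z : F, (x : Matrix (Fin d ⊕ Fin d) (Fin d ⊕ Fin d) F) ≠ z • (1 : Matrix (Fin d ⊕ Fin d) (Fin d ⊕ Fin d) F)) ∧
      ¬ (∃ U W : Submodule F (Fin d ⊕ Fin d → F), IsCompl U W ∧ (∀ u ∈ U, ∀ v ∈ U, Cfsg.sympForm d F u v = 0) ∧ (∀ u ∈ W, ∀ v ∈ W, Cfsg.sympForm d F u v = 0) ∧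
        ((U.map (Matrix.toLin' (x : Matrix (Fin d ⊕ Fin d) (Fin d ⊕ Fin d) F)) = U ∧ W.map (Matrix.toLin' (x : Matrix (Fin d ⊕ Fin d) (Fin d ⊕ Fin d) F)) = W) ∨
         (U.map (Matrix.toLin' (x : Matrix (Fin d ⊕ Fin d) (Fin d ⊕ Fin d) F)) = W ∧ W.map (Matrix.toLin' (x : Matrix (Fin d ⊕ Fin d) (Fin d ⊕ Fin d) F)) = U))) := by
  classical
  have hr := (Fact.out : r.Prime)
  have hr0 : (r : F) ≠ 0 := fun h =>
    hrp ((Nat.prime_dvd_prime_iff_eq (Fact.out : p.Prime) hr).1 ((CharP.cast_eq_zero_iff F p r).1 h)).symm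
  have hrq : ¬ r ∣ Fintype.card F := fun h => by
    obtain ⟨e, hp, he⟩ := FiniteField.card F p
    rw [he] at h
    exact hrp ((Nat.prime_dvd_prime_iff_eq hr hp).1 (hr.dvd_of_dvd_pow h))
  have hev : 2 ∣ Nat.card (Pairs F d) := by
    haveI : Finite (Pairs F d) := inferInstance
    haveI := Fintype.ofFinite (Pairs F d)
    let σ : Equiv.Perm (Pairs F d) :=
      ⟨fun P => ⟨(P.1.2, P.1.1), P.2.1.symm, P.2.2.2, P.2.2.1⟩,
        fun P => ⟨(P.1.2, P.1.1), P.2.1.symm, P.2.2.2, P.2.2.1⟩, fun P => rfl, fun P => rfl⟩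
    have hσ : σ ^ 2 ^ 1 = 1 := by
      ext P <;> rfl
    have h := Equiv.Perm.card_compl_support_modEq (σ := σ) hσ
    have h1 : σ.supportᶜ = ∅ := by
      ext P
      simp only [Finset.mem_compl, Equiv.Perm.mem_support, not_not, Finset.notMem_empty, iff_false]
      intro hP
      have h12 : P.1.2 = P.1.1 := congrArg (fun P : Pairs F d => P.1.1) hP
      have hb := P.2.1.inf_eq_bot
      rw [h12, inf_idem] at hb
      have hfin := (finrank_pair P.2.1 P.2.2.1 P.2.2.2).1
      rw [hb, finrank_bot] at hfin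
      omega
    rw [h1, Finset.card_empty, ← Nat.card_eq_fintype_card] at h
    exact (Nat.modEq_zero_iff_dvd).1 h.symm
  have hΩ' : r ∣ Nat.card (Pairs F d) := by
    have h := dvd_mul_of_dvd_left hΩ 2
    rwa [Nat.div_mul_cancel hev] at h
  obtain ⟨j, hj1, hjd, hj⟩ := exists_dvd_of_dvd_card hrq hΩ'
  set c := orderOf (Fintype.card F : ZMod r) with hc
  have hjneg : (Fintype.card F : ZMod r) ^ j = -1 := by
    rw [eq_neg_iff_add_eq_zero]
    exact_mod_cast (ZMod.natCast_eq_zero_iff _ _).2 hj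
  have h2j : c ∣ 2 * j := orderOf_dvd_of_pow_eq_one (by rw [mul_comm, pow_mul, hjneg]; ring)
  have hnj : ¬ c ∣ j := fun h => by
    have h1 := orderOf_dvd_iff_pow_eq_one.1 h
    rw [hjneg] at h1
    have h2 : ((2 : ℕ) : ZMod r) = 0 := by push_cast; linear_combination -h1
    rw [ZMod.natCast_eq_zero_iff] at h2
    exact hr2 ((Nat.prime_dvd_prime_iff_eq hr Nat.prime_two).1 h2)
  obtain ⟨t, ht⟩ : Even c := by
    rw [← Nat.not_odd_iff_even]
    exact fun ho => hnj ((Nat.coprime_two_right.2 ho).dvd_of_dvd_mul_left h2j)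
  have hcle : c ≤ 2 * j := Nat.le_of_dvd (by omega) h2j
  have ht0 : 0 < t := by
    rcases Nat.eq_zero_or_pos t with h | h
    · subst h
      rw [ht] at h2j
      simp only [add_zero, zero_dvd_iff] at h2j
      omega
    · exact h
  obtain ⟨Y, hYr, hYp, hYd⟩ := SympFpf.exists_moved_block (F := F) (r := r) hr0 (d := d) (t := t) ht0 (by omega)
    (by omega)
  let x : ↥(Matrix.symplecticGroup (Fin d) F) := ⟨Y, (mem_symplecticGroup_iff_preserves d).2 hYp⟩
  let L : Module.End F (Fin d ⊕ Fin d → F) := Matrix.toLinAlgEquiv' Y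
  have hLa : ∀ v, L v = Y *ᵥ v := fun v => rfl
  have hfr : finrank F (Fin d ⊕ Fin d → F) = 2 * d := by simp [two_mul]
  have hLr : L ^ r = 1 := by rw [← map_pow, hYr, map_one]
  have hLB : ∀ u v, sympBil F d (L u) (L v) = sympBil F d u v := fun u v => by
    rw [sympBil_apply, sympBil_apply, hLa, hLa, hYp]
  obtain ⟨E, hcE, hEi, hEn, -, -, hEd⟩ := SympFpf.exists_moved (sympBil_isAlt d) (sympBil_nondegenerate (F := F) d)
    hr0 hLr hLB
  have hE : finrank F E = 2 * t := by
    have h := Submodule.finrank_add_eq_of_isCompl hcE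
    rw [hfr] at h
    have h' : finrank F (L.eigenspace 1) + 2 * t = 2 * d := hYd
    omega
  have hEne : E ≠ ⊥ := fun h => by rw [h, finrank_bot] at hE; omega
  refine ⟨x, ⟨1, by rw [one_smul]; exact hYr⟩, fun z hz => ?_, ?_⟩
  · -- a scalar isometry of odd order is trivial
    have hzr : z ^ r = 1 := by
      have h := congrArg (fun M : Matrix (Fin d ⊕ Fin d) (Fin d ⊕ Fin d) F => M (Sum.inl ⟨0, by omega⟩)
        (Sum.inl ⟨0, by omega⟩)) hYr
      simp only [show Y = z • 1 from hz, smul_pow, one_pow] at h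
      simpa using h
    have hz2 : z ^ 2 = 1 := by
      have h := hYp (Pi.single (Sum.inr ⟨0, by omega⟩) 1) (Pi.single (Sum.inl ⟨0, by omega⟩) 1)
      simp only [show Y = z • 1 from hz, Matrix.smul_mulVec, Matrix.one_mulVec] at h
      simpa [sympForm_eq, Pi.single_apply, pow_two] using h
    have hz1 : z = 1 := by
      obtain ⟨k, hk⟩ := hr.odd_of_ne_two hr2
      rwa [hk, pow_succ, pow_mul, hz2, one_pow, one_mul] at hzr
    apply hEne
    have hL1 : L.eigenspace 1 = ⊤ := eq_top_iff.2 fun v _ => by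
      rw [Module.End.mem_eigenspace_iff, hLa, show Y = z • 1 from hz, hz1]
      simp
    have h := hcE.disjoint
    rwa [hL1, disjoint_comm, disjoint_top] at h
  rintro ⟨U, W, hUW, hU, hW, hfix⟩
  have hfix' : U.map L = U ∧ W.map L = W := by
    rcases hfix with h | ⟨h1, h2⟩
    · exact h
    exfalso
    have hpar : ∀ k : ℕ, U.map (L ^ k) = if Even k then U else W := by
      intro k
      induction k with
      | zero => simp [Module.End.one_eq_id]
      | succ k ih =>
        rw [pow_succ', Module.End.mul_eq_comp, Submodule.map_comp, ih]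
        by_cases hk : Even k
        · rw [if_pos hk, if_neg (by simp [Nat.even_add_one, hk])]; exact h1
        · rw [if_neg hk, if_pos (by simp [Nat.even_add_one, hk])]; exact h2
    have h := hpar r
    rw [hLr, Module.End.one_eq_id, Submodule.map_id, if_neg (Nat.not_even_iff_odd.2 (hr.odd_of_ne_two hr2))] at h
    have hb := hUW.inf_eq_bot
    rw [← h, inf_idem] at hb
    have hfin := (finrank_pair hUW hU hW).1
    rw [hb, finrank_bot] at hfin
    omega
  have hsplit : ∀ A : Submodule F (Fin d ⊕ Fin d → F), LinElusive.Inv L A →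
      finrank F A ≤ finrank F (A ⊓ L.eigenspace 1 : Submodule F _) + finrank F (A ⊓ E : Submodule F _) := by
    intro A hA
    let T : A →ₗ[F] (Fin d ⊕ Fin d → F) := (L - 1).comp A.subtype
    have hTa : ∀ a : A, T a = L a - a := fun a => rfl
    have h1 : LinearMap.range T ≤ A ⊓ E := by
      rintro _ ⟨a, rfl⟩
      refine ⟨sub_mem (hA.mem a.2) a.2, ?_⟩
      obtain ⟨z, hz, e, he, hze⟩ := Submodule.mem_sup.1 (hcE.sup_eq_top ▸ Submodule.mem_top (x := (a : Fin d ⊕ Fin d → F)))
      rw [Module.End.mem_eigenspace_iff, one_smul] at hz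
      rw [SetLike.mem_coe, hTa, ← hze, map_add, hz, add_sub_add_left_eq_sub]
      exact sub_mem (hEi.mem he) he
    have h2 : (LinearMap.ker T).map A.subtype ≤ A ⊓ L.eigenspace 1 := by
      rintro _ ⟨a, ha, rfl⟩
      refine ⟨a.2, ?_⟩
      rw [SetLike.mem_coe, LinearMap.mem_ker, hTa, sub_eq_zero] at ha
      rw [SetLike.mem_coe, Module.End.mem_eigenspace_iff, one_smul]
      exact ha
    have h3 := Submodule.finrank_mono h1
    have h4 := Submodule.finrank_mono h2
    rw [Submodule.finrank_map_subtype_eq] at h4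
    have h5 := LinearMap.finrank_range_add_finrank_ker T
    omega
  have hUi : LinElusive.Inv L U := le_of_eq hfix'.1
  have hWi : LinElusive.Inv L W := le_of_eq hfix'.2
  have h1 := hsplit U hUi
  have h2 := hsplit W hWi
  have h3 := Submodule.finrank_add_eq_of_isCompl hUW
  have h4 : finrank F (U ⊓ L.eigenspace 1 : Submodule F _) + finrank F (W ⊓ L.eigenspace 1 : Submodule F _) ≤
      finrank F (L.eigenspace 1) := by
    rw [← LinElusive.finrank_sup_of_disjoint (hUW.disjoint.mono inf_le_left inf_le_left)]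
    exact Submodule.finrank_mono (sup_le inf_le_right inf_le_right)
  have h5 : finrank F (U ⊓ E : Submodule F _) + finrank F (W ⊓ E : Submodule F _) ≤ finrank F E := by
    rw [← LinElusive.finrank_sup_of_disjoint (hUW.disjoint.mono inf_le_left inf_le_left)]
    exact Submodule.finrank_mono (sup_le inf_le_right inf_le_right)
  have h6 := Submodule.finrank_add_eq_of_isCompl hcE
  have hiso : ∀ A : Submodule F (Fin d ⊕ Fin d → F), (∀ u ∈ A, ∀ v ∈ A, Cfsg.sympForm d F u v = 0) →
      finrank F (A ⊓ E : Submodule F _) < 2 * t := fun A hA => by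
    by_contra hcon
    have hAE : A ⊓ E = E := Submodule.eq_of_le_of_finrank_le inf_le_right (by omega)
    apply hEne
    refine eq_bot_iff.2 fun e he => ?_
    refine Submodule.disjoint_def.1 hEn e he (mem_perp.2 fun w hw => ?_)
    rw [sympBil_apply]
    exact hA w (hAE.symm ▸ hw : w ∈ A ⊓ E).1 e (hAE.symm ▸ he : e ∈ A ⊓ E).1
  have h7 := hEd _ inf_le_right (hUi.inf hEi)
  have h8 := hEd _ inf_le_right (hWi.inf hEi)
  have h9 := hiso U hU
  have h10 := hiso W hW
  rw [← hc, ht] at h7 h8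
  have h11 := Nat.eq_zero_of_dvd_of_lt h7 (by omega)
  have h12 := Nat.eq_zero_of_dvd_of_lt h8 (by omega)
  omega

end Cfsg.Agent.S5963
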