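import Cfsg.Statements.S5964
import Cfsg.Agent.Lib.Derangements.InvolutionClasses
import Cfsg.Agent.Lib.Derangements.LinearElusiveMain
import Cfsg.Agent.Lib.Classical.SubfieldMax.Member
import Cfsg.Agent.Lib.Classical.SLOrders

set_option autoImplicit false
open scoped MatrixGroups
open Cfsg CfsgLib.Derangements CfsgLib.Derangements.LinElusive

namespace Cfsg.Agent.S5964

/-- Involutions of PSL_n(q) and subfield subgroups. Here `T = PSL_n(F)` for a field `F` with `q = p^f` elements (`n ≥ 2`, `(n, q) ≠ (2, 2), (2, 3)`), `F₀` is the subfield with `q₀` elements where `q = q₀^k` for a prime `k`, and `H` is the subgroup of matrices of determinant 1 lying in the subfield group of `F₀` (invertible matrices over `F₀` times scalars) — a maximal subgroup of type GL_n(q₀) (the case `n = 2`, `q₀ = 2` is excluded); Ω is the set of `T`-conjugates of `H` (cosets of `H`), so an element of `T` of prime order `r` (a matrix `x` of determinant 1 with `x^r` scalar, `x` not scalar) fixes a point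 of Ω when some conjugate of `x` by a matrix of determinant 1 lies in `H`. Suppose the index of `H` is even. Then every involution of `T` is conjugate in `T` into `H` if and only if either `q` is even, or `k = 2` and `(n)_2 ≤ (q − 1)_2`. (For `q` odd and `k` odd the index of `H` is odd, so that case does not arise.) -/
theorem result {F : Type*} [Field F] [Fintype F] {p : ℕ} [Fact p.Prime] [CharP F p] {q : ℕ} (hq : Fintype.card F = q)
    (n : ℕ) (hn : 2 ≤ n) (hT : (n, q) ≠ (2, 2) ∧ (n, q) ≠ (2, 3))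
    (F₀ : Subfield F) (k q₀ : ℕ) (hk : k.Prime) (hF₀ : Nat.card ↥F₀ = q₀) (hqk : q = q₀ ^ k) (hC5 : ¬ (n = 2 ∧ q₀ = 2)) (hΩ : 2 ∣ ((Cfsg.Geo.subfieldSubgroup F₀ 1).comap (Matrix.SpecialLinearGroup.toGL : Matrix.SpecialLinearGroup (Fin n) F →* GL (Fin n) F)).index) :
    (∀ x : Matrix.SpecialLinearGroup (Fin n) F,
      (∃ z : F, ((x ^ 2 : Matrix.SpecialLinearGroup (Fin n) F) : Matrix (Fin n) (Fin n) F) = z • (1 : Matrix (Fin n) (Fin n) F)) →
      (∀ z : F, (x : Matrix (Fin n) (Fin n) F) ≠ z • (1 : Matrix (Fin n) (Fin n) F)) →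
      ∃ P : Matrix.SpecialLinearGroup (Fin n) F, P⁻¹ * x * P ∈ ((Cfsg.Geo.subfieldSubgroup F₀ 1).comap (Matrix.SpecialLinearGroup.toGL : Matrix.SpecialLinearGroup (Fin n) F →* GL (Fin n) F))) ↔
    (Odd q → (k = 2 ∧ padicValNat 2 n ≤ padicValNat 2 (q - 1))) := by
  classical
  subst hq
  haveI : Nonempty (Fin n) := ⟨⟨0, by omega⟩⟩
  have hodd_iff : Odd (Fintype.card F) ↔ ringChar F ≠ 2 :=
    ⟨fun h hc => by
      haveI : CharP F 2 := hc ▸ ringChar.charP F
      obtain ⟨k, -, hk⟩ := FiniteField.card F 2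
      rw [hk, Nat.odd_pow_iff k.ne_zero] at h
      exact absurd h (by decide), fun h => Nat.odd_iff.2 (FiniteField.odd_card_of_char_ne_two h)⟩
  have htwo : Odd (Fintype.card F) → ((2 : ℕ) : F) ≠ 0 := fun h => by
    exact_mod_cast Ring.two_ne_zero (hodd_iff.1 h)
  have hdetx : ∀ x : Matrix.SpecialLinearGroup (Fin n) F,
      LinearMap.det (Matrix.toLin' (x : Matrix (Fin n) (Fin n) F)) = 1 := fun x =>
    (LinearMap.det_toLin' _).trans x.2
  have hkk : Odd (Fintype.card F) → k = 2 := by
    intro hodd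
    by_contra hk2
    have hkodd : Odd k := hk.odd_of_ne_two hk2
    letI : Fintype ↥F₀ := Fintype.ofFinite _
    have hq0 : Fintype.card ↥F₀ = q₀ := by rw [← hF₀, Nat.card_eq_fintype_card]
    have hq0odd : Odd q₀ := (Nat.odd_pow_iff hk.ne_zero).1 (hqk ▸ hodd)
    have hq01 : 1 < q₀ := hq0 ▸ Fintype.one_lt_card
    have hgeo : ∀ j, ∃ o, Odd o ∧ (q₀ ^ k) ^ j - 1 = (q₀ ^ j - 1) * o := fun j => by
      refine ⟨∑ i ∈ Finset.range k, (q₀ ^ j) ^ i, ?_, ?_⟩
      · rw [Finset.odd_sum_iff_odd_card_odd, Finset.filter_true_of_mem fun i _ => (hq0odd.pow).pow,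
          Finset.card_range]
        exact hkodd
      · have h := geom_sum_mul_add (q₀ ^ j - 1) k
        rw [Nat.sub_add_cancel (Nat.one_le_pow _ _ (by omega))] at h
        rw [← pow_mul, mul_comm k j, pow_mul, mul_comm (q₀ ^ j - 1)]
        omega
    choose o ho ho' using hgeo
    let f : Matrix.SpecialLinearGroup (Fin n) ↥F₀ →* Matrix.SpecialLinearGroup (Fin n) F :=
      Matrix.SpecialLinearGroup.map F₀.subtype
    have hf : Function.Injective f := fun a b h => by
      refine Subtype.ext (Matrix.ext fun i j => Subtype.ext ?_)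
      exact congrFun (congrFun (congrArg Subtype.val h) i) j
    have hle : f.range ≤ (Cfsg.Geo.subfieldSubgroup F₀ (1 : GL (Fin n) F)).comap Matrix.SpecialLinearGroup.toGL := by
      rintro _ ⟨a, rfl⟩
      refine (CfsgLib.Classical.SubfieldMax.mem_subfieldSubgroup_iff _ _ _).2 ⟨1, one_ne_zero, fun i j => ?_⟩
      rw [inv_one, one_mul, mul_one, one_mul]
      exact (a.1 i j).2
    have hidx := hΩ.trans (Subgroup.index_dvd_of_le hle)
    have hmul : f.range.index * Nat.card (Matrix.SpecialLinearGroup (Fin n) ↥F₀) =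
        Nat.card (Matrix.SpecialLinearGroup (Fin n) F) := by
      rw [show Nat.card (Matrix.SpecialLinearGroup (Fin n) ↥F₀) = Nat.card f.range from
        Nat.card_congr (MonoidHom.ofInjective hf).toEquiv, Subgroup.index_mul_card]
    have hC := CfsgLib.Classical.card_sl_mul hqk n (by omega)
    have hC0 := CfsgLib.Classical.card_sl_mul hq0 n (by omega)
    have hfac : ∀ i : Fin n, (q₀ ^ k) ^ n - (q₀ ^ k) ^ (i : ℕ) =
        (q₀ ^ n - q₀ ^ (i : ℕ)) * (q₀ ^ ((k - 1) * i.1) * o (n - i)) := fun i => by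
      have h1 : ∀ a : ℕ, a ^ n - a ^ (i : ℕ) = a ^ (i : ℕ) * (a ^ (n - i) - 1) := fun a => by
        rw [Nat.mul_sub_one, ← pow_add, Nat.add_sub_cancel' (by omega)]
      have h2 : (q₀ ^ k) ^ (i : ℕ) = q₀ ^ (i : ℕ) * q₀ ^ ((k - 1) * i.1) := by
        rw [← pow_mul, ← pow_add]
        congr 1
        obtain ⟨k', rfl⟩ : ∃ k', k = k' + 1 := ⟨k - 1, by have := hk.pos; omega⟩
        rw [Nat.add_sub_cancel]; ring
      rw [h1, h1, h2, ho']
      ring
    rw [Finset.prod_congr rfl fun i _ => hfac i, Finset.prod_mul_distrib, ← hC0, ← hmul] at hC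
    have h1 : q₀ ^ k - 1 = (q₀ - 1) * o 1 := by simpa using ho' 1
    have hpos : 0 < (q₀ - 1) * Nat.card (Matrix.SpecialLinearGroup (Fin n) ↥F₀) :=
      Nat.mul_pos (by omega) Nat.card_pos
    have heq : o 1 * f.range.index = ∏ i : Fin n, q₀ ^ ((k - 1) * i.1) * o (n - i) := by
      refine Nat.eq_of_mul_eq_mul_left hpos (Eq.trans ?_ hC)
      rw [h1]; ring
    have hO : Odd (∏ i : Fin n, q₀ ^ ((k - 1) * i.1) * o (n - i)) :=
      Finset.prod_induction _ Odd (fun a b => Odd.mul) odd_one fun i _ => hq0odd.pow.mul (ho _)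
    rw [← heq, Nat.odd_mul] at hO
    exact Nat.not_even_iff_odd.2 hO.2 (even_iff_two_dvd.2 hidx)
  have hmodfour : k = 2 → Odd (Fintype.card F) → Fintype.card F % 4 = 1 := fun h hodd => by
    subst h
    rw [hqk] at hodd ⊢
    obtain ⟨c, rfl⟩ := (Nat.odd_pow_iff two_ne_zero).1 hodd
    ring_nf
    omega
  have hsq : k = 2 → ∀ a ∈ F₀, IsSquare a := fun h a ha => by
    rcases eq_or_ne a 0 with rfl | ha0
    · exact IsSquare.zero
    by_cases hc : ringChar F = 2
    · exact FiniteField.isSquare_of_char_two hc a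
    letI : Fintype ↥F₀ := Fintype.ofFinite _
    rw [FiniteField.isSquare_iff hc ha0]
    have hq0 : Fintype.card ↥F₀ = q₀ := by rw [← hF₀, Nat.card_eq_fintype_card]
    have h1 : a ^ (q₀ - 1) = 1 := by
      have := FiniteField.pow_card_sub_one_eq_one (⟨a, ha⟩ : ↥F₀) (fun h0 => ha0 (congrArg Subtype.val h0))
      rw [hq0] at this
      simpa using congrArg Subtype.val this
    obtain ⟨c, rfl⟩ : Odd q₀ := (Nat.odd_pow_iff hk.ne_zero).1 (hqk ▸ hodd_iff.2 hc)
    rw [hqk, h, show (2 * c + 1) ^ 2 / 2 = (2 * c + 1 - 1) * (c + 1) by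
      rw [Nat.add_sub_cancel, show (2 * c + 1) ^ 2 = 2 * (2 * c * (c + 1)) + 1 by ring]; omega, pow_mul, h1, one_pow]
  constructor
  · intro hall hodd
    refine ⟨hkk hodd, by_contra fun hP => ?_⟩
    have hr := htwo hodd
    have hn2 : 2 ∣ n := by
      by_contra hno
      exact hP (by rw [padicValNat.eq_zero_of_not_dvd hno]; exact Nat.zero_le _)
    have hd1 : 2 ∣ Fintype.card F - 1 := by
      obtain ⟨c, hc⟩ := hodd
      exact ⟨c, by omega⟩
    obtain ⟨c, hc, hcd⟩ := (exists_kummer_scalar_iff hr (by omega) hn2 hd1).2 fun h => hP h.1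
    obtain ⟨T, hT, hTd, hTs⟩ := exists_kummer_witness hr (by omega) hn2 hc hcd
    let x : Matrix.SpecialLinearGroup (Fin n) F := ⟨LinearMap.toMatrix' T, (LinearMap.det_toMatrix' T).trans hTd⟩
    have hz : ((x ^ 2 : Matrix.SpecialLinearGroup (Fin n) F) : Matrix (Fin n) (Fin n) F) =
        c • (1 : Matrix (Fin n) (Fin n) F) := by
      show LinearMap.toMatrixAlgEquiv' T ^ 2 = _
      rw [← map_pow, hT, AlgEquiv.commutes, Algebra.algebraMap_eq_smul_one]
    obtain ⟨P, hP'⟩ := (InvCl.exists_sl_conj_iff (by omega) x hz _).1 (hall x ⟨c, hz⟩ fun z hzz => hTs z (by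
      apply LinearMap.toMatrixAlgEquiv'.injective
      rw [AlgEquiv.commutes, Algebra.algebraMap_eq_smul_one]
      exact hzz))
    obtain ⟨a, ha0, ha⟩ := (CfsgLib.Classical.SubfieldMax.mem_subfieldSubgroup_iff _ _ _).1 hP'
    rw [inv_one, one_mul, mul_one] at ha
    set M := ((P⁻¹ * Matrix.SpecialLinearGroup.toGL x * P : GL (Fin n) F) : Matrix (Fin n) (Fin n) F) with hMdef
    have hM : M * M = c • (1 : Matrix (Fin n) (Fin n) F) := by
      rw [hMdef, ← Units.val_mul, show P⁻¹ * Matrix.SpecialLinearGroup.toGL x * P *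
        (P⁻¹ * Matrix.SpecialLinearGroup.toGL x * P) = P⁻¹ * (Matrix.SpecialLinearGroup.toGL (x ^ 2)) * P by
          rw [map_pow, pow_two]; group, Units.val_mul, Units.val_mul]
      show _ * ((x ^ 2 : Matrix.SpecialLinearGroup (Fin n) F) : Matrix (Fin n) (Fin n) F) * _ = _
      rw [hz, Matrix.mul_smul, Matrix.mul_one, Matrix.smul_mul, ← Units.val_mul, inv_mul_cancel, Units.val_one]
    let i₀ : Fin n := ⟨0, by omega⟩
    have hmem : a * a * c ∈ F₀ := by
      have h1 : (M * M) i₀ i₀ = c := by rw [hM]; simp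
      rw [Matrix.mul_apply] at h1
      rw [← h1, Finset.mul_sum]
      refine F₀.sum_mem fun j _ => ?_
      have h2 := F₀.mul_mem (ha i₀ j) (ha j i₀)
      rwa [show a * a * (M i₀ j * M j i₀) = a * M i₀ j * (a * M j i₀) by ring]
    obtain ⟨e, he⟩ := hsq (hkk hodd) _ hmem
    refine hc (a⁻¹ * e) ?_
    rw [mul_pow, pow_two e, ← he]
    field_simp
  · intro hcond x hx hxs
    obtain ⟨z, hz⟩ := hx
    rw [InvCl.exists_sl_conj_iff (by omega) x hz]
    let L := Matrix.toLin' (x : Matrix (Fin n) (Fin n) F)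
    obtain ⟨d, hd, hd2⟩ : ∃ d : F, d ≠ 0 ∧ d * d = z := by
      have hz0 : z ≠ 0 := fun h0 => by
        have h := congrArg Matrix.det hz
        rw [Matrix.SpecialLinearGroup.det_coe, h0, zero_smul, Matrix.det_zero] at h
        exact one_ne_zero h
      obtain ⟨d, hd⟩ : IsSquare z := by
        by_cases hc : ringChar F = 2
        · exact FiniteField.isSquare_of_char_two hc z
        by_contra hns
        have hr := htwo (hodd_iff.2 hc)
        have hnp : ∀ e : F, e ^ 2 ≠ z := fun e he => hns ⟨e, by rw [← he, pow_two]⟩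
        obtain ⟨hk2, hv⟩ := hcond (hodd_iff.2 hc)
        rcases cases_of_pow_eq (c := z) hr (by omega) (hdetx x) (LinearMap.ext fun u => by
            rw [pow_two, Module.End.mul_apply, Module.algebraMap_end_apply]
            exact InvCl.sl_sq hz u) with ⟨d, hd, hpow⟩ | ⟨-, h1, hrn, hcd⟩
        · refine hnp d ?_
          obtain ⟨v, hv⟩ := exists_ne (0 : Fin n → F)
          have := LinearMap.congr_fun hpow v
          simp only [pow_two, Module.End.mul_apply, LinearMap.smul_apply, map_smul, Module.End.one_apply,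
            InvCl.sl_sq hz, smul_smul] at this
          have h := smul_left_injective F hv (this.trans (one_smul F v).symm)
          field_simp at h
          linear_combination -h
        · exact (exists_kummer_scalar_iff hr (by omega) hrn h1).1 ⟨z, hnp, hcd⟩
            ⟨hv, fun _ _ => hmodfour hk2 (hodd_iff.2 hc)⟩
      exact ⟨d, fun h0 => hz0 (by rw [hd, h0, mul_zero]), hd.symm⟩
    have hy : ∀ u, (d⁻¹ • L) ((d⁻¹ • L) u) = (1 : F) • u := fun u => by
      simp only [LinearMap.smul_apply, map_smul, L, InvCl.sl_sq hz, smul_smul]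
      congr 1
      field_simp
      linear_combination -hd2
    obtain ⟨ι, ν, _, _, c, b, h0, h1, h2, h3⟩ := InvCl.exists_split (d⁻¹ • L) 1 hy
    have hcard : Fintype.card ((ι × Fin 2) ⊕ ν) = n := by
      rw [← Module.finrank_eq_card_basis b, Module.finrank_fin_fun]
    let b' := b.reindex (Fintype.equivFinOfCardEq hcard)
    obtain ⟨P, hP⟩ := InvCl.exists_gl_of_equiv (Matrix.SpecialLinearGroup.toGL x) b'.equivFun.symm
    refine ⟨P, (CfsgLib.Classical.SubfieldMax.mem_subfieldSubgroup_iff _ _ _).2 ⟨d⁻¹, inv_ne_zero hd, fun i j => ?_⟩⟩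
    rw [inv_one, one_mul, mul_one]
    have hrep : ∀ l, ∀ i, b'.repr ((d⁻¹ • L) (b l)) i ∈ F₀ := by
      have hbe : ∀ l, b l = b' (Fintype.equivFinOfCardEq hcard l) := fun l => by simp [b']
      have hsingle : ∀ (e : F) (l : (ι × Fin 2) ⊕ ν), e ∈ F₀ → ∀ i, b'.repr (e • b l) i ∈ F₀ := fun e l he i => by
        rw [hbe, map_smul, b'.repr_self, Finsupp.smul_single, smul_eq_mul, mul_one, Finsupp.single_apply]
        split_ifs
        exacts [he, F₀.zero_mem]
      rintro (⟨l, s⟩ | l) i
      · fin_cases s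
        · show b'.repr ((d⁻¹ • L) (b (.inl (l, 0)))) i ∈ F₀
          rw [h0, ← one_smul F (b (.inl (l, 1)))]
          exact hsingle 1 _ F₀.one_mem i
        · show b'.repr ((d⁻¹ • L) (b (.inl (l, 1)))) i ∈ F₀
          rw [h1]
          exact hsingle 1 _ F₀.one_mem i
      · rw [h2]
        refine hsingle c _ ?_ i
        rcases mul_self_eq_one_iff.1 (h3 ⟨l⟩) with h | h <;> rw [h]
        exacts [F₀.one_mem, F₀.neg_mem F₀.one_mem]
    have hM := hP (Pi.single j 1)
    rw [Matrix.mulVec_single_one] at hM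
    have hMij := congrFun hM i
    simp only [Matrix.col_apply, LinearEquiv.symm_symm] at hMij
    rw [hMij]
    have := hrep ((Fintype.equivFinOfCardEq hcard).symm j) i
    rw [LinearMap.smul_apply, map_smul, Finsupp.smul_apply, smul_eq_mul] at this
    rw [Module.Basis.equivFun_apply]
    convert this using 4
    simp [L, b', Matrix.toLin'_apply, Module.Basis.equivFun_symm_apply, Pi.single_apply]


end Cfsg.Agent.S5964
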