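import Cfsg.Statements.S5982
import Cfsg.Agent.S5976
import Cfsg.Agent.Lib.Classical.HermCount
import Cfsg.Agent.Lib.Classical.HermBasic
import Cfsg.Agent.Lib.Derangements.InvolutionClasses
import Cfsg.Agent.Lib.Derangements.LinearElusiveMain
-- import your own Cfsg.Agent.* helpers here

set_option autoImplicit false
open scoped MatrixGroups
open Cfsg

namespace Cfsg.Agent.S5982

open Module Matrix CfsgLib.Classical CfsgLib.Derangements
open scoped Kronecker

section Herm

variable {F : Type*} [Field F] [Fintype F] {σ : F →+* F} {n : ℕ}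
  {h : (Fin n → F) →ₛₗ[σ] (Fin n → F) →ₗ[F] F}

omit [Fintype F] in
/-- The value of a sesquilinear form in terms of the standard basis. -/
theorem expand (u v : Fin n → F) : h u v = ∑ k, σ (u k) * h (Pi.single k 1) v := by
  conv_lhs => rw [pi_eq_sum_univ' u]
  simp only [map_sum, map_smulₛₗ, LinearMap.sum_apply, LinearMap.smul_apply, smul_eq_mul]

omit [Fintype F] in
/-- The Gram matrix of a change of coordinates is invertible. -/
theorem gram_det (hN : h.SeparatingRight) (g : GL (Fin n) F) :
    (Matrix.of fun k l => h ((g : Matrix (Fin n) (Fin n) F) *ᵥ Pi.single k 1)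
      ((g : Matrix (Fin n) (Fin n) F) *ᵥ Pi.single l 1)).det ≠ 0 := by
  intro h0
  obtain ⟨v, hv, hv0⟩ := Matrix.exists_mulVec_eq_zero_iff.2 h0
  have key : ∀ k, h ((g : Matrix (Fin n) (Fin n) F) *ᵥ Pi.single k 1) ((g : Matrix (Fin n) (Fin n) F) *ᵥ v) = 0 := by
    intro k
    have h1 := congrFun hv0 k
    simp only [Matrix.mulVec, dotProduct, Matrix.of_apply, Pi.zero_apply] at h1
    conv_lhs => rw [pi_eq_sum_univ' v, Matrix.mulVec_sum, map_sum]
    simp only [Matrix.mulVec_smul, map_smul, smul_eq_mul]
    rw [← h1]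
    exact Finset.sum_congr rfl fun l _ => mul_comm _ _
  have hgv : (g : Matrix (Fin n) (Fin n) F) *ᵥ v = 0 := hN _ fun u => by
    obtain ⟨w, rfl⟩ : ∃ w, (g : Matrix (Fin n) (Fin n) F) *ᵥ w = u :=
      ⟨((g⁻¹ : GL (Fin n) F) : Matrix (Fin n) (Fin n) F) *ᵥ u, by
        rw [Matrix.mulVec_mulVec, ← Units.val_mul, mul_inv_cancel, Units.val_one, Matrix.one_mulVec]⟩
    conv_lhs => rw [pi_eq_sum_univ' w, Matrix.mulVec_sum]
    simp only [Matrix.mulVec_smul, map_sum, map_smulₛₗ, LinearMap.sum_apply, LinearMap.smul_apply, key, smul_zero,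
      Finset.sum_const_zero]
  apply hv
  have h2 := congrArg (((g⁻¹ : GL (Fin n) F) : Matrix (Fin n) (Fin n) F) *ᵥ ·) hgv
  simpa only [Matrix.mulVec_mulVec, ← Units.val_mul, inv_mul_cancel, Units.val_one, Matrix.one_mulVec,
    Matrix.mulVec_zero] using h2

omit [Fintype F] in
/-- Rows of an invertible matrix supported in a set of columns are at most as many as the columns. -/
theorem card_le {G : Matrix (Fin n) (Fin n) F} (hG : G.det ≠ 0) (S T : Finset (Fin n))
    (hST : ∀ k ∈ S, ∀ l, l ∉ T → G k l = 0) : S.card ≤ T.card := by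
  classical
  have hli : LinearIndependent F fun k : Fin n => G k :=
    Matrix.linearIndependent_rows_iff_isUnit.2 ((Matrix.isUnit_iff_isUnit_det G).2 (isUnit_iff_ne_zero.2 hG))
  have h1 : LinearIndependent F fun k : S => fun l : T => G k.1 l.1 := by
    rw [Fintype.linearIndependent_iff]
    intro c hc k
    refine Fintype.linearIndependent_iff.1 (hli.comp (Subtype.val : S → Fin n) Subtype.val_injective) c ?_ k
    funext l
    by_cases hl : l ∈ T
    · have := congrFun hc ⟨l, hl⟩
      simpa using this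
    · simp only [Finset.sum_apply, Pi.smul_apply, Function.comp_apply, smul_eq_mul, Pi.zero_apply]
      exact Finset.sum_eq_zero fun k _ => by rw [hST k.1 k.2 l hl, mul_zero]
  have h2 := h1.fintype_card_le_finrank
  simpa using h2

/-- A monomial map compatible with a Hermitian pairing is conjugate to a similitude. -/
theorem mono_good (hh : IsHermitian h) (hN : h.SeparatingRight) {κ : Type} [Fintype κ] [DecidableEq κ]
    (β : Basis κ F (Fin n → F)) (x : GL (Fin n) F) (π τ : κ → κ) (hπ : ∀ k, π (π k) = k)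
    (hτ : Function.Injective τ) (hπτ : ∀ k, π (τ k) = τ (π k)) (w d : κ → F) (hw : ∀ k, w k ≠ 0)
    (hwπ : ∀ k, σ (w k) = w (π k)) (s : F) (hx : ∀ k, (x : Matrix (Fin n) (Fin n) F) *ᵥ β k = d k • β (τ k))
    (hd : ∀ k, σ (d k) * d (π k) * w (τ k) = s * w k) :
    ∃ g : GL (Fin n) F, ∀ u v, h (((g⁻¹ * x * g : GL (Fin n) F) : Matrix (Fin n) (Fin n) F) *ᵥ u)
      (((g⁻¹ * x * g : GL (Fin n) F) : Matrix (Fin n) (Fin n) F) *ᵥ v) = s * h u v := by
  let B : (Fin n → F) →ₛₗ[σ] (Fin n → F) →ₗ[F] F :=
    LinearMap.mk₂'ₛₗ σ (RingHom.id F) (fun u v => ∑ k, w k * σ (β.repr u k) * β.repr v (π k))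
      (fun u u' v => by simp [mul_add, add_mul, Finset.sum_add_distrib])
      (fun c u v => by
        simp only [map_smul, Finsupp.smul_apply, smul_eq_mul, map_mul, Finset.mul_sum]
        exact Finset.sum_congr rfl fun k _ => by ring)
      (fun u v v' => by simp [mul_add, Finset.sum_add_distrib])
      (fun c u v => by
        simp only [map_smul, Finsupp.smul_apply, smul_eq_mul, RingHom.id_apply, Finset.mul_sum]
        exact Finset.sum_congr rfl fun k _ => by ring)
  have hB : ∀ u v, B u v = ∑ k, w k * σ (β.repr u k) * β.repr v (π k) := fun u v => rfl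
  let πe : κ ≃ κ := ⟨π, π, hπ, hπ⟩
  have hBb : ∀ a c, B (β a) (β c) = if π a = c then w a else 0 := fun a c => by
    rw [hB, Finset.sum_eq_single a (fun k _ hk => by simp [hk, Ne.symm hk]) (by simp)]
    by_cases hac : π a = c
    · subst hac; simp
    · simp [hac, Ne.symm hac]
  have hBh : IsHermitian B := ⟨hh.conj, fun u v => by
    rw [hB, hB, map_sum, ← πe.sum_comp]
    refine Finset.sum_congr rfl fun k _ => ?_
    show σ (w (π k) * σ (β.repr u (π k)) * β.repr v (π (π k))) = _
    rw [hπ, map_mul, map_mul, hh.conj.invol, hwπ, hπ]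
    ring⟩
  have hBN : B.SeparatingRight := fun v hv => β.ext_elem fun k => by
    have h1 := hv (β (π k))
    rw [hB, Finset.sum_eq_single (π k) (fun l _ hl => by simp [hl, Ne.symm hl]) (by simp), hπ] at h1
    simpa [hw] using h1
  set T : (Fin n → F) →ₗ[F] (Fin n → F) := Matrix.toLin' (x : Matrix (Fin n) (Fin n) F) with hT
  have hTb : ∀ k, T (β k) = d k • β (τ k) := fun k => by rw [hT, Matrix.toLin'_apply, hx]
  have hpres : ∀ u v, B (T u) (T v) = s * B u v := by
    have key : ∀ a v, B (T (β a)) (T v) = s * B (β a) v := by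
      intro a
      have e : (B (T (β a))).comp T = s • B (β a) := β.ext fun c => by
        rw [LinearMap.comp_apply, LinearMap.smul_apply, hTb, hTb]
        simp only [map_smulₛₗ, RingHom.id_apply, LinearMap.smul_apply, hBb, smul_eq_mul, hπτ]
        by_cases hac : π a = c
        · subst hac
          rw [if_pos rfl, if_pos rfl, ← hd a]
          ring
        · rw [if_neg hac, if_neg fun e => hac (hτ e), mul_zero, mul_zero, mul_zero]
      exact fun v => LinearMap.congr_fun e v
    intro u v
    rw [← β.sum_repr u]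
    simp only [map_sum, map_smul, map_smulₛₗ, LinearMap.sum_apply, LinearMap.smul_apply, smul_eq_mul,
      Finset.mul_sum, key]
    exact Finset.sum_congr rfl fun k _ => by ring
  obtain ⟨e, he⟩ := hBh.exists_isometry hh hBN hN rfl
  obtain ⟨g, hg⟩ := InvCl.exists_gl_of_equiv x e.symm
  refine ⟨g, fun u v => ?_⟩
  rw [hg, hg, LinearEquiv.symm_symm, he]
  show B (T (e.symm u)) (T (e.symm v)) = _
  rw [hpres, ← he, LinearEquiv.apply_symm_apply, LinearEquiv.apply_symm_apply]

/-- An element of order `r` with split eigenvalues has an eigenbasis. -/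
theorem exists_eigen {r : ℕ} [Fact r.Prime] (hr0 : (r : F) ≠ 0) (hq : r ∣ Fintype.card F - 1)
    {L : Module.End F (Fin n → F)} (hL : L ^ r = 1) :
    ∃ (β : Basis (Fin n) F (Fin n → F)) (a : Fin n → F), ∀ k, a k ^ r = 1 ∧ L (β k) = a k • β k := by
  classical
  have hi : orderOf (Fintype.card F : ZMod r) = 1 := by
    rw [orderOf_eq_one_iff]
    rwa [← ZMod.natCast_eq_zero_iff, Nat.cast_sub Fintype.card_pos, sub_eq_zero, Nat.cast_one] at hq
  obtain ⟨E, hc, hs, hu, hf⟩ := LinElusive.exists_structure hr0 hL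
  rw [hi] at hu
  set S : Set (Fin n → F) := {v | ∃ a : F, L v = a • v}
  have hinv : LinElusive.Inv L (Submodule.span F S) := LinElusive.Inv.of_mem fun u hu' => by
    induction hu' using Submodule.span_induction with
    | mem v hv =>
      obtain ⟨a, ha⟩ := hv
      rw [ha]
      exact Submodule.smul_mem _ a (Submodule.subset_span ⟨a, ha⟩)
    | zero => rw [map_zero]; exact Submodule.zero_mem _
    | add u v _ _ h1 h2 => rw [map_add]; exact Submodule.add_mem _ h1 h2
    | smul c v _ h1 => rw [map_smul]; exact Submodule.smul_mem _ c h1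
  obtain ⟨W, hW, hWc⟩ := hs _ hinv
  have hW0 : W = ⊥ := by
    by_contra hne
    have key : ∀ v ∈ W, v ∈ S → v = 0 := fun v hv hvS =>
      Submodule.disjoint_def.1 hWc.disjoint v (Submodule.subset_span hvS) hv
    have h1 : W ⊓ L.eigenspace 1 = ⊥ := (Submodule.eq_bot_iff _).2 fun v hv =>
      key v hv.1 ⟨1, by rw [one_smul]; exact (Module.End.mem_eigenspace_iff.1 hv.2).trans (one_smul F v)⟩
    have h2 := hf W hW
    rw [h1, finrank_bot, zero_add] at h2
    have h3 : W ⊓ E ≠ ⊥ := fun e => hne (Submodule.finrank_eq_zero.1 (by rw [h2, e, finrank_bot]))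
    obtain ⟨U, hU, hUinv, hUd⟩ := hu.exists_le (W ⊓ E) inf_le_right (hW.inf hu.inv) h3
    obtain ⟨v, hv, hspan⟩ := finrank_eq_one_iff'.1 hUd
    obtain ⟨a, ha⟩ := hspan ⟨L v, hUinv.mem v.2⟩
    exact hv (Subtype.ext (key _ (hU v.2).1 ⟨a, (congrArg Subtype.val ha).symm⟩))
  have htop : ⊤ ≤ Submodule.span F S := by
    have := hWc.sup_eq_top
    rw [hW0, sup_bot_eq] at this
    exact this.ge
  let β₀ := Basis.ofSpan htop
  have hβ₀ : ∀ k, β₀ k ∈ S := fun k => Basis.ofSpan_subset htop ⟨k, rfl⟩
  let idx := β₀.indexEquiv (Pi.basisFun F (Fin n))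
  let β := β₀.reindex idx
  have hβ : ∀ k, β k ∈ S := fun k => by simp only [β, Basis.reindex_apply]; exact hβ₀ _
  choose a ha using hβ
  refine ⟨β, a, fun k => ⟨?_, ha k⟩⟩
  have key : ∀ m : ℕ, (L ^ m) (β k) = a k ^ m • β k := fun m => by
    induction m with
    | zero => simp
    | succ m ih => rw [pow_succ', Module.End.mul_apply, ih, map_smul, ha, smul_smul, pow_succ]
  have h1 := key r
  rw [hL, Module.End.one_apply] at h1
  by_contra hne
  exact β.ne_zero k ((smul_eq_zero.1
    (show (a k ^ r - 1) • β k = 0 by rw [sub_smul, one_smul, ← h1, sub_self])).resolve_left (sub_ne_zero.2 hne))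

omit [Fintype F] in
/-- A conjugating matrix can be given determinant one. -/
theorem fix_det {x g : GL (Fin n) F} {H : Subgroup (GL (Fin n) F)} (hg : g⁻¹ * x * g ∈ H)
    (hC : ∀ t : F, ∃ C : Matrix (Fin n) (Fin n) F, C.det = t ∧ C * (x : Matrix (Fin n) (Fin n) F) =
      (x : Matrix (Fin n) (Fin n) F) * C) :
    ∃ g' ∈ Cfsg.Geo.specialLinear (Fin n) F, g'⁻¹ * x * g' ∈ H := by
  have hd : (g : Matrix (Fin n) (Fin n) F).det ≠ 0 := (Matrix.GeneralLinearGroup.det g).ne_zero
  obtain ⟨C, hCd, hCx⟩ := hC ((g : Matrix (Fin n) (Fin n) F).det)⁻¹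
  let Cg : GL (Fin n) F := Matrix.GeneralLinearGroup.mkOfDetNeZero C (by rw [hCd]; exact inv_ne_zero hd)
  refine ⟨Cg * g, Units.ext ?_, ?_⟩
  · show ((Cg * g : GL (Fin n) F) : Matrix (Fin n) (Fin n) F).det = 1
    rw [Units.val_mul, Matrix.det_mul]
    show C.det * _ = 1
    rw [hCd, inv_mul_cancel₀ hd]
  · have hcomm : Cg * x = x * Cg := Units.ext hCx
    rwa [show (Cg * g)⁻¹ * x * (Cg * g) = g⁻¹ * x * g by
      rw [_root_.mul_inv_rev, mul_assoc g⁻¹, mul_assoc g⁻¹, ← mul_assoc _ Cg, mul_assoc Cg⁻¹, ← hcomm, inv_mul_cancel_left,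
        ← mul_assoc]]

end Herm

/-- Five residues with zero sum, the first zero, are symmetric about one of them. -/
theorem sym_five : ∀ a b c : ZMod 5, ∃ (j : Fin 15) (l : ZMod 5), ∀ k : Fin 5,
    ![0, a, b, c, -(a + b + c)] k + ![0, a, b, c, -(a + b + c)] ((![![0, 2, 1, 4, 3], ![0, 3, 4, 1, 2],
      ![0, 4, 3, 2, 1], ![2, 1, 0, 4, 3], ![3, 1, 4, 0, 2], ![4, 1, 3, 2, 0], ![1, 0, 2, 4, 3], ![3, 4, 2, 0, 1],
      ![4, 3, 2, 1, 0], ![1, 0, 4, 3, 2], ![2, 4, 0, 3, 1], ![4, 2, 1, 3, 0], ![1, 0, 3, 2, 4], ![2, 3, 0, 1, 4],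
      ![3, 2, 1, 0, 4]] : Fin 15 → Fin 5 → Fin 5) j k) = l := by
  decide +kernel

theorem inv_table : ∀ (j : Fin 15) (k : Fin 5), (![![0, 2, 1, 4, 3], ![0, 3, 4, 1, 2],
      ![0, 4, 3, 2, 1], ![2, 1, 0, 4, 3], ![3, 1, 4, 0, 2], ![4, 1, 3, 2, 0], ![1, 0, 2, 4, 3], ![3, 4, 2, 0, 1],
      ![4, 3, 2, 1, 0], ![1, 0, 4, 3, 2], ![2, 4, 0, 3, 1], ![4, 2, 1, 3, 0], ![1, 0, 3, 2, 4], ![2, 3, 0, 1, 4],
      ![3, 2, 1, 0, 4]] : Fin 15 → Fin 5 → Fin 5) j ((![![0, 2, 1, 4, 3], ![0, 3, 4, 1, 2],
      ![0, 4, 3, 2, 1], ![2, 1, 0, 4, 3], ![3, 1, 4, 0, 2], ![4, 1, 3, 2, 0], ![1, 0, 2, 4, 3], ![3, 4, 2, 0, 1],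
      ![4, 3, 2, 1, 0], ![1, 0, 4, 3, 2], ![2, 4, 0, 3, 1], ![4, 2, 1, 3, 0], ![1, 0, 3, 2, 4], ![2, 3, 0, 1, 4],
      ![3, 2, 1, 0, 4]] : Fin 15 → Fin 5 → Fin 5) j k) = k := by
  decide +kernel

/-- Residues with zero sum modulo 3 or 5 are symmetric about some point. -/
theorem symmetric {r : ℕ} (hr : r = 3 ∨ r = 5) (a : Fin r → ZMod r) (ha : ∑ k, a k = 0) :
    ∃ (π : Fin r → Fin r) (l : ZMod r), (∀ k, π (π k) = k) ∧ ∀ k, a k + a (π k) = l := by
  rcases hr with rfl | rfl
  · refine ⟨![0, 2, 1], a 0 + a 0, by decide, fun k => ?_⟩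
    rw [Fin.sum_univ_three] at ha
    have h3 : (3 : ZMod 3) = 0 := rfl
    fin_cases k <;> simp
    · linear_combination ha - a 0 * h3
    · linear_combination ha - a 0 * h3
  · obtain ⟨j, l, hjl⟩ := sym_five (a 1 - a 0) (a 2 - a 0) (a 3 - a 0)
    rw [Fin.sum_univ_five] at ha
    have h5 : (5 : ZMod 5) = 0 := rfl
    have hb : ∀ k, ![0, a 1 - a 0, a 2 - a 0, a 3 - a 0, -((a 1 - a 0) + (a 2 - a 0) + (a 3 - a 0))] k =
        a k - a 0 := by
      intro k
      fin_cases k <;> simp
      linear_combination -ha + a 0 * h5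
    simp only [hb] at hjl
    exact ⟨_, l + 2 * a 0, inv_table j, fun k => by linear_combination hjl k⟩

theorem pow_val_add {F : Type*} [Monoid F] {r : ℕ} [NeZero r] {ω : F} (h : ω ^ r = 1) (a b : ZMod r) :
    ω ^ a.val * ω ^ b.val = ω ^ (a + b).val := by
  rw [← pow_add, ZMod.val_add, ← pow_mod_orderOf ω (a.val + b.val), ← pow_mod_orderOf ω ((a.val + b.val) % r),
    Nat.mod_mod_of_dvd _ (orderOf_dvd_of_pow_eq_one h)]

/-- Elements of prime order of PSL_n(q), q = q₀², and the subgroups of unitary type. Here `T = PSL_n(F)` for a field `F` with `q = q₀²` elements (`n ≥ 3`), `f` is a non-degenerate unitary form on `F^n` for the involutory automorphism `x ↦ x^{q₀}`, and `H` is the subgroup of matrices of determinant 1 that preserve `f` up to a scalar — a subgroup of type GU_n(q₀) (maximality is not assumed); Ω is the set of cosets of `H` in `T`, so an element of `T` of prime order `r` (a matrix `x` of determinant 1 with `x^r` scalar, `x` not scalar) fixes a point of Ω exactly when some conjugate of `x` by a matrix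 of determinant 1 preserves `f` up to a scalar. Let `r` be a prime dividing the index of `H`, with `r = 2` or `r` different from the characteristic `p`, and with `(n, r) ≠ (6, 3)`. Then every element of `T` of order `r` fixes a point of Ω if and only if either `r = 2` and (`p = 2` or `(n)_2 ≤ (q − 1)_2`), or `r ∈ {3, 5}`, `n = r` and `(q₀ − 1)_r = r`. (Odd `r = p` and the case `(n, r) = (6, 3)` are not covered by this statement.) -/
theorem result {F : Type*} [Field F] [Fintype F] {p : ℕ} [Fact p.Prime] [CharP F p] {q : ℕ} (hq : Fintype.card F = q)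
    (q₀ : ℕ) (hq₀ : q = q₀ ^ 2) (n : ℕ) (hn : 3 ≤ n) (f : (Fin n → F) → (Fin n → F) → F) (hf : Cfsg.Geo.IsUnitaryFormPow q₀ f)
    (r : ℕ) [Fact r.Prime] (hr : r = 2 ∨ r ≠ p) (hgap : ¬ (n = 6 ∧ r = 3))
    (hΩ : r ∣ (Cfsg.Geo.similarityGroup f).relIndex (Cfsg.Geo.specialLinear (Fin n) F)) :
    (∀ x ∈ Cfsg.Geo.specialLinear (Fin n) F, (∃ z : F, ((x ^ r : GL (Fin n) F) : Matrix (Fin n) (Fin n) F) = z • (1 : Matrix (Fin n) (Fin n) F)) →
      (∀ z : F, (x : Matrix (Fin n) (Fin n) F) ≠ z • (1 : Matrix (Fin n) (Fin n) F)) →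
      ∃ g ∈ Cfsg.Geo.specialLinear (Fin n) F, g⁻¹ * x * g ∈ Cfsg.Geo.similarityGroup f) ↔
    ((r = 2 ∧ (p = 2 ∨ padicValNat 2 n ≤ padicValNat 2 (q - 1))) ∨ ((r = 3 ∨ r = 5) ∧ n = r ∧ padicValNat r (q₀ - 1) = 1)) := by
  classical
  subst hq
  have hpr : p.Prime := Fact.out
  have hrpr : r.Prime := Fact.out
  obtain ⟨e₁, -, he₁⟩ := FiniteField.card F p
  obtain ⟨k₀, -, hk₀⟩ : ∃ k ≤ (e₁ : ℕ), q₀ = p ^ k :=
    (Nat.dvd_prime_pow hpr).1 ⟨q₀, by rw [← he₁, hq₀, pow_two]⟩
  have hq02 : 2 ≤ q₀ := by
    have := Fintype.one_lt_card (α := F)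
    rw [hq₀] at this
    by_contra hlt
    interval_cases q₀ <;> simp at this
  set σ : F →+* F := iterateFrobenius F p k₀ with hσdef
  have hσ : ∀ x, σ x = x ^ q₀ := fun x => by rw [hσdef, iterateFrobenius_def, hk₀]
  have hqmul : Fintype.card F - 1 = (q₀ + 1) * (q₀ - 1) := by
    rw [hq₀, ← Nat.sq_sub_sq, one_pow]
  have hσσ : ∀ x, σ (σ x) = x := fun x => by
    rw [hσ, hσ, ← pow_mul, ← pow_two, ← hq₀, FiniteField.pow_card]
  have hconj : IsConjugation σ := ⟨hσσ, fun e => by
    obtain ⟨g, hg⟩ := IsCyclic.exists_ofOrder_eq_natCard (α := Fˣ)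
    rw [Nat.card_eq_fintype_card, Fintype.card_units] at hg
    have h1 : (g : F) ^ q₀ = g := by rw [← hσ, e]; rfl
    have h2 : g ^ (q₀ - 1) = 1 := Units.ext (by
      rw [Units.val_pow_eq_pow_val, Units.val_one]
      refine mul_right_cancel₀ g.ne_zero ?_
      rw [one_mul, ← pow_succ, Nat.sub_add_cancel (by omega), h1])
    have h3 := Nat.le_of_dvd (by omega) (orderOf_dvd_of_pow_eq_one h2)
    rw [hg, hqmul] at h3
    have : 2 * (q₀ - 1) ≤ (q₀ + 1) * (q₀ - 1) := Nat.mul_le_mul_right _ (by omega)
    omega⟩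
  let h : (Fin n → F) →ₛₗ[σ] (Fin n → F) →ₗ[F] F := LinearMap.mk₂'ₛₗ σ (RingHom.id F) (fun u v => f v u)
    (fun u u' v => by
      rw [hf.herm v (u + u'), hf.add_left, ← hσ, map_add, hσ, hσ, ← hf.herm, ← hf.herm])
    (fun c u v => by
      rw [hf.herm v (c • u), hf.smul_left, mul_pow, ← hf.herm, hσ, smul_eq_mul])
    (fun u v v' => hf.add_left v v' u)
    (fun c u v => by rw [hf.smul_left, RingHom.id_apply, smul_eq_mul])
  have hh_apply : ∀ u v, h u v = f v u := fun u v => rfl
  have hh : IsHermitian h := ⟨hconj, fun u v => by rw [hh_apply, hh_apply, hσ, ← hf.herm]⟩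
  have hN : h.SeparatingRight := fun v hv => by
    by_contra hne
    obtain ⟨x, hx⟩ := (hf.nondegenerate v hne).2
    exact hx (hv x)
  haveI : Nonempty (Fin n) := ⟨⟨0, by omega⟩⟩
  -- similitudes
  have hto : ∀ y : GL (Fin n) F, y ∈ Cfsg.Geo.similarityGroup f → ∃ s : F, s ≠ 0 ∧ σ s = s ∧
      ∀ u v, h ((y : Matrix (Fin n) (Fin n) F) *ᵥ u) ((y : Matrix (Fin n) (Fin n) F) *ᵥ v) = s * h u v := by
    rintro y ⟨c, hc⟩
    refine ⟨c, c.ne_zero, ?_, fun u v => hc v u⟩
    obtain ⟨v, hv⟩ := exists_ne (0 : Fin n → F)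
    obtain ⟨x, hx⟩ := (hf.nondegenerate v hv).2
    have h1 := hc x v
    rw [hf.herm, hc, mul_pow, ← hf.herm, ← hσ] at h1
    refine mul_right_cancel₀ ?_ h1
    intro e
    exact hx (by rw [hf.herm, e, zero_pow (by omega)])
  have hof : ∀ (y : GL (Fin n) F) (s : F), s ≠ 0 →
      (∀ u v, h ((y : Matrix (Fin n) (Fin n) F) *ᵥ u) ((y : Matrix (Fin n) (Fin n) F) *ᵥ v) = s * h u v) →
      y ∈ Cfsg.Geo.similarityGroup f := fun y s hs hy => ⟨Units.mk0 s hs, fun u v => hy v u⟩
  have hmkx : ∀ X : Matrix (Fin n) (Fin n) F, X.det = 1 → ∃ x ∈ Cfsg.Geo.specialLinear (Fin n) F,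
      ((x : GL (Fin n) F) : Matrix (Fin n) (Fin n) F) = X := fun X hX =>
    ⟨Matrix.GeneralLinearGroup.mkOfDetNeZero X (by rw [hX]; exact one_ne_zero), Units.ext hX, rfl⟩
  have hval2 : r = 2 → p ≠ 2 → padicValNat 2 n ≤ padicValNat 2 (Fintype.card F - 1) →
      ∀ (z : F) (k : ℕ), n = 2 * k → (-z) ^ k = 1 → ∃ c, c * c = z := by
    intro _ hp2 hv z k hk hzk
    haveI : Fact (Nat.Prime 2) := ⟨Nat.prime_two⟩
    have hc2 : ringChar F ≠ 2 := by rw [ringChar.eq F p]; exact hp2
    have hq0o : Odd q₀ := by rw [hk₀]; exact (hpr.odd_of_ne_two hp2).pow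
    obtain ⟨t, ht⟩ := hq0o
    have h8 : Fintype.card F - 1 = 4 * (t * (t + 1)) := by
      rw [hq₀, ht, Nat.sub_eq_iff_eq_add (Nat.one_le_pow _ _ (by omega))]
      ring
    have hm1 : IsSquare (-1 : F) := by
      rw [FiniteField.isSquare_neg_one_iff]
      intro hcard
      have := Fintype.card_pos (α := F)
      omega
    suffices hu : IsSquare (-z) by
      obtain ⟨c, hc⟩ := hm1.mul hu
      exact ⟨c, by rw [← hc]; ring⟩
    have hz0 : -z ≠ 0 := fun e => by
      rw [e, zero_pow (by omega)] at hzk
      exact zero_ne_one hzk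
    by_contra hns
    have h1 : (-z) ^ (Fintype.card F / 2) = -1 := by
      rcases FiniteField.pow_dichotomy hc2 hz0 with h | h
      · exact absurd ((FiniteField.isSquare_iff hc2 hz0).2 h) hns
      · exact h
    obtain ⟨o, ho1, ho⟩ : ∃ o, k = 2 ^ padicValNat 2 k * o ∧ ¬ 2 ∣ o :=
      ⟨k / 2 ^ padicValNat 2 k, (Nat.mul_div_cancel' pow_padicValNat_dvd).symm, by
        intro hd
        have hk0 : k ≠ 0 := by omega
        have := pow_succ_padicValNat_not_dvd (p := 2) hk0
        apply this
        rw [pow_succ]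
        exact Nat.mul_dvd_of_dvd_div pow_padicValNat_dvd hd⟩
    have hvn : padicValNat 2 n = padicValNat 2 k + 1 := by
      rw [hk, padicValNat.mul (by omega) (by omega), padicValNat.self (by omega)]
      ring
    obtain ⟨m, hm⟩ : 2 ^ padicValNat 2 k ∣ Fintype.card F / 2 := by
      have h2 : 2 ^ padicValNat 2 n ∣ Fintype.card F - 1 :=
        (pow_dvd_pow 2 hv).trans pow_padicValNat_dvd
      rw [hvn, pow_succ] at h2
      obtain ⟨m, hm⟩ := h2
      refine ⟨m, ?_⟩
      rw [mul_right_comm] at hm
      have := Fintype.card_pos (α := F)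
      omega
    have h3 : (-z) ^ (Fintype.card F / 2 * o) = 1 := by
      rw [hm, show 2 ^ padicValNat 2 k * m * o = 2 ^ padicValNat 2 k * o * m by ring, ← ho1, pow_mul, hzk, one_pow]
    rw [pow_mul, h1, (Nat.odd_iff.2 (by omega) : Odd o).neg_one_pow] at h3
    exact Ring.two_ne_zero hc2 (by linear_combination -h3)
  constructor
  · intro hall
    by_contra hcon
    by_cases hr2 : r = 2
    · -- a square root of a non-square
      subst hr2
      push Not at hcon
      obtain ⟨hp2, hlt⟩ := hcon.1 rfl
      have hc2 : ringChar F ≠ 2 := by rw [ringChar.eq F p]; exact hp2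
      haveI : Fact (Nat.Prime 2) := ⟨Nat.prime_two⟩
      set v₁ := padicValNat 2 (Fintype.card F - 1) with hv₁
      have hn2 : 2 ^ (v₁ + 1) ∣ n := (pow_dvd_pow 2 hlt).trans pow_padicValNat_dvd
      obtain ⟨k', hk'⟩ := hn2
      set k := 2 ^ v₁ * k' with hk
      have hnk : n = 2 * k := by rw [hk', hk, pow_succ]; ring
      obtain ⟨g, hg⟩ := IsCyclic.exists_ofOrder_eq_natCard (α := Fˣ)
      rw [Nat.card_eq_fintype_card, Fintype.card_units] at hg
      obtain ⟨o, ho⟩ : 2 ^ v₁ ∣ Fintype.card F - 1 := pow_padicValNat_dvd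
      have hoodd : Odd o := by
        rw [Nat.odd_iff]
        by_contra hne
        obtain ⟨o', rfl⟩ : 2 ∣ o := by omega
        have hne0 : Fintype.card F - 1 ≠ 0 := by have := Fintype.one_lt_card (α := F); omega
        exact pow_succ_padicValNat_not_dvd (p := 2) hne0 ⟨o', by rw [← hv₁, ho, pow_succ]; ring⟩
      set u : F := ((g ^ o : Fˣ) : F) with hu
      have huk : u ^ k = 1 := by
        rw [hu, ← Units.val_pow_eq_pow_val, ← pow_mul, hk, ← mul_assoc, mul_comm o, ← ho, pow_mul, ← hg,
          pow_orderOf_eq_one, one_pow, Units.val_one]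
      have hum : u ^ (Fintype.card F / 2) = -1 := by
        rcases FiniteField.pow_dichotomy hc2 (g ^ o).ne_zero with h1 | h1
        · exfalso
          rw [← Units.val_pow_eq_pow_val, Units.val_eq_one, ← pow_mul, ← orderOf_dvd_iff_pow_eq_one, hg] at h1
          obtain ⟨w, hw⟩ := h1
          have hodd : Odd (Fintype.card F) := Nat.odd_iff.2 (FiniteField.odd_card_of_char_ne_two hc2)
          obtain ⟨a, ha⟩ := hodd
          have h2 : Fintype.card F - 1 = 2 * (Fintype.card F / 2) := by omega
          rw [h2] at hw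
          have h4 : o = 2 * w := mul_right_cancel₀ (show Fintype.card F / 2 ≠ 0 by
            have := Fintype.one_lt_card (α := F); omega) (by rw [hw]; ring)
          exact Nat.not_even_iff_odd.2 hoodd ⟨w, by omega⟩
        · exact h1
      have huq : u ^ (Fintype.card F - 1) = 1 := FiniteField.pow_card_sub_one_eq_one _ (g ^ o).ne_zero
      have hm1 : IsSquare (-1 : F) := by
        rw [FiniteField.isSquare_neg_one_iff]
        obtain ⟨t, ht⟩ : Odd q₀ := by rw [hk₀]; exact (hpr.odd_of_ne_two hp2).pow
        have h8 : Fintype.card F - 1 = 4 * (t * (t + 1)) := by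
          rw [hq₀, ht, Nat.sub_eq_iff_eq_add (Nat.one_le_pow _ _ (by omega))]
          ring
        have := Fintype.card_pos (α := F)
        omega
      have hzns : ¬ IsSquare (-u) := fun hs => by
        have h1 := hm1.mul hs
        rw [neg_one_mul, neg_neg, FiniteField.isSquare_iff hc2 (g ^ o).ne_zero] at h1
        exact Ring.neg_one_ne_one_of_char_ne_two hc2 (hum.symm.trans h1)
      set z := -u with hz
      let eκ : Fin k × Fin 2 ≃ Fin n := finProdFinEquiv.trans (finCongr (by omega))
      set X := Matrix.reindex eκ eκ ((1 : Matrix (Fin k) (Fin k) F) ⊗ₖ !![0, z; 1, 0]) with hX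
      have hXd : X.det = 1 := by
        rw [hX, Matrix.det_reindex_self, Matrix.det_kronecker, Matrix.det_one, one_pow, one_mul, Matrix.det_fin_two_of,
          Fintype.card_fin, zero_mul, mul_one, zero_sub, hz, neg_neg, huk]
      have hX2 : X * X = z • 1 := by
        rw [hX, Matrix.reindex_apply, Matrix.submatrix_mul_equiv, ← Matrix.mul_kronecker_mul, mul_one,
          show (!![0, z; 1, 0] : Matrix (Fin 2) (Fin 2) F) * !![0, z; 1, 0] = z • 1 by
            ext i j; fin_cases i <;> fin_cases j <;> simp [Matrix.mul_apply, Fin.sum_univ_two],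
          Matrix.kronecker_smul, Matrix.one_kronecker_one]
        ext i j
        by_cases hij : i = j <;> simp [Matrix.one_apply, hij]
      obtain ⟨x, hx, hxX⟩ := hmkx X hXd
      obtain ⟨P, -, hP⟩ := hall x hx ⟨z, by rw [Units.val_pow_eq_pow_val, hxX, pow_two]; exact hX2⟩ (fun c hc => by
        rw [hxX] at hc
        rw [hc, smul_mul_smul_comm, mul_one] at hX2
        have := congrFun (congrFun hX2 ⟨0, by omega⟩) ⟨0, by omega⟩
        simp at this
        exact hzns ⟨c, this.symm⟩)
      obtain ⟨s, hs0, hss, hs⟩ := hto _ hP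
      set y := ((P⁻¹ * x * P : GL (Fin n) F) : Matrix (Fin n) (Fin n) F) with hy
      have hy2 : y * y = z • 1 := by
        rw [hy, ← Units.val_mul, show P⁻¹ * x * P * (P⁻¹ * x * P) = P⁻¹ * (x * x) * P by group, Units.val_mul,
          Units.val_mul, Units.val_mul, hxX, hX2, Matrix.mul_smul, mul_one, Matrix.smul_mul, ← Units.val_mul,
          inv_mul_cancel, Units.val_one]
      obtain ⟨v, hv⟩ := exists_ne (0 : Fin n → F)
      obtain ⟨w, hw⟩ := (hf.nondegenerate v hv).1
      have h1 : h v w * (σ z * z) = h v w * (s * s) := by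
        have h2 := hs (y *ᵥ v) (y *ᵥ w)
        rw [Matrix.mulVec_mulVec, Matrix.mulVec_mulVec, hy2, hs, Matrix.smul_mulVec, Matrix.smul_mulVec,
          Matrix.one_mulVec, Matrix.one_mulVec] at h2
        simp only [map_smulₛₗ, RingHom.id_apply, LinearMap.smul_apply, smul_eq_mul] at h2
        linear_combination h2
      have h2 := mul_left_cancel₀ (show h v w ≠ 0 from hw) h1
      rw [hσ, ← pow_succ] at h2
      obtain ⟨t, ht⟩ : Odd q₀ := by rw [hk₀]; exact (hpr.odd_of_ne_two hp2).pow
      have hz0 : z ≠ 0 := by simp [hz, hu]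
      have hst : s ^ (2 * t) = 1 := by
        refine mul_right_cancel₀ hs0 ?_
        rw [one_mul, ← pow_succ, ← ht, ← hσ, hss]
      have hhalf : Fintype.card F / 2 = (q₀ + 1) * t := by
        rw [hq₀, ht, show (2 * t + 1) ^ 2 = 2 * ((2 * t + 1 + 1) * t) + 1 by ring]
        omega
      refine hzns ((FiniteField.isSquare_iff hc2 hz0).2 ?_)
      rw [hhalf, pow_mul, h2, ← pow_two, ← pow_mul, hst]
    -- odd `r` prime to `p`
    have hrp : r ≠ p := hr.resolve_left hr2
    have hrodd : Odd r := hrpr.odd_of_ne_two hr2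
    have hr0 : (r : F) ≠ 0 := fun e => by
      rw [CharP.cast_eq_zero_iff F p] at e
      exact hrp ((Nat.prime_dvd_prime_iff_eq hpr hrpr).1 e).symm
    have hrq0 : ¬ r ∣ q₀ := fun hd => by
      rw [hk₀] at hd
      exact hrp ((Nat.prime_dvd_prime_iff_eq hrpr hpr).1 (hrpr.dvd_of_dvd_pow hd))
    -- the index
    obtain ⟨j, hj, hjr⟩ : ∃ j < n, (-(q₀ : ZMod r)) ^ (j + 1) = -1 := by
      set SL := Cfsg.Geo.specialLinear (Fin n) F
      set H := (Cfsg.Geo.similarityGroup f).subgroupOf SL
      let det' : isomGroup h →* Fˣ := LinearEquiv.det.comp (isomGroup h).subtype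
      have hrange : Nat.card det'.range ∣ q₀ + 1 := by
        obtain ⟨x, hx⟩ := IsCyclic.exists_ofOrder_eq_natCard (α := det'.range)
        rw [← hx, ← orderOf_injective (det'.range).subtype Subtype.val_injective, orderOf_dvd_iff_pow_eq_one]
        obtain ⟨⟨_, g, rfl⟩, _⟩ := x, hx
        apply Units.ext
        rw [Units.val_pow_eq_pow_val, Units.val_one, pow_succ, ← hσ]
        show σ ((LinearEquiv.det g.1 : Fˣ) : F) * ((LinearEquiv.det g.1 : Fˣ) : F) = 1
        rw [LinearEquiv.coe_det, ← LinearMap.det_toMatrix']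
        set M := LinearMap.toMatrix' (g.1 : (Fin n → F) →ₗ[F] (Fin n → F)) with hM
        let Gh : Matrix (Fin n) (Fin n) F := Matrix.of fun k l => h (Pi.single k 1) (Pi.single l 1)
        have hGd : Gh.det ≠ 0 := by
          have := gram_det hN (1 : GL (Fin n) F)
          simpa only [Gh, Units.val_one, Matrix.one_mulVec] using this
        have hid : (σ.mapMatrix M)ᵀ * Gh * M = Gh := by
          ext k l
          have hk : ∀ m, g.1 (Pi.single m 1) = ∑ i, M i m • Pi.single i 1 := fun m => by
            conv_lhs => rw [pi_eq_sum_univ' (g.1 (Pi.single m 1))]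
            exact Finset.sum_congr rfl fun i _ => by
              rw [hM, LinearMap.toMatrix'_apply]; rfl
          have h1 := isomGroup_apply g (Pi.single k 1) (Pi.single l 1)
          rw [hk, hk] at h1
          simp only [map_sum, map_smulₛₗ, map_smul, LinearMap.sum_apply, LinearMap.smul_apply, smul_eq_mul,
            Finset.mul_sum, RingHom.id_apply] at h1
          show ((σ.mapMatrix M)ᵀ * Gh * M) k l = h (Pi.single k 1) (Pi.single l 1)
          rw [← h1]
          simp only [Matrix.mul_apply, Matrix.transpose_apply, RingHom.mapMatrix_apply, Matrix.map_apply,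
            Finset.sum_mul, Gh, Matrix.of_apply]
          refine Finset.sum_congr rfl fun i _ => Finset.sum_congr rfl fun i' _ => ?_
          ring
        have h2 := congrArg Matrix.det hid
        rw [Matrix.det_mul, Matrix.det_mul, Matrix.det_transpose, ← RingHom.map_det] at h2
        exact mul_right_cancel₀ hGd (show σ M.det * M.det * Gh.det = 1 * Gh.det by linear_combination h2)
      let toGL : isomGroup h →* GL (Fin n) F :=
        ((Matrix.GeneralLinearGroup.toLin (n := Fin n) (R := F)).symm.toMonoidHom).comp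
          ((LinearMap.GeneralLinearGroup.generalLinearEquiv F (Fin n → F)).symm.toMonoidHom.comp
            (isomGroup h).subtype)
      have htoGL : ∀ g v, (toGL g : Matrix (Fin n) (Fin n) F) *ᵥ v = g.1 v := fun g v => by
        show LinearMap.toMatrix' (g.1 : (Fin n → F) →ₗ[F] (Fin n → F)) *ᵥ v = _
        rw [LinearMap.toMatrix'_mulVec]; rfl
      have hker : Nat.card det'.ker ∣ Nat.card H := by
        have hm : ∀ g : det'.ker, toGL g.1 ∈ SL := fun g => by
          refine Units.ext ?_
          show (LinearMap.toMatrix' (g.1.1 : (Fin n → F) →ₗ[F] (Fin n → F))).det = 1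
          rw [LinearMap.det_toMatrix', ← LinearEquiv.coe_det]
          exact congrArg Units.val g.2
        have hmH : ∀ g : det'.ker, (⟨toGL g.1, hm g⟩ : SL) ∈ H := fun g =>
          hof _ 1 one_ne_zero fun u v => by
            show h ((toGL g.1 : Matrix (Fin n) (Fin n) F) *ᵥ u) ((toGL g.1 : Matrix (Fin n) (Fin n) F) *ᵥ v) = _
            rw [htoGL, htoGL, one_mul, isomGroup_apply]
        refine Subgroup.card_dvd_of_injective
          (MonoidHom.codRestrict ((toGL.comp det'.ker.subtype).codRestrict SL hm) H hmH) fun g g' e => ?_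
        refine Subtype.ext (Subtype.ext (LinearEquiv.ext fun v => ?_))
        rw [← htoGL, ← htoGL]
        exact congrArg (fun z : H => (((z : SL) : GL (Fin n) F) : Matrix (Fin n) (Fin n) F) *ᵥ v) e
      have hU : Nat.card (isomGroup h) ∣ (q₀ + 1) * Nat.card det'.ker := by
        rw [Subgroup.card_eq_card_quotient_mul_card_subgroup det'.ker,
          Nat.card_congr (QuotientGroup.quotientKerEquivRange det').toEquiv]
        exact mul_dvd_mul hrange dvd_rfl
      have hSL : r * Nat.card det'.ker ∣ Nat.card SL := by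
        rw [← H.index_mul_card]
        exact mul_dvd_mul hΩ hker
      have hGL : Nat.card SL * (Fintype.card F - 1) = Nat.card (GL (Fin n) F) := by
        have hsurj : Function.Surjective (Matrix.GeneralLinearGroup.det : GL (Fin n) F →* Fˣ) := fun u => by
          refine ⟨Matrix.GeneralLinearGroup.mkOfDetNeZero
            (Matrix.diagonal (Function.update 1 (⟨0, by omega⟩ : Fin n) (u : F))) ?_, Units.ext ?_⟩
          · rw [Matrix.det_diagonal, Finset.prod_update_of_mem (Finset.mem_univ _)]
            simp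
          · show (Matrix.diagonal _).det = _
            rw [Matrix.det_diagonal, Finset.prod_update_of_mem (Finset.mem_univ _)]
            simp
        rw [Subgroup.card_eq_card_quotient_mul_card_subgroup (Matrix.GeneralLinearGroup.det : GL (Fin n) F →* Fˣ).ker,
          Nat.card_congr (QuotientGroup.quotientKerEquivOfSurjective _ hsurj).toEquiv,
          Nat.card_eq_fintype_card (α := Fˣ), Fintype.card_units, mul_comm]
        rfl
      have hdiv : r * Nat.card (isomGroup h) ∣ Nat.card (GL (Fin n) F) := by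
        rw [← hGL, hqmul]
        refine dvd_trans ?_ (mul_dvd_mul hSL (dvd_mul_right (q₀ + 1) (q₀ - 1)))
        rw [mul_assoc r]
        exact mul_dvd_mul dvd_rfl (by rw [mul_comm]; exact hU)
      rw [card_isom_herm_closed hq₀ hσ hh hN, finrank_fin_fun, Matrix.card_GL_field] at hdiv
      set S := n * (n - 1) / 2 with hS
      set A := fun j => if Even j then q₀ ^ (j + 1) - 1 else q₀ ^ (j + 1) + 1 with hAdef
      set B := fun j => if Even j then q₀ ^ (j + 1) + 1 else q₀ ^ (j + 1) - 1 with hBdef
      have hprod : ∏ i : Fin n, (Fintype.card F ^ n - Fintype.card F ^ (i : ℕ)) =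
          q₀ ^ S * (∏ j ∈ Finset.range n, A j) * (q₀ ^ S * ∏ j ∈ Finset.range n, B j) := by
        rw [Fin.prod_univ_eq_prod_range (fun i => Fintype.card F ^ n - Fintype.card F ^ i) n]
        have h1 : ∀ i ∈ Finset.range n, Fintype.card F ^ n - Fintype.card F ^ i =
            q₀ ^ i * q₀ ^ i * (A (n - 1 - i) * B (n - 1 - i)) := fun i hi => by
          rw [Finset.mem_range] at hi
          have hAB : ∀ j, A j * B j = Fintype.card F ^ (j + 1) - 1 := fun j => by
            rw [hq₀, ← pow_mul, mul_comm 2, pow_mul, ← one_pow 2, Nat.sq_sub_sq]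
            simp only [hAdef, hBdef, one_pow]
            split_ifs <;> ring
          rw [hAB, show n - 1 - i + 1 = n - i by omega, ← pow_add, ← two_mul, pow_mul, ← hq₀, Nat.mul_sub_one,
            ← pow_add, show i + (n - i) = n by omega]
        rw [Finset.prod_congr rfl h1]
        simp only [Finset.prod_mul_distrib]
        rw [Finset.prod_range_reflect A n, Finset.prod_range_reflect B n, Finset.prod_pow_eq_pow_sum,
          Finset.sum_range_id, hS]
        ring
      rw [hprod] at hdiv
      have hne : q₀ ^ S * ∏ j ∈ Finset.range n, B j ≠ 0 := by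
        refine mul_ne_zero (pow_ne_zero _ (by omega)) (Finset.prod_ne_zero_iff.2 fun j _ => ?_)
        have : 2 ≤ q₀ ^ (j + 1) := hq02.trans (Nat.le_self_pow (by omega) q₀)
        simp only [hBdef]
        split_ifs <;> omega
      have hrA := Nat.dvd_of_mul_dvd_mul_right (Nat.pos_of_ne_zero hne) hdiv
      obtain ⟨j, hj, hjr⟩ := (hrpr.prime.dvd_finsetProd_iff _).1
        ((hrpr.dvd_mul.1 hrA).resolve_left fun h' => hrq0 (hrpr.dvd_of_dvd_pow h'))
      rw [Finset.mem_range] at hj
      refine ⟨j, hj, ?_⟩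
      rw [← ZMod.natCast_eq_zero_iff] at hjr
      simp only [hAdef] at hjr
      by_cases hev : Even j
      · rw [if_pos hev, Nat.cast_sub (Nat.one_le_pow _ _ (by omega)), sub_eq_zero, Nat.cast_pow, Nat.cast_one] at hjr
        rw [(Even.add_one hev).neg_pow, hjr]
      · rw [if_neg hev, Nat.cast_add, Nat.cast_pow, Nat.cast_one] at hjr
        rw [(Odd.add_one (Nat.not_even_iff_odd.1 hev)).neg_pow, eq_neg_of_add_eq_zero_left hjr]
    set o := orderOf (-(q₀ : ZMod r)) with ho
    set i := orderOf (Fintype.card F : ZMod r) with hi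
    haveI : Fact (2 < r) := ⟨by have := hrpr.two_le; omega⟩
    have hne1 : (-1 : ZMod r) ≠ 1 := ZMod.neg_one_ne_one
    have h2j : ((-(q₀ : ZMod r)) ^ (j + 1)) ^ 2 = 1 := by rw [hjr, neg_one_sq]
    have ho2 : Even o := by
      rcases Nat.even_or_odd o with he | he
      · exact he
      · exfalso
        rw [← pow_mul] at h2j
        have h1 := orderOf_dvd_of_pow_eq_one h2j
        rw [← ho] at h1
        exact hne1 (hjr.symm.trans (orderOf_dvd_iff_pow_eq_one.1
          ((Nat.coprime_two_right.2 he).dvd_of_dvd_mul_right h1)))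
    have hopos : 0 < o := by
      rw [← pow_mul] at h2j
      exact orderOf_pos_iff.2 (isOfFinOrder_iff_pow_eq_one.2 ⟨(j + 1) * 2, by omega, h2j⟩)
    have hoi : o = 2 * i := by
      have hsq : (Fintype.card F : ZMod r) = (-(q₀ : ZMod r)) ^ 2 := by rw [neg_sq, hq₀, Nat.cast_pow]
      rw [hi, hsq, orderOf_pow' _ two_ne_zero, ← ho,
        Nat.gcd_eq_right (even_iff_two_dvd.1 ho2), Nat.mul_div_cancel' (even_iff_two_dvd.1 ho2)]
    have hin : i ≤ n := by
      have h1 : i ∣ j + 1 := by
        rw [hi, orderOf_dvd_iff_pow_eq_one, hq₀, Nat.cast_pow, ← neg_sq (q₀ : ZMod r), ← pow_mul, mul_comm, pow_mul]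
        exact h2j
      have := Nat.le_of_dvd (by omega) h1
      omega
    by_cases hq1 : r ∣ Fintype.card F - 1
    · -- split torus elements
      have hi1 : i = 1 := by
        rw [hi, orderOf_eq_one_iff]
        rwa [← ZMod.natCast_eq_zero_iff, Nat.cast_sub Fintype.card_pos, sub_eq_zero, Nat.cast_one] at hq1
      have hrq01 : r ∣ q₀ - 1 := by
        rw [hqmul] at hq1
        refine (hrpr.dvd_mul.1 hq1).resolve_left fun hd => ?_
        rw [← ZMod.natCast_eq_zero_iff, Nat.cast_add, Nat.cast_one, add_comm, ← sub_neg_eq_add, sub_eq_zero] at hd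
        rw [ho, ← hd, orderOf_one] at hoi
        omega
      obtain ⟨g₀, hg₀⟩ := IsCyclic.exists_ofOrder_eq_natCard (α := Fˣ)
      rw [Nat.card_eq_fintype_card, Fintype.card_units] at hg₀
      have hroot : ∀ m : ℕ, m ∣ q₀ - 1 → ∃ x : F, x ≠ 0 ∧ σ x = x ∧ orderOf x = m := by
        intro m hm
        have hm' : m ∣ Fintype.card F - 1 := by rw [hqmul]; exact hm.mul_left _
        refine ⟨((g₀ ^ ((Fintype.card F - 1) / m) : Fˣ) : F), Units.ne_zero _, ?_, ?_⟩
        · have hord : orderOf ((g₀ ^ ((Fintype.card F - 1) / m) : Fˣ) : F) = m := by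
            rw [orderOf_units, ← hg₀]
            exact orderOf_pow_orderOf_div (by rw [hg₀]; have := Fintype.one_lt_card (α := F); omega) (by rwa [hg₀])
          rw [hσ]
          obtain ⟨c, hc⟩ := hm
          have h1 := pow_orderOf_eq_one ((g₀ ^ ((Fintype.card F - 1) / m) : Fˣ) : F)
          rw [hord] at h1
          rw [show q₀ = m * c + 1 by omega, pow_succ, pow_mul, h1, one_pow, one_mul]
        · rw [orderOf_units, ← hg₀]
          exact orderOf_pow_orderOf_div (by rw [hg₀]; have := Fintype.one_lt_card (α := F); omega) (by rwa [hg₀])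
      obtain ⟨ω, hω0, hσω, hωo⟩ := hroot r hrq01
      have hωr : ω ^ r = 1 := by rw [← hωo, pow_orderOf_eq_one]
      have hωk : ∀ k : ℕ, ω ^ k = 1 → r ∣ k := fun k h' => hωo ▸ orderOf_dvd_of_pow_eq_one h'
      -- a diagonal element with a fixed point
      have hwit : ∀ D : Fin n → F, (∏ k, D k = 1) → (∃ z : F, ∀ k, D k ^ r = z) → (∃ k l, D k ≠ D l) →
          (∀ k, σ (D k) = D k) →
          ∃ (s : F) (G : Matrix (Fin n) (Fin n) F), G.det ≠ 0 ∧
            ∀ k l, G k l ≠ 0 → D k * D l = s := by
        rintro D hD ⟨z, hz⟩ ⟨k₁, l₁, hkl⟩ hσD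
        obtain ⟨x, hx, hxX⟩ := hmkx (Matrix.diagonal D) (by rw [Matrix.det_diagonal, hD])
        obtain ⟨g, -, hg⟩ := hall x hx ⟨z, by
            rw [Units.val_pow_eq_pow_val, hxX, Matrix.diagonal_pow, Matrix.smul_one_eq_diagonal]
            congr 1
            funext k
            rw [Pi.pow_apply, hz]⟩ (fun c hc => by
          rw [hxX, Matrix.smul_one_eq_diagonal, Matrix.diagonal_eq_diagonal_iff] at hc
          exact hkl ((hc k₁).trans (hc l₁).symm))
        obtain ⟨s, -, -, hs⟩ := hto _ hg
        refine ⟨s, _, gram_det hN g⁻¹, fun k l hne => ?_⟩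
        have h1 := hs (((g⁻¹ : GL (Fin n) F) : Matrix (Fin n) (Fin n) F) *ᵥ Pi.single k 1)
          (((g⁻¹ : GL (Fin n) F) : Matrix (Fin n) (Fin n) F) *ᵥ Pi.single l 1)
        have hcalc : ∀ m, ((g⁻¹ * x * g : GL (Fin n) F) : Matrix (Fin n) (Fin n) F) *ᵥ
            (((g⁻¹ : GL (Fin n) F) : Matrix (Fin n) (Fin n) F) *ᵥ Pi.single m 1) =
            D m • (((g⁻¹ : GL (Fin n) F) : Matrix (Fin n) (Fin n) F) *ᵥ Pi.single m 1) := fun m => by
          rw [Matrix.mulVec_mulVec, ← Units.val_mul, show g⁻¹ * x * g * g⁻¹ = g⁻¹ * x by group, Units.val_mul,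
            ← Matrix.mulVec_mulVec, hxX, Matrix.mulVec_single, MulOpposite.op_one, one_smul,
            show (Matrix.diagonal D).col m = D m • Pi.single m (1 : F) by
              funext i; by_cases hi : i = m <;> simp [Matrix.col_apply, hi],
            Matrix.mulVec_smul]
        rw [hcalc, hcalc] at h1
        simp only [map_smulₛₗ, RingHom.id_apply, LinearMap.smul_apply, smul_eq_mul, hσD] at h1
        refine mul_right_cancel₀ hne ?_
        show D k * D l * h _ _ = s * h _ _
        linear_combination h1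
      -- two eigenvalues with different multiplicities
      have htwo : ∀ (S : Finset (Fin n)) (a b : F), a * a ≠ b * b → S.card ≠ Sᶜ.card → S.Nonempty → Sᶜ.Nonempty →
          σ a = a → σ b = b → a ^ r = b ^ r → a ^ S.card * b ^ Sᶜ.card = 1 → False := by
        intro S a b hab hcard hS hSc ha hb habr hprod
        let D : Fin n → F := fun k => if k ∈ S then a else b
        have hab' : a ≠ b := fun e => hab (by rw [e])
        have hD : ∏ k, D k = 1 := by
          rw [← Finset.prod_mul_prod_compl S, Finset.prod_congr rfl (g := fun _ => a) fun k hk => if_pos hk,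
            Finset.prod_congr rfl (s₁ := Sᶜ) (g := fun _ => b) fun k hk => if_neg (Finset.mem_compl.1 hk),
            Finset.prod_const, Finset.prod_const, hprod]
        obtain ⟨k₁, hk₁⟩ := hS
        obtain ⟨k₂, hk₂⟩ := hSc
        obtain ⟨s, G, hG, hGs⟩ := hwit D hD ⟨a ^ r, fun k => by dsimp only [D]; split_ifs <;> simp [habr]⟩
          ⟨k₁, k₂, by simp [D, hk₁, Finset.mem_compl.1 hk₂, hab']⟩ (fun k => by dsimp only [D]; split_ifs <;> assumption)
        have hrow : ∀ k, ∃ l, G k l ≠ 0 := fun k => by
          by_contra hall'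
          push Not at hall'
          exact hG (Matrix.det_eq_zero_of_row_eq_zero k hall')
        by_cases hs1 : s = a * b
        · have h1 : S.card ≤ Sᶜ.card := card_le hG S Sᶜ fun k hk l hl => by
            by_contra hne
            have := hGs k l hne
            simp only [D, if_pos hk, if_pos (by simpa using hl : l ∈ S), hs1] at this
            rcases mul_eq_mul_left_iff.1 this with e | e
            · exact hab' e
            · exact hab' (by
                have : b ^ r = 0 := by rw [← habr, e, zero_pow hrpr.ne_zero]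
                rw [e, eq_zero_of_pow_eq_zero this])
          have h2 : Sᶜ.card ≤ S.card := card_le hG Sᶜ S fun k hk l hl => by
            by_contra hne
            have := hGs k l hne
            simp only [D, if_neg (Finset.mem_compl.1 hk), if_neg hl, hs1] at this
            rcases mul_eq_mul_right_iff.1 this with e | e
            · exact hab' e.symm
            · exact hab' (by
                have : a ^ r = 0 := by rw [habr, e, zero_pow hrpr.ne_zero]
                rw [e, eq_zero_of_pow_eq_zero this])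
          omega
        · obtain ⟨l₁, hl₁⟩ := hrow k₁
          obtain ⟨l₂, hl₂⟩ := hrow k₂
          have e1 := hGs _ _ hl₁
          have e2 := hGs _ _ hl₂
          simp only [D, if_pos hk₁, if_neg (Finset.mem_compl.1 hk₂)] at e1 e2
          split_ifs at e1 e2 with hc1 hc2 hc2
          · exact hs1 (by rw [← e2, mul_comm])
          · exact hab (e1.trans e2.symm)
          · exact hs1 e1.symm
          · exact hs1 e1.symm
      have hfc : ∀ m, m ≤ n → (Finset.univ.filter fun k : Fin n => k.1 < m).card = m := fun m hm => by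
        rw [Fin.card_filter_val_lt, min_eq_right hm]
      have hfcc : ∀ m, m ≤ n → ((Finset.univ.filter fun k : Fin n => k.1 < m)ᶜ).card = n - m := fun m hm => by
        rw [Finset.card_compl, Fintype.card_fin, hfc m hm]
      by_cases hnr : n = r ∧ (r = 3 ∨ r = 5)
      · obtain ⟨hn', hr35⟩ := hnr
        symm at hn'
        subst hn'
        have hv : padicValNat r (q₀ - 1) ≠ 1 := fun e => hcon (Or.inr ⟨hr35, rfl, e⟩)
        have hv1 : 1 ≤ padicValNat r (q₀ - 1) := one_le_padicValNat_of_dvd (by omega) hrq01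
        have hd2 : r ^ 2 ∣ q₀ - 1 := (pow_dvd_pow r (show 2 ≤ padicValNat r (q₀ - 1) by omega)).trans pow_padicValNat_dvd
        obtain ⟨ν, hν0, hσν, hνo⟩ := hroot _ hd2
        have hr2' : r * 2 < r ^ 2 := by rw [pow_two]; exact Nat.mul_lt_mul_of_pos_left (by omega) hrpr.pos
        refine htwo (Finset.univ.filter fun k : Fin r => k.1 < r - 1) ν⁻¹ (ν⁻¹ * ν ^ r) ?_ ?_ ?_ ?_
          (by rw [map_inv₀, hσν]) (by rw [map_mul, map_inv₀, map_pow, hσν]) ?_ ?_
        · intro e
          have h1 : ν ^ (r * 2) = 1 := by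
            rw [pow_mul, pow_two]
            have : ν⁻¹ * ν⁻¹ ≠ 0 := mul_ne_zero (inv_ne_zero hν0) (inv_ne_zero hν0)
            exact mul_left_cancel₀ this (by rw [mul_one]; linear_combination -e)
          have := Nat.le_of_dvd (by omega) (hνo ▸ orderOf_dvd_of_pow_eq_one h1)
          omega
        · rw [hfc _ (by omega), hfcc _ (by omega)]; omega
        · exact Finset.card_pos.1 (by rw [hfc _ (by omega)]; omega)
        · exact Finset.card_pos.1 (by rw [hfcc _ (by omega)]; omega)
        · rw [mul_pow, ← pow_mul, ← pow_two, ← hνo, pow_orderOf_eq_one, mul_one]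
        · rw [hfc _ (by omega), hfcc _ (by omega), show r - (r - 1) = 1 by omega, pow_one, ← mul_assoc, ← pow_succ,
            Nat.sub_add_cancel hrpr.one_le, inv_pow, inv_mul_cancel₀ (pow_ne_zero _ hν0)]
      rcases eq_or_ne r 3 with rfl | hr3
      · have hn4 : 4 ≤ n := by
          have : n ≠ 3 := fun e => hnr ⟨e, Or.inl rfl⟩
          omega
        refine htwo (Finset.univ.filter fun k : Fin n => k.1 < 3) ω 1 ?_ ?_ ?_ ?_ hσω (map_one σ)
          (by rw [hωr, one_pow]) ?_
        · intro e
          have := hωk 2 (by rw [pow_two, e, one_mul])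
          omega
        · rw [hfc _ (by omega), hfcc _ (by omega)]
          intro e
          exact hgap ⟨by omega, rfl⟩
        · exact Finset.card_pos.1 (by rw [hfc _ (by omega)]; omega)
        · exact Finset.card_pos.1 (by rw [hfcc _ (by omega)]; omega)
        · rw [hfc _ (by omega), hωr, one_pow, one_mul]
      have hr5 : 5 ≤ r := by
        have h4 : r ≠ 4 := fun e => by rw [e] at hrodd; exact absurd hrodd (by decide)
        have := hrpr.two_le
        omega
      by_cases hn5 : n ≤ 5
      · have hrn : ¬ r ∣ 2 * n := fun hd => by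
          have h1 : r ∣ n := (hrpr.dvd_mul.1 hd).resolve_left fun h2 =>
            hr2 ((Nat.prime_dvd_prime_iff_eq hrpr Nat.prime_two).1 h2)
          have := Nat.le_of_dvd (by omega) h1
          exact hnr ⟨by omega, Or.inr (by omega)⟩
        refine htwo (Finset.univ.filter fun k : Fin n => k.1 < n - 1) ω (ω⁻¹ ^ (n - 1)) ?_ ?_ ?_ ?_ hσω
          (by rw [map_pow, map_inv₀, hσω]) ?_ ?_
        · intro e
          refine hrn (hωk _ ?_)
          have h1 : (ω * ω) * ω ^ (2 * (n - 1)) = 1 := by
            rw [e, ← mul_pow, two_mul, pow_add, ← mul_pow, ← mul_pow,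
              show ω⁻¹ * ω⁻¹ * (ω * ω) = 1 by field_simp, one_pow]
          rw [show 2 * n = 2 + 2 * (n - 1) by omega, pow_add, pow_two]
          exact h1
        · rw [hfc _ (by omega), hfcc _ (by omega)]; omega
        · exact Finset.card_pos.1 (by rw [hfc _ (by omega)]; omega)
        · exact Finset.card_pos.1 (by rw [hfcc _ (by omega)]; omega)
        · rw [← pow_mul, mul_comm, pow_mul, inv_pow, hωr, inv_one, one_pow]
        · rw [hfc _ (by omega), hfcc _ (by omega), show n - (n - 1) = 1 by omega, pow_one, ← mul_pow,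
            mul_inv_cancel₀ hω0, one_pow]
      -- at least six dimensions
      let D : Fin n → F := fun k => if k.1 < 2 then ω else if k.1 = 2 then ω⁻¹ * ω⁻¹ else 1
      have hD : ∏ k, D k = 1 := by
        rw [← Finset.prod_subset (Finset.subset_univ (Finset.univ.filter fun k : Fin n => k.1 < 3)) fun k _ hk => by
          simp only [Finset.mem_filter, Finset.mem_univ, true_and, not_lt] at hk
          dsimp only [D]; rw [if_neg (show ¬ k.1 < 2 by omega), if_neg (show k.1 ≠ 2 by omega)],
          show (Finset.univ.filter fun k : Fin n => k.1 < 3) = {⟨0, by omega⟩, ⟨1, by omega⟩, ⟨2, by omega⟩} by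
            ext k; simp [Fin.ext_iff]; omega,
          Finset.prod_insert (by simp [Fin.ext_iff]), Finset.prod_pair (by simp [Fin.ext_iff])]
        simp [D]
        field_simp
      have hω1 : ω ≠ 1 := fun e => by rw [e, orderOf_one] at hωo; omega
      obtain ⟨s, G, hG, hGs⟩ := hwit D hD ⟨1, fun k => by
          dsimp only [D]; split_ifs <;> simp [hωr, mul_pow, inv_pow]⟩
        ⟨⟨0, by omega⟩, ⟨3, by omega⟩, by simp [D, hω1]⟩
        (fun k => by dsimp only [D]; split_ifs <;> simp [hσω, map_inv₀])
      have hpart : ∀ k, ∃ l, D k * D l = s := fun k => by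
        by_contra hall'
        push Not at hall'
        exact hG (Matrix.det_eq_zero_of_row_eq_zero k fun l => by
          by_contra hne
          exact hall' l (hGs k l hne))
      have hs : s = 1 := by
        by_contra hs1
        have h1 := card_le hG (Finset.univ.filter fun k : Fin n => D k = 1)
          (Finset.univ.filter fun k : Fin n => D k = s) fun k hk l hl => by
            by_contra hne
            have := hGs k l hne
            simp only [Finset.mem_filter, Finset.mem_univ, true_and] at hk hl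
            rw [hk, one_mul] at this
            exact hl this
        have h2 : n - 3 ≤ (Finset.univ.filter fun k : Fin n => D k = 1).card := by
          refine le_trans (le_of_eq ?_) (Finset.card_le_card (s := ((Finset.univ.filter fun k : Fin n => k.1 < 3))ᶜ) ?_)
          · rw [hfcc 3 (by omega)]
          · intro k hk
            simp only [Finset.mem_compl, Finset.mem_filter, Finset.mem_univ, true_and, not_lt] at hk ⊢
            dsimp only [D]
            rw [if_neg (show ¬ k.1 < 2 by omega), if_neg (show k.1 ≠ 2 by omega)]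
        have h3 : (Finset.univ.filter fun k : Fin n => D k = s).card ≤ 2 := by
          by_cases hsω : s = ω
          · refine le_trans (Finset.card_le_card (t := Finset.univ.filter fun k : Fin n => k.1 < 2) ?_)
              (hfc 2 (by omega)).le
            intro k hk
            simp only [Finset.mem_filter, Finset.mem_univ, true_and, D] at hk ⊢
            by_contra hlt
            rw [if_neg hlt, hsω] at hk
            split_ifs at hk
            · have := hωk 3 (by rw [show ω ^ 3 = ω * (ω * ω) by ring]; nth_rw 1 [← hk]; field_simp)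
              have := Nat.le_of_dvd (by omega) this
              omega
            · exact hω1 hk.symm
          · refine le_trans (Finset.card_le_card (t := {⟨2, by omega⟩}) ?_) (by simp)
            intro k hk
            simp only [Finset.mem_filter, Finset.mem_univ, true_and, D] at hk
            rw [Finset.mem_singleton, Fin.ext_iff]
            split_ifs at hk with hc1 hc2
            · exact absurd hk.symm hsω
            · exact hc2
            · exact absurd hk.symm hs1
        omega
      obtain ⟨l, hl⟩ := hpart ⟨0, by omega⟩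
      rw [hs] at hl
      simp only [D, show (0 : ℕ) < 2 by omega, if_true] at hl
      split_ifs at hl
      · have := Nat.le_of_dvd (by omega) (hωk 2 (by rw [pow_two, hl]))
        omega
      · have h' : ω * ω = ω := by
          have h'' := congrArg (· * (ω * ω)) hl
          field_simp at h''
          rw [← h'']; ring
        exact hω1 (mul_left_cancel₀ hω0 (by rw [mul_one, h']))
      · exact hω1 (by rw [← hl, mul_one])
    · -- one irreducible block
      have hi2 : 2 ≤ i := by
        have h0 : i ≠ 0 := by omega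
        by_contra hlt
        have h1 : i = 1 := by omega
        rw [hi, orderOf_eq_one_iff] at h1
        refine hq1 ?_
        rw [← ZMod.natCast_eq_zero_iff, Nat.cast_sub Fintype.card_pos, h1, Nat.cast_one, sub_self]
      obtain ⟨T₁, hT₁, hT₁d, -, hT₁fix⟩ := LinElusive.exists_semisimple_witness hr0 (n := i) hi2 le_rfl
      rw [← hi, Nat.mod_self, Nat.le_zero, Submodule.finrank_eq_zero] at hT₁fix
      let W := (Fin i → F) × (Fin (n - i) → F)
      let T₀ : Module.End F W := LinearMap.prodMap T₁ LinearMap.id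
      let ee : W ≃ₗ[F] (Fin n → F) := LinearEquiv.ofFinrankEq _ _ (by
        simp only [W, Module.finrank_prod, Module.finrank_fin_fun]; omega)
      let T : Module.End F (Fin n → F) := ee.conjAlgEquiv F T₀
      have hTe : ∀ w : W, T (ee w) = ee (T₁ w.1, w.2) := fun w => by
        simp [T, T₀, LinearEquiv.conjAlgEquiv_apply]; rfl
      let X := LinearMap.toMatrixAlgEquiv' T
      have hXa : ∀ v, X *ᵥ v = T v := fun v => LinearMap.toMatrix'_mulVec T v
      have hXr : X ^ r = 1 := by
        have hT₀ : ∀ (m : ℕ) (w : W), (T₀ ^ m) w = ((T₁ ^ m) w.1, w.2) := by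
          intro m
          induction m with
          | zero => intro w; rfl
          | succ m ih => intro w; rw [pow_succ', Module.End.mul_apply, ih, pow_succ']; rfl
        rw [← map_pow, ← map_pow, show T₀ ^ r = 1 from LinearMap.ext fun w => by rw [hT₀, hT₁]; rfl, map_one,
          map_one]
      have hXd : X.det = 1 := by
        show (LinearMap.toMatrix' T).det = 1
        rw [LinearMap.det_toMatrix']
        show LinearMap.det (ee.conjAlgEquiv F T₀) = 1
        rw [LinearEquiv.conjAlgEquiv_apply]
        refine (LinearMap.det_conj _ ee).trans ?_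
        rw [LinearMap.det_prodMap, hT₁d, LinearMap.det_id, one_mul]
      let K₀ := LinearMap.range (ee.toLinearMap.comp (LinearMap.inr F (Fin i → F) (Fin (n - i) → F)))
      have hK₀ : finrank F K₀ = n - i := by
        rw [LinearMap.finrank_range_of_inj (f := ee.toLinearMap.comp (LinearMap.inr F _ _))
          (fun u v h => LinearMap.inr_injective (ee.injective h)), finrank_fin_fun]
      have hfixK : ∀ v ∈ K₀, X *ᵥ v = v := by
        rintro _ ⟨u, rfl⟩
        show X *ᵥ ee ((0 : Fin i → F), u) = ee ((0 : Fin i → F), u)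
        rw [hXa, hTe, map_zero]
      have hXne : X ≠ 1 := fun e => by
        obtain ⟨v, hv⟩ : ∃ v : Fin i → F, v ≠ 0 := ⟨Pi.single ⟨0, by omega⟩ 1, by simp⟩
        have h1 := hXa (ee (v, 0))
        rw [e, Matrix.one_mulVec, hTe, ee.injective.eq_iff] at h1
        refine hv ((Submodule.eq_bot_iff _).1 hT₁fix v ?_)
        rw [Module.End.mem_eigenspace_iff, one_smul]
        exact (congrArg Prod.fst h1).symm
      obtain ⟨x, hx, hxX⟩ := hmkx X hXd
      obtain ⟨g, -, hg⟩ := hall x hx ⟨1, by rw [Units.val_pow_eq_pow_val, hxX, one_smul]; exact hXr⟩ (fun z hz => by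
        rw [hxX] at hz
        have h := hXr
        rw [hz, smul_pow, one_pow] at h
        have h0 := congrFun (congrFun h ⟨0, by omega⟩) ⟨0, by omega⟩
        simp at h0
        have hz1 : z = 1 := by
          by_contra hne
          have hz0 : z ≠ 0 := fun hz' => by simp [hz', hrpr.ne_zero] at h0
          exact hq1 (orderOf_eq_prime h0 hne ▸ orderOf_dvd_of_pow_eq_one (FiniteField.pow_card_sub_one_eq_one z hz0))
        exact hXne (by rw [hz, hz1, one_smul]))
      obtain ⟨s, hs0, hss, hs⟩ := hto _ hg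
      set y := g⁻¹ * x * g with hy
      have hxr : x ^ r = 1 := Units.ext (by rw [Units.val_pow_eq_pow_val, hxX, hXr, Units.val_one])
      have hyr : y ^ r = 1 := by
        rw [hy, show g⁻¹ * x * g = g⁻¹ * x * (g⁻¹)⁻¹ by rw [inv_inv], conj_pow, hxr, mul_one, mul_inv_cancel]
      have hs1 : s = 1 := by
        have key : ∀ m : ℕ, ∀ u v, h (((y ^ m : GL (Fin n) F) : Matrix (Fin n) (Fin n) F) *ᵥ u)
            (((y ^ m : GL (Fin n) F) : Matrix (Fin n) (Fin n) F) *ᵥ v) = s ^ m * h u v := by
          intro m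
          induction m with
          | zero => intro u v; simp
          | succ m ih =>
            intro u v
            rw [pow_succ', Units.val_mul, ← Matrix.mulVec_mulVec, ← Matrix.mulVec_mulVec, hs, ih, pow_succ]
            ring
        obtain ⟨v, hv⟩ := exists_ne (0 : Fin n → F)
        obtain ⟨w, hw⟩ := (hf.nondegenerate v hv).1
        have h1 := key r v w
        rw [hyr, Units.val_one, Matrix.one_mulVec, Matrix.one_mulVec] at h1
        have hsr : s ^ r = 1 := mul_right_cancel₀ (show h v w ≠ 0 from hw) (by rw [one_mul]; exact h1.symm)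
        by_contra hne
        exact hq1 (orderOf_eq_prime hsr hne ▸ orderOf_dvd_of_pow_eq_one (FiniteField.pow_card_sub_one_eq_one s hs0))
      let eY : (Fin n → F) ≃ₗ[F] (Fin n → F) :=
        LinearMap.GeneralLinearGroup.generalLinearEquiv F (Fin n → F) (Matrix.GeneralLinearGroup.toLin y)
      have heY : ∀ v, eY v = (y : Matrix (Fin n) (Fin n) F) *ᵥ v := fun v => Matrix.toLin'_apply _ _
      let yI : isomGroup h := ⟨eY, fun u v => by rw [heY, heY, hs, hs1, one_mul]⟩
      have hyIr : yI ^ r = 1 := by
        have key : ∀ m : ℕ, ∀ v, (yI ^ m).1 v = ((y ^ m : GL (Fin n) F) : Matrix (Fin n) (Fin n) F) *ᵥ v := by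
          intro m
          induction m with
          | zero => intro v; simp
          | succ m ih =>
            intro v
            rw [pow_succ', pow_succ', Units.val_mul, ← Matrix.mulVec_mulVec, ← ih, ← heY]
            rfl
        exact Subtype.ext (LinearEquiv.ext fun v => by rw [key, hyr, Units.val_one, Matrix.one_mulVec]; rfl)
      have hyI1 : yI ≠ 1 := fun e => by
        refine hXne ?_
        rw [← hxX, show x = g * y * g⁻¹ by rw [hy]; group]
        have hy1 : y = 1 := Units.ext (Matrix.ext_of_mulVec_single fun m => by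
          rw [← heY, Units.val_one, Matrix.one_mulVec]
          exact LinearEquiv.congr_fun (congrArg Subtype.val e) _)
        rw [hy1, mul_one, mul_inv_cancel, Units.val_one]
      have hfix : finrank F (Fin n → F) ≤
          finrank F (LinearMap.ker ((yI.1 : (Fin n → F) →ₗ[F] (Fin n → F)) - LinearMap.id)) + i := by
        let Gi : (Fin n → F) ≃ₗ[F] (Fin n → F) :=
          LinearMap.GeneralLinearGroup.generalLinearEquiv F (Fin n → F) (Matrix.GeneralLinearGroup.toLin g⁻¹)
        have hGi : ∀ v, Gi v = ((g⁻¹ : GL (Fin n) F) : Matrix (Fin n) (Fin n) F) *ᵥ v := fun v => Matrix.toLin'_apply _ _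
        have hle : K₀.map (Gi : (Fin n → F) →ₗ[F] (Fin n → F)) ≤
            LinearMap.ker ((yI.1 : (Fin n → F) →ₗ[F] (Fin n → F)) - LinearMap.id) := by
          rintro _ ⟨v, hv, rfl⟩
          rw [LinearMap.mem_ker, LinearMap.sub_apply, LinearMap.id_apply, sub_eq_zero]
          show eY (Gi v) = Gi v
          rw [heY, hGi, Matrix.mulVec_mulVec, ← Units.val_mul, hy, show g⁻¹ * x * g * g⁻¹ = g⁻¹ * x by group,
            Units.val_mul, ← Matrix.mulVec_mulVec, hxX, hfixK v hv]
        have := Submodule.finrank_mono hle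
        rw [Gi.finrank_map_eq, hK₀] at this
        rw [finrank_fin_fun]
        omega
      have hrq : ¬ r ∣ q₀ := hrq0
      obtain ⟨m, hm, hmr⟩ := (hrpr.prime.dvd_finsetProd_iff _).1
        (S5976.dvd_of_order hq₀ hσ hh hN hr0 yI hyIr hyI1 hrq hfix)
      rw [Finset.mem_range] at hm
      have h1 : (-(q₀ : ZMod r)) ^ (m + 1) = 1 := by
        rw [← ZMod.natCast_eq_zero_iff] at hmr
        by_cases hev : Even m
        · rw [if_pos hev, Nat.cast_add, Nat.cast_pow, Nat.cast_one] at hmr
          rw [(Even.add_one hev).neg_pow, eq_neg_of_add_eq_zero_left hmr, neg_neg]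
        · rw [if_neg hev, Nat.cast_sub (Nat.one_le_pow _ _ (by omega)), sub_eq_zero, Nat.cast_pow, Nat.cast_one] at hmr
          rw [(Odd.add_one (Nat.not_even_iff_odd.1 hev)).neg_pow, hmr]
      have := Nat.le_of_dvd (by omega) (orderOf_dvd_of_pow_eq_one h1)
      rw [← ho] at this
      omega
  · rintro hcrit x hx ⟨z, hz⟩ -
    have hxd : (x : Matrix (Fin n) (Fin n) F).det = 1 := congrArg Units.val hx
    have hz0 : z ≠ 0 := fun h' => by
      rw [h', zero_smul] at hz
      exact (Matrix.GeneralLinearGroup.det (x ^ r)).ne_zero (by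
        show ((x ^ r : GL (Fin n) F) : Matrix (Fin n) (Fin n) F).det = 0
        rw [hz, Matrix.det_zero])
    set L : Module.End F (Fin n → F) := Matrix.toLin' (x : Matrix (Fin n) (Fin n) F) with hLdef
    have hLa : ∀ v, L v = (x : Matrix (Fin n) (Fin n) F) *ᵥ v := fun v => Matrix.toLin'_apply _ _
    have hLd : LinearMap.det L = 1 := by rw [hLdef, LinearMap.det_toLin', hxd]
    have hLr : L ^ r = algebraMap F (Module.End F (Fin n → F)) z := by
      show (Matrix.toLinAlgEquiv' (x : Matrix (Fin n) (Fin n) F)) ^ r = _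
      rw [← map_pow, ← Units.val_pow_eq_pow_val, hz, map_smul, map_one, Algebra.algebraMap_eq_smul_one]
    rcases hcrit with ⟨rfl, hcrit⟩ | ⟨hr35, hnr, hv⟩
    · let x' : Matrix.SpecialLinearGroup (Fin n) F := ⟨(x : Matrix (Fin n) (Fin n) F), hxd⟩
      have hx' : Matrix.SpecialLinearGroup.toGL x' = x := Units.ext rfl
      have hz' : ((x' ^ 2 : Matrix.SpecialLinearGroup (Fin n) F) : Matrix (Fin n) (Fin n) F) = z • 1 := by
        rw [Matrix.SpecialLinearGroup.coe_pow, ← hz, Units.val_pow_eq_pow_val]
      have hL := InvCl.sl_sq hz'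
      suffices hgl : ∃ Q : GL (Fin n) F, Q⁻¹ * x * Q ∈ Cfsg.Geo.similarityGroup f by
        obtain ⟨S, hS⟩ := (InvCl.exists_sl_conj_iff (by omega) x' hz' _).2 (by rwa [hx'])
        refine ⟨Matrix.SpecialLinearGroup.toGL S, Units.ext S.2, ?_⟩
        have := Subgroup.mem_comap.1 hS
        rwa [map_mul, map_mul, map_inv, hx'] at this
      obtain ⟨ι, ν, _, _, c, β, h0, h1, h2, h3⟩ := InvCl.exists_split L z hL
      obtain ⟨μ, hμ⟩ : ∃ μ, μ * μ = z := by
        rcases isEmpty_or_nonempty ν with hν | hν
        · by_cases hp2 : p = 2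
          · obtain ⟨μ, hμ⟩ := FiniteField.isSquare_of_char_two (F := F) (by rw [ringChar.eq F p]; exact hp2) z
            exact ⟨μ, hμ.symm⟩
          · have hcard : n = 2 * Fintype.card ι := by
              have h := Module.finrank_eq_card_basis β
              rw [finrank_fin_fun, Fintype.card_sum, Fintype.card_prod, Fintype.card_fin,
                Fintype.card_eq_zero (α := ν)] at h
              omega
            refine hval2 rfl hp2 (hcrit.resolve_left hp2) z (Fintype.card ι) hcard ?_
            let C : Matrix ((ι × Fin 2) ⊕ ν) ((ι × Fin 2) ⊕ ν) F :=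
              Matrix.reindex (Equiv.sumEmpty (ι × Fin 2) ν).symm (Equiv.sumEmpty (ι × Fin 2) ν).symm
                ((1 : Matrix ι ι F) ⊗ₖ !![0, z; 1, 0])
            have hC : LinearMap.toMatrix β β L = C := by
              ext k l
              rcases l with ⟨l, s⟩ | l
              · rcases k with ⟨k, s'⟩ | k
                · rw [LinearMap.toMatrix_apply]
                  fin_cases s
                  · simp only [Fin.mk_zero, Fin.zero_eta, h0, Basis.repr_self]
                    rcases eq_or_ne k l with rfl | hkl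
                    · fin_cases s' <;> simp [C, Matrix.kroneckerMap_apply, Matrix.one_apply]
                    · fin_cases s' <;> simp [C, Matrix.kroneckerMap_apply, Matrix.one_apply, hkl, Ne.symm hkl]
                  · simp only [Fin.mk_one, h1, map_smul, Basis.repr_self]
                    rcases eq_or_ne k l with rfl | hkl
                    · fin_cases s' <;> simp [C, Matrix.kroneckerMap_apply, Matrix.one_apply]
                    · fin_cases s' <;> simp [C, Matrix.kroneckerMap_apply, Matrix.one_apply, hkl, Ne.symm hkl]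
                · exact isEmptyElim k
              · exact isEmptyElim l
            have h' := LinearMap.det_toMatrix β L
            rw [hC, hLd, Matrix.det_reindex_self, Matrix.det_kronecker, Matrix.det_one, one_pow, one_mul,
              Matrix.det_fin_two_of, zero_mul, mul_one, zero_sub] at h'
            exact h'
        · exact ⟨c, h3 hν⟩
      have hμ0 : μ ≠ 0 := fun e => hz0 (by rw [← hμ, e, mul_zero])
      set s := σ μ * μ with hs
      have hs0 : s ≠ 0 := mul_ne_zero ((map_ne_zero σ).2 hμ0) hμ0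
      have hσs : σ s = s := by rw [hs, map_mul, hσσ, mul_comm]
      let τ : (ι × Fin 2) ⊕ ν → (ι × Fin 2) ⊕ ν := Sum.map (fun k => (k.1, ![1, 0] k.2)) id
      let d : (ι × Fin 2) ⊕ ν → F := Sum.elim (fun k => ![1, z] k.2) fun _ => c
      let w : (ι × Fin 2) ⊕ ν → F := Sum.elim (fun k => ![1, s] k.2) fun _ => 1
      obtain ⟨g, hg⟩ := mono_good hh hN β x id τ (fun _ => rfl)
        (Function.Involutive.injective (f := τ) fun k => by
          rcases k with ⟨k, t⟩ | k
          · fin_cases t <;> rfl
          · rfl)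
        (fun _ => rfl) w d
        (fun k => by
          rcases k with ⟨k, t⟩ | k
          · fin_cases t <;> simp [w, hs0]
          · simp [w])
        (fun k => by
          rcases k with ⟨k, t⟩ | k
          · fin_cases t <;> simp [w, hσs]
          · simp [w]) s
        (fun k => by
          rw [← hLa]
          rcases k with ⟨k, t⟩ | k
          · fin_cases t
            · simpa [τ, d] using h0 k
            · simpa [τ, d] using h1 k
          · simpa [τ, d] using h2 k)
        (fun k => by
          rcases k with ⟨k, t⟩ | k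
          · fin_cases t
            · simp [τ, d, w]
            · simp only [id_eq, τ, d, w, Sum.map_inl, Sum.elim_inl, Matrix.cons_val_one, Fin.mk_one,
                Matrix.cons_val_zero, hs, ← hμ, map_mul]
              simp only [Matrix.cons_val_one, Matrix.cons_val_fin_one, mul_one]
              ring
          · have hc := h3 ⟨k⟩
            rw [← hμ, mul_self_eq_mul_self_iff] at hc
            rcases hc with rfl | rfl <;> simp [τ, d, w, hs])
      exact ⟨g, hof _ s hs0 hg⟩
    · symm at hnr
      subst hnr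
      haveI : NeZero r := ⟨hrpr.ne_zero⟩
      have hr2 : r ≠ 2 := by omega
      have hr0 : (r : F) ≠ 0 := fun e => by
        rw [CharP.cast_eq_zero_iff F p] at e
        exact (hr.resolve_left hr2) ((Nat.prime_dvd_prime_iff_eq hpr hrpr).1 e).symm
      have hrq01 : r ∣ q₀ - 1 := dvd_of_one_le_padicValNat hv.ge
      have hq1 : r ∣ Fintype.card F - 1 := by rw [hqmul]; exact hrq01.mul_left _
      rcases LinElusive.cases_of_pow_eq hr0 (by omega) hLd hLr with ⟨d₀, hd₀, hd⟩ | ⟨hnp, -, -, hdet⟩
      swap
      · exfalso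
        rw [Nat.div_self hrpr.pos, pow_one, (Nat.even_iff.2 (by omega) : Even (r + 1)).neg_one_pow, one_mul] at hdet
        exact hnp 1 (by rw [one_pow, hdet])
      obtain ⟨β, a, ha⟩ := exists_eigen hr0 hq1 hd
      obtain ⟨g₀, hg₀⟩ := IsCyclic.exists_ofOrder_eq_natCard (α := Fˣ)
      rw [Nat.card_eq_fintype_card, Fintype.card_units] at hg₀
      set ω : F := ((g₀ ^ ((Fintype.card F - 1) / r) : Fˣ) : F) with hω
      have hωo : orderOf ω = r := by
        rw [hω, orderOf_units, ← hg₀]
        exact orderOf_pow_orderOf_div (by rw [hg₀]; have := Fintype.one_lt_card (α := F); omega) (by rwa [hg₀])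
      have hωr : ω ^ r = 1 := by rw [← hωo, pow_orderOf_eq_one]
      have hσω : σ ω = ω := by
        obtain ⟨c, hc⟩ := hrq01
        rw [hσ, show q₀ = r * c + 1 by omega, pow_succ, pow_mul, hωr, one_pow, one_mul]
      have hprim : IsPrimitiveRoot ω r := hωo ▸ IsPrimitiveRoot.orderOf ω
      choose e he using fun k => hprim.eq_pow_of_pow_eq_one (ha k).1
      have hLk : ∀ k, L (β k) = (d₀ * ω ^ ((e k : ZMod r)).val) • β k := fun k => by
        have h1 := (ha k).2
        rw [LinearMap.smul_apply, inv_smul_eq_iff₀ hd₀, smul_smul] at h1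
        rw [h1, ← (he k).2, ZMod.val_natCast, Nat.mod_eq_of_lt (he k).1]
      have hdetL : ∏ k, (d₀ * ω ^ ((e k : ZMod r)).val) = 1 := by
        rw [← hLd, ← LinearMap.det_toMatrix β, show LinearMap.toMatrix β β L =
          Matrix.diagonal fun k => d₀ * ω ^ ((e k : ZMod r)).val by
            ext k l
            rw [LinearMap.toMatrix_apply, hLk, map_smul, Finsupp.smul_apply, Basis.repr_self]
            rcases eq_or_ne k l with rfl | hkl <;> [simp; simp [hkl, Ne.symm hkl]], Matrix.det_diagonal]
      have hsum : ∑ k, (e k : ZMod r) = 0 := by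
        rw [Finset.prod_mul_distrib, Finset.prod_const, Finset.card_univ, Fintype.card_fin,
          Finset.prod_pow_eq_pow_sum] at hdetL
        set S := ∑ k, ((e k : ZMod r)).val
        by_contra hS
        have hS' : ¬ r ∣ S := fun hd' => hS (by
          have : ((S : ℕ) : ZMod r) = 0 := (ZMod.natCast_eq_zero_iff _ _).2 hd'
          rw [← this, Nat.cast_sum]
          simp)
        have hne : d₀ ^ r ≠ 1 := fun e1 => hS' (by
          rw [e1, one_mul] at hdetL
          exact hωo ▸ orderOf_dvd_of_pow_eq_one hdetL)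
        have hdr : (d₀ ^ r) ^ r = 1 := by
          have h1 : d₀ ^ r = (ω ^ S)⁻¹ := eq_inv_of_mul_eq_one_left hdetL
          rw [h1, inv_pow, ← pow_mul, mul_comm, pow_mul, hωr, one_pow, inv_one]
        have hord : orderOf d₀ = r ^ 2 := by
          refine orderOf_eq_prime_pow (by simpa using hne) ?_
          rw [pow_two, pow_mul]
          exact hdr
        have h2 : r ^ 2 ∣ Fintype.card F - 1 :=
          hord ▸ orderOf_dvd_of_pow_eq_one (FiniteField.pow_card_sub_one_eq_one d₀ hd₀)
        rw [hqmul] at h2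
        have hcop : Nat.Coprime (r ^ 2) (q₀ + 1) := Nat.Coprime.pow_left _ ((hrpr.coprime_iff_not_dvd).2 fun hd' => by
          have := Nat.dvd_sub hd' hrq01
          rw [show q₀ + 1 - (q₀ - 1) = 2 by omega] at this
          exact hr2 ((Nat.prime_dvd_prime_iff_eq hrpr Nat.prime_two).1 this))
        have h3 := hcop.dvd_of_dvd_mul_left h2
        have h4 := (padicValNat_dvd_iff_le (p := r) (by omega)).1 h3
        omega
      obtain ⟨π, l, hπ, hl⟩ := symmetric hr35 _ hsum
      obtain ⟨g, hg⟩ := mono_good hh hN β x π id hπ Function.injective_id (fun _ => rfl) (fun _ => 1)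
        (fun k => d₀ * ω ^ ((e k : ZMod r)).val) (fun _ => one_ne_zero) (fun _ => map_one σ)
        (σ d₀ * d₀ * ω ^ l.val) (fun k => by rw [← hLa]; exact hLk k) (fun k => by
          rw [← hl k, ← pow_val_add hωr, map_mul, map_pow, hσω]
          ring)
      refine fix_det (hof _ _ ?_ hg) fun t => ?_
      · refine mul_ne_zero (mul_ne_zero ((map_ne_zero σ).2 hd₀) hd₀) (pow_ne_zero _ ?_)
        intro e0
        rw [e0, zero_pow hrpr.ne_zero] at hωr
        exact zero_ne_one hωr
      · let C : Module.End F (Fin r → F) := β.constr F fun k => (if k = ⟨0, hrpr.pos⟩ then t else 1) • β k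
        have hC : ∀ k, C (β k) = (if k = ⟨0, hrpr.pos⟩ then t else 1) • β k := fun k => β.constr_basis _ _ _
        refine ⟨LinearMap.toMatrix' C, ?_, ?_⟩
        · rw [LinearMap.det_toMatrix', ← LinearMap.det_toMatrix β, show LinearMap.toMatrix β β C =
            Matrix.diagonal fun k => if k = ⟨0, hrpr.pos⟩ then t else 1 by
              ext k l
              rw [LinearMap.toMatrix_apply, hC, map_smul, Finsupp.smul_apply, Basis.repr_self]
              rcases eq_or_ne k l with rfl | hkl <;> [simp; simp [hkl, Ne.symm hkl]], Matrix.det_diagonal,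
            Finset.prod_eq_single (⟨0, hrpr.pos⟩ : Fin r) (fun b _ hb => if_neg hb) (by simp), if_pos rfl]
        · have hc : C * L = L * C := β.ext fun k => by
            rw [Module.End.mul_apply, Module.End.mul_apply, hC, hLk, map_smul, map_smul, hC, hLk, smul_comm]
          have := congrArg LinearMap.toMatrix' hc
          rwa [LinearMap.toMatrix'_mul, LinearMap.toMatrix'_mul, hLdef, LinearMap.toMatrix'_toLin'] at this

end Cfsg.Agent.S5982
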