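import Cfsg.Statements.S5965
import Cfsg.Agent.Lib.Derangements.SubfieldRational
import Cfsg.Agent.Lib.Derangements.InvolutionClasses
import Cfsg.Agent.Lib.Derangements.LinearElusiveMain
import Cfsg.Agent.Lib.Classical.SubfieldMax.Member
import Cfsg.Agent.Lib.Classical.SLOrders
import Cfsg.Agent.S5982

set_option autoImplicit false
open scoped MatrixGroups
open Cfsg

namespace Cfsg.Agent.S5965

open Module Matrix CfsgLib.Derangements CfsgLib.Derangements.LinElusive

variable {F : Type*} [Field F] [Fintype F]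

theorem mem_of_pow_eq (F₀ : Subfield F) {x : F} (hx : x ^ Nat.card ↥F₀ = x) : x ∈ F₀ := by
  classical
  letI : Fintype ↥F₀ := Fintype.ofFinite _
  by_contra hne
  have hq : 1 < Nat.card ↥F₀ := by rw [Nat.card_eq_fintype_card]; exact Fintype.one_lt_card
  set P : Polynomial F := Polynomial.X ^ Nat.card ↥F₀ - Polynomial.X with hP
  have hdeg : P.natDegree = Nat.card ↥F₀ := FiniteField.X_pow_card_sub_X_natDegree_eq F hq
  have hP0 : P ≠ 0 := FiniteField.X_pow_card_sub_X_ne_zero F hq
  let S : Finset F := insert x (Finset.univ.map ⟨fun a : ↥F₀ => (a : F), Subtype.val_injective⟩)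
  have hS : S.card = Nat.card ↥F₀ + 1 := by
    rw [Finset.card_insert_of_notMem, Finset.card_map, Finset.card_univ, Nat.card_eq_fintype_card]
    simp only [Finset.mem_map, Finset.mem_univ, true_and, Function.Embedding.coeFn_mk]
    rintro ⟨a, rfl⟩
    exact hne a.2
  have := Polynomial.card_le_degree_of_subset_roots (p := P) (Z := S) fun a ha => by
    rw [Polynomial.mem_roots hP0]
    simp only [P, Polynomial.IsRoot.def, Polynomial.eval_sub, Polynomial.eval_pow, Polynomial.eval_X, sub_eq_zero]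
    simp only [S, Finset.mem_val, Finset.mem_insert, Finset.mem_map, Finset.mem_univ, true_and,
      Function.Embedding.coeFn_mk] at ha
    rcases ha with rfl | ⟨b, rfl⟩
    · exact hx
    · have h := congrArg Subtype.val (FiniteField.pow_card b)
      rw [Nat.card_eq_fintype_card]
      simpa using h
  omega

theorem pow_card_of_mem (F₀ : Subfield F) {x : F} (hx : x ∈ F₀) : x ^ Nat.card ↥F₀ = x := by
  letI : Fintype ↥F₀ := Fintype.ofFinite _
  have h := congrArg Subtype.val (FiniteField.pow_card (⟨x, hx⟩ : ↥F₀))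
  rw [Nat.card_eq_fintype_card]
  simpa using h

theorem exists_frobenius {p : ℕ} [Fact p.Prime] [CharP F p] (F₀ : Subfield F) :
    ∃ σ : F →+* F, ∀ x, σ x = x ^ Nat.card ↥F₀ := by
  letI : Fintype ↥F₀ := Fintype.ofFinite _
  haveI : CharP ↥F₀ p := (RingHom.charP_iff F₀.subtype F₀.subtype.injective p).2 inferInstance
  obtain ⟨e, -, he⟩ := FiniteField.card ↥F₀ p
  exact ⟨iterateFrobenius F p e, fun x => by rw [iterateFrobenius_def, Nat.card_eq_fintype_card, he]⟩

theorem card_subfield_dvd (F₀ : Subfield F) {k q₀ : ℕ} (hF₀ : Nat.card ↥F₀ = q₀) (hqk : Fintype.card F = q₀ ^ k) :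
    q₀ - 1 ∣ Fintype.card F - 1 := by
  rw [hqk]
  simpa using Nat.sub_dvd_pow_sub_pow q₀ 1 k

/-- A conjugate in the subfield group gives a matrix over the subfield. -/
theorem extract (F₀ : Subfield F) {n : ℕ} (hn : 0 < n) {r : ℕ} [Fact r.Prime]
    (hrq : ¬ r ∣ Nat.card ↥F₀ - 1)
    (hall : ∀ x : Matrix.SpecialLinearGroup (Fin n) F,
      (∃ z : F, ((x ^ r : Matrix.SpecialLinearGroup (Fin n) F) : Matrix (Fin n) (Fin n) F) = z • (1 : Matrix (Fin n) (Fin n) F)) →
      (∀ z : F, (x : Matrix (Fin n) (Fin n) F) ≠ z • (1 : Matrix (Fin n) (Fin n) F)) →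
      ∃ P : Matrix.SpecialLinearGroup (Fin n) F, P⁻¹ * x * P ∈ ((Cfsg.Geo.subfieldSubgroup F₀ 1).comap (Matrix.SpecialLinearGroup.toGL : Matrix.SpecialLinearGroup (Fin n) F →* GL (Fin n) F)))
    {T : Matrix (Fin n) (Fin n) F} (hT : T ^ r = 1) {d : F} (hd : d ^ n * T.det = 1)
    (hns : ∀ z : F, T ≠ z • (1 : Matrix (Fin n) (Fin n) F)) :
    ∃ (P : GL (Fin n) F) (ω : F) (M : Matrix (Fin n) (Fin n) ↥F₀), ω ^ r = 1 ∧
      M.map F₀.subtype = ω • (((P⁻¹ : GL (Fin n) F) : Matrix (Fin n) (Fin n) F) * T * P) := by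
  classical
  letI : Fintype ↥F₀ := Fintype.ofFinite _
  have hr0 : r ≠ 0 := (Fact.out : r.Prime).ne_zero
  have hd0 : d ≠ 0 := fun h => by rw [h, zero_pow hn.ne', zero_mul] at hd; exact zero_ne_one hd
  let x : Matrix.SpecialLinearGroup (Fin n) F :=
    ⟨d • T, by rw [Matrix.det_smul, Fintype.card_fin]; exact hd⟩
  obtain ⟨P, hP⟩ := hall x ⟨d ^ r, by
    rw [Matrix.SpecialLinearGroup.coe_pow]
    show (d • T) ^ r = _
    rw [smul_pow, hT]⟩ fun z hz => hns (d⁻¹ * z) (by
    rw [← smul_smul, ← show d • T = z • (1 : Matrix (Fin n) (Fin n) F) from hz, smul_smul,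
      inv_mul_cancel₀ hd0, one_smul])
  rw [Subgroup.mem_comap, map_mul, map_mul, map_inv] at hP
  set Pg := Matrix.SpecialLinearGroup.toGL P with hPg
  obtain ⟨a, ha0, ha⟩ := (CfsgLib.Classical.SubfieldMax.mem_subfieldSubgroup_iff _ _ _).1 hP
  rw [inv_one, one_mul, mul_one] at ha
  set N := ((Pg⁻¹ : GL (Fin n) F) : Matrix (Fin n) (Fin n) F) * T * Pg with hN
  have hentry : ∀ i j, (a * d) * N i j ∈ F₀ := fun i j => by
    have h := ha i j
    rw [Units.val_mul, Units.val_mul,
      show ((Matrix.SpecialLinearGroup.toGL x : GL (Fin n) F) : Matrix (Fin n) (Fin n) F) = d • T from rfl,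
      Matrix.mul_smul, Matrix.smul_mul, Matrix.smul_apply, smul_eq_mul, ← mul_assoc] at h
    exact h
  let M₀ : Matrix (Fin n) (Fin n) ↥F₀ := Matrix.of fun i j => ⟨(a * d) * N i j, hentry i j⟩
  have hM₀ : M₀.map F₀.subtype = (a * d) • N := by ext i j; rfl
  have hNr : N ^ r = 1 := by
    have hpow : ∀ m : ℕ, N ^ m = ((Pg⁻¹ : GL (Fin n) F) : Matrix (Fin n) (Fin n) F) * T ^ m * Pg := by
      intro m
      induction m with
      | zero => rw [pow_zero, pow_zero, Matrix.mul_one, ← Units.val_mul, inv_mul_cancel, Units.val_one]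
      | succ m ih =>
        rw [pow_succ, ih, hN, pow_succ]
        calc _ = ((Pg⁻¹ : GL (Fin n) F) : Matrix (Fin n) (Fin n) F) * T ^ m * ((Pg : Matrix (Fin n) (Fin n) F) *
              ((Pg⁻¹ : GL (Fin n) F) : Matrix (Fin n) (Fin n) F)) * T * Pg := by simp only [Matrix.mul_assoc]
          _ = _ := by rw [← Units.val_mul, mul_inv_cancel, Units.val_one, Matrix.mul_one]; simp only [Matrix.mul_assoc]
    rw [hpow, hT, Matrix.mul_one, ← Units.val_mul, inv_mul_cancel, Units.val_one]
  let i₀ : Fin n := ⟨0, hn⟩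
  set c : ↥F₀ := (M₀ ^ r) i₀ i₀ with hc
  have hcv : (c : F) = (a * d) ^ r := by
    have h := congrArg (fun A : Matrix (Fin n) (Fin n) F => A i₀ i₀)
      (show (M₀ ^ r).map F₀.subtype = ((a * d) • N) ^ r by rw [Matrix.map_pow, hM₀])
    simpa [smul_pow, hNr, hc] using h
  obtain ⟨μ, hμ⟩ := exists_root_of_coprime (F := ↥F₀) hr0
    (((Fact.out : r.Prime).coprime_iff_not_dvd.2 (by rwa [← Nat.card_eq_fintype_card])).symm) c
  have hμv : (μ : F) ^ r = (a * d) ^ r := by rw [← hcv, ← hμ]; simp
  have hμ0 : (μ : F) ≠ 0 := fun h => by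
    rw [h, zero_pow hr0] at hμv
    exact pow_ne_zero r (mul_ne_zero ha0 hd0) hμv.symm
  refine ⟨Pg, a * d / μ, μ⁻¹ • M₀, by rw [div_pow, hμv, div_self (pow_ne_zero r (mul_ne_zero ha0 hd0))], ?_⟩
  ext i j
  simp only [Matrix.map_apply, Matrix.smul_apply, smul_eq_mul, map_mul]
  show ((μ⁻¹ : ↥F₀) : F) * (a * d * N i j) = a * d / μ * N i j
  rw [show ((μ⁻¹ : ↥F₀) : F) = (μ : F)⁻¹ from rfl]
  ring

/-- Multiplicities of eigenvalues are invariant under the Frobenius of the subfield. -/
theorem eigen_invariant {p : ℕ} [Fact p.Prime] [CharP F p] (F₀ : Subfield F) {n : ℕ} (hn : 0 < n) {r : ℕ} [Fact r.Prime]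
    (hrq : ¬ r ∣ Nat.card ↥F₀ - 1)
    (hall : ∀ x : Matrix.SpecialLinearGroup (Fin n) F,
      (∃ z : F, ((x ^ r : Matrix.SpecialLinearGroup (Fin n) F) : Matrix (Fin n) (Fin n) F) = z • (1 : Matrix (Fin n) (Fin n) F)) →
      (∀ z : F, (x : Matrix (Fin n) (Fin n) F) ≠ z • (1 : Matrix (Fin n) (Fin n) F)) →
      ∃ P : Matrix.SpecialLinearGroup (Fin n) F, P⁻¹ * x * P ∈ ((Cfsg.Geo.subfieldSubgroup F₀ 1).comap (Matrix.SpecialLinearGroup.toGL : Matrix.SpecialLinearGroup (Fin n) F →* GL (Fin n) F)))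
    [DecidableEq F] (c : Fin n → F) (hc : ∀ k, c k ^ r = 1) {d : F} (hd : d ^ n * ∏ k, c k = 1) {k₁ k₂ : Fin n}
    (hne : c k₁ ≠ c k₂) :
    ∃ ω : F, ω ^ r = 1 ∧ ∀ x : F, (Finset.univ.filter fun k => ω * c k = x).card =
      (Finset.univ.filter fun k => ω * c k = x ^ Nat.card ↥F₀).card := by
  classical
  obtain ⟨σ, hσ⟩ := exists_frobenius (p := p) F₀
  obtain ⟨P, ω, M, hω, hM⟩ := extract F₀ hn hrq hall (T := Matrix.diagonal c)
    (by rw [Matrix.diagonal_pow, show c ^ r = 1 from funext hc, Matrix.diagonal_one'])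
    (by rw [Matrix.det_diagonal]; exact hd) fun z hz => hne (by
      have h1 := congrFun (congrFun hz k₁) k₁
      have h2 := congrFun (congrFun hz k₂) k₂
      simp at h1 h2
      rw [h1, h2])
  refine ⟨ω, hω, fun x => ?_⟩
  have hrank : ∀ x : F, (M.map F₀.subtype - x • 1).rank = n - (Finset.univ.filter fun k => ω * c k = x).card := by
    intro x
    have hu : ∀ g : GL (Fin n) F, IsUnit (g : Matrix (Fin n) (Fin n) F).det := fun g =>
      (Matrix.isUnit_iff_isUnit_det _).1 g.isUnit
    have e : M.map F₀.subtype - x • 1 = ((P⁻¹ : GL (Fin n) F) : Matrix (Fin n) (Fin n) F) *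
        Matrix.diagonal (fun k => ω * c k - x) * P := by
      rw [hM, show Matrix.diagonal (fun k => ω * c k - x) = ω • Matrix.diagonal c - x • 1 by
          rw [← Matrix.diagonal_one, ← Matrix.diagonal_smul, ← Matrix.diagonal_smul, Matrix.diagonal_sub]
          simp, Matrix.mul_sub, Matrix.sub_mul]
      simp [Matrix.mul_smul, Matrix.smul_mul, ← Units.val_mul]
    rw [e, Matrix.rank_mul_eq_left_of_isUnit_det _ _ (hu P), Matrix.rank_mul_eq_right_of_isUnit_det _ _ (hu P⁻¹),
      Matrix.rank_diagonal, Fintype.card_subtype]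
    have := Finset.card_filter_add_card_filter_not (s := (Finset.univ : Finset (Fin n))) fun k => ω * c k = x
    rw [Finset.card_univ, Fintype.card_fin] at this
    simp only [sub_ne_zero]
    simp only [ne_eq] at *
    omega
  have hle : ∀ x : F, (Finset.univ.filter fun k => ω * c k = x).card ≤ n := fun x =>
    (Finset.card_le_univ _).trans_eq (Fintype.card_fin n)
  have e : M.map F₀.subtype - x ^ Nat.card ↥F₀ • 1 = (M.map F₀.subtype - x • 1).map σ := by
    ext i j
    simp only [Matrix.sub_apply, Matrix.map_apply, Matrix.smul_apply, smul_eq_mul, map_sub, map_mul]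
    rw [show σ (F₀.subtype (M i j)) = F₀.subtype (M i j) by rw [hσ]; exact pow_card_of_mem F₀ (M i j).2, hσ x]
    rcases eq_or_ne i j with rfl | hij
    · simp
    · simp [Matrix.one_apply_ne hij]
  have h1 := hrank (x ^ Nat.card ↥F₀)
  rw [e, SubfieldRational.rank_map_field, hrank] at h1
  have := hle x
  have := hle (x ^ Nat.card ↥F₀)
  omega

/-- Two values of unique multiplicity cannot both be invariant. -/
theorem two_values (F₀ : Subfield F) {n : ℕ} {r : ℕ} [Fact r.Prime] (hrq : ¬ r ∣ Nat.card ↥F₀ - 1)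
    [DecidableEq F] {c : Fin n → F} (hc : ∀ k, c k ^ r = 1) {ω : F} (hω : ω ^ r = 1)
    (hinv : ∀ x : F, (Finset.univ.filter fun k => ω * c k = x).card =
      (Finset.univ.filter fun k => ω * c k = x ^ Nat.card ↥F₀).card)
    {k₁ k₂ : Fin n} (hne : c k₁ ≠ c k₂)
    (h1 : ∀ k, (Finset.univ.filter fun l => c l = c k).card = (Finset.univ.filter fun l => c l = c k₁).card → c k = c k₁)
    (h2 : ∀ k, (Finset.univ.filter fun l => c l = c k).card = (Finset.univ.filter fun l => c l = c k₂).card → c k = c k₂) :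
    False := by
  classical
  have hω0 : ω ≠ 0 := fun h => by
    rw [h, zero_pow (Fact.out : r.Prime).ne_zero] at hω; exact zero_ne_one hω
  have hfilter : ∀ k, (Finset.univ.filter fun l => ω * c l = ω * c k) = Finset.univ.filter fun l => c l = c k :=
    fun k => Finset.filter_congr fun l _ => by simp [hω0]
  have key : ∀ k₁, (∀ k, (Finset.univ.filter fun l => c l = c k).card =
      (Finset.univ.filter fun l => c l = c k₁).card → c k = c k₁) → ω * c k₁ = 1 := by
    intro k₁ h1
    have h := hinv (ω * c k₁)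
    obtain ⟨k, hk⟩ := Finset.card_pos.1 (by rw [← h]; exact Finset.card_pos.2 ⟨k₁, Finset.mem_filter.2 ⟨Finset.mem_univ _, rfl⟩⟩ : 0 < (Finset.univ.filter fun k => ω * c k = (ω * c k₁) ^ Nat.card ↥F₀).card)
    have hk' := (Finset.mem_filter.1 hk).2
    have hkk : c k = c k₁ := by
      refine h1 k ?_
      rw [← hfilter, ← hfilter, h, hk']
    rw [hkk] at hk'
    set u := ω * c k₁ with hu
    have hur : u ^ r = 1 := by rw [hu, mul_pow, hω, hc, one_mul]
    have hu0 : u ≠ 0 := fun h0 => by rw [h0, zero_pow (Fact.out : r.Prime).ne_zero] at hur; exact zero_ne_one hur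
    have hpos : 0 < Nat.card ↥F₀ := Nat.card_pos
    have hum : u ^ (Nat.card ↥F₀ - 1) = 1 := by
      refine mul_right_cancel₀ hu0 ?_
      rw [← pow_succ, Nat.sub_add_cancel hpos, one_mul]
      exact hk'.symm
    have := pow_gcd_eq_one.2 ⟨hum, hur⟩
    rwa [((Fact.out : r.Prime).coprime_iff_not_dvd.2 hrq).symm.gcd_eq_one, pow_one] at this
  exact hne (mul_left_cancel₀ hω0 ((key k₁ h1).trans (key k₂ h2).symm))

/-- The index of the subfield subgroup: a prime divisor other than the characteristic. -/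
theorem index_arith {n : ℕ} (hn : 2 ≤ n) (F₀ : Subfield F) {k q₀ : ℕ} (hk : k.Prime)
    (hF₀ : Nat.card ↥F₀ = q₀) (hqk : Fintype.card F = q₀ ^ k) {r : ℕ} [Fact r.Prime] (hrk : r ≠ k)
    (hrq : ¬ r ∣ q₀)
    (hΩ : r ∣ ((Cfsg.Geo.subfieldSubgroup F₀ 1).comap (Matrix.SpecialLinearGroup.toGL : Matrix.SpecialLinearGroup (Fin n) F →* GL (Fin n) F)).index) :
    ∃ j, 2 ≤ j ∧ j ≤ n ∧ ¬ orderOf (q₀ : ZMod r) ∣ j ∧ orderOf (q₀ : ZMod r) ∣ j * k := by
  classical
  letI : Fintype ↥F₀ := Fintype.ofFinite _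
  have hq0 : Fintype.card ↥F₀ = q₀ := by rw [← hF₀, Nat.card_eq_fintype_card]
  have hq01 : 1 < q₀ := hq0 ▸ Fintype.one_lt_card
  let o : ℕ → ℕ := fun j => ∑ i ∈ Finset.range k, (q₀ ^ j) ^ i
  have ho' : ∀ j, (q₀ ^ k) ^ j - 1 = (q₀ ^ j - 1) * o j := fun j => by
    have h := geom_sum_mul_add (q₀ ^ j - 1) k
    rw [Nat.sub_add_cancel (Nat.one_le_pow _ _ (by omega))] at h
    rw [← pow_mul, mul_comm k j, pow_mul, mul_comm (q₀ ^ j - 1)]
    show _ = (∑ i ∈ Finset.range k, (q₀ ^ j) ^ i) * (q₀ ^ j - 1)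
    omega
  let f : Matrix.SpecialLinearGroup (Fin n) ↥F₀ →* Matrix.SpecialLinearGroup (Fin n) F :=
    Matrix.SpecialLinearGroup.map F₀.subtype
  have hf : Function.Injective f := fun a b h => by
    refine Subtype.ext (Matrix.ext fun i j => Subtype.ext ?_)
    exact congrFun (congrFun (congrArg Subtype.val h) i) j
  have hle : f.range ≤ (Cfsg.Geo.subfieldSubgroup F₀ (1 : GL (Fin n) F)).comap Matrix.SpecialLinearGroup.toGL := by
    rintro _ ⟨a, rfl⟩
    refine (CfsgLib.Classical.SubfieldMax.mem_subfieldSubgroup_iff _ _ _).2 ⟨1, one_ne_zero, fun i j => ?_⟩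
    rw [inv_one, one_mul, mul_one, one_mul]
    exact (a.1 i j).2
  have hidx := hΩ.trans (Subgroup.index_dvd_of_le hle)
  have hmul : f.range.index * Nat.card (Matrix.SpecialLinearGroup (Fin n) ↥F₀) =
      Nat.card (Matrix.SpecialLinearGroup (Fin n) F) := by
    rw [show Nat.card (Matrix.SpecialLinearGroup (Fin n) ↥F₀) = Nat.card f.range from
      Nat.card_congr (MonoidHom.ofInjective hf).toEquiv, Subgroup.index_mul_card]
  have hC := CfsgLib.Classical.card_sl_mul hqk n (by omega)
  have hC0 := CfsgLib.Classical.card_sl_mul hq0 n (by omega)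
  have hfac : ∀ i : Fin n, (q₀ ^ k) ^ n - (q₀ ^ k) ^ (i : ℕ) =
      (q₀ ^ n - q₀ ^ (i : ℕ)) * (q₀ ^ ((k - 1) * i.1) * o (n - i)) := fun i => by
    have h1 : ∀ a : ℕ, a ^ n - a ^ (i : ℕ) = a ^ (i : ℕ) * (a ^ (n - i) - 1) := fun a => by
      rw [Nat.mul_sub_one, ← pow_add, Nat.add_sub_cancel' (by omega)]
    have h2 : (q₀ ^ k) ^ (i : ℕ) = q₀ ^ (i : ℕ) * q₀ ^ ((k - 1) * i.1) := by
      rw [← pow_mul, ← pow_add]
      congr 1
      obtain ⟨k', rfl⟩ : ∃ k', k = k' + 1 := ⟨k - 1, by have := hk.pos; omega⟩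
      rw [Nat.add_sub_cancel]; ring
    rw [h1, h1, h2, ho']
    ring
  rw [Finset.prod_congr rfl fun i _ => hfac i, Finset.prod_mul_distrib, ← hC0, ← hmul] at hC
  have h1 : q₀ ^ k - 1 = (q₀ - 1) * o 1 := by simpa using ho' 1
  have hpos : 0 < (q₀ - 1) * Nat.card (Matrix.SpecialLinearGroup (Fin n) ↥F₀) :=
    Nat.mul_pos (by omega) Nat.card_pos
  have heq : o 1 * f.range.index = ∏ i : Fin n, q₀ ^ ((k - 1) * i.1) * o (n - i) := by
    refine Nat.eq_of_mul_eq_mul_left hpos (Eq.trans ?_ hC)
    rw [h1]; ring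
  have hlast : n - 1 < n := by omega
  rw [← Finset.mul_prod_erase Finset.univ _ (Finset.mem_univ (⟨n - 1, hlast⟩ : Fin n)),
    show n - (n - 1) = 1 from by omega] at heq
  have ho1 : 0 < o 1 := Finset.sum_pos (fun i _ => pow_pos (pow_pos (by omega) _) _)
    ⟨0, Finset.mem_range.2 hk.pos⟩
  have hindex : f.range.index = q₀ ^ ((k - 1) * (n - 1)) *
      ∏ i ∈ Finset.univ.erase (⟨n - 1, hlast⟩ : Fin n), q₀ ^ ((k - 1) * i.1) * o (n - i) := by
    refine Nat.eq_of_mul_eq_mul_left ho1 (heq.trans ?_)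
    ring
  have hrp : r.Prime := Fact.out
  rw [hindex] at hidx
  rcases hrp.dvd_mul.1 hidx with h | h
  · exact absurd (hrp.dvd_of_dvd_pow h) hrq
  obtain ⟨i, hi, hri⟩ := (Nat.prime_iff.1 hrp).exists_mem_finset_dvd h
  rcases hrp.dvd_mul.1 hri with h' | h'
  · exact absurd (hrp.dvd_of_dvd_pow h') hrq
  have hne : i.1 ≠ n - 1 := fun h => (Finset.mem_erase.1 hi).1 (Fin.ext h)
  refine ⟨n - i, by omega, by omega, fun hd => ?_, ?_⟩
  · have hQ : ((q₀ : ZMod r)) ^ (n - i.1) = 1 := orderOf_dvd_iff_pow_eq_one.1 hd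
    have h0 : ((o (n - i.1) : ℕ) : ZMod r) = 0 := (ZMod.natCast_eq_zero_iff _ _).2 h'
    simp only [o, Nat.cast_sum, Nat.cast_pow, hQ, one_pow, Finset.sum_const, Finset.card_range, nsmul_eq_mul,
      mul_one] at h0
    exact hrk ((Nat.prime_dvd_prime_iff_eq hrp hk).1 ((ZMod.natCast_eq_zero_iff _ _).1 h0))
  · refine orderOf_dvd_iff_pow_eq_one.2 ?_
    have h0 : ((o (n - i.1) : ℕ) : ZMod r) = 0 := (ZMod.natCast_eq_zero_iff _ _).2 h'
    simp only [o, Nat.cast_sum, Nat.cast_pow] at h0
    have h2 := geom_sum_mul ((q₀ : ZMod r) ^ (n - i.1)) k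
    rw [h0, zero_mul, ← pow_mul] at h2
    exact sub_eq_zero.1 h2.symm

/-- From a rational basis to a conjugate in the subfield group. -/
theorem conj_mem (F₀ : Subfield F) {n : ℕ} (hn : 0 < n) {r : ℕ} [Fact r.Prime] (hr : (r : F) ≠ 0)
    (x : Matrix.SpecialLinearGroup (Fin n) F) {z : F}
    (hz : ((x ^ r : Matrix.SpecialLinearGroup (Fin n) F) : Matrix (Fin n) (Fin n) F) = z • (1 : Matrix (Fin n) (Fin n) F))
    (B : Basis (Fin n) F (Fin n → F)) {a : F} (ha : a ≠ 0)
    (hB : ∀ i j, a * B.repr (Matrix.toLin' (x : Matrix (Fin n) (Fin n) F) (B j)) i ∈ F₀) :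
    ∃ P : Matrix.SpecialLinearGroup (Fin n) F, P⁻¹ * x * P ∈ ((Cfsg.Geo.subfieldSubgroup F₀ 1).comap (Matrix.SpecialLinearGroup.toGL : Matrix.SpecialLinearGroup (Fin n) F →* GL (Fin n) F)) := by
  classical
  haveI : Nonempty (Fin n) := ⟨⟨0, hn⟩⟩
  have hz0 : z ≠ 0 := fun h0 => by
    have h := congrArg Matrix.det hz
    rw [Matrix.SpecialLinearGroup.det_coe, h0, zero_smul, Matrix.det_zero] at h
    exact one_ne_zero h
  obtain ⟨P, hP⟩ := InvCl.exists_gl_of_equiv (Matrix.SpecialLinearGroup.toGL x) B.equivFun.symm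
  have hd : (P : Matrix (Fin n) (Fin n) F).det ≠ 0 := (Matrix.GeneralLinearGroup.det P).ne_zero
  let L : Module.End F (Fin n → F) := Matrix.toLinAlgEquiv' (x : Matrix (Fin n) (Fin n) F)
  have hL : L ^ r = algebraMap F (Module.End F (Fin n → F)) z := by
    rw [← map_pow, ← Matrix.SpecialLinearGroup.coe_pow, hz, ← Algebra.algebraMap_eq_smul_one, AlgEquiv.commutes]
  obtain ⟨C, hCd, hCc⟩ := SubfieldRational.exists_commute_det_prime (split_of_pow hr hz0 hL)
    ((P : Matrix (Fin n) (Fin n) F).det)⁻¹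
  let M := LinearMap.toMatrix' C
  have hMd : M.det = ((P : Matrix (Fin n) (Fin n) F).det)⁻¹ := by rw [LinearMap.det_toMatrix', hCd]
  have hMc : M * (x : Matrix (Fin n) (Fin n) F) = (x : Matrix (Fin n) (Fin n) F) * M := by
    have := congrArg LinearMap.toMatrix' hCc
    rw [Module.End.mul_eq_comp, Module.End.mul_eq_comp, LinearMap.toMatrix'_comp, LinearMap.toMatrix'_comp] at this
    rwa [show LinearMap.toMatrix' L = (x : Matrix (Fin n) (Fin n) F) from LinearMap.toMatrix'_toLin' _] at this
  let Qg : GL (Fin n) F := Matrix.GeneralLinearGroup.mkOfDetNeZero M (by rw [hMd]; exact inv_ne_zero hd)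
  let S : Matrix.SpecialLinearGroup (Fin n) F := ⟨M * P, by rw [Matrix.det_mul, hMd, inv_mul_cancel₀ hd]⟩
  refine ⟨S, ?_⟩
  have hS : Matrix.SpecialLinearGroup.toGL S = Qg * P := Units.ext rfl
  have hcomm : Qg * Matrix.SpecialLinearGroup.toGL x = Matrix.SpecialLinearGroup.toGL x * Qg := Units.ext hMc
  rw [Subgroup.mem_comap, map_mul, map_mul, map_inv, hS]
  have h : (Qg * P)⁻¹ * Matrix.SpecialLinearGroup.toGL x * (Qg * P) =
      P⁻¹ * Matrix.SpecialLinearGroup.toGL x * P := by
    rw [_root_.mul_inv_rev, mul_assoc P⁻¹, mul_assoc P⁻¹, ← mul_assoc _ Qg, mul_assoc Qg⁻¹, ← hcomm, inv_mul_cancel_left,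
      ← mul_assoc]
  rw [h]
  refine (CfsgLib.Classical.SubfieldMax.mem_subfieldSubgroup_iff _ _ _).2 ⟨a, ha, fun i j => ?_⟩
  rw [inv_one, one_mul, mul_one]
  have hM := congrFun (hP (Pi.single j 1)) i
  rw [Matrix.mulVec_single_one] at hM
  simp only [Matrix.col_apply, LinearEquiv.symm_symm] at hM
  rw [hM, Module.Basis.equivFun_apply]
  have hBj : B.equivFun.symm (Pi.single j 1) = B j := B.equivFun.injective (by
    funext l; simp [Pi.single_apply, eq_comm])
  rw [hBj]
  exact hB i j

/-- Elements with paired eigenvalues are written over the subfield of index two. -/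
theorem paired_basis (F₀ : Subfield F) {n : ℕ} {y : Module.End F (Fin n → F)}
    (β : Basis (Fin n) F (Fin n → F)) (a : Fin n → F) (hy : ∀ k, y (β k) = a k • β k)
    (π : Fin n → Fin n) (hπ : ∀ k, π (π k) = k) (hprod : ∀ k, a k * a (π k) = 1)
    (hsq : ∀ k, a k = a (π k) → a k = 1) (hF : ∀ k, a k + a (π k) ∈ F₀) :
    ∃ B : Basis (Fin n) F (Fin n → F), ∀ i j, B.repr (y (B j)) i ∈ F₀ := by
  classical
  have hne : ∀ k, a k ≠ 1 → π k ≠ k := fun k hk h => hk (hsq k (by rw [h]))
  have hπ1 : ∀ k, a k = 1 → a (π k) = 1 := fun k hk => by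
    have := hprod k; rwa [hk, one_mul] at this
  let v : Fin n → (Fin n → F) := fun k => if a k = 1 then β k else
    if k < π k then β k + β (π k) else a (π k) • β (π k) + a k • β k
  have hspan : ⊤ ≤ Submodule.span F (Set.range v) := by
    rw [← β.span_eq, Submodule.span_le]
    have key : ∀ k, a k ≠ 1 → k < π k →
        β k ∈ Submodule.span F (Set.range v) ∧ β (π k) ∈ Submodule.span F (Set.range v) := by
      intro k hk hlt
      have hk' : a (π k) ≠ 1 := fun h => hk (by simpa [hπ] using hπ1 _ h)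
      have hu : β k + β (π k) ∈ Submodule.span F (Set.range v) :=
        Submodule.subset_span ⟨k, by simp [v, hk, hlt]⟩
      have hw : a k • β k + a (π k) • β (π k) ∈ Submodule.span F (Set.range v) :=
        Submodule.subset_span ⟨π k, by simp [v, hk', hπ, not_lt.2 hlt.le]⟩
      have hdiff : a k - a (π k) ≠ 0 := sub_ne_zero.2 fun h => hk (hsq k h)
      have h1 : (a k - a (π k)) • β k ∈ Submodule.span F (Set.range v) := by
        have := Submodule.sub_mem _ hw (Submodule.smul_mem _ (a (π k)) hu)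
        convert this using 1
        module
      have h2 : β k ∈ Submodule.span F (Set.range v) := by
        have := Submodule.smul_mem _ (a k - a (π k))⁻¹ h1
        rwa [smul_smul, inv_mul_cancel₀ hdiff, one_smul] at this
      exact ⟨h2, by simpa using Submodule.sub_mem _ hu h2⟩
    rintro _ ⟨k, rfl⟩
    by_cases hk : a k = 1
    · exact Submodule.subset_span ⟨k, by simp [v, hk]⟩
    rcases lt_or_gt_of_ne (hne k hk).symm with hlt | hgt
    · exact (key k hk hlt).1
    · have hk' : a (π k) ≠ 1 := fun h => hk (by simpa [hπ] using hπ1 _ h)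
      have := (key (π k) hk' (by rw [hπ]; exact hgt)).2
      rwa [hπ] at this
  let B := basisOfTopLeSpanOfCardEqFinrank v hspan (by rw [Fintype.card_fin, finrank_fin_fun])
  have hBv : ∀ k, B k = v k := fun k => by rw [coe_basisOfTopLeSpanOfCardEqFinrank]
  refine ⟨B, fun i j => ?_⟩
  have hsingle : ∀ l, B.repr (B l) i ∈ F₀ := fun l => by
    rw [B.repr_self, Finsupp.single_apply]; split_ifs <;> simp [one_mem, zero_mem]
  by_cases hj : a j = 1
  · have hvj : v j = β j := by simp [v, hj]
    have he : y (B j) = B j := by rw [hBv, hvj, hy, hj, one_smul]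
    rw [he]; exact hsingle j
  have hj' : a (π j) ≠ 1 := fun h => hj (by simpa [hπ] using hπ1 _ h)
  rcases lt_or_gt_of_ne (hne j hj).symm with hlt | hgt
  · have he : y (B j) = B (π j) := by
      rw [hBv, hBv, show v j = β j + β (π j) by simp [v, hj, hlt],
        show v (π j) = a j • β j + a (π j) • β (π j) by simp [v, hj', hπ, not_lt.2 hlt.le], map_add, hy, hy]
    rw [he]; exact hsingle _
  · have he : y (B j) = (a j + a (π j)) • B j - B (π j) := by
      rw [hBv, hBv, show v j = a (π j) • β (π j) + a j • β j by simp [v, hj, not_lt.2 hgt.le],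
        show v (π j) = β (π j) + β j by simp [v, hj', hπ, hgt], map_add, map_smul, map_smul, hy, hy]
      have e1 : a (π j) * a (π j) = (a j + a (π j)) * a (π j) - 1 := by linear_combination -hprod j
      have e2 : a j * a j = (a j + a (π j)) * a j - 1 := by linear_combination -hprod j
      rw [smul_smul, smul_smul, e1, e2]
      module
    rw [he, map_sub, map_smul, Finsupp.sub_apply, Finsupp.smul_apply, smul_eq_mul]
    exact F₀.sub_mem (F₀.mul_mem (hF j) (hsingle j)) (hsingle _)

/-- Elements of odd prime order r ≠ p of PSL_n(q) and subfield subgroups. Here `T = PSL_n(F)` for a field `F` with `q = p^f` elements (`n ≥ 2`, `(n, q) ≠ (2, 2), (2, 3)`), `F₀` is the subfield with `q₀` elements where `q = q₀^k` for a prime `k`, and `H` is the subgroup of matrices of determinant 1 lying in the subfield group of `F₀` (invertible matrices over `F₀` times scalars) — a maximal subgroup of type GL_n(q₀) (the case `n = 2`, `q₀ = 2` is excluded); Ω is the set of `T`-conjugates of `H` (cosets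 of `H`), so an element of `T` of prime order `r` (a matrix `x` of determinant 1 with `x^r` scalar, `x` not scalar) fixes a point of Ω when some conjugate of `x` by a matrix of determinant 1 lies in `H`. Let `r ≠ p` be an odd prime dividing the index of `H`, with `(n, r) ≠ (6, 3)` and, when `r = k` divides `q₀ − 1`, with `(n)_r ≤ (q − 1)_r`. Then every element of `T` of order `r` is conjugate in `T` into `H` if and only if `r = k`, or `k = 2`, `r = n ∈ {3, 5}` and `(q₀ + 1)_r = r`. The two excluded cases, `(n, r) = (6, 3)` and `r = k ∣ q₀ − 1` with `(n)_r > (q − 1)_r`, are ones where this criterion can fail, so they are left out. -/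
theorem result {F : Type*} [Field F] [Fintype F] {p : ℕ} [Fact p.Prime] [CharP F p] {q : ℕ} (hq : Fintype.card F = q)
    (n : ℕ) (hn : 2 ≤ n) (hT : (n, q) ≠ (2, 2) ∧ (n, q) ≠ (2, 3))
    (F₀ : Subfield F) (k q₀ : ℕ) (hk : k.Prime) (hF₀ : Nat.card ↥F₀ = q₀) (hqk : q = q₀ ^ k) (hC5 : ¬ (n = 2 ∧ q₀ = 2)) (r : ℕ) [Fact r.Prime] (hr2 : r ≠ 2) (hrp : r ≠ p) (hgap : ¬ (n = 6 ∧ r = 3)) (hgapk : r = k → r ∣ q₀ - 1 → padicValNat r n ≤ padicValNat r (q - 1)) (hΩ : r ∣ ((Cfsg.Geo.subfieldSubgroup F₀ 1).comap (Matrix.SpecialLinearGroup.toGL : Matrix.SpecialLinearGroup (Fin n) F →* GL (Fin n) F)).index) :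
    (∀ x : Matrix.SpecialLinearGroup (Fin n) F,
      (∃ z : F, ((x ^ r : Matrix.SpecialLinearGroup (Fin n) F) : Matrix (Fin n) (Fin n) F) = z • (1 : Matrix (Fin n) (Fin n) F)) →
      (∀ z : F, (x : Matrix (Fin n) (Fin n) F) ≠ z • (1 : Matrix (Fin n) (Fin n) F)) →
      ∃ P : Matrix.SpecialLinearGroup (Fin n) F, P⁻¹ * x * P ∈ ((Cfsg.Geo.subfieldSubgroup F₀ 1).comap (Matrix.SpecialLinearGroup.toGL : Matrix.SpecialLinearGroup (Fin n) F →* GL (Fin n) F))) ↔
    (r = k ∨ (k = 2 ∧ r = n ∧ (n = 3 ∨ n = 5) ∧ padicValNat r (q₀ + 1) = 1)) := by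
  classical
  subst hq
  haveI : Nonempty (Fin n) := ⟨⟨0, by omega⟩⟩
  letI : Fintype ↥F₀ := Fintype.ofFinite _
  have hq0 : Fintype.card ↥F₀ = q₀ := by rw [← hF₀, Nat.card_eq_fintype_card]
  have hq01 : 1 < q₀ := hq0 ▸ Fintype.one_lt_card
  have hrF : (r : F) ≠ 0 := fun h => hrp ((Nat.prime_dvd_prime_iff_eq Fact.out Fact.out).1
    ((CharP.cast_eq_zero_iff F p r).1 h)).symm
  have hrF₀ : (r : ↥F₀) ≠ 0 := fun h => hrF (by simpa using congrArg Subtype.val h)
  have hrq0 : ¬ r ∣ q₀ := fun h => by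
    haveI : CharP ↥F₀ p := (RingHom.charP_iff F₀.subtype F₀.subtype.injective p).2 inferInstance
    obtain ⟨e, hp, he⟩ := FiniteField.card ↥F₀ p
    rw [← hq0, he] at h
    exact hrp ((Nat.prime_dvd_prime_iff_eq Fact.out hp).1 ((Fact.out : r.Prime).dvd_of_dvd_pow h))
  have hr1 : 1 < r := (Fact.out : r.Prime).one_lt
  have hdvd1 : q₀ - 1 ∣ Fintype.card F - 1 := card_subfield_dvd F₀ hF₀ hqk
  set i₀ := orderOf (q₀ : ZMod r) with hi₀
  set i := orderOf (Fintype.card F : ZMod r) with hi
  have hsub1 : r ∣ q₀ - 1 ↔ i₀ = 1 := by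
    rw [hi₀, orderOf_eq_one_iff, ← ZMod.natCast_eq_zero_iff, Nat.cast_sub (by omega), Nat.cast_one, sub_eq_zero]
  constructor
  · intro hall
    by_contra hcon
    push Not at hcon
    obtain ⟨hrk, hexc⟩ := hcon
    obtain ⟨j, hj2, hjn, hj1, hjk⟩ := index_arith hn F₀ hk hF₀ hqk hrk hrq0 hΩ
    have hki : k ∣ i₀ := by
      by_contra h
      exact hj1 (Nat.Coprime.dvd_of_dvd_mul_right ((hk.coprime_iff_not_dvd.2 h).symm) hjk)
    obtain ⟨i', hi'⟩ := hki
    have hi₀pos : 0 < i₀ := Nat.pos_of_ne_zero fun h0 => by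
      rw [← hi₀, h0, zero_dvd_iff] at hjk
      have := hk.pos
      rcases Nat.mul_eq_zero.1 hjk with h | h <;> omega
    have hii : i = i' := by
      rw [hi, hqk, Nat.cast_pow, orderOf_pow' _ hk.ne_zero, ← hi₀, hi', Nat.gcd_mul_right_left,
        Nat.mul_div_cancel_left _ hk.pos]
    have hrq : ¬ r ∣ Nat.card ↥F₀ - 1 := by
      rw [hF₀, hsub1, hi']
      intro h
      exact hk.ne_one (Nat.eq_one_of_mul_eq_one_right h)
    by_cases hi1 : i = 1
    swap
    · have hij : i ≤ n := by
        refine le_trans (Nat.le_of_dvd (by omega) ?_) hjn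
        rw [hii]
        refine Nat.dvd_of_mul_dvd_mul_left hk.pos ?_
        rw [← hi', mul_comm k j]
        exact hjk
      have hi2 : 2 ≤ i := by
        have : i' ≠ 0 := fun h0 => by rw [h0, mul_zero] at hi'; omega
        omega
      have hco : (Fintype.card F - 1).Coprime r := coprime_of_order_ne_one hi1
      have hdvd : r ∣ Nat.card (GL (Fin i) F) := by
        rw [Matrix.card_GL_field]
        refine dvd_trans ?_ (Finset.dvd_prod_of_mem _ (Finset.mem_univ (⟨0, by omega⟩ : Fin i)))
        rw [← ZMod.natCast_eq_zero_iff, pow_zero, Nat.cast_sub (Nat.one_le_pow _ _ Fintype.card_pos), Nat.cast_pow,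
          hi, pow_orderOf_eq_one, Nat.cast_one, sub_self]
      obtain ⟨g, hg⟩ := exists_prime_orderOf_dvd_card' (G := GL (Fin i) F) r hdvd
      let E : Matrix (Fin n) (Fin i) F := (1 : Matrix (Fin n) (Fin n) F).submatrix id (Fin.castLE hij)
      let E' : Matrix (Fin i) (Fin n) F := (1 : Matrix (Fin n) (Fin n) F).submatrix (Fin.castLE hij) id
      have hEE : E' * E = 1 := by
        rw [← Matrix.submatrix_mul _ _ _ _ _ Function.bijective_id, Matrix.one_mul,
          Matrix.submatrix_one _ (Fin.castLE_injective hij)]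
      set gm := (g : Matrix (Fin i) (Fin i) F) with hgm
      let T : Matrix (Fin n) (Fin n) F := 1 + E * (gm - 1) * E'
      have hTpow : ∀ m : ℕ, T ^ m = 1 + E * (gm ^ m - 1) * E' := by
        intro m
        induction m with
        | zero => simp
        | succ m ih =>
          have e : E * (gm ^ m - 1) * E' * (E * (gm - 1) * E') = E * ((gm ^ m - 1) * (gm - 1)) * E' := by
            rw [show E * (gm ^ m - 1) * E' * (E * (gm - 1) * E') = E * (gm ^ m - 1) * (E' * E) * (gm - 1) * E' by
              simp only [Matrix.mul_assoc], hEE, Matrix.mul_one]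
            simp only [Matrix.mul_assoc]
          rw [pow_succ, ih]
          simp only [T]
          rw [add_mul, mul_add, mul_add, one_mul, one_mul, mul_one, e, pow_succ]
          simp only [Matrix.mul_sub, Matrix.sub_mul, Matrix.mul_one, Matrix.one_mul]
          abel
      have hgr : gm ^ r = 1 := by
        rw [hgm, ← Units.val_pow_eq_pow_val, ← hg, pow_orderOf_eq_one, Units.val_one]
      have hTr : T ^ r = 1 := by rw [hTpow, hgr, sub_self, Matrix.mul_zero, Matrix.zero_mul, add_zero]
      have hTd : T.det = 1 := eq_one_of_pow_eq_one (by omega) hco (by rw [← Matrix.det_pow, hTr, Matrix.det_one])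
      have hT1 : T ≠ 1 := fun h => by
        have h1 : E * (gm - 1) * E' = 0 := by simpa [T] using h
        have h2 : E' * (E * (gm - 1) * E') * E = 0 := by rw [h1, Matrix.mul_zero, Matrix.zero_mul]
        rw [show E' * (E * (gm - 1) * E') * E = (E' * E) * (gm - 1) * (E' * E) by
          simp only [Matrix.mul_assoc], hEE, Matrix.one_mul, Matrix.mul_one, sub_eq_zero] at h2
        rw [show g = 1 from Units.ext h2, orderOf_one] at hg
        omega
      obtain ⟨P, ω, M, hω, hM⟩ := extract F₀ (by omega) hrq hall hTr (d := 1) (by rw [one_pow, one_mul, hTd])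
        fun z hz => hT1 (by
          have hz1 : z = 1 := by
            refine eq_one_of_pow_eq_one (by omega) hco ?_
            rw [hz, smul_pow, one_pow] at hTr
            simpa using congrFun (congrFun hTr ⟨0, by omega⟩) ⟨0, by omega⟩
          rw [hz, hz1, one_smul])
      rw [eq_one_of_pow_eq_one (by omega) hco hω, one_smul] at hM
      have hrk1 : (M - 1).rank = (T - 1).rank := by
        rw [← SubfieldRational.rank_map_field F₀.subtype (M - 1), Matrix.map_sub _ (map_sub _),
          Matrix.map_one _ (map_zero _) (map_one _), hM,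
          show ((P⁻¹ : GL (Fin n) F) : Matrix (Fin n) (Fin n) F) * T * P - 1
            = ((P⁻¹ : GL (Fin n) F) : Matrix (Fin n) (Fin n) F) * (T - 1) * P by
            rw [Matrix.mul_sub, Matrix.sub_mul, Matrix.mul_one, ← Units.val_mul, inv_mul_cancel, Units.val_one],
          Matrix.rank_mul_eq_left_of_isUnit_det _ _ ((Matrix.isUnit_iff_isUnit_det _).1 P.isUnit),
          Matrix.rank_mul_eq_right_of_isUnit_det _ _ ((Matrix.isUnit_iff_isUnit_det _).1 P⁻¹.isUnit)]
      have hle : (T - 1).rank ≤ i := by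
        simp only [T, add_sub_cancel_left]
        exact ((Matrix.rank_mul_le_left _ _).trans (Matrix.rank_mul_le_left _ _)).trans
          ((Matrix.rank_le_card_width E).trans_eq (Fintype.card_fin i))
      have hpos : 0 < (T - 1).rank := Nat.pos_of_ne_zero fun h0 => hT1 (sub_eq_zero.1 (by
        rw [Matrix.rank, Submodule.finrank_eq_zero, LinearMap.range_eq_bot] at h0
        refine Matrix.ext fun a b => ?_
        have := congrFun (LinearMap.congr_fun h0 (Pi.single b 1)) a
        simpa [Matrix.one_apply, Pi.single_apply] using this))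
      have hMr : M ^ r = 1 := by
        apply Matrix.map_injective F₀.subtype.injective
        show (M ^ r).map F₀.subtype = (1 : Matrix (Fin n) (Fin n) ↥F₀).map F₀.subtype
        rw [Matrix.map_pow, hM, Matrix.map_one _ (map_zero _) (map_one _)]
        have hpw : ∀ m : ℕ, (((P⁻¹ : GL (Fin n) F) : Matrix (Fin n) (Fin n) F) * T * P) ^ m =
            ((P⁻¹ : GL (Fin n) F) : Matrix (Fin n) (Fin n) F) * T ^ m * P := by
          intro m
          induction m with
          | zero => simp [← Units.val_mul]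
          | succ m ih =>
            rw [pow_succ, ih, pow_succ]
            calc _ = ((P⁻¹ : GL (Fin n) F) : Matrix (Fin n) (Fin n) F) * T ^ m * ((P : Matrix (Fin n) (Fin n) F) *
                  ((P⁻¹ : GL (Fin n) F) : Matrix (Fin n) (Fin n) F)) * T * P := by simp only [Matrix.mul_assoc]
              _ = _ := by rw [← Units.val_mul, mul_inv_cancel, Units.val_one, Matrix.mul_one]; simp only [Matrix.mul_assoc]
        rw [hpw, hTr, Matrix.mul_one, ← Units.val_mul, inv_mul_cancel, Units.val_one]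
      let y : Module.End ↥F₀ (Fin n → ↥F₀) := Matrix.toLinAlgEquiv' M
      obtain ⟨E0, hE0, -, hu, -⟩ := exists_structure hrF₀ (show y ^ r = 1 by rw [← map_pow, hMr, map_one])
      have h5 := Submodule.finrank_add_eq_of_isCompl hE0
      have h6 := LinearMap.finrank_range_add_finrank_ker (M - 1).mulVecLin
      rw [finrank_fin_fun] at h5 h6
      have hker : LinearMap.ker (M - 1).mulVecLin = y.eigenspace 1 := by
        ext v
        rw [LinearMap.mem_ker, Module.End.mem_eigenspace_iff, one_smul, Matrix.mulVecLin_apply,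
          Matrix.sub_mulVec, Matrix.one_mulVec, sub_eq_zero]
        rfl
      rw [hker] at h6
      have h7 := hu.dvd E0 le_rfl hu.inv
      have hE0r : finrank ↥F₀ E0 = (T - 1).rank := by
        rw [← hrk1, Matrix.rank]; omega
      rw [hq0, ← hi₀, hi', hE0r, ← hii] at h7
      have := Nat.le_of_dvd hpos h7
      have := hk.two_le
      nlinarith
    -- `r ∣ q - 1`
    have hi0k : i₀ = k := by rw [hi', ← hii, hi1, mul_one]
    have hrq1 : r ∣ Fintype.card F - 1 := orderOf_card_eq_one_iff.1 hi1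
    have hq0z : (q₀ : ZMod r) ≠ 0 := fun h => hrq0 ((ZMod.natCast_eq_zero_iff _ _).1 h)
    have hkr : k ∣ r - 1 := hi0k ▸ ZMod.orderOf_dvd_card_sub_one hq0z
    obtain ⟨ζ₀, hζ₀⟩ := exists_prime_orderOf_dvd_card' (G := Fˣ) r (by
      rw [Nat.card_units, Nat.card_eq_fintype_card]; exact hrq1)
    set ζ : F := (ζ₀ : F) with hζdef
    have hζo : orderOf ζ = r := by rw [hζdef, orderOf_units, hζ₀]
    have hζr : ζ ^ r = 1 := hζo ▸ pow_orderOf_eq_one ζ
    have hζd : ∀ m : ℕ, ζ ^ m = 1 ↔ r ∣ m := fun m => by rw [← orderOf_dvd_iff_pow_eq_one, hζo]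
    have hζ0 : ζ ≠ 0 := ζ₀.ne_zero
    have hζ1 : ζ ≠ 1 := fun h => by rw [h, orderOf_one] at hζo; omega
    have hinvr : ∀ m : ℕ, (ζ⁻¹ ^ m) ^ r = 1 := fun m => by
      rw [← pow_mul, mul_comm, pow_mul, inv_pow, hζr, inv_one, one_pow]
    have hcount : ∀ (P : Fin n → Prop) [DecidablePred P] (u v : F), u ≠ v →
        (Finset.univ.filter fun l => (if P l then u else v) = u) = Finset.univ.filter P ∧
        (Finset.univ.filter fun l => (if P l then u else v) = v) = Finset.univ.filter fun l => ¬ P l := by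
      intro P _ u v huv
      constructor <;> refine Finset.filter_congr fun l _ => ?_ <;> split_ifs with h <;> simp [h, huv, Ne.symm huv]
    have hlt : ∀ m, m ≤ n → ((Finset.univ : Finset (Fin n)).filter fun l : Fin n => (l : ℕ) < m).card = m := fun m hm => by
      rw [show ((Finset.univ : Finset (Fin n)).filter fun l : Fin n => (l : ℕ) < m) =
        Finset.univ.map (Fin.castLEEmb hm) from by
          ext l
          simp only [Finset.mem_filter, Finset.mem_univ, true_and, Finset.mem_map, Fin.castLEEmb_apply]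
          exact ⟨fun h => ⟨⟨l, h⟩, rfl⟩, fun ⟨a, ha⟩ => ha ▸ a.2⟩, Finset.card_map, Finset.card_univ, Fintype.card_fin]
    have hprod : ∀ m, m ≤ n → ∀ u v : F, (∏ l : Fin n, if (l : ℕ) < m then u else v) = u ^ m * v ^ (n - m) := by
      intro m hm u v
      rw [Finset.prod_ite, Finset.prod_const, Finset.prod_const, hlt m hm]
      have := Finset.card_filter_add_card_filter_not (s := (Finset.univ : Finset (Fin n))) fun l : Fin n => (l : ℕ) < m
      rw [Finset.card_univ, Fintype.card_fin, hlt m hm] at this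
      rw [show ((Finset.univ : Finset (Fin n)).filter fun l : Fin n => ¬ (l : ℕ) < m).card = n - m by omega]
    -- two values with unequal multiplicities
    have htwo : ∀ m, 0 < m → m < n → 2 * m ≠ n → ∀ u v d : F, u ≠ v → u ^ r = 1 → v ^ r = 1 →
        d ^ n * (u ^ m * v ^ (n - m)) = 1 → False := by
      intro m hm hmn h2 u v d huv hu hv hd
      let c : Fin n → F := fun l => if (l : ℕ) < m then u else v
      have hc : ∀ l, c l ^ r = 1 := fun l => by simp only [c]; split_ifs <;> assumption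
      let k₁ : Fin n := ⟨0, by omega⟩
      let k₂ : Fin n := ⟨n - 1, by omega⟩
      have hc1 : c k₁ = u := if_pos hm
      have hc2 : c k₂ = v := if_neg (show ¬ n - 1 < m by omega)
      obtain ⟨ω, hω, hinv⟩ := eigen_invariant (p := p) F₀ (by omega) hrq hall c hc
        (d := d) (by rw [hprod m hmn.le]; exact hd) (k₁ := k₁) (k₂ := k₂) (by rw [hc1, hc2]; exact huv)
      obtain ⟨e1, e2⟩ := hcount (fun l : Fin n => (l : ℕ) < m) u v huv
      have hcard2 : (Finset.univ.filter fun l => c l = v).card = n - m := by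
        have := Finset.card_filter_add_card_filter_not (s := (Finset.univ : Finset (Fin n))) fun l : Fin n => (l : ℕ) < m
        rw [Finset.card_univ, Fintype.card_fin, hlt m hmn.le] at this
        simp only [c]; rw [e2]; omega
      have hcard1 : (Finset.univ.filter fun l => c l = u).card = m := by
        simp only [c]; rw [e1]; exact hlt m hmn.le
      have hval : ∀ l, c l = u ∨ c l = v := fun l => by simp only [c]; split_ifs <;> simp
      refine two_values F₀ hrq hc hω hinv (k₁ := k₁) (k₂ := k₂) (by rw [hc1, hc2]; exact huv) ?_ ?_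
      · intro l hl
        rw [hc1] at hl ⊢
        rcases hval l with h | h
        · exact h
        · rw [h, hcard1, hcard2] at hl; omega
      · intro l hl
        rw [hc2] at hl ⊢
        rcases hval l with h | h
        · rw [h, hcard1, hcard2] at hl; omega
        · exact h
    rcases Nat.lt_or_ge n 3 with hn3 | hn3
    · obtain rfl : n = 2 := by omega
      obtain rfl : j = 2 := by omega
      let c : Fin 2 → F := ![ζ, ζ⁻¹]
      have hc : ∀ l, c l ^ r = 1 := fun l => by fin_cases l <;> simp [c, inv_pow, hζr]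
      have hne : c 0 ≠ c 1 := fun h => by
        have h' : ζ = ζ⁻¹ := h
        have h2 : ζ ^ 2 = 1 := by
          rw [pow_two]; nth_rewrite 2 [h']; exact mul_inv_cancel₀ hζ0
        have := (Nat.prime_dvd_prime_iff_eq (Fact.out : r.Prime) Nat.prime_two).1 ((hζd 2).1 h2)
        exact hr2 this
      obtain ⟨ω, hω, hinv⟩ := eigen_invariant (p := p) F₀ (by omega) hrq hall c hc (d := 1)
        (by simp [c, Fin.prod_univ_two, mul_inv_cancel₀ hζ0]) hne
      have hω0 : ω ≠ 0 := fun h => by rw [h, zero_pow (by omega)] at hω; exact zero_ne_one hω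
      have hstep : ∀ l, ω * c l ≠ 1 → (ω * c l) ^ q₀ ≠ ω * c l := by
        intro l hl h
        set u := ω * c l with hu
        have hur : u ^ r = 1 := by rw [hu, mul_pow, hω, hc, one_mul]
        have hu0 : u ≠ 0 := fun h0 => by rw [h0, zero_pow (by omega)] at hur; exact zero_ne_one hur
        have hum : u ^ (q₀ - 1) = 1 := by
          refine mul_right_cancel₀ hu0 ?_
          rw [← pow_succ, Nat.sub_add_cancel hq01.le, one_mul]
          exact h
        have := pow_gcd_eq_one.2 ⟨hum, hur⟩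
        rw [((Fact.out : r.Prime).coprime_iff_not_dvd.2 (hF₀ ▸ hrq)).symm.gcd_eq_one, pow_one] at this
        exact hl this
      obtain ⟨l, hl⟩ : ∃ l, ω * c l ≠ 1 := by
        by_contra hcon
        push Not at hcon
        exact hne (mul_left_cancel₀ hω0 ((hcon 0).trans (hcon 1).symm))
      have hval : ∀ l, ω * c l ≠ 1 → ∃ m, ω * c m = (ω * c l) ^ q₀ := fun l _ => by
        have h := hinv (ω * c l)
        rw [hF₀] at h
        obtain ⟨m, hm⟩ := Finset.card_pos.1 (by rw [← h]; exact Finset.card_pos.2 ⟨l, Finset.mem_filter.2 ⟨Finset.mem_univ _, rfl⟩⟩ : 0 < (Finset.univ.filter fun k => ω * c k = (ω * c l) ^ q₀).card)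
        exact ⟨m, (Finset.mem_filter.1 hm).2⟩
      obtain ⟨m, hm⟩ := hval l hl
      have hml : m ≠ l := fun h => hstep l hl (by rw [← hm, h])
      have hm1 : ω * c m ≠ 1 := fun h => hl (by
        have hur : (ω * c l) ^ r = 1 := by rw [mul_pow, hω, hc, one_mul]
        have := pow_gcd_eq_one.2 ⟨hm.symm.trans h, hur⟩
        rwa [((Fact.out : r.Prime).coprime_iff_not_dvd.2 hrq0).symm.gcd_eq_one, pow_one] at this)
      obtain ⟨m', hm'⟩ := hval m hm1
      have hm'm : m' ≠ m := fun h => hstep m hm1 (by rw [← hm', h])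
      have hm'l : m' = l := by omega
      rw [hm'l] at hm'
      set u := ω * c l with hu
      have hur : u ^ r = 1 := by rw [hu, mul_pow, hω, hc, one_mul]
      have hu0 : u ≠ 0 := fun h0 => by rw [h0, zero_pow (by omega)] at hur; exact zero_ne_one hur
      have huo : orderOf u = r := orderOf_eq_prime hur hl
      have hu2 : u ^ (q₀ ^ 2 - 1) = 1 := by
        refine mul_right_cancel₀ hu0 ?_
        rw [← pow_succ, Nat.sub_add_cancel (Nat.one_le_pow _ _ (by omega)), one_mul, pow_two, pow_mul, ← hm, ← hm']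
      have h2 : r ∣ q₀ ^ 2 - 1 := huo ▸ orderOf_dvd_of_pow_eq_one hu2
      rw [← ZMod.natCast_eq_zero_iff, Nat.cast_sub (Nat.one_le_pow _ _ (by omega)), sub_eq_zero, Nat.cast_pow,
        Nat.cast_one, ← orderOf_dvd_iff_pow_eq_one] at h2
      exact hj1 h2
    by_cases hrn : r ∣ n
    swap
    · refine htwo 1 one_pos (by omega) (by omega) ((ζ⁻¹) ^ (n - 1)) ζ 1 ?_ (hinvr _) hζr ?_
      · intro h
        refine hrn ((hζd n).1 ?_)
        rw [show n = n - 1 + 1 by omega, pow_succ]
        nth_rewrite 2 [← h]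
        rw [← mul_pow, mul_inv_cancel₀ hζ0, one_pow]
      · rw [one_pow, one_mul, pow_one, ← mul_pow, inv_mul_cancel₀ hζ0, one_pow]
    by_cases hbig : n = r ∨ n = 2 * r
    swap
    · push Not at hbig
      obtain ⟨l, hl⟩ := hrn
      have hl3 : 3 ≤ l := by
        rcases (show l = 0 ∨ l = 1 ∨ l = 2 ∨ 3 ≤ l by omega) with rfl | rfl | rfl | h
        · omega
        · omega
        · omega
        · exact h
      exact htwo r (by omega) (by nlinarith) (by nlinarith) ζ 1 1 hζ1 hζr (one_pow r)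
        (by rw [one_pow, one_mul, hζr, one_pow, one_mul])
    by_cases hsmall : n = r ∧ (r = 3 ∨ r = 5)
    · obtain ⟨hnr, h35⟩ := hsmall
      symm at hnr
      subst hnr
      have hk2 : k = 2 := by
        have := Nat.le_of_dvd (by omega) hkr
        rcases h35 with rfl | rfl
        · have := hk.two_le; omega
        · rcases (show k = 2 ∨ k = 3 ∨ k = 4 by have := hk.two_le; omega) with rfl | rfl | rfl
          · rfl
          · norm_num at hkr
          · norm_num at hk
      have hr21 : r ∣ q₀ ^ 2 - 1 := by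
        rw [← ZMod.natCast_eq_zero_iff, Nat.cast_sub (Nat.one_le_pow _ _ (by omega)), Nat.cast_pow, sub_eq_zero,
          Nat.cast_one, ← hk2, ← hi0k, hi₀, pow_orderOf_eq_one]
      have hfac : q₀ ^ 2 - 1 = (q₀ + 1) * (q₀ - 1) := by
        simpa using Nat.sq_sub_sq q₀ 1
      have hr0' : r ∣ q₀ + 1 := by
        rw [hfac] at hr21
        exact ((Fact.out : r.Prime).dvd_mul.1 hr21).resolve_right (hF₀ ▸ hrq)
      have hv := hexc hk2 rfl h35
      have hv1 := one_le_padicValNat_of_dvd (p := r) (show q₀ + 1 ≠ 0 by omega) hr0'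
      have hsq : r ^ 2 ∣ Fintype.card F - 1 := by
        rw [hqk, hk2, hfac]
        exact ((padicValNat_dvd_iff_le (by omega)).2 (by omega)).mul_right _
      obtain ⟨d, hd⟩ : ∃ d, d ^ r = ζ := by
        rw [exists_pow_eq_iff hrq1 hζ0, hζd]
        exact Nat.dvd_div_of_mul_dvd (by rwa [← pow_two])
      exact htwo 1 one_pos (by omega) (by omega) ζ⁻¹ 1 d (fun h => hζ1 (inv_eq_one.1 h))
        (by rw [inv_pow, hζr, inv_one]) (one_pow r)
        (by rw [hd, pow_one, one_pow, mul_one, mul_inv_cancel₀ hζ0])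
    -- three values
    have hr5 : 5 ≤ r ∧ 6 ≤ n := by
      have h3 : r ≠ 4 := fun h => by
        have hp : r.Prime := Fact.out
        rw [h] at hp; norm_num at hp
      rcases hbig with h | h
      · by_contra hcon; exact hsmall ⟨h, by omega⟩
      · by_contra hcon; exact hgap ⟨by omega, by omega⟩
    let c : Fin n → F := fun l => if (l : ℕ) < 2 then ζ else if (l : ℕ) < 3 then ζ⁻¹ ^ 2 else 1
    have hc : ∀ l, c l ^ r = 1 := fun l => by
      simp only [c]; split_ifs
      · exact hζr
      · exact hinvr 2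
      · exact one_pow r
    have hA : ζ⁻¹ ^ 2 ≠ (1 : F) := fun h => by
      rw [inv_pow, inv_eq_one, hζd] at h
      have := Nat.le_of_dvd (by norm_num) h; omega
    have hB : ζ⁻¹ ^ 2 ≠ ζ := fun h => by
      have h' : ζ ^ 3 = 1 := by
        rw [pow_succ]; nth_rewrite 2 [← h]
        rw [← mul_pow, mul_inv_cancel₀ hζ0, one_pow]
      rw [hζd] at h'
      have := Nat.le_of_dvd (by norm_num) h'; omega
    have hprod3 : ∏ l : Fin n, c l = 1 := by
      rw [← Finset.prod_subset (Finset.subset_univ ((Finset.univ : Finset (Fin n)).filter fun l : Fin n => (l : ℕ) < 3))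
        (fun l _ hl => by
          simp only [Finset.mem_filter, Finset.mem_univ, true_and, not_lt] at hl
          simp only [c]
          rw [if_neg (by omega), if_neg (by omega)])]
      rw [show ((Finset.univ : Finset (Fin n)).filter fun l : Fin n => (l : ℕ) < 3) =
        {⟨0, by omega⟩, ⟨1, by omega⟩, ⟨2, by omega⟩} by
          ext l; simp [Fin.ext_iff]; omega]
      rw [Finset.prod_insert (by simp [Fin.ext_iff]), Finset.prod_insert (by simp [Fin.ext_iff]), Finset.prod_singleton]
      simp only [c]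
      norm_num
      field_simp
    let k₁ : Fin n := ⟨0, by omega⟩
    let k₂ : Fin n := ⟨3, by omega⟩
    have hc1 : c k₁ = ζ := by simp [c, k₁]
    have hc2 : c k₂ = 1 := by simp [c, k₂]
    obtain ⟨ω, hω, hinv⟩ := eigen_invariant (p := p) F₀ (by omega) hrq hall c hc (d := 1)
      (by rw [one_pow, one_mul, hprod3]) (k₁ := k₁) (k₂ := k₂) (by rw [hc1, hc2]; exact hζ1)
    have hz : (Finset.univ.filter fun l => c l = ζ).card = 2 := by
      rw [show (Finset.univ.filter fun l => c l = ζ) = (Finset.univ.filter fun l : Fin n => (l : ℕ) < 2) from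
        Finset.filter_congr fun l _ => by
          simp only [c]; split_ifs with h h'
          · exact iff_of_true rfl h
          · exact iff_of_false hB h
          · exact iff_of_false (Ne.symm hζ1) h, hlt 2 (by omega)]
    have hone : (Finset.univ.filter fun l => c l = 1).card = n - 3 := by
      have := Finset.card_filter_add_card_filter_not (s := (Finset.univ : Finset (Fin n))) fun l : Fin n => (l : ℕ) < 3
      rw [Finset.card_univ, Fintype.card_fin, hlt 3 (by omega)] at this
      rw [show (Finset.univ.filter fun l => c l = 1) = (Finset.univ.filter fun l : Fin n => ¬ (l : ℕ) < 3) from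
        Finset.filter_congr fun l _ => by
          simp only [c]; split_ifs with h h'
          · exact iff_of_false hζ1 (by omega)
          · exact iff_of_false hA (by omega)
          · exact iff_of_true rfl h']
      omega
    have hmid : (Finset.univ.filter fun l => c l = ζ⁻¹ ^ 2).card = 1 := by
      rw [show (Finset.univ.filter fun l => c l = ζ⁻¹ ^ 2) = {(⟨2, by omega⟩ : Fin n)} from ?_, Finset.card_singleton]
      ext l
      simp only [Finset.mem_filter, Finset.mem_univ, true_and, Finset.mem_singleton, Fin.ext_iff, c]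
      split_ifs with h h'
      · exact iff_of_false hB.symm (by omega)
      · exact iff_of_true rfl (by omega)
      · exact iff_of_false hA.symm (by omega)
    have hval : ∀ l, c l = ζ ∨ c l = 1 ∨ c l = ζ⁻¹ ^ 2 := fun l => by simp only [c]; split_ifs <;> simp
    refine two_values F₀ hrq hc hω hinv (k₁ := k₁) (k₂ := k₂) (by rw [hc1, hc2]; exact hζ1) ?_ ?_
    · intro l hl
      rw [hc1] at hl ⊢
      rcases hval l with h | h | h
      · exact h
      · rw [h, hone, hz] at hl; omega
      · rw [h, hmid, hz] at hl; omega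
    · intro l hl
      rw [hc2] at hl ⊢
      rcases hval l with h | h | h
      · rw [h, hone, hz] at hl; omega
      · exact h
      · rw [h, hmid, hone] at hl; omega
  · intro hcond x hx hxs
    obtain ⟨z, hz⟩ := hx
    let L : Module.End F (Fin n → F) := Matrix.toLinAlgEquiv' (x : Matrix (Fin n) (Fin n) F)
    have hdet : LinearMap.det L = 1 := (LinearMap.det_toLin' _).trans x.2
    have hL : L ^ r = algebraMap F (Module.End F (Fin n → F)) z := by
      rw [← map_pow, ← Matrix.SpecialLinearGroup.coe_pow, hz, ← Algebra.algebraMap_eq_smul_one, AlgEquiv.commutes]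
    have hnok : r ∣ Fintype.card F - 1 → r ∣ n → padicValNat r n ≤ padicValNat r (Fintype.card F - 1) := by
      intro h1 h2
      rcases hcond with hrk | ⟨-, hrn, -, -⟩
      · refine hgapk hrk ?_
        rw [hsub1, hi₀]
        have h3 := orderOf_card_eq_one_iff.2 h1
        rwa [hqk, ← hrk, Nat.cast_pow, ZMod.pow_card] at h3
      · rw [← hrn, padicValNat.self hr1]
        exact one_le_padicValNat_of_dvd (by have := Fintype.one_lt_card (α := F); omega) h1
    rcases cases_of_pow_eq hrF (by omega) hdet hL with ⟨d, hd0, hy⟩ | ⟨hc, h1, h2, h3⟩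
    swap
    · exact absurd ⟨hnok h1 h2, fun h => absurd h hr2⟩
        ((exists_kummer_scalar_iff hrF (by omega) h2 h1).1 ⟨z, hc, h3⟩)
    rcases hcond with hrk | ⟨hk2, hrn, h35, hv⟩
    · obtain ⟨B, hB⟩ := SubfieldRational.exists_rational_basis F₀ hrF hy (by
        rw [hF₀, hqk, ← hrk, Nat.cast_pow, ZMod.pow_card])
      refine conj_mem F₀ (by omega) hrF x hz B (inv_ne_zero hd0) fun a b => ?_
      have h := hB a b
      rw [LinearMap.smul_apply, map_smul, Finsupp.smul_apply, smul_eq_mul] at h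
      exact h
    -- the case `k = 2`, `n = r ∈ {3, 5}`
    subst hk2
    subst hrn
    have hv1 : r ∣ q₀ + 1 := dvd_of_one_le_padicValNat (le_of_eq hv.symm)
    have hfac : q₀ ^ 2 - 1 = (q₀ + 1) * (q₀ - 1) := by simpa using Nat.sq_sub_sq q₀ 1
    have hrq1 : r ∣ Fintype.card F - 1 := by rw [hqk, hfac]; exact hv1.mul_right _
    have hnq : ¬ r ∣ q₀ - 1 := fun h => hr2 (by
      have : r ∣ 2 := by
        have := Nat.dvd_sub hv1 h
        rwa [show q₀ + 1 - (q₀ - 1) = 2 by omega] at this
      exact (Nat.prime_dvd_prime_iff_eq Fact.out Nat.prime_two).1 this)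
    obtain ⟨β, e, hβ⟩ := Cfsg.Agent.S5982.exists_eigen hrF hrq1 hy
    obtain ⟨ζ₀, hζ₀⟩ := exists_prime_orderOf_dvd_card' (G := Fˣ) r (by
      rw [Nat.card_units, Nat.card_eq_fintype_card]; exact hrq1)
    set ζ : F := (ζ₀ : F) with hζdef
    have hζo : orderOf ζ = r := by rw [hζdef, orderOf_units, hζ₀]
    have hζr : ζ ^ r = 1 := hζo ▸ pow_orderOf_eq_one ζ
    have hprim : IsPrimitiveRoot ζ r := hζo ▸ IsPrimitiveRoot.orderOf ζ
    haveI : NeZero r := ⟨by omega⟩
    have hex : ∀ l, ∃ a : ZMod r, e l = ζ ^ a.val := fun l => by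
      obtain ⟨m, hm, hme⟩ := hprim.eq_pow_of_pow_eq_one (hβ l).1
      exact ⟨(m : ZMod r), by rw [ZMod.val_natCast, Nat.mod_eq_of_lt hm, hme]⟩
    choose a ha using hex
    have hdy : LinearMap.det (d⁻¹ • L) = ∏ l, e l := by
      have := det_monomial β (d⁻¹ • L) 1 e fun l => (hβ l).2
      simpa using this
    rw [LinearMap.det_smul, hdet, mul_one, finrank_fin_fun] at hdy
    have hd1 : d⁻¹ ^ r = 1 := by
      have hr2' : (d⁻¹ ^ r) ^ r = 1 := by rw [hdy, ← Finset.prod_pow]; exact Finset.prod_eq_one fun l _ => (hβ l).1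
      by_contra hne
      have ho : orderOf (d⁻¹) = r ^ 2 := by
        refine orderOf_eq_prime_pow (n := 1) (by rwa [pow_one]) ?_
        rw [show r ^ (1 + 1) = r * r by ring, pow_mul]
        exact hr2'
      have h := orderOf_dvd_of_pow_eq_one (FiniteField.pow_card_sub_one_eq_one d⁻¹ (inv_ne_zero hd0))
      rw [ho, hqk, hfac] at h
      have h2 := (Nat.Coprime.pow_left 2 ((Fact.out : r.Prime).coprime_iff_not_dvd.2 hnq)).dvd_of_dvd_mul_right h
      have := (padicValNat_dvd_iff_le (show q₀ + 1 ≠ 0 by omega)).1 h2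
      omega
    have hsum : ∑ l, a l = 0 := by
      have hps : ∀ s : Finset (Fin r), ∏ l ∈ s, e l = ζ ^ (∑ l ∈ s, a l).val := by
        intro s
        induction s using Finset.induction with
        | empty => simp
        | insert b s hb ih =>
          rw [Finset.prod_insert hb, Finset.sum_insert hb, ih, ha b, Cfsg.Agent.S5982.pow_val_add hζr]
      have h1 := hps Finset.univ
      rw [← hdy, hd1] at h1
      have h2 := hζo ▸ orderOf_dvd_of_pow_eq_one h1.symm
      exact (ZMod.val_eq_zero _).1 (Nat.eq_zero_of_dvd_of_lt h2 (ZMod.val_lt _))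
    obtain ⟨π, l₀, hπ, hπa⟩ := Cfsg.Agent.S5982.symmetric h35 a hsum
    obtain ⟨t, ht⟩ : ∃ t : ZMod r, t + t = l₀ := by
      rcases h35 with rfl | rfl
      · have h3 : (3 : ZMod 3) = 0 := rfl
        exact ⟨l₀ * 2, by linear_combination l₀ * h3⟩
      · have h5 : (5 : ZMod 5) = 0 := rfl
        exact ⟨l₀ * 3, by linear_combination l₀ * h5⟩
    let y' : Module.End F (Fin r → F) := (ζ ^ (-t).val) • (d⁻¹ • L)
    let a' : Fin r → F := fun l => ζ ^ (a l - t).val
    have hy' : ∀ l, y' (β l) = a' l • β l := fun l => by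
      simp only [y', a', LinearMap.smul_apply]
      rw [show d⁻¹ • L (β l) = (d⁻¹ • L) (β l) from rfl, (hβ l).2, smul_smul, ha,
        Cfsg.Agent.S5982.pow_val_add hζr, neg_add_eq_sub]
    have hprod' : ∀ l, a' l * a' (π l) = 1 := fun l => by
      simp only [a']
      rw [Cfsg.Agent.S5982.pow_val_add hζr,
        show a l - t + (a (π l) - t) = 0 by linear_combination hπa l - ht, ZMod.val_zero, pow_zero]
    have har : ∀ l, a' l ^ r = 1 := fun l => by
      simp only [a']
      rw [← pow_mul, mul_comm, pow_mul, hζr, one_pow]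
    obtain ⟨σ, hσ⟩ := exists_frobenius (p := p) F₀
    have hσa : ∀ l, σ (a' l) = a' (π l) := fun l => by
      have h0 : a' l ≠ 0 := fun h => by
        have := har l; rw [h, zero_pow (by omega)] at this; exact zero_ne_one this
      refine mul_left_cancel₀ h0 ?_
      rw [hσ, hF₀, hprod', ← pow_succ']
      obtain ⟨c, hc⟩ := hv1
      rw [hc, pow_mul, har, one_pow]
    obtain ⟨B, hB⟩ := paired_basis F₀ β a' hy' π hπ hprod' (fun l hl => by
      have h2 : a' l ^ 2 = 1 := by
        rw [pow_two]; nth_rewrite 2 [hl]; exact hprod' l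
      have := pow_gcd_eq_one.2 ⟨h2, har l⟩
      rwa [((Nat.coprime_primes Nat.prime_two Fact.out).2 (Ne.symm hr2)).gcd_eq_one, pow_one] at this)
      fun l => mem_of_pow_eq F₀ (by
        rw [← hσ, map_add, hσa, hσa, hπ, add_comm])
    refine conj_mem F₀ (by omega) hrF x hz B
      (a := ζ ^ (-t).val * d⁻¹) (mul_ne_zero (pow_ne_zero _ ζ₀.ne_zero) (inv_ne_zero hd0)) fun u v => ?_
    have h := hB u v
    simp only [y', smul_smul, LinearMap.smul_apply, map_smul, Finsupp.smul_apply, smul_eq_mul] at h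
    exact h


end Cfsg.Agent.S5965
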