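import Cfsg.Statements.S5966
import Cfsg.Agent.Lib.Derangements.InvolutionClasses
import Cfsg.Agent.Lib.Classical.SubfieldMax.Member
import Cfsg.Agent.Lib.KnownC.JordanNormal
-- import your own Cfsg.Agent.* helpers here

set_option autoImplicit false
open scoped MatrixGroups
open Cfsg Module Matrix CfsgLib.Derangements CfsgLib.KnownC

namespace Cfsg.Agent.S5966

section Aux

variable {F : Type*} [Field F]

/-- A unipotent element with `(N ^ 3) = 0` has, in suitable coordinates, a matrix over any subfield, and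
commutes with diagonal matrices which are constant on the Jordan blocks. -/
theorem exists_form {n : ℕ} (N : Module.End F (Fin n → F)) (hN : N ^ 3 = 0) :
    ∃ (t : ℕ) (d : Fin t → ℕ) (b : Fin n → Fin t) (B : Basis (Fin n) F (Fin n → F)),
      (∀ k, d k ≤ 3) ∧ (∀ k, 1 ≤ d k) ∧ ∑ k, d k = n ∧
      (∀ k, (Finset.univ.filter fun j => b j = k).card = d k) ∧
      ∀ i j, (B.repr (N (B j)) i = 0 ∨ B.repr (N (B j)) i = 1) ∧ (B.repr (N (B j)) i ≠ 0 → b i = b j) := by
  classical
  obtain ⟨t, d, v, h⟩ := JordanNormal.exists_chains (N := N) ⟨3, hN⟩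
  have hd3 : ∀ k, d k ≤ 3 := fun k => by
    by_contra hlt
    push Not at hlt
    refine h.basis.ne_zero ⟨k, ⟨3, hlt⟩⟩ ?_
    rw [h.basis_apply]
    show (N ^ 3) (v k) = 0
    rw [hN, LinearMap.zero_apply]
  have hsum : ∑ k, d k = n := h.sum_eq.trans (Module.finrank_fin_fun F)
  let e : (Σ k : Fin t, Fin (d k)) ≃ Fin n := Fintype.equivFinOfCardEq (by simpa using hsum)
  refine ⟨t, d, fun j => (e.symm j).1, h.basis.reindex e, hd3, h.pos, hsum, fun k => ?_, fun i j => ?_⟩
  · have h1 : (Finset.univ.filter fun j => (e.symm j).1 = k) =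
        Finset.univ.map ⟨fun i : Fin (d k) => e ⟨k, i⟩, fun a b hab => by simpa using e.injective hab⟩ := by
      ext j
      simp only [Finset.mem_filter, Finset.mem_univ, true_and, Finset.mem_map, Function.Embedding.coeFn_mk]
      constructor
      · rintro rfl
        exact ⟨(e.symm j).2, e.apply_symm_apply j⟩
      · rintro ⟨i, rfl⟩
        show (e.symm (e ⟨k, i⟩)).1 = k
        rw [e.symm_apply_apply]
    rw [h1, Finset.card_map, Finset.card_univ, Fintype.card_fin]
  · obtain ⟨⟨k, a⟩, rfl⟩ := e.surjective j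
    simp only [Basis.repr_reindex_apply, Basis.reindex_apply, Equiv.symm_apply_apply]
    rw [h.basis_apply, ← Module.End.mul_apply, ← pow_succ']
    by_cases ha : (a : ℕ) + 1 < d k
    · rw [show (N ^ ((a : ℕ) + 1)) (v k) = h.basis ⟨k, ⟨a + 1, ha⟩⟩ from (h.basis_apply ⟨k, ⟨a + 1, ha⟩⟩).symm,
        h.basis.repr_self, Finsupp.single_apply]
      split_ifs with hh
      · exact ⟨Or.inr rfl, fun _ => by rw [← hh]⟩
      · exact ⟨Or.inl rfl, fun h0 => absurd rfl h0⟩
    · rw [JordanNormal.pow_apply_eq_zero (h.last k) (by show d k ≤ (a : ℕ) + 1; omega)]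
      simp

theorem frobenius_three_surjective [Fintype F] [CharP F 3] : Function.Surjective fun a : F => a ^ 3 := by
  haveI : Fact (Nat.Prime 3) := ⟨Nat.prime_three⟩
  have h : Function.Injective (frobenius F 3) := RingHom.injective _
  exact Finite.surjective_of_injective h

theorem centralizer_det_isSquare {m : ℕ} {C : Matrix (Fin m ⊕ Fin m) (Fin m ⊕ Fin m) F}
    (hC : Matrix.fromBlocks 0 0 1 0 * C = C * Matrix.fromBlocks 0 0 1 0) : IsSquare C.det := by
  obtain ⟨A, B, C', D, rfl⟩ : ∃ A B C' D, C = Matrix.fromBlocks A B C' D :=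
    ⟨_, _, _, _, (Matrix.fromBlocks_toBlocks C).symm⟩
  simp only [Matrix.fromBlocks_multiply, Matrix.zero_mul, Matrix.mul_zero, Matrix.one_mul, Matrix.mul_one,
    add_zero, zero_add] at hC
  obtain ⟨h1, -, h2, -⟩ := Matrix.fromBlocks_inj.1 hC
  exact ⟨A.det, by rw [← h1, Matrix.det_fromBlocks_zero₁₂, ← h2]⟩

theorem subfield_det (F₀ : Subfield F) {ι : Type*} [Fintype ι] [DecidableEq ι] {M : Matrix ι ι F}
    (h : ∀ i j, M i j ∈ F₀) : M.det ∈ F₀ := by
  rw [Matrix.det_apply]
  refine F₀.sum_mem fun σ _ => ?_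
  rw [Units.smul_def]
  exact zsmul_mem (F₀.prod_mem fun i _ => h _ _) _

end Aux

/-- Elements of order 3 of PSL_n(q) in characteristic 3 and subfield subgroups. Here `T = PSL_n(F)` for a field `F` with `q` elements, `q` a power of 3 (`n ≥ 2`, `(n, q) ≠ (2, 2), (2, 3)`), `F₀` is the subfield with `q₀` elements where `q = q₀^k` for a prime `k`, and `H` is the subgroup of matrices of determinant 1 lying in the subfield group of `F₀` (invertible matrices over `F₀` times scalars) — a maximal subgroup of type GL_n(q₀) (the case `n = 2`, `q₀ = 2` is excluded); Ω is the set of `T`-conjugates of `H` (cosets of `H`), so an element of `T` of prime order `r` (a matrix `x` of determinant 1 with `x^r` scalar, `x` not scalar) fixes a point of Ω when some conjugate of `x` by a matrix of determinant 1 lies in `H`. Suppose 3 divides the index of `H`. Then every element of `T` of order 3 is conjugate in `T` into `H` if and only if `n` is odd, or `n` is even and `k > 2`. -/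
theorem result {F : Type*} [Field F] [Fintype F] [CharP F 3] {q : ℕ} (hq : Fintype.card F = q)
    (n : ℕ) (hn : 2 ≤ n) (hT : (n, q) ≠ (2, 3))
    (F₀ : Subfield F) (k q₀ : ℕ) (hk : k.Prime) (hF₀ : Nat.card ↥F₀ = q₀) (hqk : q = q₀ ^ k) (hC5 : ¬ (n = 2 ∧ q₀ = 2)) (hΩ : 3 ∣ ((Cfsg.Geo.subfieldSubgroup F₀ 1).comap (Matrix.SpecialLinearGroup.toGL : Matrix.SpecialLinearGroup (Fin n) F →* GL (Fin n) F)).index) :
    (∀ x : Matrix.SpecialLinearGroup (Fin n) F,
      (∃ z : F, ((x ^ 3 : Matrix.SpecialLinearGroup (Fin n) F) : Matrix (Fin n) (Fin n) F) = z • (1 : Matrix (Fin n) (Fin n) F)) →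
      (∀ z : F, (x : Matrix (Fin n) (Fin n) F) ≠ z • (1 : Matrix (Fin n) (Fin n) F)) →
      ∃ P : Matrix.SpecialLinearGroup (Fin n) F, P⁻¹ * x * P ∈ ((Cfsg.Geo.subfieldSubgroup F₀ 1).comap (Matrix.SpecialLinearGroup.toGL : Matrix.SpecialLinearGroup (Fin n) F →* GL (Fin n) F))) ↔
    (Odd n ∨ (Even n ∧ 2 < k)) := by
  classical
  subst hq
  haveI : Fact (Nat.Prime 3) := ⟨Nat.prime_three⟩
  haveI : Nonempty (Fin n) := ⟨⟨0, by omega⟩⟩
  letI : Fintype ↥F₀ := Fintype.ofFinite _
  have hq0 : Fintype.card ↥F₀ = q₀ := by rw [← hF₀, Nat.card_eq_fintype_card]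
  have h3 : ringChar F = 3 := ringChar.eq F 3
  have hc2 : ringChar F ≠ 2 := by omega
  have hqodd : Odd (Fintype.card F) := Nat.odd_iff.2 (FiniteField.odd_card_of_char_ne_two hc2)
  have hq0odd : Odd q₀ := (Nat.odd_pow_iff hk.ne_zero).1 (hqk ▸ hqodd)
  have hcube : ∀ a : F, ∃ b, b ^ 3 = a := frobenius_three_surjective
  have hsq : k = 2 → ∀ a ∈ F₀, IsSquare a := fun h a ha => by
    rcases eq_or_ne a 0 with rfl | ha0
    · exact IsSquare.zero
    rw [FiniteField.isSquare_iff hc2 ha0]
    have h1 : a ^ (q₀ - 1) = 1 := by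
      have := FiniteField.pow_card_sub_one_eq_one (⟨a, ha⟩ : ↥F₀) (fun h0 => ha0 (congrArg Subtype.val h0))
      rw [hq0] at this
      simpa using congrArg Subtype.val this
    obtain ⟨c, rfl⟩ := hq0odd
    rw [hqk, h, show (2 * c + 1) ^ 2 / 2 = (2 * c + 1 - 1) * (c + 1) by
      rw [Nat.add_sub_cancel, show (2 * c + 1) ^ 2 = 2 * (2 * c * (c + 1)) + 1 by ring]; omega, pow_mul, h1, one_pow]
  constructor
  · intro hall
    rcases Nat.even_or_odd n with hev | hod
    swap
    · exact Or.inl hod
    refine Or.inr ⟨hev, ?_⟩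
    by_contra hlt
    have hk2 : k = 2 := by have := hk.two_le; omega
    obtain ⟨m, hm⟩ := hev
    let e : Fin m ⊕ Fin m ≃ Fin n := finSumFinEquiv.trans (finCongr hm.symm)
    let N : Matrix (Fin m ⊕ Fin m) (Fin m ⊕ Fin m) F := Matrix.fromBlocks 0 0 1 0
    let φ := Matrix.reindexAlgEquiv F F e
    have hN2 : φ N * φ N = 0 := by
      rw [← map_mul]
      simp [N, Matrix.fromBlocks_multiply]
    obtain ⟨γ, hγ⟩ := FiniteField.exists_nonsquare hc2
    have hγ0 : γ ≠ 0 := fun h => hγ (h ▸ IsSquare.zero)
    let w : Fin n → F := fun i => if i = ⟨0, by omega⟩ then γ else 1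
    have hwd : (Matrix.diagonal w).det = γ := by
      rw [Matrix.det_diagonal]
      simp [w, Finset.prod_ite_eq']
    let D : GL (Fin n) F := Matrix.GeneralLinearGroup.mkOfDetNeZero (Matrix.diagonal w) (by rw [hwd]; exact hγ0)
    haveI : CharP (Matrix (Fin n) (Fin n) F) 3 :=
      charP_of_injective_algebraMap (algebraMap F (Matrix (Fin n) (Fin n) F)).injective 3
    have hU3 : (1 + φ N) ^ 3 = 1 := by
      rw [add_pow_char_of_commute 3 (Commute.one_left _), one_pow, pow_succ, pow_two, hN2, zero_mul, add_zero]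
    have hUd : (1 + φ N).det = 1 := by
      have h := congrArg Matrix.det hU3
      rw [Matrix.det_pow, Matrix.det_one] at h
      exact sub_eq_zero.1 (pow_eq_zero_iff (n := 3) (by omega) |>.1 (by rw [sub_pow_char, h, one_pow, sub_self]))
    let U : GL (Fin n) F := Matrix.GeneralLinearGroup.mkOfDetNeZero (1 + φ N) (by rw [hUd]; exact one_ne_zero)
    let g : GL (Fin n) F := D * U * D⁻¹
    have hgd : (g : Matrix (Fin n) (Fin n) F).det = 1 := by
      show ((D : Matrix (Fin n) (Fin n) F) * (U : Matrix (Fin n) (Fin n) F) *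
        ((D⁻¹ : GL (Fin n) F) : Matrix (Fin n) (Fin n) F)).det = 1
      rw [Matrix.det_mul, Matrix.det_mul, show (U : Matrix (Fin n) (Fin n) F).det = 1 from hUd, mul_one,
        ← Matrix.det_mul, ← Units.val_mul, mul_inv_cancel, Units.val_one, Matrix.det_one]
    let x : Matrix.SpecialLinearGroup (Fin n) F := ⟨g, hgd⟩
    have hxg : Matrix.SpecialLinearGroup.toGL x = g := Units.ext rfl
    have hg3 : g ^ 3 = 1 := by
      rw [conj_pow, show U ^ 3 = 1 from Units.ext (by rw [Units.val_pow_eq_pow_val]; exact hU3)]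
      group
    have hNne : φ N ≠ 0 := fun h => by
      rw [map_eq_zero_iff _ φ.injective] at h
      have := congrFun (congrFun h (Sum.inr ⟨0, by omega⟩)) (Sum.inl ⟨0, by omega⟩)
      simp [N] at this
    obtain ⟨P, hP⟩ := hall x ⟨1, by
      rw [one_smul]
      show ((x : Matrix.SpecialLinearGroup (Fin n) F) ^ 3).1 = 1
      have h := congrArg Units.val hg3
      rw [Units.val_pow_eq_pow_val, Units.val_one] at h
      simpa using h⟩ fun z hz => hNne <| by
        have h1 : (1 + φ N) = z • 1 := by
          calc (1 + φ N) = (U : Matrix (Fin n) (Fin n) F) := rfl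
            _ = ((D⁻¹ : GL (Fin n) F) : Matrix (Fin n) (Fin n) F) * g * D := by
              rw [← Units.val_mul, ← Units.val_mul, show D⁻¹ * g * D = U by simp only [g]; group]
            _ = z • 1 := by
              rw [show (g : Matrix (Fin n) (Fin n) F) = z • 1 from hz, Matrix.mul_smul, Matrix.mul_one,
                Matrix.smul_mul, ← Units.val_mul, inv_mul_cancel, Units.val_one]
        have hz3 : (z - 1) ^ 3 = 0 := by
          rw [sub_pow_char, one_pow, sub_eq_zero]
          rw [h1, smul_pow, one_pow, ← Algebra.algebraMap_eq_smul_one, ← map_one (algebraMap F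
            (Matrix (Fin n) (Fin n) F))] at hU3
          exact (algebraMap F (Matrix (Fin n) (Fin n) F)).injective hU3
        rw [show z = 1 from sub_eq_zero.1 (pow_eq_zero_iff (n := 3) (by omega) |>.1 hz3), one_smul] at h1
        simpa using h1
    rw [Subgroup.mem_comap, map_mul, map_mul, map_inv, hxg] at hP
    set Pg := Matrix.SpecialLinearGroup.toGL P with hPg
    have hPd : (Pg : Matrix (Fin n) (Fin n) F).det = 1 := P.2
    obtain ⟨c, hc0, hc⟩ := (CfsgLib.Classical.SubfieldMax.mem_subfieldSubgroup_iff _ _ _).1 hP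
    rw [inv_one, one_mul, mul_one] at hc
    set R := D⁻¹ * Pg with hR
    set Y := ((Pg⁻¹ * g * Pg : GL (Fin n) F) : Matrix (Fin n) (Fin n) F) with hY
    have hY3 : Y ^ 3 = 1 := by
      rw [hY, ← Units.val_pow_eq_pow_val, show Pg⁻¹ * g * Pg = Pg⁻¹ * g * Pg⁻¹⁻¹ by rw [inv_inv], conj_pow, hg3,
        mul_one, mul_inv_cancel, Units.val_one]
    have hcY : ∀ i j, (c • Y) i j ∈ F₀ := hc
    have hc3 : c ^ 3 ∈ F₀ := by
      have h : ∀ (r : ℕ) i j, ((c • Y) ^ r) i j ∈ F₀ := by
        intro r
        induction r with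
        | zero => intro i j; rw [pow_zero, Matrix.one_apply]; split_ifs <;> [exact F₀.one_mem; exact F₀.zero_mem]
        | succ r ih =>
          intro i j
          rw [pow_succ, Matrix.mul_apply]
          exact F₀.sum_mem fun l _ => F₀.mul_mem (ih i l) (hcY l j)
      have := h 3 ⟨0, by omega⟩ ⟨0, by omega⟩
      rwa [smul_pow, hY3, Matrix.smul_apply, Matrix.one_apply_eq, smul_eq_mul, mul_one] at this
    have hcF : c ∈ F₀ := by
      obtain ⟨b, hb⟩ := frobenius_three_surjective (F := ↥F₀) ⟨c ^ 3, hc3⟩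
      have hb' : (b : F) ^ 3 = c ^ 3 := congrArg Subtype.val hb
      rw [show c = (b : F) from (RingHom.injective (frobenius F 3) hb'.symm)]
      exact b.2
    have hYF : ∀ i j, Y i j ∈ F₀ := fun i j => by
      have := F₀.mul_mem (F₀.inv_mem hcF) (hcY i j)
      rwa [Matrix.smul_apply, smul_eq_mul, inv_mul_cancel_left₀ hc0] at this
    set N' := Y - 1 with hN'
    have hN'F : ∀ i j, N' i j ∈ F₀ := fun i j => by
      rw [hN', Matrix.sub_apply, Matrix.one_apply]
      exact F₀.sub_mem (hYF i j) (by split_ifs <;> [exact F₀.one_mem; exact F₀.zero_mem])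
    have hRN : (R : Matrix (Fin n) (Fin n) F) * N' = φ N * R := by
      have h1 : R * (Pg⁻¹ * g * Pg) = U * R := by simp only [hR, g]; group
      have h2 : (R : Matrix (Fin n) (Fin n) F) * Y = (1 + φ N) * (R : Matrix (Fin n) (Fin n) F) := by
        rw [hY, ← Units.val_mul, show (1 + φ N) = (U : Matrix (Fin n) (Fin n) F) from rfl, ← Units.val_mul, h1]
      rw [add_mul, one_mul] at h2
      rw [hN', mul_sub, mul_one, h2, add_sub_cancel_left]
    have hRi : Function.Injective fun v => (R : Matrix (Fin n) (Fin n) F) *ᵥ v :=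
      Matrix.mulVec_injective_iff_isUnit.2 R.isUnit
    have hN'2 : N' * N' = 0 := R.isUnit.mul_left_cancel (by
      rw [← mul_assoc, hRN, mul_assoc, hRN, ← mul_assoc, hN2, zero_mul, mul_zero])
    have hrk : finrank F (Submodule.span F (Set.range N'.col)) = m := by
      rw [← Matrix.range_mulVecLin]
      show N'.rank = m
      rw [← Matrix.rank_mul_eq_right_of_isUnit_det (R : Matrix (Fin n) (Fin n) F) N'
          ((Matrix.isUnit_iff_isUnit_det _).1 R.isUnit),
        hRN, Matrix.rank_mul_eq_left_of_isUnit_det _ _ ((Matrix.isUnit_iff_isUnit_det _).1 R.isUnit),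
        show φ N = Matrix.reindex e e N from rfl, Matrix.rank_reindex, Matrix.rank]
      let ι₂ : (Fin m → F) →ₗ[F] (Fin m ⊕ Fin m → F) :=
        { toFun := fun v => Sum.elim 0 v
          map_add' := fun u v => by ext (i | i) <;> simp
          map_smul' := fun r v => by ext (i | i) <;> simp }
      have hr : LinearMap.range N.mulVecLin = LinearMap.range ι₂ := by
        apply le_antisymm
        · rintro _ ⟨v, rfl⟩
          refine ⟨v ∘ Sum.inl, ?_⟩
          ext (i | i) <;> simp [N, ι₂, Matrix.fromBlocks_mulVec]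
        · rintro _ ⟨v, rfl⟩
          refine ⟨Sum.elim v 0, ?_⟩
          ext (i | i) <;> simp [N, ι₂, Matrix.fromBlocks_mulVec]
      rw [hr, LinearMap.finrank_range_of_inj, Module.finrank_fin_fun]
      intro u v huv
      funext i
      exact congrFun huv (Sum.inr i)
    obtain ⟨κ, a, ha, hspan, hli⟩ := exists_linearIndependent' F N'.col
    haveI : Fintype κ := Fintype.ofInjective a ha
    have hκ : Fintype.card κ = m := by rw [← finrank_span_eq_card hli, hspan, hrk]
    let J : Fin m → Fin n := fun i => a ((Fintype.equivFinOfCardEq hκ).symm i)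
    have hJ : LinearIndependent F fun i => N'.col (J i) :=
      hli.comp _ (Fintype.equivFinOfCardEq hκ).symm.injective
    let Q : Matrix (Fin n) (Fin m ⊕ Fin m) F :=
      Matrix.of fun i s => Sum.elim (fun l => if i = J l then 1 else 0) (fun l => N' i (J l)) s
    let Q' : Matrix (Fin n) (Fin n) F := Matrix.reindex (Equiv.refl _) e Q
    have hQ'F : ∀ i j, Q' i j ∈ F₀ := fun i j => by
      show Q i (e.symm j) ∈ F₀
      rcases e.symm j with l | l
      · simp only [Q, Matrix.of_apply, Sum.elim_inl]
        split_ifs <;> [exact F₀.one_mem; exact F₀.zero_mem]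
      · exact hN'F _ _
    have hNQ : N' * Q = Q * N := by
      refine Matrix.ext fun i s => ?_
      rcases s with l | l
      · simp [Q, N, Matrix.mul_apply, Fintype.sum_sum_type, Matrix.one_apply]
      · simp only [Matrix.mul_apply, Fintype.sum_sum_type]
        have := congrFun (congrFun hN'2 i) (J l)
        simp [Q, N, Matrix.mul_apply] at this ⊢
        exact this
    have hNQ' : N' * Q' = Q' * φ N := by
      ext i j
      have := congrFun (congrFun hNQ i) (e.symm j)
      simp only [Matrix.mul_apply] at this ⊢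
      rw [← e.sum_comp (fun l => Q' i l * φ N l j)]
      simpa [Q', φ] using this
    have hQdet : Q'.det ≠ 0 := by
      intro h0
      obtain ⟨v, hv0, hv⟩ := Matrix.exists_mulVec_eq_zero_iff.2 h0
      apply hv0
      have hexp : ∀ v : Fin n → F, Q' *ᵥ v = fun i => (∑ l, if i = J l then v (e (Sum.inl l)) else 0) +
          ∑ l, N' i (J l) * v (e (Sum.inr l)) := fun v => by
        funext i
        simp only [Matrix.mulVec, dotProduct]
        rw [← e.sum_comp, Fintype.sum_sum_type]
        simp [Q', Q]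
      rw [Fintype.linearIndependent_iff] at hJ
      have h1 : ∀ l, v (e (Sum.inl l)) = 0 := by
        apply hJ
        have h := congrArg (fun u => N' *ᵥ u) hv
        simp only [Matrix.mulVec_mulVec, hNQ', Matrix.mulVec_zero] at h
        rw [← Matrix.mulVec_mulVec, hexp] at h
        have hφN : ∀ l : Fin m, ((φ N) *ᵥ v) (e (Sum.inl l)) = 0 ∧ ((φ N) *ᵥ v) (e (Sum.inr l)) = v (e (Sum.inl l)) := by
          intro l
          simp only [Matrix.mulVec, dotProduct]
          constructor <;> rw [← e.sum_comp, Fintype.sum_sum_type] <;> simp [φ, N, Matrix.one_apply]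
        simp only [fun l => (hφN l).1, fun l => (hφN l).2, ite_self, Finset.sum_const_zero, zero_add] at h
        funext i
        simpa [Finset.sum_apply, Matrix.col_apply, mul_comm] using congrFun h i
      have h2 : ∀ l, v (e (Sum.inr l)) = 0 := by
        apply hJ
        funext i
        have := congrFun hv i
        rw [hexp] at this
        simpa [h1, Finset.sum_apply, Matrix.col_apply, mul_comm] using this
      funext j
      obtain ⟨(l | l), rfl⟩ := e.surjective j
      exacts [h1 l, h2 l]
    have hcomm : φ N * ((R : Matrix (Fin n) (Fin n) F) * Q') = (R : Matrix (Fin n) (Fin n) F) * Q' * φ N := by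
      rw [mul_assoc, ← hNQ', ← mul_assoc, ← mul_assoc, hRN]
    obtain ⟨C, hC⟩ := φ.surjective ((R : Matrix (Fin n) (Fin n) F) * Q')
    rw [← hC, ← map_mul, ← map_mul] at hcomm
    obtain ⟨b, hb⟩ := centralizer_det_isSquare (φ.injective hcomm)
    have hdetC : C.det = γ⁻¹ * Q'.det := by
      rw [← Matrix.det_reindexAlgEquiv F F e C, show Matrix.reindexAlgEquiv F F e C = _ from hC, Matrix.det_mul, hR,
        Units.val_mul, Matrix.det_mul, hPd, mul_one]
      congr 1
      refine eq_inv_of_mul_eq_one_right ?_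
      rw [← hwd, show (Matrix.diagonal w) = (D : Matrix (Fin n) (Fin n) F) from rfl, ← Matrix.det_mul,
        ← Units.val_mul, mul_inv_cancel, Units.val_one, Matrix.det_one]
    obtain ⟨s, hs⟩ := hsq hk2 _ (subfield_det F₀ hQ'F)
    have hs0 : s ≠ 0 := fun h => hQdet (by rw [hs, h, mul_zero])
    have hb0 : b ≠ 0 := fun h => hQdet (by
      rw [hb, h, mul_zero] at hdetC
      exact (mul_eq_zero.1 hdetC.symm).resolve_left (inv_ne_zero hγ0))
    refine hγ ⟨s / b, ?_⟩
    rw [hb, hs] at hdetC
    field_simp at hdetC ⊢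
    linear_combination hdetC
  · intro hcond x hx hxs
    obtain ⟨z, hz⟩ := hx
    obtain ⟨s, hs⟩ := hcube z
    let L := Matrix.toLin' (x : Matrix (Fin n) (Fin n) F)
    have hs0 : s ≠ 0 := fun h => by
      rw [h, zero_pow (by omega)] at hs
      rw [← hs, zero_smul] at hz
      have := congrArg Matrix.det hz
      rw [Matrix.SpecialLinearGroup.det_coe, Matrix.det_zero] at this
      exact one_ne_zero this
    haveI : CharP (Module.End F (Fin n → F)) 3 :=
      charP_of_injective_algebraMap (algebraMap F (Module.End F (Fin n → F))).injective 3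
    have hN : (s⁻¹ • L - 1 : Module.End F (Fin n → F)) ^ 3 = 0 := by
      have hL : L ^ 3 = z • 1 := by
        show (Matrix.toLinAlgEquiv' (x : Matrix (Fin n) (Fin n) F)) ^ 3 = _
        rw [← map_pow, ← Matrix.SpecialLinearGroup.coe_pow, hz, map_smul, map_one]
      rw [sub_pow_char_of_commute 3 (Commute.one_right _), one_pow, smul_pow, hL, smul_smul, ← hs, ← mul_pow,
        inv_mul_cancel₀ hs0, one_pow, one_smul, sub_self]
    obtain ⟨t, d, b, B, hd3, hd1, hsum, hfib, hB⟩ := exists_form _ hN
    obtain ⟨P, hP⟩ := InvCl.exists_gl_of_equiv (Matrix.SpecialLinearGroup.toGL x) B.equivFun.symm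
    set M := ((P⁻¹ * Matrix.SpecialLinearGroup.toGL x * P : GL (Fin n) F) : Matrix (Fin n) (Fin n) F) with hM
    have hMij : ∀ i j, M i j = s * ((if i = j then 1 else 0) + B.repr ((s⁻¹ • L - 1) (B j)) i) := fun i j => by
      have h := congrFun (hP (Pi.single j 1)) i
      rw [Matrix.mulVec_single_one] at h
      simp only [Matrix.col_apply, LinearEquiv.symm_symm, ← hM] at h
      have hBj : B.equivFun.symm (Pi.single j 1) = B j := B.equivFun.injective (by
        funext l; simp [Pi.single_apply, eq_comm])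
      rw [h, hBj, Basis.equivFun_apply]
      simp only [LinearMap.sub_apply, LinearMap.smul_apply, Module.End.one_apply, map_sub, map_smul,
        Finsupp.sub_apply, Finsupp.smul_apply, smul_eq_mul, B.repr_self, Finsupp.single_apply]
      rw [show L (B j) = ((Matrix.SpecialLinearGroup.toGL x : GL (Fin n) F) : Matrix (Fin n) (Fin n) F) *ᵥ B j
        from rfl]
      split_ifs with h1 h2 h2
      · field_simp; ring
      · exact absurd h1.symm h2
      · exact absurd h2.symm h1
      · field_simp; ring
    have hMF : ∀ i j, s⁻¹ * M i j ∈ F₀ := fun i j => by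
      rw [hMij, inv_mul_cancel_left₀ hs0]
      refine F₀.add_mem (by split_ifs <;> [exact F₀.one_mem; exact F₀.zero_mem]) ?_
      rcases (hB i j).1 with h | h <;> rw [h] <;> [exact F₀.zero_mem; exact F₀.one_mem]
    have hPd : (P : Matrix (Fin n) (Fin n) F).det ≠ 0 := (Matrix.GeneralLinearGroup.det P).ne_zero
    set α := ((P : Matrix (Fin n) (Fin n) F).det)⁻¹ with hα
    have hα0 : α ≠ 0 := inv_ne_zero hPd
    obtain ⟨k₀, δ, a, haF, hδ⟩ : ∃ (k₀ : Fin t) (δ a : F), a ∈ F₀ ∧ δ ^ d k₀ * a = α := by
      by_cases hodd : ∃ k, d k = 1 ∨ d k = 3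
      · obtain ⟨k₀, h | h⟩ := hodd
        · exact ⟨k₀, α, 1, F₀.one_mem, by rw [h, pow_one, mul_one]⟩
        · obtain ⟨δ, hδ⟩ := hcube α
          exact ⟨k₀, δ, 1, F₀.one_mem, by rw [h, hδ, mul_one]⟩
      · push Not at hodd
        have hd2 : ∀ k, d k = 2 := fun k => by have := hd3 k; have := hd1 k; have := hodd k; omega
        have hnt : n = t * 2 := by
          rw [← hsum, Finset.sum_congr rfl fun k _ => hd2 k]; simp
        have hk3 : 2 < k := hcond.resolve_left (fun ho => by
          rw [hnt] at ho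
          exact Nat.not_even_iff_odd.2 ho ⟨t, by omega⟩) |>.2
        have hkodd : Odd k := hk.odd_of_ne_two (by omega)
        let k₀ : Fin t := ⟨0, by omega⟩
        by_cases hsα : IsSquare α
        · obtain ⟨δ, hδ⟩ := hsα
          exact ⟨k₀, δ, 1, F₀.one_mem, by rw [hd2, mul_one, pow_two, hδ]⟩
        · have h30 : ringChar ↥F₀ ≠ 2 := by
            haveI : CharP ↥F₀ 3 := (RingHom.charP_iff F₀.subtype F₀.subtype.injective 3).2 inferInstance
            rw [ringChar.eq ↥F₀ 3]
            omega
          obtain ⟨a, ha⟩ := FiniteField.exists_nonsquare h30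
          have ha0 : a ≠ 0 := fun h => ha (h ▸ IsSquare.zero)
          have haF : (a : F) ≠ 0 := fun h => ha0 (Subtype.ext h)
          have hns : ¬ IsSquare (a : F) := by
            rw [FiniteField.isSquare_iff hc2 haF]
            intro h1
            have h2 : (a : ↥F₀) ^ (Fintype.card ↥F₀ / 2) = -1 :=
              (FiniteField.pow_dichotomy h30 ha0).resolve_left
                fun h => ha ((FiniteField.isSquare_iff h30 ha0).2 h)
            have h2' : (a : F) ^ (q₀ / 2) = -1 := by
              have := congrArg Subtype.val h2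
              rw [hq0] at this
              simpa using this
            have hdiv : Fintype.card F / 2 = q₀ / 2 * ∑ i ∈ Finset.range k, q₀ ^ i := by
              obtain ⟨c, rfl⟩ := hq0odd
              have h := geom_sum_mul_add (2 * c) k
              rw [hqk, ← h, show (2 * c + 1) / 2 = c by omega]
              rw [show (∑ i ∈ Finset.range k, (2 * c + 1) ^ i) * (2 * c) =
                2 * (c * ∑ i ∈ Finset.range k, (2 * c + 1) ^ i) by ring]
              omega
            have hsodd : Odd (∑ i ∈ Finset.range k, q₀ ^ i) := by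
              rw [Finset.odd_sum_iff_odd_card_odd, Finset.filter_true_of_mem fun i _ => hq0odd.pow,
                Finset.card_range]
              exact hkodd
            rw [hdiv, pow_mul, h2', hsodd.neg_one_pow] at h1
            exact absurd h1 (Ring.neg_one_ne_one_of_char_ne_two hc2)
          obtain ⟨δ, hδ⟩ : IsSquare (α / a) := by
            rw [div_eq_mul_inv, FiniteField.isSquare_iff hc2 (mul_ne_zero hα0 (inv_ne_zero haF)), mul_pow,
              (FiniteField.pow_dichotomy hc2 hα0).resolve_left fun h => hsα ((FiniteField.isSquare_iff hc2 hα0).2 h),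
              inv_pow,
              (FiniteField.pow_dichotomy hc2 haF).resolve_left fun h => hns ((FiniteField.isSquare_iff hc2 haF).2 h)]
            norm_num
          refine ⟨k₀, δ, a, a.2, ?_⟩
          rw [hd2, pow_two, ← hδ, div_mul_cancel₀ _ haF]
    have hδ0 : δ ≠ 0 := fun h => hα0 (by
      rw [← hδ, h, zero_pow (by have := hd1 k₀; omega), zero_mul])
    have ha0 : a ≠ 0 := fun h => hα0 (by rw [← hδ, h, mul_zero])
    let wD : Fin n → F := fun i => if b i = k₀ then δ else 1
    have hwD : (Matrix.diagonal wD).det = δ ^ d k₀ := by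
      rw [Matrix.det_diagonal, Finset.prod_ite, Finset.prod_const, Finset.prod_const_one, mul_one, hfib]
    let wE : Fin n → F := fun i => if i = ⟨0, by omega⟩ then a else 1
    have hwE : (Matrix.diagonal wE).det = a := by
      rw [Matrix.det_diagonal]
      simp [wE, Finset.prod_ite_eq']
    let D : GL (Fin n) F := Matrix.GeneralLinearGroup.mkOfDetNeZero (Matrix.diagonal wD)
      (by rw [hwD]; exact pow_ne_zero _ hδ0)
    let E : GL (Fin n) F := Matrix.GeneralLinearGroup.mkOfDetNeZero (Matrix.diagonal wE) (by rw [hwE]; exact ha0)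
    let S : Matrix.SpecialLinearGroup (Fin n) F :=
      ⟨(P : Matrix (Fin n) (Fin n) F) * Matrix.diagonal wD * Matrix.diagonal wE, by
        rw [Matrix.det_mul, Matrix.det_mul, hwD, hwE, mul_assoc, hδ, hα, mul_inv_cancel₀ hPd]⟩
    refine ⟨S, ?_⟩
    have hS : Matrix.SpecialLinearGroup.toGL S = P * D * E := Units.ext rfl
    rw [Subgroup.mem_comap, map_mul, map_mul, map_inv, hS]
    have hDc : D * (P⁻¹ * Matrix.SpecialLinearGroup.toGL x * P) =
        P⁻¹ * Matrix.SpecialLinearGroup.toGL x * P * D := Units.ext (by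
      rw [Units.val_mul, Units.val_mul]
      show Matrix.diagonal wD * M = M * Matrix.diagonal wD
      ext i j
      rw [Matrix.diagonal_mul, Matrix.mul_diagonal, mul_comm]
      by_cases h : M i j = 0
      · rw [h, zero_mul, zero_mul]
      · congr 1
        show (if b i = k₀ then δ else 1) = if b j = k₀ then δ else 1
        by_cases hij : i = j
        · rw [hij]
        · rw [(hB i j).2 fun h0 => h (by rw [hMij, h0, if_neg hij, add_zero, mul_zero])])
    rw [show (P * D * E)⁻¹ * Matrix.SpecialLinearGroup.toGL x * (P * D * E) =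
        E⁻¹ * (D⁻¹ * (P⁻¹ * Matrix.SpecialLinearGroup.toGL x * P * D)) * E by group, ← hDc, inv_mul_cancel_left]
    have hH : ∀ g : GL (Fin n) F, ∀ c : F, c ≠ 0 → (∀ i j, c * (g : Matrix (Fin n) (Fin n) F) i j ∈ F₀) →
        g ∈ Cfsg.Geo.subfieldSubgroup F₀ 1 := fun g c hc0 hc => by
      refine (CfsgLib.Classical.SubfieldMax.mem_subfieldSubgroup_iff _ _ _).2 ⟨c, hc0, fun i j => ?_⟩
      rw [inv_one, one_mul, mul_one]
      exact hc i j
    have hE : E ∈ Cfsg.Geo.subfieldSubgroup F₀ 1 := hH E 1 one_ne_zero fun i j => by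
      show 1 * Matrix.diagonal wE i j ∈ F₀
      rw [one_mul, Matrix.diagonal_apply]
      simp only [wE]
      split_ifs <;> first | exact haF | exact F₀.one_mem | exact F₀.zero_mem
    exact Subgroup.mul_mem _ (Subgroup.mul_mem _ (Subgroup.inv_mem _ hE) (hH _ s⁻¹ (inv_ne_zero hs0) hMF)) hE

end Cfsg.Agent.S5966
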