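import Cfsg.Statements.S5967
import Cfsg.Agent.Lib.Derangements.InvolutionClasses
import Cfsg.Agent.Lib.Derangements.LinearElusiveMain

set_option autoImplicit false
open scoped MatrixGroups
open Cfsg CfsgLib.Derangements CfsgLib.Derangements.LinElusive

namespace Cfsg.Agent.S5967

/-- Involutions of PSL_n(q) and the symplectic-type subgroups. Here `T = PSL_n(F)` for a field `F` with `q` elements, `n ≥ 4` even, `f` is a nondegenerate alternating form on `F^n`, and `H` is the subgroup of matrices of determinant 1 preserving `f` up to a scalar — a maximal subgroup of type Sp_n(q); Ω is the set of `T`-conjugates of `H` (cosets of `H`), so an element of `T` of prime order `r` (a matrix `x` of determinant 1 with `x^r` scalar, `x` not scalar) fixes a point of Ω when some conjugate of `x` by a matrix of determinant 1 preserves `f` up to a scalar. Suppose the index of `H` is even. Then every involution of `T` is conjugate in `T` into `H` if and only if `(q − 1)_2 ≤ (n)_2`. -/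
theorem result {F : Type*} [Field F] [Fintype F] {p : ℕ} [Fact p.Prime] [CharP F p] {q : ℕ} (hq : Fintype.card F = q)
    (n : ℕ) (hn : 4 ≤ n) (he : Even n) (f : (Fin n → F) → (Fin n → F) → F) (hf : Cfsg.Geo.IsSymplecticForm f)
    (hΩ : 2 ∣ ((Cfsg.Geo.similarityGroup f).comap (Matrix.SpecialLinearGroup.toGL : Matrix.SpecialLinearGroup (Fin n) F →* GL (Fin n) F)).index) :
    (∀ x : Matrix.SpecialLinearGroup (Fin n) F,
      (∃ z : F, ((x ^ 2 : Matrix.SpecialLinearGroup (Fin n) F) : Matrix (Fin n) (Fin n) F) = z • (1 : Matrix (Fin n) (Fin n) F)) →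
      (∀ z : F, (x : Matrix (Fin n) (Fin n) F) ≠ z • (1 : Matrix (Fin n) (Fin n) F)) →
      ∃ P : Matrix.SpecialLinearGroup (Fin n) F, P⁻¹ * x * P ∈ ((Cfsg.Geo.similarityGroup f).comap (Matrix.SpecialLinearGroup.toGL : Matrix.SpecialLinearGroup (Fin n) F →* GL (Fin n) F))) ↔
    padicValNat 2 (q - 1) ≤ padicValNat 2 n := by
  classical
  subst hq
  haveI : Nonempty (Fin n) := ⟨⟨0, by omega⟩⟩
  have hodd_iff : Odd (Fintype.card F) ↔ ringChar F ≠ 2 :=
    ⟨fun h hc => by
      haveI : CharP F 2 := hc ▸ ringChar.charP F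
      obtain ⟨k, -, hk⟩ := FiniteField.card F 2
      rw [hk, Nat.odd_pow_iff k.ne_zero] at h
      exact absurd h (by decide), fun h => Nat.odd_iff.2 (FiniteField.odd_card_of_char_ne_two h)⟩
  have htwo : Odd (Fintype.card F) → ((2 : ℕ) : F) ≠ 0 := fun h => by
    exact_mod_cast Ring.two_ne_zero (hodd_iff.1 h)
  have hdetx : ∀ x : Matrix.SpecialLinearGroup (Fin n) F,
      LinearMap.det (Matrix.toLin' (x : Matrix (Fin n) (Fin n) F)) = 1 := fun x =>
    (LinearMap.det_toLin' _).trans x.2
  obtain ⟨d, hd⟩ := he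
  have hnd : n = d * 2 := by omega
  let B : (Fin n → F) →ₗ[F] (Fin n → F) →ₗ[F] F := LinearMap.mk₂ F f hf.bilinear.add_left hf.bilinear.smul_left
    hf.bilinear.add_right hf.bilinear.smul_right
  have halt : ∀ u, B u u = 0 := hf.alternating
  have hndg : ∀ u, (∀ w, B u w = 0) → u = 0 := fun u hu => by
    by_contra hne
    obtain ⟨w, hw⟩ := (hf.nondegenerate u hne).2
    exact hw (hu w)
  constructor
  · intro hall
    by_contra hlt
    rw [not_le] at hlt
    have hc : ringChar F ≠ 2 := fun hc => by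
      have he : ¬ Odd (Fintype.card F) := fun h => hodd_iff.1 h hc
      have : ¬ 2 ∣ Fintype.card F - 1 := by
        intro h
        rw [Nat.not_odd_iff_even, even_iff_two_dvd] at he
        have := Fintype.one_lt_card (α := F)
        omega
      rw [padicValNat.eq_zero_of_not_dvd this] at hlt
      omega
    have h2 := Ring.two_ne_zero hc
    obtain ⟨μ, hμ⟩ := (InvCl.exists_pow_eq_neg_one_iff hc (by omega : 0 < n)).2 hlt
    have hμ0 : μ ≠ 0 := fun h0 => by
      rw [h0, zero_pow (by omega)] at hμ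
      exact neg_ne_zero.2 one_ne_zero hμ.symm
    obtain ⟨x, i₀, hz, hns, hx⟩ := InvCl.exists_bad_diagonal hμ (by omega) h2
    obtain ⟨P, hP⟩ := (InvCl.exists_sl_conj_iff (by omega) x hz _).1 (hall x ⟨_, hz⟩ hns)
    obtain ⟨c, hc'⟩ := hP
    set M := ((P⁻¹ * Matrix.SpecialLinearGroup.toGL x * P : GL (Fin n) F) : Matrix (Fin n) (Fin n) F) with hMdef
    set R := ((P⁻¹ : GL (Fin n) F) : Matrix (Fin n) (Fin n) F) with hRdef
    have hR : ∀ v, M.mulVec (R.mulVec v) = R.mulVec ((x : Matrix (Fin n) (Fin n) F).mulVec v) := fun v => by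
      rw [Matrix.mulVec_mulVec, Matrix.mulVec_mulVec, hMdef, hRdef, ← Units.val_mul, mul_inv_cancel_right,
        Units.val_mul]
      rfl
    let e : Fin n → F := Pi.single i₀ 1
    have hxe : (x : Matrix (Fin n) (Fin n) F).mulVec e = (-μ) • e := funext fun i => by
      rw [hx]; by_cases h : i = i₀ <;> simp [e, h, Pi.single_apply]
    let G := B.compl₁₂ (Matrix.toLin' R) (Matrix.toLin' R)
    have hGapp : ∀ u v, G u v = f (R.mulVec u) (R.mulVec v) := fun u v => rfl
    have hG : ∀ u v, G ((x : Matrix (Fin n) (Fin n) F).mulVec u) ((x : Matrix (Fin n) (Fin n) F).mulVec v) =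
        (c : F) * G u v := fun u v => by
      rw [hGapp, hGapp, ← hR, ← hR]
      exact hc' _ _
    have hGnd : ∀ u, (∀ v, G u v = 0) → u = 0 := fun u hu => by
      have h1 : R.mulVec u = 0 := hndg _ fun w => by
        have h3 : R.mulVec ((P : Matrix (Fin n) (Fin n) F).mulVec w) = w := by
          rw [Matrix.mulVec_mulVec, hRdef, ← Units.val_mul, inv_mul_cancel, Units.val_one, Matrix.one_mulVec]
        have := hu ((P : Matrix (Fin n) (Fin n) F).mulVec w)
        rwa [hGapp, h3] at this
      have h2 : (P : Matrix (Fin n) (Fin n) F).mulVec (R.mulVec u) = u := by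
        rw [Matrix.mulVec_mulVec, hRdef, ← Units.val_mul, mul_inv_cancel, Units.val_one, Matrix.one_mulVec]
      rw [← h2, h1, Matrix.mulVec_zero]
    have hxW : ∀ w : Fin n → F, w i₀ = 0 → (x : Matrix (Fin n) (Fin n) F).mulVec w = μ • w := fun w hw =>
      funext fun i => by
        rw [hx]; by_cases h : i = i₀
        · subst h; simp [hw]
        · simp [h]
    have hsplit : ∀ v : Fin n → F, v = v i₀ • e + (v - v i₀ • e) ∧ (v - v i₀ • e) i₀ = 0 := fun v =>
      ⟨by abel, by simp [e]⟩
    have he0 : e ≠ 0 := fun h => by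
      have := congrFun h i₀
      simp [e] at this
    by_cases hcμ : (c : F) = μ * μ
    · refine he0 (hGnd e fun v => ?_)
      obtain ⟨hv, hw⟩ := hsplit v
      rw [hv, map_add, map_smul, show G e e = 0 from halt _, smul_zero, zero_add]
      have h1 := hG e (v - v i₀ • e)
      rw [hxe, hxW _ hw, map_smul, map_smul, LinearMap.smul_apply, smul_eq_mul, smul_eq_mul, hcμ] at h1
      have h3 : (2 : F) * (μ * μ) * G e (v - v i₀ • e) = 0 := by linear_combination -h1
      exact (mul_eq_zero.1 h3).resolve_left (mul_ne_zero h2 (mul_ne_zero hμ0 hμ0))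
    · obtain ⟨a₁, a₂, h1, h12, h2'⟩ : ∃ a₁ a₂ : Fin n, a₁ ≠ i₀ ∧ a₁ ≠ a₂ ∧ a₂ ≠ i₀ := by
        have h3 : 1 < (Finset.univ.erase i₀).card := by
          rw [Finset.card_erase_of_mem (Finset.mem_univ _), Finset.card_univ, Fintype.card_fin]; omega
        obtain ⟨a₁, ha₁, a₂, ha₂, h12⟩ := Finset.one_lt_card.1 h3
        exact ⟨a₁, a₂, Finset.ne_of_mem_erase ha₁, h12, Finset.ne_of_mem_erase ha₂⟩
      let w₁ : Fin n → F := Pi.single a₁ 1
      let w₂ : Fin n → F := Pi.single a₂ 1
      obtain ⟨w, hw0, hwne, hwe⟩ : ∃ w : Fin n → F, w i₀ = 0 ∧ w ≠ 0 ∧ G w e = 0 := by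
        by_cases hg : G w₁ e = 0
        · exact ⟨w₁, by simp [w₁, Ne.symm h1], fun h => by simpa [w₁] using congrFun h a₁, hg⟩
        · refine ⟨G w₁ e • w₂ - G w₂ e • w₁, by simp [w₁, w₂, Ne.symm h1, Ne.symm h2'], fun h => ?_, ?_⟩
          · have := congrFun h a₂
            simp [w₁, w₂, Ne.symm h12, hg] at this
          · simp [mul_comm]
      refine hwne (hGnd w fun v => ?_)
      obtain ⟨hv, hvw⟩ := hsplit v
      rw [hv, map_add, map_smul, hwe, smul_zero, zero_add]
      have h3 := hG w (v - v i₀ • e)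
      rw [hxW _ hw0, hxW _ hvw, map_smul, map_smul, LinearMap.smul_apply, smul_eq_mul, smul_eq_mul] at h3
      have h4 : (μ * μ - c) * G w (v - v i₀ • e) = 0 := by linear_combination h3
      exact (mul_eq_zero.1 h4).resolve_left (sub_ne_zero.2 (Ne.symm hcμ))
  · intro hle x hx hxs
    obtain ⟨z, hz⟩ := hx
    rw [InvCl.exists_sl_conj_iff (by omega) x hz]
    let L := Matrix.toLin' (x : Matrix (Fin n) (Fin n) F)
    have hL := InvCl.sl_sq hz
    have hz0 : z ≠ 0 := fun h0 => by
      have h := congrArg Matrix.det hz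
      rw [Matrix.SpecialLinearGroup.det_coe, h0, zero_smul, Matrix.det_zero] at h
      exact one_ne_zero h
    obtain ⟨ι, _, b, A, C, A', C', δ, hδ, hb0, hb1, hdet⟩ : ∃ (ι : Type) (_ : Fintype ι)
        (b : Module.Basis (ι × Fin 2) F (Fin n → F)) (A C A' C' : ι → F) (δ : F), δ ≠ 0 ∧
        (∀ i, L (b (i, 0)) = A i • b (i, 0) + C i • b (i, 1)) ∧
        (∀ i, L (b (i, 1)) = A' i • b (i, 0) + C' i • b (i, 1)) ∧ ∀ i, A i * C' i - C i * A' i = δ := by
      by_cases hcase : ringChar F ≠ 2 ∧ IsSquare z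
      · obtain ⟨hc, μ, rfl⟩ := hcase
        have hgood : μ ^ n ≠ -1 := fun h =>
          absurd ((InvCl.exists_pow_eq_neg_one_iff hc (by omega : 0 < n)).1 ⟨μ, h⟩) (by omega)
        obtain ⟨g, b, hg, -, δ, hδ, hgd⟩ := InvCl.exists_plane_basis (L := L) (Ring.two_ne_zero hc)
          (left_ne_zero_of_mul hz0) hL (hdetx x) hnd hgood
        refine ⟨Fin d, inferInstance, b, fun i => g (i, 0), fun _ => 0, fun _ => 0, fun i => g (i, 1), δ, ?_,
          fun i => by simp [hg], fun i => by simp [hg], fun i => by simp [hgd]⟩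
        rcases hδ with rfl | rfl
        exacts [hz0, neg_ne_zero.2 hz0]
      · obtain ⟨ι, ν, _, _, c, b, h0, h1, h2, h3⟩ := InvCl.exists_split L z hL
        have hν : Nonempty ν → c * c = -z := fun hne => by
          have hcc := h3 hne
          have hc : ringChar F = 2 := by
            by_contra hc
            exact hcase ⟨hc, c, hcc.symm⟩
          haveI : CharP F 2 := hc ▸ ringChar.charP F
          rw [CharTwo.neg_eq, hcc]
        have hcard : Fintype.card ι * 2 + Fintype.card ν = n := by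
          have h := Module.finrank_eq_card_basis b
          simpa using h.symm
        obtain ⟨m, hm⟩ : ∃ m, Fintype.card ν = m * 2 := ⟨d - Fintype.card ι, by omega⟩
        let e : (ι × Fin 2) ⊕ ν ≃ (ι ⊕ Fin m) × Fin 2 :=
          (Equiv.sumCongr (Equiv.refl _) ((Fintype.equivFinOfCardEq hm).trans finProdFinEquiv.symm)).trans
            (Equiv.sumProdDistrib ι (Fin m) (Fin 2)).symm
        refine ⟨ι ⊕ Fin m, inferInstance, b.reindex e, Sum.elim (fun _ => 0) (fun _ => c),
          Sum.elim (fun _ => 1) (fun _ => 0), Sum.elim (fun _ => z) (fun _ => 0),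
          Sum.elim (fun _ => 0) (fun _ => c), -z, neg_ne_zero.2 hz0, ?_, ?_, ?_⟩
        · rintro (i | i)
          · simp [e, h0]
          · simp [e, h2]
        · rintro (i | i)
          · simp [e, h1]
          · simp [e, h2]
        · rintro (i | i)
          · simp
          · simpa using hν ⟨(Fintype.equivFinOfCardEq hm).symm (finProdFinEquiv (i, 0))⟩
    obtain ⟨ι₀, _, b₀, -, -, -, horth, hpair, -, -, -⟩ :=
      Mono.exists_symplectic_monomial_basis B halt hndg LinearMap.id 1 (one_mul 1) (fun _ _ => rfl)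
        fun u => (one_smul F u).symm
    have hcard : Fintype.card ι₀ = Fintype.card ι := by
      have h := (Module.finrank_eq_card_basis b₀).symm.trans (Module.finrank_eq_card_basis b)
      simpa using h
    let e := Fintype.equivOfCardEq hcard
    let E : (Fin n → F) ≃ₗ[F] (Fin n → F) := b₀.equiv b (Equiv.prodCongr e (Equiv.refl _))
    obtain ⟨P, hP⟩ := InvCl.exists_gl_of_equiv (Matrix.SpecialLinearGroup.toGL x) E
    refine ⟨P, Units.mk0 δ hδ, ?_⟩
    let T : (Fin n → F) →ₗ[F] (Fin n → F) := E.symm.toLinearMap ∘ₗ L ∘ₗ E.toLinearMap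
    have hE : ∀ i s, E (b₀ (i, s)) = b (e i, s) := fun i s => by simp [E]
    have hEs : ∀ i s, E.symm (b (e i, s)) = b₀ (i, s) := fun i s => by rw [LinearEquiv.symm_apply_eq, hE]
    have hT0 : ∀ i, T (b₀ (i, 0)) = A (e i) • b₀ (i, 0) + C (e i) • b₀ (i, 1) := fun i => by
      simp [T, hE, hb0, hEs]
    have hT1 : ∀ i, T (b₀ (i, 1)) = A' (e i) • b₀ (i, 0) + C' (e i) • b₀ (i, 1) := fun i => by
      simp [T, hE, hb1, hEs]
    have hkey : B.compl₁₂ T T = δ • B := by
      refine b₀.ext fun ⟨i, s⟩ => b₀.ext fun ⟨j, t⟩ => ?_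
      simp only [LinearMap.compl₁₂_apply, LinearMap.smul_apply, smul_eq_mul]
      by_cases hij : i = j
      · subst hij
        have h10 : B (b₀ (i, 1)) (b₀ (i, 0)) = -1 := by
          have := hf.skew (b₀ (i, 1)) (b₀ (i, 0))
          change B (b₀ (i, 1)) (b₀ (i, 0)) = - B (b₀ (i, 0)) (b₀ (i, 1)) at this
          rw [this, hpair]
        fin_cases s <;> fin_cases t <;>
          simp [hT0, hT1, halt, hpair, h10, ← hdet (e i)] <;> ring
      · fin_cases s <;> fin_cases t <;> simp [hT0, hT1, horth _ _ _ _ hij]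
    intro u v
    rw [hP, hP]
    exact LinearMap.congr_fun (LinearMap.congr_fun hkey u) v


end Cfsg.Agent.S5967
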