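import Cfsg.Statements.S5968
import Cfsg.Agent.Lib.Derangements.LinearElusiveMain
import Cfsg.Agent.Lib.Derangements.JordanDecomp
import Cfsg.Agent.Lib.Derangements.MonomialInvolution
import Cfsg.Agent.Lib.Classical.SympCount

set_option autoImplicit false
open scoped MatrixGroups
open Cfsg

namespace Cfsg.Agent.S5968

/-- Derangements of odd prime order of PSL_n(q) on the cosets of a symplectic-type subgroup. Here `T = PSL_n(F)` for a field `F` with `q` elements, `n ≥ 4` even, `f` is a nondegenerate alternating form on `F^n`, and `H` is the subgroup of matrices of determinant 1 preserving `f` up to a scalar — a maximal subgroup of type Sp_n(q); Ω is the set of `T`-conjugates of `H` (cosets of `H`), so an element of `T` of prime order `r` (a matrix `x` of determinant 1 with `x^r` scalar, `x` not scalar) fixes a point of Ω when some conjugate of `x` by a matrix of determinant 1 preserves `f` up to a scalar. For every odd prime `r` dividing the index of `H`, with `(n, r) ≠ (6, 3)`, there is an element of `T` of order `r` with no conjugate in `H`. (For `n = 6`, `r = 3` this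 can fail: when `(q − 1)_3 = 3` every element of order 3 is conjugate into `H`.) -/
theorem result {F : Type*} [Field F] [Fintype F] {p : ℕ} [Fact p.Prime] [CharP F p] {q : ℕ} (hq : Fintype.card F = q)
    (n : ℕ) (hn : 4 ≤ n) (he : Even n) (f : (Fin n → F) → (Fin n → F) → F) (hf : Cfsg.Geo.IsSymplecticForm f)
    (r : ℕ) [Fact r.Prime] (hr2 : r ≠ 2) (hgap : ¬ (n = 6 ∧ r = 3)) (hΩ : r ∣ ((Cfsg.Geo.similarityGroup f).comap (Matrix.SpecialLinearGroup.toGL : Matrix.SpecialLinearGroup (Fin n) F →* GL (Fin n) F)).index) :
    ∃ x : Matrix.SpecialLinearGroup (Fin n) F,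
      (∃ z : F, ((x ^ r : Matrix.SpecialLinearGroup (Fin n) F) : Matrix (Fin n) (Fin n) F) = z • (1 : Matrix (Fin n) (Fin n) F)) ∧
      (∀ z : F, (x : Matrix (Fin n) (Fin n) F) ≠ z • (1 : Matrix (Fin n) (Fin n) F)) ∧
      ∀ P : Matrix.SpecialLinearGroup (Fin n) F, P⁻¹ * x * P ∉ ((Cfsg.Geo.similarityGroup f).comap (Matrix.SpecialLinearGroup.toGL : Matrix.SpecialLinearGroup (Fin n) F →* GL (Fin n) F)) := by
  classical
  subst hq
  haveI : Nonempty (Fin n) := ⟨⟨0, by omega⟩⟩
  have hrprime : r.Prime := Fact.out
  let B : (Fin n → F) →ₗ[F] (Fin n → F) →ₗ[F] F := LinearMap.mk₂ F f hf.bilinear.add_left hf.bilinear.smul_left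
    hf.bilinear.add_right hf.bilinear.smul_right
  have halt : ∀ u, B u u = 0 := hf.alternating
  have hndg : ∀ u, (∀ w, B u w = 0) → u = 0 := fun u hu => by
    by_contra hne
    obtain ⟨w, hw⟩ := (hf.nondegenerate u hne).2
    exact hw (hu w)
  -- an element is a derangement when it is not a similitude of any alternating form
  suffices h : ∃ L : Module.End F (Fin n → F), LinearMap.det L = 1 ∧
      (∃ z : F, L ^ r = algebraMap F (Module.End F (Fin n → F)) z) ∧
      (∀ z : F, L ≠ algebraMap F (Module.End F (Fin n → F)) z) ∧
      ∀ (G : (Fin n → F) →ₗ[F] (Fin n → F) →ₗ[F] F) (c : F), (∀ u, G u u = 0) →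
        (∀ u, (∀ v, G u v = 0) → u = 0) → c ≠ 0 → (∀ u v, G (L u) (L v) = c * G u v) → False by
    obtain ⟨L, hdet, ⟨z, hz⟩, hns, hbad⟩ := h
    refine ⟨⟨LinearMap.toMatrix' L, (LinearMap.det_toMatrix' L).trans hdet⟩, ⟨z, ?_⟩, fun a ha => hns a ?_, ?_⟩
    · show LinearMap.toMatrixAlgEquiv' L ^ r = _
      rw [← map_pow, hz, AlgEquiv.commutes, Algebra.algebraMap_eq_smul_one]
    · apply LinearMap.toMatrixAlgEquiv'.injective
      rw [AlgEquiv.commutes, Algebra.algebraMap_eq_smul_one]
      exact ha
    · intro P hP
      obtain ⟨c, hc⟩ := hP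
      set R := ((P⁻¹ : Matrix.SpecialLinearGroup (Fin n) F) : Matrix (Fin n) (Fin n) F) with hRdef
      have hPR : ∀ v, (P : Matrix (Fin n) (Fin n) F).mulVec (R.mulVec v) = v := fun v => by
        rw [Matrix.mulVec_mulVec, hRdef, ← Matrix.SpecialLinearGroup.coe_mul, mul_inv_cancel,
          Matrix.SpecialLinearGroup.coe_one, Matrix.one_mulVec]
      have hRP : ∀ v, R.mulVec ((P : Matrix (Fin n) (Fin n) F).mulVec v) = v := fun v => by
        rw [Matrix.mulVec_mulVec, hRdef, ← Matrix.SpecialLinearGroup.coe_mul, inv_mul_cancel,
          Matrix.SpecialLinearGroup.coe_one, Matrix.one_mulVec]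
      refine hbad (B.compl₁₂ (Matrix.toLin' R) (Matrix.toLin' R)) c (fun u => halt _) (fun u hu => ?_) c.ne_zero
        fun u v => ?_
      · rw [← hPR u, hndg (R.mulVec u) fun w => ?_, Matrix.mulVec_zero]
        have h1 : f (R.mulVec u) (R.mulVec ((P : Matrix (Fin n) (Fin n) F).mulVec w)) = 0 :=
          hu ((P : Matrix (Fin n) (Fin n) F).mulVec w)
        rwa [hRP] at h1
      · have h := hc (R.mulVec u) (R.mulVec v)
        have key : ∀ w, ((R * LinearMap.toMatrix' L) * (P : Matrix (Fin n) (Fin n) F)).mulVec (R.mulVec w) =
            R.mulVec (L w) := fun w => by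
          rw [← Matrix.mulVec_mulVec, hPR, ← Matrix.mulVec_mulVec, LinearMap.toMatrix'_mulVec]
        show f (R.mulVec (L u)) (R.mulVec (L v)) = _
        rw [← key, ← key]
        exact h
  by_cases hrp : r = p
  · -- unipotent with blocks `3, 1, ..., 1`
    subst hrp
    have h3 : 3 ≤ r := by have := hrprime.two_le; omega
    obtain ⟨N, hN, hone, hdet, hrk⟩ := CfsgLib.Derangements.JordanRanks.exists_unipotent (F := F) (p := r)
      (by omega : 0 < n) (μ := 3 ::ₘ Multiset.replicate (n - 3) 1) (fun b hb => by
        rcases Multiset.mem_cons.1 hb with rfl | hb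
        · exact h3
        · rw [Multiset.eq_of_mem_replicate hb]; omega) (by simp; omega)
    have hN2 : Module.finrank F (LinearMap.range (N ^ 2)) = 1 := by
      rw [hrk]; simp [CfsgLib.Derangements.JordanRanks.rankSeq]
    have hN3 : N ^ 3 = 0 := LinearMap.range_eq_bot.1 (Submodule.finrank_eq_zero.1 (by
      rw [hrk]; simp [CfsgLib.Derangements.JordanRanks.rankSeq]))
    have hN0 : N ^ 2 ≠ 0 := fun h => by
      rw [h, LinearMap.range_zero, finrank_bot] at hN2
      exact zero_ne_one hN2
    refine ⟨1 + N, hdet, ⟨1, by rw [hone, map_one]⟩, fun z hz => hN0 ?_, ?_⟩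
    · have h1 : N = algebraMap F (Module.End F (Fin n → F)) (z - 1) := by
        rw [map_sub, map_one, ← hz, add_sub_cancel_left]
      rw [h1, ← map_pow, map_eq_zero_iff _ (algebraMap F (Module.End F (Fin n → F))).injective] at hN3
      rw [h1, pow_eq_zero_iff three_ne_zero |>.1 hN3, map_zero, zero_pow two_ne_zero]
    · intro G c hGalt hGnd hc0 hG
      have hpow : ∀ (k : ℕ) u v, G (((1 + N) ^ k) u) (((1 + N) ^ k) v) = c ^ k * G u v := by
        intro k
        induction k with
        | zero => intro u v; simp
        | succ k ih =>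
          intro u v
          rw [pow_succ' (1 + N), Module.End.mul_apply, Module.End.mul_apply, hG, ih]
          ring
      have hc : c = 1 := by
        obtain ⟨v₀, hv₀⟩ := exists_ne (0 : Fin n → F)
        obtain ⟨w₀, hw₀⟩ : ∃ w, G v₀ w ≠ 0 := by
          by_contra hcon
          push Not at hcon
          exact hv₀ (hGnd _ hcon)
        have h := hpow r v₀ w₀
        rw [hone, Module.End.one_apply, Module.End.one_apply] at h
        have h1 : c ^ r = 1 := (mul_eq_right₀ hw₀).1 h.symm
        have h2 : (c - 1) ^ r = 0 := by rw [sub_pow_char, h1, one_pow, sub_self]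
        exact sub_eq_zero.1 (pow_eq_zero_iff hrprime.ne_zero |>.1 h2)
      subst hc
      let M : Module.End F (Fin n → F) := N * N - N
      have hadj : ∀ u v, G (N u) v = G u (M v) := fun u v => by
        have h1 : (1 + N) * (1 + M) = (1 : Module.End F (Fin n → F)) := by
          have : (1 + N) * (1 + M) = 1 + N ^ 3 := by
            simpa [M, map_ofNat] using congrArg (Polynomial.aeval N)
              (show (1 + Polynomial.X) * (1 + (Polynomial.X * Polynomial.X - Polynomial.X)) =
                1 + (Polynomial.X : Polynomial F) ^ 3 by ring)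
          rw [this, hN3, add_zero]
        have h := hG u ((1 + M) v)
        rw [← Module.End.mul_apply (1 + N) (1 + M), h1, Module.End.one_apply, one_mul] at h
        simpa using h
      have hM2 : M * M = N ^ 2 := by
        have : M * M = N ^ 2 + N ^ 3 * (N - 2) := by
          simpa [M, map_ofNat] using congrArg (Polynomial.aeval N)
            (show (Polynomial.X * Polynomial.X - Polynomial.X) * (Polynomial.X * Polynomial.X - Polynomial.X) =
              (Polynomial.X : Polynomial F) ^ 2 + Polynomial.X ^ 3 * (Polynomial.X - 2) by ring)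
        rw [this, hN3, zero_mul, add_zero]
      have hMN2 : M * N ^ 2 = 0 := by
        have : M * N ^ 2 = N ^ 3 * (N - 1) := by
          simpa [M, map_ofNat] using congrArg (Polynomial.aeval N)
            (show (Polynomial.X * Polynomial.X - Polynomial.X) * Polynomial.X ^ 2 =
              (Polynomial.X : Polynomial F) ^ 3 * (Polynomial.X - 1) by ring)
        rw [this, hN3, zero_mul]
      have hzero : ∀ u, G ((N ^ 2) u) u = 0 := fun u => by
        rw [pow_two, Module.End.mul_apply, hadj]
        show G (N u) ((N * N - N) u) = 0
        rw [LinearMap.sub_apply, map_sub, hGalt, sub_zero, hadj, ← Module.End.mul_apply, ← pow_two, hMN2,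
          LinearMap.zero_apply, map_zero]
      obtain ⟨u₁, hu₁⟩ : ∃ u, (N ^ 2) u ≠ 0 := by
        by_contra hcon
        push Not at hcon
        exact hN0 (LinearMap.ext hcon)
      set e := (N ^ 2) u₁
      have hline : ∀ u, ∃ a : F, (N ^ 2) u = a • e := fun u => by
        have hle : Submodule.span F {e} ≤ LinearMap.range (N ^ 2) :=
          Submodule.span_le.2 (Set.singleton_subset_iff.2 ⟨u₁, rfl⟩)
        have heq := Submodule.eq_of_le_of_finrank_eq hle (by rw [finrank_span_singleton hu₁, hN2])
        have hmem : (N ^ 2) u ∈ Submodule.span F {e} := by rw [heq]; exact ⟨u, rfl⟩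
        obtain ⟨a, ha⟩ := Submodule.mem_span_singleton.1 hmem
        exact ⟨a, ha.symm⟩
      have h1 : G e u₁ = 0 := hzero u₁
      obtain ⟨u₂, hu₂⟩ : ∃ v, G e v ≠ 0 := by
        by_contra hcon
        push Not at hcon
        exact hu₁ (hGnd _ hcon)
      obtain ⟨a, ha⟩ := hline u₂
      have h2 := hzero u₂
      rw [ha, map_smul, LinearMap.smul_apply, smul_eq_mul] at h2
      have h0 : a = 0 := (mul_eq_zero.1 h2).resolve_right hu₂
      have h3 := hzero (u₁ + u₂)
      rw [show (N ^ 2) (u₁ + u₂) = e by rw [map_add, ha, h0, zero_smul, add_zero], map_add, h1, zero_add] at h3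
      exact hu₂ h3
  -- `r` prime to the characteristic
  have hr : (r : F) ≠ 0 := fun h0 =>
    hrp ((Nat.prime_dvd_prime_iff_eq (Fact.out : p.Prime) hrprime).1 ((CharP.cast_eq_zero_iff F p r).1 h0)).symm
  have hrq : ¬ r ∣ Fintype.card F := fun hd => by
    obtain ⟨k, -, hk⟩ := FiniteField.card F p
    rw [hk] at hd
    exact hrp ((Nat.prime_dvd_prime_iff_eq hrprime Fact.out).1 (hrprime.dvd_of_dvd_pow hd))
  obtain ⟨d, hd⟩ := he
  obtain ⟨j, hj, hjn, hjodd⟩ : ∃ j, orderOf (Fintype.card F : ZMod r) ∣ j ∧ j ≤ n ∧ Odd j := by
    let S : Subgroup (GL (Fin n) F) := Cfsg.Geo.similarityGroup f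
    let K : Subgroup (GL (Fin n) F) :=
      (Matrix.SpecialLinearGroup.toGL : Matrix.SpecialLinearGroup (Fin n) F →* GL (Fin n) F).range
    haveI : K.Normal := ⟨fun a ha g => by
      obtain ⟨y, rfl⟩ := ha
      refine ⟨⟨(g : Matrix (Fin n) (Fin n) F) * y * ((g⁻¹ : GL (Fin n) F) : Matrix (Fin n) (Fin n) F), ?_⟩,
        Units.ext rfl⟩
      rw [Matrix.det_mul, Matrix.det_mul, y.2, mul_one, ← Matrix.det_mul, ← Units.val_mul, mul_inv_cancel,
        Units.val_one, Matrix.det_one]⟩
    have hrS : r ∣ S.index := by
      refine hΩ.trans ?_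
      rw [Subgroup.index_comap]
      obtain ⟨a, ha⟩ := Subgroup.relIndex_dvd_index_of_normal K S
      refine ⟨a, Nat.eq_of_mul_eq_mul_left (Nat.pos_of_ne_zero (Subgroup.index_ne_zero_of_finite (H := K.subgroupOf S))) ?_⟩
      show K.relIndex S * S.index = K.relIndex S * (S.relIndex K * a)
      have h1 : (S ⊓ K).relIndex S * S.index = (S ⊓ K).index := Subgroup.relIndex_mul_index inf_le_left
      have h2 : (S ⊓ K).relIndex K * K.index = (S ⊓ K).index := Subgroup.relIndex_mul_index inf_le_right
      rw [Subgroup.inf_relIndex_left] at h1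
      rw [Subgroup.inf_relIndex_right, ha] at h2
      rw [h1, ← h2]
      ring
    let I : Subgroup (GL (Fin n) F) :=
      { carrier := {g | ∀ u v, f ((g : Matrix (Fin n) (Fin n) F).mulVec u) ((g : Matrix (Fin n) (Fin n) F).mulVec v) =
          f u v}
        one_mem' := fun u v => by simp
        mul_mem' := fun {a b} ha hb u v => by
          rw [Units.val_mul, ← Matrix.mulVec_mulVec, ← Matrix.mulVec_mulVec, ha, hb]
        inv_mem' := fun {a} ha u v => by
          rw [← ha, Matrix.mulVec_mulVec, Matrix.mulVec_mulVec, ← Units.val_mul, mul_inv_cancel, Units.val_one,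
            Matrix.one_mulVec, Matrix.one_mulVec] }
    have hIS : I ≤ S := fun g hg => ⟨1, fun u v => by rw [hg u v, Units.val_one, one_mul]⟩
    have hI : Nat.card I = Nat.card (CfsgLib.Classical.isomGroup B) :=
      Nat.card_congr
        { toFun := fun g => ⟨(LinearMap.GeneralLinearGroup.generalLinearEquiv F _)
              ((Matrix.GeneralLinearGroup.toLin (n := Fin n) (R := F)) g.1), fun u v => g.2 u v⟩
          invFun := fun e => ⟨(Matrix.GeneralLinearGroup.toLin (n := Fin n) (R := F)).symm
              ((LinearMap.GeneralLinearGroup.generalLinearEquiv F _).symm e.1), fun u v => by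
            have h := e.2 u v
            show f ((LinearMap.toMatrix' e.1.toLinearMap).mulVec u) ((LinearMap.toMatrix' e.1.toLinearMap).mulVec v) = _
            rw [LinearMap.toMatrix'_mulVec, LinearMap.toMatrix'_mulVec]
            exact h⟩
          left_inv := fun g => by ext1; simp
          right_inv := fun e => by ext1; simp }
    have hB : B.Nondegenerate :=
      ⟨hndg, fun v hv => hndg v fun w => by
        show f v w = 0
        rw [hf.skew, show f w v = 0 from hv w, neg_zero]⟩
    have hcI := CfsgLib.Classical.card_isom_alt (B := B) halt hB d (by rw [Module.finrank_fin_fun]; omega)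
    have hGL := Matrix.card_GL_field (𝔽 := F) n
    have hr' : r ∣ I.index := hrS.trans (Subgroup.index_dvd_of_le hIS)
    have hmul : Nat.card I * I.index = Nat.card (GL (Fin n) F) := I.card_mul_index
    rw [hI, hcI, hGL] at hmul
    -- compare the products
    have hfac : ∀ i : Fin n, Fintype.card F ^ n - Fintype.card F ^ (i : ℕ) =
        Fintype.card F ^ (i : ℕ) * (Fintype.card F ^ (n - i) - 1) := fun i => by
      rw [Nat.mul_sub_one, ← pow_add, Nat.add_sub_cancel' (by omega)]
    have hprod : ∏ i : Fin n, (Fintype.card F ^ (n - i.1) - 1) =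
        (∏ l ∈ Finset.range d, (Fintype.card F ^ (2 * (l + 1)) - 1)) *
          ∏ l ∈ Finset.range d, (Fintype.card F ^ (2 * l + 1) - 1) := by
      have h : ∀ m, (∏ i ∈ Finset.range (2 * m), (Fintype.card F ^ (i + 1) - 1)) =
          (∏ l ∈ Finset.range m, (Fintype.card F ^ (2 * (l + 1)) - 1)) *
            ∏ l ∈ Finset.range m, (Fintype.card F ^ (2 * l + 1) - 1) := by
        intro m
        induction m with
        | zero => simp
        | succ m ih =>
          rw [show 2 * (m + 1) = 2 * m + 1 + 1 by ring, Finset.prod_range_succ, Finset.prod_range_succ, ih,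
            Finset.prod_range_succ, Finset.prod_range_succ, show 2 * m + 1 + 1 = 2 * (m + 1) by ring]
          ring
      rw [← h d, show 2 * d = n by omega, Fin.prod_univ_eq_prod_range (fun i => Fintype.card F ^ (n - i) - 1),
        ← Finset.prod_range_reflect]
      refine Finset.prod_congr rfl fun i hi => ?_
      rw [Finset.mem_range] at hi
      congr 2
      omega
    rw [Finset.prod_congr rfl fun i _ => hfac i, Finset.prod_mul_distrib, hprod] at hmul
    have heven : 0 < ∏ l ∈ Finset.range d, (Fintype.card F ^ (2 * (l + 1)) - 1) :=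
      Finset.prod_pos fun l _ => Nat.sub_pos_of_lt (Nat.one_lt_pow (by omega) Fintype.one_lt_card)
    have hdvd : r ∣ (∏ i : Fin n, Fintype.card F ^ (i : ℕ)) *
        ∏ l ∈ Finset.range d, (Fintype.card F ^ (2 * l + 1) - 1) := by
      have h2 : Fintype.card F ^ (d ^ 2) * I.index = (∏ i : Fin n, Fintype.card F ^ (i : ℕ)) *
          ∏ l ∈ Finset.range d, (Fintype.card F ^ (2 * l + 1) - 1) :=
        Nat.eq_of_mul_eq_mul_left heven (by linarith [hmul])
      rw [← h2]
      exact dvd_mul_of_dvd_right hr' _
    rcases hrprime.dvd_mul.1 hdvd with h | h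
    · obtain ⟨i, -, hi⟩ := (hrprime.prime.dvd_finset_prod_iff _).1 h
      exact absurd (hrprime.dvd_of_dvd_pow hi) hrq
    · obtain ⟨l, hl, hi⟩ := (hrprime.prime.dvd_finset_prod_iff _).1 h
      refine ⟨2 * l + 1, orderOf_dvd_of_pow_eq_one ?_, by rw [Finset.mem_range] at hl; omega, by simp⟩
      have h2 := (ZMod.natCast_eq_zero_iff _ _).2 hi
      rw [Nat.cast_sub (Nat.one_le_pow _ _ Fintype.card_pos), sub_eq_zero] at h2
      simpa using h2
  have hiodd : Odd (orderOf (Fintype.card F : ZMod r)) := hjodd.of_dvd_nat hj
  have hin : orderOf (Fintype.card F : ZMod r) ≤ n := (Nat.le_of_dvd hjodd.pos hj).trans hjn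
  by_cases hi1 : orderOf (Fintype.card F : ZMod r) = 1
  · -- `r ∣ q - 1`: a diagonal element
    have hr1 := CfsgLib.Derangements.LinElusive.orderOf_card_eq_one_iff.1 hi1
    obtain ⟨w, hw⟩ := exists_prime_orderOf_dvd_card' (G := Fˣ) r (by
      rwa [Nat.card_units, Nat.card_eq_fintype_card])
    let ω : F := w
    have hωr : ω ^ r = 1 := by
      rw [← Units.val_pow_eq_pow_val, ← hw, pow_orderOf_eq_one, Units.val_one]
    have hω : ∀ k, 0 < k → k < r → ω ^ k ≠ 1 := fun k hk hkr h => by
      have := orderOf_dvd_of_pow_eq_one (Units.ext (by simpa using h) : w ^ k = 1)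
      rw [hw] at this
      exact Nat.not_dvd_of_pos_of_lt hk hkr this
    have hω0 : ω ≠ 0 := w.ne_zero
    have h3r : 3 ≤ r := by have := hrprime.two_le; omega
    have hω1 : ω ≠ 1 := fun h => hω 1 one_pos (by omega) (by rw [pow_one, h])
    let β : F := (ω * ω)⁻¹
    have hβ1 : β ≠ 1 := fun h => hω 2 two_pos (by omega) (by rw [pow_two, ← inv_inv (ω * ω)]; show β⁻¹ = 1; rw [h, inv_one])
    let D : Fin n → F := fun i => if i.1 < 2 then ω else if i.1 = 2 then β else 1
    have hD1 : ∀ i : Fin n, D i = 1 ↔ 3 ≤ i.1 := fun i => by
      simp only [D]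
      split_ifs with h1 h2
      · exact iff_of_false hω1 (by omega)
      · exact iff_of_false hβ1 (by omega)
      · exact iff_of_true rfl (by omega)
    have hcount1 : (Finset.univ.filter fun i => D i = 1).card = n - 3 := by
      simp only [hD1]
      rw [show (Finset.univ.filter fun i : Fin n => 3 ≤ i.1) = Finset.Ici (⟨3, by omega⟩ : Fin n) by
        ext i; simp [Fin.le_def], Fin.card_Ici]
    let L : Module.End F (Fin n → F) := Matrix.toLin' (Matrix.diagonal D)
    have hLa : ∀ v i, L v i = D i * v i := fun v i => by
      simp [L, Matrix.mulVec_diagonal]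
    refine ⟨L, ?_, ⟨1, ?_⟩, fun z hz => ?_, ?_⟩
    · rw [LinearMap.det_toLin', Matrix.det_diagonal, Fin.prod_univ_eq_prod_range
        (fun i => if i < 2 then ω else if i = 2 then β else 1),
        ← Finset.prod_range_mul_prod_Ico _ (show 3 ≤ n by omega),
        Finset.prod_eq_one (s := Finset.Ico 3 n) (fun i hi => by
          rw [Finset.mem_Ico] at hi; rw [if_neg (by omega), if_neg (by omega)]), mul_one]
      simp [Finset.prod_range_succ, β]
      field_simp
    · have hDr : ∀ i, D i ^ r = 1 := fun i => by
        simp only [D, β]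
        split_ifs <;> simp [inv_pow, mul_pow, hωr]
      show Matrix.toLinAlgEquiv' (Matrix.diagonal D) ^ r = _
      rw [← map_pow, Matrix.diagonal_pow, show D ^ r = (fun _ => 1) from funext hDr, Matrix.diagonal_one, map_one, map_one]
    · have h1 := congrFun (LinearMap.congr_fun hz (Pi.single (⟨0, by omega⟩ : Fin n) 1)) ⟨0, by omega⟩
      have h2 := congrFun (LinearMap.congr_fun hz (Pi.single (⟨3, by omega⟩ : Fin n) 1)) ⟨3, by omega⟩
      rw [hLa, Module.algebraMap_end_apply, Pi.smul_apply, Pi.single_eq_same, smul_eq_mul, mul_one, mul_one] at h1 h2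
      simp [D] at h1 h2
      exact hω1 (h1.trans h2.symm)
    · intro G c hGalt hGnd hc0 hG
      have hskew : ∀ u v, G v u = - G u v := fun u v => by
        have h := hGalt (u + v)
        simp only [map_add, LinearMap.add_apply, hGalt, zero_add, add_zero] at h
        linear_combination h
      have hpart : ∀ i k, D i * D k ≠ c → G (Pi.single i 1) (Pi.single k 1) = 0 := fun i k hne => by
        have h := hG (Pi.single i 1) (Pi.single k 1)
        have hsingle : ∀ l : Fin n, L (Pi.single l 1) = D l • Pi.single l (1 : F) := fun l => funext fun t => by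
          rw [hLa, Pi.smul_apply, smul_eq_mul]
          by_cases hl : t = l
          · subst hl; rfl
          · simp [hl]
        rw [hsingle, hsingle, map_smul, map_smul, LinearMap.smul_apply, smul_eq_mul, smul_eq_mul] at h
        have h2 : (D i * D k - c) * G (Pi.single i 1) (Pi.single k 1) = 0 := by linear_combination h
        exact (mul_eq_zero.1 h2).resolve_left (sub_ne_zero.2 hne)
      have hle : ∀ a : F, a ≠ 0 → (Finset.univ.filter fun i => D i = a).card ≤
          (Finset.univ.filter fun i => D i = c / a).card := fun a ha => by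
        let s := {i // D i = a}
        let t := {i // D i = c / a}
        let m : Matrix s t F := fun i k => G (Pi.single i.1 1) (Pi.single k.1 1)
        have hinj : Function.Injective (Fintype.linearCombination F m) := by
          refine (injective_iff_map_eq_zero _).2 fun g hg => ?_
          let u : Fin n → F := ∑ i : s, g i • Pi.single i.1 1
          have hu : u = 0 := hGnd u fun v => by
            rw [pi_eq_sum_univ' v, map_sum]
            refine Finset.sum_eq_zero fun k _ => ?_
            rw [map_smul]
            refine smul_eq_zero_of_right _ ?_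
            simp only [u, map_sum, LinearMap.sum_apply, map_smul, LinearMap.smul_apply]
            by_cases hk : D k = c / a
            · have := congrFun hg ⟨k, hk⟩
              simpa [Fintype.linearCombination_apply, m, Finset.sum_apply] using this
            · refine Finset.sum_eq_zero fun i _ => ?_
              rw [hpart _ _ fun h => hk (by rw [eq_div_iff ha, ← h, i.2, mul_comm]), smul_zero]
          funext i
          have := congrFun hu i.1
          simp [u, Finset.sum_apply, Pi.single_apply, Subtype.val_inj] at this
          rwa [Finset.sum_eq_single i (fun b _ hb => if_neg (Ne.symm hb)) (fun h => absurd (Finset.mem_univ i) h),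
            if_pos rfl] at this
        have h := LinearMap.finrank_le_finrank_of_injective hinj
        rw [Module.finrank_fintype_fun_eq_card, Module.finrank_fintype_fun_eq_card] at h
        rw [← Fintype.card_subtype, ← Fintype.card_subtype]
        exact h
      have heq : ∀ a : F, a ≠ 0 → (Finset.univ.filter fun i => D i = a).card =
          (Finset.univ.filter fun i => D i = c / a).card := fun a ha => by
        refine le_antisymm (hle a ha) ?_
        have h := hle (c / a) (div_ne_zero hc0 ha)
        rwa [div_div_cancel₀ hc0] at h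
      have hval : ∀ a : F, (Finset.univ.filter fun i => D i = a).card ≠ 0 → a = 1 ∨ a = ω ∨ a = β := fun a ha => by
        obtain ⟨i, hi⟩ := Finset.card_pos.1 (Nat.pos_of_ne_zero ha)
        rw [← (Finset.mem_filter.1 hi).2]
        simp only [D]
        split_ifs <;> simp
      have hωne : (Finset.univ.filter fun i => D i = ω).card ≠ 0 :=
        (Finset.card_pos.2 ⟨⟨0, by omega⟩, by simp [D]⟩).ne'
      have hcv := hval (c / 1) (by rw [← heq 1 one_ne_zero, hcount1]; omega)
      rw [div_one] at hcv
      have hc1 : (Finset.univ.filter fun i => D i = c).card = n - 3 := by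
        rw [← hcount1, heq 1 one_ne_zero, div_one]
      have hcω := hval (c / ω) (by rw [← heq ω hω0]; exact hωne)
      have h4 : ω ^ 4 ≠ 1 := fun h => by
        rcases le_or_gt r 4 with h4 | h4
        · have h5 : r = 3 ∨ r = 4 := by omega
          rcases h5 with rfl | rfl
          · refine hω1 ?_
            calc ω = ω * ω ^ 3 := by rw [hωr, mul_one]
              _ = ω ^ 4 := by ring
              _ = 1 := h
          · exact absurd hrprime (by decide)
        · exact hω 4 (by omega) h4 h
      have hω2 : ω ^ 2 ≠ 1 := hω 2 two_pos (by omega)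
      have hω3 : r ≠ 3 → ω ^ 3 ≠ 1 := fun h => hω 3 (by omega) (by omega)
      have hcountω : r ≠ 3 → (Finset.univ.filter fun i => D i = ω).card = 2 ∧
          (Finset.univ.filter fun i => D i = β).card = 1 := fun h => by
        have hne : β ≠ ω := fun hb => hω3 h (by
          have := congrArg (· * (ω * ω)) hb
          simp only [β, inv_mul_cancel₀ (mul_ne_zero hω0 hω0)] at this
          linear_combination -this)
        constructor
        · rw [show (Finset.univ.filter fun i => D i = ω) = {⟨0, by omega⟩, ⟨1, by omega⟩} by
            ext i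
            simp only [Finset.mem_filter, Finset.mem_univ, true_and, Finset.mem_insert, Finset.mem_singleton,
              Fin.ext_iff, D]
            split_ifs with h1 h2
            · simp; omega
            · simp only [hne, false_iff]; omega
            · simp only [Ne.symm hω1, false_iff]; omega]
          exact Finset.card_pair (by simp)
        · rw [show (Finset.univ.filter fun i => D i = β) = {⟨2, by omega⟩} by
            ext i
            simp only [Finset.mem_filter, Finset.mem_univ, true_and, Finset.mem_singleton, Fin.ext_iff, D]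
            split_ifs with h1 h2
            · simp only [Ne.symm hne, false_iff]; omega
            · simp only [h2]
            · simp only [Ne.symm hβ1, false_iff]; omega]
          exact Finset.card_singleton _
      rcases hcv with rfl | rfl | rfl
      · -- `c = 1`: `ω⁻¹` is not an eigenvalue, unless it is `β`
        rcases hcω with h | h | h <;> field_simp at h
        · exact hω1 h.symm
        · exact hω2 (by linear_combination -h)
        · simp only [β] at h
          field_simp at h
          exact hω1 (by linear_combination h)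
      · -- `c = ω`
        by_cases h3 : r = 3
        · subst h3
          have hb : β = ω := by
            simp only [β]; field_simp; linear_combination -hωr
          have hcard : (Finset.univ.filter fun i => D i = ω).card = 3 := by
            rw [show (Finset.univ.filter fun i => D i = ω) = Finset.Iio (⟨3, by omega⟩ : Fin n) by
              ext i
              simp only [Finset.mem_filter, Finset.mem_univ, true_and, Finset.mem_Iio, Fin.lt_def, D, hb]
              split_ifs <;> first | (simp; omega) | (simp only [Ne.symm hω1, false_iff]; omega), Fin.card_Iio]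
          exact hgap ⟨by omega, rfl⟩
        · have := (hcountω h3).1
          omega
      · -- `c = β`
        by_cases h3 : r = 3
        · subst h3
          have hb : β = ω := by
            simp only [β]; field_simp; linear_combination -hωr
          have hcard : (Finset.univ.filter fun i => D i = ω).card = 3 := by
            rw [show (Finset.univ.filter fun i => D i = ω) = Finset.Iio (⟨3, by omega⟩ : Fin n) by
              ext i
              simp only [Finset.mem_filter, Finset.mem_univ, true_and, Finset.mem_Iio, Fin.lt_def, D, hb]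
              split_ifs <;> first | (simp; omega) | (simp only [Ne.symm hω1, false_iff]; omega), Fin.card_Iio]
          rw [hb, hcard] at hc1
          exact hgap ⟨by omega, rfl⟩
        · -- `c / ω = ω⁻³` must be `ω`
          have hbω : (Finset.univ.filter fun i => D i = ω).card = (Finset.univ.filter fun i => D i = β / ω).card :=
            heq ω hω0
          rcases hcω with h | h | h
          · refine hω3 h3 ?_
            simp only [β] at h; field_simp at h; linear_combination -h
          · refine h4 ?_
            simp only [β] at h; field_simp at h; linear_combination -h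
          · refine hω1 ?_
            rw [div_eq_iff hω0] at h
            exact (mul_eq_left₀ (by simp [β, hω0])).1 h.symm
  · -- `i ≥ 3` odd: one irreducible block
    set i := orderOf (Fintype.card F : ZMod r) with hi
    have hi2 : 2 ≤ i := by have := hiodd.pos; omega
    obtain ⟨T₁, hT₁, hT₁d, -, hT₁fix⟩ :=
      CfsgLib.Derangements.LinElusive.exists_semisimple_witness hr (n := i) hi2 le_rfl
    rw [Nat.mod_self, Nat.le_zero, Submodule.finrank_eq_zero] at hT₁fix
    let W := (Fin i → F) × (Fin (n - i) → F)
    let T₀ : Module.End F W := LinearMap.prodMap T₁ LinearMap.id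
    let e : W ≃ₗ[F] (Fin n → F) := LinearEquiv.ofFinrankEq _ _ (by
      simp only [W, Module.finrank_prod, Module.finrank_fin_fun]; omega)
    let T : Module.End F (Fin n → F) := e.conjAlgEquiv F T₀
    have hTapp : ∀ w, T (e w) = e (T₁ w.1, w.2) := fun w => by simp [T, T₀, LinearEquiv.conjAlgEquiv_apply]; rfl
    have hTr : T ^ r = 1 := by
      have hT₀ : ∀ (m : ℕ) (w : W), (T₀ ^ m) w = ((T₁ ^ m) w.1, w.2) := by
        intro m
        induction m with
        | zero => intro w; rfl
        | succ m ih => intro w; rw [pow_succ', Module.End.mul_apply, ih, pow_succ']; rfl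
      rw [← map_pow, show T₀ ^ r = 1 from LinearMap.ext fun w => by rw [hT₀, hT₁]; rfl, map_one]
    have hfixT₁ : ∀ a, T₁ a = a → a = 0 := fun a ha => by
      have h : a ∈ T₁.eigenspace 1 := by rw [Module.End.mem_eigenspace_iff, one_smul, ha]
      rwa [hT₁fix, Submodule.mem_bot] at h
    refine ⟨T, ?_, ⟨1, by rw [hTr, map_one]⟩, fun z hz => ?_, ?_⟩
    · show LinearMap.det (e.conjAlgEquiv F T₀) = 1
      rw [LinearEquiv.conjAlgEquiv_apply]
      refine (LinearMap.det_conj _ e).trans ?_
      rw [LinearMap.det_prodMap, hT₁d, LinearMap.det_id, one_mul]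
    · let a : Fin i → F := Pi.single ⟨0, by omega⟩ 1
      have hne : i ≠ n := fun h => by
        rw [h] at hiodd
        obtain ⟨k, hk⟩ := hiodd
        omega
      let b : Fin (n - i) → F := Pi.single ⟨0, by omega⟩ 1
      have h1 := LinearMap.congr_fun hz (e (0, b))
      rw [hTapp, map_zero, Module.algebraMap_end_apply, ← map_smul] at h1
      have h2 := congrFun (congrArg Prod.snd (e.injective h1)) ⟨0, by omega⟩
      have h3 := LinearMap.congr_fun hz (e (a, 0))
      rw [hTapp, Module.algebraMap_end_apply, ← map_smul] at h3
      have h4 := congrArg Prod.fst (e.injective h3)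
      have hz1 : z = 1 := by
        simp only [b, Pi.single_eq_same] at h2
        have h2' : (z • ((0, b) : (Fin i → F) × (Fin (n - i) → F))).2 ⟨0, by omega⟩ = z := by
          simp [b]
        exact (h2.trans h2').symm
      have h5 : T₁ a = z • a := h4
      rw [hz1, one_smul] at h5
      have := congrFun (hfixT₁ a h5) ⟨0, by omega⟩
      simp [a] at this
    · intro G c hGalt hGnd hc0 hG
      have hpow : ∀ (k : ℕ) u v, G ((T ^ k) u) ((T ^ k) v) = c ^ k * G u v := by
        intro k
        induction k with
        | zero => intro u v; simp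
        | succ k ih =>
          intro u v
          rw [pow_succ' T, Module.End.mul_apply, Module.End.mul_apply, hG, ih]
          ring
      have hc : c = 1 := by
        obtain ⟨v₀, hv₀⟩ := exists_ne (0 : Fin n → F)
        obtain ⟨w₀, hw₀⟩ : ∃ w, G v₀ w ≠ 0 := by
          by_contra hcon
          push Not at hcon
          exact hv₀ (hGnd _ hcon)
        have h := hpow r v₀ w₀
        rw [hTr, Module.End.one_apply, Module.End.one_apply] at h
        exact CfsgLib.Derangements.LinElusive.eq_one_of_pow_eq_one hrprime.ne_zero
          (CfsgLib.Derangements.LinElusive.coprime_of_order_ne_one hi1) ((mul_eq_right₀ hw₀).1 h.symm)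
      subst hc
      have hsurj : ∀ a, ∃ a', T₁ a' - a' = a := fun a => by
        have hinj : Function.Injective (T₁ - 1 : Module.End F (Fin i → F)) :=
          (injective_iff_map_eq_zero _).2 fun a ha => hfixT₁ a (sub_eq_zero.1 ha)
        exact (LinearMap.injective_iff_surjective.1 hinj) a
      have horth : ∀ a b, G (e (a, 0)) (e (0, b)) = 0 := fun a b => by
        obtain ⟨a', rfl⟩ := hsurj a
        have h := hG (e (a', 0)) (e (0, b))
        rw [hTapp, hTapp, map_zero, one_mul] at h
        rw [show ((T₁ a' - a', 0) : W) = (T₁ a', 0) - (a', 0) by simp, map_sub, map_sub, LinearMap.sub_apply, h,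
          sub_self]
      let ι : (Fin i → F) →ₗ[F] (Fin n → F) := e.toLinearMap ∘ₗ LinearMap.inl F _ _
      have hskew : ∀ u v, G v u = - G u v := fun u v => by
        have h := hGalt (u + v)
        simp only [map_add, LinearMap.add_apply, hGalt, zero_add, add_zero] at h
        linear_combination h
      obtain ⟨κ, _, b, -⟩ := CfsgLib.Derangements.Mono.exists_symplectic_monomial_basis (G.compl₁₂ ι ι)
        (fun u => hGalt _) (fun a ha => by
          have h0 : e (a, 0) = 0 := hGnd _ fun v => by
            obtain ⟨⟨a', b'⟩, rfl⟩ := e.surjective v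
            rw [show ((a', b') : W) = (a', 0) + (0, b') by simp, map_add, map_add, horth, add_zero]
            exact ha a'
          exact congrArg Prod.fst (e.map_eq_zero_iff.1 h0))
        LinearMap.id 1 (one_mul 1) (fun _ _ => rfl) fun u => (one_smul F u).symm
      have hdim := Module.finrank_eq_card_basis b
      rw [Module.finrank_fin_fun, Fintype.card_prod, Fintype.card_fin] at hdim
      exact Nat.not_even_iff_odd.2 hiodd ⟨Fintype.card κ, by omega⟩

end Cfsg.Agent.S5968
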