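import Cfsg.Statements.S5969
import Cfsg.Agent.Lib.Derangements.InvolutionClasses
import Cfsg.Agent.Lib.Derangements.LinearElusiveMain

set_option autoImplicit false
open scoped MatrixGroups
open Cfsg CfsgLib.Derangements CfsgLib.Derangements.LinElusive

namespace Cfsg.Agent.S5969

/-- Involutions of PSL_n(q) and extension-field subgroups of degree 2. Here `T = PSL_n(F)` for a field `F` with `q = p^f` elements (`n ≥ 2`, `(n, q) ≠ (2, 2), (2, 3)`), `k` is a prime dividing `n`, `K` is a subalgebra of the `n × n` matrices that is a field of degree `k` over `F` (an extension-field structure F_{q^k} on `F^n`), and `H` is the subgroup of matrices of determinant 1 normalizing `K` — a subgroup of type GL_{n/k}(q^k) (maximal except in some small cases; maximality is not assumed); Ω is the set of cosets of `H` in `T`, so an element of `T` of prime order `r` (a matrix `x` of determinant 1 with `x^r` scalar, `x` not scalar) fixes a point of Ω when some conjugate of `x` by a matrix of determinant 1 normalizes `K`. Take `k = 2` and suppose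 the index of `H` is even. Then every involution of `T` is conjugate in `T` into `H` if and only if `n = 2`, or `q` is odd and `(q − 1)_2 ≤ (n)_2`. -/
theorem result {F : Type*} [Field F] [Fintype F] {p : ℕ} [Fact p.Prime] [CharP F p] {q : ℕ} (hq : Fintype.card F = q)
    (n : ℕ) (hn : 2 ≤ n) (hT : (n, q) ≠ (2, 2) ∧ (n, q) ≠ (2, 3))
    (k : ℕ) (hk : k.Prime) (hkn : k ∣ n) (K : Subalgebra F (Matrix (Fin n) (Fin n) F)) (hK : Cfsg.Geo.IsFieldSubalgebra k K) (hk2 : k = 2) (hΩ : 2 ∣ ((Cfsg.Geo.subalgebraNormalizer K).comap (Matrix.SpecialLinearGroup.toGL : Matrix.SpecialLinearGroup (Fin n) F →* GL (Fin n) F)).index) :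
    (∀ x : Matrix.SpecialLinearGroup (Fin n) F,
      (∃ z : F, ((x ^ 2 : Matrix.SpecialLinearGroup (Fin n) F) : Matrix (Fin n) (Fin n) F) = z • (1 : Matrix (Fin n) (Fin n) F)) →
      (∀ z : F, (x : Matrix (Fin n) (Fin n) F) ≠ z • (1 : Matrix (Fin n) (Fin n) F)) →
      ∃ P : Matrix.SpecialLinearGroup (Fin n) F, P⁻¹ * x * P ∈ ((Cfsg.Geo.subalgebraNormalizer K).comap (Matrix.SpecialLinearGroup.toGL : Matrix.SpecialLinearGroup (Fin n) F →* GL (Fin n) F))) ↔
    (n = 2 ∨ (Odd q ∧ padicValNat 2 (q - 1) ≤ padicValNat 2 n)) := by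
  classical
  subst hq
  haveI : Nonempty (Fin n) := ⟨⟨0, by omega⟩⟩
  have hodd_iff : Odd (Fintype.card F) ↔ ringChar F ≠ 2 :=
    ⟨fun h hc => by
      haveI : CharP F 2 := hc ▸ ringChar.charP F
      obtain ⟨k, -, hk⟩ := FiniteField.card F 2
      rw [hk, Nat.odd_pow_iff k.ne_zero] at h
      exact absurd h (by decide), fun h => Nat.odd_iff.2 (FiniteField.odd_card_of_char_ne_two h)⟩
  have htwo : Odd (Fintype.card F) → ((2 : ℕ) : F) ≠ 0 := fun h => by
    exact_mod_cast Ring.two_ne_zero (hodd_iff.1 h)
  have hdetx : ∀ x : Matrix.SpecialLinearGroup (Fin n) F,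
      LinearMap.det (Matrix.toLin' (x : Matrix (Fin n) (Fin n) F)) = 1 := fun x =>
    (LinearMap.det_toLin' _).trans x.2
  subst hk2
  have hn2 : 2 ∣ n := hkn
  obtain ⟨ω, hωK, hω⟩ : ∃ ω ∈ K, ∀ a : F, ω ≠ a • (1 : Matrix (Fin n) (Fin n) F) := by
    by_contra hcon
    push Not at hcon
    have hle : K = ⊥ := eq_bot_iff.2 fun x hx => by
      obtain ⟨a, ha⟩ := hcon x hx
      exact Algebra.mem_bot.2 ⟨a, by rw [ha, Algebra.algebraMap_eq_smul_one]⟩
    have := hK.finrank_eq
    rw [hle, Subalgebra.finrank_bot] at this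
    omega
  have hspan : ∀ w : Matrix (Fin n) (Fin n) F, w ∈ K → (∀ a : F, w ≠ a • (1 : Matrix (Fin n) (Fin n) F)) →
      ∀ x ∈ K, ∃ a c : F, x = a • (1 : Matrix (Fin n) (Fin n) F) + c • w := fun w hwK hw x hx => by
    have hli : LinearIndependent F ![(1 : ↥K), ⟨w, hwK⟩] := by
      refine linearIndependent_fin2.2 ⟨fun h => hw 0 ?_, fun a h => ?_⟩
      · simpa using congrArg Subtype.val h
      · have h' : a • w = (1 : Matrix (Fin n) (Fin n) F) := by simpa using congrArg Subtype.val h
        rcases eq_or_ne a 0 with rfl | ha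
        · rw [zero_smul] at h'; exact one_ne_zero h'.symm
        · exact hw a⁻¹ (by rw [← h', inv_smul_smul₀ ha])
    have hspan := hli.span_eq_top_of_card_eq_finrank (by rw [Fintype.card_fin]; exact hK.finrank_eq.symm)
    obtain ⟨g, hg⟩ := (Submodule.mem_span_range_iff_exists_fun F).1 (hspan ▸ Submodule.mem_top :
      (⟨x, hx⟩ : ↥K) ∈ Submodule.span F (Set.range ![(1 : ↥K), ⟨w, hwK⟩]))
    exact ⟨g 0, g 1, by simpa [Fin.sum_univ_two] using (congrArg Subtype.val hg).symm⟩
  -- squares in `K`
  obtain ⟨s, t, hst⟩ : ∃ s t : F, ω * ω = s • (1 : Matrix (Fin n) (Fin n) F) + t • ω :=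
    hspan ω hωK hω _ (K.mul_mem hωK hωK)
  have hnormal : ringChar F = 2 → ∃ w ∈ K, (∀ a : F, w ≠ a • (1 : Matrix (Fin n) (Fin n) F)) ∧
      ∃ δ : F, w * w = δ • (1 : Matrix (Fin n) (Fin n) F) + w := fun hc => by
    haveI : CharP F 2 := hc ▸ ringChar.charP F
    have ht : t ≠ 0 := fun ht => by
      obtain ⟨e, he⟩ := FiniteField.isSquare_of_char_two hc s
      have h1 : (ω - e • (1 : Matrix (Fin n) (Fin n) F)) * (ω - e • (1 : Matrix (Fin n) (Fin n) F)) = 0 := by
        rw [sub_mul, mul_sub, mul_sub, hst, ht, he]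
        simp only [zero_smul, add_zero, Matrix.mul_smul, Matrix.smul_mul, Matrix.mul_one, Matrix.one_mul, smul_smul]
        have h2 : (2 : F) = 0 := CharTwo.two_eq_zero
        calc (e * e) • (1 : Matrix (Fin n) (Fin n) F) - e • ω - (e • ω - (e * e) • 1)
            = (2 : F) • ((e * e) • (1 : Matrix (Fin n) (Fin n) F) - e • ω) := by module
          _ = 0 := by rw [h2, zero_smul]
      have hmem : ω - e • (1 : Matrix (Fin n) (Fin n) F) ∈ K := K.sub_mem hωK (K.smul_mem K.one_mem e)
      obtain ⟨y, -, hy⟩ := hK.inv _ hmem (sub_ne_zero.2 (hω e))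
      have h2 := congrArg (· * y) h1
      simp only [zero_mul, mul_assoc, hy, mul_one] at h2
      exact hω e (sub_eq_zero.1 h2)
    refine ⟨t⁻¹ • ω, K.smul_mem hωK _, fun a ha => hω (t * a) ?_, t⁻¹ * t⁻¹ * s, ?_⟩
    · rw [mul_smul, ← ha, smul_inv_smul₀ ht]
    · rw [Matrix.smul_mul, Matrix.mul_smul, smul_smul, hst, smul_add, smul_smul, smul_smul]
      congr 2
      field_simp
  have hodd_w : ringChar F ≠ 2 → ∃ w ∈ K, (∀ a : F, w ≠ a • (1 : Matrix (Fin n) (Fin n) F)) ∧
      ∃ δ : F, ¬ IsSquare δ ∧ w * w = δ • (1 : Matrix (Fin n) (Fin n) F) := fun hc => by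
    have h2 : (2 : F) ≠ 0 := Ring.two_ne_zero hc
    let w := ω - (t / 2) • (1 : Matrix (Fin n) (Fin n) F)
    have hwK : w ∈ K := K.sub_mem hωK (K.smul_mem K.one_mem _)
    have hwn : ∀ a : F, w ≠ a • (1 : Matrix (Fin n) (Fin n) F) := fun a ha =>
      hω (a + t / 2) (by rw [add_smul, ← ha, sub_add_cancel])
    have hww : w * w = (s + t / 2 * (t / 2)) • (1 : Matrix (Fin n) (Fin n) F) := by
      simp only [w, sub_mul, mul_sub, hst, Matrix.mul_smul, Matrix.smul_mul, Matrix.mul_one, Matrix.one_mul,
        smul_smul]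
      have ht : t = 2 * (t / 2) := by field_simp
      generalize t / 2 = u at ht ⊢
      subst ht
      module
    refine ⟨w, hwK, hwn, _, fun ⟨e, he⟩ => ?_, hww⟩
    have h1 : (w - e • (1 : Matrix (Fin n) (Fin n) F)) * (w + e • (1 : Matrix (Fin n) (Fin n) F)) = 0 := by
      rw [sub_mul, mul_add, mul_add, hww, he]
      simp only [Matrix.mul_smul, Matrix.smul_mul, Matrix.mul_one, Matrix.one_mul, smul_smul]
      module
    obtain ⟨y, -, hy⟩ := hK.inv _ (K.sub_mem hwK (K.smul_mem K.one_mem e)) (sub_ne_zero.2 (hwn e))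
    have h3 : (y * (w - e • (1 : Matrix (Fin n) (Fin n) F))) * (w + e • (1 : Matrix (Fin n) (Fin n) F)) = 0 := by
      rw [mul_assoc, h1, mul_zero]
    rw [mul_eq_one_comm.1 hy, one_mul, add_eq_zero_iff_eq_neg, ← neg_smul] at h3
    exact hwn _ h3
  -- criterion for normalising
  have hnorm : ∀ (g : GL (Fin n) F) (w : Matrix (Fin n) (Fin n) F), w ∈ K →
      (∀ a : F, w ≠ a • (1 : Matrix (Fin n) (Fin n) F)) →
      (g : Matrix (Fin n) (Fin n) F) * w * ((g⁻¹ : GL (Fin n) F) : Matrix (Fin n) (Fin n) F) ∈ K →
      g ∈ Cfsg.Geo.subalgebraNormalizer K := fun g w hwK hw hg => by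
    let φ : Matrix (Fin n) (Fin n) F →ₗ[F] Matrix (Fin n) (Fin n) F :=
      LinearMap.mulLeftRight F ((g : Matrix (Fin n) (Fin n) F), ((g⁻¹ : GL (Fin n) F) : Matrix (Fin n) (Fin n) F))
    have hφ : ∀ x ∈ K, φ x ∈ K := fun x hx => by
      obtain ⟨a, c, rfl⟩ := hspan w hwK hw x hx
      rw [map_add, map_smul, map_smul]
      refine K.add_mem (K.smul_mem ?_ a) (K.smul_mem (by simpa [φ] using hg) c)
      simp [φ, ← Units.val_mul, K.one_mem]
    have hφi : Function.Injective φ := fun x y h => by
      have := congrArg (fun z => ((g⁻¹ : GL (Fin n) F) : Matrix (Fin n) (Fin n) F) * z *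
        (g : Matrix (Fin n) (Fin n) F)) h
      simpa [φ, mul_assoc, ← Units.val_mul] using this
    intro x
    refine ⟨fun hx => by simpa [φ] using hφ x hx, fun hx => ?_⟩
    have hmap : (Subalgebra.toSubmodule K).map φ = Subalgebra.toSubmodule K := by
      refine Submodule.eq_of_le_of_finrank_eq ?_ ((Submodule.equivMapOfInjective φ hφi _).finrank_eq).symm
      rintro _ ⟨y, hy, rfl⟩
      exact hφ y hy
    obtain ⟨y, hy, hyx⟩ := Submodule.mem_map.1 (hmap.symm ▸ (show φ x ∈ Subalgebra.toSubmodule K by simpa [φ] using hx))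
    exact hφi hyx ▸ hy
  constructor
  · intro hall
    by_contra hcon
    push Not at hcon
    obtain ⟨hn2', hcon⟩ := hcon
    have hn4 : 4 ≤ n := by omega
    by_cases hc : ringChar F = 2
    · haveI : CharP F 2 := hc ▸ ringChar.charP F
      let i : Fin n := ⟨0, by omega⟩
      let j : Fin n := ⟨1, by omega⟩
      have hij : i ≠ j := by simp [i, j]
      let x : Matrix.SpecialLinearGroup (Fin n) F :=
        ⟨Matrix.transvection i j 1, Matrix.det_transvection_of_ne i j hij 1⟩
      have hz : ((x ^ 2 : Matrix.SpecialLinearGroup (Fin n) F) : Matrix (Fin n) (Fin n) F) =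
          (1 : F) • (1 : Matrix (Fin n) (Fin n) F) := by
        show Matrix.transvection i j (1 : F) ^ 2 = _
        rw [pow_two, Matrix.transvection_mul_transvection_same i j hij, CharTwo.add_self_eq_zero,
          Matrix.transvection_zero, one_smul]
      have hns : ∀ z : F, (x : Matrix (Fin n) (Fin n) F) ≠ z • (1 : Matrix (Fin n) (Fin n) F) := fun z h => by
        have := congrFun (congrFun h i) j
        simp [x, Matrix.transvection, Matrix.one_apply_ne hij] at this
      obtain ⟨P, hP⟩ := (InvCl.exists_sl_conj_iff (by omega) x hz _).1 (hall x ⟨_, hz⟩ hns)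
      set M := ((P⁻¹ * Matrix.SpecialLinearGroup.toGL x * P : GL (Fin n) F) : Matrix (Fin n) (Fin n) F) with hMdef
      set Mi := (((P⁻¹ * Matrix.SpecialLinearGroup.toGL x * P)⁻¹ : GL (Fin n) F) : Matrix (Fin n) (Fin n) F)
        with hMidef
      have hMM : Mi * M = 1 := by rw [hMidef, hMdef, ← Units.val_mul, inv_mul_cancel, Units.val_one]
      let e : Fin n → F := ((P⁻¹ : GL (Fin n) F) : Matrix (Fin n) (Fin n) F).mulVec (Pi.single i 1)
      have hPe : (P : Matrix (Fin n) (Fin n) F).mulVec e = Pi.single i 1 := by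
        rw [Matrix.mulVec_mulVec, ← Units.val_mul, mul_inv_cancel, Units.val_one, Matrix.one_mulVec]
      have he0 : e ≠ 0 := fun h => by
        have := congrFun hPe i
        simp [h] at this
      have hMv : ∀ v, M.mulVec v = v + ((P : Matrix (Fin n) (Fin n) F).mulVec v j) • e := fun v => by
        rw [hMdef, Units.val_mul, Units.val_mul, ← Matrix.mulVec_mulVec, ← Matrix.mulVec_mulVec]
        show ((P⁻¹ : GL (Fin n) F) : Matrix (Fin n) (Fin n) F).mulVec
          ((Matrix.transvection i j (1 : F)).mulVec _) = _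
        rw [Matrix.transvection, Matrix.add_mulVec, Matrix.one_mulVec, Matrix.mulVec_add, Matrix.mulVec_mulVec,
          ← Units.val_mul, inv_mul_cancel, Units.val_one, Matrix.one_mulVec, Matrix.single_mulVec]
        have hfs : ∀ a : F, Function.update (0 : Fin n → F) i (1 * a) = a • Pi.single i 1 := fun a => by
          funext l; by_cases h : l = i
          · subst h; simp
          · simp [h]
        rw [hfs, Matrix.mulVec_smul]
      obtain ⟨a, c, hac⟩ := hspan ω hωK hω _ ((hP ω).1 hωK)
      have hMω : M * ω = a • M + c • (ω * M) := by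
        have h : M * ω * Mi * M = (a • (1 : Matrix (Fin n) (Fin n) F) + c • ω) * M := congrArg (· * M) hac
        rwa [mul_assoc (M * ω), hMM, mul_one, add_mul, Matrix.smul_mul, one_mul, Matrix.smul_mul] at h
      have hv : ∀ v, (1 - c) • ω.mulVec v - a • v ∈ Submodule.span F {e, ω.mulVec e} := fun v => by
        have h := congrArg (Matrix.mulVec · v) hMω
        simp only [← Matrix.mulVec_mulVec, Matrix.add_mulVec, Matrix.smul_mulVec, hMv, Matrix.mulVec_add,
          Matrix.mulVec_smul] at h
        refine Submodule.mem_span_pair.2 ⟨-((P : Matrix (Fin n) (Fin n) F).mulVec (ω.mulVec v) j) +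
          a * ((P : Matrix (Fin n) (Fin n) F).mulVec v j), c * ((P : Matrix (Fin n) (Fin n) F).mulVec v j), ?_⟩
        linear_combination (norm := module) -h
      have hzero : (1 - c) • ω - a • (1 : Matrix (Fin n) (Fin n) F) = 0 := by
        by_contra hne
        obtain ⟨y, -, hy⟩ := hK.inv _ (K.sub_mem (K.smul_mem hωK _) (K.smul_mem K.one_mem a)) hne
        have htop : (⊤ : Submodule F (Fin n → F)) ≤ Submodule.span F {e, ω.mulVec e} := fun v _ => by
          have h := hv (y.mulVec v)
          rwa [show (1 - c) • ω.mulVec (y.mulVec v) - a • y.mulVec v = v from by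
            rw [← Matrix.smul_mulVec, show a • y.mulVec v = (a • (1 : Matrix (Fin n) (Fin n) F)).mulVec (y.mulVec v)
              by rw [Matrix.smul_mulVec, Matrix.one_mulVec], ← Matrix.sub_mulVec, Matrix.mulVec_mulVec, hy,
              Matrix.one_mulVec]] at h
        have h1 := Submodule.finrank_mono htop
        rw [finrank_top, Module.finrank_fin_fun] at h1
        have h2 : Module.finrank F (Submodule.span F ({e, ω.mulVec e} : Set (Fin n → F))) ≤ 2 := by
          rw [← Matrix.range_cons_cons_empty e (ω.mulVec e) ![]]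
          exact (finrank_range_le_card _).trans_eq (Fintype.card_fin 2)
        omega
      have hc1 : c = 1 := by
        by_contra hc1
        refine hω ((1 - c)⁻¹ * a) ?_
        rw [mul_smul, ← sub_eq_zero.1 hzero, inv_smul_smul₀ (sub_ne_zero.2 (Ne.symm hc1))]
      have ha : a = 0 := by
        rw [hc1, sub_self, zero_smul, zero_sub, neg_eq_zero, smul_eq_zero] at hzero
        exact hzero.resolve_right one_ne_zero
      rw [ha, hc1, zero_smul, one_smul, zero_add] at hMω
      -- `ω` fixes the line of the transvection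
      let v₀ : Fin n → F := ((P⁻¹ : GL (Fin n) F) : Matrix (Fin n) (Fin n) F).mulVec (Pi.single j 1)
      have hv₀ : (P : Matrix (Fin n) (Fin n) F).mulVec v₀ j = 1 := by
        rw [Matrix.mulVec_mulVec, ← Units.val_mul, mul_inv_cancel, Units.val_one, Matrix.one_mulVec, Pi.single_eq_same]
      have h := congrArg (Matrix.mulVec · v₀) hMω
      simp only [← Matrix.mulVec_mulVec, hMv, Matrix.mulVec_add, Matrix.mulVec_smul, hv₀, one_smul] at h
      rw [add_right_inj] at h
      set a₀ := (P : Matrix (Fin n) (Fin n) F).mulVec (ω.mulVec v₀) j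
      obtain ⟨y, -, hy⟩ := hK.inv _ (K.sub_mem hωK (K.smul_mem K.one_mem a₀)) (sub_ne_zero.2 (hω a₀))
      apply he0
      rw [← Matrix.one_mulVec e, ← mul_eq_one_comm.1 hy, ← Matrix.mulVec_mulVec, Matrix.sub_mulVec,
        Matrix.smul_mulVec, Matrix.one_mulVec, ← h, sub_self, Matrix.mulVec_zero]
    · have hodd := hodd_iff.2 hc
      have h2 := Ring.two_ne_zero hc
      obtain ⟨μ, hμ⟩ := (InvCl.exists_pow_eq_neg_one_iff hc (by omega : 0 < n)).2 (hcon hodd)
      have hμ0 : μ ≠ 0 := fun h0 => by
        rw [h0, zero_pow (by omega)] at hμ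
        exact neg_ne_zero.2 one_ne_zero hμ.symm
      obtain ⟨w, hwK, hw, δ, hδ, hww⟩ := hodd_w hc
      have hδ0 : δ ≠ 0 := fun h => hδ (h ▸ IsSquare.zero)
      obtain ⟨x, i₀, hz, hns, hx⟩ := InvCl.exists_bad_diagonal hμ (by omega) h2
      obtain ⟨P, hP⟩ := (InvCl.exists_sl_conj_iff (by omega) x hz _).1 (hall x ⟨_, hz⟩ hns)
      set M := ((P⁻¹ * Matrix.SpecialLinearGroup.toGL x * P : GL (Fin n) F) : Matrix (Fin n) (Fin n) F) with hMdef
      set Mi := (((P⁻¹ * Matrix.SpecialLinearGroup.toGL x * P)⁻¹ : GL (Fin n) F) : Matrix (Fin n) (Fin n) F)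
        with hMidef
      have hMM : Mi * M = 1 := by rw [hMidef, hMdef, ← Units.val_mul, inv_mul_cancel, Units.val_one]
      obtain ⟨a, c, hac⟩ := hspan w hwK hw _ ((hP w).1 hwK)
      have hy2 : (a * a + c * c * δ) • (1 : Matrix (Fin n) (Fin n) F) + (2 * a * c) • w = δ • 1 := by
        have h : M * w * Mi * (M * w * Mi) = δ • (1 : Matrix (Fin n) (Fin n) F) := by
          rw [show M * w * Mi * (M * w * Mi) = M * w * (Mi * M) * w * Mi by noncomm_ring, hMM, mul_one, mul_assoc M,
            hww, Matrix.mul_smul, Matrix.mul_one, Matrix.smul_mul, mul_eq_one_comm.1 hMM]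
        rw [hac] at h
        rw [← h]
        simp only [add_mul, mul_add, Matrix.smul_mul, Matrix.mul_smul, hww, smul_smul, smul_add, Matrix.one_mul,
          Matrix.mul_one]
        module
      have h2ac : 2 * a * c = 0 := by
        by_contra hne
        refine hw ((2 * a * c)⁻¹ * (δ - (a * a + c * c * δ))) ?_
        rw [mul_smul, sub_smul, ← hy2, add_sub_cancel_left, inv_smul_smul₀ hne]
      rw [h2ac, zero_smul, add_zero] at hy2
      have heq : a * a + c * c * δ = δ := smul_left_injective F (one_ne_zero : (1 : Matrix (Fin n) (Fin n) F) ≠ 0) hy2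
      have ha : a = 0 := by
        rcases mul_eq_zero.1 h2ac with h | h
        · exact (mul_eq_zero.1 h).resolve_left h2
        · exact absurd ⟨a, by rw [← heq, h]; ring⟩ hδ
      have hc1 : c = 1 ∨ c = -1 := mul_self_eq_one_iff.1 (mul_right_cancel₀ hδ0 (by
        rw [one_mul]; linear_combination heq - a * ha))
      have hMw : M * w = c • (w * M) := by
        have h : M * w * Mi * M = (a • (1 : Matrix (Fin n) (Fin n) F) + c • w) * M := congrArg (· * M) hac
        rwa [mul_assoc (M * w), hMM, mul_one, ha, zero_smul, zero_add, Matrix.smul_mul] at h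
      -- move to the coordinates of `x`
      let W : Matrix (Fin n) (Fin n) F := (P : Matrix (Fin n) (Fin n) F) * w * ((P⁻¹ : GL (Fin n) F) : Matrix _ _ F)
      have hWW : W * W = δ • (1 : Matrix (Fin n) (Fin n) F) := by
        rw [show W * W = (P : Matrix (Fin n) (Fin n) F) * w * (((P⁻¹ : GL (Fin n) F) : Matrix _ _ F) *
          (P : Matrix (Fin n) (Fin n) F)) * w * ((P⁻¹ : GL (Fin n) F) : Matrix _ _ F) by simp only [W]; noncomm_ring,
          ← Units.val_mul, inv_mul_cancel, Units.val_one, mul_one, mul_assoc _ w w, hww, Matrix.mul_smul,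
          Matrix.mul_one, Matrix.smul_mul, ← Units.val_mul, mul_inv_cancel, Units.val_one]
      have hXW : (x : Matrix (Fin n) (Fin n) F) * W = c • (W * (x : Matrix (Fin n) (Fin n) F)) := by
        have h := congrArg (fun z => (P : Matrix (Fin n) (Fin n) F) * z * ((P⁻¹ : GL (Fin n) F) : Matrix _ _ F)) hMw
        have hx' : (x : Matrix (Fin n) (Fin n) F) =
            (P : Matrix (Fin n) (Fin n) F) * M * ((P⁻¹ : GL (Fin n) F) : Matrix _ _ F) := by
          rw [hMdef, ← Units.val_mul, ← Units.val_mul, show P * (P⁻¹ * Matrix.SpecialLinearGroup.toGL x * P) * P⁻¹ =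
            Matrix.SpecialLinearGroup.toGL x by group]
          rfl
        have hcan : ∀ z : Matrix (Fin n) (Fin n) F,
            ((P⁻¹ : GL (Fin n) F) : Matrix _ _ F) * ((P : Matrix (Fin n) (Fin n) F) * z) = z := fun z => by
          rw [← mul_assoc, ← Units.val_mul, inv_mul_cancel, Units.val_one, one_mul]
        rw [hx']
        simp only [W, mul_assoc, hcan, Matrix.mul_smul, Matrix.smul_mul] at h ⊢
        exact h
      have hinj : ∀ v, W.mulVec v = 0 → v = 0 := fun v hv => by
        have h := congrArg W.mulVec hv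
        rw [Matrix.mulVec_mulVec, hWW, Matrix.smul_mulVec, Matrix.one_mulVec, Matrix.mulVec_zero, smul_eq_zero] at h
        exact h.resolve_left hδ0
      have hxv : ∀ v, (x : Matrix (Fin n) (Fin n) F).mulVec (W.mulVec v) =
          c • W.mulVec ((x : Matrix (Fin n) (Fin n) F).mulVec v) := fun v => by
        rw [Matrix.mulVec_mulVec, hXW, Matrix.smul_mulVec, ← Matrix.mulVec_mulVec]
      let e : Fin n → F := Pi.single i₀ 1
      have hμne : μ ≠ -μ := fun h => mul_ne_zero h2 hμ0 (by linear_combination h)
      rcases hc1 with rfl | rfl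
      · -- commuting: the line is fixed
        have h := hxv e
        rw [one_smul, show (x : Matrix (Fin n) (Fin n) F).mulVec e = (-μ) • e from funext fun i => by
          rw [hx]; by_cases h : i = i₀ <;> simp [e, h, Pi.single_apply], Matrix.mulVec_smul] at h
        have hline : W.mulVec e = W.mulVec e i₀ • e := funext fun i => by
          by_cases hi : i = i₀
          · subst hi; simp [e]
          · have h3 := congrFun h i
            rw [hx, if_neg hi, Pi.smul_apply, smul_eq_mul] at h3
            have h4 : W.mulVec e i = 0 :=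
              (mul_eq_zero.1 (show (μ - -μ) * W.mulVec e i = 0 by linear_combination h3)).resolve_left
                (sub_ne_zero.2 hμne)
            simp [e, h4, hi]
        have h5 := congrArg W.mulVec hline
        rw [Matrix.mulVec_mulVec, hWW, Matrix.smul_mulVec, Matrix.one_mulVec, Matrix.mulVec_smul, hline,
          smul_smul] at h5
        have h6 := congrFun h5 i₀
        simp [e] at h6
        exact hδ ⟨_, h6⟩
      · -- anticommuting: a hyperplane maps into a line
        obtain ⟨a₁, a₂, h1, h12, h2'⟩ : ∃ a₁ a₂ : Fin n, a₁ ≠ i₀ ∧ a₁ ≠ a₂ ∧ a₂ ≠ i₀ := by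
          have h3 : 1 < (Finset.univ.erase i₀).card := by
            rw [Finset.card_erase_of_mem (Finset.mem_univ _), Finset.card_univ, Fintype.card_fin]; omega
          obtain ⟨a₁, ha₁, a₂, ha₂, h12⟩ := Finset.one_lt_card.1 h3
          exact ⟨a₁, a₂, Finset.ne_of_mem_erase ha₁, h12, Finset.ne_of_mem_erase ha₂⟩
        have hoff : ∀ b, b ≠ i₀ → ∀ i, i ≠ i₀ → W.mulVec (Pi.single b (1 : F)) i = 0 := fun b hb i hi => by
          have h := congrFun (hxv (Pi.single b (1 : F))) i
          rw [show (x : Matrix (Fin n) (Fin n) F).mulVec (Pi.single b (1 : F)) = μ • Pi.single b (1 : F) from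
            funext fun l => by
              rw [hx]; by_cases hl : l = b
              · subst hl; simp [hb]
              · simp [hl], Matrix.mulVec_smul, hx, if_neg hi, Pi.smul_apply, Pi.smul_apply, smul_eq_mul,
            smul_eq_mul] at h
          exact (mul_eq_zero.1 (show (μ - -μ) * W.mulVec (Pi.single b (1 : F)) i = 0 by
            linear_combination h)).resolve_left (sub_ne_zero.2 hμne)
        let t₁ := W.mulVec (Pi.single a₁ (1 : F)) i₀
        let t₂ := W.mulVec (Pi.single a₂ (1 : F)) i₀
        have hzero : t₂ • Pi.single a₁ (1 : F) - t₁ • Pi.single a₂ (1 : F) = (0 : Fin n → F) := hinj _ (by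
          rw [Matrix.mulVec_sub, Matrix.mulVec_smul, Matrix.mulVec_smul]
          funext i
          by_cases hi : i = i₀
          · subst hi; simp [t₁, t₂, mul_comm]
          · have e1 := hoff _ h1 i hi
            have e2 := hoff _ h2' i hi
            simp only [Pi.sub_apply, Pi.smul_apply, e1, e2, Pi.zero_apply, smul_zero, sub_zero])
        have ht₁ : t₁ = 0 := by simpa [Ne.symm h12] using congrFun hzero a₂
        have hzero' := hinj (Pi.single a₁ (1 : F)) (funext fun i => by
          by_cases hi : i = i₀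
          · subst hi; exact ht₁
          · exact hoff _ h1 i hi)
        simpa using congrFun hzero' a₁
  · intro hcond x hx hxs
    obtain ⟨z, hz⟩ := hx
    rw [InvCl.exists_sl_conj_iff (by omega) x hz]
    let L := Matrix.toLin' (x : Matrix (Fin n) (Fin n) F)
    have hL := InvCl.sl_sq hz
    have hz0 : z ≠ 0 := fun h0 => by
      have h := congrArg Matrix.det hz
      rw [Matrix.SpecialLinearGroup.det_coe, h0, zero_smul, Matrix.det_zero] at h
      exact one_ne_zero h
    -- reduce to an equivalence carrying a generator of `K` to a map normalised by `x`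
    suffices h : ∃ (w : Matrix (Fin n) (Fin n) F) (J : Module.End F (Fin n → F))
        (E : (Fin n → F) ≃ₗ[F] (Fin n → F)), w ∈ K ∧ (∀ a : F, w ≠ a • (1 : Matrix (Fin n) (Fin n) F)) ∧
        (∀ v, E (w.mulVec v) = J (E v)) ∧ ∃ a c : F, ∀ v, L (J v) = a • L v + c • J (L v) by
      obtain ⟨w, J, E, hwK, hw, hE, a, c, hJ⟩ := h
      obtain ⟨P, hP⟩ := InvCl.exists_gl_of_equiv (Matrix.SpecialLinearGroup.toGL x) E
      refine ⟨P, hnorm _ w hwK hw ?_⟩
      set g := P⁻¹ * Matrix.SpecialLinearGroup.toGL x * P
      have hgw : (g : Matrix (Fin n) (Fin n) F) * w = a • (g : Matrix (Fin n) (Fin n) F) +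
          c • (w * (g : Matrix (Fin n) (Fin n) F)) := by
        refine Matrix.toLin'.injective (LinearMap.ext fun v => ?_)
        simp only [Matrix.toLin'_apply, Matrix.add_mulVec, Matrix.smul_mulVec, ← Matrix.mulVec_mulVec, hP, hE]
        apply E.injective
        simp only [map_add, map_smul, LinearEquiv.apply_symm_apply, hE]
        exact hJ (E v)
      rw [hgw, add_mul, Matrix.smul_mul, Matrix.smul_mul, mul_assoc w, ← Units.val_mul, mul_inv_cancel, Units.val_one,
        mul_one]
      exact K.add_mem (K.smul_mem K.one_mem a) (K.smul_mem hwK c)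
    by_cases hc : ringChar F = 2
    · haveI : CharP F 2 := hc ▸ ringChar.charP F
      have hn' : n = 2 := hcond.resolve_right fun h => hodd_iff.1 h.1 hc
      obtain ⟨w, hwK, hw, δ, hδ⟩ := hnormal hc
      obtain ⟨s, hs⟩ := FiniteField.isSquare_of_char_two hc δ
      obtain ⟨μ, hμ⟩ := FiniteField.isSquare_of_char_two hc z
      have hμ0 : μ ≠ 0 := fun h => hz0 (by rw [hμ, h, mul_zero])
      obtain ⟨v, hv⟩ : ∃ v, L v ∉ Submodule.span F {v} := by
        by_contra hcon
        push Not at hcon
        obtain ⟨a, ha⟩ := InvCl.exists_scalar_of_forall_mem_span L hcon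
        refine hxs a (Matrix.toLin'.injective (LinearMap.ext fun v => ?_))
        rw [map_smul, Matrix.toLin'_one, LinearMap.smul_apply, LinearMap.id_apply]
        exact ha v
      obtain ⟨u, hu⟩ : ∃ u, w.mulVec u ∉ Submodule.span F {u} := by
        by_contra hcon
        push Not at hcon
        obtain ⟨a, ha⟩ := InvCl.exists_scalar_of_forall_mem_span (Matrix.toLin' w) hcon
        refine hw a (Matrix.toLin'.injective (LinearMap.ext fun v => ?_))
        rw [map_smul, Matrix.toLin'_one, LinearMap.smul_apply, LinearMap.id_apply]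
        exact ha v
      have hcardn : Fintype.card (Fin 2) = Module.finrank F (Fin n → F) := by
        rw [Module.finrank_fin_fun, Fintype.card_fin, hn']
      have hli : ∀ (v y : Fin n → F), v ≠ 0 → y ∉ Submodule.span F {v} → LinearIndependent F ![v, y] :=
        fun v y hv hy => by
          refine linearIndependent_fin2.2 ⟨fun h => hy ?_, fun a h => ?_⟩
          · simp at h; rw [h]; exact Submodule.zero_mem _
          · rcases eq_or_ne a 0 with rfl | ha
            · simp at h; exact hv h.symm
            · refine hy (Submodule.mem_span_singleton.2 ⟨a⁻¹, ?_⟩)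
              simp at h
              rw [← h, inv_smul_smul₀ ha]
      have hv0 : v ≠ 0 := fun h => hv (by rw [h, map_zero]; exact Submodule.zero_mem _)
      have hu0 : u ≠ 0 := fun h => hu (by rw [h, Matrix.mulVec_zero]; exact Submodule.zero_mem _)
      have hL' : (μ⁻¹ • L v) ∉ Submodule.span F {v} := fun h => hv (by
        have := Submodule.smul_mem _ μ h; rwa [smul_inv_smul₀ hμ0] at this)
      let bv := basisOfLinearIndependentOfCardEqFinrank (hli v (μ⁻¹ • L v) hv0 hL') hcardn
      have hb : ∀ i, bv i = ![v, μ⁻¹ • L v] i := fun i => by simp [bv]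
      let J : Module.End F (Fin n → F) := bv.constr F ![s • bv 1, s • bv 0 + bv 1]
      have hJ0 : J (bv 0) = s • bv 1 := bv.constr_basis _ _ _
      have hJ1 : J (bv 1) = s • bv 0 + bv 1 := bv.constr_basis _ _ _
      have hL0 : L (bv 0) = μ • bv 1 := by rw [hb, hb]; simp [hμ0]
      have hL1 : L (bv 1) = μ • bv 0 := by
        rw [hb, hb]; simp only [Matrix.cons_val_one, Matrix.cons_val_zero, map_smul, L, hL, hμ, smul_smul]
        rw [← mul_assoc, inv_mul_cancel₀ hμ0, one_mul]
      have hJJ : J * J = δ • (1 : Module.End F (Fin n → F)) + J := bv.ext fun i => by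
        rcases Fin.exists_fin_two.1 ⟨i, rfl⟩ with h | h <;> subst h
        · simp [hJ0, hJ1, hs, smul_smul]
        · simp [hJ0, hJ1, hs, smul_smul]
      by_cases hs0 : s = 0
      · exfalso
        rw [hs, hs0, zero_mul, zero_smul, zero_add] at hδ
        obtain ⟨y, -, hy⟩ := hK.inv w hwK (fun h => hw 0 (by rw [h, zero_smul]))
        refine hw 1 ?_
        have := congrArg (· * y) hδ
        simp only [mul_assoc, hy, mul_one] at this
        rw [one_smul, this]
      have hJb : J (bv 0) ∉ Submodule.span F {bv 0} := fun h => by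
        obtain ⟨a, ha⟩ := Submodule.mem_span_singleton.1 h
        rw [hJ0] at ha
        have := congrArg (fun v => bv.repr v 1) ha
        simp at this
        exact hs0 this.symm
      let bw := basisOfLinearIndependentOfCardEqFinrank (hli u (w.mulVec u) hu0 hu) hcardn
      let bJ := basisOfLinearIndependentOfCardEqFinrank (hli (bv 0) (J (bv 0)) (bv.ne_zero 0) hJb) hcardn
      let E := bw.equiv bJ (Equiv.refl _)
      have hw0 : E u = bv 0 := by
        have h : E (bw 0) = bJ 0 := Module.Basis.equiv_apply _ _ _ _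
        simpa [bw, bJ] using h
      have hw1 : E (w.mulVec u) = J (bv 0) := by
        have h : E (bw 1) = bJ 1 := Module.Basis.equiv_apply _ _ _ _
        simpa [bw, bJ] using h
      refine ⟨w, J, E, hwK, hw, fun y => ?_, 1, 1, fun y => ?_⟩
      · suffices hh : E.toLinearMap ∘ₗ Matrix.toLin' w = J ∘ₗ E.toLinearMap from LinearMap.congr_fun hh y
        refine bw.ext fun i => ?_
        rcases Fin.exists_fin_two.1 ⟨i, rfl⟩ with h | h <;> subst h
        · simp [bw, hw0, hw1]
        · have hJJ' : J (J (bv 0)) = δ • bv 0 + J (bv 0) := LinearMap.congr_fun hJJ (bv 0)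
          simp [bw, hw0, hw1, hδ, Matrix.mulVec_mulVec, Matrix.add_mulVec, Matrix.smul_mulVec, hJJ']
      · suffices hh : L ∘ₗ J = L + J ∘ₗ L from by simpa using LinearMap.congr_fun hh y
        refine bv.ext fun i => ?_
        rcases Fin.exists_fin_two.1 ⟨i, rfl⟩ with h | h <;> subst h
        · simp only [LinearMap.comp_apply, LinearMap.add_apply, hJ0, hL0, hL1, hJ1, map_smul, smul_add, smul_smul]
          rw [add_comm ((μ * s) • bv 0), ← add_assoc, show μ • bv 1 + μ • bv 1 = 0 from by rw [← two_smul F (μ • bv 1), CharTwo.two_eq_zero, zero_smul], zero_add, mul_comm]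
        · simp only [LinearMap.comp_apply, LinearMap.add_apply, hJ0, hJ1, hL0, hL1, map_smul, map_add, smul_smul]
          rw [mul_comm s μ, add_comm]
    · have hodd := hodd_iff.2 hc
      have h2 : (2 : F) ≠ 0 := Ring.two_ne_zero hc
      obtain ⟨w, hwK, hw, δ, hδ, hww⟩ := hodd_w hc
      have hδ0 : δ ≠ 0 := fun h => hδ (h ▸ IsSquare.zero)
      obtain ⟨J, δ', hδ', hJsq, hcomm⟩ : ∃ (J : Module.End F (Fin n → F)) (δ' : F), ¬ IsSquare δ' ∧
          (∀ v, J (J v) = δ' • v) ∧ ∃ a c : F, ∀ v, L (J v) = a • L v + c • J (L v) := by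
        by_cases hsq : IsSquare z
        · obtain ⟨μ, rfl⟩ := hsq
          obtain ⟨d, hd⟩ := hn2
          have hnd : n = d * 2 := by omega
          have hμ0 : μ ≠ 0 := left_ne_zero_of_mul hz0
          obtain ⟨g, b, hg, hg', δg, hδg, hgd, hgood⟩ : ∃ (g : Fin d × Fin 2 → F)
              (b : Module.Basis (Fin d × Fin 2) F (Fin n → F)), (∀ k, L (b k) = g k • b k) ∧
              (∀ k, g k = μ ∨ g k = -μ) ∧ ∃ δg : F, (δg = μ * μ ∨ δg = -(μ * μ)) ∧
              (∀ i, g (i, 0) * g (i, 1) = δg) ∧ True := by
            by_cases hgood : μ ^ n = -1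
            · rcases hcond with rfl | ⟨-, hv⟩
              · have hμ2 : μ * μ = -1 := by rw [← hgood, pow_two]
                have hA : ∀ e : F, e * e = μ * μ → e ≠ 0 →
                    ∃ v : Fin 2 → F, v ≠ 0 ∧ L v = e • v := fun e he he0 => by
                  by_contra hcon
                  push Not at hcon
                  have hall : ∀ u, L u = (-e) • u := fun u => by
                    have h : e • u + L u = 0 := by
                      by_contra hne
                      refine hcon _ hne ?_
                      rw [map_add, map_smul, hL, smul_add, smul_smul, he, add_comm]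
                    rw [neg_smul]
                    exact eq_neg_of_add_eq_zero_right h
                  refine hxs (-e) (Matrix.toLin'.injective (LinearMap.ext fun v => ?_))
                  rw [map_smul, Matrix.toLin'_one, LinearMap.smul_apply, LinearMap.id_apply]
                  exact hall v
                obtain ⟨v₁, hv₁0, hv₁⟩ := hA μ rfl hμ0
                obtain ⟨v₂, hv₂0, hv₂⟩ := hA (-μ) (by ring) (neg_ne_zero.2 hμ0)
                have hd1 : d = 1 := by omega
                subst hd1
                have hli : LinearIndependent F (fun k : Fin 1 × Fin 2 => ![v₁, v₂] k.2) := by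
                  refine LinearIndependent.comp ?_ (fun k : Fin 1 × Fin 2 => k.2) (fun a b h =>
                    Prod.ext (Subsingleton.elim _ _) h)
                  refine linearIndependent_fin2.2 ⟨hv₂0, fun a h => ?_⟩
                  simp at h
                  have h3 := congrArg L h
                  rw [map_smul, hv₁, hv₂, ← h, smul_smul, smul_smul, ← sub_eq_zero, ← sub_smul, smul_eq_zero] at h3
                  rcases h3 with h3 | h3
                  · have : a = 0 := by
                      have h4 : (2 : F) * μ * a = 0 := by linear_combination -h3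
                      exact (mul_eq_zero.1 h4).resolve_left (mul_ne_zero h2 hμ0)
                    rw [this, zero_smul] at h; exact hv₁0 h.symm
                  · exact hv₂0 h3
                refine ⟨fun k => ![μ, -μ] k.2, basisOfLinearIndependentOfCardEqFinrank hli (by simp),
                  ?_, ?_, -(μ * μ), Or.inr rfl, fun i => by simp, trivial⟩
                · rintro ⟨i, s⟩; fin_cases s <;> simp [hv₁, hv₂]
                · rintro ⟨i, s⟩; fin_cases s <;> simp
              · exact absurd ((InvCl.exists_pow_eq_neg_one_iff hc (by omega : 0 < n)).1 ⟨μ, hgood⟩) (by omega)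
            · obtain ⟨g, b, hg, hg', δg, hδg, hgd⟩ := InvCl.exists_plane_basis (L := L) h2 hμ0 hL (hdetx x) hnd hgood
              exact ⟨g, b, hg, hg', δg, hδg, hgd, trivial⟩
          let J : Module.End F (Fin n → F) :=
            b.constr F fun k => if k.2 = 0 then b (k.1, 1) else δ • b (k.1, 0)
          have hJ0 : ∀ i, J (b (i, 0)) = b (i, 1) := fun i => (b.constr_basis _ _ _).trans (if_pos rfl)
          have hJ1 : ∀ i, J (b (i, 1)) = δ • b (i, 0) := fun i =>
            (b.constr_basis _ _ _).trans (if_neg (by simp))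
          refine ⟨J, δ, hδ, fun v => ?_, 0, δg / (μ * μ), fun v => ?_⟩
          · suffices hh : J * J = δ • (1 : Module.End F (Fin n → F)) by simpa using LinearMap.congr_fun hh v
            refine b.ext fun ⟨i, s⟩ => ?_
            fin_cases s <;> simp [hJ0, hJ1]
          · suffices hh : L ∘ₗ J = (δg / (μ * μ)) • (J ∘ₗ L) by simpa using LinearMap.congr_fun hh v
            refine b.ext fun ⟨i, s⟩ => ?_
            have hinv : ∀ t, g (i, t) * g (i, t) = μ * μ := fun t => by
              rcases hg' (i, t) with h | h <;> rw [h] <;> ring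
            have hne : ∀ t, g (i, t) ≠ 0 := fun t h0 => by
              have := hinv t
              rw [h0, mul_zero] at this
              exact mul_ne_zero hμ0 hμ0 this.symm
            fin_cases s
            · simp only [Fin.zero_eta, LinearMap.comp_apply, LinearMap.smul_apply, hJ0, hg, map_smul, smul_smul]
              congr 1
              rw [← hgd i, ← hinv 0]
              field_simp
              rw [eq_div_iff (hne 0)]
            · simp only [Fin.mk_one, LinearMap.comp_apply, LinearMap.smul_apply, hJ1, hg, map_smul, smul_smul]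
              congr 1
              rw [← hgd i, ← hinv 1]
              field_simp
              rw [eq_div_iff (hne 1)]
        · exact ⟨L, z, hsq, hL, 0, 1, fun v => by simp⟩
      -- a generator with square `δ'`
      obtain ⟨e, he⟩ : IsSquare (δ' / δ) := by
        have hq := hodd_iff.2 hc
        rw [FiniteField.isSquare_iff hc (show δ' / δ ≠ 0 from div_ne_zero (fun h => hδ' (h ▸ IsSquare.zero)) hδ0)]
        have key : ∀ y : F, ¬ IsSquare y → y ^ (Fintype.card F / 2) = -1 := fun y hy => by
          have hy0 : y ≠ 0 := fun h => hy (h ▸ IsSquare.zero)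
          exact (FiniteField.pow_dichotomy hc hy0).resolve_left fun h => hy ((FiniteField.isSquare_iff hc hy0).2 h)
        rw [div_pow, key δ' hδ', key δ hδ, div_self (neg_ne_zero.2 one_ne_zero)]
      have he0 : e ≠ 0 := fun h => by
        rw [h, mul_zero, div_eq_zero_iff] at he
        rcases he with h | h
        exacts [hδ' (h ▸ IsSquare.zero), hδ0 h]
      let w' := e • w
      have hw'K : w' ∈ K := K.smul_mem hwK e
      have hw' : ∀ a : F, w' ≠ a • (1 : Matrix (Fin n) (Fin n) F) := fun a h => hw (e⁻¹ * a) (by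
        rw [mul_smul, ← h, inv_smul_smul₀ he0])
      have hw'sq : ∀ v, Matrix.toLin' w' (Matrix.toLin' w' v) = δ' • v := fun v => by
        rw [Matrix.toLin'_apply, Matrix.toLin'_apply, Matrix.mulVec_mulVec, show w' * w' = δ' • 1 from by
          rw [Matrix.smul_mul, Matrix.mul_smul, smul_smul, hww, smul_smul]
          congr 1
          rw [← he]; field_simp, Matrix.smul_mulVec, Matrix.one_mulVec]
      obtain ⟨ι₁, ν₁, _, _, c₁, b₁, h10, h11, -, h13⟩ := InvCl.exists_split (Matrix.toLin' w') δ' hw'sq
      obtain ⟨ι₂, ν₂, _, _, c₂, b₂, h20, h21, -, h23⟩ := InvCl.exists_split J δ' hJsq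
      haveI : IsEmpty ν₁ := not_nonempty_iff.1 fun h => hδ' ⟨c₁, (h13 h).symm⟩
      haveI : IsEmpty ν₂ := not_nonempty_iff.1 fun h => hδ' ⟨c₂, (h23 h).symm⟩
      have hcard : Fintype.card ι₁ = Fintype.card ι₂ := by
        have h := (Module.finrank_eq_card_basis b₁).symm.trans (Module.finrank_eq_card_basis b₂)
        simpa using h
      let E := b₁.equiv b₂ (Equiv.sumCongr (Equiv.prodCongr (Fintype.equivOfCardEq hcard) (Equiv.refl _))
        (Equiv.equivOfIsEmpty ν₁ ν₂))
      refine ⟨w', J, E, hw'K, hw', fun v => ?_, hcomm⟩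
      suffices hh : E.toLinearMap ∘ₗ Matrix.toLin' w' = J ∘ₗ E.toLinearMap from LinearMap.congr_fun hh v
      refine b₁.ext ?_
      rintro (⟨i, s⟩ | j)
      · fin_cases s
        · simp only [Fin.zero_eta, LinearMap.comp_apply, LinearEquiv.coe_coe, h10, E, Module.Basis.equiv_apply]
          simp [h20]
        · simp only [Fin.mk_one, LinearMap.comp_apply, LinearEquiv.coe_coe, h11, E, map_smul,
            Module.Basis.equiv_apply]
          simp [h21]
      · exact isEmptyElim j


end Cfsg.Agent.S5969
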