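import Cfsg.Statements.S5970
import Cfsg.Agent.Lib.Derangements.SingerPrime
import Cfsg.Agent.Lib.Derangements.LinearElusiveMain
-- import your own Cfsg.Agent.* helpers here

set_option autoImplicit false
open scoped MatrixGroups
open Cfsg

namespace Cfsg.Agent.S5970

open Module Matrix CfsgLib.Derangements

/-- Elements of order `n` of PSL_n(q), `n` prime, and the normalizer of a Singer cycle. Here `T = PSL_n(F)` for a field `F` with `q = p^f` elements (`n ≥ 2`, `(n, q) ≠ (2, 2), (2, 3)`), `k` is a prime dividing `n`, `K` is a subalgebra of the `n × n` matrices that is a field of degree `k` over `F` (an extension-field structure F_{q^k} on `F^n`), and `H` is the subgroup of matrices of determinant 1 normalizing `K` — a subgroup of type GL_{n/k}(q^k) (maximal except in some small cases; maximality is not assumed); Ω is the set of cosets of `H` in `T`, so an element of `T` of prime order `r` (a matrix `x` of determinant 1 with `x^r` scalar, `x` not scalar) fixes a point of Ω when some conjugate of `x` by a matrix of determinant 1 normalizes `K`.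 Take `k = n > 3` prime with `n ≠ p` (so `H` is the normalizer of a Singer cycle), and suppose `n` divides the index of `H`. Then every element of `T` of order `n` is conjugate in `T` into `H` if and only if the multiplicative order of `q` modulo `n` is `n − 1`. -/
theorem result {F : Type*} [Field F] [Fintype F] {p : ℕ} [Fact p.Prime] [CharP F p] {q : ℕ} (hq : Fintype.card F = q)
    (n : ℕ) (hn : 2 ≤ n) (hT : (n, q) ≠ (2, 2) ∧ (n, q) ≠ (2, 3))
    (k : ℕ) (hk : k.Prime) (hkn : k ∣ n) (K : Subalgebra F (Matrix (Fin n) (Fin n) F)) (hK : Cfsg.Geo.IsFieldSubalgebra k K) (hkn' : k = n) (hn3 : 3 < n) (hnp : n ≠ p) (hΩ : n ∣ ((Cfsg.Geo.subalgebraNormalizer K).comap (Matrix.SpecialLinearGroup.toGL : Matrix.SpecialLinearGroup (Fin n) F →* GL (Fin n) F)).index) :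
    (∀ x : Matrix.SpecialLinearGroup (Fin n) F,
      (∃ z : F, ((x ^ n : Matrix.SpecialLinearGroup (Fin n) F) : Matrix (Fin n) (Fin n) F) = z • (1 : Matrix (Fin n) (Fin n) F)) →
      (∀ z : F, (x : Matrix (Fin n) (Fin n) F) ≠ z • (1 : Matrix (Fin n) (Fin n) F)) →
      ∃ P : Matrix.SpecialLinearGroup (Fin n) F, P⁻¹ * x * P ∈ ((Cfsg.Geo.subalgebraNormalizer K).comap (Matrix.SpecialLinearGroup.toGL : Matrix.SpecialLinearGroup (Fin n) F →* GL (Fin n) F))) ↔
    orderOf (q : ZMod n) = n - 1 := by
  classical
  subst hkn' hq
  haveI : Fact k.Prime := ⟨hk⟩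
  have hn0 : (k : F) ≠ 0 := fun h =>
    hnp ((Nat.prime_dvd_prime_iff_eq (Fact.out : p.Prime) hk).1 ((CharP.cast_eq_zero_iff F p k).1 h)).symm
  have hq0 : (Fintype.card F : ZMod k) ≠ 0 := fun h => by
    rw [ZMod.natCast_eq_zero_iff] at h
    obtain ⟨e, hp, he⟩ := FiniteField.card F p
    rw [he] at h
    exact hnp ((Nat.prime_dvd_prime_iff_eq hk hp).1 (hk.dvd_of_dvd_pow h))
  set i := orderOf (Fintype.card F : ZMod k) with hi
  have hidvd : i ∣ k - 1 := orderOf_dvd_of_pow_eq_one (ZMod.pow_card_sub_one_eq_one hq0)
  have hipos : 0 < i := Nat.pos_of_ne_zero fun h => by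
    rw [h, zero_dvd_iff] at hidvd
    omega
  constructor
  · intro hall
    by_contra hne
    -- an element of order `k` with a fixed space of dimension at least two
    obtain ⟨X, hXd, hXk, v, w, hv, hw, hXv, hXw, hX1⟩ : ∃ X : Matrix (Fin k) (Fin k) F, X.det = 1 ∧ X ^ k = 1 ∧
        ∃ v w : Fin k → F, v ≠ 0 ∧ (∀ c : F, w ≠ c • v) ∧ X *ᵥ v = v ∧ X *ᵥ w = w ∧ X ≠ 1 := by
      rcases Nat.lt_or_ge i 2 with hi2 | hi2
      · have hdvd : k ∣ Fintype.card F - 1 := by
          have hi1 : orderOf (Fintype.card F : ZMod k) = 1 := by omega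
          rw [orderOf_eq_one_iff] at hi1
          rw [← ZMod.natCast_eq_zero_iff, Nat.cast_sub Fintype.card_pos, hi1, Nat.cast_one, sub_self]
        rw [← Fintype.card_units] at hdvd
        obtain ⟨ζ, hζ⟩ := exists_prime_orderOf_dvd_card k hdvd
        let u : Fin k → Fˣ := fun j => if j = ⟨0, by omega⟩ then ζ else if j = ⟨1, by omega⟩ then ζ⁻¹ else 1
        have hu0 : u ⟨0, by omega⟩ = ζ := if_pos rfl
        have hu1 : u ⟨1, by omega⟩ = ζ⁻¹ := by
          simp only [u, if_true]
          exact if_neg fun h => absurd (congrArg Fin.val h) one_ne_zero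
        have hu2 : ∀ j : Fin k, 2 ≤ j.1 → u j = 1 := fun j hj => by
          simp only [u]
          rw [if_neg fun h => by rw [h] at hj; exact absurd hj (by simp),
            if_neg fun h => by rw [h] at hj; exact absurd hj (by simp)]
        refine ⟨Matrix.diagonal fun j => (u j : F), ?_, ?_, Pi.single ⟨2, by omega⟩ 1, Pi.single ⟨3, by omega⟩ 1,
          ?_, ?_, ?_, ?_, ?_⟩
        · rw [Matrix.det_diagonal, Finset.prod_eq_mul (⟨0, by omega⟩ : Fin k) ⟨1, by omega⟩
            (fun h => absurd (congrArg Fin.val h) zero_ne_one)]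
          · rw [hu0, hu1, ← Units.val_mul, mul_inv_cancel, Units.val_one]
          · intro j _ hj
            rw [hu2 j ?_, Units.val_one]
            have h1 : j.1 ≠ 0 := fun h => hj.1 (Fin.ext h)
            have h2 : j.1 ≠ 1 := fun h => hj.2 (Fin.ext h)
            omega
          · simp
          · simp
        · rw [Matrix.diagonal_pow, ← Matrix.diagonal_one]
          congr 1
          funext j
          have hζk : ζ ^ k = 1 := hζ ▸ pow_orderOf_eq_one ζ
          simp only [Pi.pow_apply, ← Units.val_pow_eq_pow_val]
          simp only [u]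
          split_ifs <;> simp [hζk]
        · simp
        · intro c hc
          have h := congrFun hc ⟨3, by omega⟩
          rw [Pi.single_eq_same, Pi.smul_apply, Pi.single_eq_of_ne (fun h => absurd (congrArg Fin.val h) (by simp)),
            smul_zero] at h
          exact one_ne_zero h
        · funext j
          rw [Matrix.mulVec_diagonal]
          by_cases hj : j = ⟨2, by omega⟩
          · subst hj; rw [hu2 _ le_rfl, Units.val_one, one_mul]
          · simp [hj]
        · funext j
          rw [Matrix.mulVec_diagonal]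
          by_cases hj : j = ⟨3, by omega⟩
          · subst hj; rw [hu2 _ (by simp), Units.val_one, one_mul]
          · simp [hj]
        · intro h
          have := congrFun (congrFun h ⟨0, by omega⟩) ⟨0, by omega⟩
          rw [Matrix.diagonal_apply_eq, hu0, Matrix.one_apply_eq, Units.val_eq_one] at this
          rw [this, orderOf_one] at hζ
          exact hk.one_lt.ne hζ
      · have h2i : 2 * i ≤ k - 1 := by
          obtain ⟨c, hc⟩ := hidvd
          rcases c with _ | _ | c
          · omega
          · exact absurd (by rw [hc]; ring) hne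
          · rw [hc, mul_comm]
            exact Nat.mul_le_mul_left _ (by omega)
        obtain ⟨T₁, hT₁, hT₁d, -, hT₁fix⟩ := LinElusive.exists_semisimple_witness hn0 (n := i) hi2 le_rfl
        rw [← hi, Nat.mod_self, Nat.le_zero, Submodule.finrank_eq_zero] at hT₁fix
        let W := (Fin i → F) × (Fin (k - i) → F)
        let T₀ : Module.End F W := LinearMap.prodMap T₁ LinearMap.id
        let e : W ≃ₗ[F] (Fin k → F) := LinearEquiv.ofFinrankEq _ _ (by
          simp only [W, Module.finrank_prod, Module.finrank_fin_fun]; omega)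
        let T : Module.End F (Fin k → F) := e.conjAlgEquiv F T₀
        have hTe : ∀ w : W, T (e w) = e (T₁ w.1, w.2) := fun w => by simp [T, T₀, LinearEquiv.conjAlgEquiv_apply]; rfl
        have hTk : T ^ k = 1 := by
          have hT₀ : ∀ (m : ℕ) (w : W), (T₀ ^ m) w = ((T₁ ^ m) w.1, w.2) := by
            intro m
            induction m with
            | zero => intro w; rfl
            | succ m ih => intro w; rw [pow_succ', Module.End.mul_apply, ih, pow_succ']; rfl
          rw [← map_pow, show T₀ ^ k = 1 from LinearMap.ext fun w => by rw [hT₀, hT₁]; rfl, map_one]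
        have hfix : ∀ b : Fin (k - i) → F, T (e (0, b)) = e (0, b) := fun b => by rw [hTe, map_zero]
        refine ⟨LinearMap.toMatrix' T, ?_, ?_, e (0, Pi.single ⟨0, by omega⟩ 1), e (0, Pi.single ⟨1, by omega⟩ 1),
          ?_, ?_, ?_, ?_, ?_⟩
        · rw [LinearMap.det_toMatrix']
          show LinearMap.det (e.conjAlgEquiv F T₀) = 1
          rw [LinearEquiv.conjAlgEquiv_apply]
          refine (LinearMap.det_conj _ e).trans ?_
          rw [LinearMap.det_prodMap, hT₁d, LinearMap.det_id, one_mul]
        · change (LinearMap.toMatrixAlgEquiv' T) ^ k = 1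
          rw [← map_pow, hTk, map_one]
        · intro h
          simpa using congrArg Prod.snd ((map_eq_zero_iff e e.injective).1 h)
        · intro c hc
          rw [← map_smul] at hc
          have := congrFun (congrArg Prod.snd (e.injective hc)) ⟨1, by omega⟩
          have h' : (c • ((0, Pi.single ⟨0, by omega⟩ 1) : (Fin i → F) × (Fin (k - i) → F))).2 ⟨1, by omega⟩ = 0 := by
            simp [Pi.single_apply, Fin.ext_iff]
          have h'' : (Pi.single (⟨1, by omega⟩ : Fin (k - i)) (1 : F) : Fin (k - i) → F) ⟨1, by omega⟩ = 0 :=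
            this.trans h'
          rw [Pi.single_eq_same] at h''
          exact one_ne_zero h''
        · rw [LinearMap.toMatrix'_mulVec, hfix]
        · rw [LinearMap.toMatrix'_mulVec, hfix]
        · intro h
          let a : Fin i → F := Pi.single ⟨0, by omega⟩ 1
          have h1 := congrArg (fun M : Matrix (Fin k) (Fin k) F => M *ᵥ e (a, 0)) h
          simp only [LinearMap.toMatrix'_mulVec, Matrix.one_mulVec, hTe] at h1
          have h2 : a ∈ T₁.eigenspace 1 := by
            rw [Module.End.mem_eigenspace_iff, one_smul]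
            exact congrArg Prod.fst (e.injective h1)
          rw [hT₁fix, Submodule.mem_bot] at h2
          simpa [a] using congrFun h2 ⟨0, by omega⟩
    have hns : ∀ c : F, X ≠ c • (1 : Matrix (Fin k) (Fin k) F) := fun c hc => hX1 (by
      have h := hXv
      rw [hc, Matrix.smul_mulVec, Matrix.one_mulVec] at h
      obtain ⟨j, hj⟩ := Function.ne_iff.1 hv
      have h' : c = 1 := by
        have := congrFun h j
        simp at this
        exact (mul_eq_right₀ hj).1 this
      rw [hc, h', one_smul])
    refine SingerPrime.not_conj hK hk (x := ⟨X, hXd⟩) (μ := 1) hns hv hw (by rw [one_smul]; exact hXv)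
      (by rw [one_smul]; exact hXw) (hall ⟨X, hXd⟩ ⟨1, ?_⟩ hns)
    rw [one_smul]
    exact (Matrix.SpecialLinearGroup.coe_pow _ k).trans hXk
  · intro hord x ⟨z, hz⟩ hns
    have hz1 : z = 1 := by
      have hd := (x ^ k).2
      rw [hz, Matrix.det_smul, Matrix.det_one, mul_one, Fintype.card_fin] at hd
      have hz0 : z ≠ 0 := fun h => by rw [h, zero_pow hk.ne_zero] at hd; exact zero_ne_one hd
      by_contra hne
      have h1 : orderOf z = k := orderOf_eq_prime hd hne
      have h2 := orderOf_dvd_of_pow_eq_one (FiniteField.pow_card_sub_one_eq_one z hz0)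
      rw [h1, ← ZMod.natCast_eq_zero_iff, Nat.cast_sub Fintype.card_pos, sub_eq_zero] at h2
      have h3 : i = 1 := orderOf_eq_one_iff.2 (by exact_mod_cast h2)
      omega
    rw [hz1, one_smul, Matrix.SpecialLinearGroup.coe_pow] at hz
    have hx1 : (x : Matrix (Fin k) (Fin k) F) ≠ 1 := fun h => hns 1 (by rw [h, one_smul])
    refine SingerPrime.exists_conj_normalizer hK (by omega) hn0 (Or.inr hord) hz hx1 fun μ v w hv hxv hxw => ?_
    let L : Module.End F (Fin k → F) := Matrix.toLinAlgEquiv' (x : Matrix (Fin k) (Fin k) F)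
    have hLa : ∀ u, L u = (x : Matrix (Fin k) (Fin k) F) *ᵥ u := fun u => rfl
    have hLk : L ^ k = 1 := by rw [← map_pow, hz, map_one]
    have hμ : μ = 1 := by
      have hpow : ∀ j : ℕ, (L ^ j) v = μ ^ j • v := fun j => by
        induction j with
        | zero => simp
        | succ j ih => rw [pow_succ', Module.End.mul_apply, ih, map_smul, hLa, hxv, smul_smul, pow_succ]
      have h1 := hpow k
      rw [hLk, Module.End.one_apply] at h1
      obtain ⟨j, hj⟩ := Function.ne_iff.1 hv
      have h1' := congrFun h1 j
      simp at h1'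
      have hμk : μ ^ k = 1 := (mul_eq_right₀ hj).1 h1'.symm
      have hμ0 : μ ≠ 0 := fun h => by rw [h, zero_pow hk.ne_zero] at hμk; exact zero_ne_one hμk
      by_contra hne
      have h2 := orderOf_dvd_of_pow_eq_one (FiniteField.pow_card_sub_one_eq_one μ hμ0)
      rw [orderOf_eq_prime hμk hne, ← ZMod.natCast_eq_zero_iff, Nat.cast_sub Fintype.card_pos, sub_eq_zero] at h2
      have h3 : i = 1 := orderOf_eq_one_iff.2 (by exact_mod_cast h2)
      omega
    subst hμ
    obtain ⟨E, hc, -, hu, -⟩ := LinElusive.exists_structure hn0 hLk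
    have hE : E ≠ ⊥ := fun h => hx1 (by
      have htop : L.eigenspace 1 = ⊤ := by
        have := hc.sup_eq_top
        rwa [h, sup_bot_eq] at this
      have hL1 : L = 1 := LinearMap.ext fun u => by
        have hu' : u ∈ L.eigenspace 1 := htop ▸ Submodule.mem_top
        rw [Module.End.mem_eigenspace_iff, one_smul] at hu'
        exact hu'
      exact Matrix.toLinAlgEquiv'.injective (hL1.trans (map_one _).symm))
    have hEd := Nat.le_of_dvd (Nat.pos_of_ne_zero fun h => hE (Submodule.finrank_eq_zero.1 h))
      (hu.dvd E le_rfl hu.inv)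
    have hdim := Submodule.finrank_add_eq_of_isCompl hc
    rw [finrank_fin_fun] at hdim
    have hC : Submodule.span F {v} = L.eigenspace 1 := by
      refine Submodule.eq_of_le_of_finrank_le ((Submodule.span_singleton_le_iff_mem _ _).2 ?_) ?_
      · rw [Module.End.mem_eigenspace_iff, hLa, hxv]
      · rw [finrank_span_singleton hv]
        omega
    have hwmem : w ∈ L.eigenspace 1 := by rw [Module.End.mem_eigenspace_iff, hLa, hxw]
    rw [← hC, Submodule.mem_span_singleton] at hwmem
    obtain ⟨c, hc'⟩ := hwmem
    exact ⟨c, hc'.symm⟩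

end Cfsg.Agent.S5970
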