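import Cfsg.Statements.S5971
import Cfsg.Agent.Lib.Derangements.SingerPrime
-- import your own Cfsg.Agent.* helpers here

set_option autoImplicit false
open scoped MatrixGroups
open Cfsg

namespace Cfsg.Agent.S5971

open Module Matrix CfsgLib.Derangements

theorem ord23 : orderOf ((2 : ℕ) : ZMod 3) = 2 := orderOf_eq_prime (by decide) (by decide)

/-- Elements of order 3 of PSL_3(q) and the normalizer of a Singer cycle. Here `T = PSL_n(F)` for a field `F` with `q = p^f` elements (`n ≥ 2`, `(n, q) ≠ (2, 2), (2, 3)`), `k` is a prime dividing `n`, `K` is a subalgebra of the `n × n` matrices that is a field of degree `k` over `F` (an extension-field structure F_{q^k} on `F^n`), and `H` is the subgroup of matrices of determinant 1 normalizing `K` — a subgroup of type GL_{n/k}(q^k) (maximal except in some small cases; maximality is not assumed); Ω is the set of cosets of `H` in `T`, so an element of `T` of prime order `r` (a matrix `x` of determinant 1 with `x^r` scalar, `x` not scalar) fixes a point of Ω when some conjugate of `x` by a matrix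 of determinant 1 normalizes `K`. Take `n = k = 3` and suppose 3 divides the index of `H`. Then every element of `T` of order 3 is conjugate in `T` into `H` if and only if `q ≡ 4, 7` or `8 (mod 9)`. -/
theorem result {F : Type*} [Field F] [Fintype F] {p : ℕ} [Fact p.Prime] [CharP F p] {q : ℕ} (hq : Fintype.card F = q)
    (n : ℕ) (hn : n = 3) (k : ℕ) (hk : k.Prime) (hkn : k ∣ n) (K : Subalgebra F (Matrix (Fin n) (Fin n) F)) (hK : Cfsg.Geo.IsFieldSubalgebra k K) (hk3 : k = 3) (hΩ : 3 ∣ ((Cfsg.Geo.subalgebraNormalizer K).comap (Matrix.SpecialLinearGroup.toGL : Matrix.SpecialLinearGroup (Fin n) F →* GL (Fin n) F)).index) :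
    (∀ x : Matrix.SpecialLinearGroup (Fin n) F,
      (∃ z : F, ((x ^ 3 : Matrix.SpecialLinearGroup (Fin n) F) : Matrix (Fin n) (Fin n) F) = z • (1 : Matrix (Fin n) (Fin n) F)) →
      (∀ z : F, (x : Matrix (Fin n) (Fin n) F) ≠ z • (1 : Matrix (Fin n) (Fin n) F)) →
      ∃ P : Matrix.SpecialLinearGroup (Fin n) F, P⁻¹ * x * P ∈ ((Cfsg.Geo.subalgebraNormalizer K).comap (Matrix.SpecialLinearGroup.toGL : Matrix.SpecialLinearGroup (Fin n) F →* GL (Fin n) F))) ↔
    (q % 9 = 4 ∨ q % 9 = 7 ∨ q % 9 = 8) := by
  classical
  subst hk3 hq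
  subst hn
  haveI : Fact (Nat.Prime 3) := ⟨Nat.prime_three⟩
  obtain ⟨e, hp, he⟩ := FiniteField.card F p
  have hspecial : ∀ X : Matrix (Fin 3) (Fin 3) F, X.det = 1 → (∃ z : F, X ^ 3 = z • 1) →
      (∀ c : F, X ≠ c • (1 : Matrix (Fin 3) (Fin 3) F)) →
      ∀ (μ : F) (v w : Fin 3 → F), v ≠ 0 → (∀ c : F, w ≠ c • v) → X *ᵥ v = μ • v → X *ᵥ w = μ • w →
      ¬ ∀ x : Matrix.SpecialLinearGroup (Fin 3) F,
      (∃ z : F, ((x ^ 3 : Matrix.SpecialLinearGroup (Fin 3) F) : Matrix (Fin 3) (Fin 3) F) = z • (1 : Matrix (Fin 3) (Fin 3) F)) →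
      (∀ z : F, (x : Matrix (Fin 3) (Fin 3) F) ≠ z • (1 : Matrix (Fin 3) (Fin 3) F)) →
      ∃ P : Matrix.SpecialLinearGroup (Fin 3) F, P⁻¹ * x * P ∈ ((Cfsg.Geo.subalgebraNormalizer K).comap (Matrix.SpecialLinearGroup.toGL : Matrix.SpecialLinearGroup (Fin 3) F →* GL (Fin 3) F)) := by
    rintro X hd ⟨z, hz⟩ hns μ v w hv hw hXv hXw hall
    exact SingerPrime.not_conj hK Nat.prime_three (x := ⟨X, hd⟩) hns hv hw hXv hXw
      (hall ⟨X, hd⟩ ⟨z, (Matrix.SpecialLinearGroup.coe_pow _ 3).trans hz⟩ hns)
  constructor
  · intro hall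
    by_contra hcon
    push Not at hcon
    by_cases h30 : (3 : F) = 0
    · -- characteristic three
      let X : Matrix (Fin 3) (Fin 3) F := Matrix.transvection 0 1 1
      refine hspecial X (Matrix.det_transvection_of_ne _ _ (by decide) _) ⟨1, ?_⟩ (fun c hc => ?_) 1
        (Pi.single 0 1) (Pi.single 2 1) (by simp) (fun c hc => ?_) ?_ ?_ hall
      · rw [one_smul, pow_succ, pow_two, Matrix.transvection_mul_transvection_same _ _ (by decide),
          Matrix.transvection_mul_transvection_same _ _ (by decide), show (1 : F) + 1 + 1 = 0 by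
            linear_combination h30, Matrix.transvection_zero]
      · have := congrFun (congrFun hc 0) 1
        simp [X, Matrix.transvection, Matrix.one_apply, Matrix.single_apply] at this
      · have := congrFun hc 2
        simp at this
      · funext j
        fin_cases j <;> simp [X, Matrix.transvection, Matrix.add_mulVec, Matrix.one_apply, Matrix.mulVec,
          Matrix.single_apply, dotProduct, Fin.sum_univ_three]
      · funext j
        fin_cases j <;> simp [X, Matrix.transvection, Matrix.add_mulVec, Matrix.one_apply, Matrix.mulVec,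
          Matrix.single_apply, dotProduct, Fin.sum_univ_three]
    have hq3 : ¬ 3 ∣ Fintype.card F := fun h => h30 (by
      rw [he] at h
      have h3 := (Nat.prime_dvd_prime_iff_eq Nat.prime_three hp).1 (Nat.prime_three.dvd_of_dvd_pow h)
      have h' := CharP.cast_eq_zero F p
      rw [← h3] at h'
      exact_mod_cast h')
    rcases (show Fintype.card F % 9 = 1 ∨ Fintype.card F % 9 = 2 ∨ Fintype.card F % 9 = 5 by omega) with h9 | h9
    · -- a ninth root of unity
      obtain ⟨g, hg⟩ := IsCyclic.exists_generator (α := Fˣ)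
      have hgo : orderOf g = Fintype.card F - 1 := by
        rw [orderOf_eq_card_of_forall_mem_zpowers hg, Nat.card_eq_fintype_card, Fintype.card_units]
      let ζ : Fˣ := g ^ ((Fintype.card F - 1) / 9)
      have h9d : 9 ∣ Fintype.card F - 1 := by omega
      have hζ : ζ ^ 9 = 1 := by
        rw [← pow_mul, Nat.div_mul_cancel h9d, ← hgo, pow_orderOf_eq_one]
      have hζ3 : (ζ : F) ^ 3 ≠ 1 := fun h => by
        have h' : g ^ ((Fintype.card F - 1) / 9 * 3) = 1 := by rw [pow_mul]; exact Units.ext (by simpa [ζ] using h)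
        have h2 := Nat.le_of_dvd (by have := Fintype.one_lt_card (α := F); omega) (orderOf_dvd_of_pow_eq_one h')
        rw [hgo] at h2
        have := Fintype.one_lt_card (α := F)
        omega
      have hζ9 : (ζ : F) ^ 9 = 1 := by rw [← Units.val_pow_eq_pow_val, hζ, Units.val_one]
      have hζ0 : (ζ : F) ≠ 0 := ζ.ne_zero
      let X : Matrix (Fin 3) (Fin 3) F := Matrix.diagonal ![(ζ : F), ζ, ((ζ : F) ^ 2)⁻¹]
      refine hspecial X ?_ ⟨(ζ : F) ^ 3, ?_⟩ (fun c hc => hζ3 ?_) (ζ : F) (Pi.single 0 1) (Pi.single 1 1) (by simp)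
        (fun c hc => ?_) ?_ ?_ hall
      · simp [X, Matrix.det_diagonal, Fin.prod_univ_three]
        field_simp
      · rw [Matrix.diagonal_pow, Matrix.smul_one_eq_diagonal]
        congr 1
        funext j
        fin_cases j <;> simp
        field_simp
        linear_combination -hζ9
      · have h0 := congrFun (congrFun hc 0) 0
        have h2 := congrFun (congrFun hc 2) 2
        simp [X] at h0 h2
        rw [← h0] at h2
        field_simp at h2
        linear_combination -h2
      · have := congrFun hc 1
        simp at this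
      · funext j
        fin_cases j <;> simp [X, Matrix.mulVec_diagonal]
      · funext j
        fin_cases j <;> simp [X, Matrix.mulVec_diagonal]
    · -- the index is prime to three
      set H := (Cfsg.Geo.subalgebraNormalizer K).comap
        (Matrix.SpecialLinearGroup.toGL : Matrix.SpecialLinearGroup (Fin 3) F →* GL (Fin 3) F)
      obtain ⟨y, hy, hy3, hys⟩ := SingerPrime.exists_frobenius hK Nat.prime_three
      have hyd : (y : Matrix (Fin 3) (Fin 3) F).det = 1 := by
        have h1 : (y : Matrix (Fin 3) (Fin 3) F).det ^ 3 = 1 := by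
          rw [← Matrix.det_pow, ← Units.val_pow_eq_pow_val, hy3, Units.val_one, Matrix.det_one]
        by_contra hne
        have hd0 : (y : Matrix (Fin 3) (Fin 3) F).det ≠ 0 := fun h => by simp [h] at h1
        have h2 := orderOf_dvd_of_pow_eq_one (FiniteField.pow_card_sub_one_eq_one _ hd0)
        rw [orderOf_eq_prime h1 hne] at h2
        omega
      let y' : Matrix.SpecialLinearGroup (Fin 3) F := ⟨(y : Matrix (Fin 3) (Fin 3) F), hyd⟩
      have hy' : Matrix.SpecialLinearGroup.toGL y' = y := Units.ext rfl
      have hmem : y' ∈ H := by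
        rw [Subgroup.mem_comap, hy']
        exact hy
      have hord : orderOf y' = 3 := by
        refine orderOf_eq_prime (Subtype.ext ?_) fun h => hys 1 ?_
        · rw [Matrix.SpecialLinearGroup.coe_pow]
          show (y : Matrix (Fin 3) (Fin 3) F) ^ 3 = 1
          rw [← Units.val_pow_eq_pow_val, hy3, Units.val_one]
        · rw [one_smul]
          exact congrArg Subtype.val h
      have h3H : 3 ∣ Nat.card H := by
        have h := Subgroup.orderOf_dvd_natCard H hmem
        rwa [hord] at h
      have h9 : 9 ∣ Nat.card (Matrix.SpecialLinearGroup (Fin 3) F) := by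
        rw [← Subgroup.card_mul_index H]
        exact Nat.mul_dvd_mul h3H hΩ
      -- the order of the special linear group
      have hker : (Matrix.SpecialLinearGroup.toGL : Matrix.SpecialLinearGroup (Fin 3) F →* GL (Fin 3) F).range =
          (Matrix.GeneralLinearGroup.det : GL (Fin 3) F →* Fˣ).ker := by
        ext g
        constructor
        · rintro ⟨s, rfl⟩
          exact Units.ext s.2
        · intro hg
          exact ⟨⟨(g : Matrix (Fin 3) (Fin 3) F), congrArg Units.val hg⟩, Units.ext rfl⟩
      have hsurj : Function.Surjective (Matrix.GeneralLinearGroup.det : GL (Fin 3) F →* Fˣ) := fun u =>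
        ⟨⟨Matrix.diagonal ![(u : F), 1, 1], Matrix.diagonal ![((u⁻¹ : Fˣ) : F), 1, 1], by
          rw [Matrix.diagonal_mul_diagonal, ← Matrix.diagonal_one]; congr 1; funext j; fin_cases j <;> simp, by
          rw [Matrix.diagonal_mul_diagonal, ← Matrix.diagonal_one]; congr 1; funext j; fin_cases j <;> simp⟩,
          Units.ext (by simp [Matrix.det_diagonal, Fin.prod_univ_three])⟩
      have hcard : Nat.card (Matrix.SpecialLinearGroup (Fin 3) F) * (Fintype.card F - 1) = Nat.card (GL (Fin 3) F) := by
        rw [Nat.card_congr (MonoidHom.ofInjective (f := (Matrix.SpecialLinearGroup.toGL :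
          Matrix.SpecialLinearGroup (Fin 3) F →* GL (Fin 3) F))
          fun a b h => Subtype.ext (congrArg Units.val h)).toEquiv, hker,
          ← Subgroup.card_mul_index (Matrix.GeneralLinearGroup.det : GL (Fin 3) F →* Fˣ).ker, Subgroup.index_ker,
          MonoidHom.range_eq_top.2 hsurj, Subgroup.card_top, Nat.card_eq_fintype_card (α := Fˣ), Fintype.card_units]
      have hcast := congrArg (fun a : ℕ => (a : ZMod 9)) hcard
      rw [Matrix.card_GL_field, Fin.prod_univ_three] at hcast
      have hq1 : 1 ≤ Fintype.card F := Fintype.card_pos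
      simp only [Fin.val_zero, Fin.val_one, Fin.val_two, Nat.cast_mul, (ZMod.natCast_eq_zero_iff _ 9).2 h9,
        zero_mul, Nat.cast_sub (Nat.pow_le_pow_right hq1 (show 0 ≤ 3 by omega)),
        Nat.cast_sub (Nat.pow_le_pow_right hq1 (show 1 ≤ 3 by omega)),
        Nat.cast_sub (Nat.pow_le_pow_right hq1 (show 2 ≤ 3 by omega)), Nat.cast_pow] at hcast
      have hmod : (Fintype.card F : ZMod 9) = ((Fintype.card F % 9 : ℕ) : ZMod 9) := (ZMod.natCast_mod _ 9).symm
      rw [hmod] at hcast
      rcases h9' : Fintype.card F % 9 with _ | m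
      · omega
      · rw [h9'] at hcast
        rcases (show m + 1 = 2 ∨ m + 1 = 5 by omega) with hm | hm <;> rw [hm] at hcast <;>
          revert hcast <;> decide
  · intro hmod x ⟨z, hz⟩ hns
    have hn0 : ((3 : ℕ) : F) ≠ 0 := fun h => by
      have h3 := (Nat.prime_dvd_prime_iff_eq hp Nat.prime_three).1 ((CharP.cast_eq_zero_iff F p 3).1 h)
      have : 3 ∣ Fintype.card F := by
        rw [he, h3]
        exact dvd_pow_self 3 e.ne_zero
      omega
    have hqord : orderOf (Fintype.card F : ZMod 3) = 1 ∨ orderOf (Fintype.card F : ZMod 3) = 3 - 1 := by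
      have hmod3 : (Fintype.card F : ZMod 3) = ((Fintype.card F % 3 : ℕ) : ZMod 3) := (ZMod.natCast_mod _ 3).symm
      rcases (show Fintype.card F % 3 = 1 ∨ Fintype.card F % 3 = 2 by omega) with h | h <;> rw [hmod3, h]
      · exact Or.inl (by simp)
      · exact Or.inr ord23
    rw [Matrix.SpecialLinearGroup.coe_pow] at hz
    set X := (x : Matrix (Fin 3) (Fin 3) F) with hX
    have hXd : X.det = 1 := x.2
    have hzc : z ^ 3 = 1 := by
      have h := congrArg Matrix.det hz
      rw [Matrix.det_pow, hXd, one_pow, Matrix.det_smul, Matrix.det_one, mul_one, Fintype.card_fin] at h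
      exact h.symm
    have hz1 : z = 1 := by
      by_contra hne
      have hz0 : z ≠ 0 := fun h => by simp [h] at hzc
      have h3q : 3 ∣ Fintype.card F - 1 :=
        orderOf_eq_prime hzc hne ▸ orderOf_dvd_of_pow_eq_one (FiniteField.pow_card_sub_one_eq_one z hz0)
      have hnc : ∀ b : F, b ^ 3 ≠ z := fun b hb => by
        have hb0 : b ≠ 0 := fun h => by simp [h] at hb; exact hz0 hb.symm
        have ho : orderOf b = 9 := by
          refine orderOf_eq_prime_pow (p := 3) (n := 1) ?_ ?_
          · rw [pow_one, hb]; exact hne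
          · rw [show (3 : ℕ) ^ (1 + 1) = 3 * 3 from rfl, pow_mul, hb, hzc]
        have h9 := orderOf_dvd_of_pow_eq_one (FiniteField.pow_card_sub_one_eq_one b hb0)
        rw [ho] at h9
        omega
      have hirr := X_pow_sub_C_irreducible_of_prime Nat.prime_three hnc
      have haev : Polynomial.aeval X (Polynomial.X ^ 3 - Polynomial.C z) = 0 := by
        simp [hz, Algebra.algebraMap_eq_smul_one]
      have hint : IsIntegral F X := Algebra.IsIntegral.isIntegral X
      have hmin : minpoly F X = Polynomial.X ^ 3 - Polynomial.C z :=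
        (minpoly.eq_of_irreducible_of_monic hirr haev (Polynomial.monic_X_pow_sub_C z (by omega))).symm
      have hchar : X.charpoly = minpoly F X := by
        refine (Polynomial.eq_of_monic_of_dvd_of_natDegree_le (minpoly.monic hint) X.charpoly_monic
          (Matrix.minpoly_dvd_charpoly X) ?_)
        rw [Matrix.charpoly_natDegree_eq_dim, hmin, Polynomial.natDegree_X_pow_sub_C, Fintype.card_fin]
      have hdet := Matrix.det_eq_sign_charpoly_coeff X
      rw [hXd, hchar, hmin, Fintype.card_fin] at hdet
      simp [Polynomial.coeff_X_pow] at hdet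
      exact hne (by linear_combination -hdet)
    rw [hz1, one_smul] at hz
    have hx1 : X ≠ 1 := fun h => hns 1 (by rw [one_smul]; exact h)
    refine SingerPrime.exists_conj_normalizer hK le_rfl hn0 hqord hz hx1 fun μ v w hv hxv hxw => ?_
    by_contra hcon
    push Not at hcon
    have hμ3 : μ ^ 3 = 1 := by
      have h : (X ^ 3) *ᵥ v = μ ^ 3 • v := by
        rw [pow_succ, pow_two, ← Matrix.mulVec_mulVec, ← Matrix.mulVec_mulVec, hxv, Matrix.mulVec_smul, hxv,
          Matrix.mulVec_smul, Matrix.mulVec_smul, hxv, smul_smul, smul_smul]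
        congr 1; ring
      rw [hz, Matrix.one_mulVec] at h
      obtain ⟨j, hj⟩ := Function.ne_iff.1 hv
      have h' := congrFun h j
      rw [Pi.smul_apply, smul_eq_mul] at h'
      exact (mul_eq_right₀ hj).1 h'.symm
    have hμ0 : μ ≠ 0 := fun h => by simp [h] at hμ3
    let L : Module.End F (Fin 3 → F) := Matrix.toLinAlgEquiv' (μ⁻¹ • X)
    have hLa : ∀ u, L u = μ⁻¹ • (X *ᵥ u) := fun u => Matrix.smul_mulVec μ⁻¹ X u
    have hL3 : L ^ 3 = 1 := by rw [← map_pow, smul_pow, hz, inv_pow, hμ3, inv_one, one_smul, map_one]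
    have hLd : LinearMap.det L = 1 := by
      show LinearMap.det (Matrix.toLin' (μ⁻¹ • X)) = 1
      rw [LinearMap.det_toLin', Matrix.det_smul, hXd, mul_one, Fintype.card_fin, inv_pow, hμ3, inv_one]
    obtain ⟨E, hc, -, hu, -⟩ := LinElusive.exists_structure hn0 hL3
    have hmem : ∀ u, X *ᵥ u = μ • u → u ∈ L.eigenspace 1 := fun u hu' => by
      rw [Module.End.mem_eigenspace_iff, hLa, hu', smul_smul, inv_mul_cancel₀ hμ0]
    have hC2 : 2 ≤ finrank F (L.eigenspace 1) := by
      have hli : LinearIndependent F ![v, w] := by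
        rw [LinearIndependent.pair_iff' hv]
        exact fun c hc' => hcon c hc'.symm
      have hle : Submodule.span F (Set.range ![v, w]) ≤ L.eigenspace 1 := by
        rw [Submodule.span_le]
        rintro _ ⟨j, rfl⟩
        fin_cases j
        · exact hmem v hxv
        · exact hmem w hxw
      have := Submodule.finrank_mono hle
      rwa [finrank_span_eq_card hli, Fintype.card_fin] at this
    have hdim := Submodule.finrank_add_eq_of_isCompl hc
    rw [finrank_fin_fun] at hdim
    have hE : E = ⊥ := by
      by_contra hne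
      have h1 : finrank F E = 1 := by
        have : finrank F E ≠ 0 := fun h => hne (Submodule.finrank_eq_zero.1 h)
        omega
      obtain ⟨u, huE, hu0⟩ := Submodule.exists_mem_ne_zero_of_ne_bot hne
      obtain ⟨a, ha⟩ : ∃ a : F, a • u = L u := by
        have hspan : Submodule.span F {u} = E :=
          Submodule.eq_of_le_of_finrank_le ((Submodule.span_singleton_le_iff_mem _ _).2 huE)
            (by rw [finrank_span_singleton hu0, h1])
        exact Submodule.mem_span_singleton.1 (hspan.symm ▸ hu.inv.mem huE)
      have hdet := SingerPrime.det_isCompl hc hu.inv (a := 1)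
        (fun u' hu' => Module.End.mem_eigenspace_iff.1 hu')
      rw [hLd, one_pow, one_mul, show (L.restrict fun _ h => hu.inv.mem h : Module.End F E) = a • LinearMap.id from
        LinearMap.ext fun w' => by
          obtain ⟨c, hc'⟩ : ∃ c : F, c • u = (w' : Fin 3 → F) := by
            have hspan : Submodule.span F {u} = E :=
              Submodule.eq_of_le_of_finrank_le ((Submodule.span_singleton_le_iff_mem _ _).2 huE)
                (by rw [finrank_span_singleton hu0, h1])
            exact Submodule.mem_span_singleton.1 (hspan.symm ▸ w'.2)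
          refine Subtype.ext ?_
          show L w' = a • (w' : Fin 3 → F)
          rw [← hc', map_smul, ← ha, smul_comm], LinearMap.det_smul, LinearMap.det_id, mul_one, h1, pow_one] at hdet
      refine hu0 (Submodule.disjoint_def.1 hc.disjoint u ?_ huE)
      rw [Module.End.mem_eigenspace_iff, ← ha, ← hdet]
    have htop : L.eigenspace 1 = ⊤ := by
      have := hc.sup_eq_top
      rwa [hE, sup_bot_eq] at this
    refine hns μ (Matrix.ext_of_mulVec_single fun j => ?_)
    have h : Pi.single j (1 : F) ∈ L.eigenspace 1 := htop ▸ Submodule.mem_top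
    rw [Module.End.mem_eigenspace_iff, one_smul, hLa, inv_smul_eq_iff₀ hμ0] at h
    rw [Matrix.smul_mulVec, Matrix.one_mulVec]
    exact h

end Cfsg.Agent.S5971
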