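import Cfsg.Statements.S5972
import Cfsg.Agent.Lib.Derangements.OrthInvariantWitness
import Cfsg.Agent.Lib.Derangements.OrthSingularCount
import Cfsg.Agent.Lib.Derangements.OrthNegation
-- import your own Cfsg.Agent.* helpers here

set_option autoImplicit false
open scoped MatrixGroups Matrix
open Cfsg

namespace Cfsg.Agent.S5972

open Module QuadraticMap CfsgLib.Classical CfsgLib.Derangements.LinElusive CfsgLib.Derangements.NullInv CfsgLib.Derangements.OrthInv
open CfsgLib.Orth (oddForm oddForm_apply oddForm_nondeg)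

variable {F : Type*} [Field F] [Fintype F] {d m r : ℕ}

theorem finrank_odd : finrank F (Unit ⊕ (Fin d ⊕ Fin d) → F) = 2 * d + 1 := by
  simp; ring

/-- An element of `Ω` of order `r` without fixed totally singular `m`-space refutes the property. -/
theorem refute {L : Module.End F (Unit ⊕ (Fin d ⊕ Fin d) → F)} {x : GL (Unit ⊕ (Fin d ⊕ Fin d)) F}
    (hx : x ∈ Cfsg.Geo.omegaGL (Cfsg.quadFormOdd d F)) (hxL : Matrix.toLin' (x : Matrix (Unit ⊕ (Fin d ⊕ Fin d)) (Unit ⊕ (Fin d ⊕ Fin d)) F) = L)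
    (hord : orderOf x = r)
    (hW : ∀ W, Inv L W → Sing (oddForm F d) W → finrank F W ≠ m) :
    ¬ ∀ x : GL (Unit ⊕ (Fin d ⊕ Fin d)) F, x ∈ Cfsg.Geo.omegaGL (Cfsg.quadFormOdd d F) → orderOf x = r →
      ∃ W : Submodule F (Unit ⊕ (Fin d ⊕ Fin d) → F), Module.finrank F ↥W = m ∧ (∀ w ∈ W, Cfsg.quadFormOdd d F w = 0) ∧
        W.map (Matrix.toLin' (x : Matrix (Unit ⊕ (Fin d ⊕ Fin d)) (Unit ⊕ (Fin d ⊕ Fin d)) F)) ≤ W := fun h => by
  obtain ⟨W, hWd, hWs, hWi⟩ := h x hx hord
  rw [hxL] at hWi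
  exact hW W hWi (fun w hw => (oddForm_apply d w).symm.trans (hWs w hw)) hWd

variable [Fact r.Prime]

/-- Witnesses from fixed point free isometries of even-dimensional forms. -/
theorem witness_odd (h2 : (2 : F) ≠ 0) (hr : (r : F) ≠ 0) (hr2 : Odd r) {W : Type*} [AddCommGroup W] [Module F W]
    [FiniteDimensional F W] {R : QuadraticForm F W} {Y : Module.End F W} (hR : (polarBilin R).Nondegenerate)
    (hY : Y ^ r = 1) (hfix : ∀ w, Y w = w → w = 0) (hRY : ∀ w, R (Y w) = R w) {e : ℕ} (hW : finrank F W = 2 * e)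
    (he : 0 < e) (hed : e ≤ d) {M : ℕ} (hM : ∀ U, Inv Y U → Sing R U → finrank F U ≤ M)
    (hcond : ∀ a c, a * orderOf (Fintype.card F : ZMod r) ≤ M → c + e ≤ d →
      a * orderOf (Fintype.card F : ZMod r) + c ≠ m) :
    ¬ ∀ x : GL (Unit ⊕ (Fin d ⊕ Fin d)) F, x ∈ Cfsg.Geo.omegaGL (Cfsg.quadFormOdd d F) → orderOf x = r →
      ∃ W : Submodule F (Unit ⊕ (Fin d ⊕ Fin d) → F), Module.finrank F ↥W = m ∧ (∀ w ∈ W, Cfsg.quadFormOdd d F w = 0) ∧
        W.map (Matrix.toLin' (x : Matrix (Unit ⊕ (Fin d ⊕ Fin d)) (Unit ⊕ (Fin d ⊕ Fin d)) F)) ≤ W := by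
  have hN : (polarBilin (oddForm F d)).Nondegenerate := oddForm_nondeg d h2
  obtain ⟨T, hT⟩ := exists_embed hN hR hW (by
    rw [finrank_odd]
    rcases Nat.lt_or_ge e d with h | h
    · left; omega
    · right; left; exact ⟨by omega, h2⟩)
  obtain ⟨L, hL, hQL, hne, hU⟩ := exists_witness hr hr2 hN hR T hT hY hfix hRY (by omega)
  obtain ⟨x, hx, hxL, -, hord, -⟩ := exists_omega (oddForm F d) (fun v => oddForm_apply d v) hN
    (CfsgLib.Orth.good_of_two_ne h2) hr2 hL hQL hne
  refine refute hx hxL hord fun U hUi hUs hUd => ?_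
  obtain ⟨a, c, U', hU'i, hU's, hU'd, hd', hc, -⟩ := hU U hUi hUs
  rw [finrank_odd, hW] at hc
  refine hcond a c ?_ (by omega) (by rw [← hd', hUd])
  rw [← hU'd]
  exact hM U' hU'i hU's

theorem exists_inv_two (h2 : (2 : F) ≠ 0) (hmd : m ≤ d) (hcase : m < d ∨ Fintype.card F % 4 = 1)
    {x : GL (Unit ⊕ (Fin d ⊕ Fin d)) F} (hx : x ∈ Cfsg.Geo.omegaGL (Cfsg.quadFormOdd d F)) (hord : orderOf x = 2) :
    ∃ W : Submodule F (Unit ⊕ (Fin d ⊕ Fin d) → F), finrank F W = m ∧ Sing (oddForm F d) W ∧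
      Inv (Matrix.toLin' (x : Matrix (Unit ⊕ (Fin d ⊕ Fin d)) (Unit ⊕ (Fin d ⊕ Fin d)) F)) W := by
  have hN : (polarBilin (oddForm F d)).Nondegenerate := oddForm_nondeg d h2
  set L := Matrix.toLin' (x : Matrix (Unit ⊕ (Fin d ⊕ Fin d)) (Unit ⊕ (Fin d ⊕ Fin d)) F) with hLdef
  have hinv : ∀ v, L (L v) = v := fun v => by
    have h1 : x * x = 1 := by rw [← pow_two, ← hord, pow_orderOf_eq_one]
    rw [hLdef, Matrix.toLin'_apply, Matrix.toLin'_apply, Matrix.mulVec_mulVec, ← Units.val_mul, h1, Units.val_one,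
      Matrix.one_mulVec]
  obtain ⟨hc, horth, hEn, hCn⟩ := involution_facts hN h2 (isometry_omega _ (fun v => oddForm_apply d v) hx) hinv
  obtain ⟨e, he, htype⟩ := omega_involution _ (fun v => oddForm_apply d v) hN h2 hx hinv
  rw [← hLdef] at he htype hc horth hEn hCn
  have hdim := Submodule.finrank_add_eq_of_isCompl hc
  rw [finrank_odd, he] at hdim
  have hodd : Odd (finrank F (Module.End.eigenspace L (1 : F))) := Nat.odd_iff.2 (by omega)
  have hsplit : ∃ a b, a + b = m ∧ 2 * b ≤ finrank F (Module.End.eigenspace L (1 : F)) ∧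
      ∃ U ≤ Module.End.eigenspace L (-1 : F), Sing (oddForm F d) U ∧ finrank F U = a := by
    by_cases hp : PlusOn (oddForm F d) (Module.End.eigenspace L (-1 : F))
    · exact ⟨min m e, m - min m e, by omega, by omega,
        exists_sing_sub hEn (by omega) (Or.inr (Or.inr hp))⟩
    · have hm : m < d := hcase.resolve_right fun hq => hp <| htype.2 <|
        (FiniteField.isSquare_neg_one_iff.2 (by omega)).pow e
      rcases Nat.eq_zero_or_pos e with rfl | he0
      · exact absurd ⟨⊥, bot_le, sing_bot, by rw [finrank_bot, he]⟩ hp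
      exact ⟨min m (e - 1), m - min m (e - 1), by omega, by omega,
        exists_sing_sub hEn (by omega) (Or.inl (by omega))⟩
  obtain ⟨a, b, hab, hb, U₁, hU₁, hU₁s, hU₁d⟩ := hsplit
  obtain ⟨U₂, hU₂, hU₂s, hU₂d⟩ := exists_sing_sub hCn hb (Or.inr (Or.inl hodd))
  refine ⟨U₁ ⊔ U₂, ?_, hU₁s.sup hU₂s fun u hu w hw => horth u (hU₁ hu) w (hU₂ hw), Inv.sup ?_ ?_⟩
  · rw [finrank_sup_of_disjoint (hc.disjoint.mono hU₁ hU₂), hU₁d, hU₂d, hab]
  · exact Inv.of_mem fun u hu => by
      have := hU₁ hu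
      rw [Module.End.mem_eigenspace_iff, neg_one_smul] at this
      rw [this]; exact U₁.neg_mem hu
  · exact Inv.of_mem fun u hu => by
      have := hU₂ hu
      rw [Module.End.mem_eigenspace_iff, one_smul] at this
      rwa [this]

theorem witness_two (h2 : (2 : F) ≠ 0) (hd : 1 ≤ d) (hm : m = d) (hq : Fintype.card F % 4 = 3) :
    ¬ ∀ x : GL (Unit ⊕ (Fin d ⊕ Fin d)) F, x ∈ Cfsg.Geo.omegaGL (Cfsg.quadFormOdd d F) → orderOf x = 2 →
      ∃ W : Submodule F (Unit ⊕ (Fin d ⊕ Fin d) → F), Module.finrank F ↥W = m ∧ (∀ w ∈ W, Cfsg.quadFormOdd d F w = 0) ∧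
        W.map (Matrix.toLin' (x : Matrix (Unit ⊕ (Fin d ⊕ Fin d)) (Unit ⊕ (Fin d ⊕ Fin d)) F)) ≤ W := by
  have hN : (polarBilin (oddForm F d)).Nondegenerate := oddForm_nondeg d h2
  have hsq : ¬ IsSquare (-1 : F) := fun h => FiniteField.isSquare_neg_one_iff.1 h hq
  have hab : ∀ z₁ z₂ : F, z₁ ^ 2 + 0 * z₁ * z₂ + 1 * z₂ ^ 2 = 0 → z₁ = 0 ∧ z₂ = 0 := fun z₁ z₂ h => by
    by_cases hz : z₂ = 0
    · subst hz; simpa using h
    · exact absurd ⟨z₁ / z₂, by field_simp; linear_combination -h⟩ hsq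
  have hR := CfsgLib.Orth.minusForm_nondeg 0 (0 : F) 1 hab
  obtain ⟨T, hT⟩ := exists_embed hN hR (e := 1) (by simp) (by
    rw [finrank_odd]
    rcases Nat.lt_or_ge 1 d with h | h
    · left; omega
    · right; left; exact ⟨by omega, h2⟩)
  obtain ⟨hXn, hXd, hXp⟩ := range_facts hR T hT
  have hXdim : finrank F (LinearMap.range T) = 2 := hXd.trans (by simp)
  have haniso : ∀ v ∈ LinearMap.range T, oddForm F d v = 0 → v = 0 := by
    rintro _ ⟨w, rfl⟩ h
    rw [hT, ← CfsgLib.Orth.minusForm_apply] at h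
    simp only [Cfsg.quadFormMinus, Finset.univ_eq_empty, Finset.sum_empty, zero_add] at h
    obtain ⟨h1, h2'⟩ := hab _ _ h
    have : w = 0 := funext fun s => by
      rcases s with (s | s) | s
      · exact s.elim0
      · exact s.elim0
      · fin_cases s <;> assumption
    rw [this, map_zero]
  obtain ⟨x, hx, hinv, hxX, hxC⟩ := exists_omega_involution (oddForm F d) (fun v => oddForm_apply d v) hN h2 hXn
    (e := 1) hXdim (iff_of_false (fun ⟨U, hU, hUs, hUd⟩ => by
      have : U = ⊥ := (Submodule.eq_bot_iff U).2 fun u hu => haniso u (hU hu) (hUs u hu)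
      rw [this, finrank_bot, hXdim] at hUd
      omega) (by rwa [pow_one]))
  set L := Matrix.toLin' (x : Matrix (Unit ⊕ (Fin d ⊕ Fin d)) (Unit ⊕ (Fin d ⊕ Fin d)) F) with hLdef
  refine refute (r := 2) (L := L) hx rfl (orderOf_eq_prime ?_ fun h1 => ?_) fun W hW hWs hWd => ?_
  · rw [pow_two]
    refine Units.ext (Matrix.ext_of_mulVec_single fun i => ?_)
    have := hinv (Pi.single i 1)
    rw [Matrix.toLin'_apply, Matrix.toLin'_apply, Matrix.mulVec_mulVec] at this
    rw [Units.val_mul, this, Units.val_one, Matrix.one_mulVec]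
  · obtain ⟨v, hv, hv0⟩ := Submodule.exists_mem_ne_zero_of_ne_bot (p := LinearMap.range T) fun h0 => by
      rw [h0, finrank_bot] at hXdim; omega
    have := hxX v hv
    rw [hLdef, h1, Units.val_one, Matrix.toLin'_one, LinearMap.id_apply, eq_neg_iff_add_eq_zero, ← two_smul F] at this
    exact hv0 ((smul_eq_zero.1 this).resolve_left h2)
  · have hle : W ≤ perp (polarBilin (oddForm F d)) (LinearMap.range T) := fun w hw => by
      obtain ⟨a, ha, c, hc, rfl⟩ := Submodule.mem_sup.1 (hXn.isCompl.sup_eq_top ▸ Submodule.mem_top (x := w))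
      have h1 : L (a + c) = -a + c := by rw [map_add, hLdef, hxX a ha, hxC c hc]
      have h2a : (2 : F) • a ∈ W := by
        have h3 := W.sub_mem hw (hW.mem hw)
        rwa [h1, show a + c - (-a + c) = (2 : F) • a by rw [two_smul]; abel] at h3
      have h4 : (2 : F) • a = 0 := haniso _ (Submodule.smul_mem _ _ ha) (hWs _ h2a)
      rw [(smul_eq_zero.1 h4).resolve_left h2, zero_add]
      exact hc
    have h5 := sing_le_half (nondegOn_perp hN.2 hXn) hle hWs
    have h6 := hXn.finrank_perp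
    rw [finrank_odd, hXdim] at h6
    omega

/-- Elements of prime order of Ω_n(q), n = 2d+1 ≥ 7, q odd, with no fixed totally singular `m`-space. Here `T = Ω_n(q)` is realised as the commutator subgroup of the isometry group of the quadratic form `x₀² + Σ xᵢyᵢ` over the field `F` with `q` elements (it has trivial centre, so its elements of prime order `r` are used directly); let `1 ≤ m ≤ d` and let `r` be a prime dividing the number of totally singular `m`-spaces. For `r ≠ p` let `i` be the multiplicative order of `q` modulo `r`, `c = i` for `i` even and `c = 2i` for `i` odd, and write `k = n mod c`, `ℓ = m mod i`, `n' = ⌊n/i⌋`, `m' = ⌊m/i⌋`, `t = (r−1)/i`. Then every element of `T` of order `r` fixes some totally singular `m`-space if and only if either (i) `r = 2` and (`m < (n−1)/2` or `q ≡ 1 (mod 4)`); or (ii) `r ≠ p` is odd, `i ≤ m`, `k > 2ℓ`, and (`i` is odd or `n' − 2m' ≥ t`). -/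
theorem result {F : Type*} [Field F] [Fintype F] {p : ℕ} [Fact p.Prime] [CharP F p] {q : ℕ} (hq : Fintype.card F = q) (hqodd : Odd q)
    (d m : ℕ) (hd : 3 ≤ d) (hm : 1 ≤ m) (hmd : m ≤ d)
    (r : ℕ) [Fact r.Prime]
    (hrΩ : r ∣ Nat.card {W : Submodule F (Unit ⊕ (Fin d ⊕ Fin d) → F) // Module.finrank F ↥W = m ∧ (∀ w ∈ W, Cfsg.quadFormOdd d F w = 0)})
    (i c : ℕ) (hi : i = orderOf (q : ZMod r)) (hc : c = if Even i then i else 2 * i) :
    (∀ x : GL (Unit ⊕ (Fin d ⊕ Fin d)) F, x ∈ Cfsg.Geo.omegaGL (Cfsg.quadFormOdd d F) → orderOf x = r →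
      ∃ W : Submodule F (Unit ⊕ (Fin d ⊕ Fin d) → F), Module.finrank F ↥W = m ∧ (∀ w ∈ W, Cfsg.quadFormOdd d F w = 0) ∧
        W.map (Matrix.toLin' (x : Matrix (Unit ⊕ (Fin d ⊕ Fin d)) (Unit ⊕ (Fin d ⊕ Fin d)) F)) ≤ W) ↔
    ((r = 2 ∧ (m < d ∨ q % 4 = 1)) ∨
     (r ≠ p ∧ 2 < r ∧ i ≤ m ∧ 2 * (m % i) < (2 * d + 1) % c ∧ (Odd i ∨ (r - 1) / i + 2 * (m / i) ≤ (2 * d + 1) / i))) := by
  classical
  obtain rfl := hq
  obtain rfl := hi
  set i := orderOf (Fintype.card F : ZMod r) with hi
  have hrp : r.Prime := Fact.out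
  have h2 : (2 : F) ≠ 0 := Ring.two_ne_zero fun h => by
    have h3 := FiniteField.even_card_iff_char_two.1 h
    have h4 := Nat.odd_iff.1 hqodd
    omega
  have hN : (polarBilin (oddForm F d)).Nondegenerate := oddForm_nondeg d h2
  obtain ⟨j, hjm, hj⟩ := exists_dvd_odd (Q := oddForm F d) hN finrank_odd hmd (by simpa only [oddForm_apply] using hrΩ)
  have hj0 : 0 < 2 * (d - j) := by omega
  have hrne : r ≠ p := fun h => by
    obtain ⟨k, -, hk⟩ := FiniteField.card F p
    have h3 : r ∣ Fintype.card F ^ (2 * (d - j)) := by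
      rw [h, hk, ← pow_mul]
      exact dvd_pow_self p (Nat.mul_ne_zero k.ne_zero (by omega))
    have h4 := Nat.dvd_sub h3 hj
    rw [Nat.sub_sub_self (Nat.one_le_pow _ _ Fintype.card_pos)] at h4
    exact hrp.not_dvd_one h4
  have hr : (r : F) ≠ 0 := fun h => hrne
    ((Nat.prime_dvd_prime_iff_eq Fact.out hrp).1 ((CharP.cast_eq_zero_iff F p r).1 h)).symm
  have hij : i ∣ 2 * (d - j) := by
    refine orderOf_dvd_of_pow_eq_one ?_
    have h1 : ((Fintype.card F ^ (2 * (d - j)) - 1 : ℕ) : ZMod r) = 0 := (ZMod.natCast_eq_zero_iff _ _).2 hj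
    rw [Nat.cast_sub (Nat.one_le_pow _ _ Fintype.card_pos), sub_eq_zero] at h1
    simpa using h1
  have hipos : 0 < i := Nat.pos_of_ne_zero fun h0 => by rw [h0, zero_dvd_iff] at hij; omega
  have hir : i ∣ r - 1 := orderOf_dvd_of_pow_eq_one (ZMod.pow_card_sub_one_eq_one (orderOf_card_pos hr))
  obtain ⟨h, hh, hdh⟩ : ∃ h, 0 < h ∧ i = if Even i then 2 * h else h := by
    by_cases he : Even i
    · obtain ⟨e, he'⟩ := he
      exact ⟨e, by omega, by rw [if_pos ⟨e, he'⟩]; omega⟩
    · exact ⟨i, hipos, by rw [if_neg he]⟩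
  have hc2 : c = 2 * h := by
    rw [hc]
    split_ifs at hdh ⊢ <;> omega
  have hk1 : (2 * d + 1) % c = 2 * (d % h) + 1 := by
    rw [hc2, Nat.mod_mul, Nat.mul_add_mod]
    have : (2 * d + 1) / 2 = d := by omega
    rw [this]
    ring
  have hk2 : (2 * d) % c = 2 * (d % h) := by rw [hc2, Nat.mul_mod_mul_left]
  constructor
  · intro hall
    by_contra hcon
    rcases hrp.eq_two_or_odd' with hr2 | hr2
    · subst hr2
      refine witness_two h2 (by omega) ?_ ?_ hall
      · by_contra hne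
        exact hcon (Or.inl ⟨rfl, Or.inl (by omega)⟩)
      · have h1 : Fintype.card F % 4 ≠ 1 := fun h => hcon (Or.inl ⟨rfl, Or.inr h⟩)
        have := Nat.odd_iff.1 hqodd
        omega
    have hr3 : 2 < r := by have := hrp.two_le; have := Nat.odd_iff.1 hr2; omega
    have hcon' : ¬ (i ≤ m ∧ m % i ≤ d % h ∧ (Odd i ∨ (r - 1) / i + 2 * (m / i) ≤ (2 * d + 1) / i)) :=
      fun h' => hcon (Or.inr ⟨hrne, hr3, h'.1, by omega, h'.2.2⟩)
    have hdj : h ∣ d - j := by
      split_ifs at hdh with he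
      · rw [hdh] at hij
        exact (Nat.mul_dvd_mul_iff_left two_pos).1 hij
      · rw [hdh] at hij he
        exact (Nat.coprime_two_right.2 (Nat.not_even_iff_odd.1 he)).dvd_of_dvd_mul_left hij
    have hhd : h ≤ d := (Nat.le_of_dvd (by omega) hdj).trans (Nat.sub_le _ _)
    have hlm : d % h < m := by
      obtain ⟨e, he⟩ := hdj
      have : d = j + h * e := by omega
      rw [this, Nat.add_mul_mod_self_left]
      exact lt_of_le_of_lt (Nat.mod_le _ _) hjm
    have hdm := Nat.div_add_mod d h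
    have hn0 : 0 < d / h := Nat.div_pos hhd hh
    by_cases hfit : i ≤ m ∧ m % i ≤ d % h
    · have hev : Even i := Nat.not_odd_iff_even.1 fun ho => hcon' ⟨hfit.1, hfit.2, Or.inl ho⟩
      rw [if_pos hev] at hdh
      have hbad : ¬ (r - 1) / i + 2 * (m / i) ≤ (2 * d + 1) / i := fun h' => hcon' ⟨hfit.1, hfit.2, Or.inr h'⟩
      rw [show (2 * d + 1) / i = d / h by rw [hdh, ← Nat.div_div_eq_div_mul]; congr 1; omega] at hbad
      obtain ⟨S, hScard, -, hS⟩ := exists_factors (F := F) (r := r) hr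
      simp only [← hi] at hScard
      rw [show (r - 1) / i = S.card by rw [← hScard, Nat.mul_div_cancel _ hipos]] at hbad
      set k := min (d / h) S.card with hk
      have hkpos : 0 < k := lt_min hn0 (Nat.pos_of_ne_zero fun h0 => by
        rw [h0, zero_mul] at hScard
        omega)
      let f : Fin k → Polynomial F := fun a => (S.equivFin.symm (Fin.castLE (min_le_right _ _) a)).1
      have hfinj : Function.Injective f :=
        Subtype.val_injective.comp (S.equivFin.symm.injective.comp (Fin.castLE_injective _))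
      have hT : ∀ S' : Finset (Polynomial F), ∑ g ∈ S', Nat.card {a // f a = g} / 2 ≤ 0 := fun S' =>
        le_of_eq (Finset.sum_eq_zero fun g _ => by
          have hs : Subsingleton {a // f a = g} := ⟨fun a b => Subtype.ext (hfinj (a.2.trans b.2.symm))⟩
          have := Finite.card_le_one_iff_subsingleton.2 hs
          omega)
      have hfS : ∀ a, f a ∈ S := fun a => (S.equivFin.symm _).2
      obtain ⟨R, Y, hR, hY, hfix, hRY, hM⟩ := exists_typed_form (T := 0) hr hr2 hh (hi.symm.trans hdh) f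
        (fun a => (hS _ (hfS a)).1) (fun a => (hS _ (hfS a)).2.1) (fun a => (hS _ (hfS a)).2.2.2) hT
      refine witness_odd (m := m) h2 hr hr2 hR hY hfix hRY (e := k * h) (by simp [two_mul]) (Nat.mul_pos hkpos hh)
        ((Nat.mul_le_mul_right h (min_le_left _ _)).trans (Nat.div_mul_le_self d h)) hM ?_ hall
      rw [← hi]
      intro a c' ha hcd
      have hai : a * i = 0 := by omega
      rw [hai, zero_add]
      intro hcm
      subst hcm
      have hm := Nat.div_add_mod c' (2 * h)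
      rw [← hdh] at hm
      have := Nat.mod_lt d hh
      have := hfit.1
      rcases Nat.le_total (d / h) S.card with hle | hle
      · rw [hk, min_eq_left hle, mul_comm] at hcd
        omega
      · rw [hk, min_eq_right hle] at hcd
        have h3 : (d / h + 1) * h ≤ (S.card + 2 * (c' / i)) * h := Nat.mul_le_mul_right h (by omega)
        rw [add_mul, add_mul, one_mul, mul_comm (d / h) h,
          show 2 * (c' / i) * h = i * (c' / i) by rw [hdh]; ring] at h3
        omega
    · obtain ⟨R, Y, hR, hY, hfix, hRY⟩ := exists_fpf_form (F := F) hr hr2 (d := h * (d / h)) (Nat.mul_pos hh hn0) (by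
        rw [← hi, hdh, ← mul_assoc]
        split_ifs
        · exact dvd_mul_right _ _
        · exact dvd_mul_of_dvd_left (dvd_mul_left _ _) _)
      refine witness_odd (m := m) h2 hr hr2 hR hY hfix hRY (e := h * (d / h)) (by simp [two_mul])
        (Nat.mul_pos hh hn0) (by omega) (M := 2 * (h * (d / h)))
        (fun U _ _ => (Submodule.finrank_le U).trans_eq (by simp [two_mul])) ?_ hall
      rw [← hi]
      intro a c' _ hcd hsum
      rcases Nat.eq_zero_or_pos a with rfl | ha
      · omega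
      · have h1 := Nat.le_mul_of_pos_left i ha
        have h3 : c' % i = m % i := by rw [← hsum, add_comm, Nat.add_mul_mod_self_right]
        have := Nat.mod_le c' i
        omega
  · rintro (⟨rfl, hcase⟩ | ⟨-, hr3, -, hmod, hcnt⟩) x hx hord
    · obtain ⟨W, hWd, hWs, hWi⟩ := exists_inv_two h2 hmd hcase hx hord
      exact ⟨W, hWd, fun w hw => (oddForm_apply d w).trans (hWs w hw), hWi⟩
    have hr2 : Odd r := hrp.odd_of_ne_two (by omega)
    have hL : Matrix.toLin' (x : Matrix (Unit ⊕ (Fin d ⊕ Fin d)) (Unit ⊕ (Fin d ⊕ Fin d)) F) ^ r =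
        (1 : Module.End F (Unit ⊕ (Fin d ⊕ Fin d) → F)) := by
      change Matrix.toLinAlgEquiv' (x : Matrix (Unit ⊕ (Fin d ⊕ Fin d)) (Unit ⊕ (Fin d ⊕ Fin d)) F) ^ r = 1
      rw [← map_pow, ← Units.val_pow_eq_pow_val, ← hord, pow_orderOf_eq_one, Units.val_one, map_one]
    obtain ⟨W, hWd, hWs, hWi⟩ := exists_sing_invariant (m := m) hr hr2 hN
      (isometry_omega (oddForm F d) (fun v => oddForm_apply d v) hx) hL fun E N T hcE _ _ hCn hEe hNE hT _ => by
        have hdim := Submodule.finrank_add_eq_of_isCompl hcE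
        rw [finrank_odd, hNE] at hdim
        rw [← hi] at hT hNE hdim ⊢
        rw [hNE] at hEe
        have hEe' := Nat.even_iff.1 hEe
        obtain ⟨a, ha1, ha2, ha3⟩ := arith_half (d := d) hipos (show N * i ≤ 2 * d by omega) hEe hT
          (fun ho => if_neg (Nat.not_even_iff_odd.2 ho)) hmd (by rw [← hc]; omega) (by
            rcases hcnt with ho | hcnt
            · exact Or.inl ho
            by_cases he : Even i
            · right
              rw [if_pos he]
              have h4 := Nat.mul_le_mul_right i hcnt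
              rw [add_mul, Nat.div_mul_cancel hir] at h4
              refine h4.trans (Nat.mul_le_mul_right i (le_of_eq ?_))
              obtain ⟨e, he'⟩ := he
              rw [show i = 2 * e by omega, ← Nat.div_div_eq_div_mul, ← Nat.div_div_eq_div_mul]
              congr 1
              omega
            · exact Or.inl (Nat.not_even_iff_odd.1 he))
        exact ⟨a, ha1, ha2, exists_sing_sub hCn (by omega) (Or.inr (Or.inl (Nat.odd_iff.2 (by omega))))⟩
    exact ⟨W, hWd, fun w hw => (oddForm_apply d w).trans (hWs w hw), hWi⟩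

end Cfsg.Agent.S5972
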