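import Cfsg.Statements.S5973
import Cfsg.Agent.Lib.Derangements.OrthSingularElusive
-- import your own Cfsg.Agent.* helpers here

set_option autoImplicit false
open scoped MatrixGroups
open Cfsg

namespace Cfsg.Agent.S5973

/-- Elements of prime order of PΩ⁺_n(q), n = 2d ≥ 8, with no fixed totally singular `m`-space, `m < n/2`. Here `T = PΩ⁺_n(q)` is realised through `Ω⁺_n(q)`, the commutator subgroup of the isometry group of the quadratic form `Σ xᵢyᵢ` over the field `F` with `q` elements; an element of `T` of prime order `r` is an element `x` of `Ω⁺_n(q)` with `x^r` scalar and `x` not scalar. Let `1 ≤ m < d` and let `r` be a prime dividing the number of totally singular `m`-spaces. For `r ≠ p` let `i` be the multiplicative order of `q` modulo `r`, `c = i` for `i` even and `c = 2i` for `i` odd, and write `k = n mod c`, `ℓ = m mod i`, `n' = ⌊n/i⌋`, `m' = ⌊m/i⌋`, `t = (r−1)/i`. Then every element of `T` of order `r` fixes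 some totally singular `m`-space if and only if one of: (i) `r = 2 ≠ p` and either `q ≡ 1 (mod 4)`, or `q ≡ 3 (mod 4)`, `m ≤ n/2 − 2` and (`m` even or `n ≡ 2 (mod 4)`); (ii) `r ≠ p` odd, `i` odd, `i ≤ m` and `k ≥ 2ℓ`; (iii) `r ≠ p` odd, `i` even, `i ≤ m`, `n' − 2m' ≥ t`, and one of: `i ≥ 2ℓ`, `k = 0`, `n/i` odd and `n' − 2m' > t`; or `k ≥ 2ℓ` and `n'` even; or `k > 2ℓ` and `n'` odd. -/
theorem result {F : Type*} [Field F] [Fintype F] {p : ℕ} [Fact p.Prime] [CharP F p] {q : ℕ} (hq : Fintype.card F = q)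
    (d m : ℕ) (hd : 4 ≤ d) (hm : 1 ≤ m) (hmd : m < d)
    (r : ℕ) [Fact r.Prime]
    (hrΩ : r ∣ Nat.card {W : Submodule F (Fin d ⊕ Fin d → F) // Module.finrank F ↥W = m ∧ (∀ w ∈ W, Cfsg.quadFormPlus d F w = 0)})
    (i c : ℕ) (hi : i = orderOf (q : ZMod r)) (hc : c = if Even i then i else 2 * i) :
    (∀ x : GL (Fin d ⊕ Fin d) F, x ∈ Cfsg.Geo.omegaGL (Cfsg.quadFormPlus d F) →
      (∃ z : F, ((x ^ r : GL (Fin d ⊕ Fin d) F) : Matrix (Fin d ⊕ Fin d) (Fin d ⊕ Fin d) F) = z • (1 : Matrix (Fin d ⊕ Fin d) (Fin d ⊕ Fin d) F)) →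
      (∀ z : F, (x : Matrix (Fin d ⊕ Fin d) (Fin d ⊕ Fin d) F) ≠ z • (1 : Matrix (Fin d ⊕ Fin d) (Fin d ⊕ Fin d) F)) →
      ∃ W : Submodule F (Fin d ⊕ Fin d → F), Module.finrank F ↥W = m ∧ (∀ w ∈ W, Cfsg.quadFormPlus d F w = 0) ∧
        W.map (Matrix.toLin' (x : Matrix (Fin d ⊕ Fin d) (Fin d ⊕ Fin d) F)) ≤ W) ↔
    ((r = 2 ∧ p ≠ 2 ∧ (q % 4 = 1 ∨ (q % 4 = 3 ∧ m + 2 ≤ d ∧ (Even m ∨ (2 * d) % 4 = 2)))) ∨
     (r ≠ p ∧ 2 < r ∧ Odd i ∧ i ≤ m ∧ 2 * (m % i) ≤ (2 * d) % c) ∨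
     (r ≠ p ∧ 2 < r ∧ Even i ∧ i ≤ m ∧ (r - 1) / i + 2 * (m / i) ≤ (2 * d) / i ∧
       ((2 * (m % i) ≤ i ∧ (2 * d) % c = 0 ∧ Odd ((2 * d) / i) ∧ (r - 1) / i + 2 * (m / i) < (2 * d) / i) ∨
        (2 * (m % i) ≤ (2 * d) % c ∧ Even ((2 * d) / i)) ∨
        (2 * (m % i) < (2 * d) % c ∧ Odd ((2 * d) / i))))) := by
  classical
  obtain rfl := hq
  obtain rfl := hi
  set i := orderOf (Fintype.card F : ZMod r) with hi
  have hP := CfsgLib.Orth.plusForm_nondeg (F := F) d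
  have hd' : Module.finrank F (Fin d ⊕ Fin d → F) = 2 * d := by simp [two_mul]
  have hs : CfsgLib.Derangements.OrthInv.PlusOn (CfsgLib.Orth.plusForm F d) ⊤ ↔ (0 : ℕ) = 0 :=
    iff_of_true ((CfsgLib.Derangements.OrthInv.plusOn_top_iff hd').2 (CfsgLib.Derangements.EvenForms.plus_plusForm d)) rfl
  have h := CfsgLib.Derangements.OrthInv.fixes_iff (p := p) (r := r) (m := m) (CfsgLib.Orth.plusForm F d)
    (fun v => CfsgLib.Orth.plusForm_apply d v) hP (CfsgLib.Orth.good_of (Or.inr (by omega))) hd' (by omega)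
    (by omega) hs (Nat.zero_le 1) hrΩ
  refine h.trans (or_congr ?_ ?_)
  · refine and_congr_right fun hr => and_congr_right fun hp2 => ?_
    have hodd : Fintype.card F % 2 = 1 := FiniteField.odd_card_of_char_ne_two (by rwa [ringChar.eq F p])
    simp only [CfsgLib.Derangements.OrthInv.BadTwo, true_iff, true_and, Nat.odd_iff, Nat.even_iff]
    omega
  rw [← and_or_left, ← and_or_left]
  refine and_congr_right fun _ => and_congr_right fun hr3 => ?_
  rw [← hi]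
  simp only [CfsgLib.Derangements.OrthInv.GoodOdd, add_zero, true_and, Nat.zero_ne_one, false_and, or_false]
  refine or_congr (and_congr_right fun ho => and_congr_right fun _ => ?_)
    (and_congr_right fun he => and_congr_right fun _ => ?_)
  · rw [hc, if_neg (Nat.not_even_iff_odd.2 ho), Nat.mul_mod_mul_left]
    omega
  · obtain ⟨h, hh⟩ := he
    rw [hc, if_pos ⟨h, hh⟩, show i = 2 * h by omega, Nat.mul_mod_mul_left, Nat.mul_div_mul_left _ _ two_pos,
      Nat.mul_div_cancel_left _ two_pos]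
    simp only [Nat.odd_iff, Nat.even_iff]
    omega

end Cfsg.Agent.S5973
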