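import Cfsg.Statements.S5975
import Cfsg.Agent.S5976
-- import your own Cfsg.Agent.* helpers here

set_option autoImplicit false
open scoped MatrixGroups
open scoped Matrix
open Cfsg

set_option linter.unusedSectionVars false

namespace Cfsg.Agent.S5975

open Module Matrix CfsgLib.Classical

section Sym

variable {F : Type*} [Field F] [Fintype F] {V : Type*} [AddCommGroup V] [Module F V] [FiniteDimensional F V]
  {B : V →ₗ[F] V →ₗ[F] F}

/-- The moved space of an isometry of prime order. -/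
theorem range_facts (hA : B.IsAlt) (hN : B.Nondegenerate) {r : ℕ} [Fact r.Prime] (hr0 : (r : F) ≠ 0)
    (g : isomGroup B) (hg : g ^ r = 1) (hg1 : g ≠ 1) :
    NondegOn B (LinearMap.range ((g.1 : V →ₗ[F] V) - LinearMap.id)) ∧
      ∃ e, finrank F (LinearMap.range ((g.1 : V →ₗ[F] V) - LinearMap.id)) = 2 * e ∧
        (r ∣ Fintype.card F ∨ ∃ i < e, r ∣ Fintype.card F ^ (2 * (i + 1)) - 1) := by
  set N := (g.1 : V →ₗ[F] V) - LinearMap.id with hN'
  have hNa : ∀ x, N x = g.1 x - x := fun x => rfl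
  set K0 := LinearMap.ker N
  set R := LinearMap.range N
  have hfix : ∀ x ∈ K0, g.1 x = x := fun x hx => sub_eq_zero.1 ((hNa x).symm.trans (LinearMap.mem_ker.1 hx))
  have ho : ∀ x ∈ K0, ∀ y ∈ R, B x y = 0 := by
    rintro x hx _ ⟨u, rfl⟩
    rw [hNa, map_sub, sub_eq_zero]
    calc B x (g.1 u) = B (g.1 x) (g.1 u) := by rw [hfix x hx]
      _ = B x u := isomGroup_apply g x u
  have hinf : K0 ⊓ R = ⊥ := (Submodule.eq_bot_iff _).2 fun v hv => by
    obtain ⟨hvK, u, rfl⟩ := hv
    have hk : ∀ k : ℕ, (g ^ k).1 u = u + (k : F) • N u := by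
      intro k
      induction k with
      | zero => simp
      | succ k ih =>
        rw [pow_succ']
        show g.1 ((g ^ k).1 u) = _
        rw [ih, map_add, map_smul, hfix _ hvK, Nat.cast_succ, add_smul, one_smul, hNa]
        abel
    have h1 := hk r
    rw [hg] at h1
    exact (smul_eq_zero.1 (left_eq_add.1 h1)).resolve_left hr0
  have hdim := LinearMap.finrank_range_add_finrank_ker N
  have hsup : K0 ⊔ R = ⊤ := Submodule.eq_top_of_finrank_eq (by
    have := Submodule.finrank_sup_add_finrank_inf_eq K0 R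
    rw [hinf, finrank_bot] at this
    change finrank F R + finrank F K0 = _ at hdim
    omega)
  have hnd : NondegOn B R := nondegOn_iff.2 fun x hx hxo => hN.2 x fun y => by
    obtain ⟨a, ha, b, hb, rfl⟩ := Submodule.mem_sup.1 (hsup.symm ▸ Submodule.mem_top (x := y))
    rw [map_add, LinearMap.add_apply, ho a ha x hx, hxo b hb, add_zero]
  refine ⟨hnd, ?_⟩
  have hgR : R.map (g.1 : V →ₗ[F] V) = R := Submodule.eq_of_le_of_finrank_eq (by
    rintro _ ⟨_, ⟨u, rfl⟩, rfl⟩
    exact ⟨g.1 u, by simp [hNa]⟩) (g.1.finrank_map_eq R)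
  let gR : isomGroup (restrictForm B R) :=
    ⟨(g.1.submoduleMap R).trans (LinearEquiv.ofEq _ _ hgR), fun x y => g.2 _ _⟩
  have hpow : ∀ k : ℕ, ∀ x : R, (((gR ^ k).1 x : R) : V) = (g ^ k).1 x := by
    intro k
    induction k with
    | zero => intro x; simp
    | succ k ih =>
      intro x
      rw [pow_succ', pow_succ']
      show g.1 (((gR ^ k).1 x : R) : V) = g.1 ((g ^ k).1 x)
      rw [ih]
  have hR1 : gR ^ r = 1 := Subtype.ext (LinearEquiv.ext fun x => Subtype.ext (by rw [hpow, hg]; rfl))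
  have hRne : gR ≠ 1 := fun e1 => hg1 (Subtype.ext (LinearEquiv.ext fun x => by
    have hx : N x ∈ K0 := LinearMap.mem_ker.2 (by
      have := hpow 1 ⟨N x, ⟨x, rfl⟩⟩
      rw [pow_one, pow_one, e1] at this
      rw [hNa]
      exact sub_eq_zero.2 this.symm)
    have hx0 : N x ∈ K0 ⊓ R := ⟨hx, x, rfl⟩
    rw [hinf, Submodule.mem_bot, hNa, sub_eq_zero] at hx0
    exact hx0))
  obtain ⟨e, b, -⟩ := exists_sympBasis (restrictForm_isAlt hA R) (restrictForm_nondegenerate hA.isRefl hnd)
  have he : finrank F R = 2 * e := by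
    rw [Module.finrank_eq_card_basis b, Fintype.card_sum, Fintype.card_fin, two_mul]
  refine ⟨e, he, ?_⟩
  have hdvd : r ∣ Nat.card (isomGroup (restrictForm B R)) := by
    rw [← orderOf_eq_prime hR1 hRne]; exact orderOf_dvd_natCard _
  rw [card_isom_alt (restrictForm_isAlt hA R) (restrictForm_nondegenerate hA.isRefl hnd) e he] at hdvd
  rcases (Fact.out : r.Prime).dvd_mul.1 hdvd with hd | hd
  · exact Or.inl ((Fact.out : r.Prime).dvd_of_dvd_pow hd)
  · obtain ⟨i, hi, hd⟩ := ((Fact.out : r.Prime).prime.dvd_finsetProd_iff _).1 hd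
    exact Or.inr ⟨i, Finset.mem_range.1 hi, hd⟩

end Sym

section Ext

variable {F : Type*} [Field F] [Fintype F] {V : Type*} [AddCommGroup V] [Module F V] [FiniteDimensional F V]
  {B : V →ₗ[F] V →ₗ[F] F} {K : Type*} [Field K] [Fintype K] [Algebra F K] (ρ : K →ₐ[F] Module.End F V)

theorem rho_cancel {c : K} (hc : c ≠ 0) {v : V} (h : ρ c v = 0) : v = 0 := by
  have := congrArg (ρ c⁻¹) h
  rwa [map_zero, ← Module.End.mul_apply, ← map_mul, inv_mul_cancel₀ hc, map_one] at this

/-- Isometries normalising the field act on it by field automorphisms. -/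
theorem linear_or_semilinear {k d : ℕ} (hk : k.Prime) (hKk : finrank F K = k) (hd : finrank F V = 2 * d) (hd0 : 0 < d)
    (y : isomGroup B) (hy : ∀ a, ∃ b, ∀ v, y.1 (ρ a v) = ρ b (y.1 v)) :
    (∀ a v, y.1 (ρ a v) = ρ a (y.1 v)) ∨
      ((∀ U : Submodule F V, (∀ u ∈ U, y.1 u = u) → finrank F U ≤ d) ∧ ∀ r : ℕ, r.Prime → y ^ r = 1 → r = k) := by
  haveI : Nontrivial V := Module.nontrivial_of_finrank_pos (R := F) (by omega)
  haveI : Module.Finite F K := Module.finite_of_finrank_pos (by rw [hKk]; exact hk.pos)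
  have hinj : Function.Injective ρ := ρ.toRingHom.injective
  choose s hs using hy
  have hu : ∀ a b, (∀ v, y.1 (ρ a v) = ρ b (y.1 v)) → b = s a := fun a b h => hinj (LinearMap.ext fun w => by
    obtain ⟨v, rfl⟩ := y.1.surjective w
    rw [← h, hs])
  let σ₀ : K →ₐ[F] K :=
    { toFun := s
      map_one' := (hu 1 1 fun v => by rw [map_one]; rfl).symm
      map_mul' := fun a b => (hu _ _ fun v => by
        rw [map_mul, map_mul, Module.End.mul_apply, Module.End.mul_apply, hs, hs]).symm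
      map_zero' := (hu 0 0 fun v => by simp).symm
      map_add' := fun a b => (hu _ _ fun v => by
        rw [map_add, map_add, LinearMap.add_apply, map_add, LinearMap.add_apply, hs, hs]).symm
      commutes' := fun c => (hu _ _ fun v => by simp [Module.algebraMap_end_apply]).symm }
  let σ : K ≃ₐ[F] K := AlgEquiv.ofBijective σ₀ ⟨σ₀.toRingHom.injective,
    (LinearMap.injective_iff_surjective (f := σ₀.toLinearMap)).1 σ₀.toRingHom.injective⟩
  have hσ : ∀ a v, y.1 (ρ a v) = ρ (σ a) (y.1 v) := hs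
  by_cases hall : ∀ a, σ a = a
  · exact Or.inl fun a v => by rw [hσ, hall]
  push Not at hall
  obtain ⟨a, ha⟩ := hall
  refine Or.inr ⟨fun U hU => ?_, fun r hr hyr => ?_⟩
  · have ha0 : a ≠ 0 := fun e => ha (by rw [e, map_zero])
    have hi : Function.Injective (ρ a) := (injective_iff_map_eq_zero _).2 fun v => rho_cancel ρ ha0
    have hinf : U ⊓ U.map (ρ a) = ⊥ := (Submodule.eq_bot_iff _).2 fun v hv => by
      obtain ⟨hvU, w, hw, rfl⟩ := hv
      have h1 := hU _ hvU
      rw [hσ, hU w hw] at h1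
      have := rho_cancel ρ (sub_ne_zero.2 ha) (v := w) (by rw [map_sub, LinearMap.sub_apply, h1, sub_self])
      rw [this, map_zero]
    have h1 := Submodule.finrank_sup_add_finrank_inf_eq U (U.map (ρ a))
    rw [hinf, finrank_bot, ← (Submodule.equivMapOfInjective (ρ a) hi U).finrank_eq] at h1
    have h2 := Submodule.finrank_le (U ⊔ U.map (ρ a))
    omega
  · have hpow : ∀ (n : ℕ) b v, (y ^ n).1 (ρ b v) = ρ ((σ ^ n) b) ((y ^ n).1 v) := by
      intro n
      induction n with
      | zero => intro b v; simp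
      | succ n ih =>
        intro b v
        rw [pow_succ' y n, pow_succ' σ n]
        show y.1 ((y ^ n).1 (ρ b v)) = ρ (σ ((σ ^ n) b)) (y.1 ((y ^ n).1 v))
        rw [ih, hσ]
    have hσr : σ ^ r = 1 := AlgEquiv.ext fun b => hinj (LinearMap.ext fun v => by
      have := hpow r b v
      rw [hyr] at this
      exact this.symm)
    have hσ1 : σ ≠ 1 := fun e => ha (by rw [e]; rfl)
    haveI := Fact.mk hr
    have h1 : r ∣ Nat.card (K ≃ₐ[F] K) := by rw [← orderOf_eq_prime hσr hσ1]; exact orderOf_dvd_natCard _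
    rw [IsGalois.card_aut_eq_finrank, hKk] at h1
    exact (Nat.prime_dvd_prime_iff_eq hr hk).1 h1

/-- The form over the extension field. -/
theorem ext_facts {k d : ℕ} (hk : k.Prime) (hKk : finrank F K = k) (hA : B.IsAlt) (hN : B.Nondegenerate)
    (hs : ∀ a u v, B (ρ a u) v = B u (ρ a v)) (halt : ∀ a v, B (ρ a v) v = 0) (hd : finrank F V = 2 * d) :
    ∃ m, d = k * m ∧
    (∀ H : Subgroup (isomGroup B), (∀ g : isomGroup B, (∀ a v, g.1 (ρ a v) = ρ a (g.1 v)) → g ∈ H) →
      (∏ i ∈ Finset.range m, ((Fintype.card F ^ k) ^ (2 * (i + 1)) - 1)) ∣ Nat.card H) ∧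
    ∀ R : Submodule F V, NondegOn B R → (∀ a, ∀ v ∈ R, ρ a v ∈ R) → 2 * k ∣ finrank F R := by
  classical
  letI : Module K V := Module.compHom V ρ.toRingHom
  haveI : IsScalarTower F K V := ⟨fun a c v => by
    show ρ (a • c) v = a • ρ c v
    rw [map_smul, LinearMap.smul_apply]⟩
  have hsm : ∀ (a : K) (v : V), a • v = ρ a v := fun a v => rfl
  haveI : Module.Finite F K := Module.finite_of_finrank_pos (by rw [hKk]; exact hk.pos)
  haveI : Module.Finite K V := Module.Finite.of_restrictScalars_finite F K V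
  obtain ⟨lam, hlam⟩ : ∃ l : Module.Dual F K, l ≠ 0 := ⟨(Module.finBasis F K).coord ⟨0, by rw [hKk]; exact hk.pos⟩, fun e => by
    have := LinearMap.congr_fun e ((Module.finBasis F K) ⟨0, by rw [hKk]; exact hk.pos⟩)
    simp at this⟩
  obtain ⟨a₀, ha₀⟩ : ∃ a, lam a ≠ 0 := by
    by_contra hall
    push Not at hall
    exact hlam (LinearMap.ext hall)
  let T : K →ₗ[F] Module.Dual F K := (LinearMap.mul F K).compr₂ lam
  have hT : ∀ c a, T c a = lam (c * a) := fun c a => rfl
  have hTi : Function.Injective T := (injective_iff_map_eq_zero _).2 fun c hc => by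
    by_contra hc0
    have h1 := LinearMap.congr_fun hc (c⁻¹ * a₀)
    rw [hT, mul_inv_cancel_left₀ hc0] at h1
    exact ha₀ h1
  let e : K ≃ₗ[F] Module.Dual F K := LinearEquiv.ofBijective T ⟨hTi,
    (LinearMap.injective_iff_surjective_of_finrank_eq_finrank (Subspace.dual_finrank_eq).symm).1 hTi⟩
  let φ : V → V → K := fun u v => e.symm ((B.flip v).comp (ρ.toLinearMap.flip u))
  have hφ : ∀ u v a, lam (φ u v * a) = B (ρ a u) v := fun u v a => by
    rw [← hT]
    show e (φ u v) a = _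
    rw [LinearEquiv.apply_symm_apply]
    rfl
  have hu : ∀ u v c, (∀ a, lam (c * a) = B (ρ a u) v) → c = φ u v := fun u v c h =>
    hTi (LinearMap.ext fun a => by rw [hT, hT, h, hφ])
  let h : V →ₗ[K] V →ₗ[K] K := LinearMap.mk₂ K φ
    (fun u u' v => (hu _ _ _ fun a => by rw [add_mul, map_add, hφ, hφ, map_add, map_add, LinearMap.add_apply]).symm)
    (fun c u v => (hu _ _ _ fun a => by
      rw [smul_eq_mul, show c * φ u v * a = φ u v * (a * c) by ring, hφ, map_mul, Module.End.mul_apply, hsm]).symm)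
    (fun u v v' => (hu _ _ _ fun a => by rw [add_mul, map_add, hφ, hφ, map_add]).symm)
    (fun c u v => (hu _ _ _ fun a => by
      rw [smul_eq_mul, show c * φ u v * a = φ u v * (c * a) by ring, hφ, map_mul, Module.End.mul_apply, hsm, hs]).symm)
  have happ : ∀ u v, h u v = φ u v := fun u v => rfl
  have hB : ∀ u v, B u v = lam (h u v) := fun u v => by
    have := hφ u v 1
    rw [mul_one, map_one] at this
    rw [happ, this]
    rfl
  have hhA : h.IsAlt := fun v => (hu v v 0 fun a => by rw [zero_mul, map_zero, halt]).symm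
  have hhN : h.Nondegenerate := ⟨fun u hx => hN.1 u fun v => by rw [hB, hx, map_zero],
    fun v hx => hN.2 v fun u => by rw [hB, hx, map_zero]⟩
  obtain ⟨m, b, -⟩ := exists_sympBasis hhA hhN
  have hm : finrank K V = 2 * m := by
    rw [Module.finrank_eq_card_basis b, Fintype.card_sum, Fintype.card_fin, two_mul]
  have hdm : d = k * m := by
    have := Module.finrank_mul_finrank F K V
    rw [hKk, hm, hd] at this
    linarith
  refine ⟨m, hdm, fun H hH => ?_, fun R hR hRK => ?_⟩
  · haveI : Finite V := Module.finite_of_finite F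
    haveI : Finite (isomGroup B) := Finite.of_injective (fun g : isomGroup B => (g.1 : V → V))
      fun a c e => Subtype.ext (DFunLike.coe_injective e)
    let ι : isomGroup h →* H :=
      { toFun := fun g => ⟨⟨g.1.restrictScalars F, fun u v => by
            show B (g.1 u) (g.1 v) = B u v
            rw [hB, hB, isomGroup_apply]⟩, hH _ fun a v => by
              show g.1 (a • v) = a • g.1 v
              exact map_smul _ _ _⟩
        map_one' := Subtype.ext (Subtype.ext (LinearEquiv.ext fun x => rfl))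
        map_mul' := fun a c => Subtype.ext (Subtype.ext (LinearEquiv.ext fun x => rfl)) }
    have hinj : Function.Injective ι := fun a c e => Subtype.ext (LinearEquiv.ext fun x =>
      congrArg (fun z : H => z.1.1 x) e)
    refine Dvd.dvd.trans ?_ (Subgroup.card_dvd_of_injective ι hinj)
    rw [card_isom_alt hhA hhN m hm, Module.card_eq_pow_finrank (K := F) (V := K), hKk]
    exact dvd_mul_left _ _
  · let R' : Submodule K V := { R with smul_mem' := fun c v hv => hRK c v hv }
    have hnd : NondegOn h R' := nondegOn_iff.2 fun x hx hxo => nondegOn_iff.1 hR x hx fun w hw => by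
      rw [hB, hxo w hw, map_zero]
    obtain ⟨n, b', -⟩ := exists_sympBasis (restrictForm_isAlt hhA R') (restrictForm_nondegenerate hhA.isRefl hnd)
    have hn : finrank K R' = 2 * n := by
      rw [Module.finrank_eq_card_basis b', Fintype.card_sum, Fintype.card_fin, two_mul]
    have h3 : finrank F (R'.restrictScalars F) = finrank F R' :=
      ((R'.restrictScalarsEquiv F K V).restrictScalars F).finrank_eq
    rw [show R'.restrictScalars F = R from rfl, ← Module.finrank_mul_finrank F K R', hKk, hn] at h3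
    exact ⟨n, by rw [h3]; ring⟩

end Ext

section Four

variable {F : Type*} [Field F] [Fintype F] {V : Type*} [AddCommGroup V] [Module F V] [FiniteDimensional F V]
  {B : V →ₗ[F] V →ₗ[F] F}

theorem fam_of {e f : Fin 2 → V} (hA : B.IsAlt) (h00 : B (e 0) (f 0) = 1) (h11 : B (e 1) (f 1) = 1)
    (h01 : B (e 0) (f 1) = 0) (h10 : B (e 1) (f 0) = 0) (he : B (e 0) (e 1) = 0) (hf : B (f 0) (f 1) = 0) :
    IsSympFamily B (Sum.elim e f) := by
  refine ⟨fun i j => ?_, fun i j => ?_, fun i j => ?_⟩ <;> fin_cases i <;> fin_cases j <;>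
    simp [h00, h11, h01, h10, he, hf, hA (e 0), hA (e 1), hA (f 0), hA (f 1), alt_swap hA (e 1) (e 0),
      alt_swap hA (f 1) (f 0)]

/-- Self-adjoint operators with non-square square in dimension four have an adapted basis. -/
theorem exists_frame_sa (hA : B.IsAlt) (hN : B.Nondegenerate) (h2 : (2 : F) ≠ 0) (hd : finrank F V = 4)
    {T : V →ₗ[F] V} {δ : F} (hδ : ¬ IsSquare δ) (hs : ∀ x y, B (T x) y = B x (T y)) (hsq : ∀ x, T (T x) = δ • x) :
    ∃ b : Module.Basis (Fin 2 ⊕ Fin 2) F V, IsSympFamily B b ∧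
      T (b (.inl 0)) = δ • b (.inl 1) ∧ T (b (.inl 1)) = b (.inl 0) ∧
      T (b (.inr 0)) = b (.inr 1) ∧ T (b (.inr 1)) = δ • b (.inr 0) := by
  have hδ0 : δ ≠ 0 := fun e => hδ (e ▸ IsSquare.zero)
  haveI : Nontrivial V := Module.nontrivial_of_finrank_pos (R := F) (by omega)
  obtain ⟨u, hu⟩ := exists_ne (0 : V)
  have hTe : ∀ x, B x (T x) = 0 := fun x => by
    have h : B x (T x) = -B x (T x) := by conv_lhs => rw [← hs, alt_swap hA]
    exact (mul_eq_zero.1 (show (2 : F) * B x (T x) = 0 by linear_combination h)).resolve_left h2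
  obtain ⟨z, hz⟩ := alt_exists_partner hN.1 hu
  obtain ⟨w, hw1, hw2⟩ : ∃ w, B u w = 1 ∧ B (T u) w = 0 := by
    set c := B (T u) z with hc
    have hne : δ ≠ c * c := fun e => hδ ⟨c, e⟩
    refine ⟨(δ - c * c)⁻¹ • (δ • z - c • T z), ?_, ?_⟩
    · rw [map_smul, map_sub, map_smul, map_smul, hz, ← hs, ← hc, smul_eq_mul, smul_eq_mul, smul_eq_mul, mul_one,
        inv_mul_cancel₀ (sub_ne_zero.2 hne)]
    · rw [map_smul, map_sub, map_smul, map_smul, ← hc, ← hs, hsq, map_smul, LinearMap.smul_apply, hz, smul_eq_mul,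
        smul_eq_mul, smul_eq_mul, smul_eq_mul]
      ring
  have hfam : IsSympFamily B (Sum.elim ![u, δ⁻¹ • T u] ![w, T w]) := by
    refine fam_of hA hw1 ?_ ?_ ?_ ?_ ?_
    · show B (δ⁻¹ • T u) (T w) = 1
      rw [map_smul, LinearMap.smul_apply, ← hs, hsq, map_smul, LinearMap.smul_apply, hw1, smul_eq_mul, smul_eq_mul,
        mul_one, inv_mul_cancel₀ hδ0]
    · show B u (T w) = 0
      rw [← hs]; exact hw2
    · show B (δ⁻¹ • T u) w = 0
      rw [map_smul, LinearMap.smul_apply, hw2, smul_zero]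
    · show B u (δ⁻¹ • T u) = 0
      rw [map_smul, hTe, smul_zero]
    · exact hTe w
  obtain ⟨b, hb⟩ := Cfsg.Agent.S5976.exists_basis hA hfam (by rw [hd])
  refine ⟨b, hb ▸ hfam, ?_, ?_, ?_, ?_⟩ <;> simp [hb, hsq, smul_smul, hδ0]

theorem exists_conj_sa (hA : B.IsAlt) (hN : B.Nondegenerate) (h2 : (2 : F) ≠ 0) (hd : finrank F V = 4)
    {T T' : V →ₗ[F] V} {δ : F} (hδ : ¬ IsSquare δ) (hs : ∀ x y, B (T x) y = B x (T y)) (hsq : ∀ x, T (T x) = δ • x)
    (hs' : ∀ x y, B (T' x) y = B x (T' y)) (hsq' : ∀ x, T' (T' x) = δ • x) :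
    ∃ g : isomGroup B, ∀ x, g.1 (T x) = T' (g.1 x) := by
  obtain ⟨b, hb, a1, a2, a3, a4⟩ := exists_frame_sa hA hN h2 hd hδ hs hsq
  obtain ⟨b', hb', c1, c2, c3, c4⟩ := exists_frame_sa hA hN h2 hd hδ hs' hsq'
  refine ⟨⟨b.equiv b' (Equiv.refl _), fun x y => IsSympFamily.basisEquiv_mem hA hA b b' hb hb' x y⟩, fun x => ?_⟩
  have hg : ∀ s, b.equiv b' (Equiv.refl _) (b s) = b' s := fun s => by simp
  have key : (b.equiv b' (Equiv.refl _) : V →ₗ[F] V).comp T = T'.comp (b.equiv b' (Equiv.refl _) : V →ₗ[F] V) := by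
    refine b.ext fun s => ?_
    show b.equiv b' (Equiv.refl _) (T (b s)) = T' (b.equiv b' (Equiv.refl _) (b s))
    rw [hg]
    rcases s with i | i <;> fin_cases i <;>
      simp only [Fin.zero_eta, Fin.mk_one, a1, a2, a3, a4, map_smul, hg, c1, c2, c3, c4]
  exact LinearMap.congr_fun key x

/-- An isometry with scalar square in dimension four (anti)commutes with a self-adjoint operator. -/
theorem exists_sa (hA : B.IsAlt) (hN : B.Nondegenerate) (h2 : (2 : F) ≠ 0) (hd : finrank F V = 4)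
    {X : V →ₗ[F] V} (hX : ∀ x y, B (X x) (X y) = B x y) {z : F} (hz : z * z = 1) (hsq : ∀ x, X (X x) = z • x)
    (hns : ∀ c : F, ¬ ∀ x, X x = c • x) {δ : F} (hδ : ¬ IsSquare δ) :
    ∃ J : V →ₗ[F] V, (∀ x y, B (J x) y = B x (J y)) ∧ (∀ x, J (J x) = δ • x) ∧
      ((∀ x, X (J x) = J (X x)) ∨ ∀ x, X (J x) = -J (X x)) := by
  have hδ0 : δ ≠ 0 := fun e => hδ (e ▸ IsSquare.zero)
  rcases mul_self_eq_one_iff.1 hz with hz1 | hz1
  · -- an involution
    have hsq1 : ∀ x, X (X x) = x := fun x => by rw [hsq, hz1, one_smul]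
    have hfind : ∀ s : F, s * s = 1 → ∃ e f, B e f = 1 ∧ X e = s • e ∧ X f = s • f := fun s hs => by
      obtain ⟨v, hv⟩ : ∃ v, X v + s • v ≠ 0 := by
        by_contra hall
        push Not at hall
        exact hns (-s) fun x => by rw [neg_smul]; exact eq_neg_of_add_eq_zero_left (hall x)
      have hp : ∀ v, X (X v + s • v) = s • (X v + s • v) := fun v => by
        rw [map_add, map_smul, hsq1, smul_add, smul_smul, hs, one_smul, add_comm]
      obtain ⟨z', hz'⟩ := alt_exists_partner hN.1 hv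
      refine ⟨X v + s • v, (2 : F)⁻¹ • s • (X z' + s • z'), ?_, hp v, ?_⟩
      · have h1 : B (X v + s • v) (X z') = s := by
          have := hX (X (X v + s • v)) z'
          rw [hsq1, hp, map_smul, LinearMap.smul_apply, hz', smul_eq_mul, mul_one] at this
          exact this
        rw [map_smul, map_smul, map_add, map_smul, h1, hz', smul_eq_mul, smul_eq_mul, smul_eq_mul, mul_one,
          show s * (s + s) = 2 by linear_combination (2 : F) * hs, inv_mul_cancel₀ h2]
      · rw [map_smul, map_smul, hp, smul_comm s (2 : F)⁻¹]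
    obtain ⟨e₁, f₁, h1, hXe1, hXf1⟩ := hfind 1 (one_mul 1)
    obtain ⟨e₂, f₂, h2', hXe2, hXf2⟩ := hfind (-1) (by rw [neg_mul_neg, one_mul])
    have ho : ∀ a b, X a = (1 : F) • a → X b = (-1 : F) • b → B a b = 0 := fun a b ha hb => by
      have h := hX a b
      rw [ha, hb, one_smul, neg_one_smul, map_neg] at h
      exact (mul_eq_zero.1 (show (2 : F) * B a b = 0 by linear_combination -h)).resolve_left h2
    have hfam : IsSympFamily B (Sum.elim ![e₁, e₂] ![f₁, f₂]) := fam_of hA h1 h2' (ho _ _ hXe1 hXf2)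
      (hA.isRefl _ _ (ho _ _ hXf1 hXe2)) (ho _ _ hXe1 hXe2) (ho _ _ hXf1 hXf2)
    obtain ⟨b, hb⟩ := Cfsg.Agent.S5976.exists_basis hA hfam (by rw [hd])
    let J : V →ₗ[F] V := b.constr F (Sum.elim ![e₂, δ • e₁] ![δ • f₂, f₁])
    have hJb : ∀ s, J (b s) = Sum.elim ![e₂, δ • e₁] ![δ • f₂, f₁] s := fun s => b.constr_basis F _ s
    have j1 : J e₁ = e₂ := by simpa [hb] using hJb (.inl 0)
    have j2 : J e₂ = δ • e₁ := by simpa [hb] using hJb (.inl 1)
    have j3 : J f₁ = δ • f₂ := by simpa [hb] using hJb (.inr 0)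
    have j4 : J f₂ = f₁ := by simpa [hb] using hJb (.inr 1)
    refine ⟨J, fun x y => ?_, fun x => ?_, Or.inr fun x => ?_⟩
    · have e' : B.compl₁₂ J LinearMap.id = B.compl₁₂ LinearMap.id J := by
        refine LinearMap.ext_basis b b fun s t => ?_
        simp only [LinearMap.compl₁₂_apply, LinearMap.id_apply, hb]
        rcases s with i | i <;> rcases t with j | j <;> fin_cases i <;> fin_cases j <;>
          simp [j1, j2, j3, j4, h1, h2', alt_swap hA f₁ e₁, alt_swap hA f₂ e₂, hA e₁, hA e₂, hA f₁, hA f₂,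
            ho _ _ hXe1 hXf2, ho _ _ hXe1 hXe2, ho _ _ hXf1 hXe2, ho _ _ hXf1 hXf2,
            hA.isRefl _ _ (ho _ _ hXe1 hXf2), hA.isRefl _ _ (ho _ _ hXe1 hXe2), hA.isRefl _ _ (ho _ _ hXf1 hXe2),
            hA.isRefl _ _ (ho _ _ hXf1 hXf2)]
      exact LinearMap.congr_fun₂ e' x y
    · have e' : J.comp J = δ • LinearMap.id := b.ext fun s => by
        rw [hb]
        rcases s with i | i <;> fin_cases i <;> simp [j1, j2, j3, j4]
      exact LinearMap.congr_fun e' x
    · have e' : X.comp J = -(J.comp X) := b.ext fun s => by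
        rw [hb]
        rcases s with i | i <;> fin_cases i <;>
          simp [j1, j2, j3, j4, hXe1, hXe2, hXf1, hXf2]
      exact LinearMap.congr_fun e' x
  · -- square minus one
    have hsX : ∀ x y, B (X x) y = -B x (X y) := fun x y => by
      rw [← hX x (X y), hsq, hz1, neg_one_smul, map_neg, neg_neg]
    obtain ⟨n, e, he, hn⟩ := Cfsg.Agent.S5976.exists_frame hA hN h2 (neg_ne_zero.2 one_ne_zero) hsX
      (fun x => by rw [hsq, hz1])
    obtain rfl : n = 2 := by omega
    obtain ⟨b, hb⟩ := Cfsg.Agent.S5976.exists_basis hA he hn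
    obtain ⟨α, β, hab⟩ := Cfsg.Agent.S5976.exists_sq_add h2 (one_ne_zero (α := F)) one_ne_zero δ
    let A : Fin 2 → V := ![α • e 0 + β • e 1, β • e 0 - α • e 1]
    let J : V →ₗ[F] V := b.constr F (Sum.elim A fun i => X (A i))
    have hJb : ∀ s, J (b s) = Sum.elim A (fun i => X (A i)) s := fun s => b.constr_basis F _ s
    have hJl : ∀ i, J (e i) = A i := fun i => by simpa [hb] using hJb (.inl i)
    have hJr : ∀ i, J (X (e i)) = X (A i) := fun i => by simpa [hb] using hJb (.inr i)
    obtain ⟨h1, h3, h4⟩ := he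
    simp only [Sum.elim_inl, Sum.elim_inr] at h1 h3 h4
    have h5 : ∀ i j, B (X (e i)) (e j) = if j = i then -1 else 0 := fun i j => by
      rw [alt_swap hA, h1]; split_ifs <;> simp
    refine ⟨J, fun x y => ?_, fun x => ?_, Or.inl fun x => ?_⟩
    · have e' : B.compl₁₂ J LinearMap.id = B.compl₁₂ LinearMap.id J := by
        refine LinearMap.ext_basis b b fun s t => ?_
        simp only [LinearMap.compl₁₂_apply, LinearMap.id_apply, hb]
        rcases s with i | i <;> rcases t with j | j <;> fin_cases i <;> fin_cases j <;>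
          simp [hJl, hJr, A, h1, h3, h4, h5]
      exact LinearMap.congr_fun₂ e' x y
    · have e' : J.comp J = δ • LinearMap.id := b.ext fun s => by
        rw [hb, LinearMap.comp_apply, LinearMap.smul_apply, LinearMap.id_apply, ← hab]
        rcases s with i | i <;> fin_cases i <;>
          simp [hJl, hJr, A, map_add, map_sub, map_smul] <;> module
      exact LinearMap.congr_fun e' x
    · have e' : X.comp J = J.comp X := b.ext fun s => by
        rw [hb, LinearMap.comp_apply, LinearMap.comp_apply]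
        rcases s with i | i
        · simp [hJl, hJr]
        · simp only [Sum.elim_inr, hJr, hsq, map_smul, hJl]
      exact LinearMap.congr_fun e' x

end Four

/-- Elements of prime order of PSp_n(q) and the field-extension subgroups of type Sp_{n/k}(q^k). Here `T = PSp_{2d}(F)` for a field `F` with `q` elements (`d ≥ 2`, `(d, q) ≠ (2, 2)`), realised through the matrices preserving the standard alternating form `f`; `k` is a prime and `K` is a subalgebra of the `2d × 2d` matrices that is a field of degree `k` over `F` whose elements are self-adjoint for `f` and satisfy `f(a v, v) = 0` (so `F^{2d}` becomes a vector space over `K ≅ F_{q^k}` on which `f` is the trace of a `K`-bilinear alternating form); `H` is the subgroup of `T` normalizing `K` — the symplectic maps that are `K`-linear or `K`-semilinear, a subgroup of type Sp_{2d/k}(q^k) (maximality is not assumed). Ω is the set of cosets of `H` in `T`, so an element of `T` of prime order `r` (`x ∈ T` with `x^r` scalar,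 `x` not scalar) fixes a point of Ω exactly when some `T`-conjugate of `x` normalizes `K`. Let `r` be a prime dividing the index of `H`. Then every element of `T` of order `r` fixes a point of Ω if and only if `r = 2`, `d = 2`, `k = 2` and `q` is odd. -/
theorem result {F : Type*} [Field F] [Fintype F] {p : ℕ} [Fact p.Prime] [CharP F p] {q : ℕ} (hq : Fintype.card F = q)
    (d : ℕ) (hd : 2 ≤ d) (hT : (d, q) ≠ (2, 2)) (k : ℕ) (hk : k.Prime)
    (K : Subalgebra F (Matrix (Fin d ⊕ Fin d) (Fin d ⊕ Fin d) F)) (hK : Cfsg.Geo.IsFieldSubalgebra k K)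
    (hKf : Cfsg.Geo.IsSelfAdjointFor (Cfsg.sympForm d F) K) (hKalt : ∀ a ∈ K, ∀ v : Fin d ⊕ Fin d → F, Cfsg.sympForm d F (a *ᵥ v) v = 0)
    (r : ℕ) [Fact r.Prime]
    (hΩ : r ∣ (Cfsg.Geo.subalgebraNormalizer K).relIndex (Cfsg.spGL d F)) :
    (∀ x ∈ Cfsg.spGL d F, (∃ z : F, ((x ^ r : GL (Fin d ⊕ Fin d) F) : Matrix (Fin d ⊕ Fin d) (Fin d ⊕ Fin d) F) = z • (1 : Matrix (Fin d ⊕ Fin d) (Fin d ⊕ Fin d) F)) →
      (∀ z : F, (x : Matrix (Fin d ⊕ Fin d) (Fin d ⊕ Fin d) F) ≠ z • (1 : Matrix (Fin d ⊕ Fin d) (Fin d ⊕ Fin d) F)) →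
      ∃ g ∈ Cfsg.spGL d F, g⁻¹ * x * g ∈ Cfsg.Geo.subalgebraNormalizer K) ↔
    (r = 2 ∧ d = 2 ∧ k = 2 ∧ Odd q) := by
  classical
  haveI : Nonempty (Fin d ⊕ Fin d) := ⟨Sum.inl ⟨0, by omega⟩⟩
  have hr : r.Prime := Fact.out
  set f := sympBil F d
  have hf : ∀ u v, f u v = Cfsg.sympForm d F u v := fun u v => sympBil_apply d u v
  have hA : f.IsAlt := sympBil_isAlt (F := F) d
  have hN : f.Nondegenerate := sympBil_nondegenerate (F := F) d
  have hdim : finrank F (Fin d ⊕ Fin d → F) = 2 * d := by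
    rw [Module.finrank_fintype_fun_eq_card, Fintype.card_sum, Fintype.card_fin, two_mul]
  set e₀ : Fin d ⊕ Fin d → F := Pi.single (Sum.inl ⟨0, by omega⟩) 1 with he₀
  have he₀0 : e₀ ≠ 0 := by simp [e₀]
  letI : CommRing K := { (inferInstance : Ring K) with mul_comm := fun a c => Subtype.ext (hK.comm _ a.2 _ c.2) }
  haveI : Nontrivial K := ⟨⟨0, 1, fun e => zero_ne_one (α := Matrix (Fin d ⊕ Fin d) (Fin d ⊕ Fin d) F)
    (congrArg Subtype.val e)⟩⟩
  have hKF : IsField K := ⟨exists_pair_ne K, mul_comm, fun {a} ha => by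
    obtain ⟨c, hc, hac⟩ := hK.inv _ a.2 fun e => ha (Subtype.ext e)
    exact ⟨⟨c, hc⟩, Subtype.ext hac⟩⟩
  letI : Field K := hKF.toField
  letI : Fintype K := Fintype.ofFinite K
  set ρ : K →ₐ[F] Module.End F (Fin d ⊕ Fin d → F) :=
    (Matrix.toLinAlgEquiv' (R := F) (n := Fin d ⊕ Fin d)).toAlgHom.comp K.val
  have hρ : ∀ (a : K) v, ρ a v = (a : Matrix (Fin d ⊕ Fin d) (Fin d ⊕ Fin d) F) *ᵥ v :=
    fun a v => Matrix.toLin'_apply _ _
  have hρs : ∀ a u v, f (ρ a u) v = f u (ρ a v) := fun a u v => by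
    rw [hρ, hρ, hf, hf]; exact hKf _ a.2 u v
  have hρalt : ∀ a v, f (ρ a v) v = 0 := fun a v => by rw [hρ, hf]; exact hKalt _ a.2 v
  obtain ⟨m, hdm, hcard, hres⟩ := ext_facts (B := f) ρ hk hK.finrank_eq hA hN hρs hρalt hdim
  let ψ : isomGroup f →* GL (Fin d ⊕ Fin d) F :=
    (Cfsg.spGL d F).subtype.comp ((spEquiv (F := F) d).symm.trans (spGLEquiv d)).toMonoidHom
  have hψ : ∀ g x, (ψ g : Matrix (Fin d ⊕ Fin d) (Fin d ⊕ Fin d) F) *ᵥ x = g.1 x := fun g x => by
    change ((spEquiv (F := F) d).symm g).1 *ᵥ x = _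
    rw [← spEquiv_apply, MulEquiv.apply_symm_apply]
  have hψr : ψ.range = Cfsg.spGL d F := le_antisymm
    (by rintro _ ⟨g, rfl⟩; exact SetLike.coe_mem _)
    fun t ht => ⟨((spEquiv (F := F) d).symm.trans (spGLEquiv d)).symm ⟨t, ht⟩, by
      change ((((spEquiv (F := F) d).symm.trans (spGLEquiv d)) _ : Cfsg.spGL d F) : GL _ F) = t
      rw [MulEquiv.apply_symm_apply]⟩
  have hψi : Function.Injective ψ := fun a c e => Subtype.ext (LinearEquiv.ext fun x => by rw [← hψ, ← hψ, e])
  haveI : Finite (isomGroup f) := Finite.of_injective ψ hψi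
  have hpowψ : ∀ (g : isomGroup f) v, ((ψ g : GL (Fin d ⊕ Fin d) F) : Matrix (Fin d ⊕ Fin d) (Fin d ⊕ Fin d) F) *ᵥ
      (((ψ g⁻¹ : GL (Fin d ⊕ Fin d) F) : Matrix (Fin d ⊕ Fin d) (Fin d ⊕ Fin d) F) *ᵥ v) = v := fun g v => by
    rw [Matrix.mulVec_mulVec, ← Units.val_mul, ← map_mul, mul_inv_cancel, map_one, Units.val_one, Matrix.one_mulVec]
  have hcent : ∀ g : isomGroup f, (∀ a v, g.1 (ρ a v) = ρ a (g.1 v)) → ψ g ∈ Cfsg.Geo.subalgebraNormalizer K := by
    intro g hg
    have hcomm : ∀ a ∈ K, (ψ g : Matrix (Fin d ⊕ Fin d) (Fin d ⊕ Fin d) F) * a = a * (ψ g : GL (Fin d ⊕ Fin d) F) :=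
      fun a ha => Matrix.ext_of_mulVec_single fun i => by
        have := hg ⟨a, ha⟩ (Pi.single i 1)
        rw [hρ, hρ, ← hψ, ← hψ] at this
        rwa [← Matrix.mulVec_mulVec, ← Matrix.mulVec_mulVec]
    intro a
    set G := (ψ g : Matrix (Fin d ⊕ Fin d) (Fin d ⊕ Fin d) F)
    set G' := (((ψ g)⁻¹ : GL (Fin d ⊕ Fin d) F) : Matrix (Fin d ⊕ Fin d) (Fin d ⊕ Fin d) F)
    have hGG : G * G' = 1 := by rw [← Units.val_mul, mul_inv_cancel, Units.val_one]
    have hG'G : G' * G = 1 := by rw [← Units.val_mul, inv_mul_cancel, Units.val_one]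
    refine ⟨fun ha => ?_, fun ha => ?_⟩
    · rwa [hcomm a ha, mul_assoc, hGG, mul_one]
    · have h1 := hcomm _ ha
      rw [mul_assoc (G * a) G' G, hG'G, mul_one] at h1
      have h2 := congrArg (G' * ·) h1
      simp only [← mul_assoc, hG'G, one_mul] at h2
      rwa [h2] at ha
  have hnorm : ∀ g : isomGroup f, ψ g ∈ Cfsg.Geo.subalgebraNormalizer K →
      ∀ a : K, ∃ b : K, ∀ v, g.1 (ρ a v) = ρ b (g.1 v) := by
    intro g hg a
    refine ⟨⟨_, (hg a).1 a.2⟩, fun v => ?_⟩
    rw [hρ, hρ, ← hψ, ← hψ, ← Matrix.mulVec_mulVec, Matrix.mulVec_mulVec _ _ (ψ g : Matrix (Fin d ⊕ Fin d) (Fin d ⊕ Fin d) F),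
      ← Units.val_mul, inv_mul_cancel, Units.val_one, Matrix.one_mulVec, Matrix.mulVec_mulVec]
  constructor
  · intro hall
    by_contra hcon
    have hconj : ∀ t : isomGroup f, t ^ r = 1 → (∀ z : F, ¬ ∀ x, t.1 x = z • x) →
        ∃ g : isomGroup f, ∀ a : K, ∃ b : K, ∀ v, (g⁻¹ * t * g).1 (ρ a v) = ρ b ((g⁻¹ * t * g).1 v) := by
      intro t ht hts
      obtain ⟨a, ha, ham⟩ := hall (ψ t) (hψr ▸ ⟨t, rfl⟩) ⟨1, by rw [← map_pow, ht, map_one, one_smul, Units.val_one]⟩
        (fun z e => hts z fun x => by rw [← hψ, e, Matrix.smul_mulVec, Matrix.one_mulVec])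
      obtain ⟨g, rfl⟩ : a ∈ ψ.range := hψr ▸ ha
      rw [← map_inv, ← map_mul, ← map_mul] at ham
      exact ⟨g, hnorm _ ham⟩
    by_cases hrp : r = p
    · obtain ⟨w, hw⟩ := alt_exists_partner hN.1 he₀0
      have hw' : f w e₀ = -1 := by rw [alt_swap hA]; exact congrArg Neg.neg hw
      have hpow : ∀ n : ℕ, tv hA e₀ (1 : F) ^ n = tv hA e₀ (n : F) := by
        intro n
        induction n with
        | zero => rw [pow_zero, Nat.cast_zero, tv_zero]
        | succ n ih => rw [pow_succ, ih, tv_mul, Nat.cast_succ]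
      obtain ⟨g, hg⟩ := hconj (tv hA e₀ 1) (by rw [hpow, hrp, CharP.cast_eq_zero F p, tv_zero])
        (fun z hz => by
          have h1 := hz e₀
          rw [tv_apply, hA e₀, mul_zero, zero_smul, add_zero] at h1
          have hz1 : z = 1 := by
            by_contra hz1
            exact he₀0 ((smul_eq_zero.1 (show (z - 1) • e₀ = 0 by rw [sub_smul, one_smul, ← h1, sub_self])).resolve_left
              (sub_ne_zero.2 hz1))
          have h2' := hz w
          simp [tv_apply, hw', hz1, he₀0] at h2')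
      rw [show g⁻¹ * tv hA e₀ 1 * g = tv hA (g⁻¹.1 e₀) 1 by rw [← conj_tv hA g⁻¹ e₀ 1, inv_inv]] at hg
      set u := g⁻¹.1 e₀
      have hu0 : u ≠ 0 := fun e => he₀0 (g⁻¹.1.map_eq_zero_iff.1 e)
      rcases linear_or_semilinear ρ hk hK.finrank_eq hdim (by omega) _ hg with hlin | ⟨hU, -⟩
      · obtain ⟨x, hx⟩ := alt_exists_partner hN.1 hu0
        have hx' : f x u = -1 := by rw [alt_swap hA]; exact congrArg Neg.neg hx
        have hsurj : Function.Surjective (Algebra.linearMap F K) := fun a => by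
          refine ⟨-f (ρ a x) u, ?_⟩
          have h1 := hlin a x
          simp only [tv_apply, map_add, map_smul, hx', one_mul, neg_one_smul, add_right_inj] at h1
          by_contra hne
          refine hu0 (rho_cancel ρ (sub_ne_zero.2 hne) ?_)
          rw [Algebra.linearMap_apply, map_sub, LinearMap.sub_apply, AlgHom.commutes, Module.algebraMap_end_apply,
            neg_smul, h1, map_neg, neg_neg, sub_self]
        have h := (Algebra.linearMap F K).finrank_range_le
        rw [LinearMap.range_eq_top.2 hsurj, finrank_top, hK.finrank_eq, Module.finrank_self] at h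
        have := hk.two_le
        omega
      · have h1 := hU (LinearMap.ker (f.flip u)) (fun x hx => by
          rw [LinearMap.mem_ker, LinearMap.flip_apply] at hx
          rw [tv_apply, hx, mul_zero, zero_smul, add_zero])
        have h2 := LinearMap.finrank_range_add_finrank_ker (f.flip u)
        have h3 := Submodule.finrank_le (LinearMap.range (f.flip u))
        rw [Module.finrank_self] at h3
        omega
    -- the remaining primes
    have hr0 : (r : F) ≠ 0 := fun e => by
      rw [CharP.cast_eq_zero_iff F p] at e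
      exact hrp ((Nat.prime_dvd_prime_iff_eq Fact.out hr).1 e).symm
    have hrq : ¬ r ∣ Fintype.card F := fun hd => by
      obtain ⟨n, -, hn⟩ := FiniteField.card F p
      rw [hn] at hd
      exact hrp ((Nat.prime_dvd_prime_iff_eq hr Fact.out).1 (hr.dvd_of_dvd_pow hd))
    set Q := Fintype.card F with hQ
    have hQ1 : 1 < Q := Fintype.one_lt_card
    set e := orderOf ((Q : ZMod r) ^ 2) with hedef
    have hQz : (Q : ZMod r) ≠ 0 := fun h => hrq ((ZMod.natCast_eq_zero_iff _ _).1 h)
    have he1 : 1 ≤ e := orderOf_pos_iff.2 (isOfFinOrder_iff_pow_eq_one.2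
      ⟨r - 1, by have := hr.two_le; omega, ZMod.pow_card_sub_one_eq_one (pow_ne_zero _ hQz)⟩)
    have hiff : ∀ n, r ∣ Q ^ (2 * n) - 1 ↔ e ∣ n := fun n => by
      rw [← ZMod.natCast_eq_zero_iff, Nat.cast_sub (Nat.one_le_pow _ _ (by omega)), sub_eq_zero, hedef,
        orderOf_dvd_iff_pow_eq_one, ← pow_mul, Nat.cast_pow, Nat.cast_one]
    set H := (Cfsg.Geo.subalgebraNormalizer K).comap ψ with hH
    have hAdvd := hcard H fun g hg => Subgroup.mem_comap.2 (hcent g hg)
    have hmain : r * Nat.card H ∣ Nat.card (isomGroup f) := by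
      rw [← Subgroup.index_mul_card H]
      refine mul_dvd_mul_right ?_ _
      rw [hH, Subgroup.index_comap, hψr]
      exact hΩ
    rw [card_isom_alt hA hN d hdim, ← hQ] at hmain
    set P : ℕ → ℕ := fun j => Q ^ (2 * (j + 1)) - 1 with hP
    set S := (Finset.range m).image (fun i => k * (i + 1) - 1) with hS
    have hk1 := hk.two_le
    have hSsub : S ⊆ Finset.range d := fun j hj => by
      obtain ⟨i, hi, rfl⟩ := Finset.mem_image.1 hj
      rw [Finset.mem_range] at hi ⊢
      have : k * (i + 1) ≤ k * m := Nat.mul_le_mul_left _ hi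
      have : k ≤ k * (i + 1) := Nat.le_mul_of_pos_right _ (by omega)
      omega
    have hSprod : ∏ i ∈ Finset.range m, ((Q ^ k) ^ (2 * (i + 1)) - 1) = ∏ j ∈ S, P j := by
      rw [hS, Finset.prod_image fun a _ b _ hab => by
        have ha : k ≤ k * (a + 1) := Nat.le_mul_of_pos_right _ (by omega)
        have hb : k ≤ k * (b + 1) := Nat.le_mul_of_pos_right _ (by omega)
        change k * (a + 1) - 1 = k * (b + 1) - 1 at hab
        have := Nat.eq_of_mul_eq_mul_left hk.pos (show k * (a + 1) = k * (b + 1) by omega)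
        omega]
      refine Finset.prod_congr rfl fun i _ => ?_
      have : k ≤ k * (i + 1) := Nat.le_mul_of_pos_right _ (by omega)
      simp only [hP]
      rw [Nat.sub_add_cancel (by omega), ← pow_mul, mul_left_comm]
    rw [hSprod] at hAdvd
    have hmain' : r * (∏ j ∈ S, P j) ∣ Q ^ d ^ 2 * ((∏ j ∈ Finset.range d \ S, P j) * ∏ j ∈ S, P j) := by
      rw [Finset.prod_sdiff hSsub]
      exact (mul_dvd_mul_left r hAdvd).trans hmain
    rw [← mul_assoc] at hmain'
    have hS0 : 0 < ∏ j ∈ S, P j := Finset.prod_pos fun j _ => Nat.sub_pos_of_lt (Nat.one_lt_pow (by omega) hQ1)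
    obtain ⟨j, hj, hjr⟩ := (hr.prime.dvd_finsetProd_iff _).1
      ((hr.dvd_mul.1 (Nat.dvd_of_mul_dvd_mul_right hS0 hmain')).resolve_left fun h => hrq (hr.dvd_of_dvd_pow h))
    rw [Finset.mem_sdiff, Finset.mem_range] at hj
    have hej : e ∣ j + 1 := (hiff _).1 hjr
    have hke : ¬ k ∣ e := fun hke => hj.2 (by
      obtain ⟨i, hi⟩ := hke.trans hej
      have hi0 : i ≠ 0 := fun h => by rw [h, mul_zero] at hi; omega
      refine Finset.mem_image.2 ⟨i - 1, Finset.mem_range.2 ?_, ?_⟩
      · have : k * i ≤ k * m := by omega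
        have := Nat.le_of_mul_le_mul_left this hk.pos
        omega
      · rw [Nat.sub_add_cancel (by omega)]; omega)
    have hed : e ≤ d := le_trans (Nat.le_of_dvd (by omega) hej) hj.1
    have her : r = 2 → e = 1 := fun h => by
      subst h
      rw [hedef, orderOf_eq_one_iff, pow_two,
        show (Q : ZMod 2) = 1 by simpa using ZMod.pow_card_sub_one_eq_one hQz, mul_one]
    obtain ⟨t, htr, ht1, U, hU, hUd⟩ := Cfsg.Agent.S5976.exists_order_fix (B := f) hA hN hdim hed he1
      ((hiff e).2 dvd_rfl)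
    obtain ⟨g, hg⟩ := hconj t htr (fun z hz => ht1 (Subtype.ext (LinearEquiv.ext fun x => by
      suffices hz1 : z = 1 by rw [hz, hz1, one_smul]; rfl
      by_cases hr2 : r = 2
      · obtain ⟨u, hu, hu0⟩ := Submodule.exists_mem_ne_zero_of_ne_bot (p := U) fun hb => by
          rw [hb, finrank_bot, her hr2] at hUd
          omega
        by_contra hz1
        exact hu0 ((smul_eq_zero.1 (show (z - 1) • u = 0 by
          rw [sub_smul, one_smul, ← hz, hU u hu, sub_self])).resolve_left (sub_ne_zero.2 hz1))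
      · have key : ∀ n : ℕ, ∀ x, (t ^ n).1 x = z ^ n • x := fun n => by
          induction n with
          | zero => intro x; simp
          | succ n ih =>
            intro x
            rw [pow_succ' t n]
            show t.1 ((t ^ n).1 x) = _
            rw [ih, hz, smul_smul, pow_succ']
        have hzr : z ^ r = 1 := by
          have h1 := congrFun (key r e₀) (Sum.inl ⟨0, by omega⟩)
          rw [htr] at h1
          simpa [e₀] using h1.symm
        obtain ⟨w, hw⟩ := alt_exists_partner hN.1 he₀0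
        have hz2 : z ^ 2 = 1 := by
          have h1 := isomGroup_apply t e₀ w
          rw [hz, hz, map_smul, map_smul, LinearMap.smul_apply, smul_eq_mul, smul_eq_mul, hw, mul_one] at h1
          rw [pow_two]; exact h1
        have := pow_gcd_eq_one.2 ⟨hz2, hzr⟩
        rwa [(Nat.coprime_two_left.2 (hr.odd_of_ne_two hr2)).gcd_eq_one, pow_one] at this)))
    set y := g⁻¹ * t * g with hy
    have hyr : y ^ r = 1 := by
      rw [hy, show g⁻¹ * t * g = g⁻¹ * t * g⁻¹⁻¹ by rw [inv_inv], conj_pow, htr, mul_one, mul_inv_cancel]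
    have hy1 : y ≠ 1 := fun e' => ht1 (by
      rw [show t = g * (g⁻¹ * t * g) * g⁻¹ by group, ← hy, e', mul_one, mul_inv_cancel])
    set U' := U.map (g⁻¹.1 : (Fin d ⊕ Fin d → F) →ₗ[F] (Fin d ⊕ Fin d → F)) with hU'
    have hU'fix : ∀ v ∈ U', y.1 v = v := by
      rintro _ ⟨u, hu, rfl⟩
      show g⁻¹.1 (t.1 (g.1 (g⁻¹.1 u))) = g⁻¹.1 u
      rw [show g.1 (g⁻¹.1 u) = (g * g⁻¹).1 u from rfl, mul_inv_cancel, show (1 : isomGroup f).1 u = u from rfl,
        hU u hu]
    have hU'd : finrank F U' + 2 * e = 2 * d := by rw [hU', LinearEquiv.finrank_map_eq]; exact hUd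
    rcases linear_or_semilinear ρ hk hK.finrank_eq hdim (by omega) y hg with hlin | ⟨hUle, hord⟩
    · -- linear over the extension
      obtain ⟨hnd, e', he', hor⟩ := range_facts hA hN hr0 y hyr hy1
      obtain ⟨i, hi, hir⟩ := hor.resolve_left hrq
      have hle : e ≤ e' := (Nat.le_of_dvd (by omega) ((hiff _).1 hir)).trans hi
      have hker : finrank F U' ≤ finrank F (LinearMap.ker ((y.1 : (Fin d ⊕ Fin d → F) →ₗ[F] _) - LinearMap.id)) :=
        Submodule.finrank_mono fun v hv => by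
          rw [LinearMap.mem_ker, LinearMap.sub_apply, LinearMap.id_apply, sub_eq_zero]; exact hU'fix v hv
      have hsum := LinearMap.finrank_range_add_finrank_ker ((y.1 : (Fin d ⊕ Fin d → F) →ₗ[F] _) - LinearMap.id)
      have h2k := hres _ hnd (by
        rintro a _ ⟨v, rfl⟩
        refine ⟨ρ a v, ?_⟩
        rw [LinearMap.sub_apply, LinearMap.sub_apply, LinearMap.id_apply, LinearMap.id_apply, map_sub]
        exact congrArg (· - ρ a v) (hlin a v))
      rw [he', show e' = e by omega] at h2k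
      exact hke (Nat.dvd_of_mul_dvd_mul_left two_pos h2k)
    · -- field automorphisms
      have hrk := hord r hr hyr
      have h1 := hUle U' hU'fix
      have hkd : k ≤ d := Nat.le_of_dvd (by omega) ⟨m, hdm⟩
      by_cases hr2 : r = 2
      · have := her hr2
        have hodd : Odd q := Nat.not_even_iff_odd.1 fun hev => hrq (by
          rw [hr2, hq]; exact even_iff_two_dvd.1 hev)
        exact hcon ⟨hr2, by omega, by omega, hodd⟩
      · obtain ⟨s, hs⟩ := hr.odd_of_ne_two hr2
        have hs0 : 0 < s := by have := hr.two_le; omega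
        have : e ≤ s := by
          refine Nat.le_of_dvd hs0 ?_
          rw [hedef, orderOf_dvd_iff_pow_eq_one, ← pow_mul, show 2 * s = r - 1 by omega]
          exact ZMod.pow_card_sub_one_eq_one hQz
        omega
  · rintro ⟨rfl, rfl, rfl, hodd⟩ x hx ⟨z, hz⟩ hxns
    have hp2 : p ≠ 2 := fun e => by
      obtain ⟨n, -, hn⟩ := FiniteField.card F p
      have h2 : 2 ∣ q := by rw [← hq, hn, e]; exact dvd_pow_self 2 n.ne_zero
      exact (Nat.not_even_iff_odd.2 hodd) (even_iff_two_dvd.2 h2)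
    have h2 : (2 : F) ≠ 0 := Ring.two_ne_zero (by rw [ringChar.eq F p]; exact hp2)
    obtain ⟨j₀, hj₀, hjs⟩ : ∃ j ∈ K, ∀ c : F, j ≠ c • (1 : Matrix (Fin 2 ⊕ Fin 2) (Fin 2 ⊕ Fin 2) F) := by
      by_contra hall
      push Not at hall
      have hsurj : Function.Surjective (Algebra.linearMap F K) := fun a => by
        obtain ⟨c, hc⟩ := hall _ a.2
        exact ⟨c, Subtype.ext (by rw [hc]; exact Algebra.algebraMap_eq_smul_one c)⟩
      have h := (Algebra.linearMap F K).finrank_range_le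
      rw [LinearMap.range_eq_top.2 hsurj, finrank_top, hK.finrank_eq, Module.finrank_self] at h
      omega
    obtain ⟨a, b, hjj⟩ := QuadExtension.exists_repr hK hj₀ hjs (K.mul_mem hj₀ hj₀)
    set Jm := j₀ - (b / 2) • (1 : Matrix (Fin 2 ⊕ Fin 2) (Fin 2 ⊕ Fin 2) F) with hJm
    set δ := a + b / 2 * (b / 2) with hδdef
    have hJK : Jm ∈ K := K.sub_mem hj₀ (K.smul_mem K.one_mem _)
    have hJs : ∀ c : F, Jm ≠ c • (1 : Matrix (Fin 2 ⊕ Fin 2) (Fin 2 ⊕ Fin 2) F) := fun c e =>
      hjs (c + b / 2) (by rw [add_smul, ← e, hJm, sub_add_cancel])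
    have hJJ : Jm * Jm = δ • (1 : Matrix (Fin 2 ⊕ Fin 2) (Fin 2 ⊕ Fin 2) F) := by
      have hb : b / 2 + b / 2 = b := by field_simp; ring
      simp only [hJm, hδdef, sub_mul, mul_sub, Matrix.smul_mul, Matrix.mul_smul, one_mul, mul_one, hjj, smul_smul,
        add_smul]
      conv_lhs => enter [1, 1, 2]; rw [← hb]
      rw [add_smul]
      abel
    have hδ : ¬ IsSquare δ := by
      rintro ⟨s, hs⟩
      have hz' : (Jm - s • (1 : Matrix _ _ F)) * (Jm + s • (1 : Matrix _ _ F)) = 0 := by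
        simp only [sub_mul, mul_add, Matrix.smul_mul, Matrix.mul_smul, one_mul, mul_one, hJJ, smul_smul, hs]
        abel
      obtain ⟨y, hyK, hy⟩ := hK.inv _ (K.sub_mem hJK (K.smul_mem K.one_mem s)) (fun h => hJs s (sub_eq_zero.1 h))
      have := congrArg (y * ·) hz'
      rw [← mul_assoc, hK.comm y hyK _ (K.sub_mem hJK (K.smul_mem K.one_mem s)), hy, one_mul, mul_zero] at this
      exact hJs (-s) (by rw [neg_smul]; exact eq_neg_of_add_eq_zero_left this)
    have hδ0 : δ ≠ 0 := fun e => hδ (e ▸ IsSquare.zero)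
    set J : (Fin 2 ⊕ Fin 2 → F) →ₗ[F] (Fin 2 ⊕ Fin 2 → F) := Matrix.toLin' Jm
    have hJa : ∀ v, J v = Jm *ᵥ v := fun v => Matrix.toLin'_apply _ _
    have hs : ∀ u v, f (J u) v = f u (J v) := fun u v => by rw [hJa, hJa, hf, hf]; exact hKf _ hJK u v
    have hsq : ∀ v, J (J v) = δ • v := fun v => by
      rw [hJa, hJa, Matrix.mulVec_mulVec, hJJ, Matrix.smul_mulVec, Matrix.one_mulVec]
    obtain ⟨t, rfl⟩ : x ∈ ψ.range := hψr ▸ hx
    have hzz : ∀ v, t.1 (t.1 v) = z • v := fun v => by
      rw [← hψ, ← hψ, Matrix.mulVec_mulVec, ← pow_two, ← Units.val_pow_eq_pow_val, hz, Matrix.smul_mulVec,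
        Matrix.one_mulVec]
    obtain ⟨w, hw⟩ := alt_exists_partner hN.1 he₀0
    have hz2 : z * z = 1 := by
      have h1 : f (t.1 (t.1 e₀)) (t.1 (t.1 w)) = 1 := by rw [isomGroup_apply, isomGroup_apply, hw]
      rw [hzz, hzz, map_smul, map_smul, LinearMap.smul_apply, smul_eq_mul, smul_eq_mul, hw, mul_one] at h1
      exact h1
    obtain ⟨J', hs', hsq', hcomm⟩ := exists_sa (B := f) hA hN h2 hdim (X := t.1.toLinearMap) t.2 hz2 hzz
      (fun c hc => hxns c (Matrix.ext_of_mulVec_single fun i => by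
        rw [hψ, Matrix.smul_mulVec, Matrix.one_mulVec]; exact hc _)) hδ
    obtain ⟨g, hg⟩ := exists_conj_sa hA hN h2 hdim hδ hs hsq hs' hsq'
    refine ⟨ψ g, hψr ▸ ⟨g, rfl⟩, ?_⟩
    rw [← map_inv, ← map_mul, ← map_mul, QuadExtension.mem_normalizer_iff h2 hK hJK hJs hJJ hδ0]
    have hgi : ∀ v, g⁻¹.1 (J' v) = J (g⁻¹.1 v) := fun v => by
      refine g.1.injective ?_
      rw [hg, show g.1 (g⁻¹.1 (J' v)) = (g * g⁻¹).1 (J' v) from rfl,
        show g.1 (g⁻¹.1 v) = (g * g⁻¹).1 v from rfl, mul_inv_cancel]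
      rfl
    refine hcomm.imp (fun hc => Matrix.ext_of_mulVec_single fun i => ?_) (fun hc => Matrix.ext_of_mulVec_single fun i => ?_)
    · rw [← Matrix.mulVec_mulVec, ← Matrix.mulVec_mulVec, hψ, hψ, ← hJa, ← hJa]
      show g⁻¹.1 (t.1 (g.1 (J _))) = J (g⁻¹.1 (t.1 (g.1 _)))
      rw [hg, show t.1 (J' _) = _ from hc _, hgi]
      rfl
    · rw [← Matrix.mulVec_mulVec, Matrix.neg_mulVec, ← Matrix.mulVec_mulVec, hψ, hψ, ← hJa, ← hJa]
      show g⁻¹.1 (t.1 (g.1 (J _))) = -J (g⁻¹.1 (t.1 (g.1 _)))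
      rw [hg, show t.1 (J' _) = _ from hc _, map_neg, hgi]
      rfl

end Cfsg.Agent.S5975
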