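import Cfsg.Statements.S5979
import Cfsg.Agent.Lib.Derangements.InvolutionClasses
import Cfsg.Agent.Lib.Derangements.LinearElusiveMain
-- import your own Cfsg.Agent.* helpers here

set_option autoImplicit false
open scoped MatrixGroups
open Cfsg

namespace Cfsg.Agent.S5979

open Module Matrix CfsgLib.Derangements
open scoped Kronecker

section Aux

variable {F : Type*} [Field F] {a b n : ℕ}

theorem kronecker_mulVec (A : Matrix (Fin a) (Fin a) F) (B : Matrix (Fin b) (Fin b) F) (v : Fin a → F)
    (u : Fin b → F) :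
    (A ⊗ₖ B) *ᵥ (fun ij : Fin a × Fin b => v ij.1 * u ij.2) =
      fun ij : Fin a × Fin b => (A *ᵥ v) ij.1 * (B *ᵥ u) ij.2 := by
  funext ij
  simp only [Matrix.mulVec, dotProduct, Matrix.kroneckerMap_apply, Fintype.sum_prod_type, Finset.sum_mul,
    Finset.mul_sum]
  rw [Finset.sum_comm (f := fun x i => A ij.1 i * v i * (B ij.2 x * u x))]
  exact Finset.sum_congr rfl fun k _ => Finset.sum_congr rfl fun l _ => by ring

/-- If the first factor is not scalar, no shift has rank below the dimension of the second. -/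
theorem le_rank {A : Matrix (Fin a) (Fin a) F} {B : Matrix (Fin b) (Fin b) F} (hB : IsUnit B.det)
    (hA : ∀ c : F, A ≠ c • (1 : Matrix (Fin a) (Fin a) F)) (μ : F) :
    b ≤ (A ⊗ₖ B - μ • (1 : Matrix (Fin a × Fin b) (Fin a × Fin b) F)).rank := by
  rcases Nat.eq_zero_or_pos a with ha | ha
  · subst ha
    exact absurd (Subsingleton.elim _ _) (hA 0)
  haveI : Nontrivial (Fin a → F) := by
    haveI : Nonempty (Fin a) := ⟨⟨0, ha⟩⟩
    infer_instance
  obtain ⟨v, hv⟩ : ∃ v : Fin a → F, A *ᵥ v ∉ Submodule.span F {v} := by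
    by_contra hcon
    push Not at hcon
    obtain ⟨c, hc⟩ := InvCl.exists_scalar_of_forall_mem_span (Matrix.toLin' A) hcon
    refine hA c (Matrix.ext_of_mulVec_single fun i => ?_)
    rw [Matrix.smul_mulVec, Matrix.one_mulVec]
    exact hc _
  let J : (Fin b → F) →ₗ[F] (Fin a × Fin b → F) :=
    { toFun := fun u ij => v ij.1 * u ij.2
      map_add' := fun u u' => funext fun ij => mul_add _ _ _
      map_smul' := fun c u => funext fun ij => by
        simp only [Pi.smul_apply, smul_eq_mul, RingHom.id_apply]; ring }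
  let M := A ⊗ₖ B - μ • (1 : Matrix (Fin a × Fin b) (Fin a × Fin b) F)
  have hinj : Function.Injective (M.mulVecLin.comp J) := by
    rw [injective_iff_map_eq_zero]
    intro u hu
    have hu' : M *ᵥ (fun ij : Fin a × Fin b => v ij.1 * u ij.2) = 0 := hu
    rw [Matrix.sub_mulVec, kronecker_mulVec, Matrix.smul_mulVec, Matrix.one_mulVec, sub_eq_zero] at hu'
    have hBu : B *ᵥ u = 0 := by
      by_contra hne
      obtain ⟨j, hj⟩ := Function.ne_iff.1 hne
      refine hv (Submodule.mem_span_singleton.2 ⟨μ * u j / (B *ᵥ u) j, funext fun i => ?_⟩)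
      have h := congrFun hu' (i, j)
      simp only [Pi.smul_apply, smul_eq_mul] at h ⊢
      rw [div_mul_eq_mul_div, div_eq_iff hj, h]
      ring
    exact Matrix.mulVec_injective_iff_isUnit.2 ((Matrix.isUnit_iff_isUnit_det B).2 hB)
      (hBu.trans (Matrix.mulVec_zero B).symm)
  have h := LinearMap.finrank_range_of_inj hinj
  rw [finrank_fin_fun] at h
  exact h.symm.le.trans (Submodule.finrank_mono (LinearMap.range_comp_le_range J M.mulVecLin))

/-- The rank of a block diagonal matrix with equal blocks. -/
theorem rank_one_kronecker (B : Matrix (Fin b) (Fin b) F) :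
    ((1 : Matrix (Fin a) (Fin a) F) ⊗ₖ B).rank = a * B.rank := by
  let R : Submodule F (Fin b → F) := LinearMap.range B.mulVecLin
  let Θ : (Fin a → R) →ₗ[F] (Fin a × Fin b → F) :=
    { toFun := fun w ij => (w ij.1 : Fin b → F) ij.2
      map_add' := fun _ _ => rfl
      map_smul' := fun _ _ => rfl }
  have hinj : Function.Injective Θ := fun w w' h => funext fun i => Subtype.ext (funext fun j => congrFun h (i, j))
  have hv : ∀ v : Fin a × Fin b → F, ((1 : Matrix (Fin a) (Fin a) F) ⊗ₖ B) *ᵥ v =
      fun ij : Fin a × Fin b => (B *ᵥ fun j => v (ij.1, j)) ij.2 := fun v => by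
    funext ij
    simp only [Matrix.mulVec, dotProduct, Matrix.kroneckerMap_apply, Fintype.sum_prod_type, Matrix.one_apply,
      ite_mul, one_mul, zero_mul]
    rw [Finset.sum_eq_single ij.1]
    · simp
    · intro i _ hi
      simp [Ne.symm hi]
    · intro h
      exact absurd (Finset.mem_univ _) h
  have hrange : LinearMap.range ((1 : Matrix (Fin a) (Fin a) F) ⊗ₖ B).mulVecLin = LinearMap.range Θ := by
    apply le_antisymm
    · rintro _ ⟨v, rfl⟩
      refine ⟨fun i => ⟨B *ᵥ fun j => v (i, j), ⟨_, rfl⟩⟩, ?_⟩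
      rw [Matrix.mulVecLin_apply, hv]
      rfl
    · rintro _ ⟨w, rfl⟩
      choose u hu using fun i => (w i).2
      refine ⟨fun ij => u ij.1 ij.2, ?_⟩
      rw [Matrix.mulVecLin_apply, hv]
      funext ij
      exact congrFun (hu ij.1) ij.2
  rw [Matrix.rank, hrange, LinearMap.finrank_range_of_inj hinj, Module.finrank_pi_fintype]
  simp [Matrix.rank, R]

theorem scalar_kronecker_sub (α μ : F) (B : Matrix (Fin b) (Fin b) F) :
    (α • (1 : Matrix (Fin a) (Fin a) F)) ⊗ₖ B - μ • (1 : Matrix (Fin a × Fin b) (Fin a × Fin b) F) =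
      (1 : Matrix (Fin a) (Fin a) F) ⊗ₖ (α • B - μ • (1 : Matrix (Fin b) (Fin b) F)) := by
  ext ⟨i, j⟩ ⟨k, l⟩
  by_cases h1 : i = k <;> by_cases h2 : j = l <;> simp [Matrix.kroneckerMap_apply, Matrix.one_apply, h1, h2]

/-- The ranks of the shifts of an element conjugate into the tensor product subgroup. -/
theorem rank_eq {e : Fin n ≃ Fin a × Fin b} {P g x : GL (Fin n) F}
    (h : g⁻¹ * x * g ∈ Cfsg.Geo.tensorProductSubgroup a b e P) :
    ∃ (A : GL (Fin a) F) (B : GL (Fin b) F),
      (∀ μ : F, ((x : Matrix (Fin n) (Fin n) F) - μ • 1).rank =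
        ((A : Matrix (Fin a) (Fin a) F) ⊗ₖ (B : Matrix (Fin b) (Fin b) F) - μ • 1).rank) ∧
      ∀ r : ℕ, x ^ r = 1 →
        ((A : Matrix (Fin a) (Fin a) F) ^ r) ⊗ₖ ((B : Matrix (Fin b) (Fin b) F) ^ r) = 1 := by
  obtain ⟨k, ⟨h₀, ⟨A, B, hAB⟩, rfl⟩, hk⟩ := h
  change P * Cfsg.Geo.glReindex e.symm h₀ * P⁻¹ = g⁻¹ * x * g at hk
  let G : GL (Fin n) F := g * P
  have hx : x = G * Cfsg.Geo.glReindex e.symm h₀ * G⁻¹ := by
    have hx' : x = g * (g⁻¹ * x * g) * g⁻¹ := by group
    rw [hx', ← hk]
    simp only [G]
    group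
  have hre : ((Cfsg.Geo.glReindex e.symm h₀ : GL (Fin n) F) : Matrix (Fin n) (Fin n) F) =
      Matrix.reindex e.symm e.symm ((h₀ : GL (Fin a × Fin b) F) : Matrix (Fin a × Fin b) (Fin a × Fin b) F) := rfl
  refine ⟨A, B, fun μ => ?_, fun r hr => ?_⟩
  · have h1 : (x : Matrix (Fin n) (Fin n) F) - μ • 1 = (G : Matrix (Fin n) (Fin n) F) *
        Matrix.reindex e.symm e.symm ((A : Matrix (Fin a) (Fin a) F) ⊗ₖ (B : Matrix (Fin b) (Fin b) F) - μ • 1) *
        ((G⁻¹ : GL (Fin n) F) : Matrix (Fin n) (Fin n) F) := by
      have hsub : Matrix.reindex e.symm e.symm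
          ((A : Matrix (Fin a) (Fin a) F) ⊗ₖ (B : Matrix (Fin b) (Fin b) F) - μ • 1) =
          Matrix.reindex e.symm e.symm ((A : Matrix (Fin a) (Fin a) F) ⊗ₖ (B : Matrix (Fin b) (Fin b) F)) - μ • 1 := by
        ext i j
        simp [Matrix.one_apply]
      rw [hsub, mul_sub, sub_mul, mul_smul_comm, mul_one, smul_mul_assoc, ← Units.val_mul G G⁻¹, mul_inv_cancel,
        Units.val_one, ← hAB, ← hre, ← Units.val_mul, ← Units.val_mul, ← hx]
    rw [h1, Matrix.rank_mul_eq_left_of_isUnit_det _ _ ((Matrix.isUnit_iff_isUnit_det _).1 (G⁻¹).isUnit),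
      Matrix.rank_mul_eq_right_of_isUnit_det _ _ ((Matrix.isUnit_iff_isUnit_det _).1 G.isUnit), Matrix.rank_reindex]
  · rw [hx, conj_pow, mul_inv_eq_one, mul_eq_left, ← map_pow, MulEquiv.map_eq_one_iff] at hr
    have h2 := congrArg Units.val hr
    rw [Units.val_pow_eq_pow_val, hAB, Units.val_one] at h2
    rw [← h2]
    clear hr h2
    induction r with
    | zero => simp
    | succ r ih => rw [pow_succ, pow_succ, pow_succ, Matrix.mul_kronecker_mul, ih]

theorem scalar_of_kronecker_one {A : Matrix (Fin a) (Fin a) F} {B : Matrix (Fin b) (Fin b) F} (ha : 0 < a)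
    (hb : 0 < b) (h : A ⊗ₖ B = 1) : ∃ α : F, α ≠ 0 ∧ A = α • 1 ∧ B = α⁻¹ • 1 := by
  have he : ∀ i i' j j', A i i' * B j j' =
      (1 : Matrix (Fin a × Fin b) (Fin a × Fin b) F) (i, j) (i', j') := fun i i' j j' => by
    rw [← h]; rfl
  let i₀ : Fin a := ⟨0, ha⟩
  let j₀ : Fin b := ⟨0, hb⟩
  have h0 := he i₀ i₀ j₀ j₀
  rw [Matrix.one_apply_eq] at h0
  have hα : A i₀ i₀ ≠ 0 := fun h => by rw [h, zero_mul] at h0; exact zero_ne_one h0
  have hB0 : B j₀ j₀ = (A i₀ i₀)⁻¹ := eq_inv_of_mul_eq_one_right h0
  refine ⟨A i₀ i₀, hα, ?_, ?_⟩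
  · ext i i'
    have := he i i' j₀ j₀
    rw [hB0] at this
    by_cases hii : i = i'
    · subst hii
      rw [Matrix.one_apply_eq] at this
      field_simp at this
      simp [this]
    · rw [Matrix.one_apply_ne (by simp [hii])] at this
      simp [hii, (mul_eq_zero.1 this).resolve_right (inv_ne_zero hα)]
  · ext j j'
    have := he i₀ i₀ j j'
    by_cases hjj : j = j'
    · subst hjj
      rw [Matrix.one_apply_eq] at this
      simp [eq_inv_of_mul_eq_one_right this]
    · rw [Matrix.one_apply_ne (by simp [hjj])] at this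
      simp [hjj, (mul_eq_zero.1 this).resolve_left hα]

variable [Fintype F] {r : ℕ} [Fact r.Prime]

/-- The moved space of an element of order `r` has dimension a multiple of the order of `q` modulo `r`. -/
theorem dvd_rank_sub_one (hr : (r : F) ≠ 0) {M : Matrix (Fin n) (Fin n) F} (hM : M ^ r = 1) :
    orderOf (Fintype.card F : ZMod r) ∣ (M - 1).rank := by
  let L : Module.End F (Fin n → F) := Matrix.toLinAlgEquiv' M
  obtain ⟨E, hc, -, hu, -⟩ := LinElusive.exists_structure hr (L := L) (by rw [← map_pow, hM, map_one])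
  have h1 := Submodule.finrank_add_eq_of_isCompl hc
  have hker : LinearMap.ker (M - 1).mulVecLin = L.eigenspace 1 := by
    ext v
    simp only [LinearMap.mem_ker, Matrix.mulVecLin_apply, Matrix.sub_mulVec, Matrix.one_mulVec, sub_eq_zero,
      Module.End.mem_eigenspace_iff, one_smul]
    rfl
  have h2 := LinearMap.finrank_range_add_finrank_ker (M - 1).mulVecLin
  rw [hker] at h2
  rw [Matrix.rank, show finrank F (LinearMap.range (M - 1).mulVecLin) = finrank F E by omega]
  exact hu.dvd E le_rfl hu.inv

/-- An element with a coordinate basis for a Kronecker product is conjugate into the subgroup. -/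
theorem exists_tensor_conj {e : Fin n ≃ Fin a × Fin b} {P : GL (Fin n) F} {x : GL (Fin n) F} (A : GL (Fin a) F)
    (B : GL (Fin b) F) (β : Basis (Fin a × Fin b) F (Fin n → F))
    (hβ : ∀ k, (x : Matrix (Fin n) (Fin n) F) *ᵥ β k =
      ∑ l, ((A : Matrix (Fin a) (Fin a) F) ⊗ₖ (B : Matrix (Fin b) (Fin b) F)) l k • β l) :
    ∃ Q : GL (Fin n) F, Q⁻¹ * x * Q ∈ Cfsg.Geo.tensorProductSubgroup a b e P := by
  let bn := β.reindex e.symm
  obtain ⟨Q, hQ⟩ := InvCl.exists_gl_of_equiv x bn.equivFun.symm
  let h₀ : GL (Fin a × Fin b) F :=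
    ⟨(A : Matrix (Fin a) (Fin a) F) ⊗ₖ (B : Matrix (Fin b) (Fin b) F),
      ((A⁻¹ : GL (Fin a) F) : Matrix (Fin a) (Fin a) F) ⊗ₖ ((B⁻¹ : GL (Fin b) F) : Matrix (Fin b) (Fin b) F),
      by rw [← Matrix.mul_kronecker_mul, ← Units.val_mul, ← Units.val_mul, mul_inv_cancel, mul_inv_cancel,
        Units.val_one, Units.val_one, Matrix.one_kronecker_one],
      by rw [← Matrix.mul_kronecker_mul, ← Units.val_mul, ← Units.val_mul, inv_mul_cancel, inv_mul_cancel,
        Units.val_one, Units.val_one, Matrix.one_kronecker_one]⟩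
  have hQx : Q⁻¹ * x * Q = Cfsg.Geo.glReindex e.symm h₀ := Units.ext (Matrix.ext_of_mulVec_single fun j => by
    rw [hQ]
    show bn.equivFun ((x : Matrix (Fin n) (Fin n) F) *ᵥ bn.equivFun.symm (Pi.single j 1)) =
      Matrix.reindex e.symm e.symm ((A : Matrix (Fin a) (Fin a) F) ⊗ₖ (B : Matrix (Fin b) (Fin b) F)) *ᵥ Pi.single j 1
    rw [show bn.equivFun.symm (Pi.single j 1) = bn j from bn.equivFun.injective (by
      funext k; simp [Pi.single_apply, eq_comm]),
      Basis.reindex_apply, Equiv.symm_symm, hβ, map_sum]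
    funext i
    rw [Finset.sum_apply, Matrix.mulVec_single_one]
    simp only [map_smul, Pi.smul_apply, smul_eq_mul]
    have hb : ∀ l, bn.equivFun (β l) i = if l = e i then 1 else 0 := fun l => by
      have hl : β l = bn (e.symm l) := by simp [bn]
      rw [hl, Basis.equivFun_self]
      by_cases h : l = e i
      · subst h; simp
      · rw [if_neg h, if_neg]
        exact fun h' => h (by rw [← h', Equiv.apply_symm_apply])
    simp only [hb, mul_ite, mul_one, mul_zero, Finset.sum_ite_eq', Finset.mem_univ, if_true]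
    simp [Matrix.col_apply])
  refine ⟨Q * P⁻¹, ⟨Cfsg.Geo.glReindex e.symm h₀, ⟨h₀, ⟨A, B, rfl⟩, rfl⟩, ?_⟩⟩
  show P * Cfsg.Geo.glReindex e.symm h₀ * P⁻¹ = (Q * P⁻¹)⁻¹ * x * (Q * P⁻¹)
  rw [← hQx]
  group

end Aux

/-- Elements of prime order of PSL_n(q) and the stabilizers of tensor decompositions with factors of different dimensions. Here `T = PSL_n(F)` for a field `F` with `q` elements and `n = a·b` with `2 ≤ a < b`; a tensor decomposition `F^n ≅ F^a ⊗ F^b` is given by a bijection `e` of index sets and a change of basis `P`, and `H` is the subgroup of matrices of determinant 1 in its stabilizer (the conjugate by `P` of the group of Kronecker products `g₁ ⊗ g₂`) — a subgroup of type GL_a(q) ⊗ GL_b(q) (maximality is not assumed); Ω is the set of cosets of `H` in `T`, so an element of `T` of prime order `r` (a matrix `x` of determinant 1 with `x^r` scalar, `x` not scalar) fixes a point of Ω exactly when some conjugate of `x` by a matrix of determinant 1 lies in `H`. Let `r` be a prime dividing the index of `H`. Then every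 element of `T` of order `r` fixes a point of Ω if and only if `r = 2`, `a = 2`, `q` is odd and `(q − 1)_2 ≤ (n)_2` (2-parts). -/
theorem result {F : Type*} [Field F] [Fintype F] {p : ℕ} [Fact p.Prime] [CharP F p] {q : ℕ} (hq : Fintype.card F = q)
    (n a b : ℕ) (hab : n = a * b) (ha : 2 ≤ a) (hlt : a < b) (e : Fin n ≃ Fin a × Fin b) (P : GL (Fin n) F)
    (r : ℕ) [Fact r.Prime]
    (hΩ : r ∣ (Cfsg.Geo.tensorProductSubgroup a b e P).relIndex (Cfsg.Geo.specialLinear (Fin n) F)) :
    (∀ x ∈ Cfsg.Geo.specialLinear (Fin n) F, (∃ z : F, ((x ^ r : GL (Fin n) F) : Matrix (Fin n) (Fin n) F) = z • (1 : Matrix (Fin n) (Fin n) F)) →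
      (∀ z : F, (x : Matrix (Fin n) (Fin n) F) ≠ z • (1 : Matrix (Fin n) (Fin n) F)) →
      ∃ g ∈ Cfsg.Geo.specialLinear (Fin n) F, g⁻¹ * x * g ∈ Cfsg.Geo.tensorProductSubgroup a b e P) ↔
    (r = 2 ∧ a = 2 ∧ Odd q ∧ padicValNat 2 (q - 1) ≤ padicValNat 2 n) := by
  classical
  subst hq
  have hr := (Fact.out : r.Prime)
  have hn6 : 6 ≤ n := by
    have : 2 * 3 ≤ a * b := Nat.mul_le_mul ha (by omega)
    omega
  have hd1 : ∀ X : Matrix (Fin n) (Fin n) F, X.det = 1 → ∃ x ∈ Cfsg.Geo.specialLinear (Fin n) F,
      ((x : GL (Fin n) F) : Matrix (Fin n) (Fin n) F) = X := fun X hX =>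
    ⟨Matrix.GeneralLinearGroup.mkOfDetNeZero X (by rw [hX]; exact one_ne_zero), Units.ext hX, rfl⟩
  -- an element with shifts of small rank fixes no point
  have hder : ∀ X : Matrix (Fin n) (Fin n) F, X.det = 1 → (∃ z : F, X ^ r = z • 1) →
      (∀ z : F, X ≠ z • 1) →
      (∀ (A : GL (Fin a) F) (B : GL (Fin b) F),
        (∀ μ : F, (X - μ • 1).rank =
          ((A : Matrix (Fin a) (Fin a) F) ⊗ₖ (B : Matrix (Fin b) (Fin b) F) - μ • 1).rank) →
        (X ^ r = 1 → ((A : Matrix (Fin a) (Fin a) F) ^ r) ⊗ₖ ((B : Matrix (Fin b) (Fin b) F) ^ r) = 1) → False) →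
      ¬ ∀ x ∈ Cfsg.Geo.specialLinear (Fin n) F,
      (∃ z : F, ((x ^ r : GL (Fin n) F) : Matrix (Fin n) (Fin n) F) = z • (1 : Matrix (Fin n) (Fin n) F)) →
      (∀ z : F, (x : Matrix (Fin n) (Fin n) F) ≠ z • (1 : Matrix (Fin n) (Fin n) F)) →
      ∃ g ∈ Cfsg.Geo.specialLinear (Fin n) F, g⁻¹ * x * g ∈ Cfsg.Geo.tensorProductSubgroup a b e P := by
    rintro X hX ⟨z, hz⟩ hns hno hall
    obtain ⟨x, hx, hxX⟩ := hd1 X hX
    obtain ⟨g, -, hg⟩ := hall x hx ⟨z, by rw [Units.val_pow_eq_pow_val, hxX]; exact hz⟩ (by rw [hxX]; exact hns)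
    obtain ⟨A, B, h1, h2⟩ := rank_eq hg
    rw [hxX] at h1
    exact hno A B h1 fun h => h2 r (Units.ext (by rw [Units.val_pow_eq_pow_val, hxX, h, Units.val_one]))
  -- shifts of ranks less than `b` and not all divisible by `a`
  have hder' : ∀ X : Matrix (Fin n) (Fin n) F, X.det = 1 → (∃ z : F, X ^ r = z • 1) →
      (∀ z : F, X ≠ z • 1) → ∀ μ ν : F, (X - μ • 1).rank < b → ¬ a ∣ (X - ν • 1).rank →
      ¬ ∀ x ∈ Cfsg.Geo.specialLinear (Fin n) F,
      (∃ z : F, ((x ^ r : GL (Fin n) F) : Matrix (Fin n) (Fin n) F) = z • (1 : Matrix (Fin n) (Fin n) F)) →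
      (∀ z : F, (x : Matrix (Fin n) (Fin n) F) ≠ z • (1 : Matrix (Fin n) (Fin n) F)) →
      ∃ g ∈ Cfsg.Geo.specialLinear (Fin n) F, g⁻¹ * x * g ∈ Cfsg.Geo.tensorProductSubgroup a b e P := by
    intro X hX hz hns μ ν hμ hν
    refine hder X hX hz hns fun A B h1 _ => ?_
    have hB : IsUnit (B : Matrix (Fin b) (Fin b) F).det := (Matrix.isUnit_iff_isUnit_det _).1 B.isUnit
    by_cases hA : ∀ c : F, (A : Matrix (Fin a) (Fin a) F) ≠ c • (1 : Matrix (Fin a) (Fin a) F)
    · have := le_rank hB hA μ
      rw [← h1] at this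
      omega
    · push Not at hA
      obtain ⟨α, hα⟩ := hA
      apply hν
      rw [h1, hα, scalar_kronecker_sub, rank_one_kronecker]
      exact dvd_mul_right _ _
  have hrank_diag : ∀ w : Fin n → F, (Matrix.diagonal w).rank = (Finset.univ.filter fun i => w i ≠ 0).card := fun w => by
    rw [Matrix.rank_diagonal, Fintype.card_subtype]
  constructor
  · intro hall
    by_cases hrp : r = p
    · -- a transvection
      exfalso
      let i₀ : Fin n := ⟨0, by omega⟩
      let i₁ : Fin n := ⟨1, by omega⟩
      have hne : i₀ ≠ i₁ := by simp [i₀, i₁, Fin.ext_iff]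
      let X : Matrix (Fin n) (Fin n) F := Matrix.transvection i₀ i₁ 1
      have hpow : ∀ k : ℕ, X ^ k = Matrix.transvection i₀ i₁ (k : F) := fun k => by
        induction k with
        | zero => simp
        | succ k ih => rw [pow_succ, ih, Matrix.transvection_mul_transvection_same _ _ hne, Nat.cast_succ]
      have hX1 : X - (1 : F) • 1 = Matrix.single i₀ i₁ (1 : F) := by simp [X, Matrix.transvection]
      have hrk : (X - (1 : F) • 1).rank = 1 := by
        rw [hX1]
        apply le_antisymm
        · rw [Matrix.rank]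
          refine (Submodule.finrank_mono (t := Submodule.span F {(Pi.single i₀ 1 : Fin n → F)}) ?_).trans ?_
          · rintro _ ⟨v, rfl⟩
            refine Submodule.mem_span_singleton.2 ⟨v i₁, funext fun i => ?_⟩
            by_cases hi : i = i₀
            · subst hi
              simp [Matrix.mulVec, dotProduct, Matrix.single_apply]
            · simp [Matrix.mulVec, dotProduct, Matrix.single_apply, hi, Ne.symm hi]
          · rw [finrank_span_singleton (fun h => by simpa using congrFun h i₀)]
        · rw [Nat.one_le_iff_ne_zero, Matrix.rank, ne_eq, Submodule.finrank_eq_zero, LinearMap.range_eq_bot]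
          intro h
          have := congrFun (LinearMap.congr_fun h (Pi.single i₁ 1)) i₀
          simp [Matrix.single_apply] at this
      refine hder' X (Matrix.det_transvection_of_ne _ _ hne _) ⟨1, ?_⟩ (fun z hz => ?_) 1 1 (by omega)
        (by rw [hrk]; exact fun h => by have := Nat.le_of_dvd one_pos h; omega) hall
      · rw [hpow, hrp, CharP.cast_eq_zero, Matrix.transvection_zero, one_smul]
      · have := congrFun (congrFun hz i₀) i₁
        simp [X, Matrix.transvection, hne] at this
    have hr0 : (r : F) ≠ 0 := fun h =>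
      hrp ((Nat.prime_dvd_prime_iff_eq (Fact.out : p.Prime) hr).1 ((CharP.cast_eq_zero_iff F p r).1 h)).symm
    by_cases hr2 : r = 2
    · subst hr2
      have h2 : (2 : F) ≠ 0 := by exact_mod_cast hr0
      have hc2 : ringChar F ≠ 2 := fun h => h2 (by
        have h' := ringChar.Nat.cast_ringChar (R := F)
        rw [h] at h'
        exact_mod_cast h')
      have hodd : Odd (Fintype.card F) := Nat.odd_iff.2 (FiniteField.odd_card_of_char_ne_two hc2)
      by_cases ha2 : a = 2
      · refine ⟨rfl, ha2, hodd, ?_⟩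
        by_contra hlt
        push Not at hlt
        obtain ⟨μ, hμ⟩ := (InvCl.exists_pow_eq_neg_one_iff (F := F) hc2 (n := n) (by omega)).2 hlt
        obtain ⟨x, i₀, hx2, hxns, hxv⟩ := InvCl.exists_bad_diagonal hμ (by omega) h2
        have hX : (x : Matrix (Fin n) (Fin n) F) - μ • 1 = Matrix.diagonal fun i => if i = i₀ then -μ - μ else 0 := by
          refine Matrix.ext_of_mulVec_single fun j => funext fun i => ?_
          rw [Matrix.sub_mulVec, Matrix.smul_mulVec, Matrix.one_mulVec, Matrix.mulVec_diagonal, Pi.sub_apply, hxv,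
            Pi.smul_apply, smul_eq_mul]
          split_ifs <;> ring
        have hμ0 : μ ≠ 0 := fun h => by
          rw [h, zero_pow (by omega)] at hμ
          exact neg_ne_zero.2 one_ne_zero hμ.symm
        have hrk : ((x : Matrix (Fin n) (Fin n) F) - μ • 1).rank = 1 := by
          rw [hX, hrank_diag, Finset.card_eq_one]
          refine ⟨i₀, ?_⟩
          ext i
          by_cases hi : i = i₀
          · subst hi
            simp only [Finset.mem_filter, Finset.mem_univ, true_and, if_true, Finset.mem_singleton, iff_true]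
            intro h
            exact mul_ne_zero h2 hμ0 (by linear_combination -h)
          · simp [hi]
        exact hder' _ x.2 ⟨_, (Matrix.SpecialLinearGroup.coe_pow x 2).symm.trans hx2⟩ hxns μ μ (by omega)
          (fun h => by rw [hrk] at h; have := Nat.le_of_dvd one_pos h; omega) hall
      · exfalso
        let D : Fin n → F := fun i => if i.1 < 2 then -1 else 1
        have hne : (-1 : F) ≠ 1 := fun h => h2 (by linear_combination -h)
        have hcard : (Finset.univ.filter fun i : Fin n => i.1 < 2).card = 2 := by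
          rw [show (Finset.univ.filter fun i : Fin n => i.1 < 2) = {⟨0, by omega⟩, ⟨1, by omega⟩} by
            ext i; simp [Fin.ext_iff]; omega]
          exact Finset.card_pair (by simp [Fin.ext_iff])
        have hrk : (Matrix.diagonal D - (1 : F) • 1).rank = 2 := by
          rw [Matrix.smul_one_eq_diagonal, Matrix.diagonal_sub, hrank_diag, ← hcard]
          congr 1
          ext i
          simp only [Finset.mem_filter, Finset.mem_univ, true_and, D]
          split_ifs with hi
          · simp [hi, sub_ne_zero, hne]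
          · simp [hi]
        refine hder' (Matrix.diagonal D) ?_ ⟨1, ?_⟩ (fun z hz => hne ?_) 1 1 (by omega)
          (by rw [hrk]; intro h; have := Nat.le_of_dvd two_pos h; omega) hall
        · rw [Matrix.det_diagonal, Finset.prod_ite, Finset.prod_const, Finset.prod_const, hcard]
          simp
        · rw [one_smul, Matrix.diagonal_pow, ← Matrix.diagonal_one]
          congr 1
          funext i
          simp only [Pi.pow_apply, D]
          split_ifs <;> simp
        · have h0 := congrFun (congrFun hz ⟨0, by omega⟩) ⟨0, by omega⟩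
          have h3 := congrFun (congrFun hz ⟨2, by omega⟩) ⟨2, by omega⟩
          simp [D] at h0 h3
          rw [h0, h3]
    · exfalso
      have hrq : ¬ r ∣ Fintype.card F := fun h => by
        obtain ⟨k, hp, hk⟩ := FiniteField.card F p
        rw [hk] at h
        exact hrp ((Nat.prime_dvd_prime_iff_eq hr hp).1 (hr.dvd_of_dvd_pow h))
      by_cases hq1 : r ∣ Fintype.card F - 1
      · rw [← Fintype.card_units] at hq1
        obtain ⟨ω, hω⟩ := exists_prime_orderOf_dvd_card r hq1
        have hωr : (ω : F) ^ r = 1 := by rw [← Units.val_pow_eq_pow_val, ← hω, pow_orderOf_eq_one, Units.val_one]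
        have hω0 : (ω : F) ≠ 0 := ω.ne_zero
        have hω1 : (ω : F) ≠ 1 := fun h => by
          rw [Units.val_eq_one.1 h, orderOf_one] at hω
          exact hr.one_lt.ne hω
        have hω2 : (ω : F)⁻¹ ≠ ω := fun h => by
          have h2 : ω ^ 2 = 1 := Units.ext (by
            rw [Units.val_pow_eq_pow_val, Units.val_one, pow_two]
            conv_lhs => arg 1; rw [← h]
            exact inv_mul_cancel₀ hω0)
          have h3 := Nat.le_of_dvd two_pos (orderOf_dvd_of_pow_eq_one h2)
          rw [hω] at h3
          have := hr.two_le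
          omega
        let D : Fin n → F := fun i => if i.1 = 0 then (ω : F) else if i.1 = 1 then (ω : F)⁻¹ else 1
        have hrk1 : (Matrix.diagonal D - (1 : F) • 1).rank = 2 := by
          rw [Matrix.smul_one_eq_diagonal, Matrix.diagonal_sub, hrank_diag,
            show (Finset.univ.filter fun i : Fin n => D i - 1 ≠ 0) = {⟨0, by omega⟩, ⟨1, by omega⟩} by
              ext i
              simp only [Finset.mem_filter, Finset.mem_univ, true_and, D, Finset.mem_insert, Finset.mem_singleton,
                Fin.ext_iff]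
              split_ifs with h h'
              · simp [h, sub_ne_zero, hω1]
              · simp [h', sub_ne_zero, inv_ne_one.2 hω1]
              · simp [h, h']]
          exact Finset.card_pair (by simp [Fin.ext_iff])
        have hrk2 : (Matrix.diagonal D - (ω : F) • 1).rank = n - 1 := by
          rw [Matrix.smul_one_eq_diagonal, Matrix.diagonal_sub, hrank_diag,
            show (Finset.univ.filter fun i : Fin n => D i - (ω : F) ≠ 0) = Finset.univ.erase ⟨0, by omega⟩ by
              ext i
              simp only [Finset.mem_filter, Finset.mem_univ, true_and, D, Finset.mem_erase, ne_eq, Fin.ext_iff,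
                and_true]
              split_ifs with h h'
              · simp [h]
              · simp [h', sub_eq_zero, hω2]
              · simp [h, sub_eq_zero, Ne.symm hω1]]
          simp
        refine hder' (Matrix.diagonal D) ?_ ⟨1, ?_⟩ (fun z hz => hω1 ?_) 1 (ω : F) (by omega) ?_ hall
        · rw [Matrix.det_diagonal, Finset.prod_eq_mul (⟨0, by omega⟩ : Fin n) ⟨1, by omega⟩ (by simp [Fin.ext_iff])]
          · simp [D, hω0]
          · intro i _ hi
            have h1 : i.1 ≠ 0 := fun h => hi.1 (Fin.ext h)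
            have h2 : i.1 ≠ 1 := fun h => hi.2 (Fin.ext h)
            simp [D, h1, h2]
          · simp
          · simp
        · rw [one_smul, Matrix.diagonal_pow, ← Matrix.diagonal_one]
          congr 1
          funext i
          simp only [Pi.pow_apply, D]
          split_ifs <;> simp [inv_pow, hωr]
        · have h0 := congrFun (congrFun hz ⟨0, by omega⟩) ⟨0, by omega⟩
          have h3 := congrFun (congrFun hz ⟨2, by omega⟩) ⟨2, by omega⟩
          simp [D] at h0 h3
          rw [h0, h3]
        · rw [hrk2]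
          intro h
          have h' : a ∣ n := ⟨b, hab⟩
          have := Nat.dvd_sub h' h
          rw [show n - (n - 1) = 1 by omega] at this
          have := Nat.le_of_dvd one_pos this
          omega
      · -- one irreducible block
        set c := orderOf (Fintype.card F : ZMod r) with hc
        have hc2 : 2 ≤ c := by
          have hq0 : (Fintype.card F : ZMod r) ≠ 0 := fun h => hrq ((ZMod.natCast_eq_zero_iff _ _).1 h)
          have h0 : 0 < c := orderOf_pos_iff.2 (isOfFinOrder_iff_pow_eq_one.2
            ⟨r - 1, by have := hr.two_le; omega, ZMod.pow_card_sub_one_eq_one hq0⟩)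
          by_contra hlt
          have h1 : c = 1 := by omega
          rw [hc, orderOf_eq_one_iff] at h1
          refine hq1 ?_
          rw [← ZMod.natCast_eq_zero_iff, Nat.cast_sub Fintype.card_pos, h1, Nat.cast_one, sub_self]
        have hcn : c ≤ n := by
          have h1 : r ∣ Nat.card (GL (Fin n) F) :=
            (hΩ.trans (Subgroup.index_dvd_card _)).trans (Subgroup.card_subgroup_dvd_card _)
          rw [Matrix.card_GL_field, hr.prime.dvd_finsetProd_iff] at h1
          obtain ⟨i, -, hi⟩ := h1
          have hpow : Fintype.card F ^ n - Fintype.card F ^ (i : ℕ) =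
              Fintype.card F ^ (i : ℕ) * (Fintype.card F ^ (n - i) - 1) := by
            rw [Nat.mul_sub_one, ← pow_add, Nat.add_sub_cancel' i.2.le]
          rw [hpow] at hi
          have h2 := (hr.dvd_mul.1 hi).resolve_left fun h => hrq (hr.dvd_of_dvd_pow h)
          rw [← ZMod.natCast_eq_zero_iff, Nat.cast_sub (Nat.one_le_pow _ _ Fintype.card_pos), sub_eq_zero,
            Nat.cast_pow, Nat.cast_one] at h2
          have h3 := Nat.le_of_dvd (by omega) (orderOf_dvd_of_pow_eq_one h2)
          omega
        obtain ⟨T₁, hT₁, hT₁d, -, hT₁fix⟩ := LinElusive.exists_semisimple_witness hr0 (n := c) hc2 le_rfl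
        rw [← hc, Nat.mod_self, Nat.le_zero, Submodule.finrank_eq_zero] at hT₁fix
        let W := (Fin c → F) × (Fin (n - c) → F)
        let T₀ : Module.End F W := LinearMap.prodMap T₁ LinearMap.id
        let ee : W ≃ₗ[F] (Fin n → F) := LinearEquiv.ofFinrankEq _ _ (by
          simp only [W, Module.finrank_prod, Module.finrank_fin_fun]; omega)
        let T : Module.End F (Fin n → F) := ee.conjAlgEquiv F T₀
        have hTe : ∀ w : W, T (ee w) = ee (T₁ w.1, w.2) := fun w => by
          simp [T, T₀, LinearEquiv.conjAlgEquiv_apply]; rfl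
        let X := LinearMap.toMatrixAlgEquiv' T
        have hXa : ∀ v, X *ᵥ v = T v := fun v => LinearMap.toMatrix'_mulVec T v
        have hXr : X ^ r = 1 := by
          have hT₀ : ∀ (m : ℕ) (w : W), (T₀ ^ m) w = ((T₁ ^ m) w.1, w.2) := by
            intro m
            induction m with
            | zero => intro w; rfl
            | succ m ih => intro w; rw [pow_succ', Module.End.mul_apply, ih, pow_succ']; rfl
          rw [← map_pow, ← map_pow, show T₀ ^ r = 1 from LinearMap.ext fun w => by rw [hT₀, hT₁]; rfl, map_one,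
            map_one]
        have hrk : (X - (1 : F) • 1).rank = c := by
          have hker : LinearMap.ker (X - (1 : F) • 1).mulVecLin =
              LinearMap.range (ee.toLinearMap.comp (LinearMap.inr F _ _)) := by
            ext v
            obtain ⟨w, rfl⟩ := ee.surjective v
            rw [LinearMap.mem_ker, Matrix.mulVecLin_apply, Matrix.sub_mulVec, one_smul, Matrix.one_mulVec,
              sub_eq_zero, hXa, hTe, ee.injective.eq_iff]
            constructor
            · intro h
              have h1 : w.1 ∈ T₁.eigenspace 1 := by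
                rw [Module.End.mem_eigenspace_iff, one_smul]
                exact congrArg Prod.fst h
              rw [hT₁fix, Submodule.mem_bot] at h1
              exact ⟨w.2, congrArg ee (Prod.ext h1.symm rfl)⟩
            · rintro ⟨u, hu⟩
              have := ee.injective hu
              rw [← this]
              show (T₁ (0 : Fin c → F), u) = ((0 : Fin c → F), u)
              rw [map_zero]
          have h1 := LinearMap.finrank_range_add_finrank_ker (X - (1 : F) • 1).mulVecLin
          rw [hker, LinearMap.finrank_range_of_inj (f := ee.toLinearMap.comp (LinearMap.inr F _ _))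
            (fun u v h => LinearMap.inr_injective (ee.injective h)), finrank_fin_fun, finrank_fin_fun] at h1
          rw [Matrix.rank]
          omega
        have hXd : X.det = 1 := by
          show (LinearMap.toMatrix' T).det = 1
          rw [LinearMap.det_toMatrix']
          show LinearMap.det (ee.conjAlgEquiv F T₀) = 1
          rw [LinearEquiv.conjAlgEquiv_apply]
          refine (LinearMap.det_conj _ ee).trans ?_
          rw [LinearMap.det_prodMap, hT₁d, LinearMap.det_id, one_mul]
        refine hder X hXd ⟨1, by rw [one_smul]; exact hXr⟩ (fun z hz => ?_) (fun A B h1 h2 => ?_) hall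
        · have h := hXr
          rw [hz, smul_pow, one_pow] at h
          have h0 := congrFun (congrFun h ⟨0, by omega⟩) ⟨0, by omega⟩
          simp at h0
          have hz1 : z = 1 := by
            by_contra hne
            have hz0 : z ≠ 0 := fun hz' => by simp [hz', hr.ne_zero] at h0
            exact hq1 (orderOf_eq_prime h0 hne ▸ orderOf_dvd_of_pow_eq_one (FiniteField.pow_card_sub_one_eq_one z hz0))
          rw [hz, hz1, sub_self, Matrix.rank_zero] at hrk
          omega
        obtain ⟨α, hα, hAr, hBr⟩ := scalar_of_kronecker_one (by omega) (by omega) (h2 hXr)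
        have hroot : ∀ γ : F, γ ≠ 0 → ∃ δ : F, δ ≠ 0 ∧ δ ^ r = γ := fun γ hγ => by
          have hcop : (Nat.card Fˣ).Coprime r := by
            rw [Nat.card_eq_fintype_card, Fintype.card_units]
            exact ((hr.coprime_iff_not_dvd).2 hq1).symm
          obtain ⟨δ, hδ⟩ := (powCoprime hcop).surjective (Units.mk0 γ hγ)
          exact ⟨δ, δ.ne_zero, by simpa [powCoprime] using congrArg Units.val hδ⟩
        by_cases hA : ∀ c : F, (A : Matrix (Fin a) (Fin a) F) ≠ c • (1 : Matrix (Fin a) (Fin a) F)
        · have h3 := le_rank ((Matrix.isUnit_iff_isUnit_det _).1 B.isUnit) hA 1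
          rw [← h1, hrk] at h3
          obtain ⟨δ, hδ, hδr⟩ := hroot α hα
          have hA' : (δ⁻¹ • (A : Matrix (Fin a) (Fin a) F)) ^ r = 1 := by
            rw [smul_pow, hAr, smul_smul, inv_pow, hδr, inv_mul_cancel₀ hα, one_smul]
          have h4 := dvd_rank_sub_one hr0 hA'
          rw [← hc] at h4
          have h5 : (δ⁻¹ • (A : Matrix (Fin a) (Fin a) F) - 1).rank ≠ 0 := by
            intro h0
            rw [Matrix.rank, Submodule.finrank_eq_zero, LinearMap.range_eq_bot] at h0
            refine hA δ (Matrix.ext_of_mulVec_single fun i => ?_)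
            have := LinearMap.congr_fun h0 (Pi.single i 1)
            rw [Matrix.mulVecLin_apply, Matrix.sub_mulVec, LinearMap.zero_apply, sub_eq_zero, Matrix.smul_mulVec,
              inv_smul_eq_iff₀ hδ] at this
            rw [this, Matrix.smul_mulVec]
          have h6 := Nat.le_of_dvd (Nat.pos_of_ne_zero h5) h4
          have h7 := Matrix.rank_le_card_width (δ⁻¹ • (A : Matrix (Fin a) (Fin a) F) - 1)
          rw [Fintype.card_fin] at h7
          omega
        · push Not at hA
          obtain ⟨α₀, hα₀⟩ := hA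
          have hB' : (α₀ • (B : Matrix (Fin b) (Fin b) F)) ^ r = 1 := by
            have h8 : α₀ ^ r = α := by
              rw [hα₀, smul_pow, one_pow] at hAr
              have := congrFun (congrFun hAr ⟨0, by omega⟩) ⟨0, by omega⟩
              simpa using this
            rw [smul_pow, hBr, smul_smul, h8, mul_inv_cancel₀ hα, one_smul]
          have h3 := dvd_rank_sub_one hr0 hB'
          rw [← hc] at h3
          have h4 := h1 1
          rw [hrk, hα₀, scalar_kronecker_sub, rank_one_kronecker, one_smul] at h4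
          obtain ⟨k, hk⟩ := h3
          rw [hk] at h4
          rcases Nat.eq_zero_or_pos k with hk0 | hk0
          · subst hk0; simp at h4; omega
          · have : 2 * c ≤ a * (c * k) := Nat.mul_le_mul ha (Nat.le_mul_of_pos_right c hk0)
            omega
  · rintro ⟨rfl, rfl, hodd, hv⟩ x hx ⟨z, hz⟩ -
    have hc2 : ringChar F ≠ 2 := fun h => by
      haveI : CharP F 2 := h ▸ ringChar.charP F
      obtain ⟨k, -, hk⟩ := FiniteField.card F 2
      rw [hk, Nat.odd_pow_iff k.ne_zero] at hodd
      exact absurd hodd (by decide)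
    have h2 : (2 : F) ≠ 0 := Ring.two_ne_zero hc2
    let x' : Matrix.SpecialLinearGroup (Fin n) F := ⟨(x : Matrix (Fin n) (Fin n) F), congrArg Units.val hx⟩
    have hx' : Matrix.SpecialLinearGroup.toGL x' = x := Units.ext rfl
    have hz' : ((x' ^ 2 : Matrix.SpecialLinearGroup (Fin n) F) : Matrix (Fin n) (Fin n) F) = z • 1 := by
      rw [Matrix.SpecialLinearGroup.coe_pow, ← hz, Units.val_pow_eq_pow_val]
    have hL := InvCl.sl_sq hz'
    suffices hgl : ∃ Q : GL (Fin n) F, Q⁻¹ * x * Q ∈ Cfsg.Geo.tensorProductSubgroup 2 b e P by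
      obtain ⟨S, hS⟩ := (InvCl.exists_sl_conj_iff (by omega) x' hz' _).2 (by rwa [hx'])
      refine ⟨Matrix.SpecialLinearGroup.toGL S, Units.ext S.2, ?_⟩
      have := Subgroup.mem_comap.1 hS
      rwa [map_mul, map_mul, map_inv, hx'] at this
    have hz0 : z ≠ 0 := fun h => by
      rw [h, zero_smul] at hz'
      have := (x' ^ 2).2
      haveI hne : Nonempty (Fin n) := ⟨⟨0, by omega⟩⟩
      rw [hz', Matrix.det_zero] at this
      exact zero_ne_one this
    by_cases hsq : ∃ μ : F, μ * μ = z
    · obtain ⟨μ, rfl⟩ := hsq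
      have hμ : μ ≠ 0 := fun h => hz0 (by rw [h, mul_zero])
      obtain ⟨g, β, hg, hgμ, δ, hδ, hgd⟩ := InvCl.exists_plane_basis (d := b) h2 hμ
        (L := Matrix.toLin' (x' : Matrix (Fin n) (Fin n) F)) hL ((LinearMap.det_toLin' _).trans x'.2) (by omega)
        (fun h => by
          have := (InvCl.exists_pow_eq_neg_one_iff (F := F) hc2 (n := n) (by omega)).1 ⟨μ, h⟩
          omega)
      have hg0 : ∀ k, g k ≠ 0 := fun k => by
        rcases hgμ k with h | h <;> rw [h] <;> simp [hμ]
      let s : F := δ / (μ * μ)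
      have hg1 : ∀ i, g (i, 1) = s * g (i, 0) := fun i => by
        have hsq : g (i, 0) * g (i, 0) = μ * μ := by rcases hgμ (i, 0) with h | h <;> rw [h] <;> ring
        show g (i, 1) = δ / (μ * μ) * g (i, 0)
        rw [← hsq, ← hgd i]
        field_simp [hg0 (i, 0)]
      have hs0 : s ≠ 0 := div_ne_zero (by
        rcases hδ with h | h <;> rw [h] <;> simp [hμ]) (mul_ne_zero hμ hμ)
      refine exists_tensor_conj (Matrix.GeneralLinearGroup.mkOfDetNeZero (Matrix.diagonal ![1, s]) ?_)
        (Matrix.GeneralLinearGroup.mkOfDetNeZero (Matrix.diagonal fun i => g (i, 0)) ?_)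
        (β.reindex (Equiv.prodComm _ _)) fun k => ?_
      · rw [Matrix.det_diagonal, Fin.prod_univ_two]; simp [hs0]
      · rw [Matrix.det_diagonal, Finset.prod_ne_zero_iff]; exact fun i _ => hg0 (i, 0)
      · show (x : Matrix (Fin n) (Fin n) F) *ᵥ _ = ∑ l, (Matrix.diagonal ![1, s] ⊗ₖ Matrix.diagonal fun i => g (i, 0)) l k • _
        rw [Matrix.diagonal_kronecker_diagonal, Finset.sum_eq_single k]
        · rw [Matrix.diagonal_apply_eq, Basis.reindex_apply]
          refine (hg _).trans ?_
          obtain ⟨s', i⟩ := k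
          fin_cases s' <;> simp [hg1]
        · intro l _ hl
          rw [Matrix.diagonal_apply_ne _ hl, zero_smul]
        · intro h
          exact absurd (Finset.mem_univ k) h
    · obtain ⟨ι, ν, _, _, c, β, h0, h1, -, h3⟩ := InvCl.exists_split (Matrix.toLin' (x' : Matrix (Fin n) (Fin n) F)) z hL
      haveI : IsEmpty ν := ⟨fun j => hsq ⟨c, h3 ⟨j⟩⟩⟩
      have hcard : Fintype.card ι = b := by
        have h := (Module.finrank_eq_card_basis β).symm
        rw [finrank_fin_fun, Fintype.card_sum, Fintype.card_prod, Fintype.card_fin, Fintype.card_eq_zero (α := ν)] at h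
        omega
      let σ : (ι × Fin 2) ⊕ ν ≃ Fin 2 × Fin b :=
        ((Equiv.sumEmpty _ _).trans (Equiv.prodComm _ _)).trans
          (Equiv.prodCongr (Equiv.refl _) (Fintype.equivFinOfCardEq hcard))
      refine exists_tensor_conj (Matrix.GeneralLinearGroup.mkOfDetNeZero !![0, z; 1, 0] ?_) 1 (β.reindex σ) fun k => ?_
      · simp [Matrix.det_fin_two_of, hz0]
      · obtain ⟨⟨i, s⟩ | j, rfl⟩ := σ.surjective k
        · rw [Basis.reindex_apply, Equiv.symm_apply_apply]
          show (x : Matrix (Fin n) (Fin n) F) *ᵥ β (Sum.inl (i, s)) =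
            ∑ l, (!![0, z; 1, 0] ⊗ₖ (1 : Matrix (Fin b) (Fin b) F)) l (σ (Sum.inl (i, s))) • _
          rw [← σ.sum_comp, Fintype.sum_sum_type, Fintype.sum_empty (ι := ν), add_zero, Fintype.sum_prod_type,
            Finset.sum_eq_single i]
          · simp only [Basis.reindex_apply, Equiv.symm_apply_apply, Fin.sum_univ_two, σ]
            fin_cases s
            · simpa [Matrix.kroneckerMap_apply, Matrix.one_apply] using h0 i
            · simpa [Matrix.kroneckerMap_apply, Matrix.one_apply] using h1 i
          · intro i' _ hi'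
            simp only [Basis.reindex_apply, Equiv.symm_apply_apply, Fin.sum_univ_two, σ]
            simp [Matrix.kroneckerMap_apply, Matrix.one_apply, hi', Ne.symm hi']
          · intro h
            exact absurd (Finset.mem_univ i) h
        · exact isEmptyElim j

end Cfsg.Agent.S5979
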