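import Cfsg.Statements.S5980
import Cfsg.Agent.S5961
import Cfsg.Agent.S5979
import Cfsg.Agent.Lib.Classical.TensorNonMax
import Cfsg.Agent.Lib.Classical.SympCount
import Cfsg.Agent.Lib.Classical.SympWitt
-- import your own Cfsg.Agent.* helpers here

set_option autoImplicit false
open scoped MatrixGroups
open Cfsg

namespace Cfsg.Agent.S5980

open Module Matrix CfsgLib.Classical CfsgLib.Derangements
open scoped Kronecker

section Moved

variable {F : Type*} [Field F] {V : Type*} [AddCommGroup V] [Module F V] [FiniteDimensional F V]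
  {β : V →ₗ[F] V →ₗ[F] F}

/-- An isometry of odd order moves a space of even dimension. -/
theorem even_moved (hβ : β.SeparatingRight) (h2 : (2 : F) ≠ 0) {r : ℕ} (hr2 : Odd r) (hr : (r : F) ≠ 0)
    {T : Module.End F V} (hiso : ∀ u v, β (T u) (T v) = β u v) (hT : T ^ r = 1) :
    Even (finrank F (LinearMap.range (T - 1))) := by
  set R := LinearMap.range (T - 1) with hR
  have hTR : ∀ v ∈ R, T v ∈ R := by
    rintro _ ⟨w, rfl⟩
    exact ⟨T w, by simp [map_sub]⟩
  have hdisj : ∀ v ∈ R, T v = v → v = 0 := by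
    rintro _ ⟨w, rfl⟩ hfix
    set v := (T - 1) w with hv
    have hw : T w = w + v := by rw [hv]; simp
    have key : ∀ n : ℕ, (T ^ n) w = w + (n : F) • v := fun n => by
      induction n with
      | zero => simp
      | succ n ih =>
        rw [pow_succ', Module.End.mul_apply, ih, map_add, map_smul, hfix, hw, Nat.cast_succ, add_smul, one_smul]
        abel
    have h := key r
    rw [hT, Module.End.one_apply, left_eq_add] at h
    exact (smul_eq_zero.1 h).resolve_left hr
  have hK : ∀ v, v ∈ LinearMap.ker (T - 1) ↔ T v = v := fun v => by simp [sub_eq_zero]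
  have hsup : LinearMap.ker (T - 1) ⊔ R = ⊤ := by
    refine Submodule.eq_top_of_disjoint _ _ ?_ (Submodule.disjoint_def.2 fun v hv hv' => hdisj v hv' ((hK v).1 hv))
    have := LinearMap.finrank_range_add_finrank_ker (T - 1)
    rw [← hR] at this
    omega
  let βR : R →ₗ[F] R →ₗ[F] F := β.domRestrict₁₂ R R
  have hsep : βR.SeparatingRight := fun y hy => Subtype.ext (hβ y.1 fun u => by
    obtain ⟨z, hz, v, hv, rfl⟩ := Submodule.mem_sup.1 (hsup ▸ Submodule.mem_top (x := u))
    obtain ⟨w, hw⟩ := y.2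
    have h1 : β z (y : V) = 0 := by
      rw [← hw, LinearMap.sub_apply, Module.End.one_apply, map_sub, sub_eq_zero]
      conv_lhs => rw [← (hK z).1 hz]
      rw [hiso]
    rw [map_add, LinearMap.add_apply, h1, zero_add]
    exact hy ⟨v, hv⟩)
  let TR : Module.End F R := T.restrict hTR
  have hTRr : TR ^ r = 1 := by
    have key : ∀ n : ℕ, ∀ v : R, (((TR ^ n) v : R) : V) = (T ^ n) v := fun n => by
      induction n with
      | zero => simp
      | succ n ih =>
        intro v
        rw [pow_succ', pow_succ', Module.End.mul_apply, Module.End.mul_apply, ← ih]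
        rfl
    exact LinearMap.ext fun v => Subtype.ext (by rw [key, hT]; rfl)
  let bR := Module.finBasis F R
  set M := LinearMap.toMatrix bR bR TR with hM
  set Gm := LinearMap.toMatrix₂ bR bR βR with hG
  have hMG : Mᵀ * Gm * M = Gm := by
    rw [hM, hG, ← LinearMap.toMatrix₂_compl₁₂ bR bR bR bR βR TR TR]
    congr 1
    exact LinearMap.ext fun u => LinearMap.ext fun v => hiso u v
  have hGd : Gm.det ≠ 0 := (LinearMap.separatingRight_iff_det_ne_zero bR).1 hsep
  have hMd : M.det = 1 := by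
    have h1 : M.det ^ 2 = 1 := by
      have h := congrArg Matrix.det hMG
      rw [Matrix.det_mul, Matrix.det_mul, Matrix.det_transpose] at h
      exact mul_right_cancel₀ hGd (show M.det ^ 2 * Gm.det = 1 * Gm.det by linear_combination h)
    have h3 : M.det ^ r = 1 := by
      rw [hM, LinearMap.det_toMatrix, ← map_pow, hTRr, map_one]
    have := pow_gcd_eq_one.2 ⟨h1, h3⟩
    rwa [(Nat.coprime_two_left.2 hr2).gcd_eq_one, pow_one] at this
  have hN : (M - 1).det ≠ 0 := by
    rw [hM, ← LinearMap.toMatrix_one bR, ← map_sub, LinearMap.det_toMatrix]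
    intro h
    obtain ⟨v, hv, hv0⟩ := (Submodule.ne_bot_iff _).1 (LinearMap.bot_lt_ker_of_det_eq_zero h).ne'
    refine hv0 (Subtype.ext (hdisj v.1 v.2 ?_))
    rw [LinearMap.mem_ker, LinearMap.sub_apply, Module.End.one_apply, sub_eq_zero] at hv
    exact congrArg Subtype.val hv
  have hid : (M - 1)ᵀ * Gm * M = -(Gm * (M - 1)) := by
    rw [Matrix.transpose_sub, Matrix.transpose_one, sub_mul, sub_mul, hMG, one_mul, mul_sub, mul_one]
    abel
  have h := congrArg Matrix.det hid
  rw [Matrix.det_mul, Matrix.det_mul, Matrix.det_transpose, hMd, mul_one, Matrix.det_neg, Fintype.card_fin,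
    Matrix.det_mul] at h
  have h' : (-1 : F) ^ finrank F R = 1 :=
    (mul_right_cancel₀ (mul_ne_zero hN hGd)
      (show (1 : F) * ((M - 1).det * Gm.det) = (-1) ^ finrank F R * ((M - 1).det * Gm.det) by
        linear_combination h)).symm
  refine (neg_one_pow_eq_one_iff_even ?_).1 h'
  exact fun e => h2 (by linear_combination -e)

/-- Involutory isometries moving spaces of the same dimension are conjugate. -/
theorem inv_conj (hA : β.IsAlt) (hN : β.Nondegenerate) (h2 : (2 : F) ≠ 0) {T T' : Module.End F V}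
    (hT : ∀ u v, β (T u) (T v) = β u v) (hT' : ∀ u v, β (T' u) (T' v) = β u v)
    (hTT : ∀ v, T (T v) = v) (hTT' : ∀ v, T' (T' v) = v) :
    Even (finrank F (LinearMap.range (T - 1))) ∧
    (finrank F (LinearMap.range (T - 1)) = finrank F (LinearMap.range (T' - 1)) →
      ∃ g : isomGroup β, ∀ v, g.1 (T v) = T' (g.1 v)) := by
  have facts : ∀ S : Module.End F V, (∀ u v, β (S u) (S v) = β u v) → (∀ v, S (S v) = v) →
      (∀ v ∈ LinearMap.range (S - 1), S v = -v) ∧
      (∀ u v, S u = u → v ∈ LinearMap.range (S - 1) → β u v = 0) ∧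
      (∀ v, ∃ r ∈ LinearMap.range (S - 1), ∃ w, S w = w ∧ v = r + w) ∧
      (restrictForm β (LinearMap.range (S - 1))).Nondegenerate := by
    intro S hS hSS
    have h1 : ∀ v ∈ LinearMap.range (S - 1), S v = -v := by
      rintro _ ⟨w, rfl⟩
      simp [hSS]
    have h3 : ∀ u v, S u = u → v ∈ LinearMap.range (S - 1) → β u v = 0 := fun u v hu hv => by
      have h := hS u v
      rw [hu, h1 v hv, map_neg] at h
      exact (mul_eq_zero.1 (show (2 : F) * β u v = 0 by linear_combination -h)).resolve_left h2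
    have h4 : ∀ v, ∃ r ∈ LinearMap.range (S - 1), ∃ w, S w = w ∧ v = r + w := fun v => by
      refine ⟨(S - 1) ((-(2 : F)⁻¹) • v), ⟨_, rfl⟩, (2 : F)⁻¹ • (v + S v), ?_, ?_⟩
      · rw [map_smul, map_add, hSS, add_comm]
      · rw [LinearMap.sub_apply, Module.End.one_apply, map_smul, smul_add, neg_smul, neg_smul]
        have : v = (2 : F)⁻¹ • v + (2 : F)⁻¹ • v := by
          rw [← add_smul, ← two_mul, mul_inv_cancel₀ h2, one_smul]
        conv_lhs => rw [this]
        abel
    refine ⟨h1, h3, h4, restrictForm_nondegenerate hA.isRefl (nondegOn_iff.2 fun x hx hxo => hN.2 x fun u => ?_)⟩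
    obtain ⟨r, hr, w, hw, rfl⟩ := h4 u
    rw [map_add, LinearMap.add_apply, hxo r hr, h3 w x hw hx, add_zero]
  obtain ⟨hneg, hort, hdec, hnd⟩ := facts T hT hTT
  obtain ⟨hneg', hort', hdec', hnd'⟩ := facts T' hT' hTT'
  obtain ⟨m, b, hb⟩ := exists_sympBasis (restrictForm_isAlt hA (LinearMap.range (T - 1))) hnd
  have hm : finrank F (LinearMap.range (T - 1)) = 2 * m := by
    rw [Module.finrank_eq_card_basis b, Fintype.card_sum, Fintype.card_fin, two_mul]
  refine ⟨⟨m, by omega⟩, fun he => ?_⟩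
  obtain ⟨m', b', hb'⟩ := exists_sympBasis (restrictForm_isAlt hA (LinearMap.range (T' - 1))) hnd'
  have hm' : finrank F (LinearMap.range (T' - 1)) = 2 * m' := by
    rw [Module.finrank_eq_card_basis b', Fintype.card_sum, Fintype.card_fin, two_mul]
  obtain rfl : m = m' := by omega
  let E := b.equiv b' (Equiv.refl _)
  obtain ⟨g, hg⟩ := witt_alt hA hN (LinearMap.range (T - 1))
    ((LinearMap.range (T' - 1)).subtype.comp E.toLinearMap)
    (fun u v e => E.injective (Subtype.ext e))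
    (fun u v => IsSympFamily.basisEquiv_mem (restrictForm_isAlt hA _) (restrictForm_isAlt hA _) b b' hb hb' u v)
  refine ⟨g, fun v => ?_⟩
  have hfix : ∀ w, T w = w → T' (g.1 w) = g.1 w := fun w hw => by
    obtain ⟨r', hr', w', hw', e⟩ := hdec' (g.1 w)
    have h0 : r' = 0 := congrArg Subtype.val (hnd'.2 ⟨r', hr'⟩ fun z => by
      obtain ⟨z₀, rfl⟩ := E.surjective z
      show β ((E z₀ : LinearMap.range (T' - 1)) : V) r' = 0
      have h1 : g.1 (z₀ : V) = ((E z₀ : LinearMap.range (T' - 1)) : V) := hg z₀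
      have h5 : β (g.1 (z₀ : V)) (g.1 w) = 0 := by
        rw [isomGroup_apply]
        exact hA.isRefl _ _ (hort w _ hw z₀.2)
      rw [h1, e, map_add, hA.isRefl _ _ (hort' w' _ hw' (E z₀).2), add_zero] at h5
      exact h5)
    rw [e, h0, zero_add, hw']
  obtain ⟨r, hr, w, hw, rfl⟩ := hdec v
  rw [map_add T, hneg r hr, hw, map_add, map_add, map_neg, map_add, hfix w hw]
  have h1 : g.1 r = ((E ⟨r, hr⟩ : LinearMap.range (T' - 1)) : V) := hg ⟨r, hr⟩
  rw [h1, hneg' _ (E ⟨r, hr⟩).2]

end Moved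

section Kron

variable {F : Type*} [Field F] {a b : ℕ}

/-- With two non-scalar factors, the second at least three-dimensional, more than the first dimension moves. -/
theorem lt_rank {A : Matrix (Fin a) (Fin a) F} {B : Matrix (Fin b) (Fin b) F} (hAd : IsUnit A.det) (hb : 3 ≤ b)
    (hA : ∀ c : F, A ≠ c • (1 : Matrix (Fin a) (Fin a) F)) (hB : ∀ c : F, B ≠ c • (1 : Matrix (Fin b) (Fin b) F)) :
    a < (A ⊗ₖ B - 1).rank := by
  classical
  have ex : ∀ (n : ℕ) (C : Matrix (Fin n) (Fin n) F), (∀ c : F, C ≠ c • (1 : Matrix (Fin n) (Fin n) F)) →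
      ∃ v : Fin n → F, C *ᵥ v ∉ Submodule.span F {v} := by
    intro n C hC
    rcases Nat.eq_zero_or_pos n with rfl | hn
    · exact absurd (Subsingleton.elim _ _) (hC 0)
    haveI : Nontrivial (Fin n → F) := by
      haveI : Nonempty (Fin n) := ⟨⟨0, hn⟩⟩
      infer_instance
    by_contra hcon
    push Not at hcon
    obtain ⟨c, hc⟩ := InvCl.exists_scalar_of_forall_mem_span (Matrix.toLin' C) hcon
    refine hC c (Matrix.ext_of_mulVec_single fun i => ?_)
    rw [Matrix.smul_mulVec, Matrix.one_mulVec]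
    exact hc _
  obtain ⟨v, hv⟩ := ex a A hA
  obtain ⟨w, hw⟩ := ex b B hB
  set N := A ⊗ₖ B - (1 : Matrix (Fin a × Fin b) (Fin a × Fin b) F) with hN
  have happ : ∀ u z, N *ᵥ (fun ij : Fin a × Fin b => u ij.1 * z ij.2) =
      fun ij : Fin a × Fin b => (A *ᵥ u) ij.1 * (B *ᵥ z) ij.2 - u ij.1 * z ij.2 := fun u z => by
    rw [hN, Matrix.sub_mulVec, Matrix.one_mulVec, S5979.kronecker_mulVec]
    rfl
  let J : (Fin a → F) →ₗ[F] (Fin a × Fin b → F) :=
    { toFun := fun u ij => u ij.1 * w ij.2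
      map_add' := fun u u' => funext fun ij => add_mul _ _ _
      map_smul' := fun c u => funext fun ij => by
        simp only [Pi.smul_apply, smul_eq_mul, RingHom.id_apply]; ring }
  have hJ : ∀ u, (N.mulVecLin.comp J) u =
      fun ij : Fin a × Fin b => (A *ᵥ u) ij.1 * (B *ᵥ w) ij.2 - u ij.1 * w ij.2 := fun u => happ u w
  have hinj : Function.Injective (N.mulVecLin.comp J) := by
    rw [injective_iff_map_eq_zero]
    intro u hu
    rw [hJ] at hu
    have hAu : A *ᵥ u = 0 := by
      by_contra hne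
      obtain ⟨i, hi⟩ := Function.ne_iff.1 hne
      refine hw (Submodule.mem_span_singleton.2 ⟨u i / (A *ᵥ u) i, funext fun j => ?_⟩)
      have h := congrFun hu (i, j)
      simp only [Pi.smul_apply, smul_eq_mul, Pi.zero_apply, sub_eq_zero] at h ⊢
      rw [div_mul_eq_mul_div, div_eq_iff hi, ← h]
      ring
    exact Matrix.mulVec_injective_iff_isUnit.2 ((Matrix.isUnit_iff_isUnit_det A).2 hAd)
      (hAu.trans (Matrix.mulVec_zero A).symm)
  have hS : Submodule.span F ({w, B *ᵥ w} : Set (Fin b → F)) ≠ ⊤ := by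
    intro htop
    have h1 := finrank_span_le_card (R := F) ({w, B *ᵥ w} : Set (Fin b → F))
    rw [htop, finrank_top, finrank_fin_fun, Set.toFinset_insert, Set.toFinset_singleton] at h1
    have := h1.trans Finset.card_le_two
    omega
  obtain ⟨w', hw'⟩ : ∃ w', w' ∉ Submodule.span F ({w, B *ᵥ w} : Set (Fin b → F)) := by
    by_contra hcon
    push Not at hcon
    exact hS (eq_top_iff.2 fun z _ => hcon z)
  obtain ⟨φ, hφ, hφS⟩ := Submodule.exists_dual_map_eq_bot_of_notMem hw' inferInstance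
  have hφ0 : ∀ z ∈ ({w, B *ᵥ w} : Set (Fin b → F)), φ z = 0 := fun z hz =>
    (Submodule.mem_bot F).1 (hφS ▸ Submodule.mem_map_of_mem (f := φ) (Submodule.subset_span hz))
  have hlt : LinearMap.range (N.mulVecLin.comp J) < LinearMap.range N.mulVecLin := by
    refine lt_of_le_not_ge (LinearMap.range_comp_le_range _ _) fun hle => ?_
    obtain ⟨u, hu⟩ := hle ⟨fun ij : Fin a × Fin b => v ij.1 * w' ij.2, rfl⟩
    rw [hJ, Matrix.mulVecLin_apply, happ] at hu
    have key : ∀ i, (A *ᵥ v) i * φ (B *ᵥ w') = v i * φ w' := fun i => by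
      have h : (A *ᵥ u) i • (B *ᵥ w) - u i • w = (A *ᵥ v) i • (B *ᵥ w') - v i • w' :=
        funext fun j => congrFun hu (i, j)
      have h' := congrArg φ h
      rw [map_sub, map_sub, map_smul, map_smul, map_smul, map_smul, hφ0 _ (by simp), hφ0 _ (by simp), smul_zero,
        smul_zero, sub_zero, smul_eq_mul, smul_eq_mul] at h'
      exact sub_eq_zero.1 h'.symm
    by_cases hc : φ (B *ᵥ w') = 0
    · have hv0 : v = 0 := funext fun i => by
        have := key i
        rw [hc, mul_zero] at this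
        exact (mul_eq_zero.1 this.symm).resolve_right hφ
      exact hv (by rw [hv0, Matrix.mulVec_zero]; exact Submodule.zero_mem _)
    · refine hv (Submodule.mem_span_singleton.2 ⟨φ w' / φ (B *ᵥ w'), funext fun i => ?_⟩)
      rw [Pi.smul_apply, smul_eq_mul, div_mul_eq_mul_div, div_eq_iff hc, key]
      ring
  have h := Submodule.finrank_lt_finrank_of_lt hlt
  rw [LinearMap.finrank_range_of_inj hinj, finrank_fin_fun] at h
  exact h

/-- The rank of a Kronecker product with an identity. -/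
theorem rank_kronecker_one (A : Matrix (Fin a) (Fin a) F) :
    (A ⊗ₖ (1 : Matrix (Fin b) (Fin b) F)).rank = b * A.rank := by
  rw [← S5979.rank_one_kronecker A, ← Matrix.rank_reindex (Equiv.prodComm (Fin a) (Fin b)) (Equiv.prodComm (Fin a) (Fin b))]
  congr 1
  ext ⟨j, i⟩ ⟨j', i'⟩
  simp [Matrix.kroneckerMap_apply, mul_comm]

/-- An isometry of a product form is a product of similitudes. -/
theorem kron_forms {A G₁ : Matrix (Fin a) (Fin a) F} {B G₂ : Matrix (Fin b) (Fin b) F} (h1 : G₁ ≠ 0) (h2 : G₂ ≠ 0)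
    (h : (A ⊗ₖ B)ᵀ * (G₁ ⊗ₖ G₂) * (A ⊗ₖ B) = G₁ ⊗ₖ G₂) :
    ∃ κ : F, κ ≠ 0 ∧ Aᵀ * G₁ * A = κ • G₁ ∧ Bᵀ * G₂ * B = κ⁻¹ • G₂ := by
  rw [← Matrix.kroneckerMap_transpose, ← Matrix.mul_kronecker_mul, ← Matrix.mul_kronecker_mul] at h
  set X := Aᵀ * G₁ * A
  set Y := Bᵀ * G₂ * B
  have he : ∀ i i' j j', X i i' * Y j j' = G₁ i i' * G₂ j j' := fun i i' j j' => by
    have := congrFun (congrFun h (i, j)) (i', j')
    simpa [Matrix.kroneckerMap_apply] using this
  obtain ⟨i₀, i₁, hi⟩ : ∃ i i', G₁ i i' ≠ 0 := by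
    by_contra hcon
    push Not at hcon
    exact h1 (Matrix.ext hcon)
  obtain ⟨j₀, j₁, hj⟩ : ∃ j j', G₂ j j' ≠ 0 := by
    by_contra hcon
    push Not at hcon
    exact h2 (Matrix.ext hcon)
  have h0 := he i₀ i₁ j₀ j₁
  have hX : X i₀ i₁ ≠ 0 := fun e => by rw [e, zero_mul] at h0; exact mul_ne_zero hi hj h0.symm
  have hY : Y j₀ j₁ ≠ 0 := fun e => by rw [e, mul_zero] at h0; exact mul_ne_zero hi hj h0.symm
  refine ⟨G₂ j₀ j₁ / Y j₀ j₁, div_ne_zero hj hY, ?_, ?_⟩
  · ext i i'
    rw [Matrix.smul_apply, smul_eq_mul, div_mul_eq_mul_div, eq_div_iff hY, he, mul_comm]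
  · ext j j'
    rw [Matrix.smul_apply, smul_eq_mul, inv_div]
    have h3 := he i₀ i₁ j j'
    field_simp
    apply mul_left_cancel₀ hX
    linear_combination G₂ j₀ j₁ * h3 - G₂ j j' * h0

theorem dot_mulVec {n : Type*} [Fintype n] (M G : Matrix n n F) (u v : n → F) :
    (M *ᵥ u) ⬝ᵥ (G *ᵥ (M *ᵥ v)) = u ⬝ᵥ ((Mᵀ * G * M) *ᵥ v) := by
  rw [← Matrix.mulVec_mulVec, ← Matrix.mulVec_mulVec, dotProduct_comm, Matrix.dotProduct_mulVec,
    ← Matrix.mulVec_transpose, dotProduct_comm]

theorem gram_eq {n : Type*} [Fintype n] [DecidableEq n] {X G : Matrix n n F}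
    (h : ∀ u v : n → F, u ⬝ᵥ (X *ᵥ v) = u ⬝ᵥ (G *ᵥ v)) : X = G := by
  ext i j
  simpa [Matrix.mulVec_single, Matrix.col_apply] using h (Pi.single i 1) (Pi.single j 1)

/-- A matrix of odd order preserving a non-degenerate form moves an even-dimensional space. -/
theorem even_rank {n : ℕ} (h2 : (2 : F) ≠ 0) {r : ℕ} (hr2 : Odd r) (hr : (r : F) ≠ 0)
    {M G : Matrix (Fin n) (Fin n) F} (hG : G.det ≠ 0) (hMG : Mᵀ * G * M = G) (hM : M ^ r = 1) :
    Even (M - 1).rank := by
  have h := even_moved (β := Matrix.toLinearMap₂' F G) (LinearMap.separatingRight_toLinearMap₂'_iff_det_ne_zero.2 hG)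
    h2 hr2 hr (T := Matrix.toLinAlgEquiv' M) (fun u v => by
      rw [Matrix.toLinearMap₂'_apply', Matrix.toLinearMap₂'_apply', Matrix.toLinAlgEquiv'_apply,
        Matrix.toLinAlgEquiv'_apply, dot_mulVec, hMG])
    (by rw [← map_pow, hM, map_one])
  rwa [show Matrix.toLinAlgEquiv' M - 1 = (M - 1).mulVecLin from LinearMap.ext fun v => by
    rw [Matrix.mulVecLin_apply, Matrix.sub_mulVec, Matrix.one_mulVec, LinearMap.sub_apply, Module.End.one_apply,
      Matrix.toLinAlgEquiv'_apply]] at h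

/-- The rank of a conjugate of a reindexed matrix. -/
theorem rank_conj {ι : Type} [Fintype ι] [DecidableEq ι] (e : ι ≃ Fin a × Fin b) (G : GL ι F) (x : Matrix ι ι F)
    (M : Matrix (Fin a × Fin b) (Fin a × Fin b) F)
    (hx : x = (G : Matrix ι ι F) * Matrix.reindex e.symm e.symm M * ((G⁻¹ : GL ι F) : Matrix ι ι F)) :
    (x - 1).rank = (M - 1).rank := by
  have h1 : x - 1 = (G : Matrix ι ι F) * Matrix.reindex e.symm e.symm (M - 1) * ((G⁻¹ : GL ι F) : Matrix ι ι F) := by
    have hsub : Matrix.reindex e.symm e.symm (M - 1) = Matrix.reindex e.symm e.symm M - 1 := by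
      ext i j
      simp [Matrix.one_apply]
    rw [hsub, mul_sub, sub_mul, mul_one, ← Units.val_mul G G⁻¹, mul_inv_cancel, Units.val_one, hx]
  rw [h1, Matrix.rank_mul_eq_left_of_isUnit_det _ _ ((Matrix.isUnit_iff_isUnit_det _).1 (G⁻¹).isUnit),
    Matrix.rank_mul_eq_right_of_isUnit_det _ _ ((Matrix.isUnit_iff_isUnit_det _).1 G.isUnit), Matrix.rank_reindex]

theorem kron_pow (A : Matrix (Fin a) (Fin a) F) (B : Matrix (Fin b) (Fin b) F) (n : ℕ) :
    (A ⊗ₖ B) ^ n = (A ^ n) ⊗ₖ (B ^ n) := by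
  induction n with
  | zero => simp
  | succ n ih => rw [pow_succ, pow_succ, pow_succ, Matrix.mul_kronecker_mul, ih]

theorem sim_pow {A G : Matrix (Fin a) (Fin a) F} {κ : F} (h : Aᵀ * G * A = κ • G) (n : ℕ) :
    (A ^ n)ᵀ * G * A ^ n = κ ^ n • G := by
  induction n with
  | zero => simp
  | succ n ih =>
    rw [pow_succ, Matrix.transpose_mul, show Aᵀ * (A ^ n)ᵀ * G * (A ^ n * A) = Aᵀ * ((A ^ n)ᵀ * G * A ^ n) * A by
      simp only [mul_assoc], ih, Matrix.mul_smul, Matrix.smul_mul, h, smul_smul, pow_succ]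

/-- A symmetric non-degenerate Gram matrix has isometric involutions moving every dimension. -/
theorem exists_reflect (h2 : (2 : F) ≠ 0) {G : Matrix (Fin b) (Fin b) F} (hGs : Gᵀ = G) {k : ℕ} (hk : k ≤ b) :
    ∃ B : GL (Fin b) F, (B : Matrix (Fin b) (Fin b) F)ᵀ * G * B = G ∧
      (B : Matrix (Fin b) (Fin b) F) * B = 1 ∧ ((B : Matrix (Fin b) (Fin b) F) - 1).rank = k := by
  classical
  haveI : Invertible (2 : F) := invertibleOfNonzero h2
  set β : LinearMap.BilinForm F (Fin b → F) := Matrix.toLinearMap₂' F G with hβ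
  have hsym : LinearMap.IsSymm β := ⟨fun u v => by
    rw [RingHom.id_apply]
    rw [hβ, Matrix.toLinearMap₂'_apply', Matrix.toLinearMap₂'_apply', Matrix.dotProduct_mulVec,
      ← Matrix.mulVec_transpose, hGs, dotProduct_comm]⟩
  obtain ⟨v₀, hv₀⟩ := LinearMap.BilinForm.exists_orthogonal_basis hsym
  let v := v₀.reindex (finCongr (finrank_fin_fun F (n := b)))
  have hv : ∀ l m, l ≠ m → β (v l) (v m) = 0 := fun l m h => by
    simp only [v, Basis.reindex_apply]
    exact hv₀ fun e => h ((finCongr _).symm.injective e)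
  let s : Fin b → F := fun l => if l.1 < k then -1 else 1
  have hss : ∀ l, s l * s l = 1 := fun l => by dsimp only [s]; split_ifs <;> simp
  let Bl : Module.End F (Fin b → F) := v.constr F fun l => s l • v l
  have hBl : ∀ l, Bl (v l) = s l • v l := fun l => v.constr_basis _ _ _
  set B : Matrix (Fin b) (Fin b) F := LinearMap.toMatrix' Bl with hB
  have hBa : ∀ z, B *ᵥ z = Bl z := fun z => LinearMap.toMatrix'_mulVec Bl z
  have hinv : B * B = 1 := by
    have h : Bl * Bl = 1 := v.ext fun l => by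
      rw [Module.End.mul_apply, hBl, map_smul, hBl, smul_smul, hss, one_smul, Module.End.one_apply]
    rw [hB, ← LinearMap.toMatrix'_mul, h, LinearMap.toMatrix'_one]
  refine ⟨⟨B, B, hinv, hinv⟩, ?_, hinv, ?_⟩
  · refine gram_eq fun u z => ?_
    rw [← dot_mulVec, hBa, hBa, ← Matrix.toLinearMap₂'_apply', ← Matrix.toLinearMap₂'_apply', ← hβ]
    have h : β.compl₁₂ Bl Bl = β := v.ext fun l => v.ext fun m => by
      rw [LinearMap.compl₁₂_apply, hBl, hBl, map_smul, map_smul, LinearMap.smul_apply, smul_eq_mul, smul_eq_mul]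
      by_cases hlm : l = m
      · subst hlm; rw [← mul_assoc, hss, one_mul]
      · rw [hv l m hlm, mul_zero, mul_zero]
    exact LinearMap.congr_fun (LinearMap.congr_fun h u) z
  · show (B - 1).rank = k
    have h1 : LinearMap.toMatrix v v (Bl - 1) = Matrix.diagonal fun l => s l - 1 := by
      ext l m
      rw [LinearMap.toMatrix_apply, LinearMap.sub_apply, Module.End.one_apply, hBl, map_sub, map_smul,
        Finsupp.sub_apply, Finsupp.smul_apply, Basis.repr_self, smul_eq_mul]
      by_cases hlm : l = m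
      · subst hlm; simp
      · simp [hlm, Ne.symm hlm]
    have h2' : (B - 1).mulVecLin = Bl - 1 := LinearMap.ext fun z => by
      rw [Matrix.mulVecLin_apply, Matrix.sub_mulVec, Matrix.one_mulVec, hBa]; rfl
    rw [Matrix.rank, h2', ← Matrix.toLin_toMatrix v v (Bl - 1), ← Matrix.rank_eq_finrank_range_toLin, h1,
      Matrix.rank_diagonal, Fintype.card_subtype,
      show (Finset.univ.filter fun l : Fin b => s l - 1 ≠ 0) = Finset.univ.filter fun l : Fin b => l.1 < k from
        Finset.filter_congr fun l _ => by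
          dsimp only [s]
          split_ifs with h
          · simp only [h, iff_true, sub_ne_zero]
            exact fun e => h2 (by linear_combination -e)
          · simp [h]]
    rw [Fin.card_filter_val_lt, min_eq_right hk]

end Kron

/-- Elements of prime order of PSp_n(q), q odd, and the stabilizers of tensor decompositions Sp_a(q) ⊗ O_b(q). Here `T = PSp_{2d}(F)` for a field `F` with `q` elements, `q` odd, `d ≥ 2`, realised through the matrices preserving the standard alternating form `f`; `2d = a·b` with `a` even, `b ≥ 3`, and the bijection `e` and change of basis `P` exhibit `f` as a non-zero scalar multiple of the tensor product of a non-degenerate alternating form `f₁` on `F^a` and a non-degenerate symmetric bilinear form `f₂` on `F^b`; `H` is the subgroup of `T` stabilizing this tensor decomposition (the elements of `T` in the conjugate by `P` of the group of Kronecker products) — a subgroup of type Sp_a(q) ⊗ O^ε_b(q) (maximality is not assumed). Ω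 is the set of cosets of `H` in `T`, so an element of `T` of prime order `r` (`x ∈ T` with `x^r` scalar, `x` not scalar) fixes a point of Ω exactly when some `T`-conjugate of `x` lies in `H`. Let `r` be a prime dividing the index of `H`. Then every element of `T` of order `r` fixes a point of Ω if and only if `r = 2` and `a = 2`. -/
theorem result {F : Type*} [Field F] [Fintype F] {p : ℕ} [Fact p.Prime] [CharP F p] {q : ℕ} (hq : Fintype.card F = q)
    (hodd : Odd q) (d : ℕ) (hd : 2 ≤ d) (a b : ℕ) (hab : 2 * d = a * b) (ha : Even a) (ha2 : 2 ≤ a) (hb : 3 ≤ b)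
    (e : (Fin d ⊕ Fin d) ≃ Fin a × Fin b) (P : GL (Fin d ⊕ Fin d) F)
    (f₁ : (Fin a → F) → (Fin a → F) → F) (f₂ : (Fin b → F) → (Fin b → F) → F)
    (hf₁ : Cfsg.Geo.IsSymplecticForm f₁) (hf₂ : Cfsg.Geo.IsSymmetricForm f₂)
    (hS : Cfsg.Geo.IsTensorFormStructure id (Cfsg.sympForm d F) f₁ f₂ e P)
    (r : ℕ) [Fact r.Prime]
    (hΩ : r ∣ (Cfsg.Geo.tensorProductSubgroup a b e P).relIndex (Cfsg.spGL d F)) :
    (∀ x ∈ Cfsg.spGL d F, (∃ z : F, ((x ^ r : GL (Fin d ⊕ Fin d) F) : Matrix (Fin d ⊕ Fin d) (Fin d ⊕ Fin d) F) = z • (1 : Matrix (Fin d ⊕ Fin d) (Fin d ⊕ Fin d) F)) →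
      (∀ z : F, (x : Matrix (Fin d ⊕ Fin d) (Fin d ⊕ Fin d) F) ≠ z • (1 : Matrix (Fin d ⊕ Fin d) (Fin d ⊕ Fin d) F)) →
      ∃ g ∈ Cfsg.spGL d F, g⁻¹ * x * g ∈ Cfsg.Geo.tensorProductSubgroup a b e P) ↔ (r = 2 ∧ a = 2) := by
  classical
  subst hq
  have hr : r.Prime := Fact.out
  haveI : Nonempty (Fin d ⊕ Fin d) := ⟨Sum.inl ⟨0, by omega⟩⟩
  have hp2 : p ≠ 2 := fun e => by
    obtain ⟨n, -, hn⟩ := FiniteField.card F p
    rw [hn, e, Nat.odd_pow_iff n.ne_zero] at hodd
    exact absurd hodd (by decide)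
  have h2 : (2 : F) ≠ 0 := Ring.two_ne_zero (by rw [ringChar.eq F p]; exact hp2)
  set f := sympBil F d
  have hf : ∀ u v, f u v = Cfsg.sympForm d F u v := fun u v => sympBil_apply d u v
  have hA : f.IsAlt := sympBil_isAlt (F := F) d
  have hN : f.Nondegenerate := sympBil_nondegenerate (F := F) d
  have hdim : finrank F (Fin d ⊕ Fin d → F) = 2 * d := by
    rw [Module.finrank_fintype_fun_eq_card, Fintype.card_sum, Fintype.card_fin, two_mul]
  set e₀ : Fin d ⊕ Fin d → F := Pi.single (Sum.inl ⟨0, by omega⟩) 1 with he₀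
  have he₀0 : e₀ ≠ 0 := by simp [e₀]
  obtain ⟨w₀, hw₀⟩ := alt_exists_partner hN.1 he₀0
  let ψ : isomGroup f →* GL (Fin d ⊕ Fin d) F :=
    (Cfsg.spGL d F).subtype.comp ((spEquiv (F := F) d).symm.trans (spGLEquiv d)).toMonoidHom
  have hψ : ∀ g x, (ψ g : Matrix (Fin d ⊕ Fin d) (Fin d ⊕ Fin d) F) *ᵥ x = g.1 x := fun g x => by
    change ((spEquiv (F := F) d).symm g).1 *ᵥ x = _
    rw [← spEquiv_apply, MulEquiv.apply_symm_apply]
  have hψr : ψ.range = Cfsg.spGL d F := le_antisymm
    (by rintro _ ⟨g, rfl⟩; exact SetLike.coe_mem _)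
    fun t ht => ⟨((spEquiv (F := F) d).symm.trans (spGLEquiv d)).symm ⟨t, ht⟩, by
      change ((((spEquiv (F := F) d).symm.trans (spGLEquiv d)) _ : Cfsg.spGL d F) : GL _ F) = t
      rw [MulEquiv.apply_symm_apply]⟩
  have hψi : Function.Injective ψ := fun a c e => Subtype.ext (LinearEquiv.ext fun x => by rw [← hψ, ← hψ, e])
  have hmem : ∀ g, ψ g ∈ Cfsg.spGL d F := fun g => hψr ▸ ⟨g, rfl⟩
  haveI : Finite (isomGroup f) := Finite.of_injective ψ hψi
  have hrk : ∀ g : isomGroup f, ((ψ g : Matrix (Fin d ⊕ Fin d) (Fin d ⊕ Fin d) F) - 1).rank =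
      finrank F (LinearMap.range ((g.1.toLinearMap : Module.End F (Fin d ⊕ Fin d → F)) - 1)) :=
    fun g => by
      rw [Matrix.rank, show ((ψ g : Matrix (Fin d ⊕ Fin d) (Fin d ⊕ Fin d) F) - 1).mulVecLin =
        (g.1.toLinearMap : Module.End F (Fin d ⊕ Fin d → F)) - 1 from LinearMap.ext fun v => by
          rw [Matrix.mulVecLin_apply, Matrix.sub_mulVec, Matrix.one_mulVec, hψ]; rfl]
  -- the Gram matrices
  set G₁ := Cfsg.Geo.gramMatrix f₁ with hG₁
  set G₂ := Cfsg.Geo.gramMatrix f₂ with hG₂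
  have hfg : ∀ {n : ℕ} (G : Matrix (Fin n) (Fin n) F) (x y : Fin n → F),
      Cfsg.Geo.formOfGram id G x y = x ⬝ᵥ (G *ᵥ y) := fun G x y => by
    simp [Cfsg.Geo.formOfGram, dotProduct, Matrix.mulVec, Finset.mul_sum, mul_assoc]
  have hg1 : ∀ x y, f₁ x y = x ⬝ᵥ (G₁ *ᵥ y) := fun x y => by
    rw [← hfg, hG₁]
    exact (TensorNonMax.gram_expand (τ := id) hf₁.bilinear.add_left hf₁.bilinear.smul_left hf₁.bilinear.add_right
      hf₁.bilinear.smul_right x y).symm
  have hg2 : ∀ x y, f₂ x y = x ⬝ᵥ (G₂ *ᵥ y) := fun x y => by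
    rw [← hfg, hG₂]
    exact (TensorNonMax.gram_expand (τ := id) hf₂.bilinear.add_left hf₂.bilinear.smul_left hf₂.bilinear.add_right
      hf₂.bilinear.smul_right x y).symm
  have hdet1 : G₁.det ≠ 0 := fun h0 => by
    obtain ⟨v, hv, hv0⟩ := Matrix.exists_mulVec_eq_zero_iff.2 h0
    obtain ⟨x, hx⟩ := (hf₁.nondegenerate v hv).1
    exact hx (by rw [hg1, hv0, dotProduct_zero])
  have hdet2 : G₂.det ≠ 0 := fun h0 => by
    obtain ⟨v, hv, hv0⟩ := Matrix.exists_mulVec_eq_zero_iff.2 h0
    obtain ⟨x, hx⟩ := (hf₂.nondegenerate v hv).1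
    exact hx (by rw [hg2, hv0, dotProduct_zero])
  have hG1ne : G₁ ≠ 0 := fun h => hdet1 (by
    haveI : Nonempty (Fin a) := ⟨⟨0, by omega⟩⟩
    rw [h, Matrix.det_zero])
  have hG2ne : G₂ ≠ 0 := fun h => hdet2 (by
    haveI : Nonempty (Fin b) := ⟨⟨0, by omega⟩⟩
    rw [h, Matrix.det_zero])
  obtain ⟨c₀, hc₀, hS⟩ := hS
  have hfgK : ∀ x y : Fin a × Fin b → F,
      Cfsg.Geo.formOfGram id (G₁ ⊗ₖ G₂) x y = x ⬝ᵥ ((G₁ ⊗ₖ G₂) *ᵥ y) := fun x y => by
    simp [Cfsg.Geo.formOfGram, dotProduct, Matrix.mulVec, Finset.mul_sum, mul_assoc]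
  let Pm : Matrix (Fin d ⊕ Fin d) (Fin d ⊕ Fin d) F := P
  let Pi' : Matrix (Fin d ⊕ Fin d) (Fin d ⊕ Fin d) F := ((P⁻¹ : GL (Fin d ⊕ Fin d) F) : Matrix _ _ F)
  have hact : ∀ (M : Matrix (Fin a × Fin b) (Fin a × Fin b) F) (z : Fin a × Fin b → F),
      (Pm * Matrix.reindex e.symm e.symm M * Pi') *ᵥ (Pm *ᵥ (z ∘ e)) = Pm *ᵥ ((M *ᵥ z) ∘ e) := fun M z => by
    rw [Matrix.mulVec_mulVec, Matrix.mul_assoc, show Pi' * Pm = 1 by rw [← Units.val_mul, inv_mul_cancel, Units.val_one],
      Matrix.mul_one, ← Matrix.mulVec_mulVec, Matrix.reindex_apply, Equiv.symm_symm, Matrix.submatrix_mulVec_equiv,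
      Function.comp_assoc, Equiv.self_comp_symm, Function.comp_id]
  have hsurj : ∀ u, ∃ z : Fin a × Fin b → F, u = Pm *ᵥ (z ∘ e) := fun u => ⟨(Pi' *ᵥ u) ∘ e.symm, by
    rw [Function.comp_assoc, Equiv.symm_comp_self, Function.comp_id, Matrix.mulVec_mulVec,
      show Pm * Pi' = 1 by rw [← Units.val_mul, mul_inv_cancel, Units.val_one], Matrix.one_mulVec]⟩
  have hiso : ∀ M : Matrix (Fin a × Fin b) (Fin a × Fin b) F,
      (∀ u v, Cfsg.sympForm d F ((Pm * Matrix.reindex e.symm e.symm M * Pi') *ᵥ u)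
        ((Pm * Matrix.reindex e.symm e.symm M * Pi') *ᵥ v) = Cfsg.sympForm d F u v) ↔
      Mᵀ * (G₁ ⊗ₖ G₂) * M = G₁ ⊗ₖ G₂ := fun M => by
    constructor
    · intro h
      refine gram_eq fun x y => ?_
      have h1 := h (Pm *ᵥ (x ∘ e)) (Pm *ᵥ (y ∘ e))
      rw [hact, hact, hS, hS, hfgK, hfgK, dot_mulVec] at h1
      exact mul_left_cancel₀ hc₀ h1
    · intro h u v
      obtain ⟨x, rfl⟩ := hsurj u
      obtain ⟨y, rfl⟩ := hsurj v
      rw [hact, hact, hS, hS, hfgK, hfgK, dot_mulVec, h]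
  -- what a conjugate in the subgroup provides
  let Good : Prop := ∀ x ∈ Cfsg.spGL d F, (∃ z : F, ((x ^ r : GL (Fin d ⊕ Fin d) F) : Matrix (Fin d ⊕ Fin d) (Fin d ⊕ Fin d) F) = z • (1 : Matrix (Fin d ⊕ Fin d) (Fin d ⊕ Fin d) F)) →
      (∀ z : F, (x : Matrix (Fin d ⊕ Fin d) (Fin d ⊕ Fin d) F) ≠ z • (1 : Matrix (Fin d ⊕ Fin d) (Fin d ⊕ Fin d) F)) →
      ∃ g ∈ Cfsg.spGL d F, g⁻¹ * x * g ∈ Cfsg.Geo.tensorProductSubgroup a b e P
  have hget : Good → ∀ t : isomGroup f, t ^ r = 1 → (∀ z : F, ¬ ∀ v, t.1 v = z • v) →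
      ∃ (A : GL (Fin a) F) (B : GL (Fin b) F),
        finrank F (LinearMap.range ((t.1.toLinearMap : Module.End F (Fin d ⊕ Fin d → F)) - 1)) =
          ((A : Matrix (Fin a) (Fin a) F) ⊗ₖ (B : Matrix (Fin b) (Fin b) F) - 1).rank ∧
        ((A : Matrix (Fin a) (Fin a) F) ^ r) ⊗ₖ ((B : Matrix (Fin b) (Fin b) F) ^ r) = 1 ∧
        ((A : Matrix (Fin a) (Fin a) F) ⊗ₖ (B : Matrix (Fin b) (Fin b) F))ᵀ * (G₁ ⊗ₖ G₂) *
          ((A : Matrix (Fin a) (Fin a) F) ⊗ₖ (B : Matrix (Fin b) (Fin b) F)) = G₁ ⊗ₖ G₂ := by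
    intro hall t htr hts
    obtain ⟨g, hg, hgm⟩ := hall (ψ t) (hmem t) ⟨1, by rw [← map_pow, htr, map_one, one_smul, Units.val_one]⟩
      (fun z hz => hts z fun v => by rw [← hψ, hz, Matrix.smul_mulVec, Matrix.one_mulVec])
    have hgsp : g⁻¹ * ψ t * g ∈ Cfsg.spGL d F := mul_mem (mul_mem (inv_mem hg) (hmem t)) hg
    obtain ⟨k, ⟨h₀, ⟨A, B, hAB⟩, rfl⟩, hk⟩ := hgm
    change P * Cfsg.Geo.glReindex e.symm h₀ * P⁻¹ = g⁻¹ * ψ t * g at hk
    have hval : ((g⁻¹ * ψ t * g : GL (Fin d ⊕ Fin d) F) : Matrix (Fin d ⊕ Fin d) (Fin d ⊕ Fin d) F) =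
        Pm * Matrix.reindex e.symm e.symm
          ((A : Matrix (Fin a) (Fin a) F) ⊗ₖ (B : Matrix (Fin b) (Fin b) F)) * Pi' := by
      rw [← hk, Units.val_mul, Units.val_mul, ← hAB]
      rfl
    refine ⟨A, B, ?_, ?_, (hiso _).1 fun u v => by rw [← hval]; exact hgsp u v⟩
    · rw [← hrk]
      refine rank_conj e (g * P) _ _ ?_
      rw [← hAB]
      show _ = _ * (Units.val (Cfsg.Geo.glReindex e.symm h₀) : Matrix (Fin d ⊕ Fin d) (Fin d ⊕ Fin d) F) * _
      rw [← Units.val_mul, ← Units.val_mul]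
      congr 1
      calc ψ t = g * (g⁻¹ * ψ t * g) * g⁻¹ := by group
        _ = g * (P * Cfsg.Geo.glReindex e.symm h₀ * P⁻¹) * g⁻¹ := by rw [hk]
        _ = g * P * Cfsg.Geo.glReindex e.symm h₀ * (g * P)⁻¹ := by group
    · have h1 : (g⁻¹ * ψ t * g) ^ r = 1 := by
        rw [show g⁻¹ * ψ t * g = g⁻¹ * ψ t * (g⁻¹)⁻¹ by rw [inv_inv], conj_pow, ← map_pow, htr, map_one, mul_one,
          mul_inv_cancel]
      rw [← hk, conj_pow, mul_inv_eq_one, mul_eq_left, ← map_pow, MulEquiv.map_eq_one_iff] at h1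
      have h3 := congrArg Units.val h1
      rw [Units.val_pow_eq_pow_val, hAB, Units.val_one, kron_pow] at h3
      exact h3
  constructor
  · intro hall
    by_contra hcon
    by_cases hrp : r = p
    · -- a transvection
      set t := tv hA e₀ (1 : F) with ht
      have hpow : ∀ n : ℕ, t ^ n = tv hA e₀ (n : F) := fun n => by
        induction n with
        | zero => rw [pow_zero, Nat.cast_zero, tv_zero]
        | succ n ih => rw [pow_succ, ih, ht, tv_mul, Nat.cast_succ]
      have hw' : f w₀ e₀ = -1 := by rw [alt_swap hA]; exact congrArg Neg.neg hw₀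
      obtain ⟨A, B, h1, -, -⟩ := hget hall t (by rw [hpow, hrp, CharP.cast_eq_zero F p, tv_zero]) (fun z hz => by
        have h := hz e₀
        rw [ht, tv_apply, hA e₀, mul_zero, zero_smul, add_zero] at h
        have hz1 : z = 1 := by
          by_contra hz1
          exact he₀0 ((smul_eq_zero.1 (show (z - 1) • e₀ = 0 by rw [sub_smul, one_smul, ← h, sub_self])).resolve_left
            (sub_ne_zero.2 hz1))
        have h' := hz w₀
        simp [ht, hw', hz1, he₀0] at h')
      have hrange : LinearMap.range ((t.1.toLinearMap : Module.End F (Fin d ⊕ Fin d → F)) - 1) =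
          Submodule.span F {e₀} := by
        refine le_antisymm ?_ ((Submodule.span_singleton_le_iff_mem _ _).2 ⟨-w₀, ?_⟩)
        · rintro _ ⟨v, rfl⟩
          exact Submodule.mem_span_singleton.2 ⟨f v e₀, by simp [ht]⟩
        · simp [ht, hw']
      rw [hrange, finrank_span_singleton he₀0] at h1
      by_cases hAs : ∀ c : F, (A : Matrix (Fin a) (Fin a) F) ≠ c • (1 : Matrix (Fin a) (Fin a) F)
      · have h3 := S5979.le_rank ((Matrix.isUnit_iff_isUnit_det _).1 B.isUnit) hAs (1 : F)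
        rw [one_smul, ← h1] at h3
        omega
      · push Not at hAs
        obtain ⟨α, hα⟩ := hAs
        rw [hα, ← one_smul F (1 : Matrix (Fin a × Fin b) (Fin a × Fin b) F), S5979.scalar_kronecker_sub,
          S5979.rank_one_kronecker] at h1
        have := Nat.eq_one_of_mul_eq_one_right h1.symm
        omega
    by_cases hr2 : r = 2
    · -- an involution moving a hyperbolic pair
      subst hr2
      have ha4 : 4 ≤ a := by
        obtain ⟨m, hm⟩ := ha
        have : a ≠ 2 := fun h => hcon ⟨rfl, h⟩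
        omega
      set W : Submodule F (Fin d ⊕ Fin d → F) := Submodule.span F {e₀, w₀}
      have hW : NondegOn f W := nondegOn_pair hA hw₀
      have hWd : finrank F W = 2 := by
        have h1 : finrank F W + finrank F (perp f W) = finrank F (Fin d ⊕ Fin d → F) := hW.finrank_perp
        have h3 : finrank F (perp f W) + 2 = finrank F (Fin d ⊕ Fin d → F) := finrank_perp_pair_lt hA hw₀
        omega
      let nW : isomGroup (restrictForm f W) := ⟨LinearEquiv.neg F, fun u v => by simp⟩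
      let J := isomSum hW.isCompl (fun _ hw _ hu => mem_perp.1 hu _ hw) fun _ hw _ hu => orth_symm hA.isRefl hw hu
      set t := J (nW, 1)
      have htv : ∀ (w : W) (u : perp f W), t.1 ((w : Fin d ⊕ Fin d → F) + u) = -(w : Fin d ⊕ Fin d → F) + u :=
        fun w u => sumEquiv_apply _ _ _ w u
      have he₀W : e₀ ∈ W := Submodule.subset_span (by simp)
      have hte₀ : t.1 e₀ = -e₀ := by simpa using htv ⟨e₀, he₀W⟩ 0
      obtain ⟨A, B, h1, -, -⟩ := hget hall t (by
        rw [← map_pow, Prod.pow_mk, one_pow, show nW ^ 2 = 1 from Subtype.ext (LinearEquiv.ext fun v => neg_neg v)]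
        exact map_one J) (fun z hz => by
        have h := hz e₀
        rw [hte₀] at h
        have hz1 : z = -1 := by
          by_contra hne
          exact he₀0 ((smul_eq_zero.1 (show (z + 1) • e₀ = 0 by rw [add_smul, one_smul, ← h, neg_add_cancel])).resolve_left
            fun e => hne (eq_neg_of_add_eq_zero_left e))
        have hpd : finrank F (perp f W) ≠ 0 := by
          have h3 : finrank F (perp f W) + 2 = finrank F (Fin d ⊕ Fin d → F) := finrank_perp_pair_lt hA hw₀
          omega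
        obtain ⟨u, hu, hu0⟩ := (Submodule.ne_bot_iff _).1 fun e => hpd (Submodule.finrank_eq_zero.2 e)
        have htu : t.1 u = u := by simpa using htv 0 ⟨u, hu⟩
        have h' := hz u
        rw [htu, hz1, neg_one_smul] at h'
        exact hu0 ((smul_eq_zero.1 (show (2 : F) • u = 0 by rw [two_smul]; nth_rw 2 [h']; exact add_neg_cancel u)).resolve_left h2))
      have hrange : LinearMap.range ((t.1.toLinearMap : Module.End F (Fin d ⊕ Fin d → F)) - 1) = W := by
        apply le_antisymm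
        · rintro _ ⟨v, rfl⟩
          obtain ⟨w, u, rfl⟩ := exists_add_eq hW.isCompl v
          show t.1 ((w : Fin d ⊕ Fin d → F) + u) - ((w : Fin d ⊕ Fin d → F) + u) ∈ W
          rw [htv, show -(w : Fin d ⊕ Fin d → F) + u - (w + u) = -(w : Fin d ⊕ Fin d → F) + -(w : Fin d ⊕ Fin d → F) by abel]
          exact W.add_mem (W.neg_mem w.2) (W.neg_mem w.2)
        · intro v hv
          refine ⟨(-(2 : F)⁻¹) • v, ?_⟩
          have h := htv ⟨v, hv⟩ 0
          simp only [ZeroMemClass.coe_zero, add_zero] at h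
          show t.1 ((-(2 : F)⁻¹) • v) - (-(2 : F)⁻¹) • v = v
          rw [map_smul, h, smul_neg, neg_smul, neg_neg, sub_neg_eq_add, ← add_smul, ← two_mul, mul_inv_cancel₀ h2,
            one_smul]
      rw [hrange, hWd] at h1
      by_cases hAs : ∀ c : F, (A : Matrix (Fin a) (Fin a) F) ≠ c • (1 : Matrix (Fin a) (Fin a) F)
      · have h3 := S5979.le_rank ((Matrix.isUnit_iff_isUnit_det _).1 B.isUnit) hAs (1 : F)
        rw [one_smul, ← h1] at h3
        omega
      · push Not at hAs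
        obtain ⟨α, hα⟩ := hAs
        rw [hα, ← one_smul F (1 : Matrix (Fin a × Fin b) (Fin a × Fin b) F), S5979.scalar_kronecker_sub,
          S5979.rank_one_kronecker] at h1
        have := Nat.le_of_dvd two_pos ⟨_, h1⟩
        omega
    -- odd `r` prime to `p`
    have hrodd : Odd r := hr.odd_of_ne_two hr2
    have hr0 : (r : F) ≠ 0 := fun e => by
      rw [CharP.cast_eq_zero_iff F p] at e
      exact hrp ((Nat.prime_dvd_prime_iff_eq Fact.out hr).1 e).symm
    have hrq : ¬ r ∣ Fintype.card F := fun hd' => by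
      obtain ⟨n, -, hn⟩ := FiniteField.card F p
      rw [hn] at hd'
      exact hrp ((Nat.prime_dvd_prime_iff_eq hr Fact.out).1 (hr.dvd_of_dvd_pow hd'))
    set i := orderOf (Fintype.card F : ZMod r) with hi
    have hi0 : 0 < i :=
      orderOf_pos_iff.2 (isOfFinOrder_iff_pow_eq_one.2 ⟨r - 1, by have := hr.two_le; omega,
        ZMod.pow_card_sub_one_eq_one fun e => hrq ((ZMod.natCast_eq_zero_iff _ _).1 e)⟩)
    obtain ⟨c, hc⟩ : ∃ c, c = if Even i then i else 2 * i := ⟨_, rfl⟩
    have hc0 : 0 < c := by rw [hc]; split_ifs <;> omega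
    have hc2d : c ≤ 2 * d := by
      have h1 : r ∣ Nat.card (isomGroup f) := by
        rw [Nat.card_congr ((MonoidHom.ofInjective hψi).toEquiv), hψr]
        exact hΩ.trans (Subgroup.index_dvd_card _)
      rw [card_isom_alt hA hN d hdim] at h1
      obtain ⟨j, hj, hjr⟩ := (hr.prime.dvd_finsetProd_iff _).1
        ((hr.dvd_mul.1 h1).resolve_left fun h => hrq (hr.dvd_of_dvd_pow h))
      rw [Finset.mem_range] at hj
      rw [← ZMod.natCast_eq_zero_iff, Nat.cast_sub (Nat.one_le_pow _ _ Fintype.card_pos), sub_eq_zero,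
        Nat.cast_pow, Nat.cast_one, ← orderOf_dvd_iff_pow_eq_one, ← hi] at hjr
      rw [hc]; split_ifs with hev
      · have := Nat.le_of_dvd (by omega) hjr
        omega
      · have h2' : i ∣ j + 1 := ((Nat.coprime_two_right.2 (Nat.not_even_iff_odd.1 hev)).dvd_of_dvd_mul_left hjr)
        have := Nat.le_of_dvd (by omega) h2'
        omega
    obtain ⟨t, htr, htfix⟩ := S5961.exists_fix hA hN hr0 hrodd (c := c) (by rw [hc, hi]) 1 (by rw [one_mul, hdim]; exact hc2d)
    rw [hdim, one_mul] at htfix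
    set T : Module.End F (Fin d ⊕ Fin d → F) := t.1.toLinearMap with hT
    have hTr : finrank F (LinearMap.range (T - 1)) = c := by
      have hker : LinearMap.ker (T - 1) = T.eigenspace 1 := by
        ext v; simp [sub_eq_zero, Module.End.mem_eigenspace_iff]
      have h := LinearMap.finrank_range_add_finrank_ker (T - 1)
      rw [hker, hdim] at h
      omega
    obtain ⟨A, B, h1, hAB, hform⟩ := hget hall t htr (fun z hz => by
      have hz2 : z ^ 2 = 1 := by
        have h := isomGroup_apply t e₀ w₀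
        rw [hz, hz, map_smul, map_smul, LinearMap.smul_apply, smul_eq_mul, smul_eq_mul, hw₀, mul_one] at h
        rw [pow_two]; exact h
      have hzr : z ^ r = 1 := by
        have key : ∀ n : ℕ, ∀ v, (t ^ n).1 v = z ^ n • v := fun n => by
          induction n with
          | zero => intro v; simp
          | succ n ih =>
            intro v
            rw [pow_succ' t n]
            show t.1 ((t ^ n).1 v) = _
            rw [ih, hz, smul_smul, pow_succ']
        have h := congrFun (key r e₀) (Sum.inl ⟨0, by omega⟩)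
        rw [htr] at h
        simpa [e₀] using h.symm
      have hz1 : z = 1 := by
        have := pow_gcd_eq_one.2 ⟨hz2, hzr⟩
        rwa [(Nat.coprime_two_left.2 hrodd).gcd_eq_one, pow_one] at this
      have hT0 : T - 1 = 0 := LinearMap.ext fun v => by
        show t.1 v - v = 0
        rw [hz, hz1, one_smul, sub_self]
      rw [hT0, LinearMap.range_zero, finrank_bot] at hTr
      omega)
    change finrank F (LinearMap.range (T - 1)) = _ at h1
    rw [hTr] at h1
    set A₀ := (A : Matrix (Fin a) (Fin a) F) with hA₀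
    set B₀ := (B : Matrix (Fin b) (Fin b) F) with hB₀
    -- normalised factors move multiples of `c`
    have hdvd : ∀ {n : ℕ} {M G : Matrix (Fin n) (Fin n) F}, G.det ≠ 0 → Mᵀ * G * M = G → M ^ r = 1 →
        c ∣ (M - 1).rank := by
      intro n M G hG hMG hM
      have h3 := S5979.dvd_rank_sub_one hr0 hM
      have h4 := even_rank h2 hrodd hr0 hG hMG hM
      rw [← hi] at h3
      rw [hc]; split_ifs with hev
      · exact h3
      · exact Nat.Coprime.mul_dvd_of_dvd_of_dvd (Nat.coprime_two_left.2 (Nat.not_even_iff_odd.1 hev))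
          (even_iff_two_dvd.1 h4) h3
    obtain ⟨α, hα, hAr, hBr⟩ := S5979.scalar_of_kronecker_one (by omega) (by omega) hAB
    by_cases hAs : ∀ c : F, A₀ ≠ c • (1 : Matrix (Fin a) (Fin a) F)
    · have hbc := S5979.le_rank ((Matrix.isUnit_iff_isUnit_det _).1 B.isUnit) hAs (1 : F)
      rw [one_smul, ← h1] at hbc
      have hq1 : ¬ r ∣ Fintype.card F - 1 := fun h => by
        have h' : (Fintype.card F : ZMod r) = 1 := by
          rwa [← ZMod.natCast_eq_zero_iff, Nat.cast_sub Fintype.card_pos, sub_eq_zero, Nat.cast_one] at h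
        rw [hi, h', orderOf_one] at hc
        simp at hc
        omega
      obtain ⟨δ, hδ, hδr⟩ : ∃ δ : F, δ ≠ 0 ∧ δ ^ r = α := by
        have hcop : (Nat.card Fˣ).Coprime r := by
          rw [Nat.card_eq_fintype_card, Fintype.card_units]
          exact ((hr.coprime_iff_not_dvd).2 hq1).symm
        obtain ⟨δ, hδ⟩ := (powCoprime hcop).surjective (Units.mk0 α hα)
        exact ⟨δ, δ.ne_zero, by simpa [powCoprime] using congrArg Units.val hδ⟩
      set A₁ := δ⁻¹ • A₀ with hA₁
      set B₁ := δ • B₀ with hB₁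
      have hA1r : A₁ ^ r = 1 := by
        rw [hA₁, smul_pow, hAr, smul_smul, inv_pow, hδr, inv_mul_cancel₀ hα, one_smul]
      have hB1r : B₁ ^ r = 1 := by
        rw [hB₁, smul_pow, hBr, smul_smul, hδr, mul_inv_cancel₀ hα, one_smul]
      have hkr : A₁ ⊗ₖ B₁ = A₀ ⊗ₖ B₀ := by
        rw [hA₁, hB₁, Matrix.smul_kronecker, Matrix.kronecker_smul, smul_smul, inv_mul_cancel₀ hδ, one_smul]
      rw [← hkr] at h1 hform
      obtain ⟨κ, hκ0, hκA, hκB⟩ := kron_forms hG1ne hG2ne hform
      have hκ : κ = 1 := by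
        have h := sim_pow hκA r
        rw [hA1r, Matrix.transpose_one, Matrix.one_mul, Matrix.mul_one] at h
        have hκr : κ ^ r = 1 := by
          by_contra hne
          refine hG1ne ((smul_eq_zero.1 (show (κ ^ r - 1) • G₁ = 0 by rw [sub_smul, one_smul, ← h, sub_self])).resolve_left
            (sub_ne_zero.2 hne))
        by_contra hne
        exact hq1 (orderOf_eq_prime hκr hne ▸
          orderOf_dvd_of_pow_eq_one (FiniteField.pow_card_sub_one_eq_one κ hκ0))
      rw [hκ, one_smul] at hκA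
      have hA1s : ∀ c : F, A₁ ≠ c • (1 : Matrix (Fin a) (Fin a) F) := fun c' h => hAs (δ * c') (by
        rw [← one_smul F A₀, ← mul_inv_cancel₀ hδ, ← smul_smul, ← hA₁, h, smul_smul])
      have hA1pos : (A₁ - 1).rank ≠ 0 := fun h0 => hA1s 1 (by
        rw [one_smul, ← sub_eq_zero]
        rw [Matrix.rank, Submodule.finrank_eq_zero, LinearMap.range_eq_bot] at h0
        exact Matrix.ext_of_mulVec_single fun i => by
          rw [← Matrix.mulVecLin_apply, h0, LinearMap.zero_apply, Matrix.zero_mulVec])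
      have hca : c ≤ (A₁ - 1).rank := Nat.le_of_dvd (Nat.pos_of_ne_zero hA1pos) (hdvd hdet1 hκA hA1r)
      have hca' := Matrix.rank_le_card_width (A₁ - 1)
      rw [Fintype.card_fin] at hca'
      by_cases hBs : ∀ c : F, B₁ ≠ c • (1 : Matrix (Fin b) (Fin b) F)
      · have hAu : IsUnit A₁.det := by
          rw [hA₁, Matrix.det_smul]
          exact ((isUnit_iff_ne_zero.2 (inv_ne_zero hδ)).pow _).mul ((Matrix.isUnit_iff_isUnit_det _).1 A.isUnit)
        have h3 := lt_rank hAu hb hA1s hBs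
        rw [← h1] at h3
        omega
      · push Not at hBs
        obtain ⟨z, hz⟩ := hBs
        have hz1 : z = 1 := by
          rw [hz, smul_pow, one_pow] at hB1r
          have hzr : z ^ r = 1 := by simpa using congrFun (congrFun hB1r ⟨0, by omega⟩) ⟨0, by omega⟩
          by_contra hne
          exact hq1 (orderOf_eq_prime hzr hne ▸ orderOf_dvd_of_pow_eq_one
            (FiniteField.pow_card_sub_one_eq_one z fun e => by simp [e, hr.ne_zero] at hzr))
        rw [hz, hz1, one_smul,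
          show A₁ ⊗ₖ (1 : Matrix (Fin b) (Fin b) F) - (1 : Matrix (Fin a × Fin b) (Fin a × Fin b) F) =
            (A₁ - 1) ⊗ₖ (1 : Matrix (Fin b) (Fin b) F) by
              ext ⟨i, j⟩ ⟨i', j'⟩
              by_cases hj : j = j' <;> simp [Matrix.kroneckerMap_apply, Matrix.one_apply, hj],
          rank_kronecker_one] at h1
        have h3 : 3 * c ≤ b * (A₁ - 1).rank := Nat.mul_le_mul hb hca
        omega
    · push Not at hAs
      obtain ⟨α₀, hα₀⟩ := hAs
      have h8 : α₀ ^ r = α := by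
        rw [hα₀, smul_pow, one_pow] at hAr
        simpa using congrFun (congrFun hAr ⟨0, by omega⟩) ⟨0, by omega⟩
      set B₁ := α₀ • B₀ with hB₁
      have hB1r : B₁ ^ r = 1 := by
        rw [hB₁, smul_pow, hBr, smul_smul, h8, mul_inv_cancel₀ hα, one_smul]
      have hkr : A₀ ⊗ₖ B₀ = (1 : Matrix (Fin a) (Fin a) F) ⊗ₖ B₁ := by
        rw [hα₀, hB₁, Matrix.smul_kronecker, Matrix.kronecker_smul]
      rw [hkr] at h1 hform
      obtain ⟨κ, -, hκA, hκB⟩ := kron_forms hG1ne hG2ne hform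
      rw [Matrix.transpose_one, Matrix.one_mul, Matrix.mul_one] at hκA
      have hκ : κ = 1 := by
        by_contra hne
        exact hG1ne ((smul_eq_zero.1 (show (κ - 1) • G₁ = 0 by rw [sub_smul, one_smul, ← hκA, sub_self])).resolve_left
          (sub_ne_zero.2 hne))
      rw [hκ, inv_one, one_smul] at hκB
      obtain ⟨m, hm⟩ := hdvd hdet2 hκB hB1r
      rw [show (1 : Matrix (Fin a) (Fin a) F) ⊗ₖ B₁ - 1 = (1 : Matrix (Fin a) (Fin a) F) ⊗ₖ (B₁ - 1) by
        simpa using S5979.scalar_kronecker_sub (a := a) (1 : F) 1 B₁, S5979.rank_one_kronecker, hm] at h1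
      rcases Nat.eq_zero_or_pos m with rfl | hm0
      · simp at h1; omega
      · have : 2 * c ≤ a * (c * m) := Nat.mul_le_mul ha2 (Nat.le_mul_of_pos_right c hm0)
        omega
  · rintro ⟨rfl, rfl⟩ x hx ⟨z, hz⟩ -
    obtain ⟨t, rfl⟩ : x ∈ ψ.range := hψr ▸ hx
    set T : Module.End F (Fin d ⊕ Fin d → F) := t.1.toLinearMap with hT
    have hTiso : ∀ u v, f (T u) (T v) = f u v := fun u v => isomGroup_apply t u v
    have hTT : ∀ v, T (T v) = z • v := fun v => by
      show t.1 (t.1 v) = z • v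
      have h := congrArg (fun M : Matrix (Fin d ⊕ Fin d) (Fin d ⊕ Fin d) F => M *ᵥ v) hz
      simp only [pow_two, Units.val_mul, ← Matrix.mulVec_mulVec, hψ, Matrix.smul_mulVec,
        Matrix.one_mulVec] at h
      exact h
    have hz2 : z * z = 1 := by
      have h := hTiso (T e₀) (T w₀)
      rw [hTT, hTT, hTiso, map_smul, map_smul, LinearMap.smul_apply, smul_eq_mul, smul_eq_mul, hw₀, mul_one] at h
      exact h
    have hmake : ∀ (A : GL (Fin 2) F) (B : GL (Fin b) F),
        (A : Matrix (Fin 2) (Fin 2) F)ᵀ * G₁ * (A : Matrix (Fin 2) (Fin 2) F) = G₁ →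
        (B : Matrix (Fin b) (Fin b) F)ᵀ * G₂ * (B : Matrix (Fin b) (Fin b) F) = G₂ → ∃ y : isomGroup f,
          ψ y ∈ Cfsg.Geo.tensorProductSubgroup 2 b e P ∧
          (ψ y : Matrix (Fin d ⊕ Fin d) (Fin d ⊕ Fin d) F) = Pm * Matrix.reindex e.symm e.symm
            ((A : Matrix (Fin 2) (Fin 2) F) ⊗ₖ (B : Matrix (Fin b) (Fin b) F)) * Pi' := by
      intro A B hA' hB'
      let h₀ : GL (Fin 2 × Fin b) F :=
        ⟨(A : Matrix (Fin 2) (Fin 2) F) ⊗ₖ (B : Matrix (Fin b) (Fin b) F),
          ((A⁻¹ : GL (Fin 2) F) : Matrix (Fin 2) (Fin 2) F) ⊗ₖ ((B⁻¹ : GL (Fin b) F) : Matrix (Fin b) (Fin b) F),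
          by rw [← Matrix.mul_kronecker_mul, ← Units.val_mul, ← Units.val_mul, mul_inv_cancel, mul_inv_cancel,
            Units.val_one, Units.val_one, Matrix.one_kronecker_one],
          by rw [← Matrix.mul_kronecker_mul, ← Units.val_mul, ← Units.val_mul, inv_mul_cancel, inv_mul_cancel,
            Units.val_one, Units.val_one, Matrix.one_kronecker_one]⟩
      have hY : P * Cfsg.Geo.glReindex e.symm h₀ * P⁻¹ ∈ Cfsg.spGL d F := fun u v => by
        refine (hiso ((A : Matrix (Fin 2) (Fin 2) F) ⊗ₖ (B : Matrix (Fin b) (Fin b) F))).2 ?_ u v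
        rw [← Matrix.kroneckerMap_transpose, ← Matrix.mul_kronecker_mul, ← Matrix.mul_kronecker_mul, hA', hB']
      obtain ⟨y, hy⟩ : P * Cfsg.Geo.glReindex e.symm h₀ * P⁻¹ ∈ ψ.range := hψr ▸ hY
      exact ⟨y, hy ▸ ⟨_, ⟨h₀, ⟨A, B, rfl⟩, rfl⟩, rfl⟩, by rw [hy]; rfl⟩
    have hysq : ∀ (y : isomGroup f) (M : Matrix (Fin 2 × Fin b) (Fin 2 × Fin b) F) (s : F),
        (ψ y : Matrix (Fin d ⊕ Fin d) (Fin d ⊕ Fin d) F) = Pm * Matrix.reindex e.symm e.symm M * Pi' →
        M * M = s • 1 → ∀ v, y.1 (y.1 v) = s • v := by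
      intro y M s hy hM v
      obtain ⟨u, rfl⟩ := hsurj v
      rw [← hψ, ← hψ, hy, hact, hact, Matrix.mulVec_mulVec, hM, Matrix.smul_mulVec, Matrix.one_mulVec,
        ← Matrix.mulVec_smul]
      rfl
    have hfin : ∀ y : isomGroup f, ψ y ∈ Cfsg.Geo.tensorProductSubgroup 2 b e P →
        (∃ g : isomGroup f, ∀ v, g.1 (t.1 v) = y.1 (g.1 v)) →
        ∃ g ∈ Cfsg.spGL d F, g⁻¹ * ψ t * g ∈ Cfsg.Geo.tensorProductSubgroup 2 b e P := by
      rintro y hy ⟨g, hg⟩
      refine ⟨ψ g⁻¹, hmem _, ?_⟩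
      have he : g * t = y * g := Subtype.ext (LinearEquiv.ext hg)
      rwa [← map_inv, ← map_mul, ← map_mul, inv_inv, he, mul_assoc, mul_inv_cancel, mul_one]
    rcases mul_self_eq_one_iff.1 hz2 with rfl | rfl
    · -- involutions
      simp only [one_smul] at hTT
      obtain ⟨k, hk⟩ := (inv_conj hA hN h2 hTiso hTiso hTT hTT).1
      have hkb : k ≤ b := by
        have := (LinearMap.range (T - 1)).finrank_le
        rw [hdim] at this
        omega
      have hG2s : G₂ᵀ = G₂ := by
        ext i j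
        exact hf₂.symm _ _
      obtain ⟨B, hB1, hB2, hBk⟩ := exists_reflect h2 hG2s hkb
      obtain ⟨y, hy, hyv⟩ := hmake 1 B (by simp) hB1
      refine hfin y hy ((inv_conj hA hN h2 (T' := y.1.toLinearMap) hTiso
        (fun u v => isomGroup_apply y u v) hTT (fun v => ?_)).2 ?_)
      · have := hysq y _ 1 hyv (by
          rw [Units.val_one, ← Matrix.mul_kronecker_mul, mul_one, hB2, Matrix.one_kronecker_one, one_smul]) v
        rwa [one_smul] at this
      · rw [hk, ← hrk, rank_conj e P _ _ hyv, Units.val_one,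
          show (1 : Matrix (Fin 2) (Fin 2) F) ⊗ₖ (B : Matrix (Fin b) (Fin b) F) - 1 =
            (1 : Matrix (Fin 2) (Fin 2) F) ⊗ₖ ((B : Matrix (Fin b) (Fin b) F) - 1) by
            simpa using S5979.scalar_kronecker_sub (a := 2) (1 : F) 1 (B : Matrix (Fin b) (Fin b) F),
          S5979.rank_one_kronecker, hBk, two_mul]
    · -- square minus one
      have hG1 : G₁ 0 0 = 0 ∧ G₁ 1 1 = 0 ∧ G₁ 1 0 = -G₁ 0 1 :=
        ⟨hf₁.alternating _, hf₁.alternating _, hf₁.skew _ _⟩
      let A : GL (Fin 2) F := ⟨!![0, -1; 1, 0], !![0, 1; -1, 0],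
        by ext i j; fin_cases i <;> fin_cases j <;> simp [Matrix.mul_apply, Fin.sum_univ_two],
        by ext i j; fin_cases i <;> fin_cases j <;> simp [Matrix.mul_apply, Fin.sum_univ_two]⟩
      obtain ⟨y, hy, hyv⟩ := hmake A 1 (by
        ext i j
        fin_cases i <;> fin_cases j <;>
          simp [A, Matrix.mul_apply, Fin.sum_univ_two, hG1.1, hG1.2.1, hG1.2.2]) (by simp)
      have hysq' := hysq y _ (-1) hyv (by
        rw [Units.val_one, ← Matrix.mul_kronecker_mul, one_mul,
          show (A : Matrix (Fin 2) (Fin 2) F) * A = (-1 : F) • 1 by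
            ext i j; fin_cases i <;> fin_cases j <;> simp [A, Matrix.mul_apply, Fin.sum_univ_two],
          Matrix.smul_kronecker, Matrix.one_kronecker_one])
      have hskew : ∀ S : isomGroup f, (∀ v, S.1 (S.1 v) = (-1 : F) • v) → ∀ u v, f (S.1 u) v = -f u (S.1 v) := by
        intro S hS u v
        conv_lhs => rw [show v = -(S.1 (S.1 v)) by rw [hS, neg_one_smul, neg_neg]]
        rw [map_neg, isomGroup_apply]
      exact hfin y hy (S5976.exists_conj hA hN h2 (T := t.1.toLinearMap)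
        (T' := y.1.toLinearMap) (δ := (-1 : F)) (neg_ne_zero.2 one_ne_zero)
        (hskew t hTT) hTT (hskew y hysq') hysq')

end Cfsg.Agent.S5980
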