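import Cfsg.Statements.S5981
import Cfsg.Agent.S5976
import Cfsg.Agent.S5980
import Cfsg.Agent.S5982
import Cfsg.Agent.Lib.Classical.OrthCount
import Cfsg.Agent.Lib.Orth.Classify
import Cfsg.Agent.Lib.KnownC.OrthRealise
-- import your own Cfsg.Agent.* helpers here

set_option autoImplicit false
open scoped MatrixGroups
open Cfsg

namespace Cfsg.Agent.S5981

open Module Matrix CfsgLib.Classical CfsgLib.Derangements CfsgLib.Orth
open scoped Kronecker

section Congr

variable {F : Type*} [Field F] [Fintype F] {n : ℕ}

/-- Two diagonal entries can be replaced by one and their product. -/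
theorem pair_step (h2 : (2 : F) ≠ 0) {w : Fin n → F} (hw : ∀ k, w k ≠ 0) {i j : Fin n} (hij : i ≠ j) :
    ∃ P : Matrix (Fin n) (Fin n) F, Pᵀ * Matrix.diagonal w * P =
      Matrix.diagonal (Function.update (Function.update w i 1) j (w i * w j)) := by
  classical
  obtain ⟨a, b, hab⟩ := S5976.exists_sq_add h2 (hw i) (hw j) 1
  let f : Fin n → Fin n → F := fun k =>
    if k = i then a • Pi.single i 1 + b • Pi.single j 1
    else if k = j then (-(b * w j)) • Pi.single i 1 + (a * w i) • Pi.single j 1
    else Pi.single k 1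
  let P : Matrix (Fin n) (Fin n) F := Matrix.of fun m k => f k m
  refine ⟨P, ?_⟩
  ext k l
  have key : (Pᵀ * Matrix.diagonal w * P) k l = ∑ m, w m * f k m * f l m := by
    rw [Matrix.mul_apply]
    exact Finset.sum_congr rfl fun m _ => by
      rw [Matrix.mul_diagonal, Matrix.transpose_apply]
      show f k m * w m * f l m = _
      ring
  have hs : ∀ (s : Fin n → F) (c : Fin n), ∑ m, w m * s m * (Pi.single c (1 : F) : Fin n → F) m = w c * s c :=
    fun s c => by
      rw [Finset.sum_eq_single c (fun m _ hm => by simp [hm]) (by simp)]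
      simp
  rw [key]
  by_cases hli : l = i
  · subst hli
    have hfl : f l = a • Pi.single l 1 + b • Pi.single j 1 := if_pos rfl
    simp only [hfl, Pi.add_apply, Pi.smul_apply, smul_eq_mul, mul_add, Finset.sum_add_distrib,
      show ∀ m c, w m * f k m * (a * c) = a * (w m * f k m * c) from fun m c => by ring,
      show ∀ m c, w m * f k m * (b * c) = b * (w m * f k m * c) from fun m c => by ring, ← Finset.mul_sum, hs]
    by_cases hki : k = l
    · subst hki
      rw [show f k = _ from hfl]
      simp [hij, hij.symm]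
      linear_combination hab
    · by_cases hkj : k = j
      · subst hkj
        rw [show f k = _ from (if_neg hki).trans (if_pos rfl)]
        simp [hij, hij.symm]
        ring
      · rw [show f k = _ from (if_neg hki).trans (if_neg hkj)]
        simp [Ne.symm hki, Ne.symm hkj, Matrix.diagonal_apply_ne _ hki]
  by_cases hlj : l = j
  · subst hlj
    have hfl : f l = (-(b * w l)) • Pi.single i 1 + (a * w i) • Pi.single l 1 := (if_neg hli).trans (if_pos rfl)
    simp only [hfl, Pi.add_apply, Pi.smul_apply, smul_eq_mul, mul_add, Finset.sum_add_distrib,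
      show ∀ m c, w m * f k m * (-(b * w l) * c) = -(b * w l) * (w m * f k m * c) from fun m c => by ring,
      show ∀ m c, w m * f k m * (a * w i * c) = a * w i * (w m * f k m * c) from fun m c => by ring,
      ← Finset.mul_sum, hs]
    by_cases hki : k = i
    · subst hki
      rw [show f k = _ from if_pos rfl]
      simp [hij, hij.symm]
      ring
    · by_cases hkj : k = l
      · subst hkj
        rw [show f k = _ from hfl]
        simp [hij, hij.symm]
        linear_combination (w i * w k) * hab
      · rw [show f k = _ from (if_neg hki).trans (if_neg hkj)]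
        simp [Ne.symm hki, Ne.symm hkj, Matrix.diagonal_apply_ne _ hkj]
  have hfl : f l = Pi.single l 1 := (if_neg hli).trans (if_neg hlj)
  simp only [hfl, hs]
  by_cases hki : k = i
  · subst hki
    rw [show f k = _ from if_pos rfl]
    simp [hli, hlj, Matrix.diagonal_apply_ne _ (Ne.symm hli)]
  by_cases hkj : k = j
  · subst hkj
    rw [show f k = _ from (if_neg hki).trans (if_pos rfl)]
    simp [hli, hlj, Matrix.diagonal_apply_ne _ (Ne.symm hlj)]
  rw [show f k = _ from (if_neg hki).trans (if_neg hkj)]
  by_cases hkl : k = l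
  · subst hkl
    simp [hki, hkj]
  · simp [hkl, Ne.symm hkl]

/-- A non-degenerate symmetric matrix is congruent to a standard one. -/
theorem congr_std (h2 : (2 : F) ≠ 0) (j₀ : Fin n) {G : Matrix (Fin n) (Fin n) F} (hGs : Gᵀ = G) (hGd : G.det ≠ 0) :
    ∃ (P : Matrix (Fin n) (Fin n) F) (D : F), P.det ≠ 0 ∧ D ≠ 0 ∧
      Pᵀ * G * P = Matrix.diagonal (Function.update 1 j₀ D) := by
  classical
  suffices key : ∀ (c : ℕ) (w : Fin n → F), (∀ k, w k ≠ 0) →
      (Finset.univ.filter fun k => k ≠ j₀ ∧ w k ≠ 1).card ≤ c →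
      ∀ P : Matrix (Fin n) (Fin n) F, Pᵀ * G * P = Matrix.diagonal w → P.det ≠ 0 →
      ∃ (P' : Matrix (Fin n) (Fin n) F) (D : F), P'.det ≠ 0 ∧ D ≠ 0 ∧
        P'ᵀ * G * P' = Matrix.diagonal (Function.update 1 j₀ D) by
    haveI : Invertible (2 : F) := invertibleOfNonzero h2
    set β : LinearMap.BilinForm F (Fin n → F) := Matrix.toLinearMap₂' F G with hβ
    have hsym : LinearMap.IsSymm β := ⟨fun u v => by
      rw [RingHom.id_apply, hβ, Matrix.toLinearMap₂'_apply', Matrix.toLinearMap₂'_apply', Matrix.dotProduct_mulVec,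
        ← Matrix.mulVec_transpose, hGs, dotProduct_comm]⟩
    obtain ⟨v₀, hv₀⟩ := LinearMap.BilinForm.exists_orthogonal_basis hsym
    let v := v₀.reindex (finCongr (finrank_fin_fun F (n := n)))
    let Q : Matrix (Fin n) (Fin n) F := (Pi.basisFun F (Fin n)).toMatrix v
    have hQd : Q.det ≠ 0 := fun h0 => by
      have h1 := congrArg Matrix.det ((Pi.basisFun F (Fin n)).toMatrix_mul_toMatrix_flip v)
      rw [Matrix.det_mul, Matrix.det_one, h0, zero_mul] at h1
      exact zero_ne_one h1
    have hQ : ∀ k l, (Qᵀ * G * Q) k l = β (v k) (v l) := fun k l => by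
      have hcol : ∀ m, Q *ᵥ Pi.single m 1 = v m := fun m => by
        funext i
        simp [Q, Matrix.mulVec_single, Matrix.col_apply, Basis.toMatrix_apply]
      rw [hβ, Matrix.toLinearMap₂'_apply', ← hcol k, ← hcol l, S5980.dot_mulVec, Matrix.mulVec_single,
        MulOpposite.op_one, one_smul, single_dotProduct, one_mul]
      rfl
    have hdiag : Qᵀ * G * Q = Matrix.diagonal fun k => β (v k) (v k) := by
      ext k l
      rw [hQ]
      rcases eq_or_ne k l with rfl | hkl
      · simp
      · rw [Matrix.diagonal_apply_ne _ hkl]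
        simp only [v, Basis.reindex_apply]
        exact hv₀ fun e => hkl ((finCongr _).symm.injective e)
    refine key _ _ (fun k hk => ?_) le_rfl Q hdiag hQd
    have h1 : (Qᵀ * G * Q).det ≠ 0 := by
      rw [Matrix.det_mul, Matrix.det_mul, Matrix.det_transpose]
      exact mul_ne_zero (mul_ne_zero hQd hGd) hQd
    rw [hdiag, Matrix.det_diagonal, Finset.prod_ne_zero_iff] at h1
    exact h1 k (Finset.mem_univ k) hk
  intro c
  induction c with
  | zero =>
    intro w hw hc P hP hPd
    refine ⟨P, w j₀, hPd, hw j₀, ?_⟩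
    rw [hP]
    congr 1
    funext k
    by_cases hk : k = j₀
    · subst hk; simp
    · rw [Function.update_of_ne hk, Pi.one_apply]
      by_contra hne
      have : k ∈ Finset.univ.filter fun k => k ≠ j₀ ∧ w k ≠ 1 := by simp [hk, hne]
      rw [Finset.card_eq_zero.1 (Nat.le_zero.1 hc)] at this
      exact absurd this (Finset.notMem_empty _)
  | succ c ih =>
    intro w hw hc P hP hPd
    by_cases hle : (Finset.univ.filter fun k => k ≠ j₀ ∧ w k ≠ 1).card ≤ c
    · exact ih w hw hle P hP hPd
    obtain ⟨i, hi⟩ := Finset.card_pos.1 (show 0 < (Finset.univ.filter fun k => k ≠ j₀ ∧ w k ≠ 1).card by omega)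
    rw [Finset.mem_filter] at hi
    obtain ⟨S, hS⟩ := pair_step h2 hw hi.2.1
    set w' := Function.update (Function.update w i 1) j₀ (w i * w j₀) with hw'
    have hw'0 : ∀ k, w' k ≠ 0 := fun k => by
      simp only [hw', Function.update_apply]
      split_ifs
      exacts [mul_ne_zero (hw i) (hw j₀), one_ne_zero, hw k]
    have hP' : (P * S)ᵀ * G * (P * S) = Matrix.diagonal w' := by
      rw [Matrix.transpose_mul, show Sᵀ * Pᵀ * G * (P * S) = Sᵀ * (Pᵀ * G * P) * S by simp only [mul_assoc], hP, hS]
    refine ih w' hw'0 ?_ (P * S) hP' fun h0 => ?_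
    · refine Nat.lt_succ_iff.1 (lt_of_lt_of_le (Finset.card_lt_card ?_) hc)
      rw [Finset.ssubset_iff_of_subset]
      · exact ⟨i, by simp [hi.2], by simp [hw', hi.2.1]⟩
      · intro k
        simp only [Finset.mem_filter, Finset.mem_univ, true_and, hw', Function.update_apply]
        rintro ⟨hk, hk'⟩
        rw [if_neg hk] at hk'
        split_ifs at hk' with hki
        · exact absurd rfl hk'
        · exact ⟨hk, hk'⟩
    · have h1 := congrArg Matrix.det hP'
      rw [Matrix.det_mul, Matrix.det_mul, Matrix.det_transpose, h0, zero_mul, zero_mul, Matrix.det_diagonal] at h1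
      exact Finset.prod_ne_zero_iff.2 (fun k _ => hw'0 k) h1.symm

/-- Symmetric matrices with determinants in one square class are congruent. -/
theorem congr_of_det (h2 : (2 : F) ≠ 0) (j₀ : Fin n) {G G' : Matrix (Fin n) (Fin n) F} (hGs : Gᵀ = G)
    (hGd : G.det ≠ 0) (hGs' : G'ᵀ = G') (hGd' : G'.det ≠ 0) (hsq : IsSquare (G.det * G'.det)) :
    ∃ P : GL (Fin n) F, (P : Matrix (Fin n) (Fin n) F)ᵀ * G * (P : Matrix (Fin n) (Fin n) F) = G' := by
  classical
  obtain ⟨P, D, hP, hD, hPG⟩ := congr_std h2 j₀ hGs hGd
  obtain ⟨P', D', hP', hD', hPG'⟩ := congr_std h2 j₀ hGs' hGd'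
  have hdetU : ∀ E : F, (Matrix.diagonal (Function.update (1 : Fin n → F) j₀ E)).det = E := fun E => by
    rw [Matrix.det_diagonal, Finset.prod_update_of_mem (Finset.mem_univ _)]
    simp
  have e1 := congrArg Matrix.det hPG
  have e2 := congrArg Matrix.det hPG'
  rw [Matrix.det_mul, Matrix.det_mul, Matrix.det_transpose, hdetU] at e1 e2
  obtain ⟨t, ht⟩ : IsSquare (D' / D) := by
    obtain ⟨u, hu⟩ := hsq
    refine ⟨P'.det * u / (G.det * P.det), ?_⟩
    rw [← e1, ← e2]
    field_simp
    linear_combination hu
  let S := Matrix.diagonal (Function.update (1 : Fin n → F) j₀ t)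
  have hS : Sᵀ * Matrix.diagonal (Function.update 1 j₀ D) * S = Matrix.diagonal (Function.update 1 j₀ D') := by
    rw [Matrix.diagonal_transpose, Matrix.diagonal_mul_diagonal, Matrix.diagonal_mul_diagonal]
    congr 1
    funext k
    by_cases hk : k = j₀
    · subst hk
      simp only [Function.update_self]
      have hd := ht
      field_simp at hd
      linear_combination -hd
    · simp [Function.update_of_ne hk]
  have ht0 : t ≠ 0 := fun e => div_ne_zero hD' hD (by rw [ht, e, mul_zero])
  have hSd : S.det ≠ 0 := by rw [show S.det = t from hdetU t]; exact ht0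
  have hP'u : IsUnit P'.det := isUnit_iff_ne_zero.2 hP'
  refine ⟨Matrix.GeneralLinearGroup.mkOfDetNeZero (P * S * P'⁻¹) ?_, ?_⟩
  · rw [Matrix.det_mul, Matrix.det_mul, Matrix.det_nonsing_inv, Ring.inverse_eq_inv']
    exact mul_ne_zero (mul_ne_zero hP hSd) (inv_ne_zero hP')
  · show (P * S * P'⁻¹)ᵀ * G * (P * S * P'⁻¹) = G'
    rw [Matrix.transpose_mul, Matrix.transpose_mul,
      show P'⁻¹ᵀ * (Sᵀ * Pᵀ) * G * (P * S * P'⁻¹) = P'⁻¹ᵀ * (Sᵀ * (Pᵀ * G * P) * S) * P'⁻¹ by simp only [mul_assoc],
      hPG, hS, ← hPG', Matrix.transpose_nonsing_inv, ← mul_assoc, ← mul_assoc, Matrix.mul_assoc _ P',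
      Matrix.mul_nonsing_inv _ hP'u, mul_one, Matrix.nonsing_inv_mul _ (by rwa [Matrix.det_transpose]), one_mul]

omit [Fintype F] in
/-- The matrix of a map in a basis is a conjugate. -/
theorem mat_of_basis (x : GL (Fin n) F) (β : Basis (Fin n) F (Fin n → F)) :
    ∃ g : GL (Fin n) F, ((g⁻¹ * x * g : GL (Fin n) F) : Matrix (Fin n) (Fin n) F) =
      LinearMap.toMatrix β β (Matrix.toLin' (x : Matrix (Fin n) (Fin n) F)) := by
  refine ⟨⟨(Pi.basisFun F (Fin n)).toMatrix β, β.toMatrix (Pi.basisFun F (Fin n)),
    Basis.toMatrix_mul_toMatrix_flip _ _, Basis.toMatrix_mul_toMatrix_flip _ _⟩, ?_⟩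
  show β.toMatrix (Pi.basisFun F (Fin n)) * (x : Matrix (Fin n) (Fin n) F) * (Pi.basisFun F (Fin n)).toMatrix β = _
  conv_lhs => rw [← LinearMap.toMatrix'_toLin' (x : Matrix (Fin n) (Fin n) F), ← LinearMap.toMatrix_eq_toMatrix']
  exact basis_toMatrix_mul_linearMap_toMatrix_mul_basis_toMatrix _ _ _ _ _

end Congr

/-- The group generated by an element of order `r` moving every non-zero zero of the form. -/
theorem zero_mod {F : Type*} [Field F] [Fintype F] {V : Type*} [AddCommGroup V] [Module F V] [Finite V]
    (Q : QuadraticForm F V) {r : ℕ} [Fact r.Prime] (g : orthGroup Q) (hg : g ^ r = 1)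
    (hfix : ∀ v, g.1 v = v → v = 0) : (zeroCount Q : ZMod r) = 1 := by
  classical
  let Z := {v : V // Q v = 0}
  let act : orthGroup Q →* Equiv.Perm Z :=
    { toFun := fun a => a.1.toEquiv.subtypeEquiv fun v => by
        show Q v = 0 ↔ Q (a.1 v) = 0
        rw [a.2 v]
      map_one' := Equiv.ext fun v => rfl
      map_mul' := fun a b => Equiv.ext fun v => rfl }
  have hact : ∀ (a : orthGroup Q) (v : Z), ((act a v : Z) : V) = a.1 v := fun a v => rfl
  let P := Subgroup.zpowers (act g)
  have hP : IsPGroup r P := by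
    refine IsPGroup.of_card (n := if act g = 1 then 0 else 1) ?_
    rw [Nat.card_zpowers]
    split_ifs with h
    · rw [h, orderOf_one, pow_zero]
    · rw [pow_one]
      exact orderOf_eq_prime (by rw [← map_pow, hg, map_one]) h
  have hfx : MulAction.fixedPoints P Z = {⟨0, QuadraticMap.map_zero Q⟩} := by
    ext v
    rw [MulAction.mem_fixedPoints, Set.mem_singleton_iff]
    constructor
    · intro hv
      refine Subtype.ext (hfix _ ?_)
      rw [← hact]
      exact congrArg Subtype.val (hv ⟨act g, Subgroup.mem_zpowers _⟩)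
    · rintro rfl ⟨a, ha⟩
      obtain ⟨k, rfl⟩ := Subgroup.mem_zpowers_iff.1 ha
      refine Subtype.ext ?_
      show ((((act g) ^ k) ⟨0, _⟩ : Z) : V) = 0
      rw [← map_zpow, hact, map_zero]
  have h := hP.card_modEq_card_fixedPoints Z
  rw [hfx, Nat.card_coe_set_eq, Set.ncard_singleton, ← ZMod.natCast_eq_natCast_iff] at h
  simpa [zeroCount] using h

/-- Elements of prime order of PSL_n(q), q odd, and the subgroups of orthogonal type. Here `T = PSL_n(F)` for a field `F` with `q` elements, `q` odd, `n ≥ 3`; `Q` is a non-degenerate quadratic form on `F^n` (of either type when `n` is even) and `H` is the subgroup of matrices of determinant 1 that preserve `Q` up to a scalar — a subgroup of type O^ε_n(q) (maximality is not assumed); Ω is the set of cosets of `H` in `T`, so an element of `T` of prime order `r` (a matrix `x` of determinant 1 with `x^r` scalar, `x` not scalar) fixes a point of Ω exactly when some conjugate of `x` by a matrix of determinant 1 preserves `Q` up to a scalar. Let `r` be a prime dividing the index of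 `H`, with `(n, r) ≠ (6, 3)`. Then every element of `T` of order `r` fixes a point of Ω if and only if `r = 2`, or `r ∈ {3, 5}`, `n = r` and `(q − 1)_r = r` (the `r`-part of `q − 1` is exactly `r`). The case `(n, r) = (6, 3)` is not covered by this statement. -/
theorem result {F : Type*} [Field F] [Fintype F] {p : ℕ} [Fact p.Prime] [CharP F p] {q : ℕ} (hq : Fintype.card F = q)
    (hodd : Odd q) (n : ℕ) (hn : 3 ≤ n) (Q : (Fin n → F) → F) (hQ : Cfsg.Geo.IsNondegenerateQuadraticForm Q)
    (r : ℕ) [Fact r.Prime] (hgap : ¬ (n = 6 ∧ r = 3))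
    (hΩ : r ∣ (Cfsg.Geo.quadSimilarityGroup Q).relIndex (Cfsg.Geo.specialLinear (Fin n) F)) :
    (∀ x ∈ Cfsg.Geo.specialLinear (Fin n) F, (∃ z : F, ((x ^ r : GL (Fin n) F) : Matrix (Fin n) (Fin n) F) = z • (1 : Matrix (Fin n) (Fin n) F)) →
      (∀ z : F, (x : Matrix (Fin n) (Fin n) F) ≠ z • (1 : Matrix (Fin n) (Fin n) F)) →
      ∃ g ∈ Cfsg.Geo.specialLinear (Fin n) F, g⁻¹ * x * g ∈ Cfsg.Geo.quadSimilarityGroup Q) ↔
    (r = 2 ∨ ((r = 3 ∨ r = 5) ∧ n = r ∧ padicValNat r (q - 1) = 1)) := by
  classical
  subst hq
  have hpr : p.Prime := Fact.out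
  have hrpr : r.Prime := Fact.out
  haveI : Nonempty (Fin n) := ⟨⟨0, by omega⟩⟩
  have hp2 : p ≠ 2 := fun e => by
    obtain ⟨k, -, hk⟩ := FiniteField.card F p
    rw [hk, e, Nat.odd_pow_iff k.ne_zero] at hodd
    exact absurd hodd (by decide)
  have hc2 : ringChar F ≠ 2 := by rw [ringChar.eq F p]; exact hp2
  have h2 : (2 : F) ≠ 0 := Ring.two_ne_zero hc2
  set G := Cfsg.Geo.gramMatrix (QuadraticMap.polar Q) with hG
  have hpg : ∀ u v, QuadraticMap.polar Q u v = u ⬝ᵥ (G *ᵥ v) := fun u v => by
    have := TensorNonMax.gram_expand (g := QuadraticMap.polar Q) (τ := id) hQ.polar_bilinear.add_left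
      hQ.polar_bilinear.smul_left hQ.polar_bilinear.add_right hQ.polar_bilinear.smul_right u v
    rw [← this, hG]
    simp [Cfsg.Geo.formOfGram, dotProduct, Matrix.mulVec, Finset.mul_sum, mul_assoc]
  have hGs : Gᵀ = G := by
    ext k l
    show QuadraticMap.polar Q _ _ = QuadraticMap.polar Q _ _
    exact QuadraticMap.polar_comm _ _ _
  have hGd : G.det ≠ 0 := fun h0 => by
    obtain ⟨v, hv, hv0⟩ := Matrix.exists_mulVec_eq_zero_iff.2 h0
    obtain ⟨x, hx⟩ := (hQ.nondegenerate v hv).1
    exact hx (by rw [hpg, hv0, dotProduct_zero])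
  have hG0 : G ≠ 0 := fun h => hGd (by rw [h, Matrix.det_zero])
  have hQv : ∀ v, 2 * Q v = v ⬝ᵥ (G *ᵥ v) := fun v => by
    rw [← hpg, QuadraticMap.polar, show v + v = (2 : F) • v by rw [two_smul], hQ.smul]
    ring
  have hto : ∀ y : GL (Fin n) F, y ∈ Cfsg.Geo.quadSimilarityGroup Q → ∃ s : F, s ≠ 0 ∧
      (y : Matrix (Fin n) (Fin n) F)ᵀ * G * (y : Matrix (Fin n) (Fin n) F) = s • G := by
    rintro y ⟨c, hc⟩
    refine ⟨c, c.ne_zero, S5980.gram_eq fun u v => ?_⟩
    rw [← S5980.dot_mulVec, ← hpg, Matrix.smul_mulVec, dotProduct_smul, ← hpg, smul_eq_mul, QuadraticMap.polar,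
      QuadraticMap.polar, ← Matrix.mulVec_add, hc, hc, hc]
    ring
  have hof : ∀ (y : GL (Fin n) F) (s : F), s ≠ 0 →
      (y : Matrix (Fin n) (Fin n) F)ᵀ * G * (y : Matrix (Fin n) (Fin n) F) = s • G →
      y ∈ Cfsg.Geo.quadSimilarityGroup Q := fun y s hs hy => ⟨Units.mk0 s hs, fun v => by
    refine mul_left_cancel₀ h2 ?_
    rw [hQv, S5980.dot_mulVec, hy, Matrix.smul_mulVec, dotProduct_smul, ← hQv, smul_eq_mul, Units.val_mk0]
    ring⟩
  have hGL : ∀ (x g₀ : GL (Fin n) F) (M G' : Matrix (Fin n) (Fin n) F) (s : F),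
      ((g₀⁻¹ * x * g₀ : GL (Fin n) F) : Matrix (Fin n) (Fin n) F) = M → Mᵀ * G' * M = s • G' → G'ᵀ = G' →
      G'.det ≠ 0 → IsSquare (G'.det * G.det) → s ≠ 0 →
      ∃ g : GL (Fin n) F, g⁻¹ * x * g ∈ Cfsg.Geo.quadSimilarityGroup Q := by
    intro x g₀ M G' s hM hMG hs' hd' hsq hs0
    obtain ⟨P, hP⟩ := congr_of_det h2 ⟨0, by omega⟩ hs' hd' hGs hGd hsq
    refine ⟨g₀ * P, hof _ s hs0 ?_⟩
    rw [show (g₀ * P)⁻¹ * x * (g₀ * P) = P⁻¹ * (g₀⁻¹ * x * g₀) * P by group, Units.val_mul, Units.val_mul, hM,
      ← hP]
    set Pm := (P : Matrix (Fin n) (Fin n) F)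
    set Pi := ((P⁻¹ : GL (Fin n) F) : Matrix (Fin n) (Fin n) F)
    have h1 : Pm * Pi = 1 := by rw [← Units.val_mul, mul_inv_cancel, Units.val_one]
    have h1' : Piᵀ * Pmᵀ = 1 := by rw [← Matrix.transpose_mul, h1, Matrix.transpose_one]
    rw [Matrix.transpose_mul, Matrix.transpose_mul,
      show Pmᵀ * (Mᵀ * Piᵀ) * (Pmᵀ * G' * Pm) * (Pi * M * Pm) = Pmᵀ * (Mᵀ * (Piᵀ * Pmᵀ) * G' * (Pm * Pi) * M) * Pm by
        simp only [mul_assoc], h1, h1', mul_one, mul_one, hMG, Matrix.mul_smul, Matrix.smul_mul]
  have hmkx : ∀ X : Matrix (Fin n) (Fin n) F, X.det = 1 → ∃ x ∈ Cfsg.Geo.specialLinear (Fin n) F,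
      ((x : GL (Fin n) F) : Matrix (Fin n) (Fin n) F) = X := fun X hX =>
    ⟨Matrix.GeneralLinearGroup.mkOfDetNeZero X (by rw [hX]; exact one_ne_zero), Units.ext hX, rfl⟩
  constructor
  · intro hall
    by_contra hcon
    have hr2 : r ≠ 2 := fun e => hcon (Or.inl e)
    have hrodd : Odd r := hrpr.odd_of_ne_two hr2
    have hget : ∀ X : Matrix (Fin n) (Fin n) F, X.det = 1 → (∃ z : F, X ^ r = z • 1) → (∀ c : F, X ≠ c • 1) →
        ∃ (g : GL (Fin n) F) (Y : Matrix (Fin n) (Fin n) F) (s : F), s ≠ 0 ∧ Yᵀ * G * Y = s • G ∧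
          Y = ((g⁻¹ : GL (Fin n) F) : Matrix (Fin n) (Fin n) F) * X * (g : Matrix (Fin n) (Fin n) F) := by
      rintro X hX ⟨z, hz⟩ hns
      obtain ⟨x, hx, hxX⟩ := hmkx X hX
      obtain ⟨g, -, hg⟩ := hall x hx ⟨z, by rw [Units.val_pow_eq_pow_val, hxX]; exact hz⟩ (by rw [hxX]; exact hns)
      obtain ⟨s, hs0, hs⟩ := hto _ hg
      exact ⟨g, _, s, hs0, hs, by rw [Units.val_mul, Units.val_mul, hxX]⟩
    -- the conjugate of an element of order `r`
    have hconj : ∀ (g : GL (Fin n) F) (X : Matrix (Fin n) (Fin n) F) (m : ℕ),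
        (((g⁻¹ : GL (Fin n) F) : Matrix (Fin n) (Fin n) F) * X * (g : Matrix (Fin n) (Fin n) F)) ^ m =
          ((g⁻¹ : GL (Fin n) F) : Matrix (Fin n) (Fin n) F) * X ^ m * (g : Matrix (Fin n) (Fin n) F) := fun g X m => by
      induction m with
      | zero => rw [pow_zero, pow_zero, mul_one, ← Units.val_mul, inv_mul_cancel, Units.val_one]
      | succ m ih =>
        rw [pow_succ, ih, pow_succ]
        simp only [mul_assoc]
        rw [← mul_assoc (g : Matrix (Fin n) (Fin n) F) _ (X * _), ← Units.val_mul, mul_inv_cancel, Units.val_one,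
          one_mul]
    have hs_r : ∀ (g : GL (Fin n) F) (X Y : Matrix (Fin n) (Fin n) F) (s : F), X ^ r = 1 → Yᵀ * G * Y = s • G →
        Y = ((g⁻¹ : GL (Fin n) F) : Matrix (Fin n) (Fin n) F) * X * (g : Matrix (Fin n) (Fin n) F) →
        Y ^ r = 1 ∧ s ^ r = 1 := by
      intro g X Y s hX hY hYg
      have hYr : Y ^ r = 1 := by
        rw [hYg, hconj, hX, mul_one, ← Units.val_mul, inv_mul_cancel, Units.val_one]
      refine ⟨hYr, ?_⟩
      have h := S5980.sim_pow hY r
      rw [hYr, Matrix.transpose_one, one_mul, mul_one] at h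
      by_contra hne
      exact hG0 ((smul_eq_zero.1 (show (s ^ r - 1) • G = 0 by rw [sub_smul, one_smul, ← h, sub_self])).resolve_left
        (sub_ne_zero.2 hne))
    have hconjv : ∀ (g : GL (Fin n) F) (X : Matrix (Fin n) (Fin n) F) (v : Fin n → F),
        (((g⁻¹ : GL (Fin n) F) : Matrix (Fin n) (Fin n) F) * X * (g : Matrix (Fin n) (Fin n) F)) *ᵥ
          (((g⁻¹ : GL (Fin n) F) : Matrix (Fin n) (Fin n) F) *ᵥ v) =
          ((g⁻¹ : GL (Fin n) F) : Matrix (Fin n) (Fin n) F) *ᵥ (X *ᵥ v) := fun g X v => by
      rw [Matrix.mulVec_mulVec, Matrix.mulVec_mulVec]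
      simp only [mul_assoc]
      rw [← Units.val_mul g g⁻¹, mul_inv_cancel, Units.val_one, mul_one]
    by_cases hrp : r = p
    · -- a transvection
      set i₀ : Fin n := ⟨0, by omega⟩
      set i₁ : Fin n := ⟨1, by omega⟩
      have hne : i₀ ≠ i₁ := by simp [i₀, i₁, Fin.ext_iff]
      set X := Matrix.transvection i₀ i₁ (1 : F) with hX
      have hXr : X ^ r = 1 := by
        have key : ∀ m : ℕ, X ^ m = Matrix.transvection i₀ i₁ (m : F) := fun m => by
          induction m with
          | zero => simp
          | succ m ih => rw [pow_succ, ih, hX, Matrix.transvection_mul_transvection_same i₀ i₁ hne, Nat.cast_succ]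
        rw [key, hrp, CharP.cast_eq_zero F p, Matrix.transvection_zero]
      obtain ⟨g, Y, s, hs0, hY, hYg⟩ := hget X (Matrix.det_transvection_of_ne _ _ hne _) ⟨1, by rw [one_smul]; exact hXr⟩
        (fun c hc => by
          have := congrFun (congrFun hc i₀) i₁
          simp [hX, Matrix.transvection, hne, Matrix.single] at this)
      obtain ⟨hYr, hsr⟩ := hs_r g X Y s hXr hY hYg
      have hs1 : s = 1 := by
        rw [hrp] at hsr
        have : (s - 1) ^ p = 0 := by rw [sub_pow_char, one_pow, hsr, sub_self]
        exact sub_eq_zero.1 (eq_zero_of_pow_eq_zero this)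
      rw [hs1, one_smul] at hY
      set gi := ((g⁻¹ : GL (Fin n) F) : Matrix (Fin n) (Fin n) F)
      set gm := (g : Matrix (Fin n) (Fin n) F)
      set w := gi *ᵥ Pi.single i₀ (1 : F) with hw
      have hYv : ∀ v, Y *ᵥ v = v + (gm *ᵥ v) i₁ • w := fun v => by
        rw [hYg, ← Matrix.mulVec_mulVec, ← Matrix.mulVec_mulVec, hX, Matrix.transvection, Matrix.add_mulVec,
          Matrix.one_mulVec, Matrix.mulVec_add, Matrix.mulVec_mulVec, ← Units.val_mul, inv_mul_cancel, Units.val_one,
          Matrix.one_mulVec, Matrix.single_mulVec, hw, ← Matrix.mulVec_smul]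
        congr 2
        funext k
        by_cases hk : k = i₀ <;> simp [hk]
      have hiso : ∀ u v, (Y *ᵥ u) ⬝ᵥ (G *ᵥ (Y *ᵥ v)) = u ⬝ᵥ (G *ᵥ v) := fun u v => by
        rw [S5980.dot_mulVec, hY]
      have hgw : gm *ᵥ w = Pi.single i₀ (1 : F) := by
        rw [hw, Matrix.mulVec_mulVec, ← Units.val_mul, mul_inv_cancel, Units.val_one, Matrix.one_mulVec]
      have hsym : ∀ u v, u ⬝ᵥ (G *ᵥ v) = v ⬝ᵥ (G *ᵥ u) := fun u v => by
        rw [← hpg, ← hpg, QuadraticMap.polar_comm]
      set u₁ := gi *ᵥ Pi.single i₁ (1 : F) with hu₁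
      have hgu : (gm *ᵥ u₁) i₁ = 1 := by
        rw [hu₁, Matrix.mulVec_mulVec, ← Units.val_mul, mul_inv_cancel, Units.val_one, Matrix.one_mulVec,
          Pi.single_eq_same]
      have hgw1 : (gm *ᵥ w) i₁ = 0 := by rw [hgw, Pi.single_eq_of_ne (Ne.symm hne)]
      have hker : ∀ v, (gm *ᵥ v) i₁ = 0 → w ⬝ᵥ (G *ᵥ v) = 0 := fun v hv => by
        have h := hiso u₁ v
        rw [hYv, hYv, hv, zero_smul, add_zero, hgu, one_smul, add_dotProduct] at h
        linear_combination h
      have hww := hker w hgw1
      have hwu : w ⬝ᵥ (G *ᵥ u₁) = 0 := by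
        have h := hiso u₁ u₁
        rw [hYv, hgu, one_smul, Matrix.mulVec_add, add_dotProduct, dotProduct_add, dotProduct_add, hww,
          hsym u₁ w] at h
        exact (mul_eq_zero.1 (show (2 : F) * (w ⬝ᵥ (G *ᵥ u₁)) = 0 by linear_combination h)).resolve_left h2
      have hw0 : w ≠ 0 := fun e => by
        rw [e, Matrix.mulVec_zero] at hgw
        exact one_ne_zero (α := F) (by simpa using (congrFun hgw i₀).symm)
      obtain ⟨v, hv⟩ := (hQ.nondegenerate w hw0).2
      apply hv
      rw [hpg]
      have := hker (v - (gm *ᵥ v) i₁ • u₁) (by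
        rw [Matrix.mulVec_sub, Matrix.mulVec_smul, Pi.sub_apply, Pi.smul_apply, hgu, smul_eq_mul, mul_one, sub_self])
      rw [Matrix.mulVec_sub, Matrix.mulVec_smul, dotProduct_sub, dotProduct_smul, hwu, smul_zero, sub_zero] at this
      exact this
    have hr0 : (r : F) ≠ 0 := fun e => by
      rw [CharP.cast_eq_zero_iff F p] at e
      exact hrp ((Nat.prime_dvd_prime_iff_eq hpr hrpr).1 e).symm
    have hrq : ¬ r ∣ Fintype.card F := fun hd => by
      obtain ⟨k, -, hk⟩ := FiniteField.card F p
      rw [hk] at hd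
      exact hrp ((Nat.prime_dvd_prime_iff_eq hrpr hpr).1 (hrpr.dvd_of_dvd_pow hd))
    set i := orderOf (Fintype.card F : ZMod r) with hi
    by_cases hq1 : r ∣ Fintype.card F - 1
    · -- split torus elements
      obtain ⟨g₀, hg₀⟩ := IsCyclic.exists_ofOrder_eq_natCard (α := Fˣ)
      rw [Nat.card_eq_fintype_card, Fintype.card_units] at hg₀
      have hroot : ∀ m : ℕ, m ∣ Fintype.card F - 1 → ∃ x : F, x ≠ 0 ∧ orderOf x = m := fun m hm =>
        ⟨((g₀ ^ ((Fintype.card F - 1) / m) : Fˣ) : F), Units.ne_zero _, by
          rw [orderOf_units, ← hg₀]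
          exact orderOf_pow_orderOf_div (by rw [hg₀]; have := Fintype.one_lt_card (α := F); omega) (by rwa [hg₀])⟩
      obtain ⟨ω, hω0, hωo⟩ := hroot r hq1
      have hωr : ω ^ r = 1 := by rw [← hωo, pow_orderOf_eq_one]
      have hωk : ∀ k : ℕ, ω ^ k = 1 → r ∣ k := fun k h' => hωo ▸ orderOf_dvd_of_pow_eq_one h'
      have hwit : ∀ D : Fin n → F, (∏ k, D k = 1) → (∃ z : F, ∀ k, D k ^ r = z) → (∃ k l, D k ≠ D l) →
          ∃ (s : F) (G' : Matrix (Fin n) (Fin n) F), G'.det ≠ 0 ∧ ∀ k l, G' k l ≠ 0 → D k * D l = s := by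
        rintro D hD ⟨z, hz⟩ ⟨k₁, l₁, hkl⟩
        obtain ⟨g, Y, s, hs0, hY, hYg⟩ := hget (Matrix.diagonal D) (by rw [Matrix.det_diagonal, hD]) ⟨z, by
            rw [Matrix.diagonal_pow, Matrix.smul_one_eq_diagonal]
            congr 1
            funext k
            rw [Pi.pow_apply, hz]⟩ (fun c hc => by
          rw [Matrix.smul_one_eq_diagonal, Matrix.diagonal_eq_diagonal_iff] at hc
          exact hkl ((hc k₁).trans (hc l₁).symm))
        set gi := ((g⁻¹ : GL (Fin n) F) : Matrix (Fin n) (Fin n) F)
        refine ⟨s, giᵀ * G * gi, ?_, fun k l hne => ?_⟩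
        · rw [Matrix.det_mul, Matrix.det_mul, Matrix.det_transpose]
          exact mul_ne_zero (mul_ne_zero (Matrix.GeneralLinearGroup.det g⁻¹).ne_zero hGd)
            (Matrix.GeneralLinearGroup.det g⁻¹).ne_zero
        · have hYgi : Y * gi = gi * Matrix.diagonal D := by
            rw [hYg, mul_assoc, ← Units.val_mul g g⁻¹, mul_inv_cancel, Units.val_one, mul_one]
          have h1 : Matrix.diagonal D * (giᵀ * G * gi) * Matrix.diagonal D = s • (giᵀ * G * gi) :=
            calc _ = (Matrix.diagonal D)ᵀ * giᵀ * G * (gi * Matrix.diagonal D) := by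
                  rw [Matrix.diagonal_transpose]; simp only [mul_assoc]
              _ = (Y * gi)ᵀ * G * (Y * gi) := by rw [← Matrix.transpose_mul, hYgi]
              _ = giᵀ * (Yᵀ * G * Y) * gi := by rw [Matrix.transpose_mul]; simp only [mul_assoc]
              _ = _ := by rw [hY, Matrix.mul_smul, Matrix.smul_mul]
          have h2' := congrFun (congrFun h1 k) l
          rw [Matrix.mul_diagonal, Matrix.diagonal_mul, Matrix.smul_apply, smul_eq_mul] at h2'
          exact mul_right_cancel₀ hne (by linear_combination h2')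
      have htwo : ∀ (S : Finset (Fin n)) (a b : F), a * a ≠ b * b → S.card ≠ Sᶜ.card → S.Nonempty → Sᶜ.Nonempty →
          a ^ r = b ^ r → a ^ S.card * b ^ Sᶜ.card = 1 → False := by
        intro S a b hab hcard hS hSc habr hprod
        let D : Fin n → F := fun k => if k ∈ S then a else b
        have hab' : a ≠ b := fun e => hab (by rw [e])
        have hD : ∏ k, D k = 1 := by
          rw [← Finset.prod_mul_prod_compl S, Finset.prod_congr rfl (g := fun _ => a) fun k hk => if_pos hk,
            Finset.prod_congr rfl (s₁ := Sᶜ) (g := fun _ => b) fun k hk => if_neg (Finset.mem_compl.1 hk),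
            Finset.prod_const, Finset.prod_const, hprod]
        obtain ⟨k₁, hk₁⟩ := hS
        obtain ⟨k₂, hk₂⟩ := hSc
        obtain ⟨s, G', hG', hGs'⟩ := hwit D hD ⟨a ^ r, fun k => by dsimp only [D]; split_ifs <;> simp [habr]⟩
          ⟨k₁, k₂, by simp [D, hk₁, Finset.mem_compl.1 hk₂, hab']⟩
        have hrow : ∀ k, ∃ l, G' k l ≠ 0 := fun k => by
          by_contra hall'
          push Not at hall'
          exact hG' (Matrix.det_eq_zero_of_row_eq_zero k hall')
        by_cases hs1 : s = a * b
        · have h1 : S.card ≤ Sᶜ.card := S5982.card_le hG' S Sᶜ fun k hk l hl => by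
            by_contra hne
            have := hGs' k l hne
            simp only [D, if_pos hk, if_pos (by simpa using hl : l ∈ S), hs1] at this
            rcases mul_eq_mul_left_iff.1 this with e | e
            · exact hab' e
            · exact hab' (by
                have : b ^ r = 0 := by rw [← habr, e, zero_pow hrpr.ne_zero]
                rw [e, eq_zero_of_pow_eq_zero this])
          have h3 : Sᶜ.card ≤ S.card := S5982.card_le hG' Sᶜ S fun k hk l hl => by
            by_contra hne
            have := hGs' k l hne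
            simp only [D, if_neg (Finset.mem_compl.1 hk), if_neg hl, hs1] at this
            rcases mul_eq_mul_right_iff.1 this with e | e
            · exact hab' e.symm
            · exact hab' (by
                have : a ^ r = 0 := by rw [habr, e, zero_pow hrpr.ne_zero]
                rw [e, eq_zero_of_pow_eq_zero this])
          omega
        · obtain ⟨l₁, hl₁⟩ := hrow k₁
          obtain ⟨l₂, hl₂⟩ := hrow k₂
          have e1 := hGs' _ _ hl₁
          have e2 := hGs' _ _ hl₂
          simp only [D, if_pos hk₁, if_neg (Finset.mem_compl.1 hk₂)] at e1 e2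
          split_ifs at e1 e2 with hc1 hc2 hc2
          · exact hs1 (by rw [← e2, mul_comm])
          · exact hab (e1.trans e2.symm)
          · exact hs1 e1.symm
          · exact hs1 e1.symm
      have hfc : ∀ m, m ≤ n → (Finset.univ.filter fun k : Fin n => k.1 < m).card = m := fun m hm => by
        rw [Fin.card_filter_val_lt, min_eq_right hm]
      have hfcc : ∀ m, m ≤ n → ((Finset.univ.filter fun k : Fin n => k.1 < m)ᶜ).card = n - m := fun m hm => by
        rw [Finset.card_compl, Fintype.card_fin, hfc m hm]
      by_cases hnr : n = r ∧ (r = 3 ∨ r = 5)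
      · obtain ⟨hn', hr35⟩ := hnr
        symm at hn'
        subst hn'
        have hv : padicValNat r (Fintype.card F - 1) ≠ 1 := fun e => hcon (Or.inr ⟨hr35, rfl, e⟩)
        have hne0 : Fintype.card F - 1 ≠ 0 := by have := Fintype.one_lt_card (α := F); omega
        have hv1 : 1 ≤ padicValNat r (Fintype.card F - 1) := one_le_padicValNat_of_dvd hne0 hq1
        have hd2 : r ^ 2 ∣ Fintype.card F - 1 :=
          (pow_dvd_pow r (show 2 ≤ padicValNat r (Fintype.card F - 1) by omega)).trans pow_padicValNat_dvd
        obtain ⟨ν, hν0, hνo⟩ := hroot _ hd2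
        have hr2' : r * 2 < r ^ 2 := by rw [pow_two]; exact Nat.mul_lt_mul_of_pos_left (by omega) hrpr.pos
        refine htwo (Finset.univ.filter fun k : Fin r => k.1 < r - 1) ν⁻¹ (ν⁻¹ * ν ^ r) ?_ ?_ ?_ ?_ ?_ ?_
        · intro e
          have h1 : ν ^ (r * 2) = 1 := by
            rw [pow_mul, pow_two]
            have : ν⁻¹ * ν⁻¹ ≠ 0 := mul_ne_zero (inv_ne_zero hν0) (inv_ne_zero hν0)
            exact mul_left_cancel₀ this (by rw [mul_one]; linear_combination -e)
          have := Nat.le_of_dvd (by omega) (hνo ▸ orderOf_dvd_of_pow_eq_one h1)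
          omega
        · rw [hfc _ (by omega), hfcc _ (by omega)]; omega
        · exact Finset.card_pos.1 (by rw [hfc _ (by omega)]; omega)
        · exact Finset.card_pos.1 (by rw [hfcc _ (by omega)]; omega)
        · rw [mul_pow, ← pow_mul, ← pow_two, ← hνo, pow_orderOf_eq_one, mul_one]
        · rw [hfc _ (by omega), hfcc _ (by omega), show r - (r - 1) = 1 by omega, pow_one, ← mul_assoc, ← pow_succ,
            Nat.sub_add_cancel hrpr.one_le, inv_pow, inv_mul_cancel₀ (pow_ne_zero _ hν0)]
      rcases eq_or_ne r 3 with rfl | hr3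
      · have hn4 : 4 ≤ n := by
          have : n ≠ 3 := fun e => hnr ⟨e, Or.inl rfl⟩
          omega
        refine htwo (Finset.univ.filter fun k : Fin n => k.1 < 3) ω 1 ?_ ?_ ?_ ?_ (by rw [hωr, one_pow]) ?_
        · intro e
          have := hωk 2 (by rw [pow_two, e, one_mul])
          omega
        · rw [hfc _ (by omega), hfcc _ (by omega)]
          intro e
          exact hgap ⟨by omega, rfl⟩
        · exact Finset.card_pos.1 (by rw [hfc _ (by omega)]; omega)
        · exact Finset.card_pos.1 (by rw [hfcc _ (by omega)]; omega)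
        · rw [hfc _ (by omega), hωr, one_pow, one_mul]
      have hr5 : 5 ≤ r := by
        have h4 : r ≠ 4 := fun e => by rw [e] at hrodd; exact absurd hrodd (by decide)
        have := hrpr.two_le
        omega
      by_cases hn5 : n ≤ 5
      · have hrn : ¬ r ∣ 2 * n := fun hd => by
          have h1 : r ∣ n := (hrpr.dvd_mul.1 hd).resolve_left fun h2' =>
            hr2 ((Nat.prime_dvd_prime_iff_eq hrpr Nat.prime_two).1 h2')
          have := Nat.le_of_dvd (by omega) h1
          exact hnr ⟨by omega, Or.inr (by omega)⟩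
        refine htwo (Finset.univ.filter fun k : Fin n => k.1 < n - 1) ω (ω⁻¹ ^ (n - 1)) ?_ ?_ ?_ ?_ ?_ ?_
        · intro e
          refine hrn (hωk _ ?_)
          have h1 : (ω * ω) * ω ^ (2 * (n - 1)) = 1 := by
            rw [e, ← mul_pow, two_mul, pow_add, ← mul_pow, ← mul_pow,
              show ω⁻¹ * ω⁻¹ * (ω * ω) = 1 by field_simp, one_pow]
          rw [show 2 * n = 2 + 2 * (n - 1) by omega, pow_add, pow_two]
          exact h1
        · rw [hfc _ (by omega), hfcc _ (by omega)]; omega
        · exact Finset.card_pos.1 (by rw [hfc _ (by omega)]; omega)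
        · exact Finset.card_pos.1 (by rw [hfcc _ (by omega)]; omega)
        · rw [← pow_mul, mul_comm, pow_mul, inv_pow, hωr, inv_one, one_pow]
        · rw [hfc _ (by omega), hfcc _ (by omega), show n - (n - 1) = 1 by omega, pow_one, ← mul_pow,
            mul_inv_cancel₀ hω0, one_pow]
      -- at least six dimensions
      let D : Fin n → F := fun k => if k.1 < 2 then ω else if k.1 = 2 then ω⁻¹ * ω⁻¹ else 1
      have hD : ∏ k, D k = 1 := by
        rw [← Finset.prod_subset (Finset.subset_univ (Finset.univ.filter fun k : Fin n => k.1 < 3)) fun k _ hk => by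
          simp only [Finset.mem_filter, Finset.mem_univ, true_and, not_lt] at hk
          dsimp only [D]; rw [if_neg (show ¬ k.1 < 2 by omega), if_neg (show k.1 ≠ 2 by omega)],
          show (Finset.univ.filter fun k : Fin n => k.1 < 3) = {⟨0, by omega⟩, ⟨1, by omega⟩, ⟨2, by omega⟩} by
            ext k; simp [Fin.ext_iff]; omega,
          Finset.prod_insert (by simp [Fin.ext_iff]), Finset.prod_pair (by simp [Fin.ext_iff])]
        simp [D]
        field_simp
      have hω1 : ω ≠ 1 := fun e => by rw [e, orderOf_one] at hωo; omega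
      obtain ⟨s, G', hG', hGs'⟩ := hwit D hD ⟨1, fun k => by
          dsimp only [D]; split_ifs <;> simp [hωr, mul_pow, inv_pow]⟩
        ⟨⟨0, by omega⟩, ⟨3, by omega⟩, by simp [D, hω1]⟩
      have hs : s = 1 := by
        by_contra hs1
        have h1 := S5982.card_le hG' (Finset.univ.filter fun k : Fin n => D k = 1)
          (Finset.univ.filter fun k : Fin n => D k = s) fun k hk l hl => by
            by_contra hne
            have := hGs' k l hne
            simp only [Finset.mem_filter, Finset.mem_univ, true_and] at hk hl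
            rw [hk, one_mul] at this
            exact hl this
        have h3 : n - 3 ≤ (Finset.univ.filter fun k : Fin n => D k = 1).card := by
          refine le_trans (le_of_eq ?_) (Finset.card_le_card (s := ((Finset.univ.filter fun k : Fin n => k.1 < 3))ᶜ) ?_)
          · rw [hfcc 3 (by omega)]
          · intro k hk
            simp only [Finset.mem_compl, Finset.mem_filter, Finset.mem_univ, true_and, not_lt] at hk ⊢
            dsimp only [D]
            rw [if_neg (show ¬ k.1 < 2 by omega), if_neg (show k.1 ≠ 2 by omega)]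
        have h4 : (Finset.univ.filter fun k : Fin n => D k = s).card ≤ 2 := by
          by_cases hsω : s = ω
          · refine le_trans (Finset.card_le_card (t := Finset.univ.filter fun k : Fin n => k.1 < 2) ?_)
              (hfc 2 (by omega)).le
            intro k hk
            simp only [Finset.mem_filter, Finset.mem_univ, true_and, D] at hk ⊢
            by_contra hlt
            rw [if_neg hlt, hsω] at hk
            split_ifs at hk
            · have := hωk 3 (by rw [show ω ^ 3 = ω * (ω * ω) by ring]; nth_rw 1 [← hk]; field_simp)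
              have := Nat.le_of_dvd (by omega) this
              omega
            · exact hω1 hk.symm
          · refine le_trans (Finset.card_le_card (t := {⟨2, by omega⟩}) ?_) (by simp)
            intro k hk
            simp only [Finset.mem_filter, Finset.mem_univ, true_and, D] at hk
            rw [Finset.mem_singleton, Fin.ext_iff]
            split_ifs at hk with hc1 hc2
            · exact absurd hk.symm hsω
            · exact hc2
            · exact absurd hk.symm hs1
        omega
      obtain ⟨l, hl⟩ : ∃ l, D ⟨0, by omega⟩ * D l = s := by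
        by_contra hall'
        push Not at hall'
        exact hG' (Matrix.det_eq_zero_of_row_eq_zero (⟨0, by omega⟩ : Fin n) fun l => by
          by_contra hne
          exact hall' l (hGs' _ l hne))
      rw [hs] at hl
      simp only [D, show (0 : ℕ) < 2 by omega, if_true] at hl
      split_ifs at hl
      · have := Nat.le_of_dvd (by omega) (hωk 2 (by rw [pow_two, hl]))
        omega
      · have h' : ω * ω = ω := by
          have h'' := congrArg (· * (ω * ω)) hl
          field_simp at h''
          rw [← h'']; ring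
        exact hω1 (mul_left_cancel₀ hω0 (by rw [mul_one, h']))
      · exact hω1 (by rw [← hl, mul_one])
    · -- fixed-point-free or irreducible elements
      have hi0 : 0 < i :=
        orderOf_pos_iff.2 (isOfFinOrder_iff_pow_eq_one.2 ⟨r - 1, by have := hrpr.two_le; omega,
          ZMod.pow_card_sub_one_eq_one fun e => hrq ((ZMod.natCast_eq_zero_iff _ _).1 e)⟩)
      have hi2 : 2 ≤ i := by
        by_contra hlt
        have h1 : i = 1 := by omega
        rw [hi, orderOf_eq_one_iff] at h1
        refine hq1 ?_
        rw [← ZMod.natCast_eq_zero_iff, Nat.cast_sub Fintype.card_pos, h1, Nat.cast_one, sub_self]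
      have hscal : ∀ s : F, s ≠ 0 → s ^ r = 1 → s = 1 := fun s hs0 hsr => by
        by_contra hne
        exact hq1 (orderOf_eq_prime hsr hne ▸ orderOf_dvd_of_pow_eq_one (FiniteField.pow_card_sub_one_eq_one s hs0))
      have hnosc : ∀ (X : Matrix (Fin n) (Fin n) F), X ^ r = 1 → X ≠ 1 → ∀ c : F, X ≠ c • 1 := by
        intro X hX hX1 c hc
        have h := hX
        rw [hc, smul_pow, one_pow] at h
        have h0 := congrFun (congrFun h ⟨0, by omega⟩) ⟨0, by omega⟩
        simp at h0
        exact hX1 (by rw [hc, hscal c (fun e => by simp [e, hrpr.ne_zero] at h0) h0, one_smul])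
      rcases Nat.even_or_odd i with hiev | hiodd
      · -- the orders of the groups
        let B₀ : LinearMap.BilinForm F (Fin n → F) := (2 : F)⁻¹ • Matrix.toLinearMap₂' F G
        let Qf : QuadraticForm F (Fin n → F) := B₀.toQuadraticMap
        have hQf : ∀ v, Qf v = Q v := fun v => by
          show (2 : F)⁻¹ * Matrix.toLinearMap₂' F G v v = Q v
          rw [Matrix.toLinearMap₂'_apply', ← hQv, ← mul_assoc, inv_mul_cancel₀ h2, one_mul]
        have hQfn : (QuadraticMap.polarBilin Qf).Nondegenerate := nondegenerate_of_left fun v hv => by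
          by_contra hne
          obtain ⟨x, hx⟩ := (hQ.nondegenerate v hne).2
          refine hx ?_
          have := hv x
          simpa only [QuadraticMap.polar, hQf] using this
        set SL := Cfsg.Geo.specialLinear (Fin n) F
        set H := (Cfsg.Geo.quadSimilarityGroup Q).subgroupOf SL
        let det' : orthGroup Qf →* Fˣ := LinearEquiv.det.comp (orthGroup Qf).subtype
        let toGL : orthGroup Qf →* GL (Fin n) F :=
          ((Matrix.GeneralLinearGroup.toLin (n := Fin n) (R := F)).symm.toMonoidHom).comp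
            ((LinearMap.GeneralLinearGroup.generalLinearEquiv F (Fin n → F)).symm.toMonoidHom.comp
              (orthGroup Qf).subtype)
        have htoGL : ∀ g v, (toGL g : Matrix (Fin n) (Fin n) F) *ᵥ v = g.1 v := fun g v => by
          show LinearMap.toMatrix' (g.1 : (Fin n → F) →ₗ[F] (Fin n → F)) *ᵥ v = _
          rw [LinearMap.toMatrix'_mulVec]; rfl
        have hiso : ∀ g : orthGroup Qf, (toGL g : Matrix (Fin n) (Fin n) F)ᵀ * G * (toGL g : Matrix (Fin n) (Fin n) F) = G :=
          fun g => S5980.gram_eq fun u v => by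
            rw [← S5980.dot_mulVec, htoGL, htoGL, ← hpg, ← hpg]
            simp only [QuadraticMap.polar, ← hQf, ← map_add, g.2 _]
        have hrange : Nat.card det'.range ∣ 2 := by
          obtain ⟨x, hx⟩ := IsCyclic.exists_ofOrder_eq_natCard (α := det'.range)
          rw [← hx, ← orderOf_injective (det'.range).subtype Subtype.val_injective, orderOf_dvd_iff_pow_eq_one]
          obtain ⟨⟨_, g, rfl⟩, _⟩ := x, hx
          apply Units.ext
          rw [Units.val_pow_eq_pow_val, Units.val_one]
          show ((LinearEquiv.det g.1 : Fˣ) : F) ^ 2 = 1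
          rw [LinearEquiv.coe_det, ← LinearMap.det_toMatrix']
          show (toGL g : Matrix (Fin n) (Fin n) F).det ^ 2 = 1
          have h' := congrArg Matrix.det (hiso g)
          rw [Matrix.det_mul, Matrix.det_mul, Matrix.det_transpose] at h'
          exact mul_right_cancel₀ hGd (show _ * G.det = 1 * G.det by linear_combination h')
        have hker : Nat.card det'.ker ∣ Nat.card H := by
          have hm : ∀ g : det'.ker, toGL g.1 ∈ SL := fun g => by
            refine Units.ext ?_
            show (LinearMap.toMatrix' (g.1.1 : (Fin n → F) →ₗ[F] (Fin n → F))).det = 1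
            rw [LinearMap.det_toMatrix', ← LinearEquiv.coe_det]
            exact congrArg Units.val g.2
          have hmH : ∀ g : det'.ker, (⟨toGL g.1, hm g⟩ : SL) ∈ H := fun g =>
            hof (toGL g.1) 1 one_ne_zero (by rw [one_smul]; exact hiso g.1)
          refine Subgroup.card_dvd_of_injective
            (MonoidHom.codRestrict ((toGL.comp det'.ker.subtype).codRestrict SL hm) H hmH) fun g g' e => ?_
          refine Subtype.ext (Subtype.ext (LinearEquiv.ext fun v => ?_))
          rw [← htoGL, ← htoGL]
          exact congrArg (fun z : H => (((z : SL) : GL (Fin n) F) : Matrix (Fin n) (Fin n) F) *ᵥ v) e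
        have hU : Nat.card (orthGroup Qf) ∣ 2 * Nat.card det'.ker := by
          rw [Subgroup.card_eq_card_quotient_mul_card_subgroup det'.ker,
            Nat.card_congr (QuotientGroup.quotientKerEquivRange det').toEquiv]
          exact mul_dvd_mul hrange dvd_rfl
        have hdiv : r * Nat.card (orthGroup Qf) ∣ 2 * Nat.card (GL (Fin n) F) := by
          refine dvd_trans ?_ (mul_dvd_mul (dvd_refl 2) (Subgroup.card_subgroup_dvd_card SL))
          rw [← H.index_mul_card]
          refine (mul_dvd_mul dvd_rfl hU).trans ?_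
          rw [mul_left_comm r 2]
          exact mul_dvd_mul dvd_rfl (mul_dvd_mul hΩ hker)
        rw [Matrix.card_GL_field] at hdiv
        have hq2 : 2 ≤ Fintype.card F := Fintype.one_lt_card
        set q := Fintype.card F
        obtain ⟨E₀, hE₀⟩ : ∃ E : ℕ, ∏ k : Fin n, (q ^ n - q ^ (k : ℕ)) =
            q ^ E * ∏ j ∈ Finset.range n, (q ^ (j + 1) - 1) := by
          refine ⟨∑ k ∈ Finset.range n, k, ?_⟩
          rw [Fin.prod_univ_eq_prod_range (fun i => q ^ n - q ^ i) n]
          have h1 : ∀ k ∈ Finset.range n, q ^ n - q ^ k = q ^ k * (q ^ ((n - 1 - k) + 1) - 1) := fun k hk => by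
            rw [Finset.mem_range] at hk
            rw [Nat.mul_sub_one, ← pow_add, show k + (n - 1 - k + 1) = n by omega]
          rw [Finset.prod_congr rfl h1, Finset.prod_mul_distrib, Finset.prod_pow_eq_pow_sum,
            Finset.prod_range_reflect (fun j => q ^ (j + 1) - 1) n]
        rw [hE₀] at hdiv
        have hsplit : ∀ m : ℕ, ∏ j ∈ Finset.range (2 * m), (q ^ (j + 1) - 1) =
            (∏ j ∈ Finset.range m, (q ^ (2 * j + 1) - 1)) * ∏ j ∈ Finset.range m, (q ^ (2 * (j + 1)) - 1) := by
          intro m
          induction m with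
          | zero => simp
          | succ m ih =>
            rw [show 2 * (m + 1) = 2 * m + 1 + 1 by ring, Finset.prod_range_succ, Finset.prod_range_succ, ih,
              Finset.prod_range_succ, Finset.prod_range_succ]
            ring_nf
        have hrq1 : ∀ j, r ∣ q ^ j - 1 → i ∣ j := fun j hj => by
          rw [← ZMod.natCast_eq_zero_iff, Nat.cast_sub (Nat.one_le_pow _ _ (by omega)), sub_eq_zero, Nat.cast_pow,
            Nat.cast_one, ← orderOf_dvd_iff_pow_eq_one, ← hi] at hj
          exact hj
        have hnodd : ∀ j, ¬ r ∣ q ^ (2 * j + 1) - 1 := fun j hj => by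
          obtain ⟨k, hk⟩ := hrq1 _ hj
          obtain ⟨i', hi'⟩ := hiev
          rw [hi'] at hk
          have : Even (2 * j + 1) := ⟨i' * k, by rw [hk]; ring⟩
          exact absurd this (by simp [Nat.even_add_one])
        have hr2' : ¬ r ∣ 2 := fun h => hr2 ((Nat.prime_dvd_prime_iff_eq hrpr Nat.prime_two).1 h)
        have hrqp : ∀ E : ℕ, ¬ r ∣ q ^ E := fun E h => hrq (hrpr.dvd_of_dvd_pow h)
        have hpos : ∀ m, 0 < ∏ j ∈ Finset.range m, (q ^ (2 * (j + 1)) - 1) := fun m =>
          Finset.prod_pos fun j _ => by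
            have : 2 ≤ q ^ (2 * (j + 1)) := hq2.trans (Nat.le_self_pow (by omega) q)
            omega
        have hcancel : ∀ (a X : ℕ) (m : ℕ), r * (2 * a * ∏ j ∈ Finset.range m, (q ^ (2 * (j + 1)) - 1)) ∣
            2 * (q ^ E₀ * (X * ∏ j ∈ Finset.range m, (q ^ (2 * (j + 1)) - 1))) → r * a ∣ q ^ E₀ * X := by
          intro a X m hd
          refine (Nat.mul_dvd_mul_iff_left two_pos).1 ((Nat.mul_dvd_mul_iff_right (hpos m)).1 ?_)
          rw [show 2 * (r * a) * ∏ j ∈ Finset.range m, (q ^ (2 * (j + 1)) - 1) =
            r * (2 * a * ∏ j ∈ Finset.range m, (q ^ (2 * (j + 1)) - 1)) by ring,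
            show 2 * (q ^ E₀ * X) * ∏ j ∈ Finset.range m, (q ^ (2 * (j + 1)) - 1) =
            2 * (q ^ E₀ * (X * ∏ j ∈ Finset.range m, (q ^ (2 * (j + 1)) - 1))) by ring]
          exact hd
        have hoddprod : ∀ m, ¬ r ∣ ∏ j ∈ Finset.range m, (q ^ (2 * j + 1) - 1) := fun m hd => by
          obtain ⟨j, -, hj⟩ := (hrpr.prime.dvd_finsetProd_iff _).1 hd
          exact hnodd j hj
        rcases Nat.even_or_odd n with hne | hno
        · obtain ⟨m, hm⟩ := hne
          have hn2 : n = 2 * m := by omega
          obtain ⟨m', rfl⟩ : ∃ m', m = m' + 1 := ⟨m - 1, by omega⟩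
          have hsq : ∀ j : ℕ, q ^ (2 * (j + 1)) - 1 = (q ^ (j + 1) + 1) * (q ^ (j + 1) - 1) := fun j => by
            rw [mul_comm 2, pow_mul, ← one_pow 2, Nat.sq_sub_sq, one_pow]
          rw [show Finset.range n = Finset.range (2 * (m' + 1)) by rw [hn2], hsplit,
            Finset.prod_range_succ (fun j => q ^ (2 * (j + 1)) - 1), hsq] at hdiv
          have hnmod : ∀ h : i ∣ n, ∀ T : Module.End F (Fin n → F),
              finrank F (T.eigenspace 1) ≤ n % i → ∀ v, T v = v → v = 0 := fun h T hT v hv => by
            rw [Nat.mod_eq_zero_of_dvd h, Nat.le_zero, Submodule.finrank_eq_zero] at hT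
            refine (Submodule.eq_bot_iff _).1 hT v ?_
            rw [Module.End.mem_eigenspace_iff, one_smul, hv]
          -- an element without fixed points
          have hel : i ∣ n → ∃ g : orthGroup Qf, g ^ r = 1 ∧ ∀ v, g.1 v = v → v = 0 := by
            intro hin
            obtain ⟨T, hTr, hTd, hTns, hTfix⟩ := LinElusive.exists_semisimple_witness hr0 (n := n) hi2
              (Nat.le_of_dvd (by omega) hin)
            set X := LinearMap.toMatrix' T with hX
            have hXr : X ^ r = 1 := by
              show (LinearMap.toMatrixAlgEquiv' T) ^ r = 1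
              rw [← map_pow, hTr, map_one]
            have hX1 : X ≠ 1 := fun e => hTns 1 (by
              rw [map_one]
              exact LinearMap.toMatrix'.injective (by rw [← hX, e, LinearMap.toMatrix'_one]))
            obtain ⟨g, Y, s, hs0, hY, hYg⟩ := hget X (by rw [hX, LinearMap.det_toMatrix', hTd])
              ⟨1, by rw [one_smul]; exact hXr⟩ (hnosc X hXr hX1)
            obtain ⟨hYr, hsr⟩ := hs_r g X Y s hXr hY hYg
            rw [hscal s hs0 hsr, one_smul] at hY
            have hYd : Y.det ≠ 0 := fun e => by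
              have := congrArg Matrix.det hYr
              rw [Matrix.det_pow, e, zero_pow hrpr.ne_zero, Matrix.det_one] at this
              exact zero_ne_one this
            let eY : (Fin n → F) ≃ₗ[F] (Fin n → F) := LinearMap.GeneralLinearGroup.generalLinearEquiv F (Fin n → F)
              (Matrix.GeneralLinearGroup.toLin (Matrix.GeneralLinearGroup.mkOfDetNeZero Y hYd))
            have heY : ∀ v, eY v = Y *ᵥ v := fun v => Matrix.toLin'_apply _ _
            let yO : orthGroup Qf := ⟨eY, fun v => by
              refine mul_left_cancel₀ h2 ?_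
              rw [hQf, hQf, hQv, hQv, heY, S5980.dot_mulVec, hY]⟩
            refine ⟨yO, ?_, fun v hv => ?_⟩
            · have key : ∀ k : ℕ, ∀ v, (yO ^ k).1 v = (Y ^ k) *ᵥ v := by
                intro k
                induction k with
                | zero => intro v; simp
                | succ k ih =>
                  intro v
                  rw [pow_succ', pow_succ', ← Matrix.mulVec_mulVec, ← ih, ← heY]
                  rfl
              exact Subtype.ext (LinearEquiv.ext fun v => by rw [key, hYr, Matrix.one_mulVec]; rfl)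
            · change eY v = v at hv
              rw [heY, hYg] at hv
              set u := (g : Matrix (Fin n) (Fin n) F) *ᵥ v
              have hv' : v = ((g⁻¹ : GL (Fin n) F) : Matrix (Fin n) (Fin n) F) *ᵥ u := by
                rw [Matrix.mulVec_mulVec, ← Units.val_mul, inv_mul_cancel, Units.val_one, Matrix.one_mulVec]
              rw [hv', hconjv] at hv
              have hu : X *ᵥ u = u := by
                have h3 := congrArg ((g : Matrix (Fin n) (Fin n) F) *ᵥ ·) hv
                simpa only [Matrix.mulVec_mulVec, ← mul_assoc, ← Units.val_mul, mul_inv_cancel, Units.val_one,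
                  Matrix.one_mulVec, one_mul] using h3
              rw [hX, LinearMap.toMatrix'_mulVec] at hu
              rw [hv', hnmod hin T hTfix u hu, Matrix.mulVec_zero]
          have hz : ∀ h : i ∣ n, (zeroCount Qf : ZMod r) = 1 := fun h => by
            obtain ⟨g, hg, hgf⟩ := hel h
            exact zero_mod Qf g hg hgf
          have hqz : (q : ZMod r) ≠ 0 := fun e => hrq ((ZMod.natCast_eq_zero_iff _ _).1 e)
          haveI : Fact (2 < r) := ⟨by have := hrpr.two_le; omega⟩
          have hq1' : (q : ZMod r) ≠ 1 := fun e => by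
            rw [hi, e, orderOf_one] at hi2
            omega
          rcases classify_even hQfn (m := m' + 1) (by rw [finrank_fin_fun]; omega) with
            ⟨e, he⟩ | ⟨-, e, ζ, hζ, he⟩
          · rw [← Nat.card_congr (orthGroupCongr e he).toEquiv, card_orth_plus rfl m'] at hdiv
            have h5 := hcancel (q ^ ((m' + 1) * m') * (q ^ (m' + 1) - 1))
              ((∏ j ∈ Finset.range (m' + 1), (q ^ (2 * j + 1) - 1)) * ((q ^ (m' + 1) + 1) * (q ^ (m' + 1) - 1))) m' (by
                refine (dvd_of_eq ?_).trans (hdiv.trans (dvd_of_eq ?_)) <;> ring)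
            have hp0 : 0 < q ^ (m' + 1) - 1 := by
              have : 2 ≤ q ^ (m' + 1) := hq2.trans (Nat.le_self_pow (by omega) q)
              omega
            rw [← mul_assoc r, ← mul_assoc _ (q ^ (m' + 1) + 1), ← mul_assoc (q ^ E₀),
              Nat.mul_dvd_mul_iff_right hp0] at h5
            have hplus : r ∣ q ^ (m' + 1) + 1 := by
              rcases hrpr.dvd_mul.1 (dvd_trans (dvd_mul_right r _) h5) with hd | hd
              · exact absurd hd (hrqp _)
              · exact (hrpr.dvd_mul.1 hd).resolve_left (hoddprod _)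
            rw [← ZMod.natCast_eq_zero_iff, Nat.cast_add, Nat.cast_pow, Nat.cast_one] at hplus
            have hqm : (q : ZMod r) ^ (m' + 1) = -1 := eq_neg_of_add_eq_zero_left hplus
            have hin : i ∣ n := by
              rw [hn2, hi, orderOf_dvd_iff_pow_eq_one, mul_comm, pow_mul, hqm, neg_one_sq]
            have h6 := congrArg (Int.cast : ℤ → ZMod r) (zeroCount_plus (F := F) rfl (m' + 1))
            rw [zeroCount_congr e he] at h6
            push_cast at h6
            rw [hz hin, pow_mul', hqm] at h6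
            have h7 : (2 : ZMod r) * ((q : ZMod r) - 1) = 0 := by linear_combination h6
            rcases mul_eq_zero.1 h7 with h8 | h8
            · exact ZMod.neg_one_ne_one (n := r) (by linear_combination -h8)
            · exact hq1' (sub_eq_zero.1 h8)
          · rw [← Nat.card_congr (orthGroupCongr e he).toEquiv] at hdiv
            have hab : ∀ z₁ z₂ : F, z₁ ^ 2 + 1 * z₁ * z₂ + ζ * z₂ ^ 2 = 0 → z₁ = 0 ∧ z₂ = 0 := fun z₁ z₂ h0 => by
              by_cases hz2 : z₂ = 0
              · subst hz2; simpa using h0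
              · exfalso
                apply hζ (z₁ / z₂)
                field_simp
                linear_combination h0
            rw [card_orth_minus rfl 1 ζ hab, Nat.add_sub_cancel] at hdiv
            have h5 := hcancel (q ^ ((m' + 1) * m') * (q ^ (m' + 1) + 1))
              ((∏ j ∈ Finset.range (m' + 1), (q ^ (2 * j + 1) - 1)) * ((q ^ (m' + 1) + 1) * (q ^ (m' + 1) - 1))) m' (by
                refine (dvd_of_eq ?_).trans (hdiv.trans (dvd_of_eq ?_)) <;> ring)
            rw [show r * (q ^ ((m' + 1) * m') * (q ^ (m' + 1) + 1)) = r * q ^ ((m' + 1) * m') * (q ^ (m' + 1) + 1) by ring,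
              show ∀ A B C D : ℕ, A * (B * (C * D)) = A * (B * D) * C from fun A B C D => by ring,
              Nat.mul_dvd_mul_iff_right (by omega)] at h5
            have hminus : r ∣ q ^ (m' + 1) - 1 := by
              rcases hrpr.dvd_mul.1 (dvd_trans (dvd_mul_right r _) h5) with hd | hd
              · exact absurd hd (hrqp _)
              · exact (hrpr.dvd_mul.1 hd).resolve_left (hoddprod _)
            have hin : i ∣ n := hn2 ▸ (hrq1 _ hminus).mul_left 2
            rw [← ZMod.natCast_eq_zero_iff, Nat.cast_sub (Nat.one_le_pow _ _ (by omega)), sub_eq_zero, Nat.cast_pow,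
              Nat.cast_one] at hminus
            have h6 := congrArg (Int.cast : ℤ → ZMod r) (zeroCount_minus (F := F) rfl 1 ζ hab m')
            rw [show zeroCount (minusForm F m' 1 ζ) = zeroCount Qf from zeroCount_congr e he] at h6
            push_cast at h6
            rw [hz hin] at h6
            have h7 : (2 : ZMod r) * ((q : ZMod r) - 1) = 0 := by
              linear_combination (q : ZMod r) * h6 + ((q : ZMod r) ^ (m' + 1) + 2 - (q : ZMod r)) * hminus
            rcases mul_eq_zero.1 h7 with h8 | h8
            · exact ZMod.neg_one_ne_one (n := r) (by linear_combination -h8)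
            · exact hq1' (sub_eq_zero.1 h8)
        · obtain ⟨m, hm⟩ := hno
          obtain ⟨-, c, e, hc, he⟩ := CfsgLib.KnownC.OrthRealise.classify_odd hQfn (m := m)
            (by rw [finrank_fin_fun]; omega)
          have hsame : orthGroup (c⁻¹ • Qf) = orthGroup Qf := by
            ext g
            show (∀ v, (c⁻¹ • Qf) (g v) = (c⁻¹ • Qf) v) ↔ ∀ v, Qf (g v) = Qf v
            simp [hc]
          rw [← hsame, ← Nat.card_congr (orthGroupCongr (Q' := c⁻¹ • Qf) e (fun v => by
            rw [_root_.smul_apply, he, smul_eq_mul, ← mul_assoc, inv_mul_cancel₀ hc, one_mul])).toEquiv,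
            card_orth_odd rfl h2 m, show Finset.range n = Finset.range (2 * m + 1) by rw [hm], Finset.prod_range_succ,
            hsplit] at hdiv
          have h5 := hcancel (q ^ (m ^ 2)) ((∏ j ∈ Finset.range m, (q ^ (2 * j + 1) - 1)) * (q ^ (2 * m + 1) - 1)) m (by
            refine (dvd_of_eq ?_).trans (hdiv.trans (dvd_of_eq ?_)) <;> ring)
          rcases hrpr.dvd_mul.1 (dvd_trans (dvd_mul_right r _) h5) with hd | hd
          · exact hrqp _ hd
          · rcases hrpr.dvd_mul.1 hd with hd | hd
            exacts [hoddprod _ hd, hnodd _ hd]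
      · -- one irreducible block of odd dimension
        have hin : i ≤ n := by
          have h1 : r ∣ Nat.card (GL (Fin n) F) :=
            (hΩ.trans (Subgroup.index_dvd_card _)).trans (Subgroup.card_subgroup_dvd_card _)
          rw [Matrix.card_GL_field, hrpr.prime.dvd_finsetProd_iff] at h1
          obtain ⟨k, -, hk⟩ := h1
          have hpow : Fintype.card F ^ n - Fintype.card F ^ (k : ℕ) =
              Fintype.card F ^ (k : ℕ) * (Fintype.card F ^ (n - k) - 1) := by
            rw [Nat.mul_sub_one, ← pow_add, Nat.add_sub_cancel' k.2.le]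
          rw [hpow] at hk
          have h3 := (hrpr.dvd_mul.1 hk).resolve_left fun h => hrq (hrpr.dvd_of_dvd_pow h)
          rw [← ZMod.natCast_eq_zero_iff, Nat.cast_sub (Nat.one_le_pow _ _ Fintype.card_pos), sub_eq_zero,
            Nat.cast_pow, Nat.cast_one] at h3
          have h4 := Nat.le_of_dvd (by omega) (orderOf_dvd_of_pow_eq_one h3)
          omega
        obtain ⟨T₁, hT₁, hT₁d, -, hT₁fix⟩ := LinElusive.exists_semisimple_witness hr0 (n := i) hi2 le_rfl
        rw [← hi, Nat.mod_self, Nat.le_zero, Submodule.finrank_eq_zero] at hT₁fix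
        let W := (Fin i → F) × (Fin (n - i) → F)
        let T₀ : Module.End F W := LinearMap.prodMap T₁ LinearMap.id
        let ee : W ≃ₗ[F] (Fin n → F) := LinearEquiv.ofFinrankEq _ _ (by
          simp only [W, Module.finrank_prod, Module.finrank_fin_fun]; omega)
        let T : Module.End F (Fin n → F) := ee.conjAlgEquiv F T₀
        have hTe : ∀ w : W, T (ee w) = ee (T₁ w.1, w.2) := fun w => by
          simp [T, T₀, LinearEquiv.conjAlgEquiv_apply]; rfl
        let X := LinearMap.toMatrixAlgEquiv' T
        have hXa : ∀ v, X *ᵥ v = T v := fun v => LinearMap.toMatrix'_mulVec T v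
        have hXr : X ^ r = 1 := by
          have hT₀ : ∀ (m : ℕ) (w : W), (T₀ ^ m) w = ((T₁ ^ m) w.1, w.2) := by
            intro m
            induction m with
            | zero => intro w; rfl
            | succ m ih => intro w; rw [pow_succ', Module.End.mul_apply, ih, pow_succ']; rfl
          rw [← map_pow, ← map_pow, show T₀ ^ r = 1 from LinearMap.ext fun w => by rw [hT₀, hT₁]; rfl, map_one,
            map_one]
        have hXd : X.det = 1 := by
          show (LinearMap.toMatrix' T).det = 1
          rw [LinearMap.det_toMatrix']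
          show LinearMap.det (ee.conjAlgEquiv F T₀) = 1
          rw [LinearEquiv.conjAlgEquiv_apply]
          refine (LinearMap.det_conj _ ee).trans ?_
          rw [LinearMap.det_prodMap, hT₁d, LinearMap.det_id, one_mul]
        have hrk : (X - 1).rank = i := by
          have hker : LinearMap.ker (X - 1).mulVecLin =
              LinearMap.range (ee.toLinearMap.comp (LinearMap.inr F _ _)) := by
            ext v
            obtain ⟨w, rfl⟩ := ee.surjective v
            rw [LinearMap.mem_ker, Matrix.mulVecLin_apply, Matrix.sub_mulVec, Matrix.one_mulVec,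
              sub_eq_zero, hXa, hTe, ee.injective.eq_iff]
            constructor
            · intro h
              have h1 : w.1 ∈ T₁.eigenspace 1 := by
                rw [Module.End.mem_eigenspace_iff, one_smul]
                exact congrArg Prod.fst h
              rw [hT₁fix, Submodule.mem_bot] at h1
              exact ⟨w.2, congrArg ee (Prod.ext h1.symm rfl)⟩
            · rintro ⟨u, hu⟩
              have := ee.injective hu
              rw [← this]
              show (T₁ (0 : Fin i → F), u) = ((0 : Fin i → F), u)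
              rw [map_zero]
          have h1 := LinearMap.finrank_range_add_finrank_ker (X - 1).mulVecLin
          rw [hker, LinearMap.finrank_range_of_inj (f := ee.toLinearMap.comp (LinearMap.inr F _ _))
            (fun u v h => LinearMap.inr_injective (ee.injective h)), finrank_fin_fun, finrank_fin_fun] at h1
          rw [Matrix.rank]
          omega
        have hX1 : X ≠ 1 := fun e => by rw [e, sub_self, Matrix.rank_zero] at hrk; omega
        obtain ⟨g, Y, s, hs0, hY, hYg⟩ := hget X hXd ⟨1, by rw [one_smul]; exact hXr⟩ (hnosc X hXr hX1)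
        obtain ⟨hYr, hsr⟩ := hs_r g X Y s hXr hY hYg
        rw [hscal s hs0 hsr, one_smul] at hY
        have hev := S5980.even_rank h2 hrodd hr0 hGd hY hYr
        have h1 : Y - 1 = ((g⁻¹ : GL (Fin n) F) : Matrix (Fin n) (Fin n) F) * (X - 1) * (g : Matrix (Fin n) (Fin n) F) := by
          rw [mul_sub, sub_mul, mul_one, ← Units.val_mul g⁻¹ g, inv_mul_cancel, Units.val_one, hYg]
        rw [h1, Matrix.rank_mul_eq_left_of_isUnit_det _ _ ((Matrix.isUnit_iff_isUnit_det _).1 g.isUnit),
          Matrix.rank_mul_eq_right_of_isUnit_det _ _ ((Matrix.isUnit_iff_isUnit_det _).1 (g⁻¹).isUnit), hrk] at hev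
        exact Nat.not_even_iff_odd.2 hiodd hev
  · rintro hcrit x hx ⟨z, hz⟩ -
    have hxd : (x : Matrix (Fin n) (Fin n) F).det = 1 := congrArg Units.val hx
    have hz0 : z ≠ 0 := fun h' => by
      rw [h', zero_smul] at hz
      exact (Matrix.GeneralLinearGroup.det (x ^ r)).ne_zero (by
        show ((x ^ r : GL (Fin n) F) : Matrix (Fin n) (Fin n) F).det = 0
        rw [hz, Matrix.det_zero])
    set L : Module.End F (Fin n → F) := Matrix.toLin' (x : Matrix (Fin n) (Fin n) F) with hLdef
    have hLd : LinearMap.det L = 1 := by rw [hLdef, LinearMap.det_toLin', hxd]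
    have hLr : L ^ r = algebraMap F (Module.End F (Fin n → F)) z := by
      show (Matrix.toLinAlgEquiv' (x : Matrix (Fin n) (Fin n) F)) ^ r = _
      rw [← map_pow, ← Units.val_pow_eq_pow_val, hz, map_smul, map_one, Algebra.algebraMap_eq_smul_one]
    rcases hcrit with rfl | ⟨hr35, hnr, hv⟩
    · let x' : Matrix.SpecialLinearGroup (Fin n) F := ⟨(x : Matrix (Fin n) (Fin n) F), hxd⟩
      have hx' : Matrix.SpecialLinearGroup.toGL x' = x := Units.ext rfl
      have hz' : ((x' ^ 2 : Matrix.SpecialLinearGroup (Fin n) F) : Matrix (Fin n) (Fin n) F) = z • 1 := by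
        rw [Matrix.SpecialLinearGroup.coe_pow, ← hz, Units.val_pow_eq_pow_val]
      have hL := InvCl.sl_sq hz'
      suffices hgl : ∃ Q' : GL (Fin n) F, Q'⁻¹ * x * Q' ∈ Cfsg.Geo.quadSimilarityGroup Q by
        obtain ⟨S, hS⟩ := (InvCl.exists_sl_conj_iff (by omega) x' hz' _).2 (by rwa [hx'])
        refine ⟨Matrix.SpecialLinearGroup.toGL S, Units.ext S.2, ?_⟩
        have := Subgroup.mem_comap.1 hS
        rwa [map_mul, map_mul, map_inv, hx'] at this
      obtain ⟨ι, ν, _, _, c, β, h0, h1, h3, h4⟩ := InvCl.exists_split L z hL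
      let βr : Basis ((Fin 2 × ι) ⊕ ν) F (Fin n → F) := β.reindex (Equiv.sumCongr (Equiv.prodComm _ _) (Equiv.refl _))
      let eκ : (Fin 2 × ι) ⊕ ν ≃ Fin n := Fintype.equivFinOfCardEq (by
        rw [← Module.finrank_eq_card_basis βr, finrank_fin_fun])
      obtain ⟨g₀, hg₀⟩ := mat_of_basis x (βr.reindex eκ)
      let C : Matrix ((Fin 2 × ι) ⊕ ν) ((Fin 2 × ι) ⊕ ν) F :=
        Matrix.fromBlocks (Matrix.blockDiagonal fun _ : ι => !![0, z; 1, 0]) 0 0 (Matrix.diagonal fun _ : ν => c)
      have hC : LinearMap.toMatrix (βr.reindex eκ) (βr.reindex eκ) L = Matrix.reindex eκ eκ C := by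
        ext k l
        obtain ⟨k, rfl⟩ := eκ.surjective k
        obtain ⟨l, rfl⟩ := eκ.surjective l
        rw [LinearMap.toMatrix_apply, Matrix.reindex_apply, Matrix.submatrix_apply, Equiv.symm_apply_apply,
          Equiv.symm_apply_apply, Basis.reindex_apply, Equiv.symm_apply_apply, Basis.repr_reindex_apply,
          Equiv.symm_apply_apply]
        rcases l with ⟨t, l⟩ | l
        · have hb : ∀ t l, βr (Sum.inl (t, l)) = β (Sum.inl (l, t)) := fun t l => by simp [βr]
          fin_cases t
          · rw [hb, Fin.zero_eta, h0, ← hb, Basis.repr_self]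
            rcases k with ⟨t', k⟩ | k
            · fin_cases t' <;> rcases eq_or_ne k l with rfl | hkl <;>
                [simp [C, Matrix.blockDiagonal_apply];
                 simp [C, Matrix.blockDiagonal_apply, hkl, Ne.symm hkl];
                 simp [C, Matrix.blockDiagonal_apply];
                 simp [C, Matrix.blockDiagonal_apply, hkl, Ne.symm hkl]]
            · simp [C]
          · rw [hb, Fin.mk_one, h1, ← hb, map_smul, Basis.repr_self]
            rcases k with ⟨t', k⟩ | k
            · fin_cases t' <;> rcases eq_or_ne k l with rfl | hkl <;>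
                [simp [C, Matrix.blockDiagonal_apply];
                 simp [C, Matrix.blockDiagonal_apply, hkl, Ne.symm hkl];
                 simp [C, Matrix.blockDiagonal_apply];
                 simp [C, Matrix.blockDiagonal_apply, hkl, Ne.symm hkl]]
            · simp [C]
        · have hb : βr (Sum.inr l) = β (Sum.inr l) := by simp [βr]
          rw [hb, h3, ← hb, map_smul, Basis.repr_self]
          rcases k with k | k
          · simp [C]
          · rcases eq_or_ne k l with rfl | hkl <;> [simp [C]; simp [C, hkl, Ne.symm hkl]]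
      obtain ⟨ab, hab⟩ : ∃ ab : F → F × F, ∀ δ : F, z * ((ab δ).1 * (ab δ).1) - (ab δ).2 * (ab δ).2 = δ := by
        choose a b hab using fun δ => S5976.exists_sq_add h2 hz0 (neg_ne_zero.2 (one_ne_zero (α := F))) δ
        exact ⟨fun δ => (a δ, b δ), fun δ => by linear_combination hab δ⟩
      obtain ⟨δ, t, hδ, ht, hprod⟩ : ∃ (δ : ι → F) (t : ν → F), (∀ k, δ k ≠ 0) ∧ (∀ k, t k ≠ 0) ∧
          (∏ k, δ k) * ∏ k, t k = G.det := by
        rcases isEmpty_or_nonempty ι with hι | ⟨⟨k₀⟩⟩
        · rcases isEmpty_or_nonempty ν with hν | ⟨⟨j₀⟩⟩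
          · exfalso
            have := Module.finrank_eq_card_basis β
            rw [finrank_fin_fun, Fintype.card_eq_zero] at this
            omega
          · refine ⟨fun _ => 1, Function.update 1 j₀ G.det, fun _ => one_ne_zero, fun k => ?_, ?_⟩
            · rw [Function.update_apply]; split_ifs <;> simp [hGd]
            · rw [Finset.prod_update_of_mem (Finset.mem_univ _)]; simp
        · refine ⟨Function.update 1 k₀ G.det, fun _ => 1, fun k => ?_, fun _ => one_ne_zero, ?_⟩
          · rw [Function.update_apply]; split_ifs <;> simp [hGd]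
          · rw [Finset.prod_update_of_mem (Finset.mem_univ _)]; simp
      let A : ι → Matrix (Fin 2) (Fin 2) F := fun k =>
        !![(ab (δ k)).1, (ab (δ k)).2; (ab (δ k)).2, z * (ab (δ k)).1]
      let G₁ : Matrix ((Fin 2 × ι) ⊕ ν) ((Fin 2 × ι) ⊕ ν) F :=
        Matrix.fromBlocks (Matrix.blockDiagonal A) 0 0 (Matrix.diagonal t)
      have hAd : ∀ k, (A k).det = δ k := fun k => by
        rw [Matrix.det_fin_two_of]; linear_combination hab (δ k)
      have hG₁d : G₁.det = G.det := by
        rw [Matrix.det_fromBlocks_zero₂₁, Matrix.det_blockDiagonal, Matrix.det_diagonal, ← hprod]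
        simp only [hAd]
      have hAs : ∀ k, (A k)ᵀ = A k := fun k => by ext i j; fin_cases i <;> fin_cases j <;> rfl
      have hAC : ∀ k, (!![0, z; 1, 0] : Matrix (Fin 2) (Fin 2) F)ᵀ * A k * !![0, z; 1, 0] = z • A k := fun k => by
        ext i j
        fin_cases i <;> fin_cases j <;> simp [A, Matrix.mul_apply, Fin.sum_univ_two] <;> ring
      refine hGL x g₀ (Matrix.reindex eκ eκ C) (Matrix.reindex eκ eκ G₁) z (hg₀.trans hC) ?_ ?_ ?_ ?_ hz0
      · rw [Matrix.reindex_apply, Matrix.reindex_apply, Matrix.transpose_submatrix, Matrix.submatrix_mul_equiv,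
          Matrix.submatrix_mul_equiv, show Cᵀ * G₁ * C = z • G₁ by
            rw [Matrix.fromBlocks_transpose, Matrix.fromBlocks_multiply, Matrix.fromBlocks_multiply,
              Matrix.fromBlocks_smul]
            simp only [Matrix.transpose_zero, Matrix.zero_mul, Matrix.mul_zero, add_zero, zero_add, smul_zero,
              Matrix.blockDiagonal_transpose, ← Matrix.blockDiagonal_mul, Matrix.diagonal_transpose,
              Matrix.diagonal_mul_diagonal, hAC]
            congr 1
            · rw [← Matrix.blockDiagonal_smul]; rfl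
            · rw [← Matrix.diagonal_smul]
              congr 1
              funext j
              rw [Pi.smul_apply, smul_eq_mul, ← h4 ⟨j⟩]
              ring]
        rfl
      · rw [Matrix.reindex_apply, Matrix.transpose_submatrix, show G₁ᵀ = G₁ by
          rw [Matrix.fromBlocks_transpose, Matrix.blockDiagonal_transpose, Matrix.diagonal_transpose,
            Matrix.transpose_zero, Matrix.transpose_zero]
          simp only [hAs]
          rfl]
      · rw [Matrix.det_reindex_self, hG₁d]; exact hGd
      · rw [Matrix.det_reindex_self, hG₁d]; exact ⟨G.det, rfl⟩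
    · symm at hnr
      subst hnr
      haveI : NeZero r := ⟨hrpr.ne_zero⟩
      have hr2 : r ≠ 2 := by omega
      have hq1 : r ∣ Fintype.card F - 1 := dvd_of_one_le_padicValNat hv.ge
      have hr0 : (r : F) ≠ 0 := fun e => by
        rw [CharP.cast_eq_zero_iff F p] at e
        have hrp := (Nat.prime_dvd_prime_iff_eq hpr hrpr).1 e
        obtain ⟨k, -, hk⟩ := FiniteField.card F p
        have h5 := Nat.dvd_sub (show r ∣ Fintype.card F by rw [hk, hrp]; exact dvd_pow_self r k.ne_zero) hq1
        rw [show Fintype.card F - (Fintype.card F - 1) = 1 by have := Fintype.card_pos (α := F); omega] at h5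
        exact hrpr.not_dvd_one h5
      rcases LinElusive.cases_of_pow_eq hr0 (by omega) hLd hLr with ⟨d₀, hd₀, hd⟩ | ⟨hnp, -, -, hdet⟩
      swap
      · exfalso
        rw [Nat.div_self hrpr.pos, pow_one, (Nat.even_iff.2 (by omega) : Even (r + 1)).neg_one_pow, one_mul] at hdet
        exact hnp 1 (by rw [one_pow, hdet])
      obtain ⟨β, a, ha⟩ := S5982.exists_eigen hr0 hq1 hd
      obtain ⟨g', hg'⟩ := IsCyclic.exists_ofOrder_eq_natCard (α := Fˣ)
      rw [Nat.card_eq_fintype_card, Fintype.card_units] at hg'
      set ω : F := ((g' ^ ((Fintype.card F - 1) / r) : Fˣ) : F) with hω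
      have hωo : orderOf ω = r := by
        rw [hω, orderOf_units, ← hg']
        exact orderOf_pow_orderOf_div (by rw [hg']; have := Fintype.one_lt_card (α := F); omega) (by rwa [hg'])
      have hωr : ω ^ r = 1 := by rw [← hωo, pow_orderOf_eq_one]
      have hprim : IsPrimitiveRoot ω r := hωo ▸ IsPrimitiveRoot.orderOf ω
      choose e he using fun k => hprim.eq_pow_of_pow_eq_one (ha k).1
      have hLk : ∀ k, L (β k) = (d₀ * ω ^ ((e k : ZMod r)).val) • β k := fun k => by
        have h1 := (ha k).2
        rw [LinearMap.smul_apply, inv_smul_eq_iff₀ hd₀, smul_smul] at h1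
        rw [h1, ← (he k).2, ZMod.val_natCast, Nat.mod_eq_of_lt (he k).1]
      have hLm : LinearMap.toMatrix β β L = Matrix.diagonal fun k => d₀ * ω ^ ((e k : ZMod r)).val := by
        ext k l
        rw [LinearMap.toMatrix_apply, hLk, map_smul, Finsupp.smul_apply, Basis.repr_self]
        rcases eq_or_ne k l with rfl | hkl <;> [simp; simp [hkl, Ne.symm hkl]]
      have hdetL : ∏ k, (d₀ * ω ^ ((e k : ZMod r)).val) = 1 := by
        rw [← hLd, ← LinearMap.det_toMatrix β, hLm, Matrix.det_diagonal]
      have hsum : ∑ k, (e k : ZMod r) = 0 := by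
        rw [Finset.prod_mul_distrib, Finset.prod_const, Finset.card_univ, Fintype.card_fin,
          Finset.prod_pow_eq_pow_sum] at hdetL
        set S := ∑ k, ((e k : ZMod r)).val
        by_contra hS
        have hS' : ¬ r ∣ S := fun hd' => hS (by
          have : ((S : ℕ) : ZMod r) = 0 := (ZMod.natCast_eq_zero_iff _ _).2 hd'
          rw [← this, Nat.cast_sum]
          simp)
        have hne : d₀ ^ r ≠ 1 := fun e1 => hS' (by
          rw [e1, one_mul] at hdetL
          exact hωo ▸ orderOf_dvd_of_pow_eq_one hdetL)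
        have hdr : (d₀ ^ r) ^ r = 1 := by
          have h1 : d₀ ^ r = (ω ^ S)⁻¹ := eq_inv_of_mul_eq_one_left hdetL
          rw [h1, inv_pow, ← pow_mul, mul_comm, pow_mul, hωr, one_pow, inv_one]
        have hord : orderOf d₀ = r ^ 2 := by
          refine orderOf_eq_prime_pow (by simpa using hne) ?_
          rw [pow_two, pow_mul]
          exact hdr
        have h2' : r ^ 2 ∣ Fintype.card F - 1 :=
          hord ▸ orderOf_dvd_of_pow_eq_one (FiniteField.pow_card_sub_one_eq_one d₀ hd₀)
        have h4 := (padicValNat_dvd_iff_le (p := r) (by have := Fintype.one_lt_card (α := F); omega)).1 h2'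
        omega
      obtain ⟨π, l, hπ, hl⟩ := S5982.symmetric hr35 _ hsum
      let P : Matrix (Fin r) (Fin r) F := Matrix.of fun k m => if π k = m then 1 else 0
      have hPs : Pᵀ = P := by
        ext k m
        show (if π m = k then (1 : F) else 0) = if π k = m then 1 else 0
        by_cases h' : π k = m
        · rw [if_pos h', if_pos (by rw [← h', hπ])]
        · rw [if_neg h', if_neg (fun h'' => h' (by rw [← h'', hπ]))]
      have hPP : P * P = 1 := by
        ext k m
        simp only [Matrix.mul_apply, P, Matrix.of_apply, ite_mul, one_mul, zero_mul, Finset.sum_ite_eq,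
          Finset.mem_univ, if_true, hπ, Matrix.one_apply]
      have hPd : P.det ≠ 0 := fun h' => by
        have := congrArg Matrix.det hPP
        rw [Matrix.det_mul, h', zero_mul, Matrix.det_one] at this
        exact zero_ne_one this
      obtain ⟨g₀, hg₀⟩ := mat_of_basis x β
      have hs0 : d₀ * d₀ * ω ^ l.val ≠ 0 := by
        refine mul_ne_zero (mul_ne_zero hd₀ hd₀) (pow_ne_zero _ ?_)
        intro e0
        rw [e0, zero_pow hrpr.ne_zero] at hωr
        exact zero_ne_one hωr
      obtain ⟨g, hg⟩ := hGL x g₀ _ ((G.det * P.det) • P) (d₀ * d₀ * ω ^ l.val) (hg₀.trans hLm) (by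
          ext k m
          rw [Matrix.diagonal_transpose, Matrix.mul_diagonal, Matrix.diagonal_mul, Matrix.smul_apply,
            Matrix.smul_apply, smul_eq_mul, smul_eq_mul]
          by_cases hkm : π k = m
          · subst hkm
            rw [← hl k, ← S5982.pow_val_add hωr]
            simp only [P, Matrix.smul_apply, Matrix.of_apply, if_true, smul_eq_mul]
            ring
          · simp [P, hkm])
        (by rw [Matrix.transpose_smul, hPs]) (by
          rw [Matrix.det_smul, Fintype.card_fin]
          exact mul_ne_zero (pow_ne_zero _ (mul_ne_zero hGd hPd)) hPd) (by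
          obtain ⟨k, hk⟩ := hrpr.odd_of_ne_two hr2
          refine ⟨(G.det * P.det) ^ (k + 1), ?_⟩
          rw [Matrix.det_smul, Fintype.card_fin, ← pow_add, show k + 1 + (k + 1) = r + 1 by omega, pow_succ]
          ring) hs0
      refine S5982.fix_det hg fun t => ?_
      let C : Module.End F (Fin r → F) := β.constr F fun k => (if k = ⟨0, hrpr.pos⟩ then t else 1) • β k
      have hC : ∀ k, C (β k) = (if k = ⟨0, hrpr.pos⟩ then t else 1) • β k := fun k => β.constr_basis _ _ _
      refine ⟨LinearMap.toMatrix' C, ?_, ?_⟩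
      · rw [LinearMap.det_toMatrix', ← LinearMap.det_toMatrix β, show LinearMap.toMatrix β β C =
          Matrix.diagonal fun k => if k = ⟨0, hrpr.pos⟩ then t else 1 by
            ext k l
            rw [LinearMap.toMatrix_apply, hC, map_smul, Finsupp.smul_apply, Basis.repr_self]
            rcases eq_or_ne k l with rfl | hkl <;> [simp; simp [hkl, Ne.symm hkl]], Matrix.det_diagonal,
          Finset.prod_eq_single (⟨0, hrpr.pos⟩ : Fin r) (fun b _ hb => if_neg hb) (by simp), if_pos rfl]
      · have hc : C * L = L * C := β.ext fun k => by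
          rw [Module.End.mul_apply, Module.End.mul_apply, hC, hLk, map_smul, map_smul, hC, hLk, smul_comm]
        have := congrArg LinearMap.toMatrix' hc
        rwa [LinearMap.toMatrix'_mul, LinearMap.toMatrix'_mul, hLdef, LinearMap.toMatrix'_toLin'] at this

end Cfsg.Agent.S5981
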