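import Cfsg.Statements.S5983
import Cfsg.Agent.Lib.Derangements.EvenSymp
-- import your own Cfsg.Agent.* helpers here

set_option autoImplicit false
open scoped MatrixGroups
open Cfsg

namespace Cfsg.Agent.S5983

open Module QuadraticMap Matrix CfsgLib.Orth CfsgLib.Classical CfsgLib.Derangements

section Aux

variable {F : Type*} [Field F] [Fintype F] {d : ℕ} {Qf : (Fin d ⊕ Fin d → F) → F}
  (Q : QuadraticForm F (Fin d ⊕ Fin d → F)) (hQf : ∀ v, Qf v = Q v)
  (hp : ∀ u v, polar Q u v = Cfsg.sympForm d F u v)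

include hQf hp

theorem mem_spGL_iff' {g : GL (Fin d ⊕ Fin d) F} :
    g ∈ Cfsg.isometryGroup F Qf ↔ g ∈ Cfsg.Geo.quadSimilarityGroup Qf ∧ g ∈ Cfsg.spGL d F := by
  constructor
  · intro h
    have h1 : ∀ v, Qf ((g : Matrix (Fin d ⊕ Fin d) (Fin d ⊕ Fin d) F) *ᵥ v) = Qf v := fun v => h v v
    refine ⟨⟨1, fun v => by rw [h1, Units.val_one, one_mul]⟩, fun u v => ?_⟩
    show Cfsg.sympForm d F ((g : Matrix (Fin d ⊕ Fin d) (Fin d ⊕ Fin d) F) *ᵥ u) ((g : Matrix (Fin d ⊕ Fin d) (Fin d ⊕ Fin d) F) *ᵥ v) = Cfsg.sympForm d F u v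
    rw [← hp, ← hp]
    simp only [polar, ← Matrix.mulVec_add, ← hQf, h1]
  · rintro ⟨⟨c, hc⟩, hs⟩ u v
    show Qf ((g : Matrix (Fin d ⊕ Fin d) (Fin d ⊕ Fin d) F) *ᵥ u) = Qf u
    rcases Nat.eq_zero_or_pos d with rfl | hd
    · exact congrArg Qf (Subsingleton.elim _ _)
    have h1 : (c : F) = 1 := by
      let e₁ : Fin d ⊕ Fin d → F := Pi.single (Sum.inr ⟨0, hd⟩) 1
      let e₂ : Fin d ⊕ Fin d → F := Pi.single (Sum.inl ⟨0, hd⟩) 1
      have he : polar Q e₁ e₂ = 1 := by simp [hp, sympForm_eq, e₁, e₂, Pi.single_apply]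
      have h2 : Cfsg.sympForm d F ((g : Matrix (Fin d ⊕ Fin d) (Fin d ⊕ Fin d) F) *ᵥ e₁) ((g : Matrix (Fin d ⊕ Fin d) (Fin d ⊕ Fin d) F) *ᵥ e₂) = 1 :=
        (hs e₁ e₂).trans ((hp e₁ e₂).symm.trans he)
      rw [← hp] at h2
      simp only [polar, ← Matrix.mulVec_add, ← hQf, hc] at h2 he
      linear_combination h2 - (c : F) * he
    rw [hc, h1, one_mul]

theorem relIndex_eq [CharP F 2] (hd : 1 ≤ d) :
    (EvenForms.Plus Q d → (Cfsg.Geo.quadSimilarityGroup Qf).relIndex (Cfsg.spGL d F) * 2 =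
      Fintype.card F ^ d * (Fintype.card F ^ d + 1)) ∧
    (¬ EvenForms.Plus Q d → (Cfsg.Geo.quadSimilarityGroup Qf).relIndex (Cfsg.spGL d F) * 2 =
      Fintype.card F ^ d * (Fintype.card F ^ d - 1)) := by
  classical
  have hle : Cfsg.isometryGroup F Qf ≤ Cfsg.spGL d F := fun g hg => ((mem_spGL_iff' Q hQf hp).1 hg).2
  have hinf : Cfsg.Geo.quadSimilarityGroup Qf ⊓ Cfsg.spGL d F = Cfsg.isometryGroup F Qf :=
    SetLike.ext fun g => (mem_spGL_iff' Q hQf hp).symm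
  have hmul := (Subgroup.subgroupOf (Cfsg.isometryGroup F Qf) (Cfsg.spGL d F)).card_mul_index
  rw [Nat.card_congr (Subgroup.subgroupOfEquivOfLe hle).toEquiv, Nat.card_congr (toOrth Q hQf).toEquiv,
    Nat.card_congr (spGLEquiv d).toEquiv.symm, card_symplecticGroup] at hmul
  rw [← Subgroup.inf_relIndex_right, hinf]
  change Nat.card (orthGroup Q) * (Cfsg.isometryGroup F Qf).relIndex (Cfsg.spGL d F) = _ at hmul
  generalize (Cfsg.isometryGroup F Qf).relIndex (Cfsg.spGL d F) = R at hmul ⊢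
  set q := Fintype.card F with hq
  have hq1 : 1 < q := Fintype.one_lt_card
  obtain ⟨k, rfl⟩ : ∃ k, d = k + 1 := ⟨d - 1, by omega⟩
  rw [Finset.prod_range_succ] at hmul
  have hpos : 0 < ∏ i ∈ Finset.range k, (q ^ (2 * (i + 1)) - 1) := Finset.prod_pos fun i _ => by
    have : q ≤ q ^ (2 * (i + 1)) := Nat.le_self_pow (by omega) q
    omega
  have hqk : 0 < q ^ ((k + 1) * k) := pow_pos (by omega) _
  have h2k : q ^ (2 * (k + 1)) - 1 = (q ^ (k + 1) + 1) * (q ^ (k + 1) - 1) := by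
    rw [← Nat.sq_sub_sq, one_pow, ← pow_mul, mul_comm 2]
  rw [h2k, show (k + 1) ^ 2 = (k + 1) * k + (k + 1) by ring, pow_add] at hmul
  have hplus : 0 < q ^ (k + 1) + 1 := by omega
  have hminus : 0 < q ^ (k + 1) - 1 := by
    have : q ≤ q ^ (k + 1) := Nat.le_self_pow (by omega) q
    omega
  rcases EvenForms.dichotomy (nondeg_of_polar' hp) (V := Fin (k + 1) ⊕ Fin (k + 1) → F) (d := k + 1)
      (EvenSymp.finrank_eq _) with ⟨hP, e, he⟩ | ⟨hP, -, h⟩
  · refine ⟨fun _ => ?_, fun h => absurd hP h⟩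
    rw [← Nat.card_congr (orthGroupCongr e he).toEquiv, card_orth_plus hq.symm] at hmul
    refine Nat.eq_of_mul_eq_mul_left (Nat.mul_pos (Nat.mul_pos hqk hpos) hminus) ?_
    calc _ = 2 * q ^ ((k + 1) * k) * (q ^ (k + 1) - 1) *
          (∏ i ∈ Finset.range k, (q ^ (2 * (i + 1)) - 1)) * R := by ring
      _ = _ := by rw [hmul]; ring
  · refine ⟨fun h => absurd h hP, fun _ => ?_⟩
    obtain ⟨e, ζ, hζ, he⟩ := h
    rw [← Nat.card_congr (orthGroupCongr e he).toEquiv,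
      card_orth_minus hq.symm _ _ (anisotropic_of_no_root hζ), Nat.add_sub_cancel] at hmul
    refine Nat.eq_of_mul_eq_mul_left (Nat.mul_pos (Nat.mul_pos hqk hpos) hplus) ?_
    calc _ = 2 * q ^ ((k + 1) * k) * (q ^ (k + 1) + 1) *
          (∏ i ∈ Finset.range k, (q ^ (2 * (i + 1)) - 1)) * R := by ring
      _ = _ := by rw [hmul]; ring
  where nondeg_of_polar' {k : ℕ} {Q' : QuadraticForm F (Fin k ⊕ Fin k → F)}
      (h : ∀ u v, polar Q' u v = Cfsg.sympForm k F u v) : (polarBilin Q').Nondegenerate :=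
    EvenSymp.nondeg_of_polar h

end Aux

/-- Elements of prime order of PSp_n(q), q even, and the subgroups of orthogonal type. Here `T = Sp_{2d}(F)` for a field `F` of characteristic 2 with `q` elements (`d ≥ 2`, `(d, q) ≠ (2, 2)`), realised as the invertible matrices preserving the standard alternating form; `Q` is a non-degenerate quadratic form on `F^{2d}` whose polar form is that alternating form, and `H` is the subgroup of `T` preserving `Q` up to a scalar (equivalently preserving `Q`) — a subgroup of type O^±_{2d}(q) (maximality is not assumed); `Q` is of plus type when `F^{2d}` contains a `d`-dimensional subspace on which `Q` vanishes, of minus type otherwise. Ω is the set of cosets of `H` in `T`, so an element of `T` of prime order `r` (`x ∈ T` with `x^r` scalar, `x` not scalar) fixes a point of Ω exactly when some `T`-conjugate of `x` preserves `Q`. Let `r` be a prime dividing the index of `H`. Then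 every element of `T` of order `r` fixes a point of Ω if and only if `r = 2` and either `Q` is of plus type or `d` is odd. -/
theorem result {F : Type*} [Field F] [Fintype F] {p : ℕ} [Fact p.Prime] [CharP F p] {q : ℕ} (hq : Fintype.card F = q)
    (hp : p = 2) (d : ℕ) (hd : 2 ≤ d) (hT : (d, q) ≠ (2, 2)) (Q : (Fin d ⊕ Fin d → F) → F) (hQ : Cfsg.Geo.IsNondegenerateQuadraticForm Q)
    (hQf : ∀ u v, QuadraticMap.polar Q u v = Cfsg.sympForm d F u v)
    (r : ℕ) [Fact r.Prime]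
    (hΩ : r ∣ (Cfsg.Geo.quadSimilarityGroup Q).relIndex (Cfsg.spGL d F)) :
    (∀ x ∈ Cfsg.spGL d F, (∃ z : F, ((x ^ r : GL (Fin d ⊕ Fin d) F) : Matrix (Fin d ⊕ Fin d) (Fin d ⊕ Fin d) F) = z • (1 : Matrix (Fin d ⊕ Fin d) (Fin d ⊕ Fin d) F)) →
      (∀ z : F, (x : Matrix (Fin d ⊕ Fin d) (Fin d ⊕ Fin d) F) ≠ z • (1 : Matrix (Fin d ⊕ Fin d) (Fin d ⊕ Fin d) F)) →
      ∃ g ∈ Cfsg.spGL d F, g⁻¹ * x * g ∈ Cfsg.Geo.quadSimilarityGroup Q) ↔
    (r = 2 ∧ (Cfsg.Geo.IsPlusTypeOn Q ⊤ ∨ Odd d)) := by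
  classical
  subst hp
  have hpol' : ∀ u v, QuadraticMap.polar Q u v = sympBil F d u v := fun u v =>
    (hQf u v).trans (sympBil_apply d u v).symm
  let Qq : QuadraticForm F (Fin d ⊕ Fin d → F) := QuadraticMap.ofPolar Q
    (fun a x => by rw [hQ.smul]; simp [pow_two])
    (fun x x' y => by simp [hpol'])
    (fun a x y => by simp [hpol'])
  have hQq : ∀ v, Q v = Qq v := fun v => rfl
  have hp : ∀ u v, polar Qq u v = Cfsg.sympForm d F u v := hQf
  have hnd := EvenSymp.nondeg_of_polar hp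
  have hV := EvenSymp.finrank_eq (F := F) d
  have hd1 : 1 ≤ d := by omega
  have hr := (Fact.out : r.Prime)
  have hplus : Cfsg.Geo.IsPlusTypeOn Q ⊤ ↔ EvenForms.Plus Qq d := by
    constructor
    · rintro ⟨U, -, hU, hdim⟩
      rw [finrank_top, hV] at hdim
      exact ⟨U, hU, by omega⟩
    · rintro ⟨U, hU, hdim⟩
      exact ⟨U, le_top, hU, by rw [finrank_top, hV, hdim]⟩
  rw [hplus]
  have hpow : ∀ x ∈ Cfsg.spGL d F, ∀ z : F, ((x ^ r : GL (Fin d ⊕ Fin d) F) :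
      Matrix (Fin d ⊕ Fin d) (Fin d ⊕ Fin d) F) = z • (1 : Matrix (Fin d ⊕ Fin d) (Fin d ⊕ Fin d) F) → z = 1 := by
    intro x hx z hz
    have h := pow_mem hx r (Pi.single (Sum.inr ⟨0, by omega⟩) 1) (Pi.single (Sum.inl ⟨0, by omega⟩) 1)
    change Cfsg.sympForm d F (((x ^ r : GL (Fin d ⊕ Fin d) F) : Matrix (Fin d ⊕ Fin d) (Fin d ⊕ Fin d) F) *ᵥ _) (((x ^ r : GL (Fin d ⊕ Fin d) F) : Matrix (Fin d ⊕ Fin d) (Fin d ⊕ Fin d) F) *ᵥ _) = _ at h
    simp only [hz, Matrix.smul_mulVec, Matrix.one_mulVec] at h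
    have hz2 : z ^ 2 = 1 ^ 2 := by simpa [sympForm_eq, Pi.single_apply, pow_two] using h
    exact EvenForms.sq_inj hz2
  -- an element preserving only forms of the other type fixes no point
  have hder : ∀ (Y : Matrix (Fin d ⊕ Fin d) (Fin d ⊕ Fin d) F), Y ^ r = 1 → (∃ v, Y *ᵥ v ≠ v) →
      (∀ u v, Cfsg.sympForm d F (Y *ᵥ u) (Y *ᵥ v) = Cfsg.sympForm d F u v) →
      (∀ Q' : QuadraticForm F (Fin d ⊕ Fin d → F), (∀ u v, polar Q' u v = Cfsg.sympForm d F u v) →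
        (∀ v, Q' (Y *ᵥ v) = Q' v) → ¬ (EvenForms.Plus Q' d ↔ EvenForms.Plus Qq d)) →
      ¬ (∀ x ∈ Cfsg.spGL d F, (∃ z : F, ((x ^ r : GL (Fin d ⊕ Fin d) F) : Matrix (Fin d ⊕ Fin d) (Fin d ⊕ Fin d) F) = z • (1 : Matrix (Fin d ⊕ Fin d) (Fin d ⊕ Fin d) F)) →
      (∀ z : F, (x : Matrix (Fin d ⊕ Fin d) (Fin d ⊕ Fin d) F) ≠ z • (1 : Matrix (Fin d ⊕ Fin d) (Fin d ⊕ Fin d) F)) →
      ∃ g ∈ Cfsg.spGL d F, g⁻¹ * x * g ∈ Cfsg.Geo.quadSimilarityGroup Q) := by
    rintro Y hY ⟨v₀, hv₀⟩ hYp hforms hall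
    obtain ⟨x, hx, hxr⟩ := SympFpf.exists_gl hY
    have hxs : x ∈ Cfsg.spGL d F := fun u v => by
      show Cfsg.sympForm d F ((x : Matrix (Fin d ⊕ Fin d) (Fin d ⊕ Fin d) F) *ᵥ u) ((x : Matrix (Fin d ⊕ Fin d) (Fin d ⊕ Fin d) F) *ᵥ v) = _
      rw [hx]
      exact hYp u v
    have hns : ∀ z : F, (x : Matrix (Fin d ⊕ Fin d) (Fin d ⊕ Fin d) F) ≠
        z • (1 : Matrix (Fin d ⊕ Fin d) (Fin d ⊕ Fin d) F) := by
      intro z hz
      have hzr : z ^ r = 1 := by
        have h := congrArg (fun M : Matrix (Fin d ⊕ Fin d) (Fin d ⊕ Fin d) F =>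
          M (Sum.inl ⟨0, by omega⟩) (Sum.inl ⟨0, by omega⟩)) hY
        simp only [← hx, hz, smul_pow, one_pow] at h
        simpa using h
      have hz2 : z ^ 2 = 1 ^ 2 := by
        have h := hYp (Pi.single (Sum.inr ⟨0, by omega⟩) 1) (Pi.single (Sum.inl ⟨0, by omega⟩) 1)
        simp only [← hx, hz, Matrix.smul_mulVec, Matrix.one_mulVec] at h
        simpa [sympForm_eq, Pi.single_apply, pow_two] using h
      apply hv₀
      rw [← hx, hz, EvenForms.sq_inj hz2, one_smul, Matrix.one_mulVec]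
    obtain ⟨g, hg, hmem⟩ := hall x hxs ⟨1, by rw [hxr, one_smul, Units.val_one]⟩ hns
    have hiso := (mem_spGL_iff' Qq hQq hp).2 ⟨hmem, mul_mem (mul_mem (inv_mem hg) hxs) hg⟩
    let e : (Fin d ⊕ Fin d → F) ≃ₗ[F] (Fin d ⊕ Fin d → F) := (Matrix.GeneralLinearGroup.toLin g⁻¹).toLinearEquiv
    have he : ∀ v, e v = ((g⁻¹ : GL (Fin d ⊕ Fin d) F) : Matrix (Fin d ⊕ Fin d) (Fin d ⊕ Fin d) F) *ᵥ v := fun v => rfl
    let Q' : QuadraticForm F (Fin d ⊕ Fin d → F) := Qq.comp e.toLinearMap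
    have hQ' : ∀ v, Q' v = Qq (e v) := fun v => rfl
    refine hforms Q' (fun u v => ?_) (fun v => ?_) ?_
    · show Qq (e (u + v)) - Qq (e u) - Qq (e v) = _
      rw [map_add]
      exact (hp _ _).trans ((inv_mem hg : g⁻¹ ∈ Cfsg.spGL d F) u v)
    · rw [hQ', hQ']
      have h := hiso (e v) (e v)
      change Q (((g⁻¹ * x * g : GL (Fin d ⊕ Fin d) F) : Matrix (Fin d ⊕ Fin d) (Fin d ⊕ Fin d) F) *ᵥ e v) = Q (e v) at h
      rw [he v, Matrix.mulVec_mulVec, ← Units.val_mul, mul_inv_cancel_right, Units.val_mul, hx,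
        ← Matrix.mulVec_mulVec] at h
      exact h
    · exact ⟨fun h => EvenForms.plus_congr e (fun v => (hQ' v).symm) h,
        fun h => EvenForms.plus_congr e.symm (fun v => by rw [hQ', e.apply_symm_apply]) h⟩
  constructor
  · intro hall
    by_cases hr2 : r = 2
    · refine ⟨hr2, ?_⟩
      by_contra hcon
      push Not at hcon
      rw [Nat.not_odd_iff_even] at hcon
      obtain ⟨π, h2, hne⟩ := EvenSymp.exists_pairing hcon.2
      obtain ⟨hsq, -, hsp, -, hall'⟩ := EvenSymp.shear_spec (F := F) h2 hne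
      refine hder (EvenSymp.shear F π) (by rw [hr2, pow_two, hsq]) ⟨Pi.single (Sum.inr ⟨0, by omega⟩) 1, ?_⟩ hsp
        (fun Q' hQ'p hQ' h => hcon.1 (h.1 (hall' Q' hQ'p hQ'))) hall
      intro h
      have h' := congrFun h (Sum.inl (π ⟨0, by omega⟩))
      rw [EvenSymp.shear_mulVec] at h'
      simp [h2] at h'
    · exfalso
      obtain ⟨hRp, hRm⟩ := relIndex_eq Qq hQq hp hd1
      have hdvd : r ∣ (Cfsg.Geo.quadSimilarityGroup Q).relIndex (Cfsg.spGL d F) * 2 := dvd_mul_of_dvd_left hΩ 2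
      have hrq : ¬ r ∣ Fintype.card F := fun h => by
        obtain ⟨e, -, he⟩ := FiniteField.card F 2
        rw [he] at h
        exact hr2 ((Nat.prime_dvd_prime_iff_eq hr Nat.prime_two).1 (hr.dvd_of_dvd_pow h))
      have hrqd : ¬ r ∣ Fintype.card F ^ d := fun h => hrq (hr.dvd_of_dvd_pow h)
      have hne : ∀ Y : Matrix (Fin d ⊕ Fin d) (Fin d ⊕ Fin d) F, (∀ v, Y *ᵥ v = v → v = 0) →
          ∃ v, Y *ᵥ v ≠ v := fun Y hY => ⟨Pi.single (Sum.inl ⟨0, by omega⟩) 1, fun h => by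
        have h' := congrFun (hY _ h) (Sum.inl ⟨0, by omega⟩)
        simp at h'⟩
      by_cases hP : EvenForms.Plus Qq d
      · rw [hRp hP] at hdvd
        have hd' := (hr.dvd_mul.1 hdvd).resolve_left hrqd
        have hc : orderOf (Fintype.card F : ZMod r) ∣ 2 * d := by
          refine orderOf_dvd_of_pow_eq_one ?_
          have h' := (ZMod.natCast_eq_zero_iff _ r).2 hd'
          push_cast at h'
          rw [mul_comm, pow_mul, eq_neg_of_add_eq_zero_left h', neg_one_sq]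
        obtain ⟨Y, -, hY, hYp, hYf, -, -⟩ := EvenSymp.exists_fpf_form (F := F) (r := r) hr2 (d := d) (by omega) hc
        refine hder Y hY (hne Y hYf) hYp (fun Q' hQ'p hQ' h => ?_) hall
        exact (EvenSymp.type_of_fpf hr2 (L := (Matrix.toLinAlgEquiv' Y : Module.End F _))
          (by rw [← map_pow, hY, map_one]) hYf (EvenSymp.nondeg_of_polar hQ'p) hQ' hd1 hV).1 hd' (h.2 hP)
      · rw [hRm hP] at hdvd
        have hd' := (hr.dvd_mul.1 hdvd).resolve_left hrqd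
        by_cases hq1 : r ∣ Fintype.card F - 1
        · obtain ⟨Y, hY, hYf, -, hYp, hYQ⟩ := EvenSymp.exists_diag (F := F) hr2 d hq1
          exact hder Y hY (hne Y hYf) hYp (fun Q' _ hQ' h => hP (h.1 (hYQ Q' hQ'))) hall
        · have hc : orderOf (Fintype.card F : ZMod r) ∣ 2 * d := by
            refine orderOf_dvd_of_pow_eq_one ?_
            have h' := (ZMod.natCast_eq_zero_iff _ r).2 hd'
            rw [Nat.cast_sub (Nat.one_le_pow _ _ Fintype.card_pos), sub_eq_zero, Nat.cast_pow, Nat.cast_one] at h'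
            rw [mul_comm, pow_mul, h', one_pow]
          obtain ⟨Y, -, hY, hYp, hYf, -, -⟩ := EvenSymp.exists_fpf_form (F := F) (r := r) hr2 (d := d) (by omega) hc
          refine hder Y hY (hne Y hYf) hYp (fun Q' hQ'p hQ' h => ?_) hall
          refine hP (h.1 (((EvenSymp.type_of_fpf hr2 (L := (Matrix.toLinAlgEquiv' Y : Module.End F _))
            (by rw [← map_pow, hY, map_one]) hYf (EvenSymp.nondeg_of_polar hQ'p) hQ' hd1 hV).2 hd').resolve_right hq1))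
  · rintro ⟨rfl, htype⟩ x hx ⟨z, hz⟩ -
    have hx2 : ∀ v, (x : Matrix (Fin d ⊕ Fin d) (Fin d ⊕ Fin d) F) *ᵥ ((x : Matrix (Fin d ⊕ Fin d) (Fin d ⊕ Fin d) F) *ᵥ v) = v := fun v => by
      have hz' := hz
      rw [hpow x hx z hz, one_smul, Units.val_pow_eq_pow_val, pow_two] at hz'
      rw [Matrix.mulVec_mulVec, hz', Matrix.one_mulVec]
    obtain ⟨hpl, hmi⟩ := EvenForms.exists_invariant_types
      (L := (Matrix.toLinAlgEquiv' (x : Matrix (Fin d ⊕ Fin d) (Fin d ⊕ Fin d) F) : Module.End F _)) hnd hd1 hV hx2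
      (fun u v => by rw [hp, hp]; exact hx u v)
    obtain ⟨Q', hQ'p, hty, hQ'x⟩ : ∃ Q' : QuadraticForm F (Fin d ⊕ Fin d → F),
        (∀ u v, polar Q' u v = polar Qq u v) ∧ (EvenForms.Plus Qq d ↔ EvenForms.Plus Q' d) ∧
        ∀ v, Q' ((x : Matrix (Fin d ⊕ Fin d) (Fin d ⊕ Fin d) F) *ᵥ v) = Q' v := by
      by_cases hP : EvenForms.Plus Qq d
      · obtain ⟨Q', h1, h2, h3⟩ := hpl
        exact ⟨Q', h1, iff_of_true hP h2, h3⟩
      · obtain ⟨Q', h1, h2, h3⟩ := hmi (htype.resolve_left hP)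
        exact ⟨Q', h1, iff_of_false hP h2, h3⟩
    obtain ⟨e, he⟩ := EvenForms.exists_equiv hnd
      (EvenSymp.nondeg_of_polar fun u v => (hQ'p u v).trans (hp u v)) hV hV hty
    let g : GL (Fin d ⊕ Fin d) F := Matrix.GeneralLinearGroup.toLin.symm
      (LinearMap.GeneralLinearGroup.ofLinearEquiv e)
    have hge : ∀ v, (g : Matrix (Fin d ⊕ Fin d) (Fin d ⊕ Fin d) F) *ᵥ v = e v := fun v => by
      show (Matrix.GeneralLinearGroup.toLin g).toLinearEquiv v = e v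
      rw [MulEquiv.apply_symm_apply]
      rfl
    have hgs : g ∈ Cfsg.spGL d F := fun u v => by
      show Cfsg.sympForm d F ((g : Matrix (Fin d ⊕ Fin d) (Fin d ⊕ Fin d) F) *ᵥ u) ((g : Matrix (Fin d ⊕ Fin d) (Fin d ⊕ Fin d) F) *ᵥ v) = Cfsg.sympForm d F u v
      rw [hge, hge, ← hp, ← hQ'p, ← hp]
      simp only [polar, ← map_add, he]
    refine ⟨g, hgs, ((mem_spGL_iff' Qq hQq hp).1 fun v _ => ?_).1⟩
    show Q (((g⁻¹ * x * g : GL (Fin d ⊕ Fin d) F) : Matrix (Fin d ⊕ Fin d) (Fin d ⊕ Fin d) F) *ᵥ v) = Q v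
    rw [hQq, hQq, ← he, ← hge, Matrix.mulVec_mulVec, ← Units.val_mul, mul_assoc, mul_inv_cancel_left,
      Units.val_mul, ← Matrix.mulVec_mulVec, hQ'x, hge, he]

end Cfsg.Agent.S5983
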