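import Cfsg.Statements.S5984
import Cfsg.Agent.Lib.Classical.HermMatrixSimple
import Cfsg.Agent.Lib.Classical.HermGen
-- import your own Cfsg.Agent.* helpers here

set_option autoImplicit false
open scoped MatrixGroups
open Cfsg Module Matrix CfsgLib.Classical

namespace Cfsg.Agent.S5984

section Aux

open Module CfsgLib.Classical

variable {F : Type*} [Field F] {σ : F →+* F} {V : Type*} [AddCommGroup V] [Module F V] [FiniteDimensional F V]
  {B : V →ₛₗ[σ] V →ₗ[F] F}

/-- A pair of complementary totally isotropic subspaces. -/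
structure Pair (B : V →ₛₗ[σ] V →ₗ[F] F) (U W : Submodule F V) : Prop where
  left : ∀ x ∈ U, ∀ y ∈ U, B x y = 0
  right : ∀ x ∈ W, ∀ y ∈ W, B x y = 0
  sup : U ⊔ W = ⊤
  inf : U ⊓ W = ⊥

theorem Pair.symm {U W : Submodule F V} (hP : Pair B U W) : Pair B W U :=
  ⟨hP.right, hP.left, by rw [sup_comm]; exact hP.sup, by rw [inf_comm]; exact hP.inf⟩

theorem Pair.decomp {U W : Submodule F V} (hP : Pair B U W) (x : V) : ∃ u ∈ U, ∃ w ∈ W, u + w = x :=
  Submodule.mem_sup.1 (hP.sup.symm ▸ Submodule.mem_top)

theorem Pair.eq_zero {U W : Submodule F V} (hP : Pair B U W) (hN : B.SeparatingRight) {x : V}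
    (hU : ∀ u ∈ U, B u x = 0) (hW : ∀ w ∈ W, B w x = 0) : x = 0 :=
  hN x fun z => by
    obtain ⟨u, hu, w, hw, rfl⟩ := hP.decomp z
    rw [map_add, LinearMap.add_apply, hU u hu, hW w hw, add_zero]

theorem orth_span {S : Set V} {x : V} (h : ∀ s ∈ S, B s x = 0) : ∀ u ∈ Submodule.span F S, B u x = 0 := by
  intro u hu
  induction hu using Submodule.span_induction with
  | mem s hs => exact h s hs
  | zero => simp
  | add a b _ _ e1 e2 => simp [e1, e2]
  | smul c a _ e1 => simp [e1]

theorem Pair.finrank_le {U W : Submodule F V} (hP : Pair B U W) (hN : B.SeparatingRight) :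
    finrank F U ≤ finrank F W := by
  let b := Module.finBasis F W
  let T : U →ₗ[F] (Fin (finrank F W) → F) := (LinearMap.pi fun i => B (b i : V)).comp U.subtype
  have hT : Function.Injective T := by
    rw [← LinearMap.ker_eq_bot, Submodule.eq_bot_iff]
    intro x hx
    refine Subtype.ext (hP.eq_zero hN (fun u hu => hP.left u hu x x.2) fun w hw => ?_)
    refine orth_span (S := Set.range fun i => (b i : V)) ?_ w ?_
    · rintro _ ⟨i, rfl⟩
      exact congrFun (LinearMap.mem_ker.1 hx) i
    · have := congrArg (Submodule.map W.subtype) b.span_eq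
      rw [Submodule.map_subtype_top, Submodule.map_span, ← Set.range_comp] at this
      rw [← this] at hw
      exact hw
  have h := LinearMap.finrank_le_finrank_of_injective hT
  rwa [Module.finrank_fin_fun] at h

theorem Pair.finrank_eq {U W : Submodule F V} (hP : Pair B U W) (hN : B.SeparatingRight) :
    finrank F U = finrank F W ∧ 2 * finrank F U = finrank F V := by
  have h1 := hP.finrank_le hN
  have h2 := hP.symm.finrank_le hN
  have h3 := Submodule.finrank_sup_add_finrank_inf_eq U W
  rw [hP.sup, hP.inf, finrank_top, finrank_bot] at h3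
  omega

theorem span_eq_of {U : Submodule F V} {m : ℕ} {a : Fin m → V} (ha : ∀ i, a i ∈ U) (hli : LinearIndependent F a)
    (hm : finrank F U = m) : Submodule.span F (Set.range a) = U :=
  Submodule.eq_of_le_of_finrank_eq (Submodule.span_le.2 (by rintro _ ⟨i, rfl⟩; exact ha i))
    (by rw [finrank_span_eq_card hli, Fintype.card_fin, hm])

/-- The dual basis in the partner subspace. -/
theorem Pair.exists_dual {U W : Submodule F V} (hP : Pair B U W) (hN : B.SeparatingRight) {m : ℕ}
    (hm : finrank F U = m) {a : Fin m → V} (ha : ∀ i, a i ∈ U) (hli : LinearIndependent F a) :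
    ∃ b : Fin m → V, (∀ i, b i ∈ W) ∧ ∀ i j, B (a i) (b j) = if i = j then 1 else 0 := by
  let T : W →ₗ[F] (Fin m → F) := (LinearMap.pi fun i => B (a i)).comp W.subtype
  have hT : Function.Injective T := by
    rw [← LinearMap.ker_eq_bot, Submodule.eq_bot_iff]
    intro x hx
    refine Subtype.ext (hP.eq_zero hN (fun u hu => ?_) fun w hw => hP.right w hw x x.2)
    rw [← span_eq_of ha hli hm] at hu
    refine orth_span ?_ u hu
    rintro _ ⟨i, rfl⟩
    exact congrFun (LinearMap.mem_ker.1 hx) i
  have hs := (LinearMap.injective_iff_surjective_of_finrank_eq_finrank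
    (by rw [Module.finrank_fin_fun, ← (hP.finrank_eq hN).1, hm])).1 hT
  choose b hb using fun j => hs (Pi.single j 1)
  refine ⟨fun j => (b j : V), fun j => (b j).2, fun i j => ?_⟩
  exact (congrFun (hb j) i).trans (Pi.single_apply j 1 i)

/-- Gram data of a hyperbolic basis. -/
theorem Pair.gram {U W : Submodule F V} (hP : Pair B U W) (h : IsHermitian B) {m : ℕ} {a b : Fin m → V}
    (ha : ∀ i, a i ∈ U) (hb : ∀ i, b i ∈ W) (hab : ∀ i j, B (a i) (b j) = if i = j then 1 else 0) :
    LinearIndependent F (Sum.elim a b) ∧ ∀ s t, B (Sum.elim a b s) (Sum.elim a b t) =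
      if s.elim Sum.inr Sum.inl = t then 1 else 0 := by
  have hba : ∀ i j, B (b i) (a j) = if i = j then 1 else 0 := fun i j => by
    rw [← h.symm (a j) (b i), hab]
    split_ifs with h1 h2 h3 <;> simp_all
  have hg : ∀ s t, B (Sum.elim a b s) (Sum.elim a b t) = if s.elim Sum.inr Sum.inl = t then 1 else 0 := by
    rintro (i | i) (j | j) <;> simp [hP.left _ (ha _) _ (ha _), hP.right _ (hb _) _ (hb _), hab, hba]
  refine ⟨Fintype.linearIndependent_iff.2 fun c hc s => ?_, hg⟩
  have := congrArg (B (Sum.elim a b (s.elim Sum.inr Sum.inl))) hc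
  simp only [map_sum, map_smul, map_zero, hg, smul_eq_mul, mul_ite, mul_one, mul_zero] at this
  rcases s with i | i <;> simpa using this

theorem isom_span {m : ℕ} {g : isomGroup B} {a a' : Fin m → V} {U U' : Submodule F V}
    (h : ∀ i, g.1 (a i) = a' i) (hU : Submodule.span F (Set.range a) = U)
    (hU' : Submodule.span F (Set.range a') = U') : U.map (g.1 : V →ₗ[F] V) = U' := by
  rw [← hU, Submodule.map_span, ← Set.range_comp]
  rw [show (g.1 : V →ₗ[F] V) ∘ a = a' from funext h, hU']

variable [Finite F]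

/-- The pairs are permuted transitively by the special isometries. -/
theorem Pair.exists_transport {U W U' W' : Submodule F V} (hP : Pair B U W) (hP' : Pair B U' W')
    (h : IsHermitian B) (hN : B.SeparatingRight) (hpos : 0 < finrank F U) :
    ∃ g : isomGroup B, idet B g = 1 ∧ U.map (g.1 : V →ₗ[F] V) = U' ∧ W.map (g.1 : V →ₗ[F] V) = W' := by
  set m := finrank F U with hm
  have hm' : finrank F U' = m := by have := (hP.finrank_eq hN).2; have := (hP'.finrank_eq hN).2; omega
  let e := Module.finBasisOfFinrankEq F U hm.symm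
  let e' := Module.finBasisOfFinrankEq F U' hm'
  set a : Fin m → V := fun i => (e i : V) with ha
  set a' : Fin m → V := fun i => (e' i : V) with ha'
  have hai : LinearIndependent F a := e.linearIndependent.map' U.subtype U.ker_subtype
  have hai' : LinearIndependent F a' := e'.linearIndependent.map' U'.subtype U'.ker_subtype
  obtain ⟨b, hb, hab⟩ := hP.exists_dual hN hm.symm (fun i => (e i).2) hai
  obtain ⟨b', hb', hab'⟩ := hP'.exists_dual hN hm' (fun i => (e' i).2) hai'
  obtain ⟨hli, hG⟩ := hP.gram h (fun i => (e i).2) hb hab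
  obtain ⟨hli', hG'⟩ := hP'.gram h (fun i => (e' i).2) hb' hab'
  obtain ⟨g, hg⟩ := h.witt_family hN hli hli' fun s t => by rw [hG, hG']
  have hgU := isom_span (g := g) (fun i => hg (Sum.inl i)) (span_eq_of (fun i => (e i).2) hai hm.symm)
    (span_eq_of (fun i => (e' i).2) hai' hm')
  have hgW := isom_span (g := g) (fun i => hg (Sum.inr i))
    (span_eq_of hb (hli.comp Sum.inr Sum.inr_injective) ((hP.finrank_eq hN).1 ▸ hm.symm))
    (span_eq_of hb' (hli'.comp Sum.inr Sum.inr_injective) ((hP'.finrank_eq hN).1 ▸ hm'))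
  -- correct the determinant inside the stabiliser of the second pair
  have hn := h.idet_norm hN g
  let i₀ : Fin m := ⟨0, hpos⟩
  obtain ⟨k, hk, l, hl, hkr, hks, hkfix⟩ := h.exists_det_torus hN (r := a' i₀) (s := b' i₀)
    (hP'.left _ (e' i₀).2 _ (e' i₀).2) (hP'.right _ (hb' i₀) _ (hb' i₀)) (by rw [hab', if_pos rfl])
    (δ := σ (idet B g)) (by rw [h.conj.invol, mul_comm]; exact hn)
  have hba' : ∀ i j, B (b' i) (a' j) = if i = j then 1 else 0 := fun i j => by
    rw [← h.symm (a' j) (b' i), hab']
    split_ifs with h1 h2 h3 <;> simp_all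
  have hkU : U'.map (k.1 : V →ₗ[F] V) = U' := by
    refine Submodule.eq_of_le_of_finrank_eq ?_ (k.1.finrank_map_eq U')
    rw [← span_eq_of (fun i => (e' i).2) hai' hm', Submodule.map_span, Submodule.span_le]
    rintro _ ⟨_, ⟨i, rfl⟩, rfl⟩
    show k.1 (a' i) ∈ Submodule.span F (Set.range a')
    rcases eq_or_ne i i₀ with rfl | hi
    · rw [hkr]; exact Submodule.smul_mem _ _ (Submodule.subset_span ⟨_, rfl⟩)
    · rw [hkfix _ (hP'.left _ (e' i₀).2 _ (e' i).2) (by rw [hba', if_neg hi.symm])]
      exact Submodule.subset_span ⟨_, rfl⟩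
  have hkW : W'.map (k.1 : V →ₗ[F] V) = W' := by
    refine Submodule.eq_of_le_of_finrank_eq ?_ (k.1.finrank_map_eq W')
    rw [← span_eq_of hb' (hli'.comp Sum.inr Sum.inr_injective) ((hP'.finrank_eq hN).1 ▸ hm'),
      Submodule.map_span, Submodule.span_le]
    rintro _ ⟨_, ⟨i, rfl⟩, rfl⟩
    show k.1 (b' i) ∈ Submodule.span F (Set.range b')
    rcases eq_or_ne i i₀ with rfl | hi
    · rw [hks]; exact Submodule.smul_mem _ _ (Submodule.subset_span ⟨_, rfl⟩)
    · rw [hkfix _ (by rw [hab', if_neg hi.symm]) (hP'.right _ (hb' i₀) _ (hb' i))]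
      exact Submodule.subset_span ⟨_, rfl⟩
  refine ⟨k * g, by rw [map_mul, hk, mul_comm]; exact hn, ?_, ?_⟩
  · show U.map ((k.1 : V →ₗ[F] V).comp (g.1 : V →ₗ[F] V)) = U'
    rw [Submodule.map_comp, hgU, hkU]
  · show W.map ((k.1 : V →ₗ[F] V).comp (g.1 : V →ₗ[F] V)) = W'
    rw [Submodule.map_comp, hgW, hkW]

/-- The stabiliser of a pair is as large as the general linear group. -/
theorem Pair.card_fix [Fintype F] {U W : Submodule F V} (hP : Pair B U W) (h : IsHermitian B)
    (hN : B.SeparatingRight) :
    Nat.card ↥(isomStab B U ⊓ isomStab B W) =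
      ∏ i : Fin (finrank F U), (Fintype.card F ^ finrank F U - Fintype.card F ^ (i : ℕ)) := by
  set m := finrank F U with hm
  haveI : Finite V := Module.finite_of_finite F
  haveI : Fintype U := Fintype.ofFinite _
  rw [← card_linearIndependent (K := F) (V := U) (k := m) le_rfl]
  let e := Module.finBasisOfFinrankEq F U hm.symm
  have hmap : ∀ g : ↥(isomStab B U ⊓ isomStab B W), ∀ x ∈ U, g.1.1 x ∈ U := fun g x hx => by
    have := Submodule.mem_map_of_mem (f := (g.1.1 : V →ₗ[F] V)) hx
    rwa [mem_isomStab.1 g.2.1] at this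
  have hmapW : ∀ g : ↥(isomStab B U ⊓ isomStab B W), ∀ x ∈ W, g.1.1 x ∈ W := fun g x hx => by
    have := Submodule.mem_map_of_mem (f := (g.1.1 : V →ₗ[F] V)) hx
    rwa [mem_isomStab.1 g.2.2] at this
  let Φ : ↥(isomStab B U ⊓ isomStab B W) → {s : Fin m → U // LinearIndependent F s} := fun g =>
    ⟨fun i => ⟨g.1.1 (e i : V), hmap g _ (e i).2⟩, LinearIndependent.of_comp U.subtype
      ((e.linearIndependent.map' U.subtype U.ker_subtype).map' (g.1.1 : V →ₗ[F] V) g.1.1.ker)⟩
  refine Nat.card_eq_of_bijective Φ ⟨fun g g' hgg => ?_, fun s => ?_⟩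
  · have hU : ∀ x ∈ U, g.1.1 x = g'.1.1 x := fun x hx => by
      have hx' : x ∈ Submodule.span F (Set.range fun i => (e i : V)) := by
        rw [span_eq_of (fun i => (e i).2) (e.linearIndependent.map' U.subtype U.ker_subtype) hm.symm]
        exact hx
      exact LinearMap.eqOn_span (f := (g.1.1 : V →ₗ[F] V)) (g := (g'.1.1 : V →ₗ[F] V))
        (by rintro _ ⟨i, rfl⟩; exact congrArg (fun s => ((s.1 i : U) : V)) hgg) hx'
    refine Subtype.ext (Subtype.ext (LinearEquiv.ext fun x => ?_))
    obtain ⟨u, hu, w, hw, rfl⟩ := hP.decomp x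
    rw [map_add, map_add, hU u hu]
    congr 1
    refine sub_eq_zero.1 (hP.eq_zero hN (fun u' hu' => ?_) fun w' hw' =>
      hP.right w' hw' _ (W.sub_mem (hmapW g w hw) (hmapW g' w hw)))
    obtain ⟨u'', hu'', rfl⟩ : ∃ z ∈ U, g.1.1 z = u' := Submodule.mem_map.1 ((mem_isomStab.1 g.2.1).symm ▸ hu')
    rw [map_sub, isomGroup_apply, hU u'' hu'', isomGroup_apply, sub_self]
  · obtain ⟨s, hs⟩ := s
    have hai : LinearIndependent F fun i => (e i : V) := e.linearIndependent.map' U.subtype U.ker_subtype
    have hsi : LinearIndependent F fun i => (s i : V) := hs.map' U.subtype U.ker_subtype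
    obtain ⟨b, hb, hab⟩ := hP.exists_dual hN hm.symm (fun i => (e i).2) hai
    obtain ⟨b', hb', hab'⟩ := hP.exists_dual hN hm.symm (fun i => (s i).2) hsi
    obtain ⟨hli, hG⟩ := hP.gram h (fun i => (e i).2) hb hab
    obtain ⟨hli', hG'⟩ := hP.gram h (fun i => (s i).2) hb' hab'
    obtain ⟨g, hg⟩ := h.witt_family hN hli hli' fun u v => by rw [hG, hG']
    refine ⟨⟨g, mem_isomStab.2 (isom_span (fun i => hg (Sum.inl i)) (span_eq_of (fun i => (e i).2) hai hm.symm)
        (span_eq_of (fun i => (s i).2) hsi hm.symm)),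
      mem_isomStab.2 (isom_span (fun i => hg (Sum.inr i))
        (span_eq_of hb (hli.comp Sum.inr Sum.inr_injective) ((hP.finrank_eq hN).1 ▸ hm.symm))
        (span_eq_of hb' (hli'.comp Sum.inr Sum.inr_injective) ((hP.finrank_eq hN).1 ▸ hm.symm)))⟩, ?_⟩
    exact Subtype.ext (funext fun i => Subtype.ext (hg (Sum.inl i)))

/-- An isometry fixing both members has eigenspaces of norm one values of even dimension. -/
theorem Pair.even_eigen {U W : Submodule F V} (hP : Pair B U W) (h : IsHermitian B) (hN : B.SeparatingRight)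
    {x : isomGroup B} (hxU : U.map (x.1 : V →ₗ[F] V) = U) (hxW : W.map (x.1 : V →ₗ[F] V) = W) {a : F}
    (ha : a * σ a = 1) : Even (finrank F (Module.End.eigenspace (x.1 : V →ₗ[F] V) a)) := by
  set K := Module.End.eigenspace (x.1 : V →ₗ[F] V) a with hK
  have hmK : ∀ v, v ∈ K ↔ x.1 v = a • v := fun v => by rw [hK, Module.End.mem_eigenspace_iff]; rfl
  have key : ∀ {U W : Submodule F V}, Pair B U W → U.map (x.1 : V →ₗ[F] V) = U → W.map (x.1 : V →ₗ[F] V) = W →
      finrank F ↥(K ⊓ U) ≤ finrank F ↥(K ⊓ W) := by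
    intro U W hP hxU hxW
    let N : V →ₗ[F] V := (x.1 : V →ₗ[F] V) - a • LinearMap.id
    have hN' : ∀ v, N v = x.1 v - a • v := fun v => rfl
    let NU := N.domRestrict U
    have hker : finrank F (LinearMap.ker NU) = finrank F ↥(K ⊓ U) := by
      have e : (LinearMap.ker NU).map U.subtype = K ⊓ U := by
        ext v
        simp only [Submodule.mem_map, LinearMap.mem_ker, Submodule.mem_inf, hmK]
        constructor
        · rintro ⟨u, hu, rfl⟩
          exact ⟨sub_eq_zero.1 hu, u.2⟩
        · rintro ⟨hv, hvU⟩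
          exact ⟨⟨v, hvU⟩, sub_eq_zero.2 hv, rfl⟩
      rw [← e, Submodule.finrank_map_subtype_eq]
    have hrk := LinearMap.finrank_range_add_finrank_ker NU
    set R := LinearMap.range NU with hR
    have hRU : R ≤ U := by
      rintro _ ⟨u, rfl⟩
      show x.1 (u : V) - a • (u : V) ∈ U
      exact U.sub_mem (hxU.le (Submodule.mem_map_of_mem (f := (x.1 : V →ₗ[F] V)) u.2)) (U.smul_mem _ u.2)
    have hperp : perp B R ≤ U ⊔ (K ⊓ W) := by
      intro v hv
      obtain ⟨u, hu, w, hw, rfl⟩ := hP.decomp v
      refine Submodule.add_mem_sup hu (Submodule.mem_inf.2 ⟨(hmK w).2 ?_, hw⟩)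
      have hw' : ∀ u' ∈ U, B (x.1 u' - a • u') w = 0 := fun u' hu' => by
        have hmem : x.1 u' - a • u' ∈ R := ⟨⟨u', hu'⟩, rfl⟩
        have h1 := mem_perp.1 hv _ hmem
        rwa [map_add, hP.left _ (hRU hmem) u hu, zero_add] at h1
      obtain ⟨w', hw'W, hxw⟩ : ∃ z ∈ W, x.1 z = w := Submodule.mem_map.1 (hxW.symm ▸ hw)
      have hz : w' - σ a • w = 0 := hP.eq_zero hN (fun u' hu' => by
        have h1 := hw' u' hu'
        rw [map_sub, LinearMap.sub_apply, map_smulₛₗ, LinearMap.smul_apply, smul_eq_mul] at h1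
        have h3 : B (x.1 u') w = B u' w' := by rw [← hxw, isomGroup_apply]
        rw [h3] at h1
        rw [map_sub, map_smul, smul_eq_mul]
        exact h1) fun z hz => hP.right z hz _ (W.sub_mem hw'W (W.smul_mem _ hw))
      rw [sub_eq_zero.1 hz, map_smul] at hxw
      have := congrArg (a • ·) hxw
      simp only [smul_smul, ha, one_smul] at this
      rw [this]
    have h1 := finrank_le_finrank_perp_add B R
    have h2 := Submodule.finrank_mono hperp
    have h3 := Submodule.finrank_sup_add_finrank_inf_eq U (K ⊓ W)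
    have h4 := hP.finrank_eq hN
    omega
  have hsup : (K ⊓ U) ⊔ (K ⊓ W) = K := by
    refine le_antisymm (sup_le inf_le_left inf_le_left) fun v hv => ?_
    obtain ⟨u, hu, w, hw, rfl⟩ := hP.decomp v
    have hv' := (hmK _).1 hv
    rw [map_add, smul_add] at hv'
    have h1 : x.1 u - a • u = a • w - x.1 w := by
      rw [sub_eq_sub_iff_add_eq_add, hv']
      abel
    have h2 : x.1 u - a • u ∈ U ⊓ W := ⟨U.sub_mem (hxU.le (Submodule.mem_map_of_mem (f := (x.1 : V →ₗ[F] V)) hu))
      (U.smul_mem _ hu), h1 ▸ W.sub_mem (W.smul_mem _ hw) (hxW.le (Submodule.mem_map_of_mem (f := (x.1 : V →ₗ[F] V)) hw))⟩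
    rw [hP.inf, Submodule.mem_bot] at h2
    exact Submodule.add_mem_sup ⟨(hmK u).2 (sub_eq_zero.1 h2), hu⟩
      ⟨(hmK w).2 (sub_eq_zero.1 (h1.symm.trans h2)).symm, hw⟩
  have hinf : (K ⊓ U) ⊓ (K ⊓ W) = ⊥ := le_bot_iff.1 ((inf_le_inf inf_le_right inf_le_right).trans hP.inf.le)
  have h1 := Submodule.finrank_sup_add_finrank_inf_eq (K ⊓ U) (K ⊓ W)
  rw [hsup, hinf, finrank_bot] at h1
  exact ⟨finrank F ↥(K ⊓ U), by have := key hP hxU hxW; have := key hP.symm hxW hxU; omega⟩

/-- Isometries of determinant one and prime order with eigenvalues of norm one fix a pair. -/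
theorem exists_pair_of_frame {ι : Type*} [Fintype ι] [DecidableEq ι] (hN : B.SeparatingRight) (h : IsHermitian B) {e f : ι → V}
    (hee : ∀ i j, B (e i) (e j) = if i = j then 1 else 0) (hff : ∀ i j, B (f i) (f j) = if i = j then 1 else 0)
    (hef : ∀ i j, B (e i) (f j) = 0) (hn : 2 * Fintype.card ι = finrank F V) (h2 : (2 : F) ≠ 0) {β : F}
    (hβ : β * σ β = -1) (x : isomGroup B) (c : ι → F) (hxe : ∀ i, x.1 (e i) = c i • e i)
    (hxf : ∀ i, x.1 (f i) = c i • f i) :
    ∃ U W : Submodule F V, Pair B U W ∧ U.map (x.1 : V →ₗ[F] V) = U ∧ W.map (x.1 : V →ₗ[F] V) = W := by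
  classical
  have hfe : ∀ i j, B (f i) (e j) = 0 := fun i j => h.isRefl _ _ (hef j i)
  let u : F → ι → V := fun b i => e i + b • f i
  have hiso : ∀ b, b * σ b = -1 → ∀ i j, B (u b i) (u b j) = 0 := fun b hb i j => by
    simp only [u, map_add, LinearMap.add_apply, map_smul, map_smulₛₗ, LinearMap.smul_apply, hee, hff, hef, hfe,
      smul_eq_mul, mul_zero, add_zero, zero_add, RingHom.id_apply]
    split_ifs
    · linear_combination hb
    · ring
  have horth : ∀ b, b * σ b = -1 → ∀ p ∈ Submodule.span F (Set.range (u b)),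
      ∀ q ∈ Submodule.span F (Set.range (u b)), B p q = 0 := fun b hb p hp q hq => by
    refine orth_span (x := q) ?_ p hp
    rintro _ ⟨i, rfl⟩
    refine h.isRefl _ _ (orth_span (x := u b i) ?_ q hq)
    rintro _ ⟨j, rfl⟩
    exact hiso b hb j i
  have hβ' : (-β) * σ (-β) = -1 := by rw [map_neg, neg_mul_neg]; exact hβ
  have hfull : Submodule.span F (Set.range (Sum.elim e f)) = ⊤ := by
    refine Submodule.eq_top_of_finrank_eq ?_
    rw [finrank_span_eq_card, Fintype.card_sum, ← hn, two_mul]
    refine Fintype.linearIndependent_iff.2 fun g hg s => ?_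
    have := congrArg (B (Sum.elim e f s)) hg
    rcases s with i | i <;>
      simpa [map_sum, Fintype.sum_sum_type, hee, hff, hef, hfe] using this
  set U := Submodule.span F (Set.range (u β)) with hUdef
  set W := Submodule.span F (Set.range (u (-β))) with hWdef
  have hsup : U ⊔ W = ⊤ := by
    rw [eq_top_iff, ← hfull, Submodule.span_le]
    have hβ0 : β ≠ 0 := fun h0 => by simp [h0] at hβ
    rintro _ ⟨s | s, rfl⟩
    · have : e s = (2 : F)⁻¹ • u β s + (2 : F)⁻¹ • u (-β) s := by
        simp only [u, ← smul_add]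
        rw [show e s + β • f s + (e s + (-β) • f s) = (2 : F) • e s by rw [two_smul, neg_smul]; abel, inv_smul_smul₀ h2]
      rw [Sum.elim_inl, this]
      exact Submodule.add_mem_sup (U.smul_mem _ (Submodule.subset_span ⟨s, rfl⟩))
        (W.smul_mem _ (Submodule.subset_span ⟨s, rfl⟩))
    · have : f s = (2 * β)⁻¹ • u β s + (-(2 * β)⁻¹) • u (-β) s := by
        simp only [u, neg_smul, ← sub_eq_add_neg, ← smul_sub]
        rw [show e s + β • f s - (e s - β • f s) = (2 * β) • f s by rw [mul_smul, two_smul]; abel,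
          inv_smul_smul₀ (mul_ne_zero h2 hβ0)]
      rw [Sum.elim_inr, this]
      exact Submodule.add_mem_sup (U.smul_mem _ (Submodule.subset_span ⟨s, rfl⟩))
        (W.smul_mem _ (Submodule.subset_span ⟨s, rfl⟩))
  have hinf : U ⊓ W = ⊥ := by
    have h1 := Submodule.finrank_sup_add_finrank_inf_eq U W
    have hU : finrank F U ≤ Fintype.card ι := finrank_range_le_card (u β)
    have hW : finrank F W ≤ Fintype.card ι := finrank_range_le_card (u (-β))
    rw [hsup, finrank_top] at h1
    exact Submodule.finrank_eq_zero.1 (by omega)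
  have hinv : ∀ b, (Submodule.span F (Set.range (u b))).map (x.1 : V →ₗ[F] V) = Submodule.span F (Set.range (u b)) := by
    intro b
    refine Submodule.eq_of_le_of_finrank_eq ?_ (x.1.finrank_map_eq _)
    rw [Submodule.map_span, Submodule.span_le]
    rintro _ ⟨_, ⟨i, rfl⟩, rfl⟩
    have : x.1 (u b i) = c i • u b i := by
      simp only [u, map_add, map_smul, hxe, hxf, smul_add, smul_comm (c i) b]
    rw [LinearEquiv.coe_coe, this]
    exact Submodule.smul_mem _ _ (Submodule.subset_span ⟨i, rfl⟩)
  exact ⟨U, W, ⟨horth β hβ, horth _ hβ', hsup, hinf⟩, hinv β, hinv (-β)⟩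

/-- An isometry of order prime to the characteristic fixing a non-zero vector fixes a unit vector. -/
theorem exists_fixed_unit (hN : B.SeparatingRight) (h : IsHermitian B) {r : ℕ} (hr : (r : F) ≠ 0)
    {y : isomGroup B} (hy : y ^ r = 1) {v : V} (hv0 : v ≠ 0) (hv : y.1 v = v) : ∃ x, B x x = 1 ∧ y.1 x = x := by
  have hs : ∀ (j : ℕ) (w : V), (y ^ (j + 1)).1 w = y.1 ((y ^ j).1 w) := fun j w => by rw [pow_succ']; rfl
  have hfix : ∀ j, (y ^ j).1 v = v := fun j => by
    induction j with
    | zero => rfl
    | succ j ih => rw [hs, ih, hv]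
  obtain ⟨w, hw⟩ : ∃ w, B v w ≠ 0 := by
    by_contra hcon
    push Not at hcon
    exact hv0 (hN v fun z => h.isRefl _ _ (hcon z))
  set w' := ∑ j ∈ Finset.range r, (y ^ j).1 w with hw'
  have hyw : y.1 w' = w' := by
    have h1 := Finset.sum_range_succ (fun j => (y ^ j).1 w) r
    have h2 := Finset.sum_range_succ' (fun j => (y ^ j).1 w) r
    rw [hw', map_sum, Finset.sum_congr rfl fun j _ => (hs j w).symm]
    rw [hy] at h1
    exact add_right_cancel (h2.symm.trans h1)
  have hvw : B v w' ≠ 0 := by
    rw [hw', map_sum]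
    have : ∀ j, B v ((y ^ j).1 w) = B v w := fun j => by
      conv_lhs => rw [← hfix j]
      exact isomGroup_apply _ _ _
    rw [Finset.sum_congr rfl fun j _ => this j, Finset.sum_const, Finset.card_range, nsmul_eq_mul]
    exact mul_ne_zero hr hw
  obtain ⟨z, hz, hyz⟩ : ∃ z, B z z ≠ 0 ∧ y.1 z = z := by
    rcases h.exists_self_ne_zero hvw with h1 | h1 | ⟨c, h1⟩
    · exact ⟨_, h1, hv⟩
    · exact ⟨_, h1, hyw⟩
    · exact ⟨_, h1, by rw [map_add, map_smul, hv, hyw]⟩
  obtain ⟨c, hc⟩ := h.exists_scaled hz (map_one σ)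
  exact ⟨_, hc, by rw [map_smul, hyz]⟩

/-- The order of an isometry fixing a unit vector divides the order of the isometry group of its perp. -/
theorem orderOf_dvd_of_fixed_unit (hN : B.SeparatingRight) (h : IsHermitian B) {y : isomGroup B} {x : V}
    (hx : B x x = 1) (hy : y.1 x = x) :
    orderOf y ∣ Nat.card (isomGroup (restrictForm B (perp B (Submodule.span F {x})))) := by
  haveI : Finite V := Module.finite_of_finite F
  haveI : Finite (isomGroup B) := Finite.of_injective (fun g : isomGroup B => (g.1 : V → V))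
    fun a b hab => Subtype.ext (DFunLike.coe_injective hab)
  have horb : MulAction.orbit (isomGroup B) x = {v | B v v = 1} := by
    ext v
    refine ⟨?_, fun hv => ?_⟩
    · rintro ⟨g, rfl⟩
      exact (g.2 x x).trans hx
    · have hne : ∀ w : V, B w w = 1 → w ≠ 0 := fun w hw h0 => by simp [h0] at hw
      obtain ⟨g, hg⟩ := h.witt_family hN (a := fun _ : Unit => x) (b := fun _ : Unit => v)
        (linearIndependent_unique_iff.2 (hne x hx)) (linearIndependent_unique_iff.2 (hne v hv))
        fun _ _ => hx.trans hv.symm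
      exact ⟨g, hg ()⟩
  have h1 := (MulAction.stabilizer (isomGroup B) x).card_mul_index
  rw [MulAction.index_stabilizer, horb, card_isom_unit_step h hN hx] at h1
  have hpos : 0 < Nat.card {v : V // B v v = 1} := by
    haveI : Nonempty {v : V // B v v = 1} := ⟨⟨x, hx⟩⟩
    exact Nat.card_pos
  have hcard : Nat.card (MulAction.stabilizer (isomGroup B) x) =
      Nat.card (isomGroup (restrictForm B (perp B (Submodule.span F {x})))) := by
    refine Nat.eq_of_mul_eq_mul_left hpos ?_
    rw [← h1, mul_comm]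
    rfl
  rw [← hcard]
  exact Subgroup.orderOf_dvd_natCard _ hy

end Aux

/-- Elements of prime order of PSU_n(q) and the stabilizers of pairs of complementary totally singular subspaces. Here `T = PSU_n(q)` is realised through `SU_n(q)`, the matrices of determinant 1 over the field `F` with `q²` elements preserving the hermitian form `Σ uᵢ vᵢ^q`, with `n ≥ 4` even; `D` is a pair of complementary subspaces of dimension `n/2` on each of which the form vanishes identically, and `H` is the subgroup of `SU_n(q)` fixing or interchanging the two members — a subgroup of type GL_{n/2}(q²).2 (maximality is not assumed). Ω is the set of cosets of `H`, so an element of `T` of prime order `r` (`x ∈ SU_n(q)` with `x^r` scalar, `x` not scalar) fixes a point of Ω exactly when some `SU_n(q)`-conjugate of `x` lies in `H`. Let `r` be a prime dividing the index of `H`. Then every element of `T` of order `r` fixes a point of Ω if and only if `r = 2`, `q` is odd and `(q + 1)_2 ≤ (n)_2` (2-parts). -/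
theorem result {F : Type*} [Field F] [Fintype F] {p : ℕ} [Fact p.Prime] [CharP F p] {q : ℕ} (hq : Fintype.card F = q ^ 2)
    (n : ℕ) (hn : 4 ≤ n) (he : Even n) (D : Fin 2 → Submodule F (Fin n → F)) (hD : Cfsg.Geo.IsMDecomposition (n / 2) D)
    (hDs : ∀ i, Cfsg.Geo.IsTotallySingularFor (Cfsg.hermForm n F q) (D i))
    (r : ℕ) [Fact r.Prime]
    (hΩ : r ∣ (Cfsg.Geo.decompositionStabilizer D).relIndex (Cfsg.GU n F q ⊓ Cfsg.Geo.specialLinear (Fin n) F)) :
    (∀ x ∈ Cfsg.GU n F q ⊓ Cfsg.Geo.specialLinear (Fin n) F, (∃ z : F, ((x ^ r : GL (Fin n) F) : Matrix (Fin n) (Fin n) F) = z • (1 : Matrix (Fin n) (Fin n) F)) →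
      (∀ z : F, (x : Matrix (Fin n) (Fin n) F) ≠ z • (1 : Matrix (Fin n) (Fin n) F)) →
      ∃ g ∈ Cfsg.GU n F q ⊓ Cfsg.Geo.specialLinear (Fin n) F, g⁻¹ * x * g ∈ Cfsg.Geo.decompositionStabilizer D) ↔
    (r = 2 ∧ Odd q ∧ padicValNat 2 (q + 1) ≤ padicValNat 2 n) := by
  classical
  have hr : r.Prime := Fact.out
  have hpp : p.Prime := Fact.out
  obtain ⟨τ, hτ, hc⟩ := exists_frob hq
  have h := stdHerm_isHermitian hc n
  have hN := stdHerm_sepRight (σ := τ) n
  set B := stdHerm τ n with hBdef
  have hq2 := two_le_of_card_sq hq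
  set m := n / 2 with hm_def
  have hn2 : n = 2 * m := by obtain ⟨k, hk⟩ := he; omega
  have hm2 : 2 ≤ m := by omega
  have hfn : finrank F (Fin n → F) = 2 * m := by rw [Module.finrank_fin_fun, hn2]
  have hts : ∀ i, ∀ x ∈ D i, ∀ y ∈ D i, B x y = 0 := fun i x hx y hy => by
    rw [hBdef, ← hermForm_eq_stdHerm hτ]; exact hDs i y hy x hx
  have hP : Pair B (D 0) (D 1) :=
    ⟨hts 0, hts 1, eq_top_iff.2 (hD.iSup_eq_top ▸ iSup_le (Fin.forall_fin_two.2 ⟨le_sup_left, le_sup_right⟩)),
      disjoint_iff.1 (hD.indep.pairwiseDisjoint (by decide : (0 : Fin 2) ≠ 1))⟩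
  have hdim : ∀ i, finrank F (D i) = m := hD.finrank_eq
  set T := Cfsg.GU n F q ⊓ Cfsg.Geo.specialLinear (Fin n) F with hT
  set H := Cfsg.Geo.decompositionStabilizer D with hHdef
  let Φ := guEquiv (n := n) hτ
  have hΦ : ∀ (g : Cfsg.GU n F q), Matrix.toLin' (g.1 : Matrix (Fin n) (Fin n) F) =
      ((Φ g).1 : (Fin n → F) →ₗ[F] (Fin n → F)) := fun g => LinearMap.ext fun x => by
    rw [Matrix.toLin'_apply]; rfl
  have hsl : ∀ g : Cfsg.GU n F q, g.1 ∈ Cfsg.Geo.specialLinear (Fin n) F ↔ idet B (Φ g) = 1 := fun g => by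
    rw [idet_guEquiv, Cfsg.Geo.specialLinear, MonoidHom.mem_ker, Units.ext_iff]
    rfl
  have hmemT : ∀ u : isomGroup B, idet B u = 1 → (Φ.symm u).1 ∈ T := fun u hu =>
    ⟨(Φ.symm u).2, (hsl _).2 (by rw [MulEquiv.apply_symm_apply]; exact hu)⟩
  have hscal : ∀ (g : Cfsg.GU n F q) (k : ℕ) (z : F),
      ((g.1 ^ k : GL (Fin n) F) : Matrix (Fin n) (Fin n) F) = z • (1 : Matrix (Fin n) (Fin n) F) ↔
        ∀ v, (Φ g ^ k).1 v = z • v := by
    intro g k z
    rw [← map_pow]
    refine ⟨fun hz v => ?_, fun hz => ?_⟩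
    · rw [guEquiv_apply, SubgroupClass.coe_pow, hz, Matrix.smul_mulVec, Matrix.one_mulVec]
    · refine Matrix.ext_of_mulVec_single fun i => ?_
      have := hz (Pi.single i 1)
      rw [guEquiv_apply, SubgroupClass.coe_pow] at this
      rw [this, Matrix.smul_mulVec, Matrix.one_mulVec]
  constructor
  · intro hfix
    -- a derangement as soon as an eigenspace has odd dimension
    have hnofix : ∀ (u : isomGroup B) (a : F), idet B u = 1 → (∃ z : F, ∀ v, (u ^ r).1 v = z • v) → a * τ a = 1 →
        Odd (finrank F (Module.End.eigenspace (u.1 : (Fin n → F) →ₗ[F] (Fin n → F)) a)) →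
        (Odd r ∨ m < finrank F (Module.End.eigenspace (u.1 : (Fin n → F) →ₗ[F] (Fin n → F)) a)) → False := by
      intro u a hu hz ha hodd hcase
      set K := Module.End.eigenspace (u.1 : (Fin n → F) →ₗ[F] (Fin n → F)) a with hK
      obtain ⟨z, hz⟩ := hz
      obtain ⟨g, ⟨hgU, hgS⟩, hgx⟩ := hfix (Φ.symm u).1 (hmemT u hu) ⟨z, (hscal (Φ.symm u) r z).2 (by
          rw [MulEquiv.apply_symm_apply]; exact hz)⟩ fun c hcx => by
        have hc' : ∀ v, u.1 v = c • v := fun v => by
          have h1 := (hscal (Φ.symm u) 1 c).1 (by rw [pow_one]; exact hcx) v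
          rwa [pow_one, MulEquiv.apply_symm_apply] at h1
        by_cases hca : c = a
        · have htop : K = ⊤ := eq_top_iff.2 fun v _ => Module.End.mem_eigenspace_iff.2 (hca ▸ hc' v)
          rw [htop, finrank_top, hfn] at hodd
          exact Nat.not_odd_iff_even.2 (even_two_mul m) hodd
        · have hbot : K = ⊥ := (Submodule.eq_bot_iff _).2 fun v hv => by
            have h1 : u.1 v = a • v := Module.End.mem_eigenspace_iff.1 hv
            rw [hc'] at h1
            by_contra hv0
            exact hca (smul_left_injective F hv0 h1)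
          rw [hbot, finrank_bot] at hodd
          exact Nat.not_odd_zero hodd
      let G : isomGroup B := Φ ⟨g, hgU⟩
      set y := G⁻¹ * u * G with hy
      obtain ⟨π, hπ⟩ : ∃ π : Equiv.Perm (Fin 2), ∀ i, (D i).map (y.1 : (Fin n → F) →ₗ[F] (Fin n → F)) = D (π i) := by
        obtain ⟨π, hπ⟩ := hgx
        refine ⟨π, fun i => ?_⟩
        rw [← hπ i]
        congr 1
        rw [show (g⁻¹ * (Φ.symm u).1 * g : GL (Fin n) F) =
          ((⟨g, hgU⟩⁻¹ * Φ.symm u * ⟨g, hgU⟩ : Cfsg.GU n F q)).1 from rfl, hΦ, map_mul, map_mul, map_inv,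
          MulEquiv.apply_symm_apply]
      have hKy : finrank F (Module.End.eigenspace (y.1 : (Fin n → F) →ₗ[F] (Fin n → F)) a) = finrank F K := by
        have e : Module.End.eigenspace (y.1 : (Fin n → F) →ₗ[F] (Fin n → F)) a =
            K.map ((G⁻¹).1 : (Fin n → F) →ₗ[F] (Fin n → F)) := by
          ext v
          rw [Submodule.mem_map_equiv, Module.End.mem_eigenspace_iff, hK, Module.End.mem_eigenspace_iff]
          show G.1.symm (u.1 (G.1 v)) = a • v ↔ u.1 (G.1 v) = a • G.1 v
          rw [LinearEquiv.symm_apply_eq, map_smul]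
        rw [e, LinearEquiv.finrank_map_eq]
      set K' := Module.End.eigenspace (y.1 : (Fin n → F) →ₗ[F] (Fin n → F)) a with hK'
      rw [← hKy] at hodd hcase
      by_cases h0 : π 0 = 0
      · have h1 : π 1 = 1 := by
          rcases Fin.exists_fin_two.1 ⟨π 1, rfl⟩ with e | e
          · exact absurd (π.injective (e.trans h0.symm)) (by decide)
          · exact e
        exact Nat.not_odd_iff_even.2 (hP.even_eigen h hN ((hπ 0).trans (by rw [h0])) ((hπ 1).trans (by rw [h1])) ha) hodd
      · have h0' : π 0 = 1 := by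
          rcases Fin.exists_fin_two.1 ⟨π 0, rfl⟩ with e | e
          · exact absurd e h0
          · exact e
        have h1' : π 1 = 0 := by
          rcases Fin.exists_fin_two.1 ⟨π 1, rfl⟩ with e | e
          · exact e
          · exact absurd (π.injective (h0'.trans e.symm)) (by decide)
        have hswap : ∀ v ∈ D 0, y.1 v ∈ D 1 := fun v hv => by
          rw [← h0', ← hπ 0]; exact Submodule.mem_map_of_mem hv
        rcases hcase with hrodd | hbig
        · obtain ⟨i, hi⟩ := hrodd
          have hs : ∀ (j : ℕ) (v : Fin n → F), (y ^ (j + 1)).1 v = y.1 ((y ^ j).1 v) := fun j v => by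
            rw [pow_succ']; rfl
          have heven : ∀ j, ∀ v ∈ D 0, (y ^ (2 * j)).1 v ∈ D 0 := fun j => by
            induction j with
            | zero => intro v hv; simpa using hv
            | succ j ih =>
              intro v hv
              rw [show 2 * (j + 1) = 2 * j + 1 + 1 by ring, hs, hs, ← h1', ← hπ 1]
              exact Submodule.mem_map_of_mem (hswap _ (ih v hv))
          obtain ⟨v, hv, hv0⟩ := Submodule.exists_mem_ne_zero_of_ne_bot (p := D 0) fun e => by
            have := hdim 0
            rw [e, finrank_bot] at this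
            omega
          have hmem : (y ^ r).1 v ∈ D 1 := by rw [hi, hs]; exact hswap _ (heven i v hv)
          have hyr : (y ^ r).1 v = z • v := by
            rw [hy, show G⁻¹ * u * G = G⁻¹ * u * G⁻¹⁻¹ by rw [inv_inv], conj_pow, inv_inv]
            show G.1.symm ((u ^ r).1 (G.1 v)) = z • v
            rw [hz, map_smul, LinearEquiv.symm_apply_apply]
          have hzero : (y ^ r).1 v = 0 := by
            have hh : (y ^ r).1 v ∈ D 0 ⊓ D 1 := ⟨hyr ▸ (D 0).smul_mem z hv, hmem⟩
            rwa [hP.inf, Submodule.mem_bot] at hh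
          exact hv0 ((y ^ r).1.map_eq_zero_iff.1 hzero)
        · have hinf : K' ⊓ D 0 = ⊥ := by
            rw [Submodule.eq_bot_iff]
            rintro v ⟨hvK, hv⟩
            have h1 : y.1 v = a • v := Module.End.mem_eigenspace_iff.1 hvK
            have h2 : a • v ∈ D 0 ⊓ D 1 := ⟨(D 0).smul_mem a hv, h1 ▸ hswap v hv⟩
            rw [hP.inf, Submodule.mem_bot, smul_eq_zero] at h2
            exact h2.resolve_left fun e => by simp [e] at ha
          have h1 := Submodule.finrank_sup_add_finrank_inf_eq K' (D 0)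
          rw [hinf, finrank_bot, hdim] at h1
          have h2 := Submodule.finrank_le (K' ⊔ D 0)
          omega
    -- diagonal derangements
    have hdiag : ∀ (d : Fin n → Fˣ), (∀ i, d i ∈ (normHom τ).ker) → ∏ i, d i = 1 → ∀ (z a : F),
        (∀ i, (d i : F) ^ r = z) → ∃ u : isomGroup B, idet B u = 1 ∧ (∀ v, (u ^ r).1 v = z • v) ∧
          ∀ v, v ∈ Module.End.eigenspace (u.1 : (Fin n → F) →ₗ[F] (Fin n → F)) a ↔ ∀ i, (d i : F) ≠ a → v i = 0 := by
      intro d hd hprod z a hz
      let g : Cfsg.GU n F q := ⟨diagGL d, diagGL_mem_GU hτ d hd⟩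
      refine ⟨Φ g, (hsl g).1 (MonoidHom.mem_ker.2 (by rw [diagGL_det, hprod])), (hscal g r z).1 ?_, fun v => ?_⟩
      · rw [Units.val_pow_eq_pow_val]
        show (Matrix.diagonal fun i => (d i : F)) ^ r = _
        rw [Matrix.diagonal_pow, Matrix.smul_one_eq_diagonal]
        exact congrArg _ (funext hz)
      · rw [Module.End.mem_eigenspace_iff]
        show (Matrix.diagonal fun i => (d i : F)) *ᵥ v = a • v ↔ _
        rw [funext_iff]
        refine forall_congr' fun i => ?_
        rw [Matrix.mulVec_diagonal, Pi.smul_apply, smul_eq_mul]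
        constructor
        · intro e hne
          exact (mul_eq_zero.1 (show ((d i : F) - a) * v i = 0 by linear_combination e)).resolve_left (sub_ne_zero.2 hne)
        · intro e
          by_cases hne : (d i : F) = a
          · rw [hne]
          · rw [e hne, mul_zero, mul_zero]
    have hnormK : ∀ u : Fˣ, u ∈ (normHom τ).ker ↔ (u : F) * τ u = 1 := fun u => by
      rw [MonoidHom.mem_ker, Units.ext_iff, CfsgLib.Classical.normHom_apply, Units.val_one]
    have hkercard : Nat.card (normHom τ).ker = q + 1 := (frob_cards hq hτ hc).2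
    let i₀ : Fin n := ⟨0, by omega⟩
    let i₁ : Fin n := ⟨1, by omega⟩
    have hne01 : i₀ ≠ i₁ := fun e => by simp [i₀, i₁] at e
    by_cases hrp : r = p
    · -- transvections
      exfalso
      have hr0 : (r : F) = 0 := by rw [hrp]; exact CharP.cast_eq_zero F p
      obtain ⟨v, hv, hv0⟩ := Submodule.exists_mem_ne_zero_of_ne_bot (p := D 0) fun e => by
        have := hdim 0
        rw [e, finrank_bot] at this
        omega
      obtain ⟨c, hc0, hctr⟩ := hc.exists_trace_zero
      obtain ⟨t, ht⟩ := h.exists_uTv hN (hts 0 v hv v hv) hctr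
      have hpow : ∀ (j : ℕ) (x : Fin n → F), (t ^ j).1 x = x + ((j : F) * (c * B v x)) • v := by
        intro j
        induction j with
        | zero => intro x; simp
        | succ j ih =>
          intro x
          rw [pow_succ']
          show t.1 ((t ^ j).1 x) = _
          rw [ih, ht.2.2, map_add, map_smul, hts 0 v hv v hv, smul_zero, add_zero, add_assoc, ← add_smul]
          congr 2
          push_cast
          ring
      have hK : Module.End.eigenspace (t.1 : (Fin n → F) →ₗ[F] (Fin n → F)) 1 = LinearMap.ker (B v) := by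
        ext x
        rw [Module.End.mem_eigenspace_iff, LinearMap.mem_ker, one_smul]
        show t.1 x = x ↔ _
        rw [ht.2.2, add_eq_left, smul_eq_zero, or_iff_left hv0, mul_eq_zero, or_iff_right hc0]
      have hdimK : finrank F (LinearMap.ker (B v)) = 2 * m - 1 := by
        have h1 := LinearMap.finrank_range_add_finrank_ker (B v)
        have h2 : finrank F (LinearMap.range (B v)) = 1 := by
          refine le_antisymm ((Submodule.finrank_le _).trans (Module.finrank_self F).le) ?_
          rw [Nat.one_le_iff_ne_zero, Ne, Submodule.finrank_eq_zero, LinearMap.range_eq_bot]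
          exact fun e => hv0 (hN v fun w => h.isRefl _ _ (by rw [e, LinearMap.zero_apply]))
        omega
      refine hnofix t 1 (h.idet_uTv ht) ⟨1, fun x => by rw [hpow, hr0, zero_mul, zero_smul, add_zero, one_smul]⟩
        (by rw [map_one, mul_one]) ?_ (Or.inr ?_)
      · rw [hK, hdimK]; exact ⟨m - 1, by omega⟩
      · rw [hK, hdimK]; omega
    have hrq : ¬ r ∣ q := fun hd => hrp (by
      obtain ⟨f, hf⟩ := FiniteField.card F p
      have hh : r ∣ p ^ (f : ℕ) := by rw [← hf.2, hq]; exact dvd_pow hd two_ne_zero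
      exact (Nat.prime_dvd_prime_iff_eq hr hpp).1 (hr.dvd_of_dvd_pow hh))
    by_cases hr2 : r = 2
    · subst hr2
      have hodd : Odd q := Nat.not_even_iff_odd.1 fun e => hrq (even_iff_two_dvd.1 e)
      refine ⟨rfl, hodd, ?_⟩
      by_contra hlt
      push Not at hlt
      obtain ⟨t, ht2, ht⟩ : ∃ t, ¬ 2 ∣ t ∧ n = 2 ^ padicValNat 2 n * t := by
        obtain ⟨e, t, ht, hnt⟩ := Nat.exists_eq_pow_mul_and_not_dvd (show n ≠ 0 by omega) 2 (by norm_num)
        refine ⟨t, ht, ?_⟩
        have : padicValNat 2 n = e := by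
          rw [hnt, padicValNat.mul (pow_ne_zero _ two_ne_zero) (fun e => ht (by rw [e]; exact dvd_zero 2)),
            padicValNat.prime_pow, padicValNat.eq_zero_of_not_dvd ht, add_zero]
        rw [this]; exact hnt
      have hdvd : 2 ^ (padicValNat 2 n + 1) ∣ Nat.card (normHom τ).ker := by
        rw [hkercard]
        exact (pow_dvd_pow 2 hlt).trans pow_padicValNat_dvd
      obtain ⟨g₀, hg₀⟩ := IsCyclic.exists_ofOrder_eq_natCard (α := (normHom τ).ker)
      obtain ⟨k, hk⟩ := hdvd
      set w := g₀ ^ k with hw_def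
      have hwo : orderOf w = 2 ^ (padicValNat 2 n + 1) := by
        have hk0 : k ≠ 0 := fun e => by rw [e, mul_zero, hkercard] at hk; omega
        rw [hw_def, orderOf_pow' _ hk0, hg₀, hk, Nat.gcd_mul_left_left, Nat.mul_div_cancel _ (by omega)]
      set a : F := ((w : Fˣ) : F) with ha_def
      have hwn : a ^ n = -1 := by
        have h2' : ((w ^ 2 ^ padicValNat 2 n : (normHom τ).ker) : Fˣ) = -1 := by
          have h1 : orderOf ((w ^ 2 ^ padicValNat 2 n : (normHom τ).ker) : Fˣ) = 2 := by
            rw [orderOf_submonoid, orderOf_pow' _ (pow_ne_zero _ two_ne_zero), hwo,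
              Nat.gcd_eq_right (pow_dvd_pow 2 (Nat.le_succ _)), pow_succ, Nat.mul_div_cancel_left _ (by positivity)]
          refine (Units.ext ?_)
          have h3 := pow_orderOf_eq_one ((w ^ 2 ^ padicValNat 2 n : (normHom τ).ker) : Fˣ)
          rw [h1] at h3
          have h4 := congrArg Units.val h3
          rw [Units.val_pow_eq_pow_val, Units.val_one, sq_eq_one_iff] at h4
          refine h4.resolve_left fun e => ?_
          rw [Units.val_eq_one] at e
          rw [e, orderOf_one] at h1
          omega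
        rw [ht, pow_mul, ha_def, ← Units.val_pow_eq_pow_val, ← SubgroupClass.coe_pow, h2', Units.val_neg, Units.val_one,
          (Nat.not_even_iff_odd.1 fun e => ht2 (even_iff_two_dvd.1 e)).neg_one_pow]
      have h20 : (2 : F) ≠ 0 := Ring.two_ne_zero (by rw [ringChar.eq F p]; exact Ne.symm hrp)
      have hna : (-(w : Fˣ) : Fˣ) ∈ (normHom τ).ker := (hnormK _).2 (by
        rw [Units.val_neg, map_neg, neg_mul_neg]; exact (hnormK _).1 w.2)
      let d : Fin n → Fˣ := fun i => if i = i₀ then -(w : Fˣ) else w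
      obtain ⟨u, hu1, hu2, hu3⟩ := hdiag d (fun i => by dsimp only [d]; split_ifs; exacts [hna, w.2]) (by
          rw [show ∏ i, d i = (-1) * (w : Fˣ) ^ n by
            rw [← Finset.mul_prod_erase _ _ (Finset.mem_univ i₀), Finset.prod_congr rfl (fun i hi => by
              show (if i = i₀ then -(w : Fˣ) else (w : Fˣ)) = (w : Fˣ); rw [if_neg (Finset.ne_of_mem_erase hi)])]
            rw [Finset.prod_const, Finset.card_erase_of_mem (Finset.mem_univ _), Finset.card_univ, Fintype.card_fin]
            show (if i₀ = i₀ then -(w : Fˣ) else (w : Fˣ)) * _ = _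
            rw [if_pos rfl, neg_mul, ← pow_succ', Nat.sub_add_cancel (by omega), neg_one_mul]]
          exact Units.ext (by rw [Units.val_mul, Units.val_pow_eq_pow_val, ← ha_def, hwn, Units.val_neg,
            Units.val_one, neg_mul_neg, one_mul])) (a ^ 2) a (fun i => by
          dsimp only [d]; split_ifs
          · rw [Units.val_neg, neg_sq]
          · rfl)
      have hK : finrank F (Module.End.eigenspace (u.1 : (Fin n → F) →ₗ[F] (Fin n → F)) a) = 2 * m - 1 := by
        have e : Module.End.eigenspace (u.1 : (Fin n → F) →ₗ[F] (Fin n → F)) a =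
            LinearMap.ker (LinearMap.proj i₀ : (Fin n → F) →ₗ[F] F) := by
          ext v
          rw [hu3, LinearMap.mem_ker, LinearMap.proj_apply]
          refine ⟨fun hv => hv i₀ ?_, fun hv i hi => ?_⟩
          · dsimp only [d]
            rw [if_pos rfl, Units.val_neg, ← ha_def]
            exact fun e => (w : Fˣ).ne_zero ((mul_eq_zero.1 (show (2 : F) * a = 0 by linear_combination -e)).resolve_left h20)
          · dsimp only [d] at hi
            split_ifs at hi with h0
            · rw [h0]; exact hv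
            · exact absurd rfl hi
        rw [e]
        have h1 := LinearMap.finrank_range_add_finrank_ker (LinearMap.proj i₀ : (Fin n → F) →ₗ[F] F)
        rw [LinearMap.range_eq_top.2 (LinearMap.proj_surjective i₀), finrank_top, Module.finrank_self] at h1
        omega
      exact hnofix u a hu1 ⟨_, hu2⟩ ((hnormK _).1 w.2) (by rw [hK]; exact ⟨m - 1, by omega⟩)
        (Or.inr (by rw [hK]; omega))
    exfalso
    have hrodd : Odd r := hr.odd_of_ne_two hr2
    by_cases hrq1 : r ∣ q + 1
    · obtain ⟨w, hw⟩ := exists_prime_orderOf_dvd_card' (G := (normHom τ).ker) r (by rw [hkercard]; exact hrq1)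
      have hwr : (w : Fˣ) ^ r = 1 := by
        rw [← SubgroupClass.coe_pow, ← hw, pow_orderOf_eq_one, OneMemClass.coe_one]
      have hw1 : (w : Fˣ) ≠ 1 := fun e => by
        rw [OneMemClass.coe_eq_one] at e
        rw [e, orderOf_one] at hw
        exact hr.ne_one hw.symm
      have hw2 : (w : Fˣ)⁻¹ ≠ w := fun e => by
        have h2 : (w : Fˣ) ^ 2 = 1 := by rw [pow_two]; exact mul_eq_one_iff_eq_inv.2 e.symm
        have := pow_gcd_eq_one.2 ⟨h2, hwr⟩
        rw [(Nat.coprime_two_left.2 hrodd).gcd_eq_one, pow_one] at this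
        exact hw1 this
      let d : Fin n → Fˣ := fun i => if i = i₀ then (w : Fˣ) else if i = i₁ then (w : Fˣ)⁻¹ else 1
      obtain ⟨u, hu1, hu2, hu3⟩ := hdiag d (fun i => by
          dsimp only [d]; split_ifs
          exacts [w.2, inv_mem w.2, one_mem _]) (by
          rw [← Finset.mul_prod_erase _ _ (Finset.mem_univ i₀),
            ← Finset.mul_prod_erase _ _ (Finset.mem_erase.2 ⟨hne01.symm, Finset.mem_univ i₁⟩),
            Finset.prod_eq_one fun i hi => ?_]
          · simp [d, hne01.symm]
          · obtain ⟨h1, hi⟩ := Finset.mem_erase.1 hi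
            simp [d, (Finset.mem_erase.1 hi).1, h1]) 1 ((w : Fˣ) : F) (fun i => by
          rw [← Units.val_pow_eq_pow_val]
          dsimp only [d]; split_ifs <;> simp [hwr])
      have hK : finrank F (Module.End.eigenspace (u.1 : (Fin n → F) →ₗ[F] (Fin n → F)) ((w : Fˣ) : F)) = 1 := by
        have e : Module.End.eigenspace (u.1 : (Fin n → F) →ₗ[F] (Fin n → F)) ((w : Fˣ) : F) =
            Submodule.span F {Pi.single i₀ (1 : F)} := by
          ext v
          rw [hu3, Submodule.mem_span_singleton]
          refine ⟨fun hv => ⟨v i₀, funext fun i => ?_⟩, ?_⟩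
          · rcases eq_or_ne i i₀ with rfl | hi
            · simp
            · rw [Pi.smul_apply, Pi.single_eq_of_ne hi, smul_zero]
              refine (hv i fun e => ?_).symm
              dsimp only [d] at e
              rw [if_neg hi] at e
              split_ifs at e
              · exact hw2 (Units.ext e)
              · exact hw1 (Units.ext e).symm
          · rintro ⟨c, rfl⟩ i hi
            rcases eq_or_ne i i₀ with rfl | hne
            · simp [d] at hi
            · simp [hne]
        rw [e, finrank_span_singleton (by simp)]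
      exact hnofix u _ hu1 ⟨_, hu2⟩ ((hnormK _).1 w.2) (by rw [hK]; exact odd_one) (Or.inl hrodd)
    by_cases hex : ∃ i, Odd i ∧ i ≤ n ∧ r ∣ q ^ i + 1
    · -- an irreducible block
      set L := Nat.find hex with hLdef
      obtain ⟨hLodd, hLn, hLr⟩ : Odd L ∧ L ≤ n ∧ r ∣ q ^ L + 1 := Nat.find_spec hex
      let e : Fin L → (Fin n → F) := fun i => Pi.single (Fin.castLE hLn i) (1 : F)
      set W := Submodule.span F (Set.range e) with hW
      have heW : ∀ i, e i ∈ W := fun i => Submodule.subset_span ⟨i, rfl⟩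
      have hli : LinearIndependent F e := by
        rw [show e = (Pi.basisFun F (Fin n)) ∘ Fin.castLE hLn from by funext i; simp [e]]
        exact (Pi.basisFun F (Fin n)).linearIndependent.comp _ (Fin.castLE_injective hLn)
      have hdW : finrank F W = L := by rw [hW, finrank_span_eq_card hli, Fintype.card_fin]
      have hzeroW : ∀ v ∈ W, ∀ j : Fin n, ¬ (j : ℕ) < L → v j = 0 := fun v hv j hj => by
        induction hv using Submodule.span_induction with
        | mem v hv =>
          obtain ⟨i, rfl⟩ := hv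
          exact Pi.single_eq_of_ne (fun e' => hj (by rw [e']; exact i.2)) _
        | zero => rfl
        | add a b _ _ e1 e2 => rw [Pi.add_apply, e1, e2, add_zero]
        | smul c a _ e1 => rw [Pi.smul_apply, e1, smul_zero]
      have hnd : NondegOn B W := nondegOn_iff.2 fun x hx hxo => funext fun j => by
        by_cases hj : (j : ℕ) < L
        · have := hxo (e ⟨j, hj⟩) (heW _)
          rwa [hBdef, stdHerm_single] at this
        · exact hzeroW x hx j hj
      have h' := h.restrict W
      have hN' := restrictForm_separatingRight hnd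
      haveI : Finite W := Module.finite_of_finite F
      haveI : Finite (isomGroup (restrictForm B W)) := Finite.of_injective (fun g : isomGroup (restrictForm B W) => (g.1 : W → W))
        fun a b hab => Subtype.ext (DFunLike.coe_injective hab)
      obtain ⟨y, hy⟩ := exists_prime_orderOf_dvd_card' (G := isomGroup (restrictForm B W)) r (by
        rw [card_isom_herm_closed hq hτ h' hN', hdW]
        refine Dvd.dvd.mul_left ?_ _
        obtain ⟨k, hk⟩ := hLodd
        refine hLr.trans ?_
        rw [show L = 2 * k + 1 from hk]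
        convert Finset.dvd_prod_of_mem (fun i => if Even i then q ^ (i + 1) + 1 else q ^ (i + 1) - 1)
          (Finset.mem_range.2 (show 2 * k < 2 * k + 1 by omega)) using 1
        simp)
      have hyr : y ^ r = 1 := hy ▸ pow_orderOf_eq_one y
      have hr0 : (r : F) ≠ 0 := fun e => by
        rw [CharP.cast_eq_zero_iff F p] at e
        exact hrp ((Nat.prime_dvd_prime_iff_eq hpp hr).1 e).symm
      have hnofixvec : ∀ v : W, y.1 v = v → v = 0 := by
        intro v hv
        by_contra hv0
        obtain ⟨x, hx, hyx⟩ := exists_fixed_unit hN' h' hr0 hyr hv0 hv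
        have hdvd := orderOf_dvd_of_fixed_unit hN' h' hx hyx
        have hx0 : x ≠ 0 := fun e => by simp [e] at hx
        have hnd' : NondegOn (restrictForm B W) (Submodule.span F {x}) := h'.nondegOn_span_singleton (by rw [hx]; exact one_ne_zero)
        have hdim' := hnd'.finrank_perp
        rw [finrank_span_singleton hx0, hdW] at hdim'
        rw [hy, card_isom_herm_closed hq hτ (h'.restrict _) (restrictForm_separatingRight (nondegOn_perp hN' hnd'))] at hdvd
        rcases hr.dvd_mul.1 hdvd with hd | hd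
        · exact hrq (hr.dvd_of_dvd_pow hd)
        obtain ⟨i, hi, hd⟩ := (hr.prime.dvd_finsetProd_iff _).1 hd
        rw [Finset.mem_range] at hi
        split_ifs at hd with hev
        · exact Nat.find_min hex (show i + 1 < L by omega) ⟨hev.add_one, by omega, hd⟩
        · haveI := Fact.mk hr
          have h1 : (-(q : ZMod r)) ^ (i + 1) = 1 := by
            rw [(Nat.not_even_iff_odd.1 hev).add_one.neg_pow]
            have := (ZMod.natCast_eq_zero_iff _ _).2 hd
            rw [Nat.cast_sub (Nat.one_le_pow _ _ (by omega)), sub_eq_zero] at this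
            push_cast at this
            exact this
          have h2 : (-(q : ZMod r)) ^ L = 1 := by
            rw [hLodd.neg_pow]
            have := (ZMod.natCast_eq_zero_iff _ _).2 hLr
            push_cast at this
            linear_combination -this
          have h3 := pow_gcd_eq_one.2 ⟨h1, h2⟩
          set g₀ := Nat.gcd (i + 1) L with hg₀
          have hgodd : Odd g₀ := Odd.of_dvd_nat hLodd (Nat.gcd_dvd_right _ _)
          have hgle : g₀ ≤ i + 1 := Nat.le_of_dvd (by omega) (Nat.gcd_dvd_left _ _)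
          rw [hgodd.neg_pow] at h3
          refine Nat.find_min hex (show g₀ < L by omega) ⟨hgodd, by omega, ?_⟩
          rw [← ZMod.natCast_eq_zero_iff]
          push_cast
          linear_combination -h3
      -- extend by the identity
      have hsum := hnd.isCompl
      let J := isomSum hsum (fun _ hw _ hu => mem_perp.1 hu _ hw) fun _ hw _ hu => orth_symm h.isRefl hw hu
      set g := J (y, 1) with hg
      have hgr : g ^ r = 1 := by
        rw [hg, ← map_pow]
        show J (y ^ r, (1 : _) ^ r) = 1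
        rw [hyr, one_pow]
        exact map_one J
      have hK : Module.End.eigenspace (g.1 : (Fin n → F) →ₗ[F] (Fin n → F)) 1 = perp B W := by
        ext x
        obtain ⟨w, u, rfl⟩ := exists_add_eq hsum x
        rw [Module.End.mem_eigenspace_iff, one_smul]
        show sumEquiv hsum y.1 (1 : isomGroup (restrictForm B (perp B W))).1 ((w : Fin n → F) + u) = _ ↔ _
        rw [sumEquiv_apply]
        show ((y.1 w : W) : Fin n → F) + u = (w : Fin n → F) + u ↔ _
        rw [add_left_inj, SetLike.coe_eq_coe]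
        constructor
        · intro e
          rw [hnofixvec w e, Submodule.coe_zero, zero_add]
          exact u.2
        · intro e
          have hw0 : (w : Fin n → F) ∈ perp B W := by simpa using (perp B W).sub_mem e u.2
          rw [show w = 0 from Subtype.ext (Submodule.disjoint_def.1 hnd _ w.2 hw0), map_zero]
      have hdimK : finrank F (perp B W) = n - L := by
        have := hnd.finrank_perp
        rw [hdW, Module.finrank_fin_fun] at this
        omega
      refine hnofix g 1 ?_ ⟨1, fun v => by rw [hgr, one_smul]; rfl⟩ (by rw [map_one, mul_one]) ?_ (Or.inl hrodd)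
      · have h1 := h.idet_norm hN g
        rw [hτ, ← pow_succ'] at h1
        have h2 : idet B g ^ r = 1 := by rw [← map_pow, hgr, map_one]
        have := pow_gcd_eq_one.2 ⟨h2, h1⟩
        rwa [(hr.coprime_iff_not_dvd.2 hrq1).gcd_eq_one, pow_one] at this
      · rw [hK, hdimK]
        exact Nat.Even.sub_odd hLn he hLodd
    -- otherwise `r` does not divide the index
    push Not at hex
    haveI : Finite (isomGroup B) := Finite.of_equiv _ Φ.toEquiv
    set S₀ := isomStab B (D 0) ⊓ isomStab B (D 1) with hS₀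
    let Ψ : S₀ →* (normHom τ).ker := ((guDet hτ).comp Φ.symm.toMonoidHom).comp S₀.subtype
    have hkerdvd : Nat.card S₀ ∣ Nat.card Ψ.ker * (q + 1) := by
      rw [← Subgroup.card_mul_index Ψ.ker, Subgroup.index_ker, ← hkercard]
      exact mul_dvd_mul_left _ (Subgroup.card_subgroup_dvd_card _)
    let f : Ψ.ker →* H.subgroupOf T :=
      { toFun := fun s => ⟨⟨(Φ.symm s.1.1).1, hmemT _ (by
            have h1 : guDet hτ (Φ.symm s.1.1) = 1 := MonoidHom.mem_ker.1 s.2
            have h2 := (hsl (Φ.symm s.1.1)).1 (MonoidHom.mem_ker.2 ((guDet_eq_one_iff hτ _).1 h1))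
            rwa [MulEquiv.apply_symm_apply] at h2)⟩, Subgroup.mem_subgroupOf.2 ⟨1, fun i => by
              show (D i).map (Matrix.toLin' ((Φ.symm s.1.1).1 : Matrix (Fin n) (Fin n) F)) = D i
              rw [hΦ, MulEquiv.apply_symm_apply]
              fin_cases i
              · exact mem_isomStab.1 s.1.2.1
              · exact mem_isomStab.1 s.1.2.2⟩⟩
        map_one' := Subtype.ext (Subtype.ext (by simp))
        map_mul' := fun a b => Subtype.ext (Subtype.ext (by simp)) }
    have hfinj : Function.Injective f := fun a b hab => Subtype.ext (Subtype.ext (Φ.symm.injective (Subtype.ext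
      (congrArg (fun z : H.subgroupOf T => ((z : T) : GL (Fin n) F)) hab))))
    have hdvd1 : Nat.card S₀ ∣ Nat.card (H.subgroupOf T) * (q + 1) :=
      hkerdvd.trans (mul_dvd_mul_right (Subgroup.card_dvd_of_injective f hfinj) _)
    have hcardT : Nat.card T * (q + 1) = Nat.card (Cfsg.GU n F q) := by
      rw [mul_comm, ← card_SU_mul hq (show 1 ≤ n by omega)]
      congr 1
      exact Nat.card_congr (Equiv.ofBijective (fun s : Cfsg.SU n F q => (⟨Matrix.SpecialLinearGroup.toGL s.1, s.2,
        MonoidHom.mem_ker.2 (Units.ext s.1.2)⟩ : T)) ⟨fun a b hab => Subtype.ext (Subtype.ext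
          (congrArg (fun z : T => ((z : GL (Fin n) F) : Matrix (Fin n) (Fin n) F)) hab)),
        fun g => ⟨⟨⟨(g : GL (Fin n) F), congrArg Units.val (MonoidHom.mem_ker.1 g.2.2)⟩, g.2.1⟩,
          Subtype.ext (Units.ext rfl)⟩⟩).symm
    have hmain : r * Nat.card S₀ ∣ Nat.card (Cfsg.GU n F q) := by
      rw [← hcardT, ← Subgroup.index_mul_card (H.subgroupOf T), mul_assoc]
      exact mul_dvd_mul hΩ hdvd1
    set P := ∏ j ∈ Finset.range m, (q ^ (2 * j + 2) - 1) with hPdef
    have hS₀card : Nat.card S₀ = (∏ i : Fin m, (q ^ 2) ^ (i : ℕ)) * P := by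
      rw [hS₀, hP.card_fix h hN, hdim, hq, hPdef, ← Fin.prod_univ_eq_prod_range (fun j => q ^ (2 * j + 2) - 1) m,
        ← Equiv.prod_comp Fin.revPerm (fun j : Fin m => q ^ (2 * (j : ℕ) + 2) - 1), ← Finset.prod_mul_distrib]
      refine Finset.prod_congr rfl fun i _ => ?_
      rw [Nat.mul_sub_left_distrib, mul_one, Fin.revPerm_apply, Fin.val_rev, ← pow_mul, ← pow_mul, ← pow_add]
      congr 2
      have := i.2
      omega
    have hGU : Nat.card (Cfsg.GU n F q) =
        (q ^ (n * (n - 1) / 2) * ∏ j ∈ Finset.range m, (q ^ (2 * j + 1) + 1)) * P := by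
      rw [card_GU hq, mul_assoc, hPdef, hn2]
      congr 1
      generalize m = m'
      induction m' with
      | zero => simp
      | succ k ih =>
        rw [show 2 * (k + 1) = 2 * k + 1 + 1 by ring, Finset.prod_range_succ, Finset.prod_range_succ, ih,
          Finset.prod_range_succ, Finset.prod_range_succ, if_pos (even_two_mul k),
          if_neg (Nat.not_even_iff_odd.2 (odd_two_mul_add_one k))]
        ring
    have hPpos : 0 < P := Finset.prod_pos fun j _ => Nat.sub_pos_of_lt (Nat.one_lt_pow (by omega) hq2)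
    rw [hS₀card, hGU, ← mul_assoc] at hmain
    have hA := (dvd_mul_right r _).trans (Nat.dvd_of_mul_dvd_mul_right hPpos hmain)
    rcases hr.dvd_mul.1 hA with hd | hd
    · exact hrq (hr.dvd_of_dvd_pow hd)
    · obtain ⟨j, hj, hd⟩ := (hr.prime.dvd_finsetProd_iff _).1 hd
      rw [Finset.mem_range] at hj
      exact hex (2 * j + 1) (odd_two_mul_add_one j) (by omega) hd
  · rintro ⟨rfl, hodd, hval⟩ x hx hxr hxns
    obtain ⟨z, hz⟩ := hxr
    let u : isomGroup B := Φ ⟨x, hx.1⟩
    have hu2 : ∀ v, u.1 (u.1 v) = z • v := fun v => by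
      have h1 := (hscal ⟨x, hx.1⟩ 2 z).1 hz v
      rwa [pow_two] at h1
    have hudet : idet B u = 1 := (hsl ⟨x, hx.1⟩).1 hx.2
    have hp2 : p ≠ 2 := fun e => by
      obtain ⟨f, hf⟩ := FiniteField.card F p
      have h2 : 2 ∣ q ^ 2 := by rw [← hq, hf.2, e]; exact dvd_pow_self 2 f.ne_zero
      exact (Nat.not_even_iff_odd.2 hodd) (even_iff_two_dvd.2 (Nat.prime_two.dvd_of_dvd_pow h2))
    have h20 : (2 : F) ≠ 0 := Ring.two_ne_zero (by rw [ringChar.eq F p]; exact hp2)
    haveI : Nonempty (Fin n) := ⟨⟨0, by omega⟩⟩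
    obtain ⟨e₀, he₀⟩ := h.exists_unit hN
    have hzn : z * τ z = 1 := by
      have h1 : B (u.1 (u.1 e₀)) (u.1 (u.1 e₀)) = B e₀ e₀ := by rw [isomGroup_apply, isomGroup_apply]
      rwa [hu2, h.smul_self, he₀, mul_one] at h1
    have hz0 : z ≠ 0 := fun e => by simp [e] at hzn
    obtain ⟨a, ha⟩ : IsSquare z := by
      rw [FiniteField.isSquare_iff (by rw [ringChar.eq F p]; exact hp2) hz0, hq]
      obtain ⟨k, hk⟩ := hodd
      rw [show q ^ 2 / 2 = (q + 1) * k by
        rw [hk]
        rw [show (2 * k + 1) ^ 2 = 1 + 2 * ((2 * k + 1 + 1) * k) by ring, Nat.add_mul_div_left _ _ two_pos]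
        simp, pow_mul, pow_succ', ← hτ, hzn, one_pow]
    have ha0 : a ≠ 0 := fun e => hz0 (by rw [ha, e, mul_zero])
    set Ep := Module.End.eigenspace (u.1 : (Fin n → F) →ₗ[F] (Fin n → F)) a with hEp
    set Em := Module.End.eigenspace (u.1 : (Fin n → F) →ₗ[F] (Fin n → F)) (-a) with hEm
    have hmp : ∀ v, v ∈ Ep ↔ u.1 v = a • v := fun v => by rw [hEp, Module.End.mem_eigenspace_iff]; rfl
    have hmm : ∀ v, v ∈ Em ↔ u.1 v = -a • v := fun v => by rw [hEm, Module.End.mem_eigenspace_iff]; rfl
    have hsup : Ep ⊔ Em = ⊤ := eq_top_iff.2 fun v _ => by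
      have : v = (2 : F)⁻¹ • (v + a⁻¹ • u.1 v) + (2 : F)⁻¹ • (v - a⁻¹ • u.1 v) := by
        rw [← smul_add, show v + a⁻¹ • u.1 v + (v - a⁻¹ • u.1 v) = (2 : F) • v by rw [two_smul]; abel, inv_smul_smul₀ h20]
      rw [this]
      refine Submodule.add_mem_sup (Ep.smul_mem _ ((hmp _).2 ?_)) (Em.smul_mem _ ((hmm _).2 ?_))
      · rw [map_add, map_smul, hu2, smul_smul, smul_add, smul_smul, ha]
        rw [show a⁻¹ * (a * a) = a by field_simp, mul_inv_cancel₀ ha0, one_smul, add_comm]
      · rw [map_sub, map_smul, hu2, smul_smul, smul_sub, smul_smul, ha]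
        rw [show a⁻¹ * (a * a) = a by field_simp, neg_mul, mul_inv_cancel₀ ha0, neg_smul, neg_smul, one_smul]
        abel
    have hinf : Ep ⊓ Em = ⊥ := (Submodule.eq_bot_iff _).2 fun v hv => by
      have h1 := ((hmp v).1 hv.1).symm.trans ((hmm v).1 hv.2)
      have h2 : (2 * a) • v = 0 := by
        rw [neg_smul] at h1
        rw [mul_smul, two_smul, ← eq_neg_iff_add_eq_zero]
        exact h1
      exact (smul_eq_zero.1 h2).resolve_left (mul_ne_zero h20 ha0)
    have hB : ∀ (s t : F) v w, u.1 v = s • v → u.1 w = t • w → τ s * t ≠ 1 → B v w = 0 := fun s t v w hv hw hne => by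
      have h1 : B (u.1 v) (u.1 w) = B v w := isomGroup_apply u v w
      rw [hv, hw, map_smul, map_smulₛₗ, LinearMap.smul_apply, smul_eq_mul, smul_eq_mul] at h1
      by_contra h0
      exact hne (mul_right_cancel₀ h0 (by linear_combination h1))
    have h12 : (-1 : F) ≠ 1 := fun e => h20 (by linear_combination -e)
    have hmapE : ∀ b : F, (Module.End.eigenspace (u.1 : (Fin n → F) →ₗ[F] (Fin n → F)) b).map
        (u.1 : (Fin n → F) →ₗ[F] (Fin n → F)) = Module.End.eigenspace (u.1 : (Fin n → F) →ₗ[F] (Fin n → F)) b :=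
      fun b => by
        refine Submodule.eq_of_le_of_finrank_eq ?_ (u.1.finrank_map_eq _)
        rintro _ ⟨v, hv, rfl⟩
        have hv' : u.1 v = b • v := Module.End.mem_eigenspace_iff.1 hv
        rw [LinearEquiv.coe_coe, hv']
        exact Submodule.smul_mem _ _ hv
    obtain ⟨U, W, hUW, hUfix, hWfix⟩ : ∃ U W : Submodule F (Fin n → F), Pair B U W ∧
        U.map (u.1 : (Fin n → F) →ₗ[F] (Fin n → F)) = U ∧ W.map (u.1 : (Fin n → F) →ₗ[F] (Fin n → F)) = W := by
      have ha2 : (a * τ a) * (a * τ a) = 1 := by rw [← hzn, ha, map_mul]; ring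
      rcases mul_self_eq_one_iff.1 ha2 with hN1 | hN1
      swap
      · refine ⟨Ep, Em, ⟨fun v hv w hw => hB a a v w ((hmp v).1 hv) ((hmp w).1 hw) ?_,
          fun v hv w hw => hB (-a) (-a) v w ((hmm v).1 hv) ((hmm w).1 hw) ?_, hsup, hinf⟩, hmapE a, hmapE (-a)⟩
        · rw [mul_comm, hN1]; exact h12
        · rw [map_neg, neg_mul_neg, mul_comm, hN1]; exact h12
      · have hpm : ∀ v ∈ Ep, ∀ w ∈ Em, B v w = 0 := fun v hv w hw =>
          hB a (-a) v w ((hmp v).1 hv) ((hmm w).1 hw) (by rw [mul_neg, mul_comm, hN1]; exact h12)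
        have hndE : ∀ E E' : Submodule F (Fin n → F), E ⊔ E' = ⊤ → (∀ v ∈ E, ∀ w ∈ E', B v w = 0) → NondegOn B E :=
          fun E E' hs ho => nondegOn_iff.2 fun v hv hvo => hN v fun w => by
            obtain ⟨w1, hw1, w2, hw2, rfl⟩ := Submodule.mem_sup.1 (hs.symm ▸ Submodule.mem_top (x := w))
            rw [map_add, LinearMap.add_apply, hvo w1 hw1, h.isRefl _ _ (ho v hv w2 hw2), add_zero]
        set k := finrank F Ep with hk
        set l := finrank F Em with hl
        obtain ⟨bp, hbp⟩ := (h.restrict Ep).exists_orthonormal (restrictForm_separatingRight (hndE Ep Em hsup hpm))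
        obtain ⟨bm, hbm⟩ := (h.restrict Em).exists_orthonormal (restrictForm_separatingRight
          (hndE Em Ep (by rw [sup_comm]; exact hsup) fun v hv w hw => h.isRefl _ _ (hpm w hw v hv)))
        have hkl : k + l = 2 * m := by
          have h1 := Submodule.finrank_sup_add_finrank_inf_eq Ep Em
          rw [hsup, hinf, finrank_top, finrank_bot, hfn] at h1
          omega
        let ef : Fin k ⊕ Fin l → (Fin n → F) := Sum.elim (fun i => (bp i : Fin n → F)) (fun i => (bm i : Fin n → F))
        have hefB : ∀ s t, B (ef s) (ef t) = if s = t then 1 else 0 := by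
          rintro (i | i) (j | j)
          · simpa [ef] using hbp i j
          · rw [if_neg (by simp)]; exact hpm _ (bp i).2 _ (bm j).2
          · rw [if_neg (by simp)]; exact h.isRefl _ _ (hpm _ (bp j).2 _ (bm i).2)
          · simpa [ef] using hbm i j
        have hefli : LinearIndependent F ef := Fintype.linearIndependent_iff.2 fun g hg s => by
          have := congrArg (B (ef s)) hg
          rcases s with i | i <;> simpa [map_sum, hefB, Fintype.sum_sum_type] using this
        let cf : Fin k ⊕ Fin l → F := Sum.elim (fun _ => a) (fun _ => -a)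
        have hefu : ∀ s, u.1 (ef s) = cf s • ef s := by
          rintro (i | i)
          · exact (hmp _).1 (bp i).2
          · exact (hmm _).1 (bm i).2
        have hcard : Fintype.card (Fin k ⊕ Fin l) = finrank F (Fin n → F) := by
          rw [Fintype.card_sum, Fintype.card_fin, Fintype.card_fin, hkl, hfn]
        haveI : Nonempty (Fin k ⊕ Fin l) := Fintype.card_pos_iff.1 (by rw [hcard, hfn]; omega)
        let bb := basisOfLinearIndependentOfCardEqFinrank hefli hcard
        have hdet : a ^ k * (-a) ^ l = 1 := by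
          have hm' : LinearMap.toMatrix bb bb (u.1 : (Fin n → F) →ₗ[F] (Fin n → F)) = Matrix.diagonal cf := by
            ext s t
            rw [LinearMap.toMatrix_apply, Matrix.diagonal_apply]
            show bb.repr (u.1 (bb t)) s = _
            rw [show bb t = ef t by simp [bb], hefu, map_smul, show ef t = bb t by simp [bb], Basis.repr_self]
            rcases eq_or_ne s t with rfl | hst
            · simp
            · simp [Finsupp.single_eq_of_ne hst, hst]
          have := LinearMap.det_toMatrix bb (u.1 : (Fin n → F) →ₗ[F] (Fin n → F))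
          rw [hm', Matrix.det_diagonal, Fintype.prod_sum_type] at this
          simp only [cf, Sum.elim_inl, Sum.elim_inr, Finset.prod_const, Finset.card_univ, Fintype.card_fin] at this
          exact this.trans hudet
        have hlev : Even l := by
          have h1 : a ^ n * (-1) ^ l = 1 := by
            rw [neg_pow] at hdet
            rw [hn2, ← hkl, pow_add]
            linear_combination hdet
          by_contra hodd'
          rw [(Nat.not_even_iff_odd.1 hodd').neg_one_pow] at h1
          have han : a ^ n = -1 := by linear_combination -h1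
          obtain ⟨e, o, ho, hqo⟩ := Nat.exists_eq_pow_mul_and_not_dvd (show q + 1 ≠ 0 by omega) 2 (by norm_num)
          have he' : padicValNat 2 (q + 1) = e := by
            rw [hqo, padicValNat.mul (pow_ne_zero _ two_ne_zero) (fun e => ho (by rw [e]; exact dvd_zero 2)),
              padicValNat.prime_pow, padicValNat.eq_zero_of_not_dvd ho, add_zero]
          obtain ⟨c, hc2⟩ : q + 1 ∣ n * o := by
            rw [hqo]
            exact mul_dvd_mul_right ((pow_dvd_pow 2 (he' ▸ hval)).trans pow_padicValNat_dvd) o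
          have h3 : (a ^ n) ^ o = 1 := by rw [← pow_mul, hc2, pow_mul, pow_succ', ← hτ, hN1, one_pow]
          rw [han, (Nat.not_even_iff_odd.1 fun ev => ho (even_iff_two_dvd.1 ev)).neg_one_pow] at h3
          exact h12 h3
        have hkev : Even k := by
          have hev : Even (k + l) := hkl ▸ even_two_mul m
          exact (Nat.even_add.1 hev).2 hlev
        obtain ⟨j, hj⟩ := hkev
        obtain ⟨j', hj'⟩ := hlev
        obtain ⟨β, hβ⟩ := h.conj.exists_norm_eq (a := (-1 : F)) (by rw [map_neg, map_one])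
        let se : Fin j ⊕ Fin j' → Fin k ⊕ Fin l :=
          Sum.map (fun i => ⟨i.val, by omega⟩) (fun i => ⟨i.val, by omega⟩)
        let sf : Fin j ⊕ Fin j' → Fin k ⊕ Fin l :=
          Sum.map (fun i => ⟨j + i.val, by omega⟩) (fun i => ⟨j' + i.val, by omega⟩)
        have hse : ∀ s t, se s = se t ↔ s = t := by
          rintro (i | i) (i' | i') <;> simp [se, Fin.ext_iff]
        have hsf : ∀ s t, sf s = sf t ↔ s = t := by
          rintro (i | i) (i' | i') <;> simp [sf, Fin.ext_iff]
        have hsef : ∀ s t, se s ≠ sf t := by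
          rintro (i | i) (i' | i') <;> simp [se, sf, Fin.ext_iff] <;> omega
        have hc' : ∀ s, cf (sf s) = cf (se s) := by rintro (i | i) <;> rfl
        exact exists_pair_of_frame hN h (e := ef ∘ se) (f := ef ∘ sf)
          (fun s t => by simp only [Function.comp_apply, hefB, hse])
          (fun s t => by simp only [Function.comp_apply, hefB, hsf])
          (fun s t => by simp only [Function.comp_apply, hefB, if_neg (hsef s t)])
          (by rw [Fintype.card_sum, Fintype.card_fin, Fintype.card_fin, hfn]; omega) h20 hβ u (cf ∘ se)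
          (fun s => hefu _) (fun s => by simp only [Function.comp_apply, hefu, hc'])
    obtain ⟨k, hkdet, hkU, hkW⟩ := hUW.exists_transport hP h hN (by
      have := (hUW.finrank_eq hN).2; omega)
    refine ⟨(Φ.symm k⁻¹).1, hmemT _ (by
      have h1 : idet B k⁻¹ * idet B k = 1 := by rw [← map_mul, inv_mul_cancel, map_one]
      rwa [hkdet, mul_one] at h1), 1, fun i => ?_⟩
    rw [show (Φ.symm k⁻¹).1⁻¹ * x * (Φ.symm k⁻¹).1 =
      ((Φ.symm k⁻¹)⁻¹ * ⟨x, hx.1⟩ * Φ.symm k⁻¹ : Cfsg.GU n F q).1 from rfl, hΦ, map_mul, map_mul, map_inv,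
      MulEquiv.apply_symm_apply, inv_inv]
    have key : ∀ (E E' : Submodule F (Fin n → F)), E.map (k.1 : (Fin n → F) →ₗ[F] (Fin n → F)) = E' →
        E.map (u.1 : (Fin n → F) →ₗ[F] (Fin n → F)) = E →
        E'.map ((k * u * k⁻¹).1 : (Fin n → F) →ₗ[F] (Fin n → F)) = E' := by
      intro E E' h1 h2
      refine Submodule.eq_of_le_of_finrank_eq ?_ ((k * u * k⁻¹).1.finrank_map_eq E')
      rintro _ ⟨v', hv', rfl⟩
      rw [← h1] at hv'
      obtain ⟨v, hv, rfl⟩ := hv'
      show k.1 (u.1 (k.1.symm (k.1 v))) ∈ E'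
      rw [LinearEquiv.symm_apply_apply, ← h1]
      exact Submodule.mem_map_of_mem (h2.le (Submodule.mem_map_of_mem hv))
    fin_cases i
    · exact key U (D 0) hkU hUfix
    · exact key W (D 1) hkW hWfix

end Cfsg.Agent.S5984
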