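import Cfsg.Statements.S5985
import Cfsg.Agent.Lib.Derangements.EvenPoints
-- import your own Cfsg.Agent.* helpers here

set_option autoImplicit false
open scoped MatrixGroups
open Cfsg

namespace Cfsg.Agent.S5985

open Module QuadraticMap Matrix CfsgLib.Orth CfsgLib.Classical CfsgLib.Derangements

/-- Elements of prime order of Ω⁺_n(q), q even, with no fixed nonsingular 1-space. Here `T = PΩ⁺_n(F)`, `n = 2d ≥ 8`, realised through `Ω⁺_n(q)`, the commutator subgroup of the isometry group of `Q = Σ xᵢyᵢ` over the field `F` with `q` elements; an element of `T` of prime order `r` is an element `x` of `Ω⁺_n(q)` with `x^r` scalar and `x` not scalar; `q` is even (so the centre is trivial). Let Ω be the set of 1-dimensional subspaces spanned by a vector `v` with `Q(v) ≠ 0`, and let `r` be a prime dividing their number. Then every element of `T` of order `r` fixes some nonsingular 1-space if and only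 if `r = 2` and `n ≡ 2 (mod 4)` (that is, `d` is odd). -/
theorem result {F : Type*} [Field F] [Fintype F] {p : ℕ} [Fact p.Prime] [CharP F p] {q : ℕ} (hq : Fintype.card F = q)
    (hp : p = 2) (d : ℕ) (hd : 4 ≤ d) (r : ℕ) [Fact r.Prime]
    (hrΩ : r ∣ Nat.card {W : Submodule F (Fin d ⊕ Fin d → F) // Module.finrank F ↥W = 1 ∧ ∃ v ∈ W, Cfsg.quadFormPlus d F v ≠ 0}) :
    (∀ x : GL (Fin d ⊕ Fin d) F, x ∈ Cfsg.Geo.omegaGL (Cfsg.quadFormPlus d F) →
      (∃ z : F, ((x ^ r : GL (Fin d ⊕ Fin d) F) : Matrix (Fin d ⊕ Fin d) (Fin d ⊕ Fin d) F) = z • (1 : Matrix (Fin d ⊕ Fin d) (Fin d ⊕ Fin d) F)) →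
      (∀ z : F, (x : Matrix (Fin d ⊕ Fin d) (Fin d ⊕ Fin d) F) ≠ z • (1 : Matrix (Fin d ⊕ Fin d) (Fin d ⊕ Fin d) F)) →
      ∃ W : Submodule F (Fin d ⊕ Fin d → F), (Module.finrank F ↥W = 1 ∧ ∃ v ∈ W, Cfsg.quadFormPlus d F v ≠ 0) ∧ W.map (Matrix.toLin' (x : Matrix (Fin d ⊕ Fin d) (Fin d ⊕ Fin d) F)) ≤ W) ↔ (r = 2 ∧ Odd d) := by
  classical
  subst hp
  have hr := (Fact.out : r.Prime)
  have hQf := plusForm_apply (F := F) d
  have hd1 : 1 ≤ d := by omega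
  have hV : finrank F (Fin d ⊕ Fin d → F) = 2 * d := by simp; omega
  have hnd : (polarBilin (plusForm F d)).Nondegenerate := plusForm_nondeg d
  have hP : EvenForms.Plus (plusForm F d) d := EvenForms.plus_plusForm d
  have hfixiff := fun (x : GL (Fin d ⊕ Fin d) F) (hx : x ∈ Cfsg.Geo.omegaGL (Cfsg.quadFormPlus d F)) =>
    EvenPoints.exists_fixed_point_iff (plusForm F d) hQf (EvenPoints.isometry_of_mem (plusForm F d) hQf hx)
  have hder : ∀ x : GL (Fin d ⊕ Fin d) F, x ^ r = 1 → x ∈ Cfsg.Geo.omegaGL (Cfsg.quadFormPlus d F) →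
      (∃ v, (x : Matrix (Fin d ⊕ Fin d) (Fin d ⊕ Fin d) F) *ᵥ v ≠ v) →
      (∀ v, (x : Matrix (Fin d ⊕ Fin d) (Fin d ⊕ Fin d) F) *ᵥ v = v → (plusForm F d) v = 0) →
      ¬ (∀ x : GL (Fin d ⊕ Fin d) F, x ∈ Cfsg.Geo.omegaGL (Cfsg.quadFormPlus d F) →
      (∃ z : F, ((x ^ r : GL (Fin d ⊕ Fin d) F) : Matrix (Fin d ⊕ Fin d) (Fin d ⊕ Fin d) F) = z • (1 : Matrix (Fin d ⊕ Fin d) (Fin d ⊕ Fin d) F)) →
      (∀ z : F, (x : Matrix (Fin d ⊕ Fin d) (Fin d ⊕ Fin d) F) ≠ z • (1 : Matrix (Fin d ⊕ Fin d) (Fin d ⊕ Fin d) F)) →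
      ∃ W : Submodule F (Fin d ⊕ Fin d → F), (Module.finrank F ↥W = 1 ∧ ∃ v ∈ W, Cfsg.quadFormPlus d F v ≠ 0) ∧ W.map (Matrix.toLin' (x : Matrix (Fin d ⊕ Fin d) (Fin d ⊕ Fin d) F)) ≤ W) := by
    intro x hxr hx ⟨v₀, hv₀⟩ hfix hall
    obtain ⟨e₀, he₀⟩ : ∃ e₀, (plusForm F d) e₀ ≠ 0 := by
      refine ⟨Pi.single (Sum.inl ⟨0, by omega⟩) 1 + Pi.single (Sum.inr ⟨0, by omega⟩) 1, ?_⟩
      rw [← hQf]
      simp [Cfsg.quadFormPlus, Pi.single_apply]
    obtain ⟨W, hW⟩ := hall x hx ⟨1, by rw [hxr, one_smul, Units.val_one]⟩ fun z hz => hv₀ (by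
      have h1 := EvenPoints.scalar_eq_one (plusForm F d) hQf hx (r := 1) (by rw [pow_one]; exact hz) he₀
      rw [hz, h1, one_smul, Matrix.one_mulVec])
    obtain ⟨v, hv, hv0⟩ := (hfixiff x hx).1 ⟨W, hW⟩
    exact hv0 (hfix v hv)
  have hcard := EvenPoints.card_points (plusForm F d) hQf
  rw [hcard] at hrΩ
  have hodd : r ≠ 2 → r ∣ Fintype.card F ^ d - 1 := fun hr2 => by
    have h1 := EvenForms.card_zero_add_fibers (plusForm F d)
    have hZ := (EvenForms.zeroCount_eq hnd rfl hd1 hV).1 hP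
    set N := Nat.card {v // (plusForm F d) v = 1}
    rw [Module.natCard_eq_pow_finrank (K := F) (V := Fin d ⊕ Fin d → F), hV, Nat.card_eq_fintype_card (α := F)] at h1
    obtain ⟨k, rfl⟩ : ∃ k, d = k + 1 := ⟨d - 1, by omega⟩
    have hq1 : 1 < Fintype.card F := Fintype.one_lt_card
    have hN : ((Fintype.card F : ℤ) - 1) * N = ((Fintype.card F : ℤ) - 1) *
        ((Fintype.card F : ℤ) ^ k * ((Fintype.card F : ℤ) ^ (k + 1) - 1)) := by
      have h1' := congrArg (Nat.cast : ℕ → ℤ) h1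
      push_cast [Nat.cast_sub hq1.le] at h1'
      simp only [Nat.add_sub_cancel] at hZ
      linear_combination h1' - hZ
    have hN' := mul_left_cancel₀ (by omega) hN
    have h2 : (r : ℤ) ∣ (N : ℤ) := Int.natCast_dvd_natCast.2 hrΩ
    rw [hN'] at h2
    rcases (Nat.prime_iff_prime_int.1 hr).dvd_mul.1 h2 with h3 | h3
    · exfalso
      have h4 : (r : ℤ) ∣ (Fintype.card F : ℤ) := (Nat.prime_iff_prime_int.1 hr).dvd_of_dvd_pow h3
      obtain ⟨e, -, he⟩ := FiniteField.card F 2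
      rw [Int.natCast_dvd_natCast, he] at h4
      exact hr2 ((Nat.prime_dvd_prime_iff_eq hr Nat.prime_two).1 (hr.dvd_of_dvd_pow h4))
    · refine Int.natCast_dvd_natCast.1 ?_
      push_cast [Nat.cast_sub (Nat.one_le_pow (k + 1) _ Fintype.card_pos)]
      exact h3
  have hinv : ∀ x : GL (Fin d ⊕ Fin d) F, x ∈ Cfsg.Geo.omegaGL (Cfsg.quadFormPlus d F) → r = 2 →
      (∃ z : F, ((x ^ r : GL (Fin d ⊕ Fin d) F) : Matrix (Fin d ⊕ Fin d) (Fin d ⊕ Fin d) F) = z • (1 : Matrix (Fin d ⊕ Fin d) (Fin d ⊕ Fin d) F)) →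
      (∀ v, (x : Matrix (Fin d ⊕ Fin d) (Fin d ⊕ Fin d) F) *ᵥ v = v → (plusForm F d) v = 0) → EvenForms.Plus (plusForm F d) d ∧ Even d := by
    intro x hx hr2 ⟨z, hz⟩ hfix
    refine EvenForms.singular_fixed (L := (Matrix.toLinAlgEquiv' (x : Matrix (Fin d ⊕ Fin d) (Fin d ⊕ Fin d) F) : Module.End F _)) hnd hV
      (fun v => ?_) (EvenPoints.isometry_of_mem (plusForm F d) hQf hx) hfix
    show (x : Matrix (Fin d ⊕ Fin d) (Fin d ⊕ Fin d) F) *ᵥ ((x : Matrix (Fin d ⊕ Fin d) (Fin d ⊕ Fin d) F) *ᵥ v) = v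
    have hz1 : z = 1 := by
      by_contra hne
      obtain ⟨e₀, he₀⟩ : ∃ e₀, (plusForm F d) e₀ ≠ 0 := by
        refine ⟨Pi.single (Sum.inl ⟨0, by omega⟩) 1 + Pi.single (Sum.inr ⟨0, by omega⟩) 1, ?_⟩
        rw [← hQf]
        simp [Cfsg.quadFormPlus, Pi.single_apply]
      exact hne (EvenPoints.scalar_eq_one (plusForm F d) hQf hx hz he₀)
    rw [hz1, one_smul, hr2, Units.val_pow_eq_pow_val, pow_two] at hz
    rw [Matrix.mulVec_mulVec, hz, Matrix.one_mulVec]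
  have htrans : ∀ (hr2 : r ≠ 2) (Y : Matrix (Fin d ⊕ Fin d) (Fin d ⊕ Fin d) F) (Q' : QuadraticForm F (Fin d ⊕ Fin d → F)),
      Y ^ r = 1 → (∀ v, Y *ᵥ v = v → v = 0) → (polarBilin Q').Nondegenerate → (∀ v, Q' (Y *ᵥ v) = Q' v) →
      (EvenForms.Plus Q' d ↔ EvenForms.Plus (plusForm F d) d) →
      ∃ x : GL (Fin d ⊕ Fin d) F, x ^ r = 1 ∧ x ∈ Cfsg.Geo.omegaGL (Cfsg.quadFormPlus d F) ∧
        ∀ v, (x : Matrix (Fin d ⊕ Fin d) (Fin d ⊕ Fin d) F) *ᵥ v = v → v = 0 := by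
    intro hr2 Y Q' hY hYf hQ' hQ'Y hiff
    obtain ⟨e, he⟩ := EvenForms.exists_equiv hQ' hnd (EvenSymp.finrank_eq d) hV hiff
    obtain ⟨x, hxr, hxQ, hxf⟩ := EvenPoints.exists_transport (plusForm F d) e he (r := r)
      (L := (Matrix.toLinAlgEquiv' Y : Module.End F _)) (by rw [← map_pow, hY, map_one]) hQ'Y hYf
    exact ⟨x, hxr, EvenPoints.mem_omega_of_odd (plusForm F d) hQf hnd (by rw [hV]; omega) (hr.odd_of_ne_two hr2) hxr hxQ, hxf⟩
  have hne : ∀ x : GL (Fin d ⊕ Fin d) F, (∀ v, (x : Matrix (Fin d ⊕ Fin d) (Fin d ⊕ Fin d) F) *ᵥ v = v → v = 0) →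
      ∃ v, (x : Matrix (Fin d ⊕ Fin d) (Fin d ⊕ Fin d) F) *ᵥ v ≠ v := fun x hxf =>
    ⟨Pi.single (Sum.inl ⟨0, by omega⟩) 1, fun h => by
      have h' := congrFun (hxf _ h) (Sum.inl ⟨0, by omega⟩)
      simp at h'⟩
  constructor
  · intro hall
    by_cases hr2 : r = 2
    · refine ⟨hr2, ?_⟩
      by_contra hcon
      rw [Nat.not_odd_iff_even] at hcon
      obtain ⟨x, hx, hx2, hxf, hxne⟩ := EvenPoints.exists_involution (F := F) (d := d) (by omega) hcon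
      exact hder x (by rw [hr2]; exact hx2) hx hxne hxf hall
    · exfalso
      have hd' := hodd hr2
      obtain ⟨Y, Q', hY, hYf, hQ', hQ'Y, hplus⟩ : ∃ (Y : Matrix (Fin d ⊕ Fin d) (Fin d ⊕ Fin d) F)
          (Q' : QuadraticForm F (Fin d ⊕ Fin d → F)), Y ^ r = 1 ∧ (∀ v, Y *ᵥ v = v → v = 0) ∧
          (polarBilin Q').Nondegenerate ∧ (∀ v, Q' (Y *ᵥ v) = Q' v) ∧ EvenForms.Plus Q' d := by
        by_cases hq1 : r ∣ Fintype.card F - 1
        · obtain ⟨Y, hY, hYf, hYQ, -, -⟩ := EvenSymp.exists_diag (F := F) hr2 d hq1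
          exact ⟨Y, plusForm F d, hY, hYf, hnd, hYQ, hP⟩
        · have hc : orderOf (Fintype.card F : ZMod r) ∣ 2 * d := by
            refine orderOf_dvd_of_pow_eq_one ?_
            have h' := (ZMod.natCast_eq_zero_iff _ r).2 hd'
            rw [Nat.cast_sub (Nat.one_le_pow _ _ Fintype.card_pos), sub_eq_zero, Nat.cast_pow, Nat.cast_one] at h'
            rw [mul_comm, pow_mul, h', one_pow]
          obtain ⟨Y, Q', hY, -, hYf, hQ'p, hQ'Y⟩ := EvenSymp.exists_fpf_form (F := F) (r := r) hr2 (d := d) (by omega) hc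
          exact ⟨Y, Q', hY, hYf, EvenSymp.nondeg_of_polar hQ'p, hQ'Y,
            (((EvenSymp.type_of_fpf hr2 (L := (Matrix.toLinAlgEquiv' Y : Module.End F _))
              (by rw [← map_pow, hY, map_one]) hYf (EvenSymp.nondeg_of_polar hQ'p) hQ'Y hd1
              (EvenSymp.finrank_eq d)).2 hd').resolve_right hq1)⟩
      obtain ⟨x, hxr, hx, hxf⟩ := htrans hr2 Y Q' hY hYf hQ' hQ'Y (iff_of_true hplus hP)
      exact hder x hxr hx (hne x hxf) (fun v hv => by rw [hxf v hv, QuadraticMap.map_zero]) hall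
  · rintro ⟨hr2, hdodd⟩ x hx hz -
    refine (hfixiff x hx).2 ?_
    by_contra hcon
    push Not at hcon
    exact (Nat.not_even_iff_odd.2 hdodd) (hinv x hx hr2 hz hcon).2

end Cfsg.Agent.S5985
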