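import Cfsg.Statements.S5988
import Cfsg.Agent.Lib.Derangements.OrthNondegFinal
import Cfsg.Agent.Lib.Derangements.OrthNondegEven
import Cfsg.Agent.Lib.Derangements.OrthNondegTwo


set_option autoImplicit false
open scoped MatrixGroups
open Cfsg CfsgLib.Derangements.OrthInv Module QuadraticMap CfsgLib.Derangements.LinElusive CfsgLib.Orth

namespace Cfsg.Agent.S5988

/-- Elements of prime order of PΩ⁺_n(q) with no fixed elliptic `m`-space. Here `T = PΩ⁺_n(F)`, `n = 2d ≥ 8`, realised through `Ω⁺_n(q)`, the commutator subgroup of the isometry group of `Q = Σ xᵢyᵢ` over the field `F` with `q` elements; an element of `T` of prime order `r` is an element `x` of `Ω⁺_n(q)` with `x^r` scalar and `x` not scalar; a nondegenerate `m`-space (even `m`) is a subspace on which the polar form of `Q` is nondegenerate; it is hyperbolic if it contains an `m/2`-dimensional subspace on which `Q` vanishes, elliptic otherwise. Let `m` be even with `2 ≤ m < n/2`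 and let `r` be a prime dividing the number of elliptic `m`-spaces; for `r ≠ p` let `i` be the multiplicative order of `q` modulo `r`, `c = i` for `i` even and `c = 2i` for `i` odd, and write `k = n mod c`, `ℓ = m mod i`, `ℓ' = m mod c`, `n' = ⌊n/i⌋`, `m' = ⌊m/i⌋`, `t = (r−1)/i`. Then every element of `T` of order `r` fixes some elliptic `m`-space if and only if one of: (i) `r = 2 ≠ p` and either `n ≡ 0 (mod 4)`, `q ≡ 3 (mod 4)` and `m ≡ 2 (mod 4)`, or `n ≡ 2 (mod 4)` and `q ≢ 1 (mod 8)`; (ii) `r ≠ p` odd, `i` odd, `c ≤ m` and `k > ℓ' > 0`; (iii) `r ≠ p` odd, `i` even, and either `k = 0` and (`n/i` odd, or `ℓ' = 0` and `m/i` odd), or `i ≤ m` and (`k > ℓ' > 0`, or `k = ℓ' > 0` and `(n + m − 2k)/i` odd, or `k > ℓ' = 0` and `m/i` odd). (For `r = p` there is always an element of order `p` fixing no elliptic `m`-space.) -/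
theorem result {F : Type*} [Field F] [Fintype F] {p : ℕ} [Fact p.Prime] [CharP F p] {q : ℕ} (hq : Fintype.card F = q)
    (d m : ℕ) (hd : 4 ≤ d) (hm : 2 ≤ m) (hme : Even m) (hmd : m < d)
    (r : ℕ) [Fact r.Prime]
    (hrΩ : r ∣ Nat.card {W : Submodule F (Fin d ⊕ Fin d → F) // Module.finrank F ↥W = m ∧ Cfsg.Geo.IsNondegenerateOn (QuadraticMap.polar (Cfsg.quadFormPlus d F)) W ∧ ¬ Cfsg.Geo.IsPlusTypeOn (Cfsg.quadFormPlus d F) W})
    (i c : ℕ) (hi : i = orderOf (q : ZMod r)) (hc : c = if Even i then i else 2 * i) :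
    (∀ x : GL (Fin d ⊕ Fin d) F, x ∈ Cfsg.Geo.omegaGL (Cfsg.quadFormPlus d F) →
      (∃ z : F, ((x ^ r : GL (Fin d ⊕ Fin d) F) : Matrix (Fin d ⊕ Fin d) (Fin d ⊕ Fin d) F) = z • (1 : Matrix (Fin d ⊕ Fin d) (Fin d ⊕ Fin d) F)) →
      (∀ z : F, (x : Matrix (Fin d ⊕ Fin d) (Fin d ⊕ Fin d) F) ≠ z • (1 : Matrix (Fin d ⊕ Fin d) (Fin d ⊕ Fin d) F)) →
      ∃ W : Submodule F (Fin d ⊕ Fin d → F), (Module.finrank F ↥W = m ∧ Cfsg.Geo.IsNondegenerateOn (QuadraticMap.polar (Cfsg.quadFormPlus d F)) W ∧ ¬ Cfsg.Geo.IsPlusTypeOn (Cfsg.quadFormPlus d F) W) ∧ W.map (Matrix.toLin' (x : Matrix (Fin d ⊕ Fin d) (Fin d ⊕ Fin d) F)) ≤ W) ↔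
    ((r = 2 ∧ p ≠ 2 ∧ ((Even d ∧ q % 4 = 3 ∧ m % 4 = 2) ∨ (Odd d ∧ q % 8 ≠ 1))) ∨
     (r ≠ p ∧ 2 < r ∧ Odd i ∧ c ≤ m ∧ 0 < m % c ∧ m % c < (2 * d) % c) ∨
     (r ≠ p ∧ 2 < r ∧ Even i ∧
       (((2 * d) % c = 0 ∧ (Odd ((2 * d) / i) ∨ (m % c = 0 ∧ Odd (m / i)))) ∨
        (i ≤ m ∧ ((0 < m % c ∧ m % c < (2 * d) % c) ∨
                  (0 < m % c ∧ m % c = (2 * d) % c ∧ Odd ((2 * d + m - 2 * ((2 * d) % c)) / i)) ∨
                  (m % c = 0 ∧ 0 < (2 * d) % c ∧ Odd (m / i))))))) := by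
  classical
  obtain rfl := hq
  obtain rfl := hi
  obtain ⟨μ, rfl⟩ : ∃ μ, m = 2 * μ := ⟨m / 2, by obtain ⟨k, hk⟩ := hme; omega⟩
  let P := CfsgLib.Orth.plusForm F d
  have hQf : ∀ v, Cfsg.quadFormPlus d F v = P v := fun v => CfsgLib.Orth.plusForm_apply d v
  obtain ⟨hP, hd', hV⟩ := plusForm_data (F := F) d
  simp only [isNondegenerateOn_iff P hQf, isPlusTypeOn_iff P hQf] at hrΩ ⊢
  by_cases hrp : r = p
  · refine iff_of_false (fun hall => ?_) (by simp only [hrp, ne_eq, not_true_eq_false, false_and, or_false]; omega)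
    obtain ⟨x, hx, hxp, hns, hW⟩ := exists_bad_plus (p := p) P hQf hP hd' hd hV
    obtain ⟨W, ⟨a', b', c'⟩, e'⟩ := hall x hx ⟨1, by rw [hrp, hxp, Units.val_one, one_smul]⟩ hns
    exact c' (hW W μ b' e' a').1
  by_cases hr2 : r = 2
  · subst hr2
    have hp2 : p ≠ 2 := fun h => hrp h.symm
    have hq2 := card_odd_of (F := F) hp2
    have key := two_typed_iff P hQf hP (two_ne_of_char hp2) hd' (μ := μ) (by omega) (by omega) False
    simp only [iff_false, false_iff] at key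
    refine key.trans ?_
    simp only [P, hV, hp2, ne_eq, not_false_eq_true, lt_irrefl, false_and, and_false, or_false, true_and, true_iff,
      sq_neg_one_iff hq2, sq_two_pow_iff hq2, Nat.even_iff, Nat.odd_iff]
    omega
  obtain ⟨hr', hrq⟩ := prime_facts (F := F) hrp
  have hr3 : 2 < r := by have := (Fact.out : r.Prime).two_le; omega
  have hro : Odd r := (Fact.out : r.Prime).odd_of_ne_two hr2
  obtain ⟨h, hh, hc', hcase⟩ := exists_half (F := F) (r := r) hr'
  have key := typed_even_iff P hQf hP (CfsgLib.Orth.good_of (Or.inr (by omega))) hr' hro hrq hd' (μ := μ) (by omega)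
    (by omega) hh hc' False (by simpa only [iff_false] using hrΩ)
  simp only [iff_false, false_iff] at key
  refine key.trans ?_
  have hc2 : c = 2 * h := hc.trans hc'
  subst hc2
  obtain ⟨e1, e2, e3, e4, e5, e6⟩ := half_arith h d μ hh
  have hdh := Nat.mod_lt d hh
  have e5' : μ = 0 ∨ μ % h ≠ 0 ∨ h ≤ μ := by
    rcases eq_or_ne (μ % h) 0 with h0 | h0
    · rcases Nat.eq_zero_or_pos μ with h1 | h1
      exacts [Or.inl h1, Or.inr (Or.inr (e5 h1 h0))]
    · exact Or.inr (Or.inl h0)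
  simp only [P, hV, iff_true]
  simp only [hr2, hr3, ne_eq, hrp, not_false_eq_true, false_and, true_and, false_or, BlockPlus]
  rcases hcase with ⟨he, hi⟩ | ⟨ho, hi⟩
  · simp only [he, Nat.not_odd_iff_even.2 he, false_and, false_or, true_and]
    rw [hi, e1, e3, e4, Nat.mul_mod_mul_left 2 μ h]
    by_cases hmd' : μ % h = d % h
    · rw [e6 hmd']
      simp only [Nat.odd_iff, Nat.even_iff]
      omega
    · simp only [Nat.odd_iff, Nat.even_iff]
      omega
  · simp only [ho, Nat.not_even_iff_odd.2 ho, false_and, or_false, and_true, true_and, true_or, implies_true, iff_true, true_iff, false_or, and_false, imp_false, not_false_eq_true, not_true_eq_false, ne_eq]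
    rw [e1, Nat.mul_mod_mul_left 2 μ h]
    omega

end Cfsg.Agent.S5988
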