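import Cfsg.Statements.S5990
import Cfsg.Agent.Lib.Derangements.OrthNondegFinal
import Cfsg.Agent.Lib.Derangements.OrthNondegEven
import Cfsg.Agent.Lib.Derangements.OrthNondegTwo


set_option autoImplicit false
open scoped MatrixGroups
open Cfsg CfsgLib.Derangements.OrthInv Module QuadraticMap CfsgLib.Derangements.LinElusive CfsgLib.Orth

namespace Cfsg.Agent.S5990

/-- Elements of prime order of PΩ⁻_n(q) with no fixed elliptic `m`-space. Here `T = PΩ⁻_n(F)`, `n = 2d ≥ 8`, realised through `Ω⁻_n(q)`, the commutator subgroup of the isometry group of `Q = Σ_{i<d−1} xᵢyᵢ + z₁² + a z₁z₂ + b z₂²` with `z₁² + a z₁z₂ + b z₂²` anisotropic, over the field `F` with `q` elements; an element of `T` of prime order `r` is an element `x` of `Ω⁻_n(q)` with `x^r` scalar and `x` not scalar; a nondegenerate `m`-space (even `m`) is a subspace on which the polar form of `Q` is nondegenerate; it is hyperbolic if it contains an `m/2`-dimensional subspace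 on which `Q` vanishes, elliptic otherwise. Let `m` be even with `2 ≤ m ≤ n − 2` (no restriction `m < n/2`: fixing an elliptic `m`-space is the same as fixing its hyperbolic orthogonal complement) and let `r` be a prime dividing the number of elliptic `m`-spaces, with `r = 2` or `r ≠ p`; for `r ≠ p` let `i` be the multiplicative order of `q` modulo `r`, `c = i` for `i` even and `c = 2i` for `i` odd, and write `k = n mod c`, `ℓ = m mod i`, `ℓ' = m mod c`, `n' = ⌊n/i⌋`, `m' = ⌊m/i⌋`, `t = (r−1)/i`. Then every element of `T` of order `r` fixes some elliptic `m`-space if and only if one of: (i) `r = p = 2` and (`n ≡ 0 (mod 4)` or `m ≡ 2 (mod 4)`); (ii) `r = 2 ≠ p` and (`n ≡ 0 (mod 4)`, or `q ≢ 7 (mod 8)`, or `m ≡ 2 (mod 4)`); (iii) `r ≠ p` odd, `i` odd, and `k = 0` or (`c ≤ m` and `k ≥ ℓ' > 0`); (iv) `r ≠ p` odd, `i` even, and either `k = 0` and (`n/i` even, or `ℓ' = 0` and `m/i` odd), or `k > 0`, `i ≤ m` and (`k > ℓ' > 0`, or `ℓ'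 = 0` and `m/i` odd, or `k = ℓ'` and `(n + m − 2k)/i` even). (Odd `r = p` is not covered by this statement.) -/
theorem result {F : Type*} [Field F] [Fintype F] {p : ℕ} [Fact p.Prime] [CharP F p] {q : ℕ} (hq : Fintype.card F = q)
    (d m : ℕ) (hd : 4 ≤ d) (hm : 2 ≤ m) (hme : Even m) (hmn : m + 2 ≤ 2 * d) (a b : F) (hab : ∀ x y : F, x ^ 2 + a * x * y + b * y ^ 2 = 0 → x = 0 ∧ y = 0)
    (r : ℕ) [Fact r.Prime] (hr : r = 2 ∨ r ≠ p)
    (hrΩ : r ∣ Nat.card {W : Submodule F ((Fin (d - 1) ⊕ Fin (d - 1)) ⊕ Fin 2 → F) // Module.finrank F ↥W = m ∧ Cfsg.Geo.IsNondegenerateOn (QuadraticMap.polar (Cfsg.quadFormMinus (d - 1) F a b)) W ∧ ¬ Cfsg.Geo.IsPlusTypeOn (Cfsg.quadFormMinus (d - 1) F a b) W})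
    (i c : ℕ) (hi : i = orderOf (q : ZMod r)) (hc : c = if Even i then i else 2 * i) :
    (∀ x : GL ((Fin (d - 1) ⊕ Fin (d - 1)) ⊕ Fin 2) F, x ∈ Cfsg.Geo.omegaGL (Cfsg.quadFormMinus (d - 1) F a b) →
      (∃ z : F, ((x ^ r : GL ((Fin (d - 1) ⊕ Fin (d - 1)) ⊕ Fin 2) F) : Matrix ((Fin (d - 1) ⊕ Fin (d - 1)) ⊕ Fin 2) ((Fin (d - 1) ⊕ Fin (d - 1)) ⊕ Fin 2) F) = z • (1 : Matrix ((Fin (d - 1) ⊕ Fin (d - 1)) ⊕ Fin 2) ((Fin (d - 1) ⊕ Fin (d - 1)) ⊕ Fin 2) F)) →
      (∀ z : F, (x : Matrix ((Fin (d - 1) ⊕ Fin (d - 1)) ⊕ Fin 2) ((Fin (d - 1) ⊕ Fin (d - 1)) ⊕ Fin 2) F) ≠ z • (1 : Matrix ((Fin (d - 1) ⊕ Fin (d - 1)) ⊕ Fin 2) ((Fin (d - 1) ⊕ Fin (d - 1)) ⊕ Fin 2) F)) →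
      ∃ W : Submodule F ((Fin (d - 1) ⊕ Fin (d - 1)) ⊕ Fin 2 → F), (Module.finrank F ↥W = m ∧ Cfsg.Geo.IsNondegenerateOn (QuadraticMap.polar (Cfsg.quadFormMinus (d - 1) F a b)) W ∧ ¬ Cfsg.Geo.IsPlusTypeOn (Cfsg.quadFormMinus (d - 1) F a b) W) ∧ W.map (Matrix.toLin' (x : Matrix ((Fin (d - 1) ⊕ Fin (d - 1)) ⊕ Fin 2) ((Fin (d - 1) ⊕ Fin (d - 1)) ⊕ Fin 2) F)) ≤ W) ↔
    ((r = 2 ∧ p = 2 ∧ (Even d ∨ m % 4 = 2)) ∨
     (r = 2 ∧ p ≠ 2 ∧ (Even d ∨ q % 8 ≠ 7 ∨ m % 4 = 2)) ∨
     (r ≠ p ∧ 2 < r ∧ Odd i ∧ ((2 * d) % c = 0 ∨ (c ≤ m ∧ 0 < m % c ∧ m % c ≤ (2 * d) % c))) ∨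
     (r ≠ p ∧ 2 < r ∧ Even i ∧
       (((2 * d) % c = 0 ∧ (Even ((2 * d) / i) ∨ (m % c = 0 ∧ Odd (m / i)))) ∨
        (0 < (2 * d) % c ∧ i ≤ m ∧ ((0 < m % c ∧ m % c < (2 * d) % c) ∨ (m % c = 0 ∧ Odd (m / i)) ∨
                                    (m % c = (2 * d) % c ∧ Even ((2 * d + m - 2 * ((2 * d) % c)) / i))))))) := by
  classical
  obtain rfl := hq
  obtain rfl := hi
  obtain ⟨μ, rfl⟩ : ∃ μ, m = 2 * μ := ⟨m / 2, by obtain ⟨k, hk⟩ := hme; omega⟩
  let P := CfsgLib.Orth.minusForm F (d - 1) a b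
  have hQf : ∀ v, Cfsg.quadFormMinus (d - 1) F a b v = P v := fun v => CfsgLib.Orth.minusForm_apply (d - 1) a b v
  obtain ⟨hP, hd', hV⟩ := minusForm_data (F := F) (d := d) (by omega) hab
  simp only [isNondegenerateOn_iff P hQf, isPlusTypeOn_iff P hQf] at hrΩ ⊢
  by_cases hr2 : r = 2
  · subst hr2
    simp only [ne_eq, lt_irrefl, false_and, and_false, or_false, true_and]
    by_cases hp2 : p = 2
    · have h20 : (2 : F) = 0 := by
        have := CharP.cast_eq_zero F p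
        rwa [hp2, Nat.cast_ofNat] at this
      by_cases hgood : Even d ∨ Odd μ
      · refine iff_of_true (fun x hx ⟨z, hz⟩ _ => ?_)
          (by simp only [Nat.odd_iff, Nat.even_iff] at hgood ⊢; omega)
        obtain ⟨W, a', b', c', e'⟩ := exists_inv_same_type h20 hP (isometry_omega P hQf hx)
          (involution_char_two P hQf hP h20 hd' (by omega) hx hz) hd' (μ := μ) (by omega) (by omega)
          ⟨fun h => absurd h hV, fun _ => hgood⟩
        exact ⟨W, ⟨a', b', fun h => hV (c'.1 h)⟩, e'⟩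
      · refine iff_of_false (fun hall => hgood ?_) (by simp only [Nat.odd_iff, Nat.even_iff] at hgood ⊢; omega)
        rcases Nat.even_or_odd d with hde | hdo
        · exact Or.inl hde
        obtain ⟨x, hx, hxp, hns, hW⟩ := exists_bad_minus (p := p) P hQf hP hd' hd hdo
        obtain ⟨W, ⟨a', b', c'⟩, e'⟩ := hall x hx ⟨1, by
          have h : x ^ 2 = 1 := (congrArg (fun n => x ^ n) hp2).symm.trans hxp
          rw [h, Units.val_one, one_smul]⟩ hns
        exact Or.inr ((hW W b' e').1 μ a' c')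
    · have hq2 := card_odd_of (F := F) hp2
      have key := two_typed_iff P hQf hP (two_ne_of_char hp2) hd' (μ := μ) (by omega) (by omega) False
      simp only [iff_false, false_iff] at key
      refine key.trans ?_
      simp only [P, hV, hp2, false_iff, not_false_eq_true, true_and, false_and, false_or, sq_neg_one_iff hq2,
        sq_two_pow_iff hq2, Nat.even_iff]
      omega
  have hrp : r ≠ p := hr.resolve_left hr2
  obtain ⟨hr', hrq⟩ := prime_facts (F := F) hrp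
  have hr3 : 2 < r := by have := (Fact.out : r.Prime).two_le; omega
  have hro : Odd r := (Fact.out : r.Prime).odd_of_ne_two hr2
  obtain ⟨h, hh, hc', hcase⟩ := exists_half (F := F) (r := r) hr'
  have key := typed_even_iff P hQf hP (CfsgLib.Orth.good_of (Or.inr (by omega))) hr' hro hrq hd' (μ := μ) (by omega)
    (by omega) hh hc' False (by simpa only [iff_false] using hrΩ)
  simp only [iff_false, false_iff] at key
  refine key.trans ?_
  have hc2 : c = 2 * h := hc.trans hc'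
  subst hc2
  obtain ⟨e1, e2, e3, e4, e5, e6⟩ := half_arith h d μ hh
  have hdh := Nat.mod_lt d hh
  have e5' : μ = 0 ∨ μ % h ≠ 0 ∨ h ≤ μ := by
    rcases eq_or_ne (μ % h) 0 with h0 | h0
    · rcases Nat.eq_zero_or_pos μ with h1 | h1
      exacts [Or.inl h1, Or.inr (Or.inr (e5 h1 h0))]
    · exact Or.inr (Or.inl h0)
  simp only [P, hV, iff_false, not_not]
  simp only [hr2, hr3, ne_eq, hrp, not_false_eq_true, false_and, true_and, false_or, BlockPlus]
  rcases hcase with ⟨he, hi⟩ | ⟨ho, hi⟩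
  · simp only [he, Nat.not_odd_iff_even.2 he, false_and, false_or, true_and]
    rw [hi, e1, e3, e4, Nat.mul_mod_mul_left 2 μ h]
    by_cases hmd' : μ % h = d % h
    · rw [e6 hmd']
      simp only [Nat.odd_iff, Nat.even_iff]
      omega
    · simp only [Nat.odd_iff, Nat.even_iff]
      omega
  · simp only [ho, Nat.not_even_iff_odd.2 ho, false_and, or_false, and_true, true_and, true_or, implies_true, iff_true, true_iff, false_or, and_false, imp_false, not_false_eq_true, not_true_eq_false, ne_eq]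
    rw [e1, Nat.mul_mod_mul_left 2 μ h]
    omega

end Cfsg.Agent.S5990
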