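import Cfsg.Statements.S5991
import Cfsg.Agent.Lib.Derangements.OrthNondegFinal
import Cfsg.Agent.Lib.Derangements.OrthNondegEven
import Cfsg.Agent.Lib.Derangements.OrthNondegTwo


set_option autoImplicit false
open scoped MatrixGroups
open Cfsg CfsgLib.Derangements.OrthInv Module QuadraticMap CfsgLib.Derangements.LinElusive CfsgLib.Orth

namespace Cfsg.Agent.S5991

/-- Elements of prime order of PΩ⁻_n(q), q odd, with no fixed nondegenerate `m`-space of odd dimension. Here `T = PΩ⁻_n(F)`, `n = 2d ≥ 8`, realised through `Ω⁻_n(q)`, the commutator subgroup of the isometry group of `Q = Σ_{i<d−1} xᵢyᵢ + z₁² + a z₁z₂ + b z₂²` with `z₁² + a z₁z₂ + b z₂²` anisotropic, over the field `F` with `q` elements; an element of `T` of prime order `r` is an element `x` of `Ω⁻_n(q)` with `x^r` scalar and `x` not scalar; `q` and `m` are odd, `1 ≤ m < n/2`. The nondegenerate `m`-spaces fall into two isometry classes, each an orbit of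 `T`, with equivalent actions; fix one such space `W₀` and let Ω be the set of nondegenerate `m`-spaces isometric to `W₀`. Let `r` be a prime dividing the size of Ω; for `r ≠ p` let `i` be the multiplicative order of `q` modulo `r`, `c = i` for `i` even and `c = 2i` for `i` odd, and write `k = n mod c`, `ℓ = m mod i`, `ℓ' = m mod c`, `n' = ⌊n/i⌋`, `m' = ⌊m/i⌋`, `t = (r−1)/i`. Then every element of `T` of order `r` fixes a member of Ω if and only if one of: (i) `r = 2` and (`n ≡ 0 (mod 4)` or `q ≢ 7 (mod 8)`); (ii) `r ≠ p` odd, `i` odd, and `k = 0` or (`c ≤ m` and `k > ℓ' > 0`); (iii) `r ≠ p` odd, `i` even, and either `k = 0` and `n/i` even, or `k > 0`, `i ≤ m` and `k > ℓ' > 0`. (For `r = p` there is always an element of order `p` fixing no member of Ω.) -/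
theorem result {F : Type*} [Field F] [Fintype F] {p : ℕ} [Fact p.Prime] [CharP F p] {q : ℕ} (hq : Fintype.card F = q)
    (hodd : Odd q) (d m : ℕ) (hd : 4 ≤ d) (hm : Odd m) (hmd : m < d) (a b : F) (hab : ∀ x y : F, x ^ 2 + a * x * y + b * y ^ 2 = 0 → x = 0 ∧ y = 0)
    (W₀ : Submodule F ((Fin (d - 1) ⊕ Fin (d - 1)) ⊕ Fin 2 → F)) (hW₀ : Module.finrank F ↥W₀ = m ∧ Cfsg.Geo.IsNondegenerateOn (QuadraticMap.polar (Cfsg.quadFormMinus (d - 1) F a b)) W₀)
    (r : ℕ) [Fact r.Prime]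
    (hrΩ : r ∣ Nat.card {W : Submodule F ((Fin (d - 1) ⊕ Fin (d - 1)) ⊕ Fin 2 → F) // Module.finrank F ↥W = m ∧ Cfsg.Geo.IsNondegenerateOn (QuadraticMap.polar (Cfsg.quadFormMinus (d - 1) F a b)) W ∧ Cfsg.Geo.AreIsometricFor (Cfsg.quadFormMinus (d - 1) F a b) W W₀})
    (i c : ℕ) (hi : i = orderOf (q : ZMod r)) (hc : c = if Even i then i else 2 * i) :
    (∀ x : GL ((Fin (d - 1) ⊕ Fin (d - 1)) ⊕ Fin 2) F, x ∈ Cfsg.Geo.omegaGL (Cfsg.quadFormMinus (d - 1) F a b) →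
      (∃ z : F, ((x ^ r : GL ((Fin (d - 1) ⊕ Fin (d - 1)) ⊕ Fin 2) F) : Matrix ((Fin (d - 1) ⊕ Fin (d - 1)) ⊕ Fin 2) ((Fin (d - 1) ⊕ Fin (d - 1)) ⊕ Fin 2) F) = z • (1 : Matrix ((Fin (d - 1) ⊕ Fin (d - 1)) ⊕ Fin 2) ((Fin (d - 1) ⊕ Fin (d - 1)) ⊕ Fin 2) F)) →
      (∀ z : F, (x : Matrix ((Fin (d - 1) ⊕ Fin (d - 1)) ⊕ Fin 2) ((Fin (d - 1) ⊕ Fin (d - 1)) ⊕ Fin 2) F) ≠ z • (1 : Matrix ((Fin (d - 1) ⊕ Fin (d - 1)) ⊕ Fin 2) ((Fin (d - 1) ⊕ Fin (d - 1)) ⊕ Fin 2) F)) →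
      ∃ W : Submodule F ((Fin (d - 1) ⊕ Fin (d - 1)) ⊕ Fin 2 → F), (Module.finrank F ↥W = m ∧ Cfsg.Geo.IsNondegenerateOn (QuadraticMap.polar (Cfsg.quadFormMinus (d - 1) F a b)) W ∧ Cfsg.Geo.AreIsometricFor (Cfsg.quadFormMinus (d - 1) F a b) W W₀) ∧ W.map (Matrix.toLin' (x : Matrix ((Fin (d - 1) ⊕ Fin (d - 1)) ⊕ Fin 2) ((Fin (d - 1) ⊕ Fin (d - 1)) ⊕ Fin 2) F)) ≤ W) ↔
    ((r = 2 ∧ (Even d ∨ q % 8 ≠ 7)) ∨
     (r ≠ p ∧ 2 < r ∧ Odd i ∧ ((2 * d) % c = 0 ∨ (c ≤ m ∧ 0 < m % c ∧ m % c < (2 * d) % c))) ∨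
     (r ≠ p ∧ 2 < r ∧ Even i ∧ (((2 * d) % c = 0 ∧ Even ((2 * d) / i)) ∨ (0 < (2 * d) % c ∧ i ≤ m ∧ 0 < m % c ∧ m % c < (2 * d) % c)))) := by
  classical
  obtain rfl := hq
  obtain rfl := hi
  obtain ⟨μ, rfl⟩ := hm
  have hp2 : p ≠ 2 := fun h => by
    have := card_even_of (F := F) h
    have := Nat.odd_iff.1 hodd
    omega
  have h2 := two_ne_of_char (F := F) hp2
  have hq2 := card_odd_of (F := F) hp2
  let P := CfsgLib.Orth.minusForm F (d - 1) a b
  have hQf : ∀ v, Cfsg.quadFormMinus (d - 1) F a b v = P v := fun v => CfsgLib.Orth.minusForm_apply (d - 1) a b v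
  obtain ⟨hP, hd', hV⟩ := minusForm_data (F := F) (d := d) (by omega) hab
  simp only [isNondegenerateOn_iff P hQf] at hrΩ hW₀ ⊢
  obtain ⟨hW₀d, hW₀n⟩ := hW₀
  by_cases hrp : r = p
  · refine iff_of_false (fun hall => ?_) (by simp only [hrp, hp2, ne_eq, not_true_eq_false, false_and, or_false, not_false_eq_true])
    have hpo : Odd p := (Fact.out : p.Prime).odd_of_ne_two hp2
    rcases Nat.even_or_odd d with hde | hdo
    · obtain ⟨k, rfl⟩ : ∃ k, d = k + 2 := ⟨d - 2, by omega⟩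
      have hk : Even k := by rwa [Nat.even_add, iff_true_right even_two] at hde
      obtain ⟨x, hx, hxp, hns, hW⟩ := exists_bad_class (p := p) P hQf hP hpo (k := k) (by omega) hk
        (real_minus h2 (by omega) hab (even_count_blocks odd_one ⟨1, rfl⟩ hk) (by simp; omega)
          ⟨1, by simp, odd_one⟩) hW₀n ⟨μ, hW₀d⟩
      obtain ⟨W, ⟨a', b', c'⟩, e'⟩ := hall x hx ⟨1, by rw [hrp, hxp, Units.val_one, one_smul]⟩ hns
      exact hW W b' (a'.trans hW₀d.symm) e' c'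
    · rcases Nat.even_or_odd μ with hμe | hμo
      · have hk : Even (d - 3) := by rw [Nat.even_iff]; rw [Nat.odd_iff] at hdo; omega
        obtain ⟨x, hx, hxp, hns, hW⟩ := exists_bad_three_three (p := p) P hQf hP hpo (k := d - 3)
          (real_minus h2 (by omega) hab (even_count_blocks ⟨1, rfl⟩ ⟨1, rfl⟩ hk) (by simp; omega)
          ⟨3, by simp, ⟨1, rfl⟩⟩)
        obtain ⟨W, ⟨a', b', -⟩, e'⟩ := hall x hx ⟨1, by rw [hrp, hxp, Units.val_one, one_smul]⟩ hns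
        have := hW W b' e'
        rw [Nat.even_iff] at hμe
        omega
      · obtain ⟨x, hx, hxp, hns, hW⟩ := exists_bad_minus (p := p) P hQf hP hd' hd hdo
        obtain ⟨W, ⟨a', b', -⟩, e'⟩ := hall x hx ⟨1, by rw [hrp, hxp, Units.val_one, one_smul]⟩ hns
        have := (hW W b' e').2 (a' ▸ ⟨μ, rfl⟩)
        rw [Nat.odd_iff] at hμo
        omega
  by_cases hr2 : r = 2
  · subst hr2
    refine (two_parabolic_iff P hQf hP h2 hd' (μ := μ) (by omega) (by omega) hW₀n hW₀d).trans ?_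
    simp only [P, hV, ne_eq, lt_irrefl, false_and, and_false, or_false, true_and, true_iff, false_iff,
      sq_neg_one_iff hq2, sq_two_pow_iff hq2, Nat.even_iff, Nat.odd_iff]
    omega
  obtain ⟨hr', hrq⟩ := prime_facts (F := F) hrp
  have hr3 : 2 < r := by have := (Fact.out : r.Prime).two_le; omega
  have hro : Odd r := (Fact.out : r.Prime).odd_of_ne_two hr2
  obtain ⟨h, hh, hc', hcase⟩ := exists_half (F := F) (r := r) hr'
  refine (parabolic_iff P hQf hP h2 hr' hro hrq hd' (μ := μ) (by omega) hh hc' hW₀n hW₀d hrΩ).trans ?_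
  have hc2 : c = 2 * h := hc.trans hc'
  subst hc2
  obtain ⟨e1, e2, e3, e4, e5, e6⟩ := half_arith h d μ hh
  have hdh := Nat.mod_lt d hh
  have e5' : μ = 0 ∨ μ % h ≠ 0 ∨ h ≤ μ := by
    rcases eq_or_ne (μ % h) 0 with h0 | h0
    · rcases Nat.eq_zero_or_pos μ with h1 | h1
      exacts [Or.inl h1, Or.inr (Or.inr (e5 h1 h0))]
    · exact Or.inr (Or.inl h0)
  simp only [P, hV, iff_false, not_not]
  simp only [hr2, hr3, ne_eq, hrp, not_false_eq_true, false_and, true_and, false_or, BlockPlus]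
  rcases hcase with ⟨he, hi⟩ | ⟨ho, hi⟩
  · simp only [he, Nat.not_odd_iff_even.2 he, false_and, false_or, true_and]
    rw [hi, e1, e2, e3]
    simp only [Nat.odd_iff, Nat.even_iff]
    omega
  · simp only [ho, Nat.not_even_iff_odd.2 ho, false_and, or_false, and_true, true_and, true_or, implies_true, iff_true, true_iff, false_or, and_false, imp_false, not_false_eq_true, not_true_eq_false, ne_eq]
    rw [e1, e2]
    omega

end Cfsg.Agent.S5991
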