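import Cfsg.Statements.S5992
import Cfsg.Agent.Lib.Derangements.OrthNondegElusive
-- import your own Cfsg.Agent.* helpers here

set_option autoImplicit false
open scoped MatrixGroups
open Cfsg

namespace Cfsg.Agent.S5992

/-- Elements of prime order r ≠ p of Ω_n(q), nq odd, with no fixed hyperbolic `m`-space. Here `T = Ω_n(F)`, `n = 2d+1 ≥ 7`, `q` odd, realised as the commutator subgroup of the isometry group of `Q = x₀² + Σ xᵢyᵢ` over the field `F` with `q` elements (trivial centre, so its elements of prime order `r` are used directly); a nondegenerate `m`-space (even `m`) is a subspace on which the polar form of `Q` is nondegenerate; it is hyperbolic if it contains an `m/2`-dimensional subspace on which `Q` vanishes, elliptic otherwise. Let `m` be even with `2 ≤ m ≤ n − 1` (no restriction `m < n/2`) and let `r ≠ p` be a prime dividing the number of hyperbolic `m`-spaces; for `r ≠ p` let `i` be the multiplicative order of `q` modulo `r`, `c = i` for `i` even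 and `c = 2i` for `i` odd, and write `k = n mod c`, `ℓ' = m mod c`. Then every element of `T` of order `r` fixes some hyperbolic `m`-space if and only if `r = 2`, or `r` is odd and one of: (i) `i` odd, `c ≤ m` and either `k > ℓ' > 0` or `ℓ' = 0`; (ii) `i` even, `i ≤ m`, `k > ℓ'`, and `m/i` even whenever `ℓ' = 0`. (`r = p` is not covered by this statement.) -/
theorem result {F : Type*} [Field F] [Fintype F] {p : ℕ} [Fact p.Prime] [CharP F p] {q : ℕ} (hq : Fintype.card F = q) (hqodd : Odd q)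
    (d m : ℕ) (hd : 3 ≤ d) (hm : 2 ≤ m) (hme : Even m) (hmn : m ≤ 2 * d)
    (r : ℕ) [Fact r.Prime] (hrp : r ≠ p)
    (hrΩ : r ∣ Nat.card {W : Submodule F (Unit ⊕ (Fin d ⊕ Fin d) → F) // Module.finrank F ↥W = m ∧ Cfsg.Geo.IsNondegenerateOn (QuadraticMap.polar (Cfsg.quadFormOdd d F)) W ∧ Cfsg.Geo.IsPlusTypeOn (Cfsg.quadFormOdd d F) W})
    (i c : ℕ) (hi : i = orderOf (q : ZMod r)) (hc : c = if Even i then i else 2 * i) :
    (∀ x : GL (Unit ⊕ (Fin d ⊕ Fin d)) F, x ∈ Cfsg.Geo.omegaGL (Cfsg.quadFormOdd d F) → orderOf x = r →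
      ∃ W : Submodule F (Unit ⊕ (Fin d ⊕ Fin d) → F), (Module.finrank F ↥W = m ∧ Cfsg.Geo.IsNondegenerateOn (QuadraticMap.polar (Cfsg.quadFormOdd d F)) W ∧ Cfsg.Geo.IsPlusTypeOn (Cfsg.quadFormOdd d F) W) ∧ W.map (Matrix.toLin' (x : Matrix (Unit ⊕ (Fin d ⊕ Fin d)) (Unit ⊕ (Fin d ⊕ Fin d)) F)) ≤ W) ↔
    (r = 2 ∨
     (2 < r ∧ Odd i ∧ c ≤ m ∧ (m % c = 0 ∨ (0 < m % c ∧ m % c < (2 * d + 1) % c))) ∨
     (2 < r ∧ Even i ∧ i ≤ m ∧ m % c < (2 * d + 1) % c ∧ (0 < m % c ∨ Even (m / i)))) := by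
  classical
  obtain rfl := hq
  obtain rfl := hi
  obtain ⟨μ, rfl⟩ : ∃ μ, m = 2 * μ := ⟨m / 2, by obtain ⟨k, hk⟩ := hme; omega⟩
  have hrp' : r.Prime := Fact.out
  have hpp : p.Prime := Fact.out
  have hp2 : p ≠ 2 := fun h => by
    obtain ⟨k, -, hk⟩ := FiniteField.card F p
    rw [hk, h, Nat.odd_pow_iff k.ne_zero] at hqodd
    exact absurd hqodd (by decide)
  have h2 : (2 : F) ≠ 0 := Ring.two_ne_zero (by rwa [ringChar.eq F p])
  let P := CfsgLib.Orth.oddForm F d
  have hQf : ∀ v, Cfsg.quadFormOdd d F v = P v := fun v => CfsgLib.Orth.oddForm_apply d v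
  have hP := CfsgLib.Orth.oddForm_nondeg (F := F) d h2
  have hd' : Module.finrank F (Unit ⊕ (Fin d ⊕ Fin d) → F) = 2 * d + 1 := by simp; omega
  simp only [CfsgLib.Derangements.OrthInv.isNondegenerateOn_iff P hQf,
    CfsgLib.Derangements.OrthInv.isPlusTypeOn_iff P hQf] at hrΩ ⊢
  rcases hrp'.eq_two_or_odd' with rfl | hr2
  · refine iff_of_true (fun x hx hord => ?_) (Or.inl rfl)
    obtain ⟨W, ⟨a, b, c'⟩, e⟩ := CfsgLib.Derangements.OrthInv.fixed_involution P hP h2
      (L := Matrix.toLin' (x : Matrix _ _ F)) (CfsgLib.Derangements.OrthInv.isometry_omega P hQf hx) (fun v => by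
        have h1 : x * x = 1 := by rw [← pow_two, ← hord, pow_orderOf_eq_one]
        rw [Matrix.toLin'_apply, Matrix.toLin'_apply, Matrix.mulVec_mulVec, ← Units.val_mul, h1, Units.val_one,
          Matrix.one_mulVec]) (e := μ) (by omega) (by omega) True
    exact ⟨W, ⟨a, b, c'.2 trivial⟩, e⟩
  have hr : (r : F) ≠ 0 := fun h =>
    hrp ((Nat.prime_dvd_prime_iff_eq hpp hrp').1 ((CharP.cast_eq_zero_iff F p r).1 h)).symm
  have hrq : ¬ r ∣ Fintype.card F := fun h => by
    obtain ⟨k, -, hk⟩ := FiniteField.card F p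
    rw [hk] at h
    exact hrp ((Nat.prime_dvd_prime_iff_eq hrp' hpp).1 (hrp'.dvd_of_dvd_pow h))
  have hr3 : 2 < r := by have := hrp'.two_le; have := Nat.odd_iff.1 hr2; omega
  obtain ⟨h, hh, hc', hcase⟩ := CfsgLib.Derangements.OrthInv.exists_half (F := F) (r := r) hr
  have key := CfsgLib.Derangements.OrthInv.typed_odd_iff P hQf hP hr hr2 hrq h2 hd' (μ := μ) (by omega) (by omega) hh hc'
    True (by simpa using hrΩ)
  simp only [iff_true, true_iff] at key
  refine key.trans ?_
  have hc2 : c = 2 * h := hc.trans hc'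
  subst hc2
  have hne : r ≠ 2 := by omega
  have hk : d % h < h := Nat.mod_lt d hh
  have hn : (2 * d + 1) % (2 * h) = 2 * (d % h) + 1 := by
    conv_lhs => rw [show 2 * d + 1 = 2 * (d % h) + 1 + 2 * h * (d / h) by
      have := Nat.mod_add_div d h; rw [mul_assoc]; omega]
    rw [Nat.add_mul_mod_self_left, Nat.mod_eq_of_lt (by omega)]
  rw [Nat.mul_mod_mul_left, hn]
  simp only [hne, false_or, hr3, true_and, CfsgLib.Derangements.OrthInv.BlockPlus]
  rcases hcase with ⟨he, hi⟩ | ⟨ho, hi⟩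
  · simp only [he, Nat.not_odd_iff_even.2 he, false_and, false_or, true_and]
    rw [hi, Nat.mul_div_mul_left _ _ two_pos, Nat.even_iff]
    omega
  · simp only [ho, Nat.not_even_iff_odd.2 ho, false_and, or_false, true_and, true_or, implies_true, and_true]
    omega

end Cfsg.Agent.S5992
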