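import Cfsg.Statements.S5994
import Cfsg.Agent.Lib.Derangements.OrthUnipotentTypes
-- import your own Cfsg.Agent.* helpers here

set_option autoImplicit false
open scoped MatrixGroups
open Cfsg Module CfsgLib.Derangements CfsgLib.Derangements.JordanRanks CfsgLib.Orth

namespace Cfsg.Agent.S5994

/-- A necessary condition for every element of order p of PΩ⁻_n(q), q odd, to fix an elliptic `m`-space. Here `T = PΩ⁻_n(F)`, `n = 2d ≥ 8`, realised through `Ω⁻_n(q)`, the commutator subgroup of the isometry group of `Q = Σ_{i<d−1} xᵢyᵢ + z₁² + a z₁z₂ + b z₂²` with `z₁² + a z₁z₂ + b z₂²` anisotropic, over the field `F` with `q` elements; an element of `T` of prime order `r` is an element `x` of `Ω⁻_n(q)` with `x^r` scalar and `x` not scalar; `q` is odd; a nondegenerate `m`-space (even `m`) is a subspace on which the polar form of `Q` is nondegenerate; it is hyperbolic if it contains an `m/2`-dimensional subspace on which `Q` vanishes, elliptic otherwise. Let `m` be even with `2 ≤ m ≤ n − 2` and suppose `p` divides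 the number of elliptic `m`-spaces. If every element of `T` of order `p` fixes some elliptic `m`-space, then `n ≡ m (mod 4)` and every partition of `n` into parts of size at most `p` in which every even part has even multiplicity contains (as a sub-multiset) a partition of `m` in which every even part has even multiplicity. -/
theorem result {F : Type*} [Field F] [Fintype F] {p : ℕ} [Fact p.Prime] [CharP F p] {q : ℕ} (hq : Fintype.card F = q) (hqodd : Odd q)
    (d m : ℕ) (hd : 4 ≤ d) (hm : 2 ≤ m) (hme : Even m) (hmn : m + 2 ≤ 2 * d) (a b : F) (hab : ∀ x y : F, x ^ 2 + a * x * y + b * y ^ 2 = 0 → x = 0 ∧ y = 0)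
    (hpΩ : p ∣ Nat.card {W : Submodule F ((Fin (d - 1) ⊕ Fin (d - 1)) ⊕ Fin 2 → F) // Module.finrank F ↥W = m ∧ Cfsg.Geo.IsNondegenerateOn (QuadraticMap.polar (Cfsg.quadFormMinus (d - 1) F a b)) W ∧ ¬ Cfsg.Geo.IsPlusTypeOn (Cfsg.quadFormMinus (d - 1) F a b) W}) :
    (∀ x : GL ((Fin (d - 1) ⊕ Fin (d - 1)) ⊕ Fin 2) F, x ∈ Cfsg.Geo.omegaGL (Cfsg.quadFormMinus (d - 1) F a b) →
      (∃ z : F, ((x ^ p : GL ((Fin (d - 1) ⊕ Fin (d - 1)) ⊕ Fin 2) F) : Matrix ((Fin (d - 1) ⊕ Fin (d - 1)) ⊕ Fin 2) ((Fin (d - 1) ⊕ Fin (d - 1)) ⊕ Fin 2) F) = z • (1 : Matrix ((Fin (d - 1) ⊕ Fin (d - 1)) ⊕ Fin 2) ((Fin (d - 1) ⊕ Fin (d - 1)) ⊕ Fin 2) F)) →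
      (∀ z : F, (x : Matrix ((Fin (d - 1) ⊕ Fin (d - 1)) ⊕ Fin 2) ((Fin (d - 1) ⊕ Fin (d - 1)) ⊕ Fin 2) F) ≠ z • (1 : Matrix ((Fin (d - 1) ⊕ Fin (d - 1)) ⊕ Fin 2) ((Fin (d - 1) ⊕ Fin (d - 1)) ⊕ Fin 2) F)) →
      ∃ W : Submodule F ((Fin (d - 1) ⊕ Fin (d - 1)) ⊕ Fin 2 → F), (Module.finrank F ↥W = m ∧ Cfsg.Geo.IsNondegenerateOn (QuadraticMap.polar (Cfsg.quadFormMinus (d - 1) F a b)) W ∧ ¬ Cfsg.Geo.IsPlusTypeOn (Cfsg.quadFormMinus (d - 1) F a b) W) ∧ W.map (Matrix.toLin' (x : Matrix ((Fin (d - 1) ⊕ Fin (d - 1)) ⊕ Fin 2) ((Fin (d - 1) ⊕ Fin (d - 1)) ⊕ Fin 2) F)) ≤ W) →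
    ((2 * d) % 4 = m % 4 ∧ (∀ μ : Multiset ℕ, (∀ e ∈ μ, 0 < e ∧ e ≤ p) → (∀ e : ℕ, Even e → Even (μ.count e)) → μ.sum = 2 * d →
        ∃ ν : Multiset ℕ, ν ≤ μ ∧ ν.sum = m ∧ ∀ e : ℕ, Even e → Even (ν.count e))) := by
  classical
  have hpr : p.Prime := Fact.out
  have hp : Odd p := by
    obtain ⟨k, -, hk⟩ := FiniteField.card F p
    rw [← hq, hk, Nat.odd_pow_iff k.ne_zero] at hqodd
    exact hqodd
  have h2 : (2 : F) ≠ 0 := Ring.two_ne_zero (by
    rw [ringChar.eq F p]
    intro h
    rw [h] at hp
    exact Nat.not_odd_iff_even.2 even_two hp)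
  have hp3 : 3 ≤ p := by
    have := hpr.two_le
    have : p ≠ 2 := fun h => Nat.not_odd_iff_even.2 (h ▸ even_two) hp
    omega
  intro hall
  have hq' : (b : F) - a ^ 2 / 4 ≠ 0 := fun h => by
    have h4 : (4 : F) ≠ 0 := by rw [show (4 : F) = 2 * 2 by norm_num]; exact mul_ne_zero h2 h2
    have h' := (hab (-a / 2) 1 (by
      field_simp at h ⊢
      linear_combination h)).2
    exact one_ne_zero h'
  have key : ∀ μ : Multiset ℕ, (∀ e ∈ μ, 0 < e ∧ e ≤ p) → (∀ e : ℕ, Even e → Even (μ.count e)) → μ.sum = 2 * d →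
      (∃ e ∈ μ, 2 ≤ e) → (∃ e ∈ μ, Odd e) →
      ∃ ν : Multiset ℕ, ν ≤ μ ∧ ν.sum = m ∧ (∀ e : ℕ, Even e → Even (ν.count e)) ∧ ∃ e ∈ ν, e ≠ 2 := by
    intro μ hμp hμe hμs hne hodd
    obtain ⟨x, hx, hxp, hns, hN, hr⟩ := OrthUnipotent.exists_element hp (minusForm F (d - 1) a b)
      (minusForm_apply (d - 1) a b) (minusForm_nondeg (d - 1) a b hab) (fun e he => (hμp e he).2) hne
      ((OrthUnipotent.real_plane h2 one_ne_zero hq' (by omega : 0 < d) hμe hμs hodd).of_iso
        (OrthUnipotent.iso_minusForm h2 (d - 1) a b))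
    obtain ⟨W, ⟨hWm, hWn, hWp⟩, hWx⟩ := hall x hx ⟨1, by rw [hxp, Units.val_one, one_smul]⟩ hns
    obtain ⟨ν, hle, hsum, heven, htwo⟩ := OrthUnipotent.exists_fixed_data h2 (minusForm F (d - 1) a b)
      (minusForm_apply (d - 1) a b) (OrthUnipotent.isometry_of_mem_omega hx) hN
      (fun h => by have := (hμp 0 h).1; omega) hr hWn hWx
    exact ⟨ν, hle, hsum.trans hWm, heven, by
      by_contra hno
      push Not at hno
      exact hWp (htwo hno)⟩
  obtain ⟨m', hm'⟩ := hme
  refine ⟨?_, fun μ hμp hμe hμs => ?_⟩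
  · by_contra hmod
    rcases Nat.even_or_odd d with ⟨d', hd'⟩ | ⟨d', hd'⟩
    · obtain ⟨ν, hle, hsum, heven, -⟩ := key (3 ::ₘ 1 ::ₘ Multiset.replicate (d - 2) 2) (fun e he => by
          simp only [Multiset.mem_cons, Multiset.mem_replicate] at he
          omega) (fun e he => by
          have h1 : e ≠ 1 := fun h => by subst h; exact Nat.not_even_one he
          have h3 : e ≠ 3 := fun h => by subst h; exact absurd he (by decide)
          rw [Multiset.count_cons_of_ne h3, Multiset.count_cons_of_ne h1, Multiset.count_replicate]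
          split_ifs
          exacts [⟨d' - 1, by omega⟩, Even.zero]) (by simp; omega) ⟨3, by simp, by omega⟩ ⟨3, by simp, by decide⟩
      have hν : ν = Multiset.replicate (ν.count 1) 1 + Multiset.replicate (ν.count 2) 2 +
          Multiset.replicate (ν.count 3) 3 := by
        ext e
        simp only [Multiset.count_add, Multiset.count_replicate]
        by_cases h : e = 1 ∨ e = 2 ∨ e = 3
        · rcases h with rfl | rfl | rfl <;> simp
        · push Not at h
          rw [if_neg h.1.symm, if_neg h.2.1.symm, if_neg h.2.2.symm, Multiset.count_eq_zero]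
          intro he
          have h' := Multiset.mem_of_le hle he
          simp only [Multiset.mem_cons, Multiset.mem_replicate] at h'
          omega
      have h1 := Multiset.count_le_of_le 1 hle
      have h3 := Multiset.count_le_of_le 3 hle
      simp [Multiset.count_replicate] at h1 h3
      obtain ⟨c, hc⟩ := heven 2 even_two
      rw [hν, Multiset.sum_add, Multiset.sum_add, Multiset.sum_replicate, Multiset.sum_replicate,
        Multiset.sum_replicate, smul_eq_mul, smul_eq_mul, smul_eq_mul] at hsum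
      rcases (by omega : ν.count 1 = 0 ∨ ν.count 1 = 1) with e1 | e1 <;>
        rcases (by omega : ν.count 3 = 0 ∨ ν.count 3 = 1) with e3 | e3 <;> rw [e1, e3, hc] at hsum <;> omega
    · obtain ⟨ν, hle, hsum, heven, e₀, he₀, hne₀⟩ := key (1 ::ₘ 1 ::ₘ Multiset.replicate (d - 1) 2) (fun e he => by
          simp only [Multiset.mem_cons, Multiset.mem_replicate] at he
          omega) (fun e he => by
          have h1 : e ≠ 1 := fun h => by subst h; exact Nat.not_even_one he
          rw [Multiset.count_cons_of_ne h1, Multiset.count_cons_of_ne h1, Multiset.count_replicate]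
          split_ifs
          exacts [⟨d', by omega⟩, Even.zero]) (by simp; omega)
          ⟨2, Multiset.mem_cons_of_mem (Multiset.mem_cons_of_mem (Multiset.mem_replicate.2 ⟨by omega, rfl⟩)), le_rfl⟩ ⟨1, by simp, odd_one⟩
      have hν : ν = Multiset.replicate (ν.count 1) 1 + Multiset.replicate (ν.count 2) 2 := by
        ext e
        simp only [Multiset.count_add, Multiset.count_replicate]
        by_cases h : e = 1 ∨ e = 2
        · rcases h with rfl | rfl <;> simp
        · push Not at h
          rw [if_neg h.1.symm, if_neg h.2.symm, Multiset.count_eq_zero]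
          intro he
          have h' := Multiset.mem_of_le hle he
          simp only [Multiset.mem_cons, Multiset.mem_replicate] at h'
          omega
      have h1 := Multiset.count_le_of_le 1 hle
      simp [Multiset.count_replicate] at h1
      have hpos : 0 < ν.count 1 := by
        have h' := Multiset.mem_of_le hle he₀
        simp only [Multiset.mem_cons, Multiset.mem_replicate] at h'
        rw [show (1 : ℕ) = e₀ by omega]
        exact Multiset.count_pos.2 he₀
      obtain ⟨c, hc⟩ := heven 2 even_two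
      rw [hν, Multiset.sum_add, Multiset.sum_replicate, Multiset.sum_replicate, smul_eq_mul, smul_eq_mul] at hsum
      omega
  · by_cases hbig : ∀ e ∈ μ, e ≤ 1
    · refine ⟨Multiset.replicate m 1, ?_, by simp, fun e he => ?_⟩
      · have h1 : μ = Multiset.replicate μ.card 1 :=
          Multiset.eq_replicate_card.2 fun e he => le_antisymm (hbig e he) (hμp e he).1
        rw [h1, ← Multiset.le_count_iff_replicate_le, Multiset.count_replicate_self]
        rw [h1, Multiset.sum_replicate, smul_eq_mul, mul_one] at hμs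
        omega
      · rw [Multiset.count_replicate, if_neg (fun h => Nat.not_odd_iff_even.2 he (by subst h; exact odd_one))]
        exact Even.zero
    push Not at hbig
    by_cases hodd : ∃ e ∈ μ, Odd e
    · obtain ⟨ν, hle, hsum, heven, -⟩ := key μ hμp hμe hμs hbig hodd
      exact ⟨ν, hle, hsum, heven⟩
    push Not at hodd
    obtain ⟨t, ht, ht2⟩ := hbig
    obtain ⟨μ', rfl⟩ := Multiset.exists_cons_of_mem ht
    have ht_even : Even t := Nat.not_odd_iff_even.1 (hodd t ht)
    have hdup : t ∈ μ' := by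
      by_contra hno
      have := hμe t ht_even
      rw [Multiset.count_cons_self, Multiset.count_eq_zero_of_notMem hno] at this
      exact Nat.not_even_one this
    obtain ⟨ρ, rfl⟩ := Multiset.exists_cons_of_mem hdup
    obtain ⟨s, hs⟩ := ht_even
    have htp := (hμp t ht).2
    obtain ⟨p', hp'⟩ := hp
    have hρ : ∀ e ∈ ρ, Even e := fun e he =>
      Nat.not_odd_iff_even.1 (hodd e (Multiset.mem_cons_of_mem (Multiset.mem_cons_of_mem he)))
    have hρc : ∀ e, Even e → Even (ρ.count e) := fun e he => by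
      have h3 := hμe e he
      rw [Multiset.count_cons, Multiset.count_cons] at h3
      split_ifs at h3 with hh
      · rw [add_assoc, Nat.even_add] at h3
        exact h3.2 even_two
      · simpa using h3
    have hb1 : ∀ e, Even e → e ≠ t + 1 := fun e ⟨u, hu⟩ => by omega
    have hb2 : ∀ e, Even e → e ≠ t - 1 := fun e ⟨u, hu⟩ => by omega
    obtain ⟨ν, hle, hsum, heven, -⟩ := key ((t + 1) ::ₘ (t - 1) ::ₘ ρ) (fun e he => by
        rcases Multiset.mem_cons.1 he with rfl | he
        · omega
        rcases Multiset.mem_cons.1 he with rfl | he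
        · omega
        · exact hμp e (Multiset.mem_cons_of_mem (Multiset.mem_cons_of_mem he))) (fun e he => by
        rw [Multiset.count_cons_of_ne (hb1 e he), Multiset.count_cons_of_ne (hb2 e he)]
        exact hρc e he) (by simp at hμs ⊢; omega) ⟨t + 1, by simp, by omega⟩ ⟨t + 1, by simp, s, by omega⟩
    have hcount1 : ν.count (t + 1) ≤ 1 := by
      have := Multiset.count_le_of_le (t + 1) hle
      rw [Multiset.count_cons_self, Multiset.count_cons_of_ne (by omega),
        Multiset.count_eq_zero_of_notMem (fun h => hb1 _ (hρ _ h) rfl)] at this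
      exact this
    have hcount2 : ν.count (t - 1) ≤ 1 := by
      have := Multiset.count_le_of_le (t - 1) hle
      rw [Multiset.count_cons_of_ne (by omega), Multiset.count_cons_self,
        Multiset.count_eq_zero_of_notMem (fun h => hb2 _ (hρ _ h) rfl)] at this
      exact this
    let ν₀ := ν.filter fun e => e ≠ t + 1 ∧ e ≠ t - 1
    have hν : ν = Multiset.replicate (ν.count (t + 1)) (t + 1) + Multiset.replicate (ν.count (t - 1)) (t - 1) + ν₀ := by
      ext e
      simp only [ν₀, Multiset.count_add, Multiset.count_replicate, Multiset.count_filter]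
      by_cases h1 : e = t + 1
      · subst h1; simp [show t - 1 ≠ t + 1 by omega]
      by_cases h3 : e = t - 1
      · subst h3; simp [show t + 1 ≠ t - 1 by omega]
      · simp [h1, h3, Ne.symm h1, Ne.symm h3]
    have hν₀ : ν₀ ≤ ρ := Multiset.le_iff_count.2 fun e => by
      rw [Multiset.count_filter]
      split_ifs with h
      · have := Multiset.count_le_of_le e hle
        rwa [Multiset.count_cons_of_ne h.1, Multiset.count_cons_of_ne h.2] at this
      · exact Nat.zero_le _
    have hν₀e : ∀ e, Even e → Even (ν₀.count e) := fun e he => by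
      rw [Multiset.count_filter, if_pos ⟨hb1 e he, hb2 e he⟩]
      exact heven e he
    obtain ⟨u, hu⟩ : Even ν₀.sum := by
      rw [Nat.even_iff, OrthUnipotent.sum_mod_two, Multiset.filter_eq_nil.2 fun e he =>
        Nat.not_odd_iff_even.2 (hρ e (Multiset.mem_of_le hν₀ he))]
      rfl
    rw [hν, Multiset.sum_add, Multiset.sum_add, Multiset.sum_replicate, Multiset.sum_replicate, smul_eq_mul,
      smul_eq_mul] at hsum
    rcases (by omega : ν.count (t + 1) = 0 ∨ ν.count (t + 1) = 1) with c1 | c1 <;>
      rcases (by omega : ν.count (t - 1) = 0 ∨ ν.count (t - 1) = 1) with c2 | c2 <;> rw [c1, c2] at hsum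
    · exact ⟨ν₀, hν₀.trans ((Multiset.le_cons_self _ _).trans (Multiset.le_cons_self _ _)), by omega, hν₀e⟩
    · omega
    · omega
    · refine ⟨t ::ₘ t ::ₘ ν₀, (Multiset.cons_le_cons_iff t).2 ((Multiset.cons_le_cons_iff t).2 hν₀),
        by simp; omega, fun e he => ?_⟩
      rw [Multiset.count_cons, Multiset.count_cons]
      have := hν₀e e he
      split_ifs with h
      · rw [add_assoc]; exact this.add even_two
      · simpa using this

end Cfsg.Agent.S5994
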