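import Cfsg.Statements.S5995
import Cfsg.Agent.Lib.Derangements.OrthUnipotentTypes
-- import your own Cfsg.Agent.* helpers here

set_option autoImplicit false
open scoped MatrixGroups
open Cfsg Module CfsgLib.Derangements CfsgLib.Derangements.JordanRanks CfsgLib.Orth

namespace Cfsg.Agent.S5995

/-- A necessary condition for every element of order p of Ω_n(q), nq odd, to fix a hyperbolic `m`-space. Here `T = Ω_n(F)`, `n = 2d+1 ≥ 7`, `q` odd, realised as the commutator subgroup of the isometry group of `Q = x₀² + Σ xᵢyᵢ` over the field `F` with `q` elements (trivial centre, so its elements of prime order `r` are used directly); a nondegenerate `m`-space (even `m`) is a subspace on which the polar form of `Q` is nondegenerate; it is hyperbolic if it contains an `m/2`-dimensional subspace on which `Q` vanishes, elliptic otherwise. Let `m` be even with `2 ≤ m ≤ n − 1` and suppose `p` divides the number of hyperbolic `m`-spaces. If every element of `T` of order `p` fixes some hyperbolic `m`-space, then `m ≡ 0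 (mod 4)` and every partition of `n` into parts of size at most `p` in which every even part has even multiplicity contains (as a sub-multiset) a partition of `m` in which every even part has even multiplicity. -/
theorem result {F : Type*} [Field F] [Fintype F] {p : ℕ} [Fact p.Prime] [CharP F p] {q : ℕ} (hq : Fintype.card F = q) (hqodd : Odd q)
    (d m : ℕ) (hd : 3 ≤ d) (hm : 2 ≤ m) (hme : Even m) (hmn : m ≤ 2 * d)
    (hpΩ : p ∣ Nat.card {W : Submodule F (Unit ⊕ (Fin d ⊕ Fin d) → F) // Module.finrank F ↥W = m ∧ Cfsg.Geo.IsNondegenerateOn (QuadraticMap.polar (Cfsg.quadFormOdd d F)) W ∧ Cfsg.Geo.IsPlusTypeOn (Cfsg.quadFormOdd d F) W}) :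
    (∀ x : GL (Unit ⊕ (Fin d ⊕ Fin d)) F, x ∈ Cfsg.Geo.omegaGL (Cfsg.quadFormOdd d F) → orderOf x = p →
      ∃ W : Submodule F (Unit ⊕ (Fin d ⊕ Fin d) → F), (Module.finrank F ↥W = m ∧ Cfsg.Geo.IsNondegenerateOn (QuadraticMap.polar (Cfsg.quadFormOdd d F)) W ∧ Cfsg.Geo.IsPlusTypeOn (Cfsg.quadFormOdd d F) W) ∧ W.map (Matrix.toLin' (x : Matrix (Unit ⊕ (Fin d ⊕ Fin d)) (Unit ⊕ (Fin d ⊕ Fin d)) F)) ≤ W) →
    (m % 4 = 0 ∧ (∀ μ : Multiset ℕ, (∀ e ∈ μ, 0 < e ∧ e ≤ p) → (∀ e : ℕ, Even e → Even (μ.count e)) → μ.sum = 2 * d + 1 →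
        ∃ ν : Multiset ℕ, ν ≤ μ ∧ ν.sum = m ∧ ∀ e : ℕ, Even e → Even (ν.count e))) := by
  classical
  have hpr : p.Prime := Fact.out
  have hp : Odd p := by
    obtain ⟨k, -, hk⟩ := FiniteField.card F p
    rw [← hq, hk, Nat.odd_pow_iff k.ne_zero] at hqodd
    exact hqodd
  have h2 : (2 : F) ≠ 0 := Ring.two_ne_zero (by
    rw [ringChar.eq F p]
    intro h
    rw [h] at hp
    exact Nat.not_odd_iff_even.2 even_two hp)
  have hp3 : 3 ≤ p := by
    have := hpr.two_le
    have : p ≠ 2 := fun h => Nat.not_odd_iff_even.2 (h ▸ even_two) hp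
    omega
  intro hall
  have key : ∀ μ : Multiset ℕ, (∀ e ∈ μ, 0 < e ∧ e ≤ p) → (∀ e : ℕ, Even e → Even (μ.count e)) →
      μ.sum = 2 * d + 1 →
      (∃ e ∈ μ, 2 ≤ e) → ∃ ν : Multiset ℕ, ν ≤ μ ∧ ν.sum = m ∧ ∀ e : ℕ, Even e → Even (ν.count e) := by
    intro μ hμp hμe hμs hne
    obtain ⟨x, hx, hxp, hns, hN, hr⟩ := OrthUnipotent.exists_element hp (oddForm F d) (oddForm_apply d)
      (oddForm_nondeg d h2) (fun e he => (hμp e he).2) hne
      ((OrthUnipotent.real_line h2 one_ne_zero hμe hμs).of_iso (OrthUnipotent.iso_oddForm d))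
    have hord : orderOf x = p := orderOf_eq_prime hxp fun h => hns 1 (by rw [h, Units.val_one, one_smul])
    obtain ⟨W, ⟨hWm, hWn, -⟩, hWx⟩ := hall x hx hord
    obtain ⟨ν, hle, hsum, heven, -⟩ := OrthUnipotent.exists_fixed_data h2 (oddForm F d) (oddForm_apply d)
      (OrthUnipotent.isometry_of_mem_omega hx) hN (fun h => by have := (hμp 0 h).1; omega) hr hWn hWx
    exact ⟨ν, hle, hsum.trans hWm, heven⟩
  refine ⟨?_, fun μ hμp hμe hμs => ?_⟩
  · obtain ⟨o, c, ho, hop, hc, hoc⟩ : ∃ o c, Odd o ∧ o ≤ 3 ∧ Even c ∧ o + 2 * c = 2 * d + 1 := by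
      rcases Nat.even_or_odd d with hd' | hd'
      · exact ⟨1, d, odd_one, by omega, hd', by omega⟩
      · exact ⟨3, d - 1, by decide, le_rfl, Nat.Odd.sub_odd hd' odd_one, by omega⟩
    have ho2 : o ≠ 2 := fun h => Nat.not_odd_iff_even.2 (h ▸ even_two) ho
    have hc0 : 0 < c := by
      rcases Nat.eq_zero_or_pos c with h | h
      · have : o = 2 * d + 1 := by omega
        rcases Nat.even_or_odd d with hd' | hd' <;> omega
      · exact h
    obtain ⟨ν, hle, hsum, heven⟩ := key (o ::ₘ Multiset.replicate c 2) (fun e he => by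
        rcases Multiset.mem_cons.1 he with rfl | he
        · exact ⟨ho.pos, hop.trans hp3⟩
        · rw [(Multiset.mem_replicate.1 he).2]; omega) (fun e he => by
        rw [Multiset.count_cons, Multiset.count_replicate]
        rw [if_neg (fun h : e = o => Nat.not_odd_iff_even.2 (h ▸ he) ho)]
        split_ifs <;> simp [hc]) (by simp; omega) ⟨2, Multiset.mem_cons_of_mem (Multiset.mem_replicate.2
        ⟨by omega, rfl⟩), le_rfl⟩
    have hone : ν.count o ≤ 1 := by
      have := Multiset.count_le_of_le o hle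
      rw [Multiset.count_cons_self, Multiset.count_replicate, if_neg (Ne.symm ho2)] at this
      omega
    have hν : ν = Multiset.replicate (ν.count o) o + Multiset.replicate (ν.count 2) 2 := by
      ext e
      rw [Multiset.count_add, Multiset.count_replicate, Multiset.count_replicate]
      by_cases h1 : o = e
      · subst h1; rw [if_pos rfl, if_neg (Ne.symm ho2), add_zero]
      · by_cases h3 : 2 = e
        · subst h3; rw [if_neg ho2, if_pos rfl, zero_add]
        · rw [if_neg h1, if_neg h3, Multiset.count_eq_zero]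
          intro he
          rcases Multiset.mem_cons.1 (Multiset.mem_of_le hle he) with h | h
          · exact h1 h.symm
          · exact h3 (Multiset.mem_replicate.1 h).2.symm
    obtain ⟨c', hc'⟩ := heven 2 even_two
    rw [hν, Multiset.sum_add, Multiset.sum_replicate, Multiset.sum_replicate, smul_eq_mul, smul_eq_mul] at hsum
    obtain ⟨o', ho'⟩ := ho
    obtain ⟨m', hm'⟩ := hme
    rcases (by omega : ν.count o = 0 ∨ ν.count o = 1) with h | h <;> rw [h] at hsum <;> omega
  · by_cases hbig : ∀ e ∈ μ, e ≤ 1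
    · refine ⟨Multiset.replicate m 1, ?_, by simp, fun e he => ?_⟩
      · have h1 : μ = Multiset.replicate μ.card 1 :=
          Multiset.eq_replicate_card.2 fun e he => le_antisymm (hbig e he) (hμp e he).1
        rw [h1, ← Multiset.le_count_iff_replicate_le, Multiset.count_replicate_self]
        rw [h1, Multiset.sum_replicate, smul_eq_mul, mul_one] at hμs
        omega
      · rw [Multiset.count_replicate, if_neg (fun h => Nat.not_odd_iff_even.2 he (by subst h; exact odd_one))]
        exact Even.zero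
    push Not at hbig
    exact key μ hμp hμe hμs hbig

end Cfsg.Agent.S5995
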