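import Cfsg.Statements.S5996
import Cfsg.Agent.Lib.Derangements.OrthUnipotentTypes
-- import your own Cfsg.Agent.* helpers here

set_option autoImplicit false
open scoped MatrixGroups
open Cfsg Module CfsgLib.Derangements CfsgLib.Derangements.JordanRanks CfsgLib.Orth

namespace Cfsg.Agent.S5996

/-- A necessary condition for every element of order p of PΩ⁺_n(q), q odd, to fix a hyperbolic `m`-space. Here `T = PΩ⁺_n(F)`, `n = 2d ≥ 8`, realised through `Ω⁺_n(q)`, the commutator subgroup of the isometry group of `Q = Σ xᵢyᵢ` over the field `F` with `q` elements; an element of `T` of prime order `r` is an element `x` of `Ω⁺_n(q)` with `x^r` scalar and `x` not scalar; `q` is odd; a nondegenerate `m`-space (even `m`) is a subspace on which the polar form of `Q` is nondegenerate; it is hyperbolic if it contains an `m/2`-dimensional subspace on which `Q` vanishes, elliptic otherwise. Let `m` be even with `2 ≤ m < n/2` and suppose `p` divides the number of hyperbolic `m`-spaces.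 If every element of `T` of order `p` fixes some hyperbolic `m`-space, then every partition of `n` into parts of size at most `p` in which every even part has even multiplicity contains (as a sub-multiset) a partition of `m` in which every even part has even multiplicity. -/
theorem result {F : Type*} [Field F] [Fintype F] {p : ℕ} [Fact p.Prime] [CharP F p] {q : ℕ} (hq : Fintype.card F = q) (hqodd : Odd q)
    (d m : ℕ) (hd : 4 ≤ d) (hm : 2 ≤ m) (hme : Even m) (hmd : m < d)
    (hpΩ : p ∣ Nat.card {W : Submodule F (Fin d ⊕ Fin d → F) // Module.finrank F ↥W = m ∧ Cfsg.Geo.IsNondegenerateOn (QuadraticMap.polar (Cfsg.quadFormPlus d F)) W ∧ Cfsg.Geo.IsPlusTypeOn (Cfsg.quadFormPlus d F) W}) :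
    (∀ x : GL (Fin d ⊕ Fin d) F, x ∈ Cfsg.Geo.omegaGL (Cfsg.quadFormPlus d F) →
      (∃ z : F, ((x ^ p : GL (Fin d ⊕ Fin d) F) : Matrix (Fin d ⊕ Fin d) (Fin d ⊕ Fin d) F) = z • (1 : Matrix (Fin d ⊕ Fin d) (Fin d ⊕ Fin d) F)) →
      (∀ z : F, (x : Matrix (Fin d ⊕ Fin d) (Fin d ⊕ Fin d) F) ≠ z • (1 : Matrix (Fin d ⊕ Fin d) (Fin d ⊕ Fin d) F)) →
      ∃ W : Submodule F (Fin d ⊕ Fin d → F), (Module.finrank F ↥W = m ∧ Cfsg.Geo.IsNondegenerateOn (QuadraticMap.polar (Cfsg.quadFormPlus d F)) W ∧ Cfsg.Geo.IsPlusTypeOn (Cfsg.quadFormPlus d F) W) ∧ W.map (Matrix.toLin' (x : Matrix (Fin d ⊕ Fin d) (Fin d ⊕ Fin d) F)) ≤ W) →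
    (∀ μ : Multiset ℕ, (∀ e ∈ μ, 0 < e ∧ e ≤ p) → (∀ e : ℕ, Even e → Even (μ.count e)) → μ.sum = 2 * d →
        ∃ ν : Multiset ℕ, ν ≤ μ ∧ ν.sum = m ∧ ∀ e : ℕ, Even e → Even (ν.count e)) := by
  classical
  have hpr : p.Prime := Fact.out
  have hp : Odd p := by
    obtain ⟨k, -, hk⟩ := FiniteField.card F p
    rw [← hq, hk, Nat.odd_pow_iff k.ne_zero] at hqodd
    exact hqodd
  have h2 : (2 : F) ≠ 0 := Ring.two_ne_zero (by
    rw [ringChar.eq F p]
    intro h
    rw [h] at hp
    exact Nat.not_odd_iff_even.2 even_two hp)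
  have hp3 : 3 ≤ p := by
    have := hpr.two_le
    have : p ≠ 2 := fun h => Nat.not_odd_iff_even.2 (h ▸ even_two) hp
    omega
  intro hall
  have key : ∀ μ : Multiset ℕ, (∀ e ∈ μ, 0 < e ∧ e ≤ p) → (∀ e : ℕ, Even e → Even (μ.count e)) → μ.sum = 2 * d →
      (∃ e ∈ μ, 2 ≤ e) → ∃ ν : Multiset ℕ, ν ≤ μ ∧ ν.sum = m ∧ ∀ e : ℕ, Even e → Even (ν.count e) := by
    intro μ hμp hμe hμs hne
    obtain ⟨x, hx, hxp, hns, hN, hr⟩ := OrthUnipotent.exists_element hp (plusForm F d) (plusForm_apply d)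
      (plusForm_nondeg d) (fun e he => (hμp e he).2) hne
      ((OrthUnipotent.real_plus h2 μ d hμe hμs).of_iso (OrthUnipotent.iso_plusForm d))
    obtain ⟨W, ⟨hWm, hWn, -⟩, hWx⟩ := hall x hx ⟨1, by rw [hxp, Units.val_one, one_smul]⟩ hns
    obtain ⟨ν, hle, hsum, heven, -⟩ := OrthUnipotent.exists_fixed_data h2 (plusForm F d) (plusForm_apply d)
      (OrthUnipotent.isometry_of_mem_omega hx) hN (fun h => by have := (hμp 0 h).1; omega) hr hWn hWx
    exact ⟨ν, hle, hsum.trans hWm, heven⟩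
  intro μ hμp hμe hμs
  by_cases hbig : ∀ e ∈ μ, e ≤ 1
  · refine ⟨Multiset.replicate m 1, ?_, by simp, fun e he => ?_⟩
    · have h1 : μ = Multiset.replicate μ.card 1 :=
        Multiset.eq_replicate_card.2 fun e he => le_antisymm (hbig e he) (hμp e he).1
      rw [h1, ← Multiset.le_count_iff_replicate_le, Multiset.count_replicate_self]
      rw [h1, Multiset.sum_replicate, smul_eq_mul, mul_one] at hμs
      omega
    · rw [Multiset.count_replicate, if_neg (fun h => Nat.not_odd_iff_even.2 he (by subst h; exact odd_one))]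
      exact Even.zero
  push Not at hbig
  exact key μ hμp hμe hμs hbig

end Cfsg.Agent.S5996
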