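import Cfsg.Statements.S5997
-- import your own Cfsg.Agent.* helpers here

set_option autoImplicit false
open scoped MatrixGroups
open Cfsg

namespace Cfsg.Agent.S5997

open Matrix

section Aux

variable {F : Type*} [Field F]

theorem cayley (X : Matrix (Fin 2) (Fin 2) F) :
    X * X = X.trace • X - X.det • (1 : Matrix (Fin 2) (Fin 2) F) := by
  ext i j
  fin_cases i <;> fin_cases j <;>
    simp [Matrix.mul_apply, Fin.sum_univ_two, Matrix.trace_fin_two, Matrix.det_fin_two] <;> ring

theorem eq_smul_of_entries {X : Matrix (Fin 2) (Fin 2) F} (h1 : X 0 1 = 0) (h2 : X 1 0 = 0) (h3 : X 0 0 = X 1 1) :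
    X = X 0 0 • (1 : Matrix (Fin 2) (Fin 2) F) := by
  ext i j
  fin_cases i <;> fin_cases j <;> simp [h1, h2, h3]

/-- Two matrices commuting with a non-scalar matrix commute. -/
theorem comm_of_comm {W A B : Matrix (Fin 2) (Fin 2) F} (hW : ∀ c : F, W ≠ c • (1 : Matrix (Fin 2) (Fin 2) F))
    (hA : A * W = W * A) (hB : B * W = W * B) : A * B = B * A := by
  have key : ∀ A : Matrix (Fin 2) (Fin 2) F, A * W = W * A → W 0 1 * A 1 0 = A 0 1 * W 1 0 ∧
      (W 0 0 - W 1 1) * A 0 1 = (A 0 0 - A 1 1) * W 0 1 ∧ (W 0 0 - W 1 1) * A 1 0 = (A 0 0 - A 1 1) * W 1 0 := by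
    intro A h
    have h00 := congrFun (congrFun h 0) 0
    have h01 := congrFun (congrFun h 0) 1
    have h10 := congrFun (congrFun h 1) 0
    simp only [Matrix.mul_apply, Fin.sum_univ_two] at h00 h01 h10
    exact ⟨by linear_combination -h00, by linear_combination -h01, by linear_combination h10⟩
  obtain ⟨a1, a2, a3⟩ := key A hA
  obtain ⟨b1, b2, b3⟩ := key B hB
  have c1 : A 0 1 * B 1 0 = B 0 1 * A 1 0 ∧ (A 0 0 - A 1 1) * B 0 1 = (B 0 0 - B 1 1) * A 0 1 ∧
      (A 0 0 - A 1 1) * B 1 0 = (B 0 0 - B 1 1) * A 1 0 := by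
    by_cases h1 : W 0 1 = 0
    · by_cases h2 : W 1 0 = 0
      · have h3 : W 0 0 - W 1 1 ≠ 0 := fun h => hW _ (eq_smul_of_entries h1 h2 (sub_eq_zero.1 h))
        simp only [h1, h2, mul_zero, mul_eq_zero, h3, false_or] at a2 a3 b2 b3
        simp [a2, a3, b2, b3]
      · have hA0 : A 0 1 = 0 := by
          rw [h1, zero_mul] at a1
          exact (mul_eq_zero.1 a1.symm).resolve_right h2
        have hB0 : B 0 1 = 0 := by
          rw [h1, zero_mul] at b1
          exact (mul_eq_zero.1 b1.symm).resolve_right h2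
        refine ⟨by simp [hA0, hB0], by simp [hA0, hB0], mul_left_cancel₀ h2 ?_⟩
        linear_combination A 1 0 * b3 - B 1 0 * a3
    · have e1 : A 0 1 * B 1 0 = B 0 1 * A 1 0 := mul_left_cancel₀ h1 (by
        linear_combination A 0 1 * b1 - B 0 1 * a1)
      refine ⟨e1, mul_left_cancel₀ h1 ?_, mul_left_cancel₀ h1 ?_⟩
      · linear_combination A 0 1 * b2 - B 0 1 * a2
      · linear_combination A 1 0 * b2 - B 1 0 * a2 + (W 0 0 - W 1 1) * e1
  obtain ⟨e1, e2, e3⟩ := c1
  ext i j
  fin_cases i <;> fin_cases j <;> simp only [Fin.mk_zero, Fin.mk_one, Fin.isValue, Fin.zero_eta, Matrix.mul_apply,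
    Fin.sum_univ_two]
  · linear_combination e1
  · linear_combination e2
  · linear_combination -e3
  · linear_combination -e1

theorem exists_cyclic {X : Matrix (Fin 2) (Fin 2) F} (hX : ∀ c : F, X ≠ c • (1 : Matrix (Fin 2) (Fin 2) F))
    (hdet : X.det = 1) :
    ∃ M : Matrix (Fin 2) (Fin 2) F, M.det ≠ 0 ∧ X * M = M * !![0, -1; 1, X.trace] := by
  have key : ∀ a b : F, X * !![a, X 0 0 * a + X 0 1 * b; b, X 1 0 * a + X 1 1 * b] =
      !![a, X 0 0 * a + X 0 1 * b; b, X 1 0 * a + X 1 1 * b] * !![0, -1; 1, X.trace] := fun a b => by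
    rw [Matrix.det_fin_two] at hdet
    ext i j
    fin_cases i <;> fin_cases j <;> simp [Matrix.mul_apply, Fin.sum_univ_two, Matrix.trace_fin_two]
    · linear_combination -a * hdet
    · linear_combination -b * hdet
  by_cases h1 : X 1 0 = 0
  · by_cases h2 : X 0 1 = 0
    · refine ⟨_, ?_, key 1 1⟩
      have h3 : X 1 1 - X 0 0 ≠ 0 := fun h => hX _ (eq_smul_of_entries h2 h1 (sub_eq_zero.1 h).symm)
      simpa [Matrix.det_fin_two, h1, h2] using h3
    · refine ⟨_, ?_, key 0 1⟩
      simpa [Matrix.det_fin_two] using h2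
  · refine ⟨_, ?_, key 1 0⟩
    simpa [Matrix.det_fin_two] using h1

theorem mem_specialLinear {g : GL (Fin 2) F} :
    g ∈ Cfsg.Geo.specialLinear (Fin 2) F ↔ (g : Matrix (Fin 2) (Fin 2) F).det = 1 := by
  rw [Cfsg.Geo.specialLinear, MonoidHom.mem_ker, Units.ext_iff]
  rfl

/-- Elements of `SL₂` with the same trace are conjugate in `SL₂` over a finite field unless the trace is `±2`. -/
theorem exists_conj [Fintype F] (h2 : (2 : F) ≠ 0) {X Y : GL (Fin 2) F}
    (hX : ∀ c : F, (X : Matrix (Fin 2) (Fin 2) F) ≠ c • (1 : Matrix (Fin 2) (Fin 2) F))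
    (hY : ∀ c : F, (Y : Matrix (Fin 2) (Fin 2) F) ≠ c • (1 : Matrix (Fin 2) (Fin 2) F))
    (hXs : X ∈ Cfsg.Geo.specialLinear (Fin 2) F) (hYs : Y ∈ Cfsg.Geo.specialLinear (Fin 2) F)
    (htr : (X : Matrix (Fin 2) (Fin 2) F).trace = (Y : Matrix (Fin 2) (Fin 2) F).trace)
    (h4 : (X : Matrix (Fin 2) (Fin 2) F).trace ^ 2 ≠ 4) :
    ∃ g ∈ Cfsg.Geo.specialLinear (Fin 2) F, g⁻¹ * X * g = Y := by
  classical
  rw [mem_specialLinear] at hXs hYs
  obtain ⟨M, hM, hXM⟩ := exists_cyclic hX hXs
  obtain ⟨N, hN, hYN⟩ := exists_cyclic hY hYs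
  set t := (X : Matrix (Fin 2) (Fin 2) F).trace
  rw [← htr] at hYN
  -- the norm form of `F[Y]` represents everything
  obtain ⟨a, b, hab⟩ : ∃ a b : F, a ^ 2 + t * a * b + b ^ 2 = N.det / M.det := by
    have hodd : Fintype.card F % 2 = 1 :=
      FiniteField.odd_card_of_char_ne_two fun h => h2 (by
        have h' := ringChar.Nat.cast_ringChar (R := F)
        rw [h] at h'
        exact_mod_cast h')
    let e := 1 - t ^ 2 / 4
    have h40 : (4 : F) ≠ 0 := by rw [show (4 : F) = 2 * 2 by norm_num]; exact mul_ne_zero h2 h2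
    have he : e ≠ 0 := fun h => h4 (by
      simp only [e] at h
      field_simp at h
      linear_combination -h)
    obtain ⟨a, b, hab⟩ := FiniteField.exists_root_sum_quadratic
      (f := (Polynomial.X ^ 2 : Polynomial F)) (g := Polynomial.C e * Polynomial.X ^ 2 - Polynomial.C (N.det / M.det))
      (Polynomial.degree_X_pow 2) (by
        rw [Polynomial.degree_sub_eq_left_of_degree_lt] <;> rw [Polynomial.degree_C_mul_X_pow 2 he]
        · rfl
        · exact lt_of_le_of_lt Polynomial.degree_C_le (by decide)) hodd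
    simp at hab
    refine ⟨a - t / 2 * b, b, ?_⟩
    simp only [e] at hab
    field_simp
    field_simp at hab
    linear_combination hab
  let K : Matrix (Fin 2) (Fin 2) F := a • 1 + b • (Y : Matrix (Fin 2) (Fin 2) F)
  have hKdet : K.det = N.det / M.det := by
    rw [← hab, htr]
    have hd := hYs
    rw [Matrix.det_fin_two] at hd
    simp [K, Matrix.det_fin_two, Matrix.trace_fin_two]
    linear_combination b ^ 2 * hd
  have hKY : (Y : Matrix (Fin 2) (Fin 2) F) * K = K * (Y : Matrix (Fin 2) (Fin 2) F) := by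
    simp [K, mul_add, add_mul]
  let G := M * N⁻¹ * K
  have hGdet : G.det = 1 := by
    simp only [G, Matrix.det_mul, Matrix.det_nonsing_inv, hKdet, Ring.inverse_eq_inv']
    field_simp
  let g : GL (Fin 2) F := Matrix.GeneralLinearGroup.mkOfDetNeZero G (by rw [hGdet]; exact one_ne_zero)
  refine ⟨g, mem_specialLinear.2 hGdet, ?_⟩
  have hN' : IsUnit N.det := isUnit_iff_ne_zero.2 hN
  have hinv : !![0, -1; 1, t] * N⁻¹ = N⁻¹ * (Y : Matrix (Fin 2) (Fin 2) F) := by
    calc _ = N⁻¹ * N * (!![0, -1; 1, t] * N⁻¹) := by rw [Matrix.nonsing_inv_mul _ hN', one_mul]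
      _ = N⁻¹ * (N * !![0, -1; 1, t]) * N⁻¹ := by simp only [mul_assoc]
      _ = _ := by rw [← hYN, mul_assoc, mul_assoc, Matrix.mul_nonsing_inv _ hN', mul_one]
  rw [mul_assoc, inv_mul_eq_iff_eq_mul]
  refine Units.ext ?_
  show (X : Matrix (Fin 2) (Fin 2) F) * (M * N⁻¹ * K) = M * N⁻¹ * K * (Y : Matrix (Fin 2) (Fin 2) F)
  rw [mul_assoc (M * N⁻¹), ← hKY, ← mul_assoc, ← mul_assoc, hXM, mul_assoc M, hinv, ← mul_assoc M, mul_assoc]

theorem gens_facts {i j w : GL (Fin 2) F} (h2 : (2 : F) ≠ 0) (hi : i * i = w) (hj : j * j = w) (hw : w * w = 1)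
    (hw1 : w ≠ 1) (hji : j * i = w * (i * j)) :
    (w : Matrix (Fin 2) (Fin 2) F) = -1 ∧ (∀ c : F, (i : Matrix (Fin 2) (Fin 2) F) ≠ c • (1 : Matrix (Fin 2) (Fin 2) F)) ∧
      i * j ≠ j * i ∧ (i : Matrix (Fin 2) (Fin 2) F).trace = 0 ∧ (i : Matrix (Fin 2) (Fin 2) F).det = 1 := by
  have hne : i * j ≠ j * i := fun h => hw1 (by
    rw [hji] at h
    simpa using h.symm)
  have hW : ∃ c : F, (w : Matrix (Fin 2) (Fin 2) F) = c • (1 : Matrix (Fin 2) (Fin 2) F) := by
    by_contra hcon
    push Not at hcon
    refine hne (Units.ext ?_)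
    rw [Units.val_mul, Units.val_mul]
    refine comm_of_comm hcon ?_ ?_
    · rw [← Units.val_mul, ← Units.val_mul, ← hi, mul_assoc]
    · rw [← Units.val_mul, ← Units.val_mul, ← hj, mul_assoc]
  obtain ⟨c, hc⟩ := hW
  have hc2 : c * c = 1 := by
    have h := congrArg (fun g : GL (Fin 2) F => (g : Matrix (Fin 2) (Fin 2) F) 0 0) hw
    simpa [Units.val_mul, hc] using h
  have hc1 : c = -1 := (mul_self_eq_one_iff.1 hc2).resolve_left fun h =>
    hw1 (Units.ext (by rw [hc, h, one_smul, Units.val_one]))
  have hwv : (w : Matrix (Fin 2) (Fin 2) F) = -1 := by rw [hc, hc1, neg_one_smul]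
  have hins : ∀ c : F, (i : Matrix (Fin 2) (Fin 2) F) ≠ c • (1 : Matrix (Fin 2) (Fin 2) F) := fun c hi' =>
    hne (Units.ext (by rw [Units.val_mul, Units.val_mul, hi', smul_mul_assoc, one_mul, mul_smul_comm, mul_one]))
  have hsq : (i : Matrix (Fin 2) (Fin 2) F) * (i : Matrix (Fin 2) (Fin 2) F) = -1 := by
    rw [← Units.val_mul, hi, hwv]
  have hC := cayley (i : Matrix (Fin 2) (Fin 2) F)
  rw [hsq] at hC
  have htr : (i : Matrix (Fin 2) (Fin 2) F).trace = 0 := by
    by_contra hne'
    refine hins (((i : Matrix (Fin 2) (Fin 2) F).det - 1) / (i : Matrix (Fin 2) (Fin 2) F).trace) ?_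
    rw [div_eq_inv_mul, mul_smul, sub_smul, one_smul, eq_inv_smul_iff₀ hne']
    linear_combination (norm := module) -hC
  refine ⟨hwv, hins, hne, htr, ?_⟩
  rw [htr, zero_smul, zero_sub] at hC
  have h := congrFun (congrFun hC 0) 0
  simp at h
  exact h.symm

theorem quat_facts :
    (QuaternionGroup.a 1 : QuaternionGroup 2) * QuaternionGroup.a 1 = QuaternionGroup.a 2 ∧
    (QuaternionGroup.xa 0 : QuaternionGroup 2) * QuaternionGroup.xa 0 = QuaternionGroup.a 2 ∧
    (QuaternionGroup.a 2 : QuaternionGroup 2) * QuaternionGroup.a 2 = 1 ∧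
    (QuaternionGroup.a 2 : QuaternionGroup 2) ≠ 1 ∧
    (QuaternionGroup.xa 0 : QuaternionGroup 2) * QuaternionGroup.a 1 =
      QuaternionGroup.a 2 * (QuaternionGroup.a 1 * QuaternionGroup.xa 0) ∧
    (∀ g : QuaternionGroup 2, g * g = 1 → g = 1 ∨ g = QuaternionGroup.a 2) ∧
    ∀ g : QuaternionGroup 2, g = 1 ∨ g = QuaternionGroup.a 1 ∨
      g = QuaternionGroup.a 1 * QuaternionGroup.a 1 ∨
      g = QuaternionGroup.a 1 * QuaternionGroup.a 1 * QuaternionGroup.a 1 ∨
      g = QuaternionGroup.xa 0 ∨ g = QuaternionGroup.xa 0 * QuaternionGroup.a 1 ∨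
      g = QuaternionGroup.xa 0 * (QuaternionGroup.a 1 * QuaternionGroup.a 1) ∨
      g = QuaternionGroup.xa 0 * (QuaternionGroup.a 1 * QuaternionGroup.a 1 * QuaternionGroup.a 1) := by
  refine ⟨by decide, by decide, by decide, by decide, by decide, ?_, ?_⟩ <;> decide

/-- An element of prime order at least `5` normalizing a quaternion group centralizes it. -/
theorem fixes_of_normalizes {R : Subgroup (GL (Fin 2) F)} (e : ↥R ≃* QuaternionGroup 2) {r : ℕ} [Fact r.Prime]
    (hr : 5 ≤ r) {n : GL (Fin 2) F} (hn : n ∈ Cfsg.Geo.subgroupNormalizer R) (hnr : n ^ r = 1) :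
    ∀ g ∈ R, n * g = g * n := by
  classical
  haveI : Fintype ↥R := Fintype.ofEquiv _ e.symm.toEquiv
  have hcard : Fintype.card ↥R = 8 := by
    rw [Fintype.card_congr e.toEquiv, QuaternionGroup.card]
  let φ : Equiv.Perm ↥R :=
    { toFun := fun g => ⟨n * g.1 * n⁻¹, (Subgroup.mem_normalizer_iff.1 hn g.1).1 g.2⟩
      invFun := fun g => ⟨n⁻¹ * g.1 * n, (Subgroup.mem_normalizer_iff.1 hn _).2 (by simp [mul_assoc])⟩
      left_inv := fun g => Subtype.ext (by simp [mul_assoc])
      right_inv := fun g => Subtype.ext (by simp [mul_assoc]) }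
  have hpow : ∀ (k : ℕ) (g : ↥R), ((φ ^ k) g).1 = n ^ k * g.1 * (n ^ k)⁻¹ := fun k g => by
    induction k with
    | zero => simp
    | succ k ih =>
      rw [pow_succ' φ, Equiv.Perm.mul_apply]
      show n * ((φ ^ k) g).1 * n⁻¹ = _
      rw [ih, pow_succ' n, _root_.mul_inv_rev]
      simp only [mul_assoc]
  have hφr : φ ^ r ^ 1 = 1 := by
    ext1 g
    exact Subtype.ext (by rw [pow_one, hpow, hnr]; simp)
  have hmod := Equiv.Perm.card_compl_support_modEq (σ := φ) hφr
  rw [hcard] at hmod
  have hfix : ∀ g : ↥R, g ∈ φ.supportᶜ ↔ n * g.1 * n⁻¹ = g.1 := fun g => by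
    rw [Finset.mem_compl, Equiv.Perm.notMem_support, Subtype.ext_iff]
    rfl
  set S := φ.supportᶜ
  have hmul : ∀ g g' : ↥R, g ∈ S → g' ∈ S → g * g' ∈ S := fun g g' h h' => by
    rw [hfix] at h h' ⊢
    conv_rhs => rw [Subgroup.coe_mul, ← h, ← h']
    simp [mul_assoc]
  have h1 : (1 : ↥R) ∈ S := by rw [hfix]; simp
  obtain ⟨-, -, hz2, hz1, -, huniq, -⟩ := quat_facts
  let z : ↥R := e.symm (QuaternionGroup.a 2)
  have hzz : z * z = 1 := by simp only [z, ← map_mul, hz2, map_one]
  have hzne : z ≠ 1 := fun h => hz1 (by simpa [z] using congrArg e h)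
  have huniq' : ∀ g : ↥R, g * g = 1 → g = 1 ∨ g = z := fun g hg => by
    rcases huniq (e g) (by rw [← map_mul, hg, map_one]) with h | h
    · exact Or.inl (by simpa using congrArg e.symm h)
    · exact Or.inr (by simpa [z] using congrArg e.symm h)
  have hz : z ∈ S := by
    have hsq : φ z * φ z = 1 := Subtype.ext (by
      show n * z.1 * n⁻¹ * (n * z.1 * n⁻¹) = 1
      have := congrArg Subtype.val hzz
      simp only [Subgroup.coe_mul, Subgroup.coe_one] at this
      simp [mul_assoc, ← mul_assoc z.1 z.1, this])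
    rw [Finset.mem_compl, Equiv.Perm.notMem_support]
    refine (huniq' _ hsq).resolve_left fun h => hzne ?_
    apply φ.injective
    rw [h]
    exact Subtype.ext (show ((1 : ↥R) : GL (Fin 2) F) = n * ((1 : ↥R) : GL (Fin 2) F) * n⁻¹ by simp)
  have hS8 : S.card = 8 := by
    have hle : S.card ≤ 8 := hcard ▸ Finset.card_le_univ S
    have hsub : {1, z} ⊆ S := by
      intro g hg
      simp at hg
      rcases hg with rfl | rfl <;> assumption
    have h2le : 2 ≤ S.card := by
      have := Finset.card_le_card hsub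
      rwa [Finset.card_pair hzne.symm] at this
    have h3 : S.card = 3 → False := fun h3 => by
      obtain ⟨g, hg, hgn⟩ : ∃ g ∈ S, g ∉ ({1, z} : Finset ↥R) := by
        by_contra hcon
        push Not at hcon
        have := Finset.card_le_card (show S ⊆ {1, z} from hcon)
        rw [Finset.card_pair hzne.symm] at this
        omega
      simp only [Finset.mem_insert, Finset.mem_singleton, not_or] at hgn
      have hgz : g * z ∈ S := hmul g z hg hz
      have h4 : ({1, z, g, g * z} : Finset ↥R) ⊆ S := by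
        intro x hx
        simp at hx
        rcases hx with rfl | rfl | rfl | rfl <;> assumption
      have h5 := Finset.card_le_card h4
      rw [Finset.card_insert_of_notMem, Finset.card_insert_of_notMem, Finset.card_pair] at h5
      · omega
      · exact fun h => hzne (mul_left_cancel (a := g) (by rw [mul_one]; exact h.symm))
      · simp only [Finset.mem_insert, Finset.mem_singleton, not_or]
        exact ⟨Ne.symm hgn.2, fun h => hgn.1 (mul_eq_right.1 h.symm)⟩
      · simp only [Finset.mem_insert, Finset.mem_singleton, not_or]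
        exact ⟨hzne.symm, Ne.symm hgn.1, fun h => hgn.2 ((eq_inv_of_mul_eq_one_left h.symm).trans
          (inv_eq_of_mul_eq_one_right hzz))⟩
    rcases Nat.lt_or_ge r 9 with hlt | hge
    · have hp := (Fact.out : r.Prime)
      interval_cases r
      · rcases (show S.card = 3 ∨ S.card = 8 by unfold Nat.ModEq at hmod; omega) with h | h
        · exact (h3 h).elim
        · exact h
      · exact absurd hp (by decide)
      · unfold Nat.ModEq at hmod; omega
      · exact absurd hp (by decide)
    · unfold Nat.ModEq at hmod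
      rw [Nat.mod_eq_of_lt (by omega), Nat.mod_eq_of_lt (by omega : 8 < r)] at hmod
      exact hmod
  have hall : S = Finset.univ := (Finset.card_eq_iff_eq_univ S).1 (hS8.trans hcard.symm)
  intro g hg
  have := (hfix ⟨g, hg⟩).1 (hall ▸ Finset.mem_univ _)
  exact mul_inv_eq_iff_eq_mul.1 this

end Aux

/-- Elements of prime order of PSL_2(p) and the normalizer of a quaternion subgroup. Here `T = PSL_2(F)` for the field `F` with `p` elements, `p ≥ 5` prime; `R` is a subgroup of GL_2(F) isomorphic to the quaternion group of order 8 (an absolutely irreducible 2-group of symplectic type), and `H` is the subgroup of matrices of determinant 1 normalizing `R` — a subgroup of type 2^{1+2}.O₂⁻(2), isomorphic modulo scalars to A₄ or S₄ (maximality is not assumed). Ω is the set of cosets of `H` in `T`, so an element of `T` of prime order `r` (a matrix `x` of determinant 1 with `x^r` scalar, `x` not scalar) fixes a point of Ω exactly when some conjugate of `x` by a matrix of determinant 1 normalizes `R`. Let `r`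 be a prime dividing the index of `H`. Then every element of `T` of order `r` fixes a point of Ω if and only if `r = 2` or `r = 3`. -/
theorem result {F : Type*} [Field F] [Fintype F] {p : ℕ} [Fact p.Prime] [CharP F p] (hF : Fintype.card F = p) (hp : 5 ≤ p)
    (R : Subgroup (GL (Fin 2) F)) (hR : Nonempty (↥R ≃* QuaternionGroup 2))
    (r : ℕ) [Fact r.Prime]
    (hΩ : r ∣ (Cfsg.Geo.subgroupNormalizer R).relIndex (Cfsg.Geo.specialLinear (Fin 2) F)) :
    (∀ x ∈ Cfsg.Geo.specialLinear (Fin 2) F, (∃ z : F, ((x ^ r : GL (Fin 2) F) : Matrix (Fin 2) (Fin 2) F) = z • (1 : Matrix (Fin 2) (Fin 2) F)) →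
      (∀ z : F, (x : Matrix (Fin 2) (Fin 2) F) ≠ z • (1 : Matrix (Fin 2) (Fin 2) F)) →
      ∃ g ∈ Cfsg.Geo.specialLinear (Fin 2) F, g⁻¹ * x * g ∈ Cfsg.Geo.subgroupNormalizer R) ↔ (r = 2 ∨ r = 3) := by
  classical
  have hr := (Fact.out : r.Prime)
  obtain ⟨e⟩ := hR
  have hp2 : (2 : F) ≠ 0 := fun h => by
    have h' : ((2 : ℕ) : F) = 0 := by exact_mod_cast h
    have := Nat.le_of_dvd two_pos ((CharP.cast_eq_zero_iff F p 2).1 h')
    omega
  have h3F : (3 : F) ≠ 0 := fun h => by
    have h' : ((3 : ℕ) : F) = 0 := by exact_mod_cast h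
    have := Nat.le_of_dvd (by omega) ((CharP.cast_eq_zero_iff F p 3).1 h')
    omega
  obtain ⟨q1, q2, q3, q4, q5, -, q7⟩ := quat_facts
  let i : GL (Fin 2) F := (e.symm (QuaternionGroup.a 1) : ↥R)
  let j : GL (Fin 2) F := (e.symm (QuaternionGroup.xa 0) : ↥R)
  let w : GL (Fin 2) F := (e.symm (QuaternionGroup.a 2) : ↥R)
  have hi : i * i = w := by simp only [i, w, ← Subgroup.coe_mul, ← map_mul, q1]
  have hj : j * j = w := by simp only [j, w, ← Subgroup.coe_mul, ← map_mul, q2]
  have hw : w * w = 1 := by simp only [w, ← Subgroup.coe_mul, ← map_mul, q3, map_one, Subgroup.coe_one]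
  have hw1 : w ≠ 1 := fun h => q4 (by
    have h' : e.symm (QuaternionGroup.a 2) = 1 := Subtype.ext h
    simpa using congrArg e h')
  have hji : j * i = w * (i * j) := by simp only [i, j, w, ← Subgroup.coe_mul, ← map_mul, q5]
  obtain ⟨hwv, hins, hij, hitr, hidet⟩ := gens_facts hp2 hi hj hw hw1 hji
  have hiR : i ∈ R := Subtype.prop _
  have hjR : j ∈ R := Subtype.prop _
  have hgen : ∀ g ∈ R, g ∈ Subgroup.closure ({i, j} : Set (GL (Fin 2) F)) := by
    intro g hg
    have hi' : i ∈ Subgroup.closure ({i, j} : Set (GL (Fin 2) F)) := Subgroup.subset_closure (by simp)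
    have hj' : j ∈ Subgroup.closure ({i, j} : Set (GL (Fin 2) F)) := Subgroup.subset_closure (by simp)
    have hg' : g = ((e.symm (e ⟨g, hg⟩) : ↥R) : GL (Fin 2) F) := by simp
    rw [hg']
    rcases q7 (e ⟨g, hg⟩) with h | h | h | h | h | h | h | h <;> rw [h] <;>
      (try simp only [map_one, map_mul, Subgroup.coe_one, Subgroup.coe_mul]) <;>
      first
        | exact one_mem _
        | exact hi'
        | exact mul_mem hi' hi'
        | exact mul_mem (mul_mem hi' hi') hi'
        | exact hj'
        | exact mul_mem hj' hi'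
        | exact mul_mem hj' (mul_mem hi' hi')
        | exact mul_mem hj' (mul_mem (mul_mem hi' hi') hi')
  have hdet_pow : ∀ x ∈ Cfsg.Geo.specialLinear (Fin 2) F, ∀ z : F, ∀ k : ℕ,
      ((x ^ k : GL (Fin 2) F) : Matrix (Fin 2) (Fin 2) F) = z • (1 : Matrix (Fin 2) (Fin 2) F) → z ^ 2 = 1 := by
    intro x hx z k hz
    have h := mem_specialLinear.1 (pow_mem hx k)
    rw [hz] at h
    simpa [Matrix.det_smul] using h
  constructor
  · intro hall
    by_contra hcon
    push Not at hcon
    have hr5 : 5 ≤ r := by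
      have := hr.two_le
      by_contra hlt
      push Not at hlt
      interval_cases r
      · exact hcon.1 rfl
      · exact hcon.2 rfl
      · exact absurd hr (by decide)
    have hdvd : r ∣ Nat.card ↥(Cfsg.Geo.specialLinear (Fin 2) F) :=
      hΩ.trans (Subgroup.index_dvd_card _)
    obtain ⟨⟨x, hx⟩, hxo⟩ := exists_prime_orderOf_dvd_card' r hdvd
    rw [Subgroup.orderOf_mk] at hxo
    have hxr : x ^ r = 1 := by rw [← hxo, pow_orderOf_eq_one]
    have hns : ∀ z : F, (x : Matrix (Fin 2) (Fin 2) F) ≠ z • (1 : Matrix (Fin 2) (Fin 2) F) := by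
      intro z hz
      have hz2 := hdet_pow x hx z 1 (by rw [pow_one]; exact hz)
      have hx2 : x ^ 2 = 1 := Units.ext (by
        rw [Units.val_pow_eq_pow_val, hz, smul_pow, one_pow, hz2, one_smul, Units.val_one])
      have h := orderOf_dvd_of_pow_eq_one hx2
      rw [hxo] at h
      have := Nat.le_of_dvd two_pos h
      omega
    obtain ⟨g, hg, hn⟩ := hall x hx ⟨1, by rw [hxr, one_smul, Units.val_one]⟩ hns
    have hnr : (g⁻¹ * x * g) ^ r = 1 := by
      have h := (MulAut.conj g⁻¹).toMonoidHom.map_pow x r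
      simp [MulAut.conj_apply, hxr] at h
      exact h.symm
    have hfix := fixes_of_normalizes e hr5 hn hnr
    obtain ⟨c, hc⟩ : ∃ c : F, ((g⁻¹ * x * g : GL (Fin 2) F) : Matrix (Fin 2) (Fin 2) F) =
        c • (1 : Matrix (Fin 2) (Fin 2) F) := by
      by_contra hno
      push Not at hno
      refine hij (Units.ext ?_)
      rw [Units.val_mul, Units.val_mul]
      refine comm_of_comm hno ?_ ?_
      · rw [← Units.val_mul, ← Units.val_mul, hfix i hiR]
      · rw [← Units.val_mul, ← Units.val_mul, hfix j hjR]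
    refine hns c ?_
    have hx' : x = g * (g⁻¹ * x * g) * g⁻¹ := by group
    rw [hx', Units.val_mul, Units.val_mul, hc, mul_smul_comm, mul_one, smul_mul_assoc, ← Units.val_mul,
      mul_inv_cancel, Units.val_one]
  · intro hor x hx ⟨z, hz⟩ hns
    have hxd := mem_specialLinear.1 hx
    have hC := cayley (x : Matrix (Fin 2) (Fin 2) F)
    rw [hxd, one_smul] at hC
    have hz2 := hdet_pow x hx z r hz
    rcases hor with rfl | rfl
    · rw [Units.val_pow_eq_pow_val, pow_two, hC] at hz
      have htr : (x : Matrix (Fin 2) (Fin 2) F).trace = 0 := by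
        by_contra hne
        refine hns ((z + 1) / (x : Matrix (Fin 2) (Fin 2) F).trace) ?_
        rw [div_eq_inv_mul, mul_smul, add_smul, one_smul, eq_inv_smul_iff₀ hne]
        linear_combination (norm := module) hz
      obtain ⟨g, hg, hgx⟩ := exists_conj hp2 hns hins hx (mem_specialLinear.2 hidet) (by rw [htr, hitr]) (by
        rw [htr]
        intro h
        have h4 : (2 : F) * 2 = 0 := by linear_combination -h
        exact hp2 (mul_self_eq_zero.1 h4))
      exact ⟨g, hg, hgx ▸ Subgroup.le_normalizer hiR⟩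
    · set t := (x : Matrix (Fin 2) (Fin 2) F).trace with ht
      rw [Units.val_pow_eq_pow_val, pow_succ, pow_two, hC, sub_mul, smul_mul_assoc, hC, one_mul] at hz
      have ht1 : t * t = 1 := by
        by_contra hne
        refine hns ((z + t) / (t * t - 1)) ?_
        rw [div_eq_inv_mul, mul_smul, eq_inv_smul_iff₀ (sub_ne_zero.2 hne)]
        linear_combination (norm := module) hz
      -- the element of order three cycling the generators
      obtain ⟨hwv', hjns, hij', hjtr, hjdet⟩ := gens_facts hp2 hj hi hw hw1 (by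
        rw [hji, ← mul_assoc w, hw, one_mul])
      set I := (i : Matrix (Fin 2) (Fin 2) F) with hI
      set J := (j : Matrix (Fin 2) (Fin 2) F) with hJ
      have hII : I * I = -1 := by rw [hI, ← Units.val_mul, hi, hwv]
      have hJJ : J * J = -1 := by rw [hJ, ← Units.val_mul, hj, hwv]
      have hJI : J * I = -(I * J) := by
        rw [hI, hJ, ← Units.val_mul, hji, Units.val_mul, hwv, Units.val_mul, neg_one_mul]
      set T := 1 + I + J + I * J with hT
      have hIIJ : I * (I * J) = -J := by rw [← mul_assoc, hII, neg_one_mul]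
      have hJIJ : J * (I * J) = I := by rw [← mul_assoc, hJI, neg_mul, mul_assoc, hJJ, mul_neg_one, neg_neg]
      have hTI : T * I = J * T := by
        simp only [hT, add_mul, mul_add, one_mul, mul_one, mul_assoc, hJI, hII, hJJ, hIIJ, hJIJ, mul_neg, neg_neg]
        try simp only [← mul_assoc, hJI, hII, hJJ, neg_mul, mul_assoc, mul_neg, neg_neg, one_mul, mul_one]
        abel
      have hTJ : T * J = I * J * T := by
        simp only [hT, add_mul, mul_add, one_mul, mul_one, mul_assoc, hJI, hII, hJJ, hIIJ, hJIJ, mul_neg, neg_neg]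
        try simp only [← mul_assoc, hJI, hII, hJJ, neg_mul, mul_assoc, mul_neg, neg_neg, one_mul, mul_one]
        abel
      have hTT : T * T = (-4 : F) • 1 + (2 : F) • T := by
        simp only [hT, add_mul, mul_add, one_mul, mul_one, mul_assoc, hJI, hII, hJJ, hIIJ, hJIJ, mul_neg, neg_neg]
        try simp only [← mul_assoc, hJI, hII, hJJ, neg_mul, mul_assoc, mul_neg, neg_neg, one_mul, mul_one]
        module
      let c : F := t / 2
      have hIJtr : (I * J).trace = 0 := by
        have h := Matrix.trace_mul_comm I J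
        rw [hJI, Matrix.trace_neg] at h
        have h' : (2 : F) * (I * J).trace = 0 := by linear_combination h
        exact (mul_eq_zero.1 h').resolve_left hp2
      let Y : Matrix (Fin 2) (Fin 2) F := c • T
      have hYtr : Y.trace = t := by
        simp only [Y, Matrix.trace_smul, hT, Matrix.trace_add, hitr, hjtr, hIJtr, Matrix.trace_one,
          Fintype.card_fin, smul_eq_mul, c]
        push_cast
        field_simp
        ring
      have hTns : ∀ d : F, T ≠ d • (1 : Matrix (Fin 2) (Fin 2) F) := fun d hd => hij (by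
        have h := hTI
        rw [hd, smul_mul_assoc, one_mul, mul_smul_comm, mul_one] at h
        rcases eq_or_ne d 0 with h0 | h0
        · rw [hd, h0, zero_smul, mul_zero, smul_zero, add_zero] at hTT
          have := congrFun (congrFun hTT 0) 0
          simp at this
          exact absurd this (by
            intro h4
            exact hp2 (mul_self_eq_zero.1 (show (2 : F) * 2 = 0 by linear_combination h4)))
        · have hIJ : i = j := Units.ext (smul_right_injective _ h0 h)
          rw [hIJ])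
      have hc0 : c ≠ 0 := fun h => by
        simp only [c, div_eq_zero_iff, hp2, or_false] at h
        rw [h] at ht1
        simp at ht1
      have hYns : ∀ d : F, Y ≠ d • (1 : Matrix (Fin 2) (Fin 2) F) := fun d hd => hTns (d / c) (by
        rw [div_eq_inv_mul, mul_smul, ← hd, smul_smul, inv_mul_cancel₀ hc0, one_smul])
      have hYdet : Y.det = 1 := by
        have h := cayley Y
        rw [hYtr] at h
        have h' : Y * Y = t • Y - (1 : Matrix (Fin 2) (Fin 2) F) := by
          simp only [Y, smul_mul_assoc, mul_smul_comm, hTT, smul_add, smul_smul]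
          rw [show c * (c * -4) = -1 by simp only [c]; field_simp; linear_combination -4 * ht1,
            show c * (c * 2) = t * c by simp only [c]; field_simp]
          module
        rw [h'] at h
        have h2 := congrFun (congrFun h 0) 0
        simp at h2
        exact h2.symm
      let y : GL (Fin 2) F := Matrix.GeneralLinearGroup.mkOfDetNeZero Y (by rw [hYdet]; exact one_ne_zero)
      have hy : (y : Matrix (Fin 2) (Fin 2) F) = Y := rfl
      have hyi : y * i = j * y := Units.ext (by
        rw [Units.val_mul, Units.val_mul, hy]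
        simp only [Y, smul_mul_assoc, mul_smul_comm]
        rw [← hI, ← hJ, hTI])
      have hyj : y * j = i * j * y := Units.ext (by
        rw [Units.val_mul, Units.val_mul, Units.val_mul, hy]
        simp only [Y, smul_mul_assoc, mul_smul_comm]
        rw [← hI, ← hJ, hTJ])
      have hyN : y ∈ Cfsg.Geo.subgroupNormalizer R := by
        haveI : Finite ↥R := Finite.of_equiv _ e.symm.toEquiv
        have hfwd : ∀ g ∈ R, y * g * y⁻¹ ∈ R := by
          intro g hg
          have h : Subgroup.closure ({i, j} : Set (GL (Fin 2) F)) ≤ R.comap (MulAut.conj y).toMonoidHom := by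
            rw [Subgroup.closure_le]
            rintro _ (rfl | rfl)
            · show y * i * y⁻¹ ∈ R
              rwa [hyi, mul_inv_cancel_right]
            · show y * j * y⁻¹ ∈ R
              rw [hyj, mul_inv_cancel_right]
              exact mul_mem hiR hjR
          exact h (hgen g hg)
        refine Subgroup.mem_normalizer_iff.2 fun g => ⟨hfwd g, fun hg => ?_⟩
        let f : ↥R → ↥R := fun g => ⟨y * g.1 * y⁻¹, hfwd g.1 g.2⟩
        have hf : Function.Injective f := fun a b h => Subtype.ext (by simpa [f] using congrArg Subtype.val h)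
        obtain ⟨g', hg'⟩ := Finite.surjective_of_injective hf ⟨_, hg⟩
        have : g'.1 = g := by simpa [f] using congrArg Subtype.val hg'
        exact this ▸ g'.2
      obtain ⟨g, hg, hgx⟩ := exists_conj hp2 hns (Y := y) (by rw [hy]; exact hYns) hx
        (mem_specialLinear.2 (by rw [hy]; exact hYdet)) (by rw [hy, hYtr]) (by
        rw [pow_two, ht1]
        intro h
        exact h3F (by linear_combination -h))
      exact ⟨g, hg, hgx ▸ hyN⟩

end Cfsg.Agent.S5997
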