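import Cfsg.Statements.S5998
import Cfsg.Agent.Lib.Classical.SLOrders
-- import your own Cfsg.Agent.* helpers here

set_option autoImplicit false
open scoped MatrixGroups
open Cfsg Module Matrix

namespace Cfsg.Agent.S5998

section Aux

variable {F : Type*} [Field F]

/-- A matrix whose eigenvectors span is diagonalisable. -/
theorem exists_eigenbasis {M : Matrix (Fin 3) (Fin 3) F} (S : Set F)
    (h : ∀ v, v ∈ Submodule.span F {v : Fin 3 → F | ∃ a ∈ S, M *ᵥ v = a • v}) :
    ∃ (P : GL (Fin 3) F) (w : Fin 3 → F), (∀ i, w i ∈ S) ∧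
      M * (P : Matrix (Fin 3) (Fin 3) F) = (P : Matrix (Fin 3) (Fin 3) F) * Matrix.diagonal w := by
  classical
  obtain ⟨b, hbE, hspan, hli⟩ := exists_linearIndependent F {v : Fin 3 → F | ∃ a ∈ S, M *ᵥ v = a • v}
  let B₀ : Basis b F (Fin 3 → F) := Basis.mk hli (fun v _ => by rw [Subtype.range_coe, hspan]; exact h v)
  haveI : Fintype b := FiniteDimensional.fintypeBasisIndex B₀
  let B := B₀.reindex (Fintype.equivFinOfCardEq (by rw [← Module.finrank_eq_card_basis B₀, Module.finrank_fin_fun]))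
  have hB : ∀ j, ∃ a ∈ S, M *ᵥ B j = a • B j := fun j => by
    simp only [B, B₀, Basis.reindex_apply, Basis.mk_apply]
    exact hbE (Subtype.mem _)
  choose w hw hMw using hB
  let Q : Matrix (Fin 3) (Fin 3) F := Matrix.of fun i j => B j i
  have hQ : IsUnit Q := Matrix.linearIndependent_cols_iff_isUnit.1 B.linearIndependent
  refine ⟨hQ.unit, w, hw, ?_⟩
  rw [IsUnit.unit_spec]
  ext i j
  rw [Matrix.mul_diagonal, show (M * Q) i j = (M *ᵥ B j) i from rfl, hMw, Pi.smul_apply, smul_eq_mul, mul_comm]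
  rfl

theorem eigenspan_two (h2 : (2 : F) ≠ 0) {M : Matrix (Fin 3) (Fin 3) F} (hM : M * M = 1) (v : Fin 3 → F) :
    v ∈ Submodule.span F {v : Fin 3 → F | ∃ a ∈ ({1, -1} : Set F), M *ᵥ v = a • v} := by
  have h1 : (2 : F) • v = (v + M *ᵥ v) + (v - M *ᵥ v) := by rw [two_smul]; abel
  have hMM : M *ᵥ (M *ᵥ v) = v := by rw [Matrix.mulVec_mulVec, hM, Matrix.one_mulVec]
  rw [← inv_smul_smul₀ h2 v, h1]
  refine Submodule.smul_mem _ _ (add_mem (Submodule.subset_span ⟨1, by simp, ?_⟩)
    (Submodule.subset_span ⟨-1, by simp, ?_⟩))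
  · rw [one_smul, Matrix.mulVec_add, hMM, add_comm]
  · rw [neg_one_smul, Matrix.mulVec_sub, hMM, neg_sub]

theorem sum_roots {ω : F} (hω : ω ≠ 1) (hω3 : ω ^ 3 = 1) : 1 + ω + ω ^ 2 = 0 := by
  refine (mul_eq_zero.1 (show (ω - 1) * (1 + ω + ω ^ 2) = 0 by linear_combination hω3)).resolve_left ?_
  exact sub_ne_zero.2 hω

theorem eigenspan_three {ω : F} (h3 : (3 : F) ≠ 0) (hω : ω ≠ 1) (hω3 : ω ^ 3 = 1) {M : Matrix (Fin 3) (Fin 3) F}
    (hM : M ^ 3 = 1) (v : Fin 3 → F) :
    v ∈ Submodule.span F {v : Fin 3 → F | ∃ a ∈ {a : F | a ^ 3 = 1}, M *ᵥ v = a • v} := by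
  have hMM : M *ᵥ (M *ᵥ (M *ᵥ v)) = v := by
    rw [Matrix.mulVec_mulVec, Matrix.mulVec_mulVec, show M * M * M = M ^ 3 by rw [pow_succ, pow_two], hM,
      Matrix.one_mulVec]
  have hs := sum_roots hω hω3
  have h1 : (3 : F) • v = (v + M *ᵥ v + M *ᵥ (M *ᵥ v)) + ((v + ω ^ 2 • (M *ᵥ v) + ω • (M *ᵥ (M *ᵥ v))) +
      (v + ω • (M *ᵥ v) + ω ^ 2 • (M *ᵥ (M *ᵥ v)))) := by
    funext i
    simp only [Pi.add_apply, Pi.smul_apply, smul_eq_mul]
    linear_combination (- ((M *ᵥ v) i) - (M *ᵥ (M *ᵥ v)) i) * hs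
  rw [← inv_smul_smul₀ h3 v, h1]
  refine Submodule.smul_mem _ _ (add_mem (Submodule.subset_span ⟨1, ?_, ?_⟩)
    (add_mem (Submodule.subset_span ⟨ω, hω3, ?_⟩) (Submodule.subset_span ⟨ω ^ 2, ?_, ?_⟩)))
  · exact one_pow 3
  · rw [one_smul, Matrix.mulVec_add, Matrix.mulVec_add, hMM]; abel
  · rw [Matrix.mulVec_add, Matrix.mulVec_add, Matrix.mulVec_smul, Matrix.mulVec_smul, hMM]
    funext i
    simp only [Pi.add_apply, Pi.smul_apply, smul_eq_mul]
    linear_combination (- ((M *ᵥ v) i)) * hω3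
  · show (ω ^ 2) ^ 3 = 1
    rw [← pow_mul, mul_comm, pow_mul, hω3, one_pow]
  · rw [Matrix.mulVec_add, Matrix.mulVec_add, Matrix.mulVec_smul, Matrix.mulVec_smul, hMM]
    funext i
    simp only [Pi.add_apply, Pi.smul_apply, smul_eq_mul]
    linear_combination (- ((M *ᵥ v) i) - ω * (M *ᵥ (M *ᵥ v)) i) * hω3

theorem mem_sl {g : GL (Fin 3) F} :
    g ∈ Cfsg.Geo.specialLinear (Fin 3) F ↔ (g : Matrix (Fin 3) (Fin 3) F).det = 1 := by
  rw [Cfsg.Geo.specialLinear, MonoidHom.mem_ker, Units.ext_iff]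
  rfl

/-- Two elements with the same diagonal form are conjugate in `SL₃`. -/
theorem exists_sl_conj {x y P P' : GL (Fin 3) F} {w : Fin 3 → F}
    (hx : (x : Matrix (Fin 3) (Fin 3) F) * P = (P : Matrix (Fin 3) (Fin 3) F) * Matrix.diagonal w)
    (hy : (y : Matrix (Fin 3) (Fin 3) F) * P' = (P' : Matrix (Fin 3) (Fin 3) F) * Matrix.diagonal w) :
    ∃ g ∈ Cfsg.Geo.specialLinear (Fin 3) F, g⁻¹ * x * g = y := by
  classical
  let t : F := (P' : Matrix (Fin 3) (Fin 3) F).det / (P : Matrix (Fin 3) (Fin 3) F).det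
  have hP : (P : Matrix (Fin 3) (Fin 3) F).det ≠ 0 := (Matrix.GeneralLinearGroup.det P).ne_zero
  have hP' : (P' : Matrix (Fin 3) (Fin 3) F).det ≠ 0 := (Matrix.GeneralLinearGroup.det P').ne_zero
  have hd : (Matrix.diagonal ![t, 1, 1]).det = t := by simp [Matrix.det_diagonal, Fin.prod_univ_three]
  let D : GL (Fin 3) F := Matrix.GeneralLinearGroup.mkOfDetNeZero (Matrix.diagonal ![t, 1, 1])
    (by rw [hd]; exact div_ne_zero hP' hP)
  refine ⟨P * D * P'⁻¹, mem_sl.2 ?_, ?_⟩
  · rw [Units.val_mul, Units.val_mul, Matrix.det_mul, Matrix.det_mul,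
      show (D : Matrix (Fin 3) (Fin 3) F).det = t from hd]
    have h1 : (P' : Matrix (Fin 3) (Fin 3) F).det * ((P'⁻¹ : GL (Fin 3) F) : Matrix (Fin 3) (Fin 3) F).det = 1 := by
      rw [← Matrix.det_mul, ← Units.val_mul, mul_inv_cancel, Units.val_one, Matrix.det_one]
    simp only [t]
    field_simp
    linear_combination h1
  · have hc : x * (P * D * P'⁻¹) = P * D * P'⁻¹ * y := by
      have hPi : ((P'⁻¹ : GL (Fin 3) F) : Matrix (Fin 3) (Fin 3) F) * P' = 1 := by
        rw [← Units.val_mul, inv_mul_cancel, Units.val_one]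
      have hD : Matrix.diagonal w * (D : Matrix (Fin 3) (Fin 3) F) = (D : Matrix (Fin 3) (Fin 3) F) * Matrix.diagonal w := by
        show Matrix.diagonal w * Matrix.diagonal ![t, 1, 1] = Matrix.diagonal ![t, 1, 1] * Matrix.diagonal w
        rw [Matrix.diagonal_mul_diagonal, Matrix.diagonal_mul_diagonal]
        simp only [mul_comm]
      refine Units.ext (P'.isUnit.mul_right_cancel ?_)
      simp only [Units.val_mul, Matrix.mul_assoc]
      rw [hPi, Matrix.mul_one, hy, ← Matrix.mul_assoc (x : Matrix (Fin 3) (Fin 3) F), hx, Matrix.mul_assoc, hD,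
        ← Matrix.mul_assoc ((P'⁻¹ : GL (Fin 3) F) : Matrix (Fin 3) (Fin 3) F), hPi, Matrix.one_mul]
    rw [mul_assoc, hc, inv_mul_cancel_left]

/-- The standard form of an extraspecial group of order 27 and exponent 3. -/
theorem exists_std [Fintype F] {R : Subgroup (GL (Fin 3) F)} (hR : Nat.card R = 27) (hRe : Monoid.exponent R = 3)
    (hRna : ¬ IsMulCommutative R) {ω₀ : F} (hω₀ : ω₀ ≠ 1) (hω₀3 : ω₀ ^ 3 = 1) :
    ∃ (ω : F) (Q A B C : GL (Fin 3) F), ω ≠ 1 ∧ ω ^ 3 = 1 ∧ A ∈ R ∧ B ∈ R ∧ C ∈ R ∧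
      (C : Matrix (Fin 3) (Fin 3) F) = ω • 1 ∧
      (A : Matrix (Fin 3) (Fin 3) F) * Q = (Q : Matrix (Fin 3) (Fin 3) F) * Matrix.diagonal ![1, ω, ω ^ 2] ∧
      (B : Matrix (Fin 3) (Fin 3) F) * (Q : Matrix (Fin 3) (Fin 3) F) = (Q : Matrix (Fin 3) (Fin 3) F) * !![0, 0, 1; 1, 0, 0; 0, 1, 0] ∧
      ∀ r ∈ R, ∃ i j k : ℕ, r = C ^ i * A ^ j * B ^ k := by
  classical
  haveI : Fact (Nat.Prime 3) := ⟨Nat.prime_three⟩
  have hpow : ∀ a : GL (Fin 3) F, a ∈ R → a ^ 3 = 1 := fun a ha => by
    have := Monoid.pow_exponent_eq_one (⟨a, ha⟩ : R)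
    rw [hRe] at this
    simpa [Subtype.ext_iff] using this
  have hP : IsPGroup 3 R := IsPGroup.of_card (show Nat.card R = 3 ^ 3 by rw [hR]; norm_num)
  obtain ⟨a, b, hab⟩ : ∃ a b : R, a * b ≠ b * a := by
    by_contra h
    push Not at h
    exact hRna ⟨⟨h⟩⟩
  have hc : a * b * a⁻¹ * b⁻¹ ∈ Subgroup.center R := by
    haveI : Nontrivial R := nontrivial_of_ne _ _ hab
    have hq : ∀ u v : R ⧸ Subgroup.center R, u * v = v * u := by
      haveI := hP.center_nontrivial
      obtain ⟨k, hk⟩ := IsPGroup.iff_card.1 (hP.to_quotient (Subgroup.center R))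
      have h27 := Subgroup.card_eq_card_quotient_mul_card_subgroup (Subgroup.center R)
      have hz : 1 < Nat.card (Subgroup.center R) := Finite.one_lt_card
      rw [hR, hk] at h27
      have hk2 : k ≤ 2 := by
        by_contra hgt
        have : 3 ^ 3 ≤ 3 ^ k := Nat.pow_le_pow_right (by omega) (by omega)
        nlinarith
      interval_cases k
      · haveI : Subsingleton (R ⧸ Subgroup.center R) := (Nat.card_eq_one_iff_unique.1 (by simpa using hk)).1
        exact fun u v => Subsingleton.elim _ _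
      · haveI : IsCyclic (R ⧸ Subgroup.center R) := isCyclic_of_prime_card (p := 3) (by simpa using hk)
        exact fun u v => IsCyclic.isMulCommutative.is_comm.comm u v
      · exact IsPGroup.commutative_of_card_eq_prime_sq (p := 3) hk
    rw [← QuotientGroup.eq_one_iff, QuotientGroup.mk_mul, QuotientGroup.mk_mul, QuotientGroup.mk_mul,
      QuotientGroup.mk_inv, QuotientGroup.mk_inv, hq (a : R ⧸ Subgroup.center R), mul_inv_cancel_right,
      mul_inv_cancel]
  obtain ⟨C, hCR⟩ : ∃ C : GL (Fin 3) F, C = ((a * b * a⁻¹ * b⁻¹ : R) : GL (Fin 3) F) := ⟨_, rfl⟩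
  have hC : C ∈ R := by rw [hCR]; exact Subtype.mem _
  have hCne : C ≠ 1 := by
    rw [hCR, ne_eq, OneMemClass.coe_eq_one]
    intro h
    exact hab (by rwa [mul_inv_eq_one, mul_inv_eq_iff_eq_mul] at h)
  have hCcomm : ∀ r ∈ R, C * r = r * C := fun r hr => by
    rw [hCR]
    exact (congrArg Subtype.val (Subgroup.mem_center_iff.1 hc ⟨r, hr⟩)).symm
  set A : GL (Fin 3) F := a.1 with hA
  set B₀ : GL (Fin 3) F := b.1 with hB₀
  have hAB : A * B₀ = C * B₀ * A := by
    rw [hCR]
    show A * B₀ = A * B₀ * A⁻¹ * B₀⁻¹ * B₀ * A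
    group
  -- the commutator is scalar
  obtain ⟨ω, hω, hω3, hCω⟩ : ∃ ω : F, ω ≠ 1 ∧ ω ^ 3 = 1 ∧ (C : Matrix (Fin 3) (Fin 3) F) = ω • 1 := by
    have hC3 : (C : Matrix (Fin 3) (Fin 3) F) ^ 3 = 1 := by rw [← Units.val_pow_eq_pow_val, hpow _ hC, Units.val_one]
    have h3 : (3 : F) ≠ 0 := fun h => by
      refine hω₀ ?_
      have h0 : (ω₀ - 1) ^ 3 = 0 := by linear_combination hω₀3 + (ω₀ - ω₀ ^ 2) * h
      exact sub_eq_zero.1 ((pow_eq_zero_iff (n := 3) (by omega)).1 h0)
    obtain ⟨P, w, hw, hCP⟩ := exists_eigenbasis _ (eigenspan_three h3 hω₀ hω₀3 hC3)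
    obtain ⟨i₀, hi₀⟩ : ∃ i, w i ≠ 1 := by
      by_contra h
      push Not at h
      apply hCne
      rw [show w = 1 from funext h, show Matrix.diagonal (1 : Fin 3 → F) = 1 from Matrix.diagonal_one,
        Matrix.mul_one, ← Units.val_mul] at hCP
      exact mul_eq_right.1 (Units.ext hCP)
    set ω := w i₀ with hωdef
    refine ⟨ω, hi₀, hw i₀, ?_⟩
    let L := fun g : GL (Fin 3) F => Matrix.toLin' (g : Matrix (Fin 3) (Fin 3) F)
    let W := Module.End.eigenspace (L C) ω
    have hWinv : ∀ r ∈ R, ∀ u ∈ W, L r u ∈ W := fun r hr u hu => by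
      rw [Module.End.mem_eigenspace_iff] at hu ⊢
      have := congrArg Units.val (hCcomm r hr)
      rw [Units.val_mul, Units.val_mul] at this
      simp only [L, Matrix.toLin'_apply] at hu ⊢
      rw [Matrix.mulVec_mulVec, this, ← Matrix.mulVec_mulVec, hu, Matrix.mulVec_smul]
    let rA : Module.End F W := (L A).restrict (hWinv A a.2)
    let rB : Module.End F W := (L B₀).restrict (hWinv B₀ b.2)
    have hrel : rA * rB = ω • (rB * rA) := by
      refine LinearMap.ext fun u => Subtype.ext ?_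
      show L A (L B₀ u) = ω • L B₀ (L A u)
      have h := congrArg Units.val hAB
      rw [Units.val_mul, Units.val_mul, Units.val_mul] at h
      simp only [L, Matrix.toLin'_apply]
      rw [Matrix.mulVec_mulVec, h, ← Matrix.mulVec_mulVec, ← Matrix.mulVec_mulVec]
      exact Module.End.mem_eigenspace_iff.1 (hWinv B₀ b.2 _ (hWinv A a.2 u u.2))
    have hr1 : ∀ g (hg : g ∈ R), LinearMap.det ((L g).restrict (hWinv g hg)) ≠ 0 := fun g hg h0 => by
      have h3 : ((L g).restrict (hWinv g hg)) ^ 3 = 1 := by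
        refine LinearMap.ext fun u => Subtype.ext ?_
        show L g (L g (L g u)) = u
        have h := congrArg Units.val (hpow g hg)
        rw [Units.val_pow_eq_pow_val, pow_succ', pow_two, Units.val_one] at h
        simp only [L, Matrix.toLin'_apply, Matrix.mulVec_mulVec, h, Matrix.one_mulVec]
      have := congrArg LinearMap.det h3
      rw [map_pow, map_one, h0, zero_pow (by omega)] at this
      exact zero_ne_one this
    have hdim : finrank F W = 3 := by
      have h := congrArg LinearMap.det hrel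
      rw [LinearMap.det_smul, map_mul, map_mul, mul_comm (LinearMap.det rB)] at h
      have h1 : ω ^ finrank F W = 1 := by
        refine mul_right_cancel₀ (mul_ne_zero (hr1 A a.2) (hr1 B₀ b.2)) ?_
        rw [one_mul]
        exact h.symm
      have hle : finrank F W ≤ 3 := (Submodule.finrank_le W).trans (Module.finrank_fin_fun F).le
      have hpos : W ≠ ⊥ := fun hb => by
        have hv : (P : Matrix (Fin 3) (Fin 3) F) *ᵥ Pi.single i₀ 1 ∈ W := by
          rw [Module.End.mem_eigenspace_iff]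
          show (C : Matrix (Fin 3) (Fin 3) F) *ᵥ _ = _
          rw [Matrix.mulVec_mulVec, hCP, ← Matrix.mulVec_mulVec, ← Matrix.mulVec_smul]
          congr 1
          ext i
          rw [Matrix.mulVec_diagonal]
          rcases eq_or_ne i i₀ with rfl | hi <;> simp [hωdef, *]
        rw [hb, Submodule.mem_bot] at hv
        have := Matrix.mulVec_injective_iff_isUnit.2 P.isUnit (hv.trans (Matrix.mulVec_zero _).symm)
        simpa using congrFun this i₀
      have hpos' : finrank F W ≠ 0 := fun h0 => hpos (Submodule.finrank_eq_zero.1 h0)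
      rcases (by omega : finrank F W = 1 ∨ finrank F W = 2 ∨ finrank F W = 3) with h2 | h2 | h2
      · rw [h2, pow_one] at h1; exact absurd h1 hi₀
      · rw [h2] at h1
        have hw3 : ω ^ 3 = 1 := hw i₀
        exact absurd (by linear_combination hw3 - ω * h1) hi₀
      · exact h2
    refine Matrix.ext_of_mulVec_single fun i => ?_
    have htop : W = ⊤ := Submodule.eq_top_of_finrank_eq (by rw [hdim, Module.finrank_fin_fun])
    rw [Matrix.smul_mulVec, Matrix.one_mulVec]
    exact Module.End.mem_eigenspace_iff.1 (htop ▸ Submodule.mem_top : Pi.single i 1 ∈ W)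
  have h3 : (3 : F) ≠ 0 := fun h => by
    refine hω ?_
    have h0 : (ω - 1) ^ 3 = 0 := by linear_combination hω3 + (ω - ω ^ 2) * h
    exact sub_eq_zero.1 ((pow_eq_zero_iff (n := 3) (by omega)).1 h0)
  have hM : ∀ {g h : GL (Fin 3) F} (v : Fin 3 → F), ((g * h : GL (Fin 3) F) : Matrix (Fin 3) (Fin 3) F) *ᵥ v =
      (g : Matrix (Fin 3) (Fin 3) F) *ᵥ ((h : Matrix (Fin 3) (Fin 3) F) *ᵥ v) := fun {g h} v => by
    rw [Units.val_mul, Matrix.mulVec_mulVec]
  -- a fixed vector of the first generator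
  obtain ⟨v, hv0, α, hα, hv⟩ : ∃ v : Fin 3 → F, v ≠ 0 ∧ ∃ α : F, α ^ 3 = 1 ∧
      (A : Matrix (Fin 3) (Fin 3) F) *ᵥ v = α • v := by
    obtain ⟨P, w, hw, hAP⟩ := exists_eigenbasis _ (eigenspan_three h3 hω hω3
      (M := (A : Matrix (Fin 3) (Fin 3) F)) (by rw [← Units.val_pow_eq_pow_val, hpow A a.2, Units.val_one]))
    refine ⟨(P : Matrix (Fin 3) (Fin 3) F) *ᵥ Pi.single 0 1, fun h => ?_, w 0, hw 0, ?_⟩
    · simpa using congrFun (Matrix.mulVec_injective_iff_isUnit.2 P.isUnit (h.trans (Matrix.mulVec_zero _).symm)) 0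
    · rw [Matrix.mulVec_mulVec, hAP, ← Matrix.mulVec_mulVec, ← Matrix.mulVec_smul]
      congr 1
      ext i
      rw [Matrix.mulVec_diagonal]
      fin_cases i <;> simp
  let V : ℕ → Fin 3 → F := fun l => ((B₀ ^ l : GL (Fin 3) F) : Matrix (Fin 3) (Fin 3) F) *ᵥ v
  have hstep : ∀ u (β : F), (A : Matrix (Fin 3) (Fin 3) F) *ᵥ u = β • u →
      (A : Matrix (Fin 3) (Fin 3) F) *ᵥ ((B₀ : Matrix (Fin 3) (Fin 3) F) *ᵥ u) =
        (β * ω) • ((B₀ : Matrix (Fin 3) (Fin 3) F) *ᵥ u) := fun u β hu => by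
    rw [← hM, hAB, hM, hM, hu, Matrix.mulVec_smul, hCω, Matrix.smul_mulVec, Matrix.one_mulVec, smul_smul,
      mul_comm β ω]
  have hV : ∀ l, (A : Matrix (Fin 3) (Fin 3) F) *ᵥ V l = (α * ω ^ l) • V l := by
    intro l
    induction l with
    | zero => simpa [V] using hv
    | succ l ih =>
      have : V (l + 1) = (B₀ : Matrix (Fin 3) (Fin 3) F) *ᵥ V l := by simp only [V, pow_succ', hM]
      rw [this, hstep _ _ ih, pow_succ, mul_assoc]
  obtain ⟨j₀, hj₀⟩ : ∃ j₀ : ℕ, α * ω ^ j₀ = 1 := by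
    have hs := sum_roots hω hω3
    have : (α - 1) * ((α - ω) * (α - ω ^ 2)) = 0 := by
      linear_combination hα + (α - 1) * hω3 + (α - α ^ 2) * hs
    rcases mul_eq_zero.1 this with h | h
    · exact ⟨0, by linear_combination h⟩
    rcases mul_eq_zero.1 h with h | h
    · exact ⟨2, by linear_combination ω ^ 2 * h + hω3⟩
    · exact ⟨1, by linear_combination ω * h + hω3⟩
  let W : Fin 3 → Fin 3 → F := fun l => V (j₀ + l)
  have hW : ∀ l : Fin 3, (A : Matrix (Fin 3) (Fin 3) F) *ᵥ W l = ω ^ (l : ℕ) • W l := fun l => by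
    simp only [W]
    rw [hV, pow_add, ← mul_assoc, hj₀, one_mul]
  have hW0 : ∀ l, W l ≠ 0 := fun l h => hv0 (by
    exact Matrix.mulVec_injective_iff_isUnit.2 (B₀ ^ (j₀ + (l : ℕ))).isUnit (h.trans (Matrix.mulVec_zero _).symm))
  have hinj : Function.Injective fun l : Fin 3 => ω ^ (l : ℕ) := fun l l' h => by
    have hord : orderOf ω = 3 := orderOf_eq_prime hω3 hω
    exact Fin.ext (pow_injOn_Iio_orderOf (by simp [hord]) (by simp [hord]) h)
  have hli : LinearIndependent F W :=
    Module.End.eigenvectors_linearIndependent' (Matrix.toLin' (A : Matrix (Fin 3) (Fin 3) F))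
      (fun l : Fin 3 => ω ^ (l : ℕ)) hinj W fun l => ⟨Module.End.mem_eigenspace_iff.2 (hW l), hW0 l⟩
  let Q₀ : Matrix (Fin 3) (Fin 3) F := Matrix.of fun i l => W l i
  have hQ₀ : IsUnit Q₀ := Matrix.linearIndependent_cols_iff_isUnit.1 hli
  have hcol : ∀ (M : Matrix (Fin 3) (Fin 3) F) (i l : Fin 3), (M * Q₀) i l = (M *ᵥ W l) i := fun M i l => rfl
  have hper : ∀ l, V (l + 3) = V l := fun l => by
    simp only [V]
    rw [pow_add, hpow B₀ b.2, mul_one]
  have hBW : ∀ l : Fin 3, (B₀ : Matrix (Fin 3) (Fin 3) F) *ᵥ W l = W (l + 1) := fun l => by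
    have h : (B₀ : Matrix (Fin 3) (Fin 3) F) *ᵥ W l = V (j₀ + l + 1) := by
      simp only [W, V, pow_succ', hM]
    rw [h]
    fin_cases l
    · rfl
    · rfl
    · exact hper j₀
  refine ⟨ω, hQ₀.unit, A, B₀, C, hω, hω3, a.2, b.2, hC, hCω, ?_, ?_, ?_⟩
  · ext i l
    rw [IsUnit.unit_spec, hcol, hW, Matrix.mul_diagonal, Pi.smul_apply, smul_eq_mul, mul_comm]
    fin_cases l <;> simp [Q₀]
  · ext i l
    rw [IsUnit.unit_spec, hcol, hBW, Matrix.mul_apply, Fin.sum_univ_three]
    fin_cases l <;> simp [Q₀]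
  · intro r hr
    let Φ : Fin 3 × Fin 3 × Fin 3 → R := fun t =>
      ⟨C ^ (t.1 : ℕ) * A ^ (t.2.1 : ℕ) * B₀ ^ (t.2.2 : ℕ),
        R.mul_mem (R.mul_mem (R.pow_mem hC _) (R.pow_mem a.2 _)) (R.pow_mem b.2 _)⟩
    have hA' : ∀ (m : ℕ) (l : ℕ), ((A ^ m : GL (Fin 3) F) : Matrix (Fin 3) (Fin 3) F) *ᵥ V (j₀ + l) =
        ω ^ (m * l) • V (j₀ + l) := fun m l => by
      induction m with
      | zero => simp
      | succ m ih =>
        rw [pow_succ', hM, ih, Matrix.mulVec_smul, hV, pow_add, ← mul_assoc, hj₀, one_mul, smul_smul, ← pow_add,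
          Nat.succ_mul]
    have hC' : ∀ (m : ℕ) u, ((C ^ m : GL (Fin 3) F) : Matrix (Fin 3) (Fin 3) F) *ᵥ u = ω ^ m • u := fun m u => by
      induction m with
      | zero => simp
      | succ m ih =>
        rw [pow_succ', hM, ih, hCω, Matrix.smul_mulVec, Matrix.one_mulVec, smul_smul, pow_succ']
    have hact : ∀ (i m k l : ℕ), ((C ^ i * A ^ m * B₀ ^ k : GL (Fin 3) F) : Matrix (Fin 3) (Fin 3) F) *ᵥ V (j₀ + l) =
        ω ^ (i + m * (k + l)) • V (j₀ + (k + l)) := fun i m k l => by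
      have : ((B₀ ^ k : GL (Fin 3) F) : Matrix (Fin 3) (Fin 3) F) *ᵥ V (j₀ + l) = V (j₀ + (k + l)) := by
        simp only [V, ← hM, ← pow_add]
        congr 3
        omega
      rw [hM, hM, this, hA', Matrix.mulVec_smul, hC', smul_smul, ← pow_add, Nat.add_comm]
    have hΦ : Function.Injective Φ := by
      rintro ⟨i, m, k⟩ ⟨i', m', k'⟩ h
      have h' : (C ^ (i : ℕ) * A ^ (m : ℕ) * B₀ ^ (k : ℕ) : GL (Fin 3) F) =
          C ^ (i' : ℕ) * A ^ (m' : ℕ) * B₀ ^ (k' : ℕ) := congrArg Subtype.val h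
      have e0 := congrArg (fun g : GL (Fin 3) F => (g : Matrix (Fin 3) (Fin 3) F) *ᵥ V (j₀ + 0)) h'
      simp only [hact] at e0
      have hk : k = k' := by
        by_contra hne
        have e0' : ω ^ ((i : ℕ) + m * (k + 0)) • W k = ω ^ ((i' : ℕ) + m' * (k' + 0)) • W k' := e0
        have h2 := congrArg (fun u => (A : Matrix (Fin 3) (Fin 3) F) *ᵥ u) e0'
        simp only [Matrix.mulVec_smul, hW] at h2
        rw [smul_comm _ (ω ^ (k' : ℕ)), ← e0', smul_smul, smul_smul] at h2
        have h3 := smul_left_injective F (hW0 k) h2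
        rw [mul_comm] at h3
        exact hne (hinj (mul_right_cancel₀ (pow_ne_zero _ fun h => by simp [h] at hω3) h3))
      subst hk
      have e1 := congrArg (fun g : GL (Fin 3) F => (g : Matrix (Fin 3) (Fin 3) F) *ᵥ V (j₀ + 1)) h'
      simp only [hact] at e1
      have hω0 : ω ≠ 0 := fun h => by simp [h] at hω3
      have hVne : ∀ l, V l ≠ 0 := fun l hl => hv0 (Matrix.mulVec_injective_iff_isUnit.2 (B₀ ^ l).isUnit
        (hl.trans (Matrix.mulVec_zero _).symm))
      have f0 := smul_left_injective F (hVne _) e0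
      have f1 := smul_left_injective F (hVne _) e1
      simp only [mul_add, mul_one, mul_zero, add_zero, ← add_assoc] at f0 f1
      rw [pow_add _ _ (m : ℕ), pow_add _ _ (m' : ℕ), f0] at f1
      obtain rfl : m = m' := hinj (mul_left_cancel₀ (pow_ne_zero _ hω0) f1)
      rw [pow_add, pow_add] at f0
      obtain rfl : i = i' := hinj (mul_right_cancel₀ (pow_ne_zero _ hω0) f0)
      rfl
    have hsurj := ((Fintype.bijective_iff_injective_and_card Φ).2 ⟨hΦ, by
      rw [← Nat.card_eq_fintype_card (α := R), hR]; simp⟩).2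
    obtain ⟨⟨i, m, k⟩, h⟩ := hsurj ⟨r, hr⟩
    exact ⟨i, m, k, (congrArg Subtype.val h).symm⟩

end Aux

/-- Elements of prime order of PSL_3(p), p ≡ 1 (mod 3), and the normalizer of an extraspecial subgroup of order 27. Here `T = PSL_3(F)` for the field `F` with `p` elements, `p` a prime with `p ≡ 1 (mod 3)`; `R` is a non-abelian subgroup of GL_3(F) of order 27 and exponent 3 (an extraspecial group 3^{1+2}, acting absolutely irreducibly), and `H` is the subgroup of matrices of determinant 1 normalizing `R` — a subgroup of type 3^{1+2}.Sp₂(3) (maximality is not assumed). Ω is the set of cosets of `H` in `T`, so an element of `T` of prime order `r` (a matrix `x` of determinant 1 with `x^r` scalar, `x` not scalar) fixes a point of Ω exactly when some conjugate of `x` by a matrix of determinant 1 normalizes `R`. Let `r` be a prime dividing the index of `H`. Then every element of `T` of order `r` fixes a point of Ω if and only if `r = 2`, or `r = 3` and `p ≡ 1 (mod 9)`.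 -/
theorem result {F : Type*} [Field F] [Fintype F] {p : ℕ} [Fact p.Prime] [CharP F p] (hF : Fintype.card F = p) (hp3 : p % 3 = 1)
    (R : Subgroup (GL (Fin 3) F)) (hR : Nat.card R = 27) (hRe : Monoid.exponent R = 3) (hRna : ¬ IsMulCommutative R)
    (r : ℕ) [Fact r.Prime]
    (hΩ : r ∣ (Cfsg.Geo.subgroupNormalizer R).relIndex (Cfsg.Geo.specialLinear (Fin 3) F)) :
    (∀ x ∈ Cfsg.Geo.specialLinear (Fin 3) F, (∃ z : F, ((x ^ r : GL (Fin 3) F) : Matrix (Fin 3) (Fin 3) F) = z • (1 : Matrix (Fin 3) (Fin 3) F)) →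
      (∀ z : F, (x : Matrix (Fin 3) (Fin 3) F) ≠ z • (1 : Matrix (Fin 3) (Fin 3) F)) →
      ∃ g ∈ Cfsg.Geo.specialLinear (Fin 3) F, g⁻¹ * x * g ∈ Cfsg.Geo.subgroupNormalizer R) ↔ (r = 2 ∨ (r = 3 ∧ p % 9 = 1)) := by
  classical
  have hp2 := (Fact.out : p.Prime).two_le
  have hp7 : 7 ≤ p := by
    have h4 : p ≠ 4 := fun h => by
      have := (Fact.out : p.Prime)
      rw [h] at this
      exact absurd this (by norm_num)
    omega
  have hu : Nat.card Fˣ = p - 1 := by rw [Nat.card_units, Nat.card_eq_fintype_card, hF]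
  obtain ⟨ω₀, hω₀, hω₀3⟩ : ∃ ω : F, ω ≠ 1 ∧ ω ^ 3 = 1 := by
    obtain ⟨u, hu'⟩ := exists_prime_orderOf_dvd_card' (G := Fˣ) 3 (hp := ⟨Nat.prime_three⟩) (by rw [hu]; omega)
    refine ⟨u, fun h => ?_, by rw [← Units.val_pow_eq_pow_val, ← hu', pow_orderOf_eq_one, Units.val_one]⟩
    rw [Units.val_eq_one] at h
    rw [h, orderOf_one] at hu'
    omega
  obtain ⟨ω, Q, A, B, C, hω, hω3, hAR, hBR, hCR, hC, hA, hB, hall⟩ := exists_std hR hRe hRna hω₀ hω₀3
  have hs := sum_roots hω hω3
  have hω0 : ω ≠ 0 := fun h => by simp [h] at hω3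
  have hCc : ∀ g : GL (Fin 3) F, g * C = C * g := fun g => Units.ext (by
    rw [Units.val_mul, Units.val_mul, hC, Matrix.mul_smul, Matrix.mul_one, Matrix.smul_mul, Matrix.one_mul])
  have hN : ∀ g : GL (Fin 3) F, g * A * g⁻¹ ∈ R → g * B * g⁻¹ ∈ R → g ∈ Cfsg.Geo.subgroupNormalizer R := by
    intro g h1 h2
    have hle : ∀ r ∈ R, g * r * g⁻¹ ∈ R := fun r hr => by
      obtain ⟨i, j, k, rfl⟩ := hall r hr
      rw [show g * (C ^ i * A ^ j * B ^ k) * g⁻¹ = (g * C * g⁻¹) ^ i * (g * A * g⁻¹) ^ j * (g * B * g⁻¹) ^ k by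
        rw [conj_pow, conj_pow, conj_pow]; group, hCc, mul_inv_cancel_right]
      exact R.mul_mem (R.mul_mem (R.pow_mem hCR _) (R.pow_mem h1 _)) (R.pow_mem h2 _)
    refine Subgroup.mem_normalizer_iff.2 fun r => ⟨hle r, fun hr => ?_⟩
    let f : R → R := fun u => ⟨g * u * g⁻¹, hle _ u.2⟩
    have hf : Function.Injective f := fun u v h => Subtype.ext
      (mul_left_cancel (mul_right_cancel (congrArg Subtype.val h)))
    obtain ⟨u, hu⟩ := Finite.surjective_of_injective hf ⟨_, hr⟩
    have h' : g * (u : GL (Fin 3) F) * g⁻¹ = g * r * g⁻¹ := congrArg Subtype.val hu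
    rw [mul_left_inj, mul_right_inj] at h'
    exact h' ▸ u.2
  have hmemR : ∀ (i j k : ℕ), C ^ i * A ^ j * B ^ k ∈ R := fun i j k =>
    R.mul_mem (R.mul_mem (R.pow_mem hCR _) (R.pow_mem hAR _)) (R.pow_mem hBR _)
  -- membership through the standard coordinates
  have hQN : ∀ (g : GL (Fin 3) F) (M XA XB : Matrix (Fin 3) (Fin 3) F) (i j k i' j' k' : ℕ),
      (g : Matrix (Fin 3) (Fin 3) F) * Q = (Q : Matrix (Fin 3) (Fin 3) F) * M →
      M * Matrix.diagonal ![1, ω, ω ^ 2] = XA * M → M * !![0, 0, 1; 1, 0, 0; 0, 1, 0] = XB * M →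
      XA = ω ^ i • (Matrix.diagonal ![1, ω, ω ^ 2] ^ j * !![0, 0, 1; 1, 0, 0; 0, 1, 0] ^ k) →
      XB = ω ^ i' • (Matrix.diagonal ![1, ω, ω ^ 2] ^ j' * !![0, 0, 1; 1, 0, 0; 0, 1, 0] ^ k') →
      g ∈ Cfsg.Geo.subgroupNormalizer R := by
    intro g M XA XB i j k i' j' k' hg h1 h2 h3 h4
    have hpow : ∀ (T : GL (Fin 3) F) (N : Matrix (Fin 3) (Fin 3) F),
        (T : Matrix (Fin 3) (Fin 3) F) * Q = (Q : Matrix (Fin 3) (Fin 3) F) * N → ∀ m : ℕ,
        (T : Matrix (Fin 3) (Fin 3) F) ^ m * Q = (Q : Matrix (Fin 3) (Fin 3) F) * N ^ m := fun T N hT m =>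
      ((show SemiconjBy (Q : Matrix (Fin 3) (Fin 3) F) N T from hT.symm).pow_right m).symm
    have key : ∀ (T : GL (Fin 3) F) (N X : Matrix (Fin 3) (Fin 3) F) (i j k : ℕ),
        (T : Matrix (Fin 3) (Fin 3) F) * Q = (Q : Matrix (Fin 3) (Fin 3) F) * N → M * N = X * M →
        X = ω ^ i • (Matrix.diagonal ![1, ω, ω ^ 2] ^ j * !![0, 0, 1; 1, 0, 0; 0, 1, 0] ^ k) →
        g * T * g⁻¹ ∈ R := by
      intro T N X i j k hT hX hXe
      suffices g * T = C ^ i * A ^ j * B ^ k * g by
        rw [this, mul_inv_cancel_right]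
        exact hmemR i j k
      refine Units.ext (Q.isUnit.mul_right_cancel ?_)
      simp only [Units.val_mul, Units.val_pow_eq_pow_val, hC, smul_pow, one_pow, Matrix.smul_mul, Matrix.one_mul]
      rw [Matrix.mul_assoc, hT, ← Matrix.mul_assoc, hg, Matrix.mul_assoc, hX, hXe, Matrix.smul_mul, Matrix.mul_smul]
      congr 1
      rw [Matrix.mul_assoc _ _ (g : Matrix (Fin 3) (Fin 3) F) |>.symm.symm, Matrix.mul_assoc _ _ (Q : Matrix (Fin 3) (Fin 3) F),
        Matrix.mul_assoc _ (g : Matrix (Fin 3) (Fin 3) F), hg, ← Matrix.mul_assoc _ (Q : Matrix (Fin 3) (Fin 3) F),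
        hpow B _ hB]
      simp only [← Matrix.mul_assoc, hpow A _ hA]
    exact hN g (key A _ XA i j k hA h1 h3) (key B _ XB i' j' k' hB h2 h4)
  have hscal : ∀ (g : GL (Fin 3) F) (z : F), (g : Matrix (Fin 3) (Fin 3) F) = z • 1 →
      g ∈ Cfsg.Geo.subgroupNormalizer R := fun g z hz => by
    have h : ∀ h : GL (Fin 3) F, g * h * g⁻¹ = h := fun h => by
      rw [mul_inv_eq_iff_eq_mul]
      exact Units.ext (by
        rw [Units.val_mul, Units.val_mul, hz, Matrix.mul_smul, Matrix.mul_one, Matrix.smul_mul, Matrix.one_mul])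
    exact hN g (by rw [h]; exact hAR) (by rw [h]; exact hBR)
  constructor
  · intro hfix
    by_contra hcon
    push Not at hcon
    obtain ⟨hr2, hr3⟩ := hcon
    have hr := (Fact.out : r.Prime)
    have hcardSL : Nat.card (Cfsg.Geo.specialLinear (Fin 3) F) =
        Nat.card (Matrix.SpecialLinearGroup (Fin 3) F) := (Nat.card_congr
      (Equiv.ofBijective (fun s => (⟨Matrix.SpecialLinearGroup.toGL s, mem_sl.2 s.2⟩ :
        Cfsg.Geo.specialLinear (Fin 3) F)) ⟨fun s t h => Subtype.ext (congrArg (fun u : Cfsg.Geo.specialLinear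
          (Fin 3) F => ((u : GL (Fin 3) F) : Matrix (Fin 3) (Fin 3) F)) h),
          fun g => ⟨⟨(g : GL (Fin 3) F), mem_sl.1 g.2⟩, Subtype.ext (Units.ext rfl)⟩⟩)).symm
    have hRS : R ≤ Cfsg.Geo.specialLinear (Fin 3) F := fun g hg => by
      obtain ⟨i, j, k, rfl⟩ := hall g hg
      have hd : ∀ (T : GL (Fin 3) F) (N : Matrix (Fin 3) (Fin 3) F),
          (T : Matrix (Fin 3) (Fin 3) F) * Q = (Q : Matrix (Fin 3) (Fin 3) F) * N → N.det = 1 →
          T ∈ Cfsg.Geo.specialLinear (Fin 3) F := fun T N hT hN1 => mem_sl.2 (by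
        have := congrArg Matrix.det hT
        rw [Matrix.det_mul, Matrix.det_mul, hN1, mul_one] at this
        exact mul_eq_right₀ ((Matrix.GeneralLinearGroup.det Q).ne_zero) |>.1 this)
      refine Subgroup.mul_mem _ (Subgroup.mul_mem _ (Subgroup.pow_mem _ ?_ _)
        (Subgroup.pow_mem _ (hd A _ hA ?_) _)) (Subgroup.pow_mem _ (hd B _ hB ?_) _)
      · rw [mem_sl, hC, Matrix.det_smul, Matrix.det_one, mul_one, Fintype.card_fin, hω3]
      · simp only [Matrix.det_diagonal, Fin.prod_univ_three]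
        simp
        linear_combination hω3
      · simp [Matrix.det_fin_three]
    by_cases hr3' : r = 3
    · subst hr3'
      have h9 : p % 9 ≠ 1 := hr3 rfl
      obtain ⟨k, rfl⟩ : ∃ k, p = 3 * k + 1 := ⟨p / 3, by omega⟩
      have hk3 : ¬ 3 ∣ k := fun ⟨j, hj⟩ => h9 (by subst hj; omega)
      have hC := CfsgLib.Classical.card_sl_mul hF 3 (by omega)
      rw [Fin.prod_univ_three] at hC
      simp only [Fin.val_zero, Fin.val_one, Fin.val_two, pow_zero, pow_one, Nat.add_sub_cancel] at hC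
      set H := (Cfsg.Geo.subgroupNormalizer R).subgroupOf (Cfsg.Geo.specialLinear (Fin 3) F) with hH
      have h27 : 27 ∣ Nat.card H := by
        have hle : R.subgroupOf (Cfsg.Geo.specialLinear (Fin 3) F) ≤ H := fun u hu =>
          Subgroup.le_normalizer hu
        refine Dvd.dvd.trans ?_ (Subgroup.card_dvd_of_le hle)
        rw [Nat.card_congr (Subgroup.subgroupOfEquivOfLe hRS).toEquiv, hR]
      have h81 : 81 ∣ Nat.card (Cfsg.Geo.specialLinear (Fin 3) F) := by
        rw [← Subgroup.index_mul_card H]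
        exact (show 81 = 3 * 27 by norm_num) ▸ Nat.mul_dvd_mul hΩ h27
      rw [hcardSL] at h81
      obtain ⟨c, hc⟩ := h81
      have hpos : 0 < 3 * k * (81 * (3 * k + 1) ^ 3) := by
        have : 0 < k := by omega
        positivity
      have e1 : (3 * k + 1) ^ 3 - 1 = 9 * k * (3 * k ^ 2 + 3 * k + 1) := Nat.sub_eq_of_eq_add (by ring)
      have e2 : (3 * k + 1) ^ 3 - (3 * k + 1) = 3 * k * (3 * k + 1) * (3 * k + 2) := Nat.sub_eq_of_eq_add (by ring)
      have e3 : (3 * k + 1) ^ 3 - (3 * k + 1) ^ 2 = 3 * k * (3 * k + 1) ^ 2 := Nat.sub_eq_of_eq_add (by ring)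
      rw [hc, e1, e2, e3] at hC
      have h : 3 * c = k ^ 2 * (3 * k + 1) ^ 3 * (3 * k + 2) * (3 * k ^ 2 + 3 * k + 1) := by
        refine Nat.eq_of_mul_eq_mul_left (show 0 < 81 * k by omega) ?_
        linear_combination hC
      have hdvd : 3 ∣ k ^ 2 * (3 * k + 1) ^ 3 * (3 * k + 2) * (3 * k ^ 2 + 3 * k + 1) := h ▸ dvd_mul_right 3 c
      have p3 := Nat.prime_three
      rcases p3.dvd_mul.1 hdvd with h | h
      · rcases p3.dvd_mul.1 h with h | h
        · rcases p3.dvd_mul.1 h with h | h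
          · exact hk3 (p3.dvd_of_dvd_pow h)
          · have := p3.dvd_of_dvd_pow h; omega
        · omega
      · omega
    · have hr5 : 5 ≤ r := by
        have := hr.two_le
        have h4 : r ≠ 4 := fun h => by rw [h] at hr; exact absurd hr (by norm_num)
        omega
      obtain ⟨x, hx⟩ := exists_prime_orderOf_dvd_card' (G := Cfsg.Geo.specialLinear (Fin 3) F) r
        (hΩ.trans (Subgroup.index_dvd_card _))
      have hx1 : (x : GL (Fin 3) F) ^ r = 1 := by
        rw [← SubgroupClass.coe_pow, ← hx, pow_orderOf_eq_one, OneMemClass.coe_one]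
      have hxne : (x : GL (Fin 3) F) ≠ 1 := fun h => by
        rw [OneMemClass.coe_eq_one] at h
        rw [h, orderOf_one] at hx
        omega
      obtain ⟨g, -, hg⟩ := hfix x x.2 ⟨1, by rw [hx1, Units.val_one, one_smul]⟩ fun z hz => hxne (Units.ext (by
        have h3 : z ^ 3 = 1 := by
          have := mem_sl.1 x.2
          rwa [hz, Matrix.det_smul, Matrix.det_one, mul_one, Fintype.card_fin] at this
        have hrz : z ^ r = 1 := by
          have := congrArg (fun g : GL (Fin 3) F => (g : Matrix (Fin 3) (Fin 3) F) 0 0) hx1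
          simpa [Units.val_pow_eq_pow_val, hz, smul_pow] using this
        have : z ^ Nat.gcd 3 r = 1 := pow_gcd_eq_one.2 ⟨h3, hrz⟩
        rw [Nat.Coprime.gcd_eq_one (by
          rw [Nat.coprime_primes Nat.prime_three hr]; omega), pow_one] at this
        rw [hz, this, one_smul, Units.val_one]))
      set h := g⁻¹ * (x : GL (Fin 3) F) * g with hh
      have hh1 : h ^ r = 1 := by
        rw [hh, show g⁻¹ * (x : GL (Fin 3) F) * g = g⁻¹ * x * g⁻¹⁻¹ by rw [inv_inv], conj_pow, hx1]
        group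
      have hhne : h ≠ 1 := fun e => hxne (by
        rw [hh, mul_eq_one_iff_eq_inv, mul_eq_left] at e
        exact e)
      rw [Cfsg.Geo.subgroupNormalizer, Subgroup.mem_normalizer_iff] at hg
      let e : R ≃* R :=
        { toFun := fun u => ⟨h * u * h⁻¹, (hg _).1 u.2⟩
          invFun := fun u => ⟨h⁻¹ * u * h, (hg _).2 (by rw [show h * (h⁻¹ * u * h) * h⁻¹ = (u : GL (Fin 3) F) by group]; exact u.2)⟩
          left_inv := fun u => Subtype.ext (by show h⁻¹ * (h * u * h⁻¹) * h = u; group)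
          right_inv := fun u => Subtype.ext (by show h * (h⁻¹ * u * h) * h⁻¹ = u; group)
          map_mul' := fun u v => Subtype.ext (by show h * (u * v : GL (Fin 3) F) * h⁻¹ = _; simp) }
      let σ : Equiv.Perm R := e.toEquiv
      have hσ : σ ^ r ^ 1 = 1 := by
        have hm : ∀ (m : ℕ) (u : R), ((σ ^ m) u : GL (Fin 3) F) = h ^ m * u * (h ^ m)⁻¹ := fun m => by
          induction m with
          | zero => intro u; simp
          | succ m ih =>
            intro u
            rw [pow_succ', Equiv.Perm.mul_apply]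
            show h * ((σ ^ m) u : GL (Fin 3) F) * h⁻¹ = _
            rw [ih, pow_succ']
            group
        ext u
        rw [pow_one, hm, hh1]
        simp
      let K : Subgroup R := MonoidHom.eqLocus e.toMonoidHom (MonoidHom.id R)
      have hmod := Equiv.Perm.card_compl_support_modEq (p := r) (n := 1) hσ
      have hK : Nat.card K = σ.supportᶜ.card := by
        rw [← Nat.card_eq_finsetCard]
        exact Nat.card_congr (Equiv.subtypeEquivRight fun u => by
          rw [Finset.mem_compl, Equiv.Perm.mem_support, not_not]; rfl)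
      have hdvd : Nat.card K ∣ 3 ^ 3 := by
        have := K.card_subgroup_dvd_card
        rwa [hR] at this
      obtain ⟨m, hm, hKm⟩ := (Nat.dvd_prime_pow Nat.prime_three).1 hdvd
      rw [← hK, ← Nat.card_eq_fintype_card, hR, hKm] at hmod
      have hm1 : m ≠ 0 := fun h0 => by
        rw [h0, pow_zero] at hKm
        have hone := (Nat.card_eq_one_iff_unique.1 hKm).1
        have hmem : (⟨C, hCR⟩ : R) ∈ K := Subtype.ext (show h * C * h⁻¹ = C by rw [hCc, mul_inv_cancel_right])
        have hC1 : C = 1 := congrArg (fun u : K => ((u : R) : GL (Fin 3) F))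
          (Subsingleton.elim (⟨_, hmem⟩ : K) ⟨1, K.one_mem⟩)
        rw [hC1, Units.val_one] at hC
        exact hω (by simpa using (congrFun (congrFun hC 0) 0).symm)
      have hm3 : m ≠ 3 := fun h0 => by
        rw [h0, ← (show Nat.card R = 3 ^ 3 by rw [hR]; norm_num)] at hKm
        have htop := Subgroup.eq_top_of_card_eq K hKm
        have hcom : ∀ T ∈ R, h * T = T * h := fun T hT => by
          have : (⟨T, hT⟩ : R) ∈ K := htop ▸ Subgroup.mem_top _
          have := congrArg Subtype.val this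
          exact mul_inv_eq_iff_eq_mul.1 this
        set M := ((Q⁻¹ : GL (Fin 3) F) : Matrix (Fin 3) (Fin 3) F) * (h : Matrix (Fin 3) (Fin 3) F) * Q with hMdef
        have hQi : (Q : Matrix (Fin 3) (Fin 3) F) * ((Q⁻¹ : GL (Fin 3) F) : Matrix (Fin 3) (Fin 3) F) = 1 := by
          rw [← Units.val_mul, mul_inv_cancel, Units.val_one]
        have hQM : (h : Matrix (Fin 3) (Fin 3) F) * Q = (Q : Matrix (Fin 3) (Fin 3) F) * M := by
          rw [hMdef, ← Matrix.mul_assoc, ← Matrix.mul_assoc, hQi, Matrix.one_mul]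
        have hcm : ∀ (T : GL (Fin 3) F) (N : Matrix (Fin 3) (Fin 3) F), T ∈ R →
            (T : Matrix (Fin 3) (Fin 3) F) * Q = (Q : Matrix (Fin 3) (Fin 3) F) * N → M * N = N * M := by
          intro T N hT hTN
          refine Q.isUnit.mul_left_cancel ?_
          rw [← Matrix.mul_assoc, ← hQM, Matrix.mul_assoc, ← hTN, ← Matrix.mul_assoc, ← Units.val_mul, hcom T hT,
            Units.val_mul, Matrix.mul_assoc, hQM, ← Matrix.mul_assoc, hTN, Matrix.mul_assoc]
        have h1 := hcm A _ hAR hA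
        have h2 := hcm B _ hBR hB
        have hinj : Function.Injective (![1, ω, ω ^ 2] : Fin 3 → F) := by
          have hw2 : ω ^ 2 ≠ 1 := fun h => hω (by linear_combination hω3 - ω * h)
          have hw3 : ω ^ 2 ≠ ω := fun h => hω (mul_left_cancel₀ hω0 (by linear_combination h))
          intro i j hij
          fin_cases i <;> fin_cases j <;> simp [-sq_eq_one_iff] at hij ⊢ <;>
            first
            | exact hω hij | exact hω hij.symm | exact hw2 hij | exact hw2 hij.symm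
            | exact hw3 hij | exact hw3 hij.symm
        have hoff : ∀ i j, i ≠ j → M i j = 0 := fun i j hij => by
          have := congrFun (congrFun h1 i) j
          rw [Matrix.mul_diagonal, Matrix.diagonal_mul] at this
          have h' : M i j * (![1, ω, ω ^ 2] j - ![1, ω, ω ^ 2] i) = 0 := by linear_combination this
          exact (mul_eq_zero.1 h').resolve_right (sub_ne_zero.2 fun e => hij (hinj e.symm))
        have h10 : M 1 1 = M 0 0 := by
          have := congrFun (congrFun h2 1) 0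
          simpa [Matrix.mul_apply, Fin.sum_univ_three] using this
        have h21 : M 2 2 = M 1 1 := by
          have := congrFun (congrFun h2 2) 1
          simpa [Matrix.mul_apply, Fin.sum_univ_three] using this
        have hMs : M = M 0 0 • 1 := by
          ext i j
          fin_cases i <;> fin_cases j <;> simp [hoff, h10, h21]
        have hhs : (h : Matrix (Fin 3) (Fin 3) F) = M 0 0 • 1 := by
          refine Q.isUnit.mul_right_cancel ?_
          rw [hQM, Matrix.smul_mul, Matrix.one_mul]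
          conv_lhs => rw [hMs]
          rw [Matrix.mul_smul, Matrix.mul_one]
        have hxs : (x : GL (Fin 3) F) = h := by
          have : g * h = h * g := Units.ext (by
            show (g : Matrix (Fin 3) (Fin 3) F) * (h : Matrix (Fin 3) (Fin 3) F) =
              (h : Matrix (Fin 3) (Fin 3) F) * (g : Matrix (Fin 3) (Fin 3) F)
            rw [hhs, Matrix.mul_smul, Matrix.mul_one, Matrix.smul_mul, Matrix.one_mul])
          calc (x : GL (Fin 3) F) = g * h * g⁻¹ := by rw [hh]; group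
            _ = h := by rw [this, mul_inv_cancel_right]
        have hd : M 0 0 ^ 3 = 1 := by
          have := mem_sl.1 x.2
          rwa [hxs, hhs, Matrix.det_smul, Matrix.det_one, mul_one, Fintype.card_fin] at this
        have hdr : M 0 0 ^ r = 1 := by
          have := congrArg (fun g : GL (Fin 3) F => (g : Matrix (Fin 3) (Fin 3) F) 0 0) hh1
          simpa [Units.val_pow_eq_pow_val, hhs, smul_pow] using this
        have : M 0 0 ^ Nat.gcd 3 r = 1 := pow_gcd_eq_one.2 ⟨hd, hdr⟩
        rw [Nat.Coprime.gcd_eq_one (by rw [Nat.coprime_primes Nat.prime_three hr]; omega), pow_one] at this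
        exact hhne (Units.ext (by rw [hhs, this, one_smul, Units.val_one]))
      have hle : 3 ^ m ≤ 27 := Nat.le_of_dvd (by norm_num) (by rw [← hKm]; simpa using hdvd)
      have hd : r ∣ 27 - 3 ^ m := (Nat.modEq_iff_dvd' hle).1 hmod
      obtain rfl | rfl : m = 1 ∨ m = 2 := by omega
      · rcases (hr.dvd_mul (m := 2 ^ 3) (n := 3)).1 (by norm_num at hd ⊢; exact hd) with h | h
        · have := Nat.le_of_dvd (by norm_num) (hr.dvd_of_dvd_pow h); omega
        · have := Nat.le_of_dvd (by norm_num) h; omega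
      · rcases (hr.dvd_mul (m := 2) (n := 3 ^ 2)).1 (by norm_num at hd ⊢; exact hd) with h | h
        · have := Nat.le_of_dvd (by norm_num) h; omega
        · have := Nat.le_of_dvd (by norm_num) (hr.dvd_of_dvd_pow h); omega
  · intro hcond x hx hxr hxns
    obtain ⟨z, hz⟩ := hxr
    rw [Units.val_pow_eq_pow_val] at hz
    have hxd := mem_sl.1 hx
    have hz3 : z ^ 3 = 1 := by
      have := congrArg Matrix.det hz
      rwa [Matrix.det_pow, hxd, one_pow, Matrix.det_smul, Matrix.det_one, mul_one, Fintype.card_fin,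
        eq_comm] at this
    have hz0 : z ≠ 0 := fun h => by simp [h] at hz3
    -- it suffices to treat a scalar multiple
    have hred : ∀ (c : F) (hc : c ≠ 0) (y : GL (Fin 3) F), (y : Matrix (Fin 3) (Fin 3) F) = c • (x : Matrix (Fin 3) (Fin 3) F) →
        ∀ (g : GL (Fin 3) F), g⁻¹ * y * g ∈ Cfsg.Geo.subgroupNormalizer R →
        g⁻¹ * x * g ∈ Cfsg.Geo.subgroupNormalizer R := by
      intro c hc y hy g hg
      let S : GL (Fin 3) F := Matrix.GeneralLinearGroup.mkOfDetNeZero (c⁻¹ • 1)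
        (by rw [Matrix.det_smul, Matrix.det_one, mul_one]; exact pow_ne_zero _ (inv_ne_zero hc))
      have hS : g⁻¹ * x * g = S * (g⁻¹ * y * g) := Units.ext (by
        rw [Units.val_mul, Units.val_mul, Units.val_mul, Units.val_mul, Units.val_mul, hy]
        show _ = (c⁻¹ • 1 : Matrix (Fin 3) (Fin 3) F) * _
        rw [Matrix.smul_mul, Matrix.one_mul, Matrix.mul_smul, Matrix.smul_mul, inv_smul_smul₀ hc])
      rw [hS]
      exact Subgroup.mul_mem _ (hscal S _ rfl) hg
    have h20 : (2 : F) ≠ 0 := Ring.two_ne_zero (by rw [ringChar.eq F p]; omega)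
    have h30 : (3 : F) ≠ 0 := fun h => by
      have h0 : (ω - 1) ^ 3 = 0 := by linear_combination hω3 + (ω - ω ^ 2) * h
      exact hω (sub_eq_zero.1 ((pow_eq_zero_iff (n := 3) (by omega)).1 h0))
    rcases hcond with rfl | ⟨rfl, h9⟩
    · -- involutions
      let y : GL (Fin 3) F := Matrix.GeneralLinearGroup.mkOfDetNeZero (z • (x : Matrix (Fin 3) (Fin 3) F))
        (by rw [Matrix.det_smul, hxd, mul_one]; exact pow_ne_zero _ hz0)
      have hy1 : (y : Matrix (Fin 3) (Fin 3) F) * y = 1 := by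
        show (z • (x : Matrix (Fin 3) (Fin 3) F)) * (z • (x : Matrix (Fin 3) (Fin 3) F)) = 1
        rw [Matrix.smul_mul, Matrix.mul_smul, smul_smul, ← pow_two (x : Matrix (Fin 3) (Fin 3) F), hz, smul_smul,
          show z * z * z = z ^ 3 by ring, hz3, one_smul]
      have hyd : (y : Matrix (Fin 3) (Fin 3) F).det = 1 := by
        show (z • (x : Matrix (Fin 3) (Fin 3) F)).det = 1
        rw [Matrix.det_smul, hxd, mul_one, Fintype.card_fin, hz3]
      obtain ⟨P, w, hw, hyP⟩ := exists_eigenbasis _ (eigenspan_two h20 hy1)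
      have hprod : w 0 * w 1 * w 2 = 1 := by
        have := congrArg Matrix.det hyP
        rw [Matrix.det_mul, Matrix.det_mul, hyd, one_mul, Matrix.det_diagonal, Fin.prod_univ_three] at this
        exact (mul_eq_left₀ (Matrix.GeneralLinearGroup.det P).ne_zero).1 this.symm
      have hns : ∀ c : F, ¬ (w 0 = c ∧ w 1 = c ∧ w 2 = c) := fun c hc => by
        apply hxns (z⁻¹ * c)
        have hd : Matrix.diagonal w = c • (1 : Matrix (Fin 3) (Fin 3) F) := by
          ext i j
          fin_cases i <;> fin_cases j <;> simp [hc.1, hc.2.1, hc.2.2]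
        have hy' : z • (x : Matrix (Fin 3) (Fin 3) F) = c • 1 := by
          refine P.isUnit.mul_right_cancel ?_
          show (y : Matrix (Fin 3) (Fin 3) F) * P = c • 1 * P
          rw [hyP, hd, Matrix.mul_smul, Matrix.mul_one, Matrix.smul_mul, Matrix.one_mul]
        rw [mul_smul, ← hy', inv_smul_smul₀ hz0]
      obtain ⟨σ, hσ⟩ : ∃ σ : Equiv.Perm (Fin 3), w ∘ σ = ![-1, -1, 1] := by
        have hmem : ∀ i, w i = 1 ∨ w i = -1 := fun i => by simpa using hw i
        have hne : (-1 : F) ≠ 1 := fun h => h20 (by linear_combination -h)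
        rcases hmem 0 with h0 | h0 <;> rcases hmem 1 with h1 | h1 <;> rcases hmem 2 with h2 | h2
        · exact absurd ⟨h0, h1, h2⟩ (hns 1)
        · rw [h0, h1, h2] at hprod; exact absurd (by linear_combination hprod) hne
        · rw [h0, h1, h2] at hprod; exact absurd (by linear_combination hprod) hne
        · exact ⟨Equiv.swap 0 2, by ext i; fin_cases i <;> simp [Equiv.swap_apply_def, h0, h1, h2]⟩
        · rw [h0, h1, h2] at hprod; exact absurd (by linear_combination hprod) hne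
        · exact ⟨Equiv.swap 1 2, by ext i; fin_cases i <;> simp [Equiv.swap_apply_def, h0, h1, h2]⟩
        · exact ⟨1, by ext i; fin_cases i <;> simp [h0, h1, h2]⟩
        · exact absurd ⟨h0, h1, h2⟩ (hns (-1))
      let P₁ : GL (Fin 3) F := Matrix.GeneralLinearGroup.mkOfDetNeZero
        ((P : Matrix (Fin 3) (Fin 3) F).submatrix id σ) (by
          rw [Matrix.det_permute']
          exact mul_ne_zero (by rcases Int.units_eq_one_or (Equiv.Perm.sign σ) with h | h <;> simp [h])
            (Matrix.GeneralLinearGroup.det P).ne_zero)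
      have hyP₁ : (y : Matrix (Fin 3) (Fin 3) F) * (P₁ : Matrix (Fin 3) (Fin 3) F) = (P₁ : Matrix (Fin 3) (Fin 3) F) * Matrix.diagonal ![-1, -1, 1] := by
        ext i j
        have := congrFun (congrFun hyP i) (σ j)
        rw [Matrix.mul_diagonal] at this
        rw [← hσ, Matrix.mul_diagonal]
        exact this
      let J : Matrix (Fin 3) (Fin 3) F := !![-1, 0, 0; 0, 0, -1; 0, -1, 0]
      let Q' : Matrix (Fin 3) (Fin 3) F := !![1, 0, 0; 0, 1, 1; 0, 1, -1]
      have hQ' : Q'.det ≠ 0 := by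
        simp [Q', Matrix.det_fin_three]
        intro h
        exact h20 (by linear_combination -h)
      have hJ : J * Q' = Q' * Matrix.diagonal ![-1, -1, 1] := by
        ext i j
        fin_cases i <;> fin_cases j <;> simp [J, Q', Matrix.mul_apply, Fin.sum_univ_three]
      have hJd : J.det ≠ 0 := by simp [J, Matrix.det_fin_three]
      let T : GL (Fin 3) F := Q * Matrix.GeneralLinearGroup.mkOfDetNeZero J hJd * Q⁻¹
      have hTQ : (T : Matrix (Fin 3) (Fin 3) F) * Q = (Q : Matrix (Fin 3) (Fin 3) F) * J := by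
        rw [← Units.val_mul, show T * Q = Q * Matrix.GeneralLinearGroup.mkOfDetNeZero J hJd by simp [T], Units.val_mul]
        rfl
      have hT : T ∈ Cfsg.Geo.subgroupNormalizer R := by
        refine hQN T J (Matrix.diagonal ![1, ω, ω ^ 2] ^ 2) (!![0, 0, 1; 1, 0, 0; 0, 1, 0] ^ 2) 0 2 0 0 0 2 hTQ
          ?_ ?_ (by simp) (by simp)
        · have h4 : (ω ^ 2) ^ 2 = ω := by linear_combination ω * hω3
          ext i j
          rw [Matrix.diagonal_pow, Matrix.mul_diagonal, Matrix.diagonal_mul]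
          fin_cases i <;> fin_cases j <;> simp [J, h4]
        · ext i j
          fin_cases i <;> fin_cases j <;> simp [J, pow_two, Matrix.mul_apply, Fin.sum_univ_three]
      obtain ⟨g, hg, hgy⟩ := exists_sl_conj (x := y) (y := T) (P := P₁)
        (P' := Q * Matrix.GeneralLinearGroup.mkOfDetNeZero Q' hQ') hyP₁ (by
          show (T : Matrix (Fin 3) (Fin 3) F) * ((Q : Matrix (Fin 3) (Fin 3) F) * Q') =
            (Q : Matrix (Fin 3) (Fin 3) F) * Q' * _
          rw [← Matrix.mul_assoc, hTQ, Matrix.mul_assoc, hJ, Matrix.mul_assoc])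
      exact ⟨g, hg, hred z hz0 y rfl g (hgy ▸ hT)⟩
    · -- elements of order three
      obtain ⟨s, hs3⟩ : ∃ s : F, s ^ 3 = z := by
        obtain ⟨ζ, hζ⟩ := IsCyclic.exists_ofOrder_eq_natCard (α := Fˣ)
        rw [hu] at hζ
        obtain ⟨m, hm⟩ : Units.mk0 z hz0 ∈ Subgroup.zpowers ζ := by
          rw [Subgroup.eq_top_of_card_eq (Subgroup.zpowers ζ) (by rw [Nat.card_zpowers, hζ, hu])]
          trivial
        obtain ⟨t, ht⟩ : (9 : ℕ) ∣ p - 1 := ⟨p / 9, by omega⟩
        have hzm : ζ ^ (m * 3) = 1 := by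
          rw [_root_.zpow_mul, show ζ ^ m = Units.mk0 z hz0 from hm, show (3 : ℤ) = ((3 : ℕ) : ℤ) from rfl,
            zpow_natCast]
          exact Units.ext (by simpa using hz3)
        obtain ⟨u, hu'⟩ := orderOf_dvd_iff_zpow_eq_one.2 hzm
        rw [hζ] at hu'
        refine ⟨((ζ ^ ((t : ℤ) * u) : Fˣ) : F), ?_⟩
        have : m = (t : ℤ) * u * 3 := by
          have h2 : ((p - 1 : ℕ) : ℤ) = 9 * t := by omega
          rw [h2] at hu'
          linarith
        rw [← Units.val_pow_eq_pow_val, ← zpow_natCast, ← _root_.zpow_mul,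
          show ((t : ℤ) * u) * ((3 : ℕ) : ℤ) = m by rw [this]; norm_num]
        exact congrArg Units.val hm
      have hs0 : s ≠ 0 := fun h => hz0 (by rw [← hs3, h]; simp)
      let y : GL (Fin 3) F := Matrix.GeneralLinearGroup.mkOfDetNeZero (s⁻¹ • (x : Matrix (Fin 3) (Fin 3) F))
        (by rw [Matrix.det_smul, hxd, mul_one]; exact pow_ne_zero _ (inv_ne_zero hs0))
      have hy1 : (y : Matrix (Fin 3) (Fin 3) F) ^ 3 = 1 := by
        show (s⁻¹ • (x : Matrix (Fin 3) (Fin 3) F)) ^ 3 = 1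
        rw [smul_pow, hz, smul_smul, ← hs3, ← mul_pow, inv_mul_cancel₀ hs0, one_pow, one_smul]
      obtain ⟨P, w, hw, hyP⟩ := exists_eigenbasis _ (eigenspan_three h30 hω hω3 hy1)
      have hw0 : ∀ i, w i ≠ 0 := fun i h => by
        have := hw i
        simp [h] at this
      let D : GL (Fin 3) F := Matrix.GeneralLinearGroup.mkOfDetNeZero (Matrix.diagonal w)
        (by rw [Matrix.det_diagonal]; exact Finset.prod_ne_zero_iff.2 fun i _ => hw0 i)
      let T : GL (Fin 3) F := Q * D * Q⁻¹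
      have hTQ : (T : Matrix (Fin 3) (Fin 3) F) * Q = (Q : Matrix (Fin 3) (Fin 3) F) * Matrix.diagonal w := by
        rw [← Units.val_mul, show T * Q = Q * D by simp [T], Units.val_mul]
        rfl
      have hroot : ∀ a : F, a ^ 3 = 1 → ∃ i : ℕ, i < 3 ∧ a = ω ^ i := fun a ha => by
        have : (a - 1) * ((a - ω) * (a - ω ^ 2)) = 0 := by
          linear_combination ha + (a - 1) * hω3 + (a - a ^ 2) * hs
        rcases mul_eq_zero.1 this with h | h
        · exact ⟨0, by omega, by rw [pow_zero]; linear_combination h⟩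
        rcases mul_eq_zero.1 h with h | h
        · exact ⟨1, by omega, by rw [pow_one]; linear_combination h⟩
        · exact ⟨2, by omega, by linear_combination h⟩
      have hw' : ∀ i, w i ^ 3 = 1 := hw
      obtain ⟨i, -, hi⟩ := hroot (w 0 / w 2) (by rw [div_pow, hw', hw', div_one])
      obtain ⟨j, -, hj⟩ := hroot (w 1 * w 2 / w 0 ^ 2) (by
        rw [div_pow, mul_pow, hw', hw', ← pow_mul, mul_comm 2 3, pow_mul, hw', one_pow, mul_one, div_one])
      have hT : T ∈ Cfsg.Geo.subgroupNormalizer R := by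
        refine hQN T (Matrix.diagonal w) (Matrix.diagonal ![1, ω, ω ^ 2])
          (ω ^ i • (Matrix.diagonal ![1, ω, ω ^ 2] ^ j * !![0, 0, 1; 1, 0, 0; 0, 1, 0] ^ 1)) 0 1 0 i j 1 hTQ ?_ ?_
          (by simp) rfl
        · rw [Matrix.diagonal_mul_diagonal, Matrix.diagonal_mul_diagonal]
          simp only [mul_comm]
        · have := hw0 0
          have := hw0 1
          have := hw0 2
          have e0 : ω ^ i * w 2 = w 0 := by rw [← hi]; field_simp
          have e1 : ω ^ i * ω ^ j * w 0 = w 1 := by rw [← hi, ← hj]; field_simp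
          have e2 : ω ^ i * (ω ^ 2) ^ j * w 1 = w 2 := by
            rw [← pow_mul, mul_comm 2 j, pow_mul, ← hi, ← hj]
            field_simp
            linear_combination hw' 1 - hw' 0
          rw [pow_one, Matrix.diagonal_pow]
          ext k l
          fin_cases k <;> fin_cases l <;> simp [Matrix.mul_apply, Fin.sum_univ_three, Matrix.diagonal, e0, e1, e2]
      obtain ⟨g, hg, hgy⟩ := exists_sl_conj (x := y) (y := T) (P := P) (P' := Q) hyP hTQ
      exact ⟨g, hg, hred s⁻¹ (inv_ne_zero hs0) y rfl g (hgy ▸ hT)⟩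

end Cfsg.Agent.S5998
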