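import Cfsg.Statements.S5999
import Cfsg.Agent.S5998
import Cfsg.Agent.Lib.Classical.HermMatrix
-- import your own Cfsg.Agent.* helpers here

set_option autoImplicit false
open scoped MatrixGroups
open Cfsg Module Matrix CfsgLib.Classical

namespace Cfsg.Agent.S5999

open Cfsg.Agent.S5998 (exists_std sum_roots mem_sl)

section Aux

variable {F : Type*} [Field F] {τ : F →+* F} {p : ℕ}

/-- The matrix with orthonormal columns is unitary. -/
theorem exists_of_orthonormal (hτ : ∀ x, τ x = x ^ p) {f : Fin 3 → Fin 3 → F}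
    (hf : ∀ i j, stdHerm τ 3 (f i) (f j) = if i = j then 1 else 0) :
    ∃ P : GL (Fin 3) F, P ∈ Cfsg.GU 3 F p ∧ ∀ i j, (P : Matrix (Fin 3) (Fin 3) F) i j = f j i := by
  classical
  let M : Matrix (Fin 3) (Fin 3) F := Matrix.of fun i j => f j i
  have hli : LinearIndependent F f := by
    rw [Fintype.linearIndependent_iff]
    intro g hg i
    have := congrArg (stdHerm τ 3 (f i)) hg
    simpa [hf] using this
  have hM : IsUnit M := Matrix.linearIndependent_cols_iff_isUnit.1 hli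
  refine ⟨hM.unit, (mem_GU_iff hτ).2 fun x y => ?_, fun i j => rfl⟩
  rw [IsUnit.unit_spec]
  have hcol : ∀ v, M *ᵥ v = ∑ i, v i • f i := fun v => by
    funext k
    simp [M, Matrix.mulVec, dotProduct, Finset.sum_apply, mul_comm]
  rw [hcol, hcol]
  simp only [map_sum, map_smulₛₗ, LinearMap.sum_apply, LinearMap.smul_apply, map_smul, hf, smul_eq_mul,
    RingHom.id_apply, mul_ite, mul_one, mul_zero, Finset.sum_ite_eq, Finset.sum_ite_eq', Finset.mem_univ, if_true, stdHerm_apply]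
  exact Finset.sum_congr rfl fun i _ => mul_comm _ _

theorem smul_mem_GU (hτ : ∀ x, τ x = x ^ p) {x y : GL (Fin 3) F} (hx : x ∈ Cfsg.GU 3 F p) {c : F}
    (hc : c * τ c = 1) (hy : (y : Matrix (Fin 3) (Fin 3) F) = c • (x : Matrix (Fin 3) (Fin 3) F)) :
    y ∈ Cfsg.GU 3 F p := (mem_GU_iff hτ).2 fun u v => by
  rw [hy, Matrix.smul_mulVec, Matrix.smul_mulVec, map_smul, map_smulₛₗ, LinearMap.smul_apply,
    (mem_GU_iff hτ).1 hx, smul_eq_mul, smul_eq_mul, ← mul_assoc, hc, one_mul]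

/-- An orthonormal eigenbasis of a unitary element. -/
theorem exists_frame [Fintype F] (hτ : ∀ x, τ x = x ^ p) (hc : IsConjugation τ) {M : GL (Fin 3) F}
    (hM : M ∈ Cfsg.GU 3 F p) (S : Set F) (hS : ∀ a ∈ S, a * τ a = 1)
    (hspan : ∀ W : Submodule F (Fin 3 → F), (∀ u ∈ W, (M : Matrix (Fin 3) (Fin 3) F) *ᵥ u ∈ W) → ∀ v ∈ W,
      v ∈ Submodule.span F {u : Fin 3 → F | u ∈ W ∧ ∃ a ∈ S, (M : Matrix (Fin 3) (Fin 3) F) *ᵥ u = a • u}) :
    ∃ (P : GL (Fin 3) F) (w : Fin 3 → F), P ∈ Cfsg.GU 3 F p ∧ (∀ i, w i ∈ S) ∧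
      (M : Matrix (Fin 3) (Fin 3) F) * (P : Matrix (Fin 3) (Fin 3) F) = (P : Matrix (Fin 3) (Fin 3) F) * Matrix.diagonal w := by
  classical
  have h := stdHerm_isHermitian hc 3
  set B := stdHerm τ 3
  set L := (M : Matrix (Fin 3) (Fin 3) F)
  have hiso := (mem_GU_iff hτ).1 hM
  suffices H : ∀ n ≤ 3, ∃ f : Fin n → Fin 3 → F,
      (∀ i, ∃ a ∈ S, L *ᵥ f i = a • f i) ∧ ∀ i j, B (f i) (f j) = if i = j then 1 else 0 by
    obtain ⟨f, hf, hff⟩ := H 3 le_rfl
    choose w hw hLw using hf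
    obtain ⟨P, hP, hPf⟩ := exists_of_orthonormal hτ hff
    refine ⟨P, w, hP, hw, ?_⟩
    ext i j
    rw [Matrix.mul_diagonal, hPf, show (L * (P : Matrix (Fin 3) (Fin 3) F)) i j = (L *ᵥ f j) i by
      simp [Matrix.mul_apply, Matrix.mulVec, dotProduct, hPf], hLw, Pi.smul_apply, smul_eq_mul, mul_comm]
  intro n
  induction n with
  | zero => exact fun _ => ⟨Fin.elim0, fun i => i.elim0, fun i => i.elim0⟩
  | succ n ih =>
    intro hn
    obtain ⟨f, hf, hff⟩ := ih (by omega)
    choose a ha hfa using hf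
    let W : Submodule F (Fin 3 → F) := ⨅ i, LinearMap.ker (B (f i))
    have hmemW : ∀ u, u ∈ W ↔ ∀ i, B (f i) u = 0 := fun u => by simp [W]
    have hWL : ∀ u ∈ W, L *ᵥ u ∈ W := fun u hu => (hmemW _).2 fun i => by
      have ha0 : a i ≠ 0 := fun h0 => by
        have := hS _ (ha i)
        simp [h0] at this
      have hfi : f i = (a i)⁻¹ • (L *ᵥ f i) := by rw [hfa, inv_smul_smul₀ ha0]
      rw [hfi, map_smulₛₗ, LinearMap.smul_apply, hiso, (hmemW u).1 hu i, smul_zero]
    obtain ⟨y, hyW, hy0⟩ : ∃ y ∈ W, y ≠ 0 := by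
      let φ : (Fin 3 → F) →ₗ[F] (Fin n → F) := LinearMap.pi fun i => B (f i)
      have hk : LinearMap.ker φ ≠ ⊥ := LinearMap.ker_ne_bot_of_finrank_lt (by simp; omega)
      obtain ⟨y, hy, hy0⟩ := Submodule.exists_mem_ne_zero_of_ne_bot hk
      exact ⟨y, (hmemW y).2 fun i => congrFun (LinearMap.mem_ker.1 hy) i, hy0⟩
    obtain ⟨v, hv, hvv⟩ : ∃ v, (v ∈ W ∧ ∃ b ∈ S, L *ᵥ v = b • v) ∧ B v v ≠ 0 := by
      by_contra hno
      push Not at hno
      have hE : ∀ u v, (u ∈ W ∧ ∃ b ∈ S, L *ᵥ u = b • u) → (v ∈ W ∧ ∃ b ∈ S, L *ᵥ v = b • v) → B u v = 0 := by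
        rintro u v ⟨hu, b, hb, hub⟩ ⟨hv, c, hc', hvc⟩
        by_contra huv
        have h1 : τ b * c = 1 := by
          have := hiso u v
          rw [hub, hvc, map_smul, map_smulₛₗ, LinearMap.smul_apply, smul_eq_mul, smul_eq_mul, ← mul_assoc, mul_comm c (τ b)] at this
          exact (mul_eq_right₀ huv).1 this
        have hbc : b = c := by linear_combination c * hS b hb - b * h1
        subst hbc
        rcases h.exists_self_ne_zero huv with h2 | h2 | ⟨t, h2⟩
        · exact h2 (hno u ⟨hu, b, hb, hub⟩)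
        · exact h2 (hno v ⟨hv, b, hc', hvc⟩)
        · exact h2 (hno _ ⟨W.add_mem hu (W.smul_mem t hv), b, hb, by
            rw [Matrix.mulVec_add, Matrix.mulVec_smul, hub, hvc, smul_add, smul_comm]⟩)
      refine hy0 (stdHerm_sepRight (σ := τ) 3 y fun z => ?_)
      rw [← sub_add_cancel z (∑ i, B (f i) z • f i), map_add, LinearMap.add_apply,
        show B (∑ i, B (f i) z • f i) y = 0 by simp [map_smulₛₗ, (hmemW y).1 hyW], add_zero]
      have hz : z - ∑ i, B (f i) z • f i ∈ W := (hmemW _).2 fun i => by simp [hff]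
      have key : ∀ u, (u ∈ W ∧ ∃ b ∈ S, L *ᵥ u = b • u) → ∀ w ∈ W, B u w = 0 := fun u hu w hw => by
        have hsp := hspan W hWL w hw
        clear hw
        induction hsp using Submodule.span_induction with
        | mem w hw => exact hE u w hu hw
        | zero => rw [map_zero]
        | add a b _ _ e1 e2 => rw [map_add, e1, e2, add_zero]
        | smul c a _ e1 => rw [map_smul, e1, smul_zero]
      generalize z - ∑ i, B (f i) z • f i = z' at hz
      have hsp := hspan W hWL z' hz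
      clear hz
      induction hsp using Submodule.span_induction with
      | mem w hw => exact key w hw y hyW
      | zero => simp
      | add a b _ _ e1 e2 => simp [e1, e2]
      | smul c a _ e1 => simp [map_smulₛₗ, e1]
    obtain ⟨c, hc1⟩ := h.exists_scaled hvv (map_one τ)
    obtain ⟨hvW, b, hb, hvb⟩ := hv
    have hcW : c • v ∈ W := W.smul_mem c hvW
    refine ⟨Fin.cons (c • v) f, Fin.cases ⟨b, hb, by rw [Fin.cons_zero, Matrix.mulVec_smul, hvb, smul_comm]⟩
      fun i => ⟨a i, ha i, by rw [Fin.cons_succ, hfa]⟩, fun i j => ?_⟩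
    refine Fin.cases ?_ (fun i => ?_) i <;> refine Fin.cases ?_ (fun j => ?_) j
    · simp only [Fin.cons_zero, if_true]
      exact hc1
    · simp only [Fin.cons_zero, Fin.cons_succ]
      rw [if_neg (Fin.succ_ne_zero j).symm]
      exact h.isRefl _ _ ((hmemW _).1 hcW j)
    · simp only [Fin.cons_zero, Fin.cons_succ]
      rw [if_neg (Fin.succ_ne_zero i)]
      exact (hmemW _).1 hcW i
    · simp [hff]

theorem eigenspan_two_on (h2 : (2 : F) ≠ 0) {M : Matrix (Fin 3) (Fin 3) F} (hM : M * M = 1)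
    {W : Submodule F (Fin 3 → F)} (hW : ∀ u ∈ W, M *ᵥ u ∈ W) {v : Fin 3 → F} (hv : v ∈ W) :
    v ∈ Submodule.span F {u : Fin 3 → F | u ∈ W ∧ ∃ a ∈ ({1, -1} : Set F), M *ᵥ u = a • u} := by
  have h1 : (2 : F) • v = (v + M *ᵥ v) + (v - M *ᵥ v) := by rw [two_smul]; abel
  have hMM : M *ᵥ (M *ᵥ v) = v := by rw [Matrix.mulVec_mulVec, hM, Matrix.one_mulVec]
  rw [← inv_smul_smul₀ h2 v, h1]
  refine Submodule.smul_mem _ _ (add_mem (Submodule.subset_span ⟨W.add_mem hv (hW v hv), 1, by simp, ?_⟩)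
    (Submodule.subset_span ⟨W.sub_mem hv (hW v hv), -1, by simp, ?_⟩))
  · rw [one_smul, Matrix.mulVec_add, hMM, add_comm]
  · rw [neg_one_smul, Matrix.mulVec_sub, hMM, neg_sub]

theorem eigenspan_three_on {ω : F} (h3 : (3 : F) ≠ 0) (hω : ω ≠ 1) (hω3 : ω ^ 3 = 1)
    {M : Matrix (Fin 3) (Fin 3) F} (hM : M ^ 3 = 1) {W : Submodule F (Fin 3 → F)} (hW : ∀ u ∈ W, M *ᵥ u ∈ W)
    {v : Fin 3 → F} (hv : v ∈ W) :
    v ∈ Submodule.span F {u : Fin 3 → F | u ∈ W ∧ ∃ a ∈ {a : F | a ^ 3 = 1}, M *ᵥ u = a • u} := by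
  have hMM : M *ᵥ (M *ᵥ (M *ᵥ v)) = v := by
    rw [Matrix.mulVec_mulVec, Matrix.mulVec_mulVec, show M * M * M = M ^ 3 by rw [pow_succ, pow_two], hM,
      Matrix.one_mulVec]
  have hs := sum_roots hω hω3
  have h1 : (3 : F) • v = (v + M *ᵥ v + M *ᵥ (M *ᵥ v)) + ((v + ω ^ 2 • (M *ᵥ v) + ω • (M *ᵥ (M *ᵥ v))) +
      (v + ω • (M *ᵥ v) + ω ^ 2 • (M *ᵥ (M *ᵥ v)))) := by
    funext i
    simp only [Pi.add_apply, Pi.smul_apply, smul_eq_mul]
    linear_combination (- ((M *ᵥ v) i) - (M *ᵥ (M *ᵥ v)) i) * hs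
  have hm : ∀ a b : F, v + a • (M *ᵥ v) + b • (M *ᵥ (M *ᵥ v)) ∈ W := fun a b =>
    W.add_mem (W.add_mem hv (W.smul_mem _ (hW v hv))) (W.smul_mem _ (hW _ (hW v hv)))
  rw [← inv_smul_smul₀ h3 v, h1]
  refine Submodule.smul_mem _ _ (add_mem (Submodule.subset_span ⟨by simpa using hm 1 1, 1, ?_, ?_⟩)
    (add_mem (Submodule.subset_span ⟨hm _ _, ω, hω3, ?_⟩) (Submodule.subset_span ⟨hm _ _, ω ^ 2, ?_, ?_⟩)))
  · exact one_pow 3
  · rw [one_smul, Matrix.mulVec_add, Matrix.mulVec_add, hMM]; abel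
  · rw [Matrix.mulVec_add, Matrix.mulVec_add, Matrix.mulVec_smul, Matrix.mulVec_smul, hMM]
    funext i
    simp only [Pi.add_apply, Pi.smul_apply, smul_eq_mul]
    linear_combination (- ((M *ᵥ v) i)) * hω3
  · show (ω ^ 2) ^ 3 = 1
    rw [← pow_mul, mul_comm, pow_mul, hω3, one_pow]
  · rw [Matrix.mulVec_add, Matrix.mulVec_add, Matrix.mulVec_smul, Matrix.mulVec_smul, hMM]
    funext i
    simp only [Pi.add_apply, Pi.smul_apply, smul_eq_mul]
    linear_combination (- ((M *ᵥ v) i) - ω * (M *ᵥ (M *ᵥ v)) i) * hω3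

/-- Involutions of determinant one of the unitary group have a standard form. -/
theorem exists_involution_frame [Fintype F] (hτ : ∀ x, τ x = x ^ p) (hc : IsConjugation τ) (h2 : (2 : F) ≠ 0)
    {y : GL (Fin 3) F} (hy : y ∈ Cfsg.GU 3 F p) (hy1 : (y : Matrix (Fin 3) (Fin 3) F) * y = 1)
    (hyd : (y : Matrix (Fin 3) (Fin 3) F).det = 1)
    (hns : ∀ a : F, (y : Matrix (Fin 3) (Fin 3) F) ≠ a • (1 : Matrix (Fin 3) (Fin 3) F)) :
    ∃ P : GL (Fin 3) F, P ∈ Cfsg.GU 3 F p ∧
      (y : Matrix (Fin 3) (Fin 3) F) * (P : Matrix (Fin 3) (Fin 3) F) = (P : Matrix (Fin 3) (Fin 3) F) * Matrix.diagonal ![-1, -1, 1] := by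
  classical
  obtain ⟨P, w, hP, hw, hyP⟩ := exists_frame hτ hc hy {1, -1} (fun a ha => by
    rcases ha with rfl | rfl <;> simp) (fun W hW v hv => eigenspan_two_on h2 hy1 hW hv)
  have hprod : w 0 * w 1 * w 2 = 1 := by
    have := congrArg Matrix.det hyP
    rw [Matrix.det_mul, Matrix.det_mul, hyd, one_mul, Matrix.det_diagonal, Fin.prod_univ_three] at this
    exact (mul_eq_left₀ (Matrix.GeneralLinearGroup.det P).ne_zero).1 this.symm
  have hnc : ∀ c : F, ¬ (w 0 = c ∧ w 1 = c ∧ w 2 = c) := fun c hc' => by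
    apply hns c
    have hd : Matrix.diagonal w = c • (1 : Matrix (Fin 3) (Fin 3) F) := by
      ext i j
      fin_cases i <;> fin_cases j <;> simp [hc'.1, hc'.2.1, hc'.2.2]
    refine P.isUnit.mul_right_cancel ?_
    rw [hyP, hd, Matrix.mul_smul, Matrix.mul_one, Matrix.smul_mul, Matrix.one_mul]
  obtain ⟨σ, hσ⟩ : ∃ σ : Equiv.Perm (Fin 3), w ∘ σ = ![-1, -1, 1] := by
    have hmem : ∀ i, w i = 1 ∨ w i = -1 := fun i => by simpa using hw i
    have hne : (-1 : F) ≠ 1 := fun h => h2 (by linear_combination -h)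
    rcases hmem 0 with h0 | h0 <;> rcases hmem 1 with h1 | h1 <;> rcases hmem 2 with h3 | h3
    · exact absurd ⟨h0, h1, h3⟩ (hnc 1)
    · rw [h0, h1, h3] at hprod; exact absurd (by linear_combination hprod) hne
    · rw [h0, h1, h3] at hprod; exact absurd (by linear_combination hprod) hne
    · exact ⟨Equiv.swap 0 2, by ext i; fin_cases i <;> simp [Equiv.swap_apply_def, h0, h1, h3]⟩
    · rw [h0, h1, h3] at hprod; exact absurd (by linear_combination hprod) hne
    · exact ⟨Equiv.swap 1 2, by ext i; fin_cases i <;> simp [Equiv.swap_apply_def, h0, h1, h3]⟩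
    · exact ⟨1, by ext i; fin_cases i <;> simp [h0, h1, h3]⟩
    · exact absurd ⟨h0, h1, h3⟩ (hnc (-1))
  let f : Fin 3 → Fin 3 → F := fun j i => (P : Matrix (Fin 3) (Fin 3) F) i (σ j)
  have hf : ∀ i j, stdHerm τ 3 (f i) (f j) = if i = j then 1 else 0 := fun i j => by
    have e : ∀ j, f j = (P : Matrix (Fin 3) (Fin 3) F) *ᵥ Pi.single (σ j) 1 := fun j => by
      funext k; simp [f, Matrix.mulVec_single_one]
    rw [e, e, (mem_GU_iff hτ).1 hP, stdHerm_single]
    simp [Pi.single_apply]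
  obtain ⟨P₁, hP₁, hP₁f⟩ := exists_of_orthonormal hτ hf
  refine ⟨P₁, hP₁, ?_⟩
  ext i j
  have := congrFun (congrFun hyP i) (σ j)
  rw [Matrix.mul_diagonal] at this
  rw [← hσ, Matrix.mul_diagonal, hP₁f]
  simp only [Matrix.mul_apply, hP₁f] at this ⊢
  exact this

/-- Two unitary elements with the same diagonal form are conjugate in `SU₃`. -/
theorem exists_su_conj [Fintype F] (hτ : ∀ x, τ x = x ^ p) (hc : IsConjugation τ) {x y P P' : GL (Fin 3) F}
    (hP : P ∈ Cfsg.GU 3 F p) (hP' : P' ∈ Cfsg.GU 3 F p) {w : Fin 3 → F}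
    (hx : (x : Matrix (Fin 3) (Fin 3) F) * (P : Matrix (Fin 3) (Fin 3) F) = (P : Matrix (Fin 3) (Fin 3) F) * Matrix.diagonal w)
    (hy : (y : Matrix (Fin 3) (Fin 3) F) * (P' : Matrix (Fin 3) (Fin 3) F) = (P' : Matrix (Fin 3) (Fin 3) F) * Matrix.diagonal w) :
    ∃ g ∈ Cfsg.GU 3 F p ⊓ Cfsg.Geo.specialLinear (Fin 3) F, g⁻¹ * x * g = y := by
  classical
  let t : F := (P' : Matrix (Fin 3) (Fin 3) F).det / (P : Matrix (Fin 3) (Fin 3) F).det
  have hn := GU_det_norm hτ hP
  have hn' := GU_det_norm hτ hP'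
  have hP0 : (P : Matrix (Fin 3) (Fin 3) F).det ≠ 0 := (Matrix.GeneralLinearGroup.det P).ne_zero
  have hP0' : (P' : Matrix (Fin 3) (Fin 3) F).det ≠ 0 := (Matrix.GeneralLinearGroup.det P').ne_zero
  have ht : t * τ t = 1 := by
    simp only [t, map_div₀]
    rw [div_mul_div_comm, hn, hn', div_one]
  have hd : (Matrix.diagonal ![t, 1, 1]).det = t := by simp [Matrix.det_diagonal, Fin.prod_univ_three]
  let D : GL (Fin 3) F := Matrix.GeneralLinearGroup.mkOfDetNeZero (Matrix.diagonal ![t, 1, 1])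
    (by rw [hd]; exact div_ne_zero hP0' hP0)
  have hDU : D ∈ Cfsg.GU 3 F p := (mem_GU_iff hτ).2 fun u v => by
    show stdHerm τ 3 (Matrix.diagonal ![t, 1, 1] *ᵥ u) (Matrix.diagonal ![t, 1, 1] *ᵥ v) = _
    simp only [stdHerm_apply, Fin.sum_univ_three, Matrix.mulVec_diagonal]
    simp
    linear_combination τ (u 0) * v 0 * ht
  refine ⟨P * D * P'⁻¹, ⟨Subgroup.mul_mem _ (Subgroup.mul_mem _ hP hDU) (Subgroup.inv_mem _ hP'), mem_sl.2 ?_⟩, ?_⟩
  · rw [Units.val_mul, Units.val_mul, Matrix.det_mul, Matrix.det_mul,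
      show (D : Matrix (Fin 3) (Fin 3) F).det = t from hd]
    have h1 : (P' : Matrix (Fin 3) (Fin 3) F).det * ((P'⁻¹ : GL (Fin 3) F) : Matrix (Fin 3) (Fin 3) F).det = 1 := by
      rw [← Matrix.det_mul, ← Units.val_mul, mul_inv_cancel, Units.val_one, Matrix.det_one]
    simp only [t]
    field_simp
    linear_combination h1
  · have hc : x * (P * D * P'⁻¹) = P * D * P'⁻¹ * y := by
      have hPi : ((P'⁻¹ : GL (Fin 3) F) : Matrix (Fin 3) (Fin 3) F) * P' = 1 := by
        rw [← Units.val_mul, inv_mul_cancel, Units.val_one]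
      have hD : Matrix.diagonal w * (D : Matrix (Fin 3) (Fin 3) F) = (D : Matrix (Fin 3) (Fin 3) F) * Matrix.diagonal w := by
        show Matrix.diagonal w * Matrix.diagonal ![t, 1, 1] = Matrix.diagonal ![t, 1, 1] * Matrix.diagonal w
        rw [Matrix.diagonal_mul_diagonal, Matrix.diagonal_mul_diagonal]
        simp only [mul_comm]
      refine Units.ext (P'.isUnit.mul_right_cancel ?_)
      simp only [Units.val_mul, Matrix.mul_assoc]
      rw [hPi, Matrix.mul_one, hy, ← Matrix.mul_assoc (x : Matrix (Fin 3) (Fin 3) F), hx, Matrix.mul_assoc, hD,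
        ← Matrix.mul_assoc ((P'⁻¹ : GL (Fin 3) F) : Matrix (Fin 3) (Fin 3) F), hPi, Matrix.one_mul]
    rw [mul_assoc, hc, inv_mul_cancel_left]

/-- The standard coordinates of an extraspecial subgroup of the unitary group can be chosen unitary. -/
theorem exists_unitary_frame [Fintype F] (hτ : ∀ x, τ x = x ^ p) (hc : IsConjugation τ) {ω : F} (hω : ω ≠ 1)
    (hω3 : ω ^ 3 = 1) (hωn : ω * τ ω = 1) {A B Q : GL (Fin 3) F} (hA : A ∈ Cfsg.GU 3 F p) (hB : B ∈ Cfsg.GU 3 F p)
    (hAQ : (A : Matrix (Fin 3) (Fin 3) F) * (Q : Matrix (Fin 3) (Fin 3) F) = (Q : Matrix (Fin 3) (Fin 3) F) * Matrix.diagonal ![1, ω, ω ^ 2])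
    (hBQ : (B : Matrix (Fin 3) (Fin 3) F) * (Q : Matrix (Fin 3) (Fin 3) F) =
      (Q : Matrix (Fin 3) (Fin 3) F) * !![0, 0, 1; 1, 0, 0; 0, 1, 0]) :
    ∃ Q' : GL (Fin 3) F, Q' ∈ Cfsg.GU 3 F p ∧
      (A : Matrix (Fin 3) (Fin 3) F) * (Q' : Matrix (Fin 3) (Fin 3) F) = (Q' : Matrix (Fin 3) (Fin 3) F) * Matrix.diagonal ![1, ω, ω ^ 2] ∧
      (B : Matrix (Fin 3) (Fin 3) F) * (Q' : Matrix (Fin 3) (Fin 3) F) =
        (Q' : Matrix (Fin 3) (Fin 3) F) * !![0, 0, 1; 1, 0, 0; 0, 1, 0] := by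
  classical
  set H := stdHerm τ 3
  let W : Fin 3 → Fin 3 → F := fun j i => (Q : Matrix (Fin 3) (Fin 3) F) i j
  have hAW : ∀ j, (A : Matrix (Fin 3) (Fin 3) F) *ᵥ W j = ω ^ (j : ℕ) • W j := fun j => by
    funext i
    have := congrFun (congrFun hAQ i) j
    rw [Matrix.mul_diagonal] at this
    rw [show ((A : Matrix (Fin 3) (Fin 3) F) *ᵥ W j) i = ((A : Matrix (Fin 3) (Fin 3) F) * Q) i j from rfl, this,
      Pi.smul_apply, smul_eq_mul, mul_comm]
    congr 1
    fin_cases j <;> simp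
  have hBW : ∀ j : Fin 3, (B : Matrix (Fin 3) (Fin 3) F) *ᵥ W j = W (j + 1) := fun j => by
    funext i
    rw [show ((B : Matrix (Fin 3) (Fin 3) F) *ᵥ W j) i =
      ((B : Matrix (Fin 3) (Fin 3) F) * (Q : Matrix (Fin 3) (Fin 3) F)) i j from rfl, hBQ, Matrix.mul_apply,
      Fin.sum_univ_three]
    fin_cases j <;> simp [W]
  have horth : ∀ i j, i ≠ j → H (W i) (W j) = 0 := fun i j hij => by
    have h := (mem_GU_iff hτ).1 hA (W i) (W j)
    rw [hAW, hAW, map_smul, map_smulₛₗ, LinearMap.smul_apply, smul_eq_mul, smul_eq_mul, ← mul_assoc, mul_comm (ω ^ (j : ℕ))] at h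
    by_contra hne
    have h1 := (mul_eq_right₀ hne).1 h
    rw [map_pow] at h1
    have hinj : ω ^ (j : ℕ) = ω ^ (i : ℕ) := by
      have h2 : ω ^ (i : ℕ) * τ ω ^ (i : ℕ) = 1 := by rw [← mul_pow, hωn, one_pow]
      linear_combination ω ^ (i : ℕ) * h1 - ω ^ (j : ℕ) * h2
    have hord : orderOf ω = 3 := orderOf_eq_prime (hp := ⟨Nat.prime_three⟩) hω3 hω
    exact hij (Fin.ext (pow_injOn_Iio_orderOf (by simp [hord]) (by simp [hord]) hinj).symm)
  have hnorm : ∀ j, H (W j) (W j) = H (W 0) (W 0) := by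
    have h1 : ∀ j, H (W (j + 1)) (W (j + 1)) = H (W j) (W j) := fun j => by
      rw [← hBW]; exact (mem_GU_iff hτ).1 hB _ _
    intro j
    fin_cases j
    · rfl
    · exact h1 0
    · exact (h1 1).trans (h1 0)
  have hd : H (W 0) (W 0) ≠ 0 := fun h0 => by
    have hQe : ∀ j, (Q : Matrix (Fin 3) (Fin 3) F) *ᵥ Pi.single j 1 = W j := fun j => by
      funext i; simp [W, Matrix.mulVec_single_one]
    have hW0 : W 0 = 0 := stdHerm_sepRight (σ := τ) 3 _ fun z => by
      obtain ⟨u, hu⟩ := Matrix.mulVec_surjective_iff_isUnit.2 Q.isUnit z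
      rw [← hu, show u = ∑ j, u j • Pi.single j 1 from pi_eq_sum_univ' u]
      simp only [Matrix.mulVec_sum, Matrix.mulVec_smul, hQe, map_sum, map_smulₛₗ, LinearMap.sum_apply,
        LinearMap.smul_apply]
      refine Finset.sum_eq_zero fun j _ => ?_
      rcases eq_or_ne j 0 with rfl | hj
      · exact smul_eq_zero_of_right _ h0
      · exact smul_eq_zero_of_right _ (horth j 0 hj)
    have := Matrix.mulVec_injective_iff_isUnit.2 Q.isUnit (((hQe 0).trans hW0).trans (Matrix.mulVec_zero _).symm)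
    simpa using congrFun this 0
  obtain ⟨c, hc1⟩ := (stdHerm_isHermitian hc 3).exists_scaled hd (map_one τ)
  rw [(stdHerm_isHermitian hc 3).smul_self] at hc1
  obtain ⟨Q', hQ', hQ'f⟩ := exists_of_orthonormal hτ (f := fun j => c • W j) fun i j => by
    rw [map_smul, map_smulₛₗ, LinearMap.smul_apply, smul_eq_mul, smul_eq_mul]
    rcases eq_or_ne i j with rfl | hij
    · rw [if_pos rfl, hnorm, ← hc1]; ring
    · rw [if_neg hij, horth i j hij, mul_zero, mul_zero]
  have hQ'c : (Q' : Matrix (Fin 3) (Fin 3) F) = c • (Q : Matrix (Fin 3) (Fin 3) F) := by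
    ext i j; rw [hQ'f]; rfl
  refine ⟨Q', hQ', ?_, ?_⟩ <;> rw [hQ'c, Matrix.mul_smul, Matrix.smul_mul]
  · rw [hAQ]
  · rw [hBQ]

end Aux

/-- Elements of prime order of PSU_3(p), p ≡ 2 (mod 3), and the normalizer of an extraspecial subgroup of order 27. Here `T = PSU_3(p)` for a prime `p ≥ 5` with `p ≡ 2 (mod 3)`, realised through `SU_3(p)`, the matrices of determinant 1 over the field `F` with `p²` elements preserving the hermitian form `Σ uᵢvᵢ^p`; `R` is a non-abelian subgroup of order 27 and exponent 3 of the full unitary group of that form (an extraspecial group 3^{1+2}, acting absolutely irreducibly), and `H` is the subgroup of `SU_3(p)` normalizing `R` — a subgroup of type 3^{1+2}.Sp₂(3) (maximality is not assumed). Ω is the set of cosets of `H`, so an element of `T` of prime order `r` (`x ∈ SU_3(p)` with `x^r` scalar, `x` not scalar) fixes a point of Ω exactly when some `SU_3(p)`-conjugate of `x` normalizes `R`. Let `r` be a prime dividing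 the index of `H`. Then every element of `T` of order `r` fixes a point of Ω if and only if `r = 2`, or `r = 3` and `p ≡ 8 (mod 9)`. -/
theorem result {F : Type*} [Field F] [Fintype F] {p : ℕ} [Fact p.Prime] [CharP F p] (hF : Fintype.card F = p ^ 2) (hp : 5 ≤ p) (hp3 : p % 3 = 2)
    (R : Subgroup (GL (Fin 3) F)) (hRU : R ≤ Cfsg.GU 3 F p) (hR : Nat.card R = 27) (hRe : Monoid.exponent R = 3) (hRna : ¬ IsMulCommutative R)
    (r : ℕ) [Fact r.Prime]
    (hΩ : r ∣ (Cfsg.Geo.subgroupNormalizer R).relIndex (Cfsg.GU 3 F p ⊓ Cfsg.Geo.specialLinear (Fin 3) F)) :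
    (∀ x ∈ Cfsg.GU 3 F p ⊓ Cfsg.Geo.specialLinear (Fin 3) F, (∃ z : F, ((x ^ r : GL (Fin 3) F) : Matrix (Fin 3) (Fin 3) F) = z • (1 : Matrix (Fin 3) (Fin 3) F)) →
      (∀ z : F, (x : Matrix (Fin 3) (Fin 3) F) ≠ z • (1 : Matrix (Fin 3) (Fin 3) F)) →
      ∃ g ∈ Cfsg.GU 3 F p ⊓ Cfsg.Geo.specialLinear (Fin 3) F, g⁻¹ * x * g ∈ Cfsg.Geo.subgroupNormalizer R) ↔ (r = 2 ∨ (r = 3 ∧ p % 9 = 8)) := by
  classical
  have hp2 := (Fact.out : p.Prime).two_le
  obtain ⟨τ, hτ, hc⟩ := exists_frob hF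
  have hu : Nat.card Fˣ = p ^ 2 - 1 := by rw [Nat.card_units, Nat.card_eq_fintype_card, hF]
  have hp21 : p ^ 2 - 1 = (p + 1) * (p - 1) := by rw [show (1 : ℕ) = 1 ^ 2 from rfl, Nat.sq_sub_sq]; simp
  have h3p : 3 ∣ p + 1 := by omega
  obtain ⟨ω₀, hω₀, hω₀3⟩ : ∃ ω : F, ω ≠ 1 ∧ ω ^ 3 = 1 := by
    obtain ⟨u, hu'⟩ := exists_prime_orderOf_dvd_card' (G := Fˣ) 3 (hp := ⟨Nat.prime_three⟩)
      (by rw [hu, hp21]; exact h3p.mul_right _)
    refine ⟨u, fun h => ?_, by rw [← Units.val_pow_eq_pow_val, ← hu', pow_orderOf_eq_one, Units.val_one]⟩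
    rw [Units.val_eq_one] at h
    rw [h, orderOf_one] at hu'
    omega
  obtain ⟨ω, Q₀, A, B, C, hω, hω3, hAR, hBR, hCR, hC, hA₀, hB₀, hall⟩ := exists_std hR hRe hRna hω₀ hω₀3
  have hs := sum_roots hω hω3
  have hω0 : ω ≠ 0 := fun h => by simp [h] at hω3
  have hnorm : ∀ a : F, a ^ 3 = 1 → a * τ a = 1 := fun a ha => by
    obtain ⟨k, hk⟩ := h3p
    rw [hτ, ← pow_succ', hk, pow_mul, ha, one_pow]
  obtain ⟨Q, hQU, hA, hB⟩ := exists_unitary_frame hτ hc hω hω3 (hnorm ω hω3) (hRU hAR) (hRU hBR) hA₀ hB₀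
  have hCc : ∀ g : GL (Fin 3) F, g * C = C * g := fun g => Units.ext (by
    rw [Units.val_mul, Units.val_mul, hC, Matrix.mul_smul, Matrix.mul_one, Matrix.smul_mul, Matrix.one_mul])
  have hN : ∀ g : GL (Fin 3) F, g * A * g⁻¹ ∈ R → g * B * g⁻¹ ∈ R → g ∈ Cfsg.Geo.subgroupNormalizer R := by
    intro g h1 h2
    have hle : ∀ r ∈ R, g * r * g⁻¹ ∈ R := fun r hr => by
      obtain ⟨i, j, k, rfl⟩ := hall r hr
      rw [show g * (C ^ i * A ^ j * B ^ k) * g⁻¹ = (g * C * g⁻¹) ^ i * (g * A * g⁻¹) ^ j * (g * B * g⁻¹) ^ k by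
        rw [conj_pow, conj_pow, conj_pow]; group, hCc, mul_inv_cancel_right]
      exact R.mul_mem (R.mul_mem (R.pow_mem hCR _) (R.pow_mem h1 _)) (R.pow_mem h2 _)
    refine Subgroup.mem_normalizer_iff.2 fun r => ⟨hle r, fun hr => ?_⟩
    let f : R → R := fun u => ⟨g * u * g⁻¹, hle _ u.2⟩
    have hf : Function.Injective f := fun u v h => Subtype.ext
      (mul_left_cancel (mul_right_cancel (congrArg Subtype.val h)))
    obtain ⟨u, hu⟩ := Finite.surjective_of_injective hf ⟨_, hr⟩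
    have h' : g * (u : GL (Fin 3) F) * g⁻¹ = g * r * g⁻¹ := congrArg Subtype.val hu
    rw [mul_left_inj, mul_right_inj] at h'
    exact h' ▸ u.2
  have hmemR : ∀ (i j k : ℕ), C ^ i * A ^ j * B ^ k ∈ R := fun i j k =>
    R.mul_mem (R.mul_mem (R.pow_mem hCR _) (R.pow_mem hAR _)) (R.pow_mem hBR _)
  -- membership through the standard coordinates
  have hQN : ∀ (g : GL (Fin 3) F) (M XA XB : Matrix (Fin 3) (Fin 3) F) (i j k i' j' k' : ℕ),
      (g : Matrix (Fin 3) (Fin 3) F) * (Q : Matrix (Fin 3) (Fin 3) F) = (Q : Matrix (Fin 3) (Fin 3) F) * M →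
      M * Matrix.diagonal ![1, ω, ω ^ 2] = XA * M → M * !![0, 0, 1; 1, 0, 0; 0, 1, 0] = XB * M →
      XA = ω ^ i • (Matrix.diagonal ![1, ω, ω ^ 2] ^ j * !![0, 0, 1; 1, 0, 0; 0, 1, 0] ^ k) →
      XB = ω ^ i' • (Matrix.diagonal ![1, ω, ω ^ 2] ^ j' * !![0, 0, 1; 1, 0, 0; 0, 1, 0] ^ k') →
      g ∈ Cfsg.Geo.subgroupNormalizer R := by
    intro g M XA XB i j k i' j' k' hg h1 h2 h3 h4
    have hpow : ∀ (T : GL (Fin 3) F) (N : Matrix (Fin 3) (Fin 3) F),
        (T : Matrix (Fin 3) (Fin 3) F) * (Q : Matrix (Fin 3) (Fin 3) F) = (Q : Matrix (Fin 3) (Fin 3) F) * N → ∀ m : ℕ,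
        (T : Matrix (Fin 3) (Fin 3) F) ^ m * Q = (Q : Matrix (Fin 3) (Fin 3) F) * N ^ m := fun T N hT m =>
      ((show SemiconjBy (Q : Matrix (Fin 3) (Fin 3) F) N T from hT.symm).pow_right m).symm
    have key : ∀ (T : GL (Fin 3) F) (N X : Matrix (Fin 3) (Fin 3) F) (i j k : ℕ),
        (T : Matrix (Fin 3) (Fin 3) F) * (Q : Matrix (Fin 3) (Fin 3) F) = (Q : Matrix (Fin 3) (Fin 3) F) * N → M * N = X * M →
        X = ω ^ i • (Matrix.diagonal ![1, ω, ω ^ 2] ^ j * !![0, 0, 1; 1, 0, 0; 0, 1, 0] ^ k) →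
        g * T * g⁻¹ ∈ R := by
      intro T N X i j k hT hX hXe
      suffices g * T = C ^ i * A ^ j * B ^ k * g by
        rw [this, mul_inv_cancel_right]
        exact hmemR i j k
      refine Units.ext (Q.isUnit.mul_right_cancel ?_)
      simp only [Units.val_mul, Units.val_pow_eq_pow_val, hC, smul_pow, one_pow, Matrix.smul_mul, Matrix.one_mul]
      rw [Matrix.mul_assoc, hT, ← Matrix.mul_assoc, hg, Matrix.mul_assoc, hX, hXe, Matrix.smul_mul, Matrix.mul_smul]
      congr 1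
      rw [Matrix.mul_assoc _ _ (g : Matrix (Fin 3) (Fin 3) F) |>.symm.symm, Matrix.mul_assoc _ _ (Q : Matrix (Fin 3) (Fin 3) F),
        Matrix.mul_assoc _ (g : Matrix (Fin 3) (Fin 3) F), hg, ← Matrix.mul_assoc _ (Q : Matrix (Fin 3) (Fin 3) F),
        hpow B _ hB]
      simp only [← Matrix.mul_assoc, hpow A _ hA]
    exact hN g (key A _ XA i j k hA h1 h3) (key B _ XB i' j' k' hB h2 h4)
  have hscal : ∀ (g : GL (Fin 3) F) (z : F), (g : Matrix (Fin 3) (Fin 3) F) = z • 1 →
      g ∈ Cfsg.Geo.subgroupNormalizer R := fun g z hz => by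
    have h : ∀ h : GL (Fin 3) F, g * h * g⁻¹ = h := fun h => by
      rw [mul_inv_eq_iff_eq_mul]
      exact Units.ext (by
        rw [Units.val_mul, Units.val_mul, hz, Matrix.mul_smul, Matrix.mul_one, Matrix.smul_mul, Matrix.one_mul])
    exact hN g (by rw [h]; exact hAR) (by rw [h]; exact hBR)
  constructor
  · intro hfix
    by_contra hcon
    push Not at hcon
    obtain ⟨hr2, hr3⟩ := hcon
    have hr := (Fact.out : r.Prime)
    have hcardSL : Nat.card (Cfsg.GU 3 F p ⊓ Cfsg.Geo.specialLinear (Fin 3) F : Subgroup (GL (Fin 3) F)) =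
        Nat.card (Cfsg.SU 3 F p) := (Nat.card_congr
      (Equiv.ofBijective (fun s : Cfsg.SU 3 F p => (⟨Matrix.SpecialLinearGroup.toGL s.1, s.2, mem_sl.2 s.1.2⟩ :
        (Cfsg.GU 3 F p ⊓ Cfsg.Geo.specialLinear (Fin 3) F : Subgroup (GL (Fin 3) F)))) ⟨fun s t h => Subtype.ext
          (Subtype.ext (congrArg (fun u : (Cfsg.GU 3 F p ⊓ Cfsg.Geo.specialLinear (Fin 3) F :
            Subgroup (GL (Fin 3) F)) => ((u : GL (Fin 3) F) : Matrix (Fin 3) (Fin 3) F)) h)),
          fun g => ⟨⟨⟨(g : GL (Fin 3) F), mem_sl.1 g.2.2⟩, g.2.1⟩, Subtype.ext (Units.ext rfl)⟩⟩)).symm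
    have hRS : R ≤ Cfsg.Geo.specialLinear (Fin 3) F := fun g hg => by
      obtain ⟨i, j, k, rfl⟩ := hall g hg
      have hd : ∀ (T : GL (Fin 3) F) (N : Matrix (Fin 3) (Fin 3) F),
          (T : Matrix (Fin 3) (Fin 3) F) * (Q : Matrix (Fin 3) (Fin 3) F) = (Q : Matrix (Fin 3) (Fin 3) F) * N → N.det = 1 →
          T ∈ Cfsg.Geo.specialLinear (Fin 3) F := fun T N hT hN1 => mem_sl.2 (by
        have := congrArg Matrix.det hT
        rw [Matrix.det_mul, Matrix.det_mul, hN1, mul_one] at this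
        exact mul_eq_right₀ ((Matrix.GeneralLinearGroup.det Q).ne_zero) |>.1 this)
      refine Subgroup.mul_mem _ (Subgroup.mul_mem _ (Subgroup.pow_mem _ ?_ _)
        (Subgroup.pow_mem _ (hd A _ hA ?_) _)) (Subgroup.pow_mem _ (hd B _ hB ?_) _)
      · rw [mem_sl, hC, Matrix.det_smul, Matrix.det_one, mul_one, Fintype.card_fin, hω3]
      · simp only [Matrix.det_diagonal, Fin.prod_univ_three]
        simp
        linear_combination hω3
      · simp [Matrix.det_fin_three]
    have hRG : R ≤ Cfsg.GU 3 F p ⊓ Cfsg.Geo.specialLinear (Fin 3) F := le_inf hRU hRS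
    by_cases hr3' : r = 3
    · subst hr3'
      have h9 : p % 9 ≠ 8 := hr3 rfl
      obtain ⟨k, rfl⟩ : ∃ k, p = 3 * k + 2 := ⟨p / 3, by omega⟩
      have hk3 : ¬ 3 ∣ k + 1 := fun ⟨j, hj⟩ => h9 (by omega)
      set H := (Cfsg.Geo.subgroupNormalizer R).subgroupOf
        (Cfsg.GU 3 F (3 * k + 2) ⊓ Cfsg.Geo.specialLinear (Fin 3) F) with hH
      have h27 : 27 ∣ Nat.card H := by
        have hle : R.subgroupOf (Cfsg.GU 3 F (3 * k + 2) ⊓ Cfsg.Geo.specialLinear (Fin 3) F) ≤ H := fun u hu =>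
          Subgroup.le_normalizer hu
        refine Dvd.dvd.trans ?_ (Subgroup.card_dvd_of_le hle)
        rw [Nat.card_congr (Subgroup.subgroupOfEquivOfLe hRG).toEquiv, hR]
      have h81 : 81 ∣ Nat.card (Cfsg.GU 3 F (3 * k + 2) ⊓ Cfsg.Geo.specialLinear (Fin 3) F :
          Subgroup (GL (Fin 3) F)) := by
        rw [← Subgroup.index_mul_card H]
        exact (show 81 = 3 * 27 by norm_num) ▸ Nat.mul_dvd_mul hΩ h27
      rw [hcardSL] at h81
      obtain ⟨c, hc81⟩ := h81
      have hC := card_SU_mul (n := 3) hF (by omega)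
      rw [card_GU hF, hc81] at hC
      simp only [Finset.prod_range_succ, Finset.prod_range_zero, one_mul] at hC
      simp (decide := true) only [if_true, if_false] at hC
      have e1 : (3 * k + 2) ^ (0 + 1) + 1 = 3 * (k + 1) := by ring
      have e2 : (3 * k + 2) ^ (1 + 1) - 1 = 3 * (k + 1) * (3 * k + 1) := Nat.sub_eq_of_eq_add (by ring)
      have e3 : (3 * k + 2) ^ (2 + 1) + 1 = 9 * (k + 1) * (3 * k ^ 2 + 3 * k + 1) := by ring
      have e4 : (3 * k + 2 + 1) = 3 * (k + 1) := by ring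
      rw [e1, e2, e3, e4] at hC
      have h : 3 * c = (3 * k + 2) ^ (3 * (3 - 1) / 2) * (k + 1) ^ 2 * (3 * k + 1) * (3 * k ^ 2 + 3 * k + 1) := by
        refine Nat.eq_of_mul_eq_mul_left (show 0 < 81 * (k + 1) by omega) ?_
        linear_combination hC
      have hdvd : 3 ∣ (3 * k + 2) ^ (3 * (3 - 1) / 2) * (k + 1) ^ 2 * (3 * k + 1) * (3 * k ^ 2 + 3 * k + 1) :=
        h ▸ dvd_mul_right 3 c
      have p3 := Nat.prime_three
      rcases p3.dvd_mul.1 hdvd with h | h
      · rcases p3.dvd_mul.1 h with h | h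
        · rcases p3.dvd_mul.1 h with h | h
          · have := p3.dvd_of_dvd_pow h; omega
          · exact hk3 (p3.dvd_of_dvd_pow h)
        · omega
      · omega
    · have hr5 : 5 ≤ r := by
        have := hr.two_le
        have h4 : r ≠ 4 := fun h => by rw [h] at hr; exact absurd hr (by norm_num)
        omega
      obtain ⟨x, hx⟩ := exists_prime_orderOf_dvd_card' (G := (Cfsg.GU 3 F p ⊓ Cfsg.Geo.specialLinear (Fin 3) F : Subgroup (GL (Fin 3) F))) r
        (hΩ.trans (Subgroup.index_dvd_card _))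
      have hx1 : (x : GL (Fin 3) F) ^ r = 1 := by
        rw [← SubgroupClass.coe_pow, ← hx, pow_orderOf_eq_one, OneMemClass.coe_one]
      have hxne : (x : GL (Fin 3) F) ≠ 1 := fun h => by
        rw [OneMemClass.coe_eq_one] at h
        rw [h, orderOf_one] at hx
        omega
      obtain ⟨g, -, hg⟩ := hfix x x.2 ⟨1, by rw [hx1, Units.val_one, one_smul]⟩ fun z hz => hxne (Units.ext (by
        have h3 : z ^ 3 = 1 := by
          have := mem_sl.1 x.2.2
          rwa [hz, Matrix.det_smul, Matrix.det_one, mul_one, Fintype.card_fin] at this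
        have hrz : z ^ r = 1 := by
          have := congrArg (fun g : GL (Fin 3) F => (g : Matrix (Fin 3) (Fin 3) F) 0 0) hx1
          simpa [Units.val_pow_eq_pow_val, hz, smul_pow] using this
        have : z ^ Nat.gcd 3 r = 1 := pow_gcd_eq_one.2 ⟨h3, hrz⟩
        rw [Nat.Coprime.gcd_eq_one (by
          rw [Nat.coprime_primes Nat.prime_three hr]; omega), pow_one] at this
        rw [hz, this, one_smul, Units.val_one]))
      set h := g⁻¹ * (x : GL (Fin 3) F) * g with hh
      have hh1 : h ^ r = 1 := by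
        rw [hh, show g⁻¹ * (x : GL (Fin 3) F) * g = g⁻¹ * x * g⁻¹⁻¹ by rw [inv_inv], conj_pow, hx1]
        group
      have hhne : h ≠ 1 := fun e => hxne (by
        rw [hh, mul_eq_one_iff_eq_inv, mul_eq_left] at e
        exact e)
      rw [Cfsg.Geo.subgroupNormalizer, Subgroup.mem_normalizer_iff] at hg
      let e : R ≃* R :=
        { toFun := fun u => ⟨h * u * h⁻¹, (hg _).1 u.2⟩
          invFun := fun u => ⟨h⁻¹ * u * h, (hg _).2 (by rw [show h * (h⁻¹ * u * h) * h⁻¹ = (u : GL (Fin 3) F) by group]; exact u.2)⟩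
          left_inv := fun u => Subtype.ext (by show h⁻¹ * (h * u * h⁻¹) * h = u; group)
          right_inv := fun u => Subtype.ext (by show h * (h⁻¹ * u * h) * h⁻¹ = u; group)
          map_mul' := fun u v => Subtype.ext (by show h * (u * v : GL (Fin 3) F) * h⁻¹ = _; simp) }
      let σ : Equiv.Perm R := e.toEquiv
      have hσ : σ ^ r ^ 1 = 1 := by
        have hm : ∀ (m : ℕ) (u : R), ((σ ^ m) u : GL (Fin 3) F) = h ^ m * u * (h ^ m)⁻¹ := fun m => by
          induction m with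
          | zero => intro u; simp
          | succ m ih =>
            intro u
            rw [pow_succ', Equiv.Perm.mul_apply]
            show h * ((σ ^ m) u : GL (Fin 3) F) * h⁻¹ = _
            rw [ih, pow_succ']
            group
        ext u
        rw [pow_one, hm, hh1]
        simp
      let K : Subgroup R := MonoidHom.eqLocus e.toMonoidHom (MonoidHom.id R)
      have hmod := Equiv.Perm.card_compl_support_modEq (p := r) (n := 1) hσ
      have hK : Nat.card K = σ.supportᶜ.card := by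
        rw [← Nat.card_eq_finsetCard]
        exact Nat.card_congr (Equiv.subtypeEquivRight fun u => by
          rw [Finset.mem_compl, Equiv.Perm.mem_support, not_not]; rfl)
      have hdvd : Nat.card K ∣ 3 ^ 3 := by
        have := K.card_subgroup_dvd_card
        rwa [hR] at this
      obtain ⟨m, hm, hKm⟩ := (Nat.dvd_prime_pow Nat.prime_three).1 hdvd
      rw [← hK, ← Nat.card_eq_fintype_card, hR, hKm] at hmod
      have hm1 : m ≠ 0 := fun h0 => by
        rw [h0, pow_zero] at hKm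
        have hone := (Nat.card_eq_one_iff_unique.1 hKm).1
        have hmem : (⟨C, hCR⟩ : R) ∈ K := Subtype.ext (show h * C * h⁻¹ = C by rw [hCc, mul_inv_cancel_right])
        have hC1 : C = 1 := congrArg (fun u : K => ((u : R) : GL (Fin 3) F))
          (Subsingleton.elim (⟨_, hmem⟩ : K) ⟨1, K.one_mem⟩)
        rw [hC1, Units.val_one] at hC
        exact hω (by simpa using (congrFun (congrFun hC 0) 0).symm)
      have hm3 : m ≠ 3 := fun h0 => by
        rw [h0, ← (show Nat.card R = 3 ^ 3 by rw [hR]; norm_num)] at hKm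
        have htop := Subgroup.eq_top_of_card_eq K hKm
        have hcom : ∀ T ∈ R, h * T = T * h := fun T hT => by
          have : (⟨T, hT⟩ : R) ∈ K := htop ▸ Subgroup.mem_top _
          have := congrArg Subtype.val this
          exact mul_inv_eq_iff_eq_mul.1 this
        set M := ((Q⁻¹ : GL (Fin 3) F) : Matrix (Fin 3) (Fin 3) F) * (h : Matrix (Fin 3) (Fin 3) F) * Q with hMdef
        have hQi : (Q : Matrix (Fin 3) (Fin 3) F) * ((Q⁻¹ : GL (Fin 3) F) : Matrix (Fin 3) (Fin 3) F) = 1 := by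
          rw [← Units.val_mul, mul_inv_cancel, Units.val_one]
        have hQM : (h : Matrix (Fin 3) (Fin 3) F) * (Q : Matrix (Fin 3) (Fin 3) F) = (Q : Matrix (Fin 3) (Fin 3) F) * M := by
          rw [hMdef, ← Matrix.mul_assoc, ← Matrix.mul_assoc, hQi, Matrix.one_mul]
        have hcm : ∀ (T : GL (Fin 3) F) (N : Matrix (Fin 3) (Fin 3) F), T ∈ R →
            (T : Matrix (Fin 3) (Fin 3) F) * (Q : Matrix (Fin 3) (Fin 3) F) = (Q : Matrix (Fin 3) (Fin 3) F) * N → M * N = N * M := by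
          intro T N hT hTN
          refine Q.isUnit.mul_left_cancel ?_
          rw [← Matrix.mul_assoc, ← hQM, Matrix.mul_assoc, ← hTN, ← Matrix.mul_assoc, ← Units.val_mul, hcom T hT,
            Units.val_mul, Matrix.mul_assoc, hQM, ← Matrix.mul_assoc, hTN, Matrix.mul_assoc]
        have h1 := hcm A _ hAR hA
        have h2 := hcm B _ hBR hB
        have hinj : Function.Injective (![1, ω, ω ^ 2] : Fin 3 → F) := by
          have hw2 : ω ^ 2 ≠ 1 := fun h => hω (by linear_combination hω3 - ω * h)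
          have hw3 : ω ^ 2 ≠ ω := fun h => hω (mul_left_cancel₀ hω0 (by linear_combination h))
          intro i j hij
          fin_cases i <;> fin_cases j <;> simp [-sq_eq_one_iff] at hij ⊢ <;>
            first
            | exact hω hij | exact hω hij.symm | exact hw2 hij | exact hw2 hij.symm
            | exact hw3 hij | exact hw3 hij.symm
        have hoff : ∀ i j, i ≠ j → M i j = 0 := fun i j hij => by
          have := congrFun (congrFun h1 i) j
          rw [Matrix.mul_diagonal, Matrix.diagonal_mul] at this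
          have h' : M i j * (![1, ω, ω ^ 2] j - ![1, ω, ω ^ 2] i) = 0 := by linear_combination this
          exact (mul_eq_zero.1 h').resolve_right (sub_ne_zero.2 fun e => hij (hinj e.symm))
        have h10 : M 1 1 = M 0 0 := by
          have := congrFun (congrFun h2 1) 0
          simpa [Matrix.mul_apply, Fin.sum_univ_three] using this
        have h21 : M 2 2 = M 1 1 := by
          have := congrFun (congrFun h2 2) 1
          simpa [Matrix.mul_apply, Fin.sum_univ_three] using this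
        have hMs : M = M 0 0 • 1 := by
          ext i j
          fin_cases i <;> fin_cases j <;> simp [hoff, h10, h21]
        have hhs : (h : Matrix (Fin 3) (Fin 3) F) = M 0 0 • 1 := by
          refine Q.isUnit.mul_right_cancel ?_
          rw [hQM, Matrix.smul_mul, Matrix.one_mul]
          conv_lhs => rw [hMs]
          rw [Matrix.mul_smul, Matrix.mul_one]
        have hxs : (x : GL (Fin 3) F) = h := by
          have : g * h = h * g := Units.ext (by
            show (g : Matrix (Fin 3) (Fin 3) F) * (h : Matrix (Fin 3) (Fin 3) F) =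
              (h : Matrix (Fin 3) (Fin 3) F) * (g : Matrix (Fin 3) (Fin 3) F)
            rw [hhs, Matrix.mul_smul, Matrix.mul_one, Matrix.smul_mul, Matrix.one_mul])
          calc (x : GL (Fin 3) F) = g * h * g⁻¹ := by rw [hh]; group
            _ = h := by rw [this, mul_inv_cancel_right]
        have hd : M 0 0 ^ 3 = 1 := by
          have := mem_sl.1 x.2.2
          rwa [hxs, hhs, Matrix.det_smul, Matrix.det_one, mul_one, Fintype.card_fin] at this
        have hdr : M 0 0 ^ r = 1 := by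
          have := congrArg (fun g : GL (Fin 3) F => (g : Matrix (Fin 3) (Fin 3) F) 0 0) hh1
          simpa [Units.val_pow_eq_pow_val, hhs, smul_pow] using this
        have : M 0 0 ^ Nat.gcd 3 r = 1 := pow_gcd_eq_one.2 ⟨hd, hdr⟩
        rw [Nat.Coprime.gcd_eq_one (by rw [Nat.coprime_primes Nat.prime_three hr]; omega), pow_one] at this
        exact hhne (Units.ext (by rw [hhs, this, one_smul, Units.val_one]))
      have hle : 3 ^ m ≤ 27 := Nat.le_of_dvd (by norm_num) (by rw [← hKm]; simpa using hdvd)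
      have hd : r ∣ 27 - 3 ^ m := (Nat.modEq_iff_dvd' hle).1 hmod
      obtain rfl | rfl : m = 1 ∨ m = 2 := by omega
      · rcases (hr.dvd_mul (m := 2 ^ 3) (n := 3)).1 (by norm_num at hd ⊢; exact hd) with h | h
        · have := Nat.le_of_dvd (by norm_num) (hr.dvd_of_dvd_pow h); omega
        · have := Nat.le_of_dvd (by norm_num) h; omega
      · rcases (hr.dvd_mul (m := 2) (n := 3 ^ 2)).1 (by norm_num at hd ⊢; exact hd) with h | h
        · have := Nat.le_of_dvd (by norm_num) h; omega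
        · have := Nat.le_of_dvd (by norm_num) (hr.dvd_of_dvd_pow h); omega
  · intro hcond x hx hxr hxns
    obtain ⟨z, hz⟩ := hxr
    rw [Units.val_pow_eq_pow_val] at hz
    have hxd := mem_sl.1 hx.2
    have hz3 : z ^ 3 = 1 := by
      have := congrArg Matrix.det hz
      rwa [Matrix.det_pow, hxd, one_pow, Matrix.det_smul, Matrix.det_one, mul_one, Fintype.card_fin,
        eq_comm] at this
    have hz0 : z ≠ 0 := fun h => by simp [h] at hz3
    -- it suffices to treat a scalar multiple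
    have hred : ∀ (c : F) (hc : c ≠ 0) (y : GL (Fin 3) F), (y : Matrix (Fin 3) (Fin 3) F) = c • (x : Matrix (Fin 3) (Fin 3) F) →
        ∀ (g : GL (Fin 3) F), g⁻¹ * y * g ∈ Cfsg.Geo.subgroupNormalizer R →
        g⁻¹ * x * g ∈ Cfsg.Geo.subgroupNormalizer R := by
      intro c hc y hy g hg
      let S : GL (Fin 3) F := Matrix.GeneralLinearGroup.mkOfDetNeZero (c⁻¹ • 1)
        (by rw [Matrix.det_smul, Matrix.det_one, mul_one]; exact pow_ne_zero _ (inv_ne_zero hc))
      have hS : g⁻¹ * x * g = S * (g⁻¹ * y * g) := Units.ext (by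
        rw [Units.val_mul, Units.val_mul, Units.val_mul, Units.val_mul, Units.val_mul, hy]
        show _ = (c⁻¹ • 1 : Matrix (Fin 3) (Fin 3) F) * _
        rw [Matrix.smul_mul, Matrix.one_mul, Matrix.mul_smul, Matrix.smul_mul, inv_smul_smul₀ hc])
      rw [hS]
      exact Subgroup.mul_mem _ (hscal S _ rfl) hg
    have h20 : (2 : F) ≠ 0 := Ring.two_ne_zero (by rw [ringChar.eq F p]; omega)
    have h30 : (3 : F) ≠ 0 := fun h => by
      have h0 : (ω - 1) ^ 3 = 0 := by linear_combination hω3 + (ω - ω ^ 2) * h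
      exact hω (sub_eq_zero.1 ((pow_eq_zero_iff (n := 3) (by omega)).1 h0))
    rcases hcond with rfl | ⟨rfl, h9⟩
    · -- involutions
      let y : GL (Fin 3) F := Matrix.GeneralLinearGroup.mkOfDetNeZero (z • (x : Matrix (Fin 3) (Fin 3) F))
        (by rw [Matrix.det_smul, hxd, mul_one]; exact pow_ne_zero _ hz0)
      have hyU : y ∈ Cfsg.GU 3 F p := smul_mem_GU hτ hx.1 (hnorm z hz3) rfl
      have hy1 : (y : Matrix (Fin 3) (Fin 3) F) * y = 1 := by
        show (z • (x : Matrix (Fin 3) (Fin 3) F)) * (z • (x : Matrix (Fin 3) (Fin 3) F)) = 1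
        rw [Matrix.smul_mul, Matrix.mul_smul, smul_smul, ← pow_two (x : Matrix (Fin 3) (Fin 3) F), hz, smul_smul,
          show z * z * z = z ^ 3 by ring, hz3, one_smul]
      have hyd : (y : Matrix (Fin 3) (Fin 3) F).det = 1 := by
        show (z • (x : Matrix (Fin 3) (Fin 3) F)).det = 1
        rw [Matrix.det_smul, hxd, mul_one, Fintype.card_fin, hz3]
      obtain ⟨P, hPU, hyP⟩ := exists_involution_frame hτ hc h20 hyU hy1 hyd fun a ha => hxns (z⁻¹ * a) (by
        rw [mul_smul, ← ha]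
        exact (inv_smul_smul₀ hz0 _).symm)
      let J : Matrix (Fin 3) (Fin 3) F := !![-1, 0, 0; 0, 0, -1; 0, -1, 0]
      have hJd : J.det = 1 := by simp [J, Matrix.det_fin_three]
      let J' : GL (Fin 3) F := Matrix.GeneralLinearGroup.mkOfDetNeZero J (by rw [hJd]; exact one_ne_zero)
      have hJU : J' ∈ Cfsg.GU 3 F p := (mem_GU_iff hτ).2 fun u v => by
        show stdHerm τ 3 (J *ᵥ u) (J *ᵥ v) = _
        simp [J, stdHerm_apply, Fin.sum_univ_three, Matrix.mulVec, dotProduct]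
        ring
      let T : GL (Fin 3) F := Q * J' * Q⁻¹
      have hTQ : (T : Matrix (Fin 3) (Fin 3) F) * (Q : Matrix (Fin 3) (Fin 3) F) = (Q : Matrix (Fin 3) (Fin 3) F) * J := by
        rw [← Units.val_mul, show T * Q = Q * J' by simp [T], Units.val_mul]
        rfl
      have hT : T ∈ Cfsg.Geo.subgroupNormalizer R := by
        refine hQN T J (Matrix.diagonal ![1, ω, ω ^ 2] ^ 2) (!![0, 0, 1; 1, 0, 0; 0, 1, 0] ^ 2) 0 2 0 0 0 2 hTQ
          ?_ ?_ (by simp) (by simp)
        · have h4 : (ω ^ 2) ^ 2 = ω := by linear_combination ω * hω3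
          ext i j
          rw [Matrix.diagonal_pow, Matrix.mul_diagonal, Matrix.diagonal_mul]
          fin_cases i <;> fin_cases j <;> simp [J, h4]
        · ext i j
          fin_cases i <;> fin_cases j <;> simp [J, pow_two, Matrix.mul_apply, Fin.sum_univ_three]
      have hTU : T ∈ Cfsg.GU 3 F p :=
        Subgroup.mul_mem _ (Subgroup.mul_mem _ hQU hJU) (Subgroup.inv_mem _ hQU)
      have hTJ : (J' : Matrix (Fin 3) (Fin 3) F) * J' = 1 := by
        show J * J = 1
        ext i j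
        fin_cases i <;> fin_cases j <;> simp [J, Matrix.mul_apply, Fin.sum_univ_three]
      obtain ⟨P', hP'U, hTP⟩ := exists_involution_frame hτ hc h20 hTU (by
          rw [← Units.val_mul, show T * T = Q * (J' * J') * Q⁻¹ by simp only [T]; group,
            show J' * J' = 1 from Units.ext hTJ]
          simp) (by
          have h := congrArg Matrix.det hTQ
          rw [Matrix.det_mul, Matrix.det_mul, hJd, mul_one] at h
          exact (mul_eq_right₀ (Matrix.GeneralLinearGroup.det Q).ne_zero).1 h) fun a ha => by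
        have h : (Q : Matrix (Fin 3) (Fin 3) F) * J = (Q : Matrix (Fin 3) (Fin 3) F) * (a • 1) := by
          rw [← hTQ, ha, Matrix.mul_smul, Matrix.mul_one, Matrix.smul_mul, Matrix.one_mul]
        have h' := congrFun (congrFun (Q.isUnit.mul_left_cancel h) 2) 1
        simp [J] at h'
      obtain ⟨g, hg, hgy⟩ := exists_su_conj hτ hc (x := y) (y := T) hPU hP'U hyP hTP
      exact ⟨g, hg, hred z hz0 y rfl g (hgy ▸ hT)⟩
    · -- elements of order three
      obtain ⟨s, hs3, hsn⟩ : ∃ s : F, s ^ 3 = z ∧ s * τ s = 1 := by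
        obtain ⟨ζ, hζ⟩ := IsCyclic.exists_ofOrder_eq_natCard (α := Fˣ)
        rw [hu] at hζ
        obtain ⟨m, hm⟩ : Units.mk0 z hz0 ∈ Subgroup.zpowers ζ := by
          rw [Subgroup.eq_top_of_card_eq (Subgroup.zpowers ζ) (by rw [Nat.card_zpowers, hζ, hu])]
          trivial
        obtain ⟨t, ht⟩ : (9 : ℕ) ∣ p + 1 := ⟨(p + 1) / 9, by omega⟩
        have hzm : ζ ^ (m * 3) = 1 := by
          rw [_root_.zpow_mul, show ζ ^ m = Units.mk0 z hz0 from hm, show (3 : ℤ) = ((3 : ℕ) : ℤ) from rfl,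
            zpow_natCast]
          exact Units.ext (by simpa using hz3)
        obtain ⟨u, hu'⟩ := orderOf_dvd_iff_zpow_eq_one.2 hzm
        rw [hζ] at hu'
        have h2 : ((p ^ 2 - 1 : ℕ) : ℤ) = 9 * t * (p - 1 : ℕ) := by
          rw [hp21, ht]; push_cast; ring
        rw [h2] at hu'
        refine ⟨((ζ ^ ((t : ℤ) * (p - 1 : ℕ) * u) : Fˣ) : F), ?_, ?_⟩
        · rw [← Units.val_pow_eq_pow_val, ← zpow_natCast, ← _root_.zpow_mul,
            show ((t : ℤ) * (p - 1 : ℕ) * u) * ((3 : ℕ) : ℤ) = m by push_cast; linarith]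
          exact congrArg Units.val hm
        · rw [hτ, ← pow_succ', ← Units.val_pow_eq_pow_val, ← zpow_natCast, ← _root_.zpow_mul,
            orderOf_dvd_iff_zpow_eq_one.1 (by
              rw [hζ, h2]
              exact ⟨(t : ℤ) * u, by rw [ht]; push_cast; ring⟩), Units.val_one]
      have hs0 : s ≠ 0 := fun h => hz0 (by rw [← hs3, h]; simp)
      let y : GL (Fin 3) F := Matrix.GeneralLinearGroup.mkOfDetNeZero (s⁻¹ • (x : Matrix (Fin 3) (Fin 3) F))
        (by rw [Matrix.det_smul, hxd, mul_one]; exact pow_ne_zero _ (inv_ne_zero hs0))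
      have hy1 : (y : Matrix (Fin 3) (Fin 3) F) ^ 3 = 1 := by
        show (s⁻¹ • (x : Matrix (Fin 3) (Fin 3) F)) ^ 3 = 1
        rw [smul_pow, hz, smul_smul, ← hs3, ← mul_pow, inv_mul_cancel₀ hs0, one_pow, one_smul]
      have hyU : y ∈ Cfsg.GU 3 F p := smul_mem_GU hτ hx.1 (by rw [map_inv₀, ← mul_inv, hsn, inv_one]) rfl
      obtain ⟨P, w, hPU, hw, hyP⟩ := exists_frame hτ hc hyU {a : F | a ^ 3 = 1} hnorm
        (fun W hW v hv => eigenspan_three_on h30 hω hω3 hy1 hW hv)
      have hw0 : ∀ i, w i ≠ 0 := fun i h => by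
        have := hw i
        simp [h] at this
      let D : GL (Fin 3) F := Matrix.GeneralLinearGroup.mkOfDetNeZero (Matrix.diagonal w)
        (by rw [Matrix.det_diagonal]; exact Finset.prod_ne_zero_iff.2 fun i _ => hw0 i)
      let T : GL (Fin 3) F := Q * D * Q⁻¹
      have hTQ : (T : Matrix (Fin 3) (Fin 3) F) * (Q : Matrix (Fin 3) (Fin 3) F) = (Q : Matrix (Fin 3) (Fin 3) F) * Matrix.diagonal w := by
        rw [← Units.val_mul, show T * Q = Q * D by simp [T], Units.val_mul]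
        rfl
      have hroot : ∀ a : F, a ^ 3 = 1 → ∃ i : ℕ, i < 3 ∧ a = ω ^ i := fun a ha => by
        have : (a - 1) * ((a - ω) * (a - ω ^ 2)) = 0 := by
          linear_combination ha + (a - 1) * hω3 + (a - a ^ 2) * hs
        rcases mul_eq_zero.1 this with h | h
        · exact ⟨0, by omega, by rw [pow_zero]; linear_combination h⟩
        rcases mul_eq_zero.1 h with h | h
        · exact ⟨1, by omega, by rw [pow_one]; linear_combination h⟩
        · exact ⟨2, by omega, by linear_combination h⟩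
      have hw' : ∀ i, w i ^ 3 = 1 := hw
      obtain ⟨i, -, hi⟩ := hroot (w 0 / w 2) (by rw [div_pow, hw', hw', div_one])
      obtain ⟨j, -, hj⟩ := hroot (w 1 * w 2 / w 0 ^ 2) (by
        rw [div_pow, mul_pow, hw', hw', ← pow_mul, mul_comm 2 3, pow_mul, hw', one_pow, mul_one, div_one])
      have hT : T ∈ Cfsg.Geo.subgroupNormalizer R := by
        refine hQN T (Matrix.diagonal w) (Matrix.diagonal ![1, ω, ω ^ 2])
          (ω ^ i • (Matrix.diagonal ![1, ω, ω ^ 2] ^ j * !![0, 0, 1; 1, 0, 0; 0, 1, 0] ^ 1)) 0 1 0 i j 1 hTQ ?_ ?_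
          (by simp) rfl
        · rw [Matrix.diagonal_mul_diagonal, Matrix.diagonal_mul_diagonal]
          simp only [mul_comm]
        · have := hw0 0
          have := hw0 1
          have := hw0 2
          have e0 : ω ^ i * w 2 = w 0 := by rw [← hi]; field_simp
          have e1 : ω ^ i * ω ^ j * w 0 = w 1 := by rw [← hi, ← hj]; field_simp
          have e2 : ω ^ i * (ω ^ 2) ^ j * w 1 = w 2 := by
            rw [← pow_mul, mul_comm 2 j, pow_mul, ← hi, ← hj]
            field_simp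
            linear_combination hw' 1 - hw' 0
          rw [pow_one, Matrix.diagonal_pow]
          ext k l
          fin_cases k <;> fin_cases l <;> simp [Matrix.mul_apply, Fin.sum_univ_three, Matrix.diagonal, e0, e1, e2]
      obtain ⟨g, hg, hgy⟩ := exists_su_conj hτ hc (x := y) (y := T) hPU hQU hyP hTQ
      exact ⟨g, hg, hred s⁻¹ (inv_ne_zero hs0) y rfl g (hgy ▸ hT)⟩

end Cfsg.Agent.S5999
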