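import Cfsg.Statements.S6000
import Cfsg.Agent.Lib.Classical.Clifford4.Linear

set_option autoImplicit false
open scoped MatrixGroups
open Cfsg

namespace Cfsg.Agent.S6000

open Matrix CfsgLib.Classical.Clifford4

/-- Elements of prime order of PSL_4(p), p ≡ 1 (mod 4), and the normalizer of a 2-group of symplectic type of order 2⁶. Here `T = PSL_4(F)` for the field `F` with `p` elements, `p` a prime with `p ≡ 1 (mod 4)`; `R` is an absolutely irreducible subgroup of GL_4(F) of order 2⁶ that is a 2-group of symplectic type of exponent 4 with centre of order 4 (the central product of the scalars of order 4 with an extraspecial group 2^{1+4}), and `H` is the subgroup of matrices of determinant 1 normalizing `R` — a subgroup of type 2⁴.Sp₄(2) (maximality is not assumed). Ω is the set of cosets of `H` in `T`, so an element of `T` of prime order `r` (a matrix `x` of determinant 1 with `x^r` scalar, `x` not scalar) fixes a point of Ω exactly when some conjugate of `x` by a matrix of determinant 1 normalizes `R`. Let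 `r` be a prime dividing the index of `H`. Then every element of `T` of order `r` fixes a point of Ω if and only if `r = 2`, or `r = 3` and `p ≡ 2 (mod 3)`, or `r = 5` and `p ≡ ±2 (mod 5)` (`p` has multiplicative order 4 modulo 5). -/
theorem result {F : Type*} [Field F] [Fintype F] {p : ℕ} [Fact p.Prime] [CharP F p] (hF : Fintype.card F = p) (hp4 : p % 4 = 1)
    (R : Subgroup (GL (Fin 4) F)) (hR : Cfsg.Geo.IsLinearSymplecticTypeData 2 R) (hR6 : Nat.card R = 2 ^ 6)
    (r : ℕ) [Fact r.Prime]
    (hΩ : r ∣ (Cfsg.Geo.subgroupNormalizer R).relIndex (Cfsg.Geo.specialLinear (Fin 4) F)) :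
    (∀ x ∈ Cfsg.Geo.specialLinear (Fin 4) F, (∃ z : F, ((x ^ r : GL (Fin 4) F) : Matrix (Fin 4) (Fin 4) F) = z • (1 : Matrix (Fin 4) (Fin 4) F)) →
      (∀ z : F, (x : Matrix (Fin 4) (Fin 4) F) ≠ z • (1 : Matrix (Fin 4) (Fin 4) F)) →
      ∃ g ∈ Cfsg.Geo.specialLinear (Fin 4) F, g⁻¹ * x * g ∈ Cfsg.Geo.subgroupNormalizer R) ↔ (r = 2 ∨ (r = 3 ∧ p % 3 = 2) ∨ (r = 5 ∧ orderOf (p : ZMod 5) = 4)) := by
  classical
  have hp : p.Prime := Fact.out
  have hr : r.Prime := Fact.out
  have hp5 : 5 ≤ p := by
    have := hp.two_le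
    by_contra hlt
    interval_cases p <;> first | omega | norm_num at hp4
  have hdvd : 4 ∣ Fintype.card F - 1 := by rw [hF]; omega
  have hnz : ∀ n : ℕ, 0 < n → n < p → (n : F) ≠ 0 := fun n h0 hlt e =>
    absurd (Nat.le_of_dvd h0 ((CharP.cast_eq_zero_iff F p n).mp e)) (by omega)
  have hZ : Nat.card (Subgroup.center R) = 4 := by
    obtain ⟨_, _, _, _, h | h | h⟩ := hR.field
    · exact absurd h.1 (by decide)
    · exact h.2.2.1
    · exact absurd h.2.2.1 (by simp)
  obtain ⟨i, a, b, c, d, hi, him, hf⟩ :=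
    exists_frameIn_of_centre_four hR.symplecticType hR.absIrred hR6 hZ hdvd
  have h2 := hf.two
  haveI : Finite R := inferInstance
  have hSL : ∀ {x : GL (Fin 4) F}, (x : Matrix (Fin 4) (Fin 4) F).det = 1 ↔
      x ∈ Geo.specialLinear (Fin 4) F := fun {x} => by
    rw [Geo.specialLinear, MonoidHom.mem_ker, Units.ext_iff]
    simp
  constructor
  · intro hall
    -- a witness refutes the other cases
    have use : ∀ x : GL (Fin 4) F, (x : Matrix (Fin 4) (Fin 4) F).det = 1 → x ^ r = 1 →
        (∀ z : F, (x : Matrix (Fin 4) (Fin 4) F) ≠ z • 1) →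
        ∃ g, g⁻¹ * x * g ∈ Geo.subgroupNormalizer R ∧ ((x ^ r : GL (Fin 4) F) : Matrix (Fin 4) (Fin 4) F) =
          (1 : F) • 1 := fun x hd hx hns => by
      have hz : ((x ^ r : GL (Fin 4) F) : Matrix (Fin 4) (Fin 4) F) = (1 : F) • 1 := by rw [hx, one_smul]; rfl
      obtain ⟨g, -, hg⟩ := hall x (hSL.mp hd) ⟨1, hz⟩ hns
      exact ⟨g, hg, hz⟩
    by_cases hr2 : r = 2
    · exact .inl hr2
    have hodd : Odd r := hr.odd_of_ne_two hr2
    refine .inr ?_
    by_cases hr3 : r = 3
    · subst r
      refine .inl ⟨rfl, ?_⟩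
      by_contra hp3
      have h31 : 3 ∣ Nat.card Fˣ := by
        rw [Nat.card_eq_fintype_card, Fintype.card_units, hF]
        have : p % 3 ≠ 0 := fun e => absurd
          ((Nat.prime_dvd_prime_iff_eq Nat.prime_three hp).mp (Nat.dvd_of_mod_eq_zero e)) (by omega)
        omega
      obtain ⟨w, hw⟩ := exists_prime_orderOf_dvd_card' 3 h31
      have hw3 : w ^ 3 = 1 := by rw [← hw]; exact pow_orderOf_eq_one w
      obtain ⟨hx, hd, hns, htr⟩ := diagThree_props hw3 (fun e => by simp [e] at hw)
      obtain ⟨g, hg, hz⟩ := use _ hd hx hns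
      rcases hf.value hns hodd hz hg with ⟨-, e | e⟩ | ⟨e, -⟩
      · rw [htr] at e; exact hnz 2 two_pos (by omega) (mul_left_cancel₀ (hnz 3 three_pos (by omega))
          (by push_cast; linear_combination e))
      · rw [htr] at e; exact hnz 3 three_pos (by omega) (by push_cast; linear_combination e)
      · norm_num at e
    by_cases hr5 : r = 5
    · subst r
      refine .inr ⟨rfl, ?_⟩
      by_contra hord
      rcases five_cases hp hord with rfl | h14
      · obtain ⟨hx, hd, hns⟩ := transv_props (1 : F) one_ne_zero (p := 5)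
        obtain ⟨g, hg, hz⟩ := use _ hd hx hns
        exact hf.no_transvection rfl (by simp) hns hodd hz hg
      · obtain ⟨s, hs, -⟩ := exists_golden_root (F := F) (p := p) (by omega) h14
        obtain ⟨g, hg, hz⟩ := use _ (rot_det s) (rot_five hs) (rot_ne_scalar s)
        rcases hf.value (rot_ne_scalar s) hodd hz hg with ⟨e, -⟩ | ⟨-, e⟩
        · norm_num at e
        · rw [(rot_trace s).1, (rot_trace s).2] at e
          have hp5' : 5 < p := by
            rcases eq_or_lt_of_le hp5 with e' | e'
            · omega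
            · exact e'
          exact rot_value hs (by exact_mod_cast hnz 5 (by norm_num) hp5') e
    · exfalso
      obtain ⟨x, hxK, hxr⟩ := exists_orderOf_of_dvd_relIndex hΩ
      have hns := not_scalar_of_order (Fintype.card_fin 4) hr hr2 hxr (hSL.mpr hxK)
      obtain ⟨g, hg, hz⟩ := use x (hSL.mpr hxK) (by rw [← hxr]; exact pow_orderOf_eq_one x) hns
      rcases hf.value hns hodd hz hg with ⟨e, -⟩ | ⟨e, -⟩ <;> omega
  · intro hcases x hx ⟨z, hz⟩ hns
    have hd := hSL.mpr hx
    have hz4 : z ^ 4 = 1 := det_scalar_eq_one (Fintype.card_fin 4) hz (by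
      rw [Units.val_pow_eq_pow_val, Matrix.det_pow, hd, one_pow])
    have hz0 : z ≠ 0 := fun e => by rw [e, zero_pow (by norm_num)] at hz4; exact zero_ne_one hz4
    rw [Units.val_pow_eq_pow_val] at hz
    rcases hcases with rfl | ⟨rfl, hp3⟩ | ⟨rfl, hord⟩
    · rw [pow_two] at hz
      by_cases hsq : IsSquare z
      · obtain ⟨k, hk⟩ := hsq
        have hk0 : k ≠ 0 := fun e => hz0 (by rw [hk, e, mul_zero])
        refine hf.conj_involution hi him hp5 (inv_ne_zero hk0) hns ?_
        rw [Matrix.smul_mul, Matrix.mul_smul, hz, smul_smul, smul_smul, hk,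
          show k⁻¹ * k⁻¹ * (k * k) = 1 by field_simp, one_smul]
      · exact hf.conj_sqrt hi him hz hz4 hsq
    · have hirr : ∀ t : F, t * t ≠ (-1) * t + (-1) := fun t e => by
        have hcub : t ^ (Fintype.card F - 1) = 1 := FiniteField.pow_card_sub_one_eq_one t (fun e0 => by
          rw [e0] at e; simp at e)
        have ht3 : t ^ 3 = 1 := by linear_combination (t - 1) * e
        obtain ⟨m, hm⟩ : ∃ m, Fintype.card F - 1 = 3 * m + 1 := ⟨(p - 2) / 3, by rw [hF]; omega⟩
        rw [hm, pow_succ, pow_mul, ht3, one_pow, one_mul] at hcub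
        rw [hcub] at e
        exact hnz 3 three_pos (by omega) (by push_cast; linear_combination e)
      refine hf.conj_three hi him (by exact_mod_cast hnz 3 three_pos (by omega)) hirr hz0 hns ?_
      rw [← pow_three', smul_pow, hz, smul_smul, ← pow_succ, hz4, one_smul]
    · haveI : Fact (Irreducible (Polynomial.cyclotomic 5 F)) :=
        ⟨quintic_irreducible (f := 1) (by rw [hF, pow_one]) (by rw [pow_one]; exact hord)⟩
      refine hf.conj_five hi him (pow_ne_zero 3 hz0) hns ?_
      rw [smul_pow, hz, smul_smul, ← pow_mul, ← pow_succ, show 3 * 5 + 1 = 4 * 4 from rfl, pow_mul, hz4, one_pow,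
        one_smul]

end Cfsg.Agent.S6000
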