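import Cfsg.Statements.S6001
import Cfsg.Agent.Lib.Classical.Clifford4.UnitaryModels

set_option autoImplicit false
open scoped MatrixGroups
open Cfsg

namespace Cfsg.Agent.S6001

open Matrix CfsgLib.Classical CfsgLib.Classical.Clifford4

theorem diag_gram_one {F : Type*} [Field F] {σ : F →+* F} {d : F} (hd : σ d * d = 1) :
    ∃ δ : Fin 4 → F, ∏ i, δ i = d ∧ adj σ (diagonal δ) * (1 : Matrix (Fin 4) (Fin 4) F) * diagonal δ = 1 := by
  refine ⟨![d, 1, 1, 1], by simp [Fin.prod_univ_four], ?_⟩
  ext i j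
  fin_cases i <;> fin_cases j <;> simp [adj, Matrix.mul_apply, Fin.sum_univ_four, hd]

theorem diag_gram_pair {F : Type*} [Field F] {σ : F →+* F} (hc : IsConjugation σ) {d : F} (hd : σ d * d = 1) :
    ∃ δ : Fin 4 → F, ∏ i, δ i = d ∧ adj σ (diagonal δ) * !![0, 0, 1, 0; 0, 0, 0, 1; 1, 0, 0, 0; 0, 1, 0, 0] *
      diagonal δ = !![0, 0, 1, 0; 0, 0, 0, 1; 1, 0, 0, 0; 0, 1, 0, 0] := by
  obtain ⟨μ, hμ0, hμ⟩ := hc.exists_div_eq (x := d) (by rw [mul_comm, hd])
  have hμ' : σ μ ≠ 0 := (map_ne_zero σ).mpr hμ0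
  have e : μ * (σ μ)⁻¹ = d := by
    rw [← div_eq_mul_inv, div_eq_iff hμ']; exact hμ
  refine ⟨![μ, 1, (σ μ)⁻¹, 1], by simpa [Fin.prod_univ_four] using e, ?_⟩
  ext i j
  fin_cases i <;> fin_cases j <;> simp [adj, Matrix.mul_apply, Fin.sum_univ_four, hc.invol, hμ', hμ0]

theorem diag_gram_mixed {F : Type*} [Field F] {σ : F →+* F} {d : F} (hd : σ d * d = 1) :
    ∃ δ : Fin 4 → F, ∏ i, δ i = d ∧ adj σ (diagonal δ) * !![0, 1, 0, 0; 1, 0, 0, 0; 0, 0, 1, 0; 0, 0, 0, 1] *
      diagonal δ = !![0, 1, 0, 0; 1, 0, 0, 0; 0, 0, 1, 0; 0, 0, 0, 1] := by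
  refine ⟨![1, 1, d, 1], by simp [Fin.prod_univ_four], ?_⟩
  ext i j
  fin_cases i <;> fin_cases j <;> simp [adj, Matrix.mul_apply, Fin.sum_univ_four, hd]

/-- Elements of prime order of PSU_4(p), p ≡ 3 (mod 4), and the normalizer of a 2-group of symplectic type of order 2⁶. Here `T = PSU_4(p)` for a prime `p ≡ 3 (mod 4)`, realised through `SU_4(p)`, the matrices of determinant 1 over the field `F` with `p²` elements preserving the hermitian form `f = Σ uᵢvᵢ^p`; `R` is an absolutely irreducible subgroup of the full unitary group of `f` of order 2⁶ that is a 2-group of symplectic type of exponent 4 with centre of order 4, and `H` is the subgroup of `SU_4(p)` normalizing `R` — a subgroup of type 2⁴.Sp₄(2) (maximality is not assumed). Ω is the set of cosets of `H`, so an element of `T` of prime order `r` (`x ∈ SU_4(p)` with `x^r` scalar, `x` not scalar) fixes a point of Ω exactly when some `SU_4(p)`-conjugate of `x` normalizes `R`. Let `r` be a prime dividing the index of `H`. Then every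 element of `T` of order `r` fixes a point of Ω if and only if `r = 2`, or `r = 3` and `p ≡ 1 (mod 3)`, or `r = 5` and `p ≡ ±2 (mod 5)` (`p` has multiplicative order 4 modulo 5). -/
theorem result {F : Type*} [Field F] [Fintype F] {p : ℕ} [Fact p.Prime] [CharP F p] (hF : Fintype.card F = p ^ 2) (hp4 : p % 4 = 3)
    (R : Subgroup (GL (Fin 4) F)) (hRs : Cfsg.Geo.IsSymplecticTypeGroup 2 R) (hRi : Cfsg.Geo.ActsAbsolutelyIrreducibly (Cfsg.Geo.matrixSet R))
    (hRU : R ≤ Cfsg.GU 4 F p) (hR6 : Nat.card R = 2 ^ 6) (hRZ : Nat.card (Subgroup.center R) = 4)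
    (r : ℕ) [Fact r.Prime]
    (hΩ : r ∣ (Cfsg.Geo.subgroupNormalizer R).relIndex (Cfsg.GU 4 F p ⊓ Cfsg.Geo.specialLinear (Fin 4) F)) :
    (∀ x ∈ Cfsg.GU 4 F p ⊓ Cfsg.Geo.specialLinear (Fin 4) F, (∃ z : F, ((x ^ r : GL (Fin 4) F) : Matrix (Fin 4) (Fin 4) F) = z • (1 : Matrix (Fin 4) (Fin 4) F)) →
      (∀ z : F, (x : Matrix (Fin 4) (Fin 4) F) ≠ z • (1 : Matrix (Fin 4) (Fin 4) F)) →
      ∃ g ∈ Cfsg.GU 4 F p ⊓ Cfsg.Geo.specialLinear (Fin 4) F, g⁻¹ * x * g ∈ Cfsg.Geo.subgroupNormalizer R) ↔ (r = 2 ∨ (r = 3 ∧ p % 3 = 1) ∨ (r = 5 ∧ orderOf (p : ZMod 5) = 4)) := by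
  classical
  have hp : p.Prime := Fact.out
  have hr : r.Prime := Fact.out
  have hp3 : 3 ≤ p := by have := hp.two_le; omega
  have hp2 : 1 ≤ p ^ 2 := Nat.one_le_pow _ _ (by omega)
  have hdvd : 4 ∣ Fintype.card F - 1 := by
    rw [hF, ← Nat.modEq_iff_dvd' hp2]
    show 1 % 4 = p ^ 2 % 4
    rw [Nat.pow_mod, hp4]
  obtain ⟨σ, hσ, hc⟩ := exists_frob hF
  have hnz : ∀ n : ℕ, 0 < n → n < p → (n : F) ≠ 0 := fun n h0 hlt e =>
    absurd (Nat.le_of_dvd h0 ((CharP.cast_eq_zero_iff F p n).mp e)) (by omega)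
  obtain ⟨i, a, b, c, d, hi, him, hf⟩ := exists_frameIn_of_centre_four hRs hRi hR6 hRZ hdvd
  haveI : Finite R := inferInstance
  have h2 := hf.two
  have hi0 : i ≠ 0 := by rintro rfl; simp at hi
  have hσi : σ i = -i := by
    obtain ⟨g, hg, hge⟩ := him
    have e := scalar_norm (by norm_num) hσ (hRU hg) hge
    exact mul_right_cancel₀ hi0 (by rw [e, neg_mul, hi, neg_neg])
  have hfix : ∀ n : ℕ, σ (n : F) = n := fun n => map_natCast σ n
  -- fixed elements are squares
  have hsqfix : ∀ u : F, σ u = u → IsSquare u := fun u hu => by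
    by_cases hu0 : u = 0
    · exact ⟨0, by rw [hu0, mul_zero]⟩
    rw [FiniteField.isSquare_iff (by rw [ringChar.eq F p]; omega) hu0, hF]
    have h1 : u ^ (p - 1) = 1 := by
      refine mul_right_cancel₀ hu0 ?_
      rw [← pow_succ, Nat.sub_add_cancel (by omega), one_mul, ← hσ, hu]
    obtain ⟨k, hk⟩ : ∃ k, p = 4 * k + 3 := ⟨p / 4, by omega⟩
    rw [show p ^ 2 / 2 = (p - 1) * (2 * k + 2) by
      subst hk
      rw [show (4 * k + 3) ^ 2 = 2 * ((4 * k + 2) * (2 * k + 2)) + 1 by ring,
        show 4 * k + 3 - 1 = 4 * k + 2 by omega]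
      omega, pow_mul, h1, one_pow]
  have hSL : ∀ {x : GL (Fin 4) F}, (x : Matrix (Fin 4) (Fin 4) F).det = 1 ↔
      x ∈ Geo.specialLinear (Fin 4) F := fun {x} => by
    rw [Geo.specialLinear, MonoidHom.mem_ker, Units.ext_iff]
    simp
  constructor
  · intro hall
    have use : ∀ x : GL (Fin 4) F, x ∈ Cfsg.GU 4 F p → (x : Matrix (Fin 4) (Fin 4) F).det = 1 → x ^ r = 1 →
        (∀ z : F, (x : Matrix (Fin 4) (Fin 4) F) ≠ z • 1) →
        ∃ g, g⁻¹ * x * g ∈ Geo.subgroupNormalizer R ∧ ((x ^ r : GL (Fin 4) F) : Matrix (Fin 4) (Fin 4) F) =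
          (1 : F) • 1 := fun x hx hd hxr hns => by
      have hz : ((x ^ r : GL (Fin 4) F) : Matrix (Fin 4) (Fin 4) F) = (1 : F) • 1 := by rw [hxr, one_smul]; rfl
      obtain ⟨g, -, hg⟩ := hall x ⟨hx, hSL.mp hd⟩ ⟨1, hz⟩ hns
      exact ⟨g, hg, hz⟩
    have transv : p = r → Odd r → False := fun hpr hodd => by
      obtain ⟨a', ha'⟩ := hc.exists_norm_eq (a := (-1 : F)) (by simp)
      obtain ⟨k, hk0, hk⟩ := hc.exists_trace_zero
      have hA : 1 + σ a' * a' = 0 := by rw [mul_comm, ha']; ring
      obtain ⟨hm, hpow, hd, hns, hdot⟩ := uTransv_props hσ hc hk0 hk hA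
      obtain ⟨g, hg, hz⟩ := use _ hm hd (hpr ▸ hpow) hns
      exact hf.no_transvection rfl hdot hns hodd hz hg
    by_cases hr2 : r = 2
    · exact .inl hr2
    have hodd : Odd r := hr.odd_of_ne_two hr2
    refine .inr ?_
    by_cases hr3 : r = 3
    · subst r
      refine .inl ⟨rfl, ?_⟩
      by_contra h31
      by_cases hpe : p = 3
      · exact transv hpe hodd
      have h0 : p % 3 ≠ 0 := fun e => hpe
        ((Nat.prime_dvd_prime_iff_eq Nat.prime_three hp).mp (Nat.dvd_of_mod_eq_zero e)).symm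
      obtain ⟨m, hm⟩ : ∃ m, p + 1 = 3 * m := ⟨(p + 1) / 3, by omega⟩
      have hdvd3 : 3 ∣ Nat.card Fˣ := by
        rw [Nat.card_eq_fintype_card, Fintype.card_units, hF, ← Nat.modEq_iff_dvd' hp2]
        show 1 % 3 = p ^ 2 % 3
        rw [Nat.pow_mod, show p % 3 = 2 by omega]
      obtain ⟨w, hw⟩ := exists_prime_orderOf_dvd_card' 3 hdvd3
      have hw3 : w ^ 3 = 1 := by rw [← hw]; exact pow_orderOf_eq_one w
      obtain ⟨hx, hd, hns, htr⟩ := diagThree_props hw3 (fun e => by simp [e] at hw)
      have hww : σ (w : F) * (w : F) = 1 := by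
        rw [hσ, ← pow_succ, hm, pow_mul, ← Units.val_pow_eq_pow_val, hw3, Units.val_one, one_pow]
      obtain ⟨g, hg, hz⟩ := use _ (diagThree_mem hσ hww) hd hx hns
      rcases hf.value hns hodd hz hg with ⟨-, e | e⟩ | ⟨e, -⟩
      · rw [htr] at e; exact hnz 2 two_pos (by omega) (mul_left_cancel₀ (hnz 3 three_pos (by omega))
          (by push_cast; linear_combination e))
      · rw [htr] at e; exact hnz 3 three_pos (by omega) (by push_cast; linear_combination e)
      · norm_num at e
    by_cases hr5 : r = 5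
    · subst r
      refine .inr ⟨rfl, ?_⟩
      by_contra hord
      by_cases hpe : p = 5
      · exact transv hpe hodd
      have h14 := (five_cases hp hord).resolve_left hpe
      have h5 : (5 : F) ≠ 0 := fun e => hpe ((Nat.prime_dvd_prime_iff_eq hp (by norm_num)).mp
        ((CharP.cast_eq_zero_iff F p 5).mp (by exact_mod_cast e)))
      obtain ⟨s, hs, s₀, hs₀⟩ := exists_golden_root (F := F) (p := p) (by omega) h14
      have hσs : σ s = s := by rw [hσ, ← hs₀, ← map_pow, ZMod.pow_card]
      obtain ⟨hh, rfl⟩ : ∃ hh, s = 2 * hh := ⟨s / 2, by field_simp⟩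
      have hσh : σ hh = hh := by
        rw [map_mul, map_ofNat] at hσs; exact mul_left_cancel₀ h2 hσs
      obtain ⟨bb, hbb⟩ := hc.exists_norm_eq (a := 1 - hh * hh) (by rw [map_sub, map_one, map_mul, hσh])
      have hb : bb ≠ 0 := by
        rintro rfl
        rw [zero_mul] at hbb
        have : (hh - 1) * (hh + 1) = 0 := by linear_combination hbb
        rcases mul_eq_zero.mp this with e | e
        · exact h5 (by linear_combination hs - (4 * hh + 6) * e)
        · exact one_ne_zero (α := F) (by linear_combination hs - (4 * hh - 2) * e)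
      have he : σ bb * bb + hh * hh = 1 := by rw [mul_comm, hbb]; ring
      obtain ⟨hm, hpow, hd, hns, htr⟩ := uRot_props hσ hc hσh he hs hb
      obtain ⟨g, hg, hz⟩ := use _ hm hd hpow hns
      rcases hf.value hns hodd hz hg with ⟨e, -⟩ | ⟨-, e⟩
      · norm_num at e
      · rw [htr] at e
        exact rot_value hs h5 e
    · exfalso
      obtain ⟨x, hxK, hxr⟩ := exists_orderOf_of_dvd_relIndex hΩ
      have hns := not_scalar_of_order (Fintype.card_fin 4) hr hr2 hxr (hSL.mpr hxK.2)
      obtain ⟨g, hg, hz⟩ := use x hxK.1 (hSL.mpr hxK.2) (by rw [← hxr]; exact pow_orderOf_eq_one x) hns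
      rcases hf.value hns hodd hz hg with ⟨e, -⟩ | ⟨e, -⟩ <;> omega
  · intro hcases x hxx ⟨z, hz⟩ hns
    obtain ⟨hxU, hxS⟩ := hxx
    have hz4 : z ^ 4 = 1 := det_scalar_eq_one (Fintype.card_fin 4) hz (by
      rw [Units.val_pow_eq_pow_val, Matrix.det_pow, hSL.mpr hxS, one_pow])
    have hz0 : z ≠ 0 := fun e => by rw [e, zero_pow (by norm_num)] at hz4; exact zero_ne_one hz4
    have hzn : σ z * z = 1 := scalar_norm (by norm_num) hσ (Subgroup.pow_mem _ hxU r) hz
    rw [Units.val_pow_eq_pow_val] at hz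
    -- multiples by scalars of norm one
    have hscal : ∀ {k : F}, σ k * k = 1 → ∀ g : GL (Fin 4) F, g ∈ Cfsg.GU 4 F p →
        ∃ g' ∈ Cfsg.GU 4 F p, (g' : Matrix (Fin 4) (Fin 4) F) = k • (g : Matrix (Fin 4) (Fin 4) F) ∧
          (g ∈ Geo.subgroupNormalizer R → g' ∈ Geo.subgroupNormalizer R) ∧
          ∀ h : GL (Fin 4) F, h⁻¹ * g' * h ∈ Geo.subgroupNormalizer R → h⁻¹ * g * h ∈ Geo.subgroupNormalizer R := by
      intro k hk g hg
      have hk0 : k ≠ 0 := fun e => by rw [e, mul_zero] at hk; exact zero_ne_one hk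
      set sc : GL (Fin 4) F := Units.map (Matrix.scalar (Fin 4) : F →+* Matrix (Fin 4) (Fin 4) F).toMonoidHom
        (Units.mk0 k hk0) with hscdef
      have hs : (sc : Matrix (Fin 4) (Fin 4) F) = k • 1 := CfsgLib.Classical.AschGen.scalar_unit _
      have hsN : sc ∈ Geo.subgroupNormalizer R := hf.scalar_mem_normalizer hs
      refine ⟨sc * g, Subgroup.mul_mem _ (scalar_mem_GU hσ hs hk) hg,
        by rw [Units.val_mul, hs, Matrix.smul_mul, one_mul], Subgroup.mul_mem _ hsN, fun h hh => ?_⟩
      have hcm : sc * h = h * sc := Units.ext (by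
        rw [Units.val_mul, Units.val_mul, hs, Matrix.smul_mul, Matrix.mul_smul, one_mul, mul_one])
      have e : h⁻¹ * g * h = sc⁻¹ * (h⁻¹ * (sc * g) * h) := by
        have hcm' : sc⁻¹ * h⁻¹ = h⁻¹ * sc⁻¹ := by rw [← _root_.mul_inv_rev, ← _root_.mul_inv_rev, hcm]
        rw [← mul_assoc, ← mul_assoc, hcm']
        simp [mul_assoc]
      rw [e]
      exact Subgroup.mul_mem _ (Subgroup.inv_mem _ hsN) hh
    have adj_k : ∀ {k : F}, σ k = k → ∀ {M : Matrix (Fin 4) (Fin 4) F}, adj σ (k • M) = k • adj σ M :=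
      fun hk M => by rw [adj_smul, hk]
    rcases hcases with rfl | ⟨rfl, hp31⟩ | ⟨rfl, hord⟩
    · rw [pow_two] at hz
      obtain ⟨k, hk⟩ : IsSquare z := by
        rw [FiniteField.isSquare_iff (by rw [ringChar.eq F p]; omega) hz0, hF]
        obtain ⟨m, hm⟩ : ∃ m, p = 4 * m + 3 := ⟨p / 4, by omega⟩
        rw [show p ^ 2 / 2 = 4 * (2 * m * m + 3 * m + 1) by
          subst hm; rw [show (4 * m + 3) ^ 2 = 8 * (2 * m * m + 3 * m + 1) + 1 by ring]; omega,
          pow_mul, hz4, one_pow]
      have hk0 : k ≠ 0 := fun e => hz0 (by rw [hk, e, mul_zero])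
      rcases mul_self_eq_one_iff.mp (show (σ k * k) * (σ k * k) = 1 by
        rw [← hzn, hk, map_mul]; ring) with hkk | hkk
      · -- involution
        have hki : σ k⁻¹ * k⁻¹ = 1 := by rw [map_inv₀, ← mul_inv, hkk, inv_one]
        obtain ⟨x', hx'U, hx'v, -, hx'N⟩ := hscal hki x hxU
        have hx'2 : (x' : Matrix (Fin 4) (Fin 4) F) * x' = 1 := by
          rw [hx'v, Matrix.smul_mul, Matrix.mul_smul, hz, smul_smul, smul_smul, hk,
            show k⁻¹ * k⁻¹ * (k * k) = 1 by field_simp, one_smul]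
        have hx'ns : ∀ v : F, (x' : Matrix (Fin 4) (Fin 4) F) ≠ v • 1 := fun v e => hns (k * v) (by
          rw [← smul_smul, ← e, hx'v, smul_smul, mul_inv_cancel₀ hk0, one_smul])
        obtain ⟨m, hm1, hm3, htr, P, hP, hPG⟩ := involution_normal hσ hc h2 hx'U hx'ns hx'2
        have key : ∀ y : GL (Fin 4) F, y ∈ Cfsg.GU 4 F p → y ∈ Geo.subgroupNormalizer R →
            (y : Matrix (Fin 4) (Fin 4) F) * y = 1 → (∀ v : F, (y : Matrix (Fin 4) (Fin 4) F) ≠ v • 1) →
            (y : Matrix (Fin 4) (Fin 4) F).trace = 2 * (m : F) - 4 →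
            ∃ g ∈ Cfsg.GU 4 F p ⊓ Geo.specialLinear (Fin 4) F, g⁻¹ * x * g ∈ Geo.subgroupNormalizer R := by
          intro y hyU hyN hyy hyns hyt
          obtain ⟨n, hn1, hn3, hnt, Q, hQ, hQG⟩ := involution_normal hσ hc h2 hyU hyns hyy
          have hmn : m = n := by
            have e : ((m : ℕ) : F) = ((n : ℕ) : F) :=
              mul_left_cancel₀ h2 (by linear_combination hnt - hyt)
            rw [CharP.natCast_eq_natCast F p] at e
            rcases Nat.lt_trichotomy m n with hlt | e' | hlt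
            · exact absurd (Nat.le_of_dvd (by omega) ((Nat.modEq_iff_dvd' hlt.le).mp e)) (by omega)
            · exact e'
            · exact absurd (Nat.le_of_dvd (by omega) ((Nat.modEq_iff_dvd' hlt.le).mp e.symm)) (by omega)
          subst hmn
          obtain ⟨g, hg, hgx⟩ := diag_conj hσ hP hQ (hPG.trans hQG.symm) (fun d hd => by
            rw [hPG]; exact diag_gram_one hd)
          exact ⟨g, hg, hx'N g (hgx ▸ hyN)⟩
        obtain ⟨ya, hya, hyae⟩ := hf.ma
        have hac : adj σ a = a := by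
          simpa using adj_of_mem hσ hRU hf.ma (e := 1) (one_mul 1) (by rw [hf.aa, one_smul])
        have hcc : adj σ c = -c := by
          simpa using adj_of_mem hσ hRU hf.mc (e := -1) (by ring) (by rw [hf.cc, neg_one_smul])
        set G := reflGL h2 hf.aa (hf.ic_sq hi) (hf.aic hi) with hGdef
        have hGU : G ∈ Cfsg.GU 4 F p := by
          rw [mem_GU_iff_adj hσ]
          show adj σ (refl2 a (i • c)) * refl2 a (i • c) = 1
          have hh2 : σ (2 : F)⁻¹ = (2 : F)⁻¹ := by rw [map_inv₀, map_ofNat]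
          have e : adj σ (refl2 a (i • c)) = refl2 a (i • c) := by
            rw [refl2, adj_k hh2, adj_sub, adj_add, adj_add, adj_mul, adj_one, hac, adj_smul, hσi, hcc, neg_smul,
              smul_neg, neg_neg, hf.aic hi]
          rw [e, refl2_sq h2 hf.aa (hf.ic_sq hi) (hf.aic hi)]
        have hGns : ∀ v : F, (G : Matrix (Fin 4) (Fin 4) F) ≠ v • 1 := fun v e => by
          change refl2 a (i • c) = v • 1 at e
          have eb : b * (i • c) = (i • c) * b := by rw [Matrix.smul_mul, Matrix.mul_smul, hf.bc]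
          have e1 := refl2_mul_anti h2 hf.aa (hf.ic_sq hi) (hf.aic hi) hf.ab eb
          rw [e, Matrix.smul_mul, one_mul, Matrix.mul_smul, mul_one] at e1
          have hv : v ≠ 0 := fun e0 => by
            have := refl2_sq h2 hf.aa (hf.ic_sq hi) (hf.aic hi)
            rw [e, e0, zero_smul, zero_mul] at this
            exact zero_ne_one this
          have e2 : prodOf a b c d ((0, 1), 0, 0) = i • prodOf a b c d ((0, 1), 1, 0) := by
            have e3 := smul_right_injective _ hv e1
            simp only [prodOf, pairProd, if_true, one_ne_zero, if_false, one_mul, mul_one]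
            rw [← Matrix.mul_smul]; exact e3
          exact absurd (hf.toFrame.label_eq e2) (show (((0, 1), 0, 0) : Lab) ≠ ((0, 1), 1, 0) from
            fun e0 => absurd (congrArg (fun v : Lab => v.2.1) e0) zero_ne_one)
        obtain ⟨G', hG'U, hG'v, hG'N, -⟩ := hscal (k := (-1 : F)) (by simp) G hGU
        have hGG : (G : Matrix (Fin 4) (Fin 4) F) * G = 1 := refl2_sq h2 hf.aa (hf.ic_sq hi) (hf.aic hi)
        have hm' : m = 1 ∨ m = 2 ∨ m = 3 := by omega
        rcases hm' with rfl | rfl | rfl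
        · refine key G' hG'U (hG'N (hf.refl_mem hi him)) (by rw [hG'v, neg_one_smul, neg_mul_neg, hGG])
            (fun v e => hGns (-v) (by rw [neg_smul, ← e, hG'v, neg_one_smul, neg_neg])) ?_
          rw [hG'v, Matrix.trace_smul, show (G : Matrix (Fin 4) (Fin 4) F).trace = 2 from trace_refl hf]
          norm_num
        · refine key ya (hRU hya) (Subgroup.le_normalizer hya) ?_ (fun v e => ?_) ?_
          · rw [show (ya : Matrix (Fin 4) (Fin 4) F) = a from hyae, hf.aa]
          · have e' : prodOf a b c d ((1, 0), 0, 0) = v • prodOf a b c d 0 := by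
              rw [(prodOf_gens a b c d).1, hf.toFrame.prodOf_zero, ← e]; exact hyae.symm
            exact absurd (hf.toFrame.label_eq e') (show (((1, 0), 0, 0) : Lab) ≠ 0 from
              fun e0 => absurd (congrArg (fun v : Lab => v.1.1) e0) one_ne_zero)
          · rw [show (ya : Matrix (Fin 4) (Fin 4) F) = a from hyae, trace_a hf]; norm_num
        · exact key G hGU (hf.refl_mem hi him) hGG hGns (by
            rw [show (G : Matrix (Fin 4) (Fin 4) F).trace = 2 from trace_refl hf]; norm_num)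
      · -- two totally isotropic eigenspaces
        have hzi : z = i ∨ z = -i := by
          have e : (z * z - 1) * ((z - i) * (z + i)) = 0 := by linear_combination hz4 - (z * z - 1) * hi
          rcases mul_eq_zero.mp e with e | e
          · exfalso
            have e' : (z - 1) * (z + 1) = 0 := by linear_combination e
            have hk1 : σ k * k = 1 := by
              rcases mul_eq_zero.mp e' with e' | e'
              · rcases mul_self_eq_one_iff.mp (show k * k = 1 by rw [← hk]; exact sub_eq_zero.mp e') with rfl | rfl <;>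
                  simp
              · have hki : (k - i) * (k + i) = 0 := by linear_combination e' - hk - hi
                rcases mul_eq_zero.mp hki with h | h
                · rw [sub_eq_zero.mp h, hσi, neg_mul, hi, neg_neg]
                · rw [eq_neg_of_add_eq_zero_left h, map_neg, hσi, neg_neg, mul_neg, hi, neg_neg]
            exact h2 (by linear_combination hkk - hk1)
          · rcases mul_eq_zero.mp e with e | e
            · exact .inl (sub_eq_zero.mp e)
            · exact .inr (eq_neg_of_add_eq_zero_left e)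
        have hi1 : (1 : F) + i ≠ 0 := fun e => h2 (by linear_combination (1 - i) * e + hi)
        have hi1' : (1 : F) - i ≠ 0 := fun e => h2 (by linear_combination (1 + i) * e + hi)
        obtain ⟨l, hl, hln⟩ : ∃ l : F, l * l * 2 = z ∧ σ l * l * 2 = 1 := by
          rcases hzi with rfl | rfl
          · refine ⟨z / (1 + z), ?_, ?_⟩
            · field_simp; linear_combination -hi
            · rw [map_div₀, map_add, map_one, hσi, ← sub_eq_add_neg]; field_simp; linear_combination -hi
          · refine ⟨1 / (1 + i), ?_, ?_⟩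
            · field_simp; linear_combination (2 + i) * hi
            · rw [map_div₀, map_add, map_one, hσi, ← sub_eq_add_neg]; field_simp; linear_combination hi
        obtain ⟨hss, -, -, -, -⟩ := hf.sum_mul
        have hl0 : l ≠ 0 := fun e => hz0 (by rw [← hl, e, zero_mul, zero_mul])
        let y : GL (Fin 4) F :=
          ⟨l • (a + b), (l⁻¹ * 2⁻¹) • (a + b),
            by rw [Matrix.smul_mul, Matrix.mul_smul, hss, smul_smul, smul_smul,
                show l * (l⁻¹ * 2⁻¹) * 2 = 1 by field_simp, one_smul],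
            by rw [Matrix.smul_mul, Matrix.mul_smul, hss, smul_smul, smul_smul,
                show l⁻¹ * 2⁻¹ * l * 2 = 1 by field_simp, one_smul]⟩
        have hyU : y ∈ Cfsg.GU 4 F p := by
          rw [mem_GU_iff_adj hσ]
          show adj σ (l • (a + b)) * l • (a + b) = 1
          have ea : adj σ a = a := by
            simpa using adj_of_mem hσ hRU hf.ma (e := 1) (one_mul 1) (by rw [hf.aa, one_smul])
          have eb : adj σ b = b := by
            simpa using adj_of_mem hσ hRU hf.mb (e := 1) (one_mul 1) (by rw [hf.bb, one_smul])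
          rw [adj_smul, adj_add, ea, eb, Matrix.smul_mul, Matrix.mul_smul, hss, smul_smul, smul_smul, hln, one_smul]
        have hy2 : (y : Matrix (Fin 4) (Fin 4) F) * y = z • 1 := by
          show l • (a + b) * l • (a + b) = _
          rw [Matrix.smul_mul, Matrix.mul_smul, hss, smul_smul, smul_smul, hl]
        have nf : ∀ w : GL (Fin 4) F, w ∈ Cfsg.GU 4 F p → (w : Matrix (Fin 4) (Fin 4) F) * w = z • 1 →
            ∃ P : GL (Fin 4) F, (w : Matrix (Fin 4) (Fin 4) F) * (P : Matrix (Fin 4) (Fin 4) F) =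
                (P : Matrix (Fin 4) (Fin 4) F) * diagonal ![k, k, -k, -k] ∧
              adj σ (P : Matrix (Fin 4) (Fin 4) F) * (P : Matrix (Fin 4) (Fin 4) F) =
                !![0, 0, 1, 0; 0, 0, 0, 1; 1, 0, 0, 0; 0, 1, 0, 0] := fun w hw hww => by
          refine isotropic_normal hσ hc hw (fun e => hk0 ?_) ?_ ?_ fun v => ?_
          · exact (mul_eq_zero.mp (show (2 : F) * k = 0 by linear_combination e)).resolve_left h2
          · rw [hkk]; exact fun e => h2 (by linear_combination -e)
          · rw [map_neg, neg_mul_neg, hkk]; exact fun e => h2 (by linear_combination -e)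
          · rw [Matrix.mulVec_mulVec, hww, hk, Matrix.smul_mulVec, Matrix.one_mulVec, add_neg_cancel, zero_smul,
              zero_sub, ← neg_smul]
            congr 1; ring
        obtain ⟨P, hP, hPG⟩ := nf x hxU hz
        obtain ⟨Q, hQ, hQG⟩ := nf y hyU hy2
        obtain ⟨g, hg, hgx⟩ := diag_conj hσ hP hQ (hPG.trans hQG.symm) (fun d hd => by
          rw [hPG]; exact diag_gram_pair hc hd)
        exact ⟨g, hg, hgx ▸ hf.sum_mem (y := y) rfl⟩
    · have h3 : (3 : F) ≠ 0 := by
        have : 3 < p := by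
          rcases eq_or_lt_of_le hp3 with e | e
          · omega
          · exact e
        exact_mod_cast hnz 3 three_pos this
      have hdvd3 : 3 ∣ Nat.card Fˣ := by
        rw [Nat.card_eq_fintype_card, Fintype.card_units, hF, ← Nat.modEq_iff_dvd' hp2]
        show 1 % 3 = p ^ 2 % 3
        rw [Nat.pow_mod, hp31]
      obtain ⟨w, hw⟩ := exists_prime_orderOf_dvd_card' 3 hdvd3
      set ω : F := (w : F) with hωdef
      have hw3 : ω ^ 3 = 1 := by
        rw [hωdef, ← Units.val_pow_eq_pow_val, show w ^ 3 = 1 by rw [← hw]; exact pow_orderOf_eq_one w, Units.val_one]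
      have hw1 : ω ≠ 1 := fun e => by
        rw [show w = 1 from Units.ext e, orderOf_one] at hw; norm_num at hw
      have hωq : ω * ω + ω + 1 = 0 := by
        refine (mul_eq_zero.mp (?_ : (ω - 1) * (ω * ω + ω + 1) = 0)).resolve_left (sub_ne_zero.mpr hw1)
        linear_combination hw3
      have hσω : σ ω = ω := by
        obtain ⟨m, hm⟩ : ∃ m, p = 3 * m + 1 := ⟨p / 3, by omega⟩
        rw [hσ, hm, pow_succ, pow_mul, hw3, one_pow, one_mul]
      obtain ⟨x', hx'U, hx'v, -, hx'N⟩ := hscal hzn x hxU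
      set X' := (x' : Matrix (Fin 4) (Fin 4) F) with hX'
      have hcube : X' * X' * X' = 1 := by
        rw [hx'v, ← pow_three', smul_pow, hz, smul_smul, ← pow_succ, hz4, one_smul]
      have hx'1 : X' ≠ 1 := fun e => hns z⁻¹ (by
        rw [← e, hx'v, smul_smul, inv_mul_cancel₀ hz0, one_smul])
      have hts := tri_pair_props hf hi h3
      have htU : triGL h2 hf.cc hf.dd hf.cd ∈ Cfsg.GU 4 F p := tri_mem_GU hσ hRU hf.mc hf.md _ _ _ _
      have hsU : triGL h2 (hf.ia_sq hi) (hf.ib_sq hi) (hf.iab hi) ∈ Cfsg.GU 4 F p :=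
        tri_mem_GU hσ hRU (hf.smul_mem hi him hf.ma) (hf.smul_mem hi him hf.mb) _ _ _ _
      by_cases hq : X' * X' + X' + 1 = 0
      · have nf : ∀ w : GL (Fin 4) F, w ∈ Cfsg.GU 4 F p →
            (w : Matrix (Fin 4) (Fin 4) F) * w + w + 1 = 0 →
            ∃ P : GL (Fin 4) F, (w : Matrix (Fin 4) (Fin 4) F) * (P : Matrix (Fin 4) (Fin 4) F) =
                (P : Matrix (Fin 4) (Fin 4) F) * diagonal ![ω, ω, ω * ω, ω * ω] ∧
              adj σ (P : Matrix (Fin 4) (Fin 4) F) * (P : Matrix (Fin 4) (Fin 4) F) =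
                !![0, 0, 1, 0; 0, 0, 0, 1; 1, 0, 0, 0; 0, 1, 0, 0] := fun u hu huq => by
          refine isotropic_normal hσ hc hu (fun e => hw1 ?_) ?_ ?_ fun v => ?_
          · have : ω * (ω - 1) = 0 := by linear_combination -e
            exact sub_eq_zero.mp ((mul_eq_zero.mp this).resolve_left w.ne_zero)
          · rw [hσω]; exact fun e => hw1 (by linear_combination hw3 - ω * e)
          · rw [map_mul, hσω]; exact fun e => hw1 (by linear_combination e - ω * hw3)
          · rw [show ω + ω * ω = -1 by linear_combination hωq, show ω * (ω * ω) = 1 by linear_combination hw3,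
              neg_one_smul, one_smul, ← sub_eq_zero]
            have := congrArg (· *ᵥ v) huq
            simp only [Matrix.add_mulVec, ← Matrix.mulVec_mulVec, Matrix.one_mulVec, Matrix.zero_mulVec] at this
            rw [← this]; abel
        obtain ⟨P, hP, hPG⟩ := nf x' hx'U hq
        obtain ⟨Q, hQ, hQG⟩ := nf _ htU (tri_quad h2 hf.cc hf.dd hf.cd)
        obtain ⟨g, hg, hgx⟩ := diag_conj hσ hP hQ (hPG.trans hQG.symm) (fun d hd => by
          rw [hPG]; exact diag_gram_pair hc hd)
        exact ⟨g, hg, hx'N g (hgx ▸ hf.tri_mem)⟩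
      · obtain ⟨P, hP, hPG⟩ := three_normal hσ hc h3 hωq hσω hx'U hcube hx'1 hq
        obtain ⟨Q, hQ, hQG⟩ := three_normal hσ hc h3 hωq hσω
          (Subgroup.mul_mem _ htU hsU) hts.1 hts.2.1 hts.2.2
        obtain ⟨g, hg, hgx⟩ := diag_conj hσ hP hQ (hPG.trans hQG.symm) (fun d hd => by
          rw [hPG]; exact diag_gram_mixed hd)
        exact ⟨g, hg, hx'N g (hgx ▸ Subgroup.mul_mem _ hf.tri_mem (hf.tri'_mem hi him))⟩
    · have h54 : p ^ 2 % 5 = 4 := by
        have h23 : p % 5 = 2 ∨ p % 5 = 3 := by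
          have h5 : p % 5 < 5 := Nat.mod_lt _ (by norm_num)
          have key : ∀ v : ℕ, p % 5 = v → orderOf (v : ZMod 5) = 4 := fun v e => by
            rw [← e, ZMod.natCast_mod]; exact hord
          have h0 : p % 5 ≠ 0 := fun e => by
            have := key 0 e
            rw [orderOf_eq_iff (by norm_num)] at this
            simp at this
          have h1 : p % 5 ≠ 1 := fun e => by
            have := key 1 e
            rw [Nat.cast_one, orderOf_one] at this
            omega
          have h4 : p % 5 ≠ 4 := fun e => by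
            have := key 4 e
            have h2' := orderOf_dvd_of_pow_eq_one (show ((4 : ℕ) : ZMod 5) ^ 2 = 1 from rfl)
            rw [this] at h2'
            norm_num at h2'
          omega
        rcases h23 with e | e <;> simp [Nat.pow_mod, e]
      have h5 : (5 : F) ≠ 0 := fun e => by
        have hpe := (Nat.prime_dvd_prime_iff_eq hp (by norm_num)).mp
          ((CharP.cast_eq_zero_iff F p 5).mp (by exact_mod_cast e))
        subst hpe
        norm_num at h54
      obtain ⟨q, hq⟩ := hsqfix 5 (by rw [map_ofNat])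
      set s : F := (q - 1) / 2 with hsdef
      have hs : s * s + s - 1 = 0 := by
        rw [hsdef]; field_simp; linear_combination -hq
      set s' : F := -1 - s with hs'def
      have hprod : s * s' = -1 := by rw [hs'def]; linear_combination -hs
      have hsum : s + s' = -1 := by rw [hs'def]; ring
      -- the quadratics have no roots
      have noroot : ∀ u : F, u * u + u - 1 = 0 → ∀ t : F, t * t ≠ u * t + (-1) := by
        intro u hu t ht
        have ht5 : t ^ 5 = 1 := by
          have h4 : t ^ 4 + t ^ 3 + t ^ 2 + t + 1 = 0 := by grind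
          linear_combination (t - 1) * h4
        have ht0 : t ≠ 0 := fun e => by rw [e] at ht5; simp at ht5
        have htc := FiniteField.pow_card_sub_one_eq_one t ht0
        obtain ⟨m, hm⟩ : ∃ m, Fintype.card F - 1 = 5 * m + 3 := ⟨(p ^ 2 - 4) / 5, by rw [hF]; omega⟩
        rw [hm, pow_add, pow_mul, ht5, one_pow, one_mul] at htc
        have ht1 : t = 1 := by grind
        rw [ht1] at ht
        exact h5 (by grind)
      have hs2 : s' * s' + s' - 1 = 0 := by rw [hs'def]; linear_combination hs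
      have hns1 := noroot s hs
      have hns2 := noroot s' hs2
      have hne : σ s ≠ s := fun e => by
        obtain ⟨t, ht⟩ := hsqfix (s * s - 4) (by rw [map_sub, map_mul, e, map_ofNat])
        exact hns1 ((s + t) / 2) (by field_simp; linear_combination -ht)
      have hσs : σ s = s' := by
        have e := congrArg σ hs
        rw [map_sub, map_add, map_mul, map_one, map_zero] at e
        have : (σ s - s) * (σ s - s') = 0 := by rw [hs'def]; linear_combination e - hs
        exact sub_eq_zero.mp ((mul_eq_zero.mp this).resolve_left (sub_ne_zero.mpr hne))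
      have hσs' : σ s' = s := by rw [← hσs, hc.invol]
      have hss : s ≠ s' := fun e => hne (by rw [hσs, ← e])
      obtain ⟨Y, hYN, hYdef, hYns, w, hw⟩ := hf.exists_five
      have htU : triGL hf.two hf.cc hf.dd hf.cd ∈ Cfsg.GU 4 F p := tri_mem_GU hσ hRU hf.mc hf.md _ _ _ _
      have huU : triGL hf.two hf.ca_sq hf.cb_sq hf.cab ∈ Cfsg.GU 4 F p :=
        tri_mem_GU hσ hRU (mem_mul hf.mc hf.ma) (mem_mul hf.mc hf.mb) _ _ _ _
      have hYU : Y ∈ Cfsg.GU 4 F p := hYdef ▸ Subgroup.pow_mem _ (Subgroup.mul_mem _ htU huU) 6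
      have hdY : (Y : Matrix (Fin 4) (Fin 4) F).det = 1 := by
        have hd3 : ∀ {q r : Matrix (Fin 4) (Fin 4) F} (hq : q * q = -1) (hr : r * r = -1) (hqr : r * q = -(q * r)),
            (tri q r).det ^ 3 = 1 := fun {q r} hq hr hqr => by
          rw [pow_three', ← Matrix.det_mul, ← Matrix.det_mul, tri_cube hf.two hq hr hqr, Matrix.det_one]
        rw [hYdef, Units.val_pow_eq_pow_val, Matrix.det_pow, Units.val_mul, Matrix.det_mul, show 6 = 3 * 2 from rfl,
          pow_mul, mul_pow]
        show ((tri c d).det ^ 3 * (tri (c * a) (c * b)).det ^ 3) ^ 2 = 1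
        rw [hd3 hf.cc hf.dd hf.cd, hd3 hf.ca_sq hf.cb_sq hf.cab, one_mul, one_pow]
      have hw4 : w ^ 4 = 1 := det_scalar_eq_one (Fintype.card_fin 4) hw (by
        rw [Units.val_pow_eq_pow_val, Matrix.det_pow, hdY, one_pow])
      have hwn : σ w * w = 1 := scalar_norm (by norm_num) hσ (Subgroup.pow_mem _ hYU 5) hw
      have hn3 : ∀ {v : F}, σ v * v = 1 → σ (v ^ 3) * v ^ 3 = 1 := fun hv => by
        rw [map_pow, ← mul_pow, hv, one_pow]
      obtain ⟨x', hx'U, hx'v, -, hx'N⟩ := hscal (hn3 hzn) x hxU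
      obtain ⟨y', hy'U, hy'v, hy'N, -⟩ := hscal (hn3 hwn) Y hYU
      have five : ∀ {g g' : GL (Fin 4) F} {v : F}, v ^ 4 = 1 →
          (g : Matrix (Fin 4) (Fin 4) F) ^ 5 = v • 1 → (∀ u : F, (g : Matrix (Fin 4) (Fin 4) F) ≠ u • 1) →
          (g' : Matrix (Fin 4) (Fin 4) F) = v ^ 3 • (g : Matrix (Fin 4) (Fin 4) F) → g' ^ 5 = 1 ∧ g' ≠ 1 := by
        intro g g' v hv hg hgn hg'
        refine ⟨Units.ext ?_, fun e => hgn (v ^ 3)⁻¹ ?_⟩
        · rw [Units.val_pow_eq_pow_val, hg', smul_pow, hg, smul_smul, ← pow_mul, ← pow_succ,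
            show 3 * 5 + 1 = 4 * 4 from rfl, pow_mul, hv, one_pow, one_smul, Units.val_one]
        · have hv0 : v ^ 3 ≠ 0 := pow_ne_zero _ (fun e0 => by rw [e0, zero_pow (by norm_num)] at hv; exact zero_ne_one hv)
          have e' : (1 : Matrix (Fin 4) (Fin 4) F) = v ^ 3 • (g : Matrix (Fin 4) (Fin 4) F) := by
            rw [← hg', e, Units.val_one]
          rw [e', smul_smul, inv_mul_cancel₀ hv0, one_smul]
      obtain ⟨hx5, hx1⟩ := five hz4 hz hns hx'v
      obtain ⟨hy5, hy1⟩ := five hw4 (by rw [← Units.val_pow_eq_pow_val]; exact hw) hYns hy'v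
      obtain ⟨g, hg, hgx⟩ :=
        five_conj hσ hc hsum hprod hσs hσs' hss h2 hns1 hns2 hx'U hy'U hx5 hx1 hy5 hy1
      exact ⟨g, hg, hx'N g (hgx ▸ hy'N hYN)⟩

end Cfsg.Agent.S6001
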